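import Mathlib
import Cfsg.Prelude.Def_GeometricClasses

/-!
# S5630 project, tool U1: Burnside's theorem (helper3)

An absolutely irreducible group of matrices spans the full matrix algebra (over any field): Jacobson density
for the simple module `K^d` over the algebra generated by the group, whose endomorphisms are the scalars.
-/

set_option autoImplicit false

namespace Cfsg.Agent.Lib.H3.Asch

open Cfsg Cfsg.Geo
open scoped MatrixGroups Matrix

section

variable {K : Type*} [Field K] {d : ℕ} (G : Subgroup (GL (Fin d) K))

/-- The algebra of endomorphisms generated by the group. -/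
noncomputable def envAlg : Subalgebra K (Module.End K (Fin d → K)) :=
  Algebra.adjoin K ((fun s => Matrix.toLin' s) '' matrixSet G)

theorem toLin'_mem_envAlg {s : Matrix (Fin d) (Fin d) K} (hs : s ∈ matrixSet G) :
    Matrix.toLin' s ∈ envAlg G :=
  Algebra.subset_adjoin ⟨s, hs, rfl⟩

theorem envAlg_smul_def (a : envAlg G) (v : Fin d → K) :
    a • v = (a : Module.End K (Fin d → K)) v := rfl

/-- A module endomorphism over the enveloping algebra is `K`-linear. -/
noncomputable def endToLin (φ : Module.End (envAlg G) (Fin d → K)) :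
    (Fin d → K) →ₗ[K] (Fin d → K) where
  toFun := φ
  map_add' := φ.map_add
  map_smul' := by
    intro c v
    have h1 : c • v = (algebraMap K (envAlg G) c) • v := by
      rw [envAlg_smul_def]
      simp [Module.algebraMap_end_apply]
    have h2 : c • φ v = (algebraMap K (envAlg G) c) • φ v := by
      rw [envAlg_smul_def]
      simp [Module.algebraMap_end_apply]
    rw [RingHom.id_apply, h1, φ.map_smul, ← h2]

theorem endToLin_apply (φ : Module.End (envAlg G) (Fin d → K)) (v : Fin d → K) :
    endToLin G φ v = φ v := rfl

/-- Module endomorphisms over the enveloping algebra are scalars. -/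
theorem end_eq_smul (h : ActsAbsolutelyIrreducibly (matrixSet G))
    (φ : Module.End (envAlg G) (Fin d → K)) : ∃ c : K, ∀ v, φ v = c • v := by
  obtain ⟨c, hc⟩ := h.2 (LinearMap.toMatrix' (endToLin G φ)) (by
    intro s hs
    have h1 : endToLin G φ ∘ₗ Matrix.toLin' s = Matrix.toLin' s ∘ₗ endToLin G φ := by
      apply LinearMap.ext
      intro v
      rw [LinearMap.comp_apply, LinearMap.comp_apply, endToLin_apply, endToLin_apply]
      have := φ.map_smul (⟨Matrix.toLin' s, toLin'_mem_envAlg G hs⟩ : envAlg G) v
      exact this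
    have h2 := congrArg LinearMap.toMatrix' h1
    rw [LinearMap.toMatrix'_comp, LinearMap.toMatrix'_comp, LinearMap.toMatrix'_toLin'] at h2
    exact h2)
  refine ⟨c, fun v => ?_⟩
  have h1 : endToLin G φ = Matrix.toLin' (c • (1 : Matrix (Fin d) (Fin d) K)) := by
    rw [← hc, Matrix.toLin'_toMatrix']
  rw [← endToLin_apply, h1, Matrix.toLin'_apply, Matrix.smul_mulVec, Matrix.one_mulVec]

/-- The module is simple over the enveloping algebra. -/
theorem isSimpleModule_envAlg (hd : 0 < d) (h : ActsIrreducibly (matrixSet G)) :
    IsSimpleModule (envAlg G) (Fin d → K) := by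
  haveI : Nonempty (Fin d) := ⟨⟨0, hd⟩⟩
  haveI : Nontrivial (Fin d → K) := inferInstance
  haveI : Nontrivial (Submodule (envAlg G) (Fin d → K)) :=
    (Submodule.nontrivial_iff (envAlg G)).2 inferInstance
  rw [isSimpleModule_iff]
  refine ⟨fun W' => ?_⟩
  -- the underlying `K`-subspace
  let W : Submodule K (Fin d → K) :=
    { carrier := W'
      add_mem' := W'.add_mem
      zero_mem' := W'.zero_mem
      smul_mem' := by
        intro c v hv
        have h1 : c • v = (algebraMap K (envAlg G) c) • v := by
          rw [envAlg_smul_def]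
          simp [Module.algebraMap_end_apply]
        rw [h1]
        exact W'.smul_mem _ hv }
  have hW : ∀ v, v ∈ W ↔ v ∈ W' := fun _ => Iff.rfl
  have hinv : ∀ s ∈ matrixSet G, W.map (Matrix.toLin' s) ≤ W := by
    rintro s hs _ ⟨w, hw, rfl⟩
    rw [hW]
    have := W'.smul_mem (⟨Matrix.toLin' s, toLin'_mem_envAlg G hs⟩ : envAlg G) ((hW w).1 hw)
    exact this
  rcases h W hinv with h0 | h1
  · left
    rw [eq_bot_iff]
    intro v hv
    have : v ∈ W := (hW v).2 hv
    rw [h0, Submodule.mem_bot] at this
    rw [this]
    exact Submodule.zero_mem _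
  · right
    rw [eq_top_iff]
    intro v _
    rw [← hW, h1]
    trivial

/-- Every endomorphism lies in the enveloping algebra. -/
theorem envAlg_eq_top (hd : 0 < d) (h : ActsAbsolutelyIrreducibly (matrixSet G)) : envAlg G = ⊤ := by
  classical
  haveI := isSimpleModule_envAlg G hd h.1
  rw [eq_top_iff]
  intro g _
  -- `g` as an endomorphism over the endomorphism ring
  let f : Module.End (Module.End (envAlg G) (Fin d → K)) (Fin d → K) :=
    { toFun := g
      map_add' := g.map_add
      map_smul' := by
        intro φ v
        obtain ⟨c, hc⟩ := end_eq_smul G h φ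
        rw [RingHom.id_apply, Module.End.smul_def, Module.End.smul_def, hc, hc, g.map_smul] }
  obtain ⟨r, hr⟩ := jacobson_density (R := envAlg G) (M := Fin d → K) f
    (Finset.univ.image (fun i : Fin d => (Pi.single i (1 : K) : Fin d → K)))
  have hg : g = (r : Module.End K (Fin d → K)) := by
    apply LinearMap.pi_ext'
    intro i
    apply LinearMap.ext_ring
    rw [LinearMap.comp_apply, LinearMap.comp_apply, LinearMap.single_apply]
    have := hr (Pi.single i 1) (Finset.mem_image.2 ⟨i, Finset.mem_univ _, rfl⟩)
    exact this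
  rw [hg]
  exact r.2

end

/-- **U1** (Burnside). Any field. -/
theorem span_eq_top_of_absIrr {K : Type*} [Field K] {d : ℕ} (G : Subgroup (GL (Fin d) K))
    (h : ActsAbsolutelyIrreducibly (matrixSet G)) :
    Submodule.span K (matrixSet G) = ⊤ := by
  rcases Nat.eq_zero_or_pos d with hd | hd
  · subst hd
    rw [eq_top_iff]
    intro x _
    have : x = 0 := Subsingleton.elim _ _
    rw [this]
    exact Submodule.zero_mem _
  rw [eq_top_iff]
  intro X _
  have h1 : Matrix.toLin' X ∈ envAlg G := by rw [envAlg_eq_top G hd h]; trivial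
  -- the enveloping algebra is the span of the image of the group
  have h2 : (Submonoid.closure ((fun s => Matrix.toLin' s) '' matrixSet G) :
      Set (Module.End K (Fin d → K))) = (fun s => Matrix.toLin' s) '' matrixSet G := by
    apply le_antisymm
    · intro x hx
      induction hx using Submonoid.closure_induction with
      | mem x hx => exact hx
      | one => exact ⟨1, ⟨1, G.one_mem, rfl⟩, by simp; rfl⟩
      | mul x y _ _ hx hy =>
        obtain ⟨s, ⟨a, ha, rfl⟩, rfl⟩ := hx
        obtain ⟨t, ⟨b, hb, rfl⟩, rfl⟩ := hy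
        refine ⟨_, ⟨a * b, G.mul_mem ha hb, rfl⟩, ?_⟩
        show Matrix.toLin' ((a * b : GL (Fin d) K) : Matrix (Fin d) (Fin d) K) = _
        rw [Units.val_mul, Matrix.toLin'_mul]
        rfl
    · exact Submonoid.subset_closure
  have h3 : Matrix.toLin' X ∈ Submodule.span K ((fun s => Matrix.toLin' s) '' matrixSet G) := by
    have := Algebra.adjoin_eq_span K ((fun s => Matrix.toLin' s) '' matrixSet G)
    rw [h2] at this
    rw [← this]
    exact h1
  have h5 : Matrix.toLin' X ∈ (Submodule.span K (matrixSet G)).map
      ((Matrix.toLin' : Matrix (Fin d) (Fin d) K ≃ₗ[K] _) : Matrix (Fin d) (Fin d) K →ₗ[K] _) := by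
    rw [Submodule.map_span]
    exact h3
  obtain ⟨Y, hY, hYX⟩ := h5
  have : Y = X := (Matrix.toLin' : Matrix (Fin d) (Fin d) K ≃ₗ[K] _).injective hYX
  rw [← this]
  exact hY

end Cfsg.Agent.Lib.H3.Asch
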