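import Mathlib
import Cfsg.Prelude.Def_GeometricClasses
import Cfsg.Agent.Lib.Lead.AschDefs

/-!
# S5630 project, M7-B1: a group of class 2 modulo scalars spanning the matrix algebra has index `n²` over its
scalars (helper3)
-/

set_option autoImplicit false

namespace Cfsg.Agent.Lib.H3.Asch

open Cfsg Cfsg.Geo Cfsg.Agent.Lib.Lead.Asch
open scoped MatrixGroups Matrix

section

variable {K : Type*} [Field K] {n : ℕ}

/-- Scalars are central. -/
theorem scalar_comm' {z : GL (Fin n) K} (hz : z ∈ scalars (Fin n) K) (g : GL (Fin n) K) :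
    z * g = g * z := by
  obtain ⟨c, hc⟩ := (mem_scalars_iff z).1 hz
  apply Units.ext
  rw [Units.val_mul, Units.val_mul, hc, Matrix.smul_mul, Matrix.mul_smul, one_mul, mul_one]

/-- The value of a scalar matrix. -/
def sv (i0 : Fin n) (z : GL (Fin n) K) : K := (z : Matrix (Fin n) (Fin n) K) i0 i0

theorem sv_spec (i0 : Fin n) {z : GL (Fin n) K} (hz : z ∈ scalars (Fin n) K) :
    (z : Matrix (Fin n) (Fin n) K) = sv i0 z • (1 : Matrix (Fin n) (Fin n) K) := by
  obtain ⟨c, hc⟩ := (mem_scalars_iff z).1 hz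
  have : sv i0 z = c := by
    unfold sv
    rw [hc, Matrix.smul_apply, Matrix.one_apply_eq, smul_eq_mul, mul_one]
  rw [this, hc]

theorem sv_mul (i0 : Fin n) {z z' : GL (Fin n) K} (hz : z ∈ scalars (Fin n) K)
    (hz' : z' ∈ scalars (Fin n) K) : sv i0 (z * z') = sv i0 z * sv i0 z' := by
  unfold sv
  rw [Units.val_mul, sv_spec i0 hz, sv_spec i0 hz']
  rw [Matrix.smul_mul, one_mul, Matrix.smul_apply, Matrix.smul_apply, Matrix.one_apply_eq, smul_eq_mul,
    smul_eq_mul, mul_one]
  congr 1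
  rw [Matrix.smul_apply, Matrix.one_apply_eq, smul_eq_mul, mul_one]

theorem sv_one (i0 : Fin n) : sv i0 (1 : GL (Fin n) K) = 1 := by
  unfold sv
  rw [Units.val_one, Matrix.one_apply_eq]

theorem eq_of_sv_eq (i0 : Fin n) {z z' : GL (Fin n) K} (hz : z ∈ scalars (Fin n) K)
    (hz' : z' ∈ scalars (Fin n) K) (h : sv i0 z = sv i0 z') : z = z' := by
  apply Units.ext
  rw [sv_spec i0 hz, sv_spec i0 hz', h]

/-- The commutator character `x ↦ [x, g]` of a group of class 2 modulo scalars. -/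
noncomputable def commChar (i0 : Fin n) (R : Subgroup (GL (Fin n) K))
    (hcl2 : ∀ x ∈ R, ∀ y ∈ R, x * y * x⁻¹ * y⁻¹ ∈ scalars (Fin n) K) (g : R) : R →* K where
  toFun x := sv i0 ((x : GL (Fin n) K) * g * (x : GL (Fin n) K)⁻¹ * (g : GL (Fin n) K)⁻¹)
  map_one' := by
    have : ((1 : R) : GL (Fin n) K) * g * ((1 : R) : GL (Fin n) K)⁻¹ * (g : GL (Fin n) K)⁻¹ = 1 := by
      rw [Subgroup.coe_one]; group
    rw [this, sv_one]
  map_mul' := by
    intro x y
    have hx := hcl2 x x.2 g g.2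
    have hy := hcl2 y y.2 g g.2
    rw [← sv_mul i0 hx hy]
    congr 1
    rw [Subgroup.coe_mul]
    -- [xy, g] = x [y, g] g x⁻¹ g⁻¹ = [x, g] [y, g]
    calc (x : GL (Fin n) K) * (y : GL (Fin n) K) * (g : GL (Fin n) K) *
          ((x : GL (Fin n) K) * (y : GL (Fin n) K))⁻¹ * (g : GL (Fin n) K)⁻¹
        = (x : GL (Fin n) K) * (((y : GL (Fin n) K) * (g : GL (Fin n) K) * (y : GL (Fin n) K)⁻¹ *
            (g : GL (Fin n) K)⁻¹) * ((g : GL (Fin n) K) * (x : GL (Fin n) K)⁻¹ * (g : GL (Fin n) K)⁻¹)) := by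
          group
      _ = (x : GL (Fin n) K) * (((g : GL (Fin n) K) * (x : GL (Fin n) K)⁻¹ * (g : GL (Fin n) K)⁻¹) *
            ((y : GL (Fin n) K) * (g : GL (Fin n) K) * (y : GL (Fin n) K)⁻¹ * (g : GL (Fin n) K)⁻¹)) := by
          rw [scalar_comm' hy]
      _ = _ := by group

theorem commChar_apply (i0 : Fin n) (R : Subgroup (GL (Fin n) K))
    (hcl2 : ∀ x ∈ R, ∀ y ∈ R, x * y * x⁻¹ * y⁻¹ ∈ scalars (Fin n) K) (g x : R) :
    commChar i0 R hcl2 g x =
      sv i0 ((x : GL (Fin n) K) * (g : GL (Fin n) K) * (x : GL (Fin n) K)⁻¹ * (g : GL (Fin n) K)⁻¹) := rfl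

/-- Conjugation multiplies by the commutator character. -/
theorem conj_eq_smul (i0 : Fin n) (R : Subgroup (GL (Fin n) K))
    (hcl2 : ∀ x ∈ R, ∀ y ∈ R, x * y * x⁻¹ * y⁻¹ ∈ scalars (Fin n) K) (g x : R) :
    ((x : GL (Fin n) K) : Matrix (Fin n) (Fin n) K) * ((g : GL (Fin n) K) : Matrix (Fin n) (Fin n) K) *
      (((x : GL (Fin n) K)⁻¹ : GL (Fin n) K) : Matrix (Fin n) (Fin n) K) =
      commChar i0 R hcl2 g x • ((g : GL (Fin n) K) : Matrix (Fin n) (Fin n) K) := by
  have h := sv_spec i0 (hcl2 x x.2 g g.2)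
  rw [← commChar_apply i0 R hcl2 g x] at h
  have h2 : (x : GL (Fin n) K) * (g : GL (Fin n) K) * (x : GL (Fin n) K)⁻¹ =
      ((x : GL (Fin n) K) * (g : GL (Fin n) K) * (x : GL (Fin n) K)⁻¹ * (g : GL (Fin n) K)⁻¹) *
        (g : GL (Fin n) K) := by group
  have h3 := congrArg (fun u : GL (Fin n) K => (u : Matrix (Fin n) (Fin n) K)) h2
  simp only [Units.val_mul] at h3 h
  rw [h3, h, Matrix.smul_mul, one_mul]

/-- A matrix commuting with a spanning set of matrices is scalar. -/
theorem scalar_of_commute_span {S : Set (Matrix (Fin n) (Fin n) K)} (hS : Submodule.span K S = ⊤)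
    (u : Matrix (Fin n) (Fin n) K) (hu : ∀ s ∈ S, u * s = s * u) :
    ∃ c : K, u = c • (1 : Matrix (Fin n) (Fin n) K) := by
  have hall : ∀ M : Matrix (Fin n) (Fin n) K, u * M = M * u := by
    intro M
    have hM : M ∈ Submodule.span K S := by rw [hS]; trivial
    induction hM using Submodule.span_induction with
    | mem x hx => exact hu x hx
    | zero => rw [mul_zero, zero_mul]
    | add x y _ _ hx hy => rw [mul_add, add_mul, hx, hy]
    | smul a x _ hx => rw [Matrix.mul_smul, Matrix.smul_mul, hx]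
  have h1 : u ∈ Set.range (Matrix.scalar (Fin n)) := by
    rw [Matrix.mem_range_scalar_iff_commute_single']
    intro i j
    exact (hall _).symm
  obtain ⟨c, hc⟩ := h1
  refine ⟨c, ?_⟩
  rw [← hc, Matrix.smul_one_eq_diagonal]
  rfl

end

section

variable {F : Type*} [Field F] [Fintype F] {n : ℕ}

/-- **M7-B1** (step 5 of the blueprint): a subgroup of class 2 modulo scalars spanning the matrix algebra has
index `n²` over its scalars. -/
theorem card_eq_of_span_eq_top (hn : 0 < n) (R : Subgroup (GL (Fin n) F))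
    (hcl2 : ∀ x ∈ R, ∀ y ∈ R, x * y * x⁻¹ * y⁻¹ ∈ scalars (Fin n) F)
    (hspan : Submodule.span F (matrixSet R) = ⊤) :
    Nat.card R = Nat.card ((scalars (Fin n) F).subgroupOf R) * n ^ 2 := by
  classical
  set i0 : Fin n := ⟨0, hn⟩ with hi0
  set Z : Subgroup R := (scalars (Fin n) F).subgroupOf R with hZ
  rw [Subgroup.card_eq_card_quotient_mul_card_subgroup Z, mul_comm]
  congr 1
  let s : R ⧸ Z → R := fun q => q.out
  have hs : ∀ q : R ⧸ Z, (QuotientGroup.mk (s q) : R ⧸ Z) = q := fun q => QuotientGroup.out_eq' q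
  let m : R ⧸ Z → Matrix (Fin n) (Fin n) F := fun q => (((s q : R) : GL (Fin n) F) : Matrix (Fin n) (Fin n) F)
  let χ : R ⧸ Z → (R →* F) := fun q => commChar i0 R hcl2 (s q)
  have hmemZ : ∀ x : R, x ∈ Z ↔ (x : GL (Fin n) F) ∈ scalars (Fin n) F := fun x => Subgroup.mem_subgroupOf
  -- the characters are pairwise distinct
  have hχinj : Function.Injective χ := by
    intro q q' hqq
    have hcomm : ∀ x : R, ((s q' : R) : GL (Fin n) F)⁻¹ * ((s q : R) : GL (Fin n) F) * (x : GL (Fin n) F) =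
        (x : GL (Fin n) F) * (((s q' : R) : GL (Fin n) F)⁻¹ * ((s q : R) : GL (Fin n) F)) := by
      intro x
      have h1 := DFunLike.congr_fun hqq x⁻¹
      have h2 : commChar i0 R hcl2 (s q) x⁻¹ = commChar i0 R hcl2 (s q') x⁻¹ := h1
      rw [commChar_apply, commChar_apply] at h2
      have h3 := eq_of_sv_eq i0 (hcl2 _ (x⁻¹).2 _ (s q).2) (hcl2 _ (x⁻¹).2 _ (s q').2) h2
      rw [Subgroup.coe_inv, inv_inv] at h3
      -- x⁻¹ g x g⁻¹ = x⁻¹ g' x g'⁻¹
      have h4 : ((s q : R) : GL (Fin n) F) * (x : GL (Fin n) F) * ((s q : R) : GL (Fin n) F)⁻¹ =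
          ((s q' : R) : GL (Fin n) F) * (x : GL (Fin n) F) * ((s q' : R) : GL (Fin n) F)⁻¹ := by
        have := congrArg (fun w => (x : GL (Fin n) F) * w) h3
        simp only [← mul_assoc, mul_inv_cancel, one_mul] at this
        exact this
      calc ((s q' : R) : GL (Fin n) F)⁻¹ * ((s q : R) : GL (Fin n) F) * (x : GL (Fin n) F)
          = ((s q' : R) : GL (Fin n) F)⁻¹ * (((s q : R) : GL (Fin n) F) * (x : GL (Fin n) F) *
              ((s q : R) : GL (Fin n) F)⁻¹) * ((s q : R) : GL (Fin n) F) := by group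
        _ = ((s q' : R) : GL (Fin n) F)⁻¹ * (((s q' : R) : GL (Fin n) F) * (x : GL (Fin n) F) *
              ((s q' : R) : GL (Fin n) F)⁻¹) * ((s q : R) : GL (Fin n) F) := by rw [h4]
        _ = _ := by group
    set u : GL (Fin n) F := ((s q' : R) : GL (Fin n) F)⁻¹ * ((s q : R) : GL (Fin n) F) with hu
    obtain ⟨c, hc⟩ := scalar_of_commute_span hspan (u : Matrix (Fin n) (Fin n) F) (by
      rintro _ ⟨g, hg, rfl⟩
      have := congrArg (fun w : GL (Fin n) F => (w : Matrix (Fin n) (Fin n) F)) (hcomm ⟨g, hg⟩)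
      simpa using this)
    have hc0 : c ≠ 0 := by
      intro h0
      have h1 : (u : Matrix (Fin n) (Fin n) F) = 0 := by rw [hc, h0, zero_smul]
      have h2 : ((u * u⁻¹ : GL (Fin n) F) : Matrix (Fin n) (Fin n) F) = 1 := by
        rw [mul_inv_cancel]; rfl
      rw [Units.val_mul, h1, zero_mul] at h2
      have h3 := congrFun (congrFun h2 i0) i0
      rw [Matrix.zero_apply, Matrix.one_apply_eq] at h3
      exact zero_ne_one h3
    have huZ : u ∈ scalars (Fin n) F := (mem_scalars_iff u).2 ⟨Units.mk0 c hc0, hc⟩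
    have h5 : (s q')⁻¹ * s q ∈ Z := by
      rw [hmemZ, Subgroup.coe_mul, Subgroup.coe_inv]
      exact huZ
    have h6 : (QuotientGroup.mk (s q') : R ⧸ Z) = QuotientGroup.mk (s q) := QuotientGroup.eq.2 h5
    rw [hs, hs] at h6
    exact h6.symm
  -- the matrices are non-zero
  have hm0 : ∀ q, ∃ a b, m q a b ≠ 0 := by
    intro q
    by_contra hcon
    have h1 : m q = 0 := by
      ext a b
      by_contra hab
      exact hcon ⟨a, b, hab⟩
    have h2 : ((((s q : R) : GL (Fin n) F) * ((s q : R) : GL (Fin n) F)⁻¹ : GL (Fin n) F) :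
        Matrix (Fin n) (Fin n) F) = 1 := by
      rw [mul_inv_cancel]; rfl
    rw [Units.val_mul] at h2
    change m q * _ = 1 at h2
    rw [h1, zero_mul] at h2
    have h3 := congrFun (congrFun h2 i0) i0
    rw [Matrix.zero_apply, Matrix.one_apply_eq] at h3
    exact zero_ne_one h3
  -- linear independence
  have hli : LinearIndependent F m := by
    rw [linearIndependent_iff']
    intro t a hsum q hq
    have hχli : LinearIndependent F (fun q : R ⧸ Z => ((χ q : R →* F) : R → F)) :=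
      (linearIndependent_monoidHom R F).comp χ hχinj
    obtain ⟨u, v, huv⟩ := hm0 q
    have hrel : ∑ q' ∈ t, (a q' * m q' u v) • ((χ q' : R →* F) : R → F) = 0 := by
      funext x
      rw [Finset.sum_apply, Pi.zero_apply]
      -- conjugate the relation by `x`
      have h1 : ∑ q' ∈ t, a q' • (((x : GL (Fin n) F) : Matrix (Fin n) (Fin n) F) * m q' *
          (((x : GL (Fin n) F)⁻¹ : GL (Fin n) F) : Matrix (Fin n) (Fin n) F)) = 0 := by
        have h2 : ∑ q' ∈ t, a q' • (((x : GL (Fin n) F) : Matrix (Fin n) (Fin n) F) * m q' *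
            (((x : GL (Fin n) F)⁻¹ : GL (Fin n) F) : Matrix (Fin n) (Fin n) F)) =
            ((x : GL (Fin n) F) : Matrix (Fin n) (Fin n) F) * (∑ q' ∈ t, a q' • m q') *
            (((x : GL (Fin n) F)⁻¹ : GL (Fin n) F) : Matrix (Fin n) (Fin n) F) := by
          rw [Finset.mul_sum, Finset.sum_mul]
          apply Finset.sum_congr rfl
          intro q' _
          rw [Matrix.mul_smul, Matrix.smul_mul]
        rw [h2, hsum, mul_zero, zero_mul]
      have h3 := congrFun (congrFun h1 u) v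
      rw [Matrix.zero_apply, Matrix.sum_apply] at h3
      rw [← h3]
      apply Finset.sum_congr rfl
      intro q' _
      have h4 := conj_eq_smul i0 R hcl2 (s q') x
      change _ * m q' * _ = _ • m q' at h4
      rw [h4, Pi.smul_apply, Matrix.smul_apply, Matrix.smul_apply, smul_eq_mul, smul_eq_mul, smul_eq_mul]
      show a q' * m q' u v * (χ q' x) = a q' * (commChar i0 R hcl2 (s q') x * m q' u v)
      ring
    have h7 := linearIndependent_iff'.1 hχli t (fun q' => a q' * m q' u v) hrel q hq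
    rcases mul_eq_zero.1 h7 with h | h
    · exact h
    · exact absurd h huv
  -- spanning
  have hsp : ⊤ ≤ Submodule.span F (Set.range m) := by
    rw [← hspan]
    apply Submodule.span_le.2
    rintro _ ⟨g, hg, rfl⟩
    obtain ⟨z, hz⟩ := QuotientGroup.mk_out_eq_mul Z (⟨g, hg⟩ : R)
    -- g = s q * z⁻¹
    have h1 : (⟨g, hg⟩ : R) = s (QuotientGroup.mk ⟨g, hg⟩) * (z : R)⁻¹ := by
      show _ = (QuotientGroup.mk (⟨g, hg⟩ : R) : R ⧸ Z).out * (z : R)⁻¹
      rw [hz, mul_inv_cancel_right]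
    have hzZ : ((z : R)⁻¹ : R) ∈ Z := Z.inv_mem z.2
    rw [hmemZ] at hzZ
    have h2 := sv_spec i0 hzZ
    have h3 := congrArg (fun w : R => ((w : GL (Fin n) F) : Matrix (Fin n) (Fin n) F)) h1
    simp only [Subgroup.coe_mul, Units.val_mul] at h3
    change (g : Matrix (Fin n) (Fin n) F) = m _ * _ at h3
    show (g : Matrix (Fin n) (Fin n) F) ∈ _
    rw [h3, h2, Matrix.mul_smul, mul_one]
    exact Submodule.smul_mem _ _ (Submodule.subset_span ⟨_, rfl⟩)
  let b : Module.Basis (R ⧸ Z) F (Matrix (Fin n) (Fin n) F) := Module.Basis.mk hli hsp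
  have h8 := Module.finrank_eq_nat_card_basis b
  rw [Module.finrank_matrix, Module.finrank_self, mul_one, Fintype.card_fin] at h8
  rw [← h8, sq]

end

end Cfsg.Agent.Lib.H3.Asch
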