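import Mathlib
import Cfsg.Prelude.Def_GeometricClasses
import Cfsg.Agent.Lib.Lead.AschDefs

/-!
# S5630 project, tools U6 and U7 (helper3)
-/

set_option autoImplicit false

namespace Cfsg.Agent.Lib.H3.Asch

open Cfsg Cfsg.Geo
open scoped MatrixGroups Matrix

/-- **U7** an element of an absolutely irreducible group commuting with the whole group is a scalar. -/
theorem mem_scalars_of_absIrr_of_commute {K : Type*} [Field K] {d : ℕ} (G : Subgroup (GL (Fin d) K))
    (h : ActsAbsolutelyIrreducibly (matrixSet G)) (z : GL (Fin d) K)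
    (hz : ∀ x ∈ G, z * x = x * z) : z ∈ scalars (Fin d) K := by
  rw [mem_scalars_iff]
  obtain ⟨c, hc⟩ := h.2 (z : Matrix (Fin d) (Fin d) K) (by
    rintro s ⟨x, hx, rfl⟩
    have := congrArg (fun g : GL (Fin d) K => (g : Matrix (Fin d) (Fin d) K)) (hz x hx)
    simpa using this)
  by_cases hc0 : c = 0
  · -- then the matrix ring is trivial
    have h1 : (z : Matrix (Fin d) (Fin d) K) = 0 := by rw [hc, hc0, zero_smul]
    have h2 : ((z * z⁻¹ : GL (Fin d) K) : Matrix (Fin d) (Fin d) K) = 1 := by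
      rw [mul_inv_cancel]; rfl
    rw [Units.val_mul, h1, zero_mul] at h2
    refine ⟨1, ?_⟩
    rw [h1, Units.val_one, one_smul]
    exact h2
  · exact ⟨Units.mk0 c hc0, hc⟩

/-- **U6** abelian + absolutely irreducible forces dimension ≤ 1. Any field. -/
theorem le_one_of_absIrr_of_comm {K : Type*} [Field K] {d : ℕ} (G : Subgroup (GL (Fin d) K))
    (h : ActsAbsolutelyIrreducibly (matrixSet G)) (hc : ∀ x ∈ G, ∀ y ∈ G, x * y = y * x) : d ≤ 1 := by
  by_contra hd
  rw [not_le] at hd
  -- every element of `G` is a scalar matrix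
  have hscal : ∀ s ∈ matrixSet G, ∃ c : K, s = c • (1 : Matrix (Fin d) (Fin d) K) := by
    rintro s ⟨x, hx, rfl⟩
    apply h.2
    rintro t ⟨y, hy, rfl⟩
    have := congrArg (fun g : GL (Fin d) K => (g : Matrix (Fin d) (Fin d) K)) (hc x hx y hy)
    simpa using this
  set e0 : Fin d → K := Pi.single (⟨0, by omega⟩ : Fin d) 1 with he0
  set W : Submodule K (Fin d → K) := Submodule.span K {e0} with hW
  have hinv : ∀ s ∈ matrixSet G, W.map (Matrix.toLin' s) ≤ W := by
    intro s hs
    obtain ⟨c, rfl⟩ := hscal s hs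
    rintro _ ⟨w, hw, rfl⟩
    rw [Matrix.toLin'_apply, Matrix.smul_mulVec, Matrix.one_mulVec]
    exact W.smul_mem c hw
  rcases h.1 W hinv with h0 | h1
  · have : e0 ∈ W := Submodule.subset_span (Set.mem_singleton _)
    rw [h0, Submodule.mem_bot] at this
    have h2 := congrFun this (⟨0, by omega⟩ : Fin d)
    rw [he0, Pi.single_eq_same] at h2
    exact one_ne_zero h2
  · have : (Pi.single (⟨1, hd⟩ : Fin d) 1 : Fin d → K) ∈ W := by rw [h1]; trivial
    rw [hW, Submodule.mem_span_singleton] at this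
    obtain ⟨a, ha⟩ := this
    have h2 := congrFun ha (⟨1, hd⟩ : Fin d)
    have hne : (⟨1, hd⟩ : Fin d) ≠ ⟨0, by omega⟩ := by
      intro h; exact absurd (Fin.mk.inj_iff.1 h) (by norm_num)
    rw [Pi.smul_apply, he0, Pi.single_eq_of_ne hne, smul_zero, Pi.single_eq_same] at h2
    exact zero_ne_one h2

end Cfsg.Agent.Lib.H3.Asch
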