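import Mathlib

/-!
# S5630 project, tool U4: a non-zero trace sum gives a non-zero intertwiner (helper3)
-/

set_option autoImplicit false

namespace Cfsg.Agent.Lib.H3.Asch

open scoped Matrix

/-- **U4** (a non-zero trace sum gives a non-zero intertwiner). Any field. -/
theorem exists_intertwiner {K : Type*} [Field K] {G : Type*} [Group G] [Fintype G] {d : ℕ}
    (ρ₁ ρ₂ : G → Matrix (Fin d) (Fin d) K)
    (h₁ : ∀ g h, ρ₁ (g * h) = ρ₁ g * ρ₁ h) (h₂ : ∀ g h, ρ₂ (g * h) = ρ₂ g * ρ₂ h)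
    (h₁' : ρ₁ 1 = 1)
    (hsum : ∑ g : G, Matrix.trace (ρ₂ g) * Matrix.trace (ρ₁ g⁻¹) ≠ 0) :
    ∃ T : Matrix (Fin d) (Fin d) K, T ≠ 0 ∧ ∀ g, T * ρ₁ g = ρ₂ g * T := by
  classical
  -- the averaging operator
  let Av : Matrix (Fin d) (Fin d) K → Matrix (Fin d) (Fin d) K :=
    fun X => ∑ g : G, ρ₂ g * X * ρ₁ g⁻¹
  have hAv : ∀ X h, Av X * ρ₁ h = ρ₂ h * Av X := by
    intro X h
    show (∑ g : G, ρ₂ g * X * ρ₁ g⁻¹) * ρ₁ h = ρ₂ h * ∑ g : G, ρ₂ g * X * ρ₁ g⁻¹
    rw [Finset.sum_mul, Finset.mul_sum]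
    -- reindex by g ↦ h * g
    rw [← Equiv.sum_comp (Equiv.mulLeft h) (fun g => ρ₂ g * X * ρ₁ g⁻¹ * ρ₁ h)]
    apply Finset.sum_congr rfl
    intro g _
    simp only [Equiv.coe_mulLeft]
    rw [h₂, mul_inv_rev, Matrix.mul_assoc (ρ₂ h * ρ₂ g * X), ← h₁, inv_mul_cancel_right]
    simp only [Matrix.mul_assoc]
  by_contra hcon
  have hzero : ∀ X, Av X = 0 := by
    intro X
    by_contra hX
    exact hcon ⟨Av X, hX, fun g => hAv X g⟩
  apply hsum
  -- entries of `Av (single i j 1)`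
  have hent : ∀ i j : Fin d, ∑ g : G, ρ₂ g i i * ρ₁ g⁻¹ j j = 0 := by
    intro i j
    have h := congrFun (congrFun (hzero (Matrix.single i j (1 : K))) i) j
    rw [Matrix.zero_apply] at h
    rw [← h]
    show _ = (∑ g : G, ρ₂ g * Matrix.single i j (1 : K) * ρ₁ g⁻¹) i j
    rw [Matrix.sum_apply]
    apply Finset.sum_congr rfl
    intro g _
    rw [Matrix.mul_apply]
    simp only [Matrix.mul_apply, Matrix.single_apply, mul_ite, mul_one, mul_zero]
    rw [Finset.sum_eq_single j]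
    · rw [Finset.sum_eq_single i]
      · simp
      · intro b _ hb
        rw [if_neg]
        rintro ⟨h1, _⟩
        exact hb h1.symm
      · intro h; exact absurd (Finset.mem_univ _) h
    · intro b _ hb
      rw [Finset.sum_eq_zero, zero_mul]
      intro c _
      rw [if_neg]
      rintro ⟨_, h2⟩
      exact hb h2.symm
    · intro h; exact absurd (Finset.mem_univ _) h
  calc ∑ g : G, Matrix.trace (ρ₂ g) * Matrix.trace (ρ₁ g⁻¹)
      = ∑ g : G, ∑ i : Fin d, ∑ j : Fin d, ρ₂ g i i * ρ₁ g⁻¹ j j := by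
        apply Finset.sum_congr rfl
        intro g _
        rw [Matrix.trace, Matrix.trace, Finset.sum_mul_sum]
        rfl
    _ = ∑ i : Fin d, ∑ j : Fin d, ∑ g : G, ρ₂ g i i * ρ₁ g⁻¹ j j := by
        rw [Finset.sum_comm]
        apply Finset.sum_congr rfl
        intro i _
        rw [Finset.sum_comm]
    _ = 0 := by
        apply Finset.sum_eq_zero
        intro i _
        apply Finset.sum_eq_zero
        intro j _
        exact hent i j

end Cfsg.Agent.Lib.H3.Asch
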