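import Cfsg.Agent.Lib.H1.Hall
import Cfsg.Agent.Lib.H1.SylowSystem
import Cfsg.Agent.Lib.H15.Card
import Cfsg.Prelude.Def_SolvableStructure
import Mathlib

/-!
helper3 library: Hall complement systems (Cfsg.IsComplementSystem) of finite solvable groups.
-/

set_option autoImplicit false
open scoped Pointwise

namespace Cfsg.Agent.Lib.H3

variable {G : Type*} [Group G]

theorem index_conj_smul (g : G) (K : Subgroup G) : (MulAut.conj g • K).index = K.index :=
  Subgroup.index_map_equiv K (MulAut.conj g)

theorem card_conj_smul (g : G) (K : Subgroup G) :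
    Nat.card (MulAut.conj g • K : Subgroup G) = Nat.card K :=
  Subgroup.card_map_of_injective (MulAut.conj g).injective

/-- Subgroups of coprime indices: `G = H * K` as a set. -/
theorem mul_eq_univ_of_coprime_index [Finite G] (H K : Subgroup G)
    (h : H.index.Coprime K.index) : (H : Set G) * (K : Set G) = Set.univ := by
  have hidx := Cfsg.Agent.Lib.H1.index_inf_of_coprime h
  have hsup : H ⊔ K = ⊤ := by
    rw [← Subgroup.index_eq_one]
    have h1 : (H ⊔ K).index ∣ H.index := Subgroup.index_dvd_of_le le_sup_left
    have h2 : (H ⊔ K).index ∣ K.index := Subgroup.index_dvd_of_le le_sup_right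
    exact Nat.eq_one_of_dvd_coprimes h h1 h2
  have hcard : Nat.card H * Nat.card K =
      Nat.card (H ⊓ K : Subgroup G) * Nat.card (H ⊔ K : Subgroup G) := by
    rw [hsup, Subgroup.card_top]
    have e1 := Subgroup.index_mul_card H
    have e2 := Subgroup.index_mul_card K
    have e3 := Subgroup.index_mul_card (H ⊓ K)
    rw [hidx] at e3
    have hpos : 0 < H.index * K.index :=
      Nat.mul_pos (Nat.pos_of_ne_zero Subgroup.index_ne_zero_of_finite)
        (Nat.pos_of_ne_zero Subgroup.index_ne_zero_of_finite)
    apply Nat.eq_of_mul_eq_mul_left hpos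
    calc H.index * K.index * (Nat.card H * Nat.card K)
        = (H.index * Nat.card H) * (K.index * Nat.card K) := by ring
      _ = Nat.card G * Nat.card G := by rw [e1, e2]
      _ = (H.index * K.index * Nat.card (H ⊓ K : Subgroup G)) * Nat.card G := by rw [e3]
      _ = H.index * K.index * (Nat.card (H ⊓ K : Subgroup G) * Nat.card G) := by ring
  have := Cfsg.Agent.Lib.H15.coe_sup_eq_mul_of_card_eq H K hcard
  rw [← this, hsup]; rfl

theorem coprime_pow_factorization (n : ℕ) {p q : Nat.Primes} (hpq : p ≠ q) :
    ((p : ℕ) ^ n.factorization p).Coprime ((q : ℕ) ^ n.factorization q) := by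
  apply Nat.coprime_pow_primes _ _ p.2 q.2
  intro h
  exact hpq (Subtype.ext h)

theorem index_iInf_complementSystem [Finite G] {L : Nat.Primes → Subgroup G}
    (hL : Cfsg.IsComplementSystem L) (T : Finset Nat.Primes) :
    (⨅ p ∈ T, L p).index = ∏ p ∈ T, (p : ℕ) ^ (Nat.card G).factorization p := by
  classical
  induction T using Finset.induction_on with
  | empty => simp
  | insert a T ha ih =>
    have hc : (L a).index.Coprime (⨅ p ∈ T, L p).index := by
      rw [hL a, ih]
      apply Nat.Coprime.prod_right
      intro r hr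
      apply coprime_pow_factorization
      rintro rfl
      exact ha hr
    rw [Finset.iInf_insert, Finset.prod_insert ha, Cfsg.Agent.Lib.H1.index_inf_of_coprime hc,
      hL a, ih]

/-- Hall complement systems of a finite solvable group are conjugate. -/
theorem complementSystem_conj [Finite G] [Group.IsSolvable G] (K L : Nat.Primes → Subgroup G)
    (hK : Cfsg.IsComplementSystem K) (hL : Cfsg.IsComplementSystem L) (T : Finset Nat.Primes) :
    ∃ g : G, ∀ p ∈ T, MulAut.conj g • K p = L p := by
  classical
  induction T using Finset.induction_on with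
  | empty => exact ⟨1, fun p hp => absurd hp (Finset.notMem_empty p)⟩
  | insert q T hq ih =>
    obtain ⟨g, hg⟩ := ih
    set X := MulAut.conj g • K q with hX
    have hG0 : Nat.card G ≠ 0 := Nat.card_pos.ne'
    obtain ⟨n, hn⟩ : ∃ n : ℕ, n = (q : ℕ) ^ (Nat.card G).factorization q := ⟨_, rfl⟩
    obtain ⟨m, hm⟩ : ∃ m : ℕ, m = Nat.card G / n := ⟨_, rfl⟩
    have hXidx : X.index = n := by
      rw [hX, index_conj_smul, hK q, hn]
    have hLidx : (L q).index = n := by rw [hL q, hn]
    have hGmn : Nat.card G = m * n := by
      rw [hm, hn]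
      exact (Nat.div_mul_cancel (Nat.ordProj_dvd _ _)).symm
    have hmn : m.Coprime n := by
      rw [hm, hn]
      exact ((Nat.coprime_ordCompl q.2 hG0).pow_left _).symm
    have hnpos : 0 < n := by rw [hn]; exact pow_pos q.2.pos _
    have hcardX : Nat.card X = m := by
      have h1 := Subgroup.index_mul_card X
      rw [hXidx, hGmn, mul_comm m n] at h1
      exact Nat.eq_of_mul_eq_mul_left hnpos h1
    have hcardL : Nat.card (L q) = m := by
      have h1 := Subgroup.index_mul_card (L q)
      rw [hLidx, hGmn, mul_comm m n] at h1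
      exact Nat.eq_of_mul_eq_mul_left hnpos h1
    obtain ⟨x, hx⟩ := Cfsg.Agent.Lib.H1.hall_conj hGmn hmn X (L q) hcardX hcardL
    set D : Subgroup G := ⨅ p ∈ T, L p with hD
    have hcop : (L q).index.Coprime D.index := by
      rw [hL q, hD, index_iInf_complementSystem hL T]
      apply Nat.Coprime.prod_right
      intro r hr
      apply coprime_pow_factorization
      rintro rfl
      exact hq hr
    have huniv := mul_eq_univ_of_coprime_index (L q) D hcop
    have hxmem : x ∈ (L q : Set G) * (D : Set G) := by rw [huniv]; trivial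
    obtain ⟨l, hl, d, hd, rfl⟩ := Set.mem_mul.1 hxmem
    have hdX : MulAut.conj d • X = L q := by
      rw [map_mul, mul_smul] at hx
      have h2 : MulAut.conj d • X = (MulAut.conj l)⁻¹ • L q := by
        rw [← hx, inv_smul_smul]
      rw [h2, ← map_inv]
      exact Subgroup.conj_smul_eq_self_of_mem ((L q).inv_mem hl)
    refine ⟨d * g, ?_⟩
    intro p hp
    rw [Finset.mem_insert] at hp
    rcases hp with rfl | hp
    · rw [map_mul, mul_smul]; exact hdX
    · rw [map_mul, mul_smul, hg p hp]
      apply Subgroup.conj_smul_eq_self_of_mem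
      have : D ≤ L p := iInf₂_le p hp
      exact this hd


/-- Members of a complement system at primes not dividing the order are the whole group. -/
theorem complementSystem_eq_top_of_not_dvd [Finite G] {K : Nat.Primes → Subgroup G}
    (hK : Cfsg.IsComplementSystem K) (p : Nat.Primes) (hp : ¬ (p : ℕ) ∣ Nat.card G) :
    K p = ⊤ := by
  rw [← Subgroup.index_eq_one, hK p, Nat.factorization_eq_zero_of_not_dvd hp, pow_zero]

/-- The finite set of primes dividing the order, as a `Finset Nat.Primes`. -/
noncomputable def primeDivisors (G : Type*) [Group G] : Finset Nat.Primes :=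
  (Nat.card G).primeFactors.subtype Nat.Prime

theorem mem_primeDivisors [Finite G] (p : Nat.Primes) :
    p ∈ primeDivisors G ↔ (p : ℕ) ∣ Nat.card G := by
  have h1 : p ∈ primeDivisors G ↔ (p : ℕ) ∈ (Nat.card G).primeFactors := Finset.mem_subtype
  rw [h1, Nat.mem_primeFactors]
  exact ⟨fun h => h.2.1, fun h => ⟨p.2, h, Nat.card_pos.ne'⟩⟩

/-- **Hall**: any two complement systems of a finite solvable group are simultaneously
conjugate. -/
theorem complementSystem_conj_all [Finite G] [Group.IsSolvable G] (K L : Nat.Primes → Subgroup G)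
    (hK : Cfsg.IsComplementSystem K) (hL : Cfsg.IsComplementSystem L) :
    ∃ g : G, ∀ p : Nat.Primes, MulAut.conj g • K p = L p := by
  obtain ⟨g, hg⟩ := complementSystem_conj K L hK hL (primeDivisors G)
  refine ⟨g, fun p => ?_⟩
  by_cases hp : (p : ℕ) ∣ Nat.card G
  · exact hg p ((mem_primeDivisors p).2 hp)
  · rw [complementSystem_eq_top_of_not_dvd hK p hp, complementSystem_eq_top_of_not_dvd hL p hp]
    exact Subgroup.conj_smul_eq_self_of_mem (Subgroup.mem_top g)

end Cfsg.Agent.Lib.H3
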