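import Mathlib
import Cfsg.Prelude.Def_Transfer

/-!
helper3 library: elementary abelian subgroups and the Thompson subgroup (Def_Transfer vocabulary).
-/

set_option autoImplicit false

namespace Cfsg.Agent.Lib.H3

open Cfsg

variable {G : Type*} [Group G]

theorem elemAb_bot (p : ℕ) : IsElementaryAbelian p (⊥ : Subgroup G) := by
  refine ⟨?_, ?_⟩
  · rw [← Subgroup.le_centralizer_iff_isMulCommutative]
    exact bot_le
  · intro a ha
    rw [Subgroup.mem_bot] at ha
    rw [ha, one_pow]

theorem elemAb_mono {p : ℕ} {A B : Subgroup G} (h : A ≤ B) (hB : IsElementaryAbelian p B) :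
    IsElementaryAbelian p A := by
  refine ⟨?_, fun a ha => hB.2 a (h ha)⟩
  rw [← Subgroup.le_centralizer_iff_isMulCommutative]
  have := Subgroup.le_centralizer_iff_isMulCommutative.2 hB.1
  exact h.trans (this.trans (Subgroup.centralizer_le h))

/-- Elementary abelian subgroups that centralize each other generate an elementary abelian subgroup. -/
theorem elemAb_sup {p : ℕ} {A B : Subgroup G} (hA : IsElementaryAbelian p A)
    (hB : IsElementaryAbelian p B) (hAB : B ≤ Subgroup.centralizer (A : Set G)) :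
    IsElementaryAbelian p (A ⊔ B) := by
  have hAA := Subgroup.le_centralizer_iff_isMulCommutative.2 hA.1
  have hBB := Subgroup.le_centralizer_iff_isMulCommutative.2 hB.1
  have hBA : A ≤ Subgroup.centralizer (B : Set G) := Subgroup.le_centralizer_iff.1 hAB
  have h1 : A ≤ Subgroup.centralizer ((A ⊔ B : Subgroup G) : Set G) :=
    Subgroup.le_centralizer_iff.1 (sup_le hAA hAB)
  have h2 : B ≤ Subgroup.centralizer ((A ⊔ B : Subgroup G) : Set G) :=
    Subgroup.le_centralizer_iff.1 (sup_le hBA hBB)
  have hc : A ⊔ B ≤ Subgroup.centralizer ((A ⊔ B : Subgroup G) : Set G) := sup_le h1 h2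
  refine ⟨Subgroup.le_centralizer_iff_isMulCommutative.1 hc, ?_⟩
  intro x hx
  rw [Subgroup.sup_eq_closure] at hx
  induction hx using Subgroup.closure_induction with
  | mem y hy =>
    rcases hy with hy | hy
    · exact hA.2 y hy
    · exact hB.2 y hy
  | one => exact one_pow p
  | mul y z hy hz ihy ihz =>
    have hy' : y ∈ A ⊔ B := by rw [Subgroup.sup_eq_closure]; exact hy
    have hz' : z ∈ A ⊔ B := by rw [Subgroup.sup_eq_closure]; exact hz
    have hcomm : Commute y z := by
      have := hc hz' y hy'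
      exact this
    rw [hcomm.mul_pow, ihy, ihz, one_mul]
  | inv y hy ihy => rw [inv_pow, ihy, inv_one]

theorem elemAb_zpowers {p : ℕ} {x : G} (hx : x ^ p = 1) :
    IsElementaryAbelian p (Subgroup.zpowers x) := by
  refine ⟨inferInstance, ?_⟩
  intro a ha
  obtain ⟨k, rfl⟩ := Subgroup.mem_zpowers_iff.1 ha
  rw [← zpow_natCast, ← zpow_mul, mul_comm, zpow_mul, zpow_natCast, hx, one_zpow]

/-- In a finite group, elementary abelian subgroups of maximal order exist. -/
theorem exists_maxElemAb [Finite G] (p : ℕ) : (maxElementaryAbelianSubgroups p G).Nonempty := by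
  classical
  have hfin : (Set.univ : Set (Subgroup G)).Finite := Set.toFinite _
  have hs : {A : Subgroup G | IsElementaryAbelian p A}.Finite := Set.toFinite _
  obtain ⟨A, hA, hmax⟩ := Set.exists_max_image {A : Subgroup G | IsElementaryAbelian p A}
    (fun A => Nat.card A) hs ⟨⊥, elemAb_bot p⟩
  exact ⟨A, hA, fun B hB => hmax B hB⟩

theorem le_thompson {p : ℕ} {A : Subgroup G} (hA : A ∈ maxElementaryAbelianSubgroups p G) :
    A ≤ thompsonSubgroup p G := le_sSup hA

/-- An elementary abelian subgroup containing a maximal one is equal to it. -/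
theorem eq_of_maxElemAb_le [Finite G] {p : ℕ} {A B : Subgroup G}
    (hA : A ∈ maxElementaryAbelianSubgroups p G) (hB : IsElementaryAbelian p B) (h : A ≤ B) :
    A = B :=
  Subgroup.eq_of_le_of_card_ge h (hA.2 B hB)

end Cfsg.Agent.Lib.H3

namespace Cfsg.Agent.Lib.H3

open Cfsg

variable {G : Type*} [Group G]

theorem elemAb_map {H : Type*} [Group H] {p : ℕ} {A : Subgroup G} (f : G →* H)
    (hA : IsElementaryAbelian p A) : IsElementaryAbelian p (A.map f) := by
  have := hA.1
  refine ⟨inferInstance, ?_⟩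
  rintro _ ⟨a, ha, rfl⟩
  rw [← map_pow, hA.2 a ha, map_one]

theorem maxElemAb_map_equiv {p : ℕ} {A : Subgroup G} (φ : G ≃* G)
    (hA : A ∈ maxElementaryAbelianSubgroups p G) :
    A.map φ.toMonoidHom ∈ maxElementaryAbelianSubgroups p G := by
  refine ⟨elemAb_map _ hA.1, fun B hB => ?_⟩
  have h1 : Nat.card (A.map φ.toMonoidHom) = Nat.card A :=
    Subgroup.card_map_of_injective φ.injective
  have h2 : Nat.card (B.map φ.symm.toMonoidHom) = Nat.card B :=
    Subgroup.card_map_of_injective φ.symm.injective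
  rw [h1, ← h2]
  exact hA.2 _ (elemAb_map _ hB)

theorem thompson_characteristic (p : ℕ) : (thompsonSubgroup p G).Characteristic := by
  rw [Subgroup.characteristic_iff_map_le]
  intro φ
  rw [Subgroup.map_le_iff_le_comap]
  apply sSup_le
  intro A hA
  rw [← Subgroup.map_le_iff_le_comap]
  exact le_thompson (maxElemAb_map_equiv φ hA)

end Cfsg.Agent.Lib.H3

namespace Cfsg.Agent.Lib.H3

open Cfsg

variable {G : Type*} [Group G]

theorem elemAb_subgroupOf {p : ℕ} {A : Subgroup G} (U : Subgroup G)
    (hA : IsElementaryAbelian p A) : IsElementaryAbelian p (A.subgroupOf U) := by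
  refine ⟨?_, ?_⟩
  · rw [← Subgroup.le_centralizer_iff_isMulCommutative]
    intro x hx y hy
    have h := Subgroup.le_centralizer_iff_isMulCommutative.2 hA.1
    have := h (Subgroup.mem_subgroupOf.1 hx) _ (Subgroup.mem_subgroupOf.1 hy)
    exact Subtype.ext this
  · intro a ha
    have := hA.2 _ (Subgroup.mem_subgroupOf.1 ha)
    exact Subtype.ext (by simpa using this)

theorem card_subgroupOf_of_le {A U : Subgroup G} (h : A ≤ U) :
    Nat.card (A.subgroupOf U) = Nat.card A :=
  Nat.card_congr (Subgroup.subgroupOfEquivOfLe h).toEquiv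

theorem card_map_subtype {U : Subgroup G} (B : Subgroup U) :
    Nat.card (B.map U.subtype) = Nat.card B :=
  Subgroup.card_map_of_injective U.subtype_injective

/-- If `U` contains some maximal elementary abelian subgroup `A` of `G`, then the maximal elementary
abelian subgroups of `U` are exactly those of `G` lying in `U`. -/
theorem maxElemAb_subgroupOf {p : ℕ} {A U : Subgroup G}
    (hA : A ∈ maxElementaryAbelianSubgroups p G) (hAU : A ≤ U) :
    A.subgroupOf U ∈ maxElementaryAbelianSubgroups p U := by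
  refine ⟨elemAb_subgroupOf U hA.1, fun B hB => ?_⟩
  rw [card_subgroupOf_of_le hAU, ← card_map_subtype B]
  exact hA.2 _ (elemAb_map _ hB)

theorem maxElemAb_map_subtype {p : ℕ} {A U : Subgroup G}
    (hA : A ∈ maxElementaryAbelianSubgroups p G) (hAU : A ≤ U) {B : Subgroup U}
    (hB : B ∈ maxElementaryAbelianSubgroups p U) :
    B.map U.subtype ∈ maxElementaryAbelianSubgroups p G := by
  refine ⟨elemAb_map _ hB.1, fun C hC => ?_⟩
  have h1 := hB.2 _ (elemAb_subgroupOf U hA.1)
  rw [card_subgroupOf_of_le hAU] at h1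
  rw [card_map_subtype]
  exact (hA.2 C hC).trans h1

end Cfsg.Agent.Lib.H3

namespace Cfsg.Agent.Lib.H3

open Cfsg
open scoped Pointwise

variable {G : Type*} [Group G]

theorem elemAb_isPGroup {p : ℕ} {A : Subgroup G} (hA : IsElementaryAbelian p A) : IsPGroup p A := by
  intro a
  refine ⟨1, ?_⟩
  rw [pow_one]
  exact Subtype.ext (by simpa using hA.2 a a.2)

/-- Every Sylow `p`-subgroup contains an elementary abelian subgroup of maximal order. -/
theorem exists_maxElemAb_le_sylow [Finite G] {p : ℕ} [Fact p.Prime] (S : Sylow p G) :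
    ∃ A ∈ maxElementaryAbelianSubgroups p G, A ≤ (S : Subgroup G) := by
  obtain ⟨A, hA⟩ := exists_maxElemAb (G := G) p
  obtain ⟨S₀, hS₀⟩ := (elemAb_isPGroup hA.1).exists_le_sylow
  obtain ⟨g, hg⟩ := MulAction.exists_smul_eq G S₀ S
  refine ⟨A.map (MulAut.conj g).toMonoidHom, maxElemAb_map_equiv _ hA, ?_⟩
  rw [← hg, Sylow.coe_subgroup_smul]
  exact Subgroup.map_mono hS₀

end Cfsg.Agent.Lib.H3

namespace Cfsg.Agent.Lib.H3


theorem relIndex_mul_card_inf {G : Type*} [Group G] (B W : Subgroup G) :
    W.relIndex B * Nat.card (B ⊓ W : Subgroup G) = Nat.card B := by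
  have h := Subgroup.card_mul_index (W.subgroupOf B)
  rw [← Subgroup.inf_subgroupOf_right W B, card_subgroupOf_of_le inf_le_right] at h
  rw [inf_comm, mul_comm]
  rw [Subgroup.inf_subgroupOf_right] at h
  exact h

theorem card_mul_card_le {G : Type*} [Group G] [Finite G] (B W : Subgroup G) :
    Nat.card B * Nat.card W ≤ Nat.card (B ⊔ W : Subgroup G) * Nat.card (B ⊓ W : Subgroup G) := by
  have h1 := relIndex_mul_card_inf B W
  have h2 : W.relIndex (B ⊔ W) * Nat.card W = Nat.card (B ⊔ W : Subgroup G) := by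
    have := relIndex_mul_card_inf (B ⊔ W) W
    rwa [inf_of_le_right (le_sup_right : W ≤ B ⊔ W)] at this
  have h3 : W.relIndex B ≤ W.relIndex (B ⊔ W) :=
    Subgroup.relIndex_le_of_le_right le_sup_left (by
      intro h; rw [h, zero_mul] at h2
      exact (Nat.card_pos (α := (B ⊔ W : Subgroup G))).ne' h2.symm)
  calc Nat.card B * Nat.card W = W.relIndex B * Nat.card (B ⊓ W : Subgroup G) * Nat.card W := by rw [h1]
    _ ≤ W.relIndex (B ⊔ W) * Nat.card (B ⊓ W : Subgroup G) * Nat.card W := by gcongr
    _ = Nat.card (B ⊔ W : Subgroup G) * Nat.card (B ⊓ W : Subgroup G) := by rw [← h2]; ring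

end Cfsg.Agent.Lib.H3
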