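import Cfsg.Agent.Lib.H3.Wielandt
import Mathlib

/-!
helper3 library: joins of families of subnormal subgroups; a "zipper"-type lemma.
-/

set_option autoImplicit false
open scoped Pointwise

namespace Cfsg.Agent.Lib.H3

variable {G : Type*} [Group G]

theorem isSubnormal_sSup [Finite G] (S : Set (Subgroup G)) (hS : ∀ U ∈ S, U.IsSubnormal) :
    (sSup S).IsSubnormal := by
  have hfin : S.Finite := Set.toFinite S
  induction S, hfin using Set.Finite.induction_on with
  | empty => rw [sSup_empty]; exact Subgroup.IsSubnormal.bot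
  | insert ha hs ih =>
    rw [sSup_insert]
    exact isSubnormal_sup _ G rfl _ _ (hS _ (Set.mem_insert _ _))
      (ih (fun U hU => hS U (Set.mem_insert_of_mem _ hU)))

theorem map_sSup_eq {G' : Type*} [Group G'] (f : G →* G') (S : Set (Subgroup G)) :
    (sSup S).map f = ⨆ U ∈ S, U.map f := by
  rw [sSup_eq_iSup, Subgroup.map_iSup]
  congr 1
  funext U
  rw [Subgroup.map_iSup]

theorem conj_smul_map_subtype (N : Subgroup G) (Y : Subgroup N) (n : N) :
    (MulAut.conj n • Y).map N.subtype = MulAut.conj (n : G) • (Y.map N.subtype) := by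
  ext x
  simp only [Subgroup.mem_map, Subgroup.mem_pointwise_smul_iff_inv_smul_mem, Subgroup.coe_subtype,
    MulAut.smul_def, MulAut.inv_apply, MulAut.conj_symm_apply]
  constructor
  · rintro ⟨y, hy, rfl⟩
    exact ⟨_, hy, by simp⟩
  · rintro ⟨y, hy, hyx⟩
    refine ⟨n * y * n⁻¹, by simpa [mul_assoc] using hy, ?_⟩
    simp only [Subgroup.coe_mul, Subgroup.coe_inv, hyx]
    group

theorem conj_smul_le_of_normal (N : Subgroup G) [hN : N.Normal] {U : Subgroup G} (hU : U ≤ N)
    (g : G) : MulAut.conj g • U ≤ N := by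
  intro x hx
  rw [Subgroup.mem_pointwise_smul_iff_inv_smul_mem] at hx
  have h1 := hN.conj_mem _ (hU hx) g
  simpa [MulAut.smul_def, mul_assoc] using h1

theorem sSup_normal_of_conj_closed (S₀ : Set (Subgroup G))
    (hc : ∀ U ∈ S₀, ∀ g : G, MulAut.conj g • U ∈ S₀) : (sSup S₀).Normal := by
  constructor
  intro y hy g
  have hmap : (sSup S₀).map (MulAut.conj g).toMonoidHom ≤ sSup S₀ := by
    rw [map_sSup_eq]
    apply iSup₂_le
    intro U hU
    have : U.map (MulAut.conj g).toMonoidHom = MulAut.conj g • U := rfl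
    rw [this]
    exact le_sSup (hc U hU g)
  have := hmap (Subgroup.mem_map_of_mem _ hy)
  simpa using this

theorem zipper.{u} : ∀ (n : ℕ) (G : Type u) [Group G] [Finite G], Nat.card G = n →
    ∀ (S S₀ : Set (Subgroup G)), (∀ U ∈ S, U.IsSubnormal) →
    (∀ U ∈ S, ∀ g : G, MulAut.conj g • U ∈ S) → S₀ ⊂ S →
    ∃ X ∈ S, X ∉ S₀ ∧ X ≤ Subgroup.normalizer ((sSup S₀ : Subgroup G) : Set G) := by
  intro n
  induction n using Nat.strong_induction_on with
  | _ n ih =>
  intro G _ _ hcard S S₀ hS hconj h₀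
  have hJ : (sSup S₀).IsSubnormal := isSubnormal_sSup S₀ (fun U hU => hS U (h₀.subset hU))
  by_cases hJn : (sSup S₀).Normal
  · obtain ⟨X, hXS, hXS₀⟩ := Set.exists_of_ssubset h₀
    refine ⟨X, hXS, hXS₀, ?_⟩
    rw [Subgroup.normalizer_eq_top_iff.2 hJn]; exact le_top
  have hJtop : sSup S₀ ≠ ⊤ := fun h => hJn (h ▸ inferInstance)
  obtain ⟨N, hNn, hJN, hNlt⟩ := hJ.lt_normal.resolve_left hJtop
  have hS₀N : ∀ U ∈ S₀, U ≤ N := fun U hU => (le_sSup hU).trans hJN
  -- some member of S inside N is not in S₀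
  have hex : ∃ X0 ∈ S, X0 ≤ N ∧ X0 ∉ S₀ := by
    by_contra hcon
    push Not at hcon
    apply hJn
    apply sSup_normal_of_conj_closed
    intro U hU g
    exact hcon _ (hconj U (h₀.subset hU) g) (conj_smul_le_of_normal N (hS₀N U hU) g)
  obtain ⟨X0, hX0S, hX0N, hX0S₀⟩ := hex
  have hNcard : Nat.card N < n := by
    rw [← hcard]
    exact lt_of_le_of_ne (Subgroup.card_le_card_group N)
      (fun h => hNlt.ne (Subgroup.eq_top_of_card_eq N h))
  set T : Set (Subgroup N) := {Y | Y.map N.subtype ∈ S} with hT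
  set T₀ : Set (Subgroup N) := {Y | Y.map N.subtype ∈ S₀} with hT₀
  have hTsub : ∀ Y ∈ T, Y.IsSubnormal := by
    intro Y hY
    have h1 : (Y.map N.subtype).subgroupOf N = Y :=
      Subgroup.comap_map_eq_self_of_injective N.subtype_injective Y
    rw [← h1]
    exact (hS _ hY).subgroupOf
  have hTconj : ∀ Y ∈ T, ∀ m : N, MulAut.conj m • Y ∈ T := by
    intro Y hY m
    show (MulAut.conj m • Y).map N.subtype ∈ S
    rw [conj_smul_map_subtype]
    exact hconj _ hY _
  have hTT : T₀ ⊂ T := by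
    refine ⟨fun Y hY => h₀.subset hY, ?_⟩
    intro hsub
    have h1 : X0.subgroupOf N ∈ T := by
      show (X0.subgroupOf N).map N.subtype ∈ S
      rw [Subgroup.map_subgroupOf_eq_of_le hX0N]; exact hX0S
    have h2 := hsub h1
    change (X0.subgroupOf N).map N.subtype ∈ S₀ at h2
    rw [Subgroup.map_subgroupOf_eq_of_le hX0N] at h2
    exact hX0S₀ h2
  obtain ⟨Y, hYT, hYT₀, hYN⟩ := ih _ hNcard N rfl T T₀ hTsub hTconj hTT
  refine ⟨Y.map N.subtype, hYT, hYT₀, ?_⟩
  have hsup : (sSup T₀).map N.subtype = sSup S₀ := by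
    rw [map_sSup_eq]
    apply le_antisymm
    · apply iSup₂_le
      intro Z hZ
      exact le_sSup hZ
    · apply sSup_le
      intro U hU
      have h1 : U.subgroupOf N ∈ T₀ := by
        show (U.subgroupOf N).map N.subtype ∈ S₀
        rw [Subgroup.map_subgroupOf_eq_of_le (hS₀N U hU)]; exact hU
      have h2 : (U.subgroupOf N).map N.subtype ≤ ⨆ Z ∈ T₀, Z.map N.subtype :=
        le_iSup₂ (f := fun (Z : Subgroup N) (_ : Z ∈ T₀) => Z.map N.subtype) _ h1
      rwa [Subgroup.map_subgroupOf_eq_of_le (hS₀N U hU)] at h2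
  rw [← hsup]
  exact (Subgroup.map_mono hYN).trans (Subgroup.le_normalizer_map N.subtype)

end Cfsg.Agent.Lib.H3
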