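import Cfsg.Agent.Lib.H3.Schmidt2
import Cfsg.Agent.Lib.H3.HallSystem
import Cfsg.Agent.Lib.H3.Wielandt2
import Cfsg.Agent.Lib.H3.Thompson
import Cfsg.Agent.Lib.H22.NilpotentCoprime
import Cfsg.Agent.Lib.H1.CoprimeSylow
import Mathlib

/-!
helper3 library: Wielandt's theorem on nilpotent Hall subgroups.
-/

set_option autoImplicit false
open scoped Pointwise

namespace Cfsg.Agent.Lib.H3

variable {G : Type*} [Group G]

/-- Sylow's theorem inside a subgroup `L`: a `p`-subgroup of `L` lies in an `L`-conjugate of a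
Sylow `p`-subgroup of `G` contained in `L`. -/
theorem sylow_conj_in_subgroup [Finite G] {p : ℕ} [Fact p.Prime] (S : Sylow p G)
    (L A : Subgroup G) (hSL : (S : Subgroup G) ≤ L) (hAL : A ≤ L) (hA : IsPGroup p A) :
    ∃ l ∈ L, A ≤ MulAut.conj l • (S : Subgroup G) := by
  set SL : Sylow p L := S.subtype hSL with hSLdef
  have hAL' : IsPGroup p (A.subgroupOf L) := hA.comap_subtype
  obtain ⟨R, hR⟩ := hAL'.exists_le_sylow
  obtain ⟨l, hl⟩ := MulAction.exists_smul_eq L SL R
  refine ⟨l, l.2, ?_⟩
  have h1 : A = (A.subgroupOf L).map L.subtype := (Subgroup.map_subgroupOf_eq_of_le hAL).symm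
  rw [h1]
  refine (Subgroup.map_mono hR).trans ?_
  rw [← hl, Sylow.coe_subgroup_smul, conj_smul_map_subtype, hSLdef, Sylow.coe_subtype,
    Subgroup.map_subgroupOf_eq_of_le hSL]

/-- A Hall subgroup contains a Sylow `p`-subgroup of `G` for each prime `p` dividing its order. -/
theorem exists_sylow_le_of_hall [Finite G] (H : Subgroup G)
    (hHall : (Nat.card H).Coprime H.index) {p : ℕ} [Fact p.Prime] (hp : p ∣ Nat.card H) :
    ∃ S : Sylow p G, (S : Subgroup G) ≤ H := by
  obtain ⟨T⟩ : Nonempty (Sylow p H) := inferInstance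
  have hpp : p.Prime := Fact.out
  have hcard : Nat.card ((T : Subgroup H).map H.subtype) = p ^ (Nat.card G).factorization p := by
    rw [card_map_subtype, Sylow.card_eq_multiplicity]
    congr 1
    have hpi : ¬ p ∣ H.index := by
      intro h
      have h1 := Nat.dvd_gcd hp h
      rw [hHall.gcd_eq_one] at h1
      exact hpp.one_lt.ne' (Nat.dvd_one.1 h1)
    rw [← Subgroup.card_mul_index H, Nat.factorization_mul Nat.card_pos.ne'
      Subgroup.index_ne_zero_of_finite, Finsupp.add_apply,
      Nat.factorization_eq_zero_of_not_dvd hpi, add_zero]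
  exact ⟨Sylow.ofCard _ hcard, Subgroup.map_subtype_le _⟩

/-- Elements of coprime orders in a nilpotent subgroup commute. -/
theorem commute_in_nilpotent_subgroup [Finite G] (N : Subgroup G) (hN : Group.IsNilpotent N)
    {a b : G} (ha : a ∈ N) (hb : b ∈ N) (hcop : (orderOf a).Coprime (orderOf b)) :
    a * b = b * a := by
  have h1 := Cfsg.Agent.Lib.H22.commute_of_coprime_orderOf _ N rfl ⟨a, ha⟩ ⟨b, hb⟩
    (by rw [Subgroup.orderOf_mk, Subgroup.orderOf_mk]; exact hcop)
  exact congrArg Subtype.val h1

theorem orderOf_coprime_of_isPGroup_of_coprime_card [Finite G] {p : ℕ} [Fact p.Prime]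
    {A B : Subgroup G} (hA : IsPGroup p A) (hB : (Nat.card B).Coprime p) {a b : G} (ha : a ∈ A)
    (hb : b ∈ B) : (orderOf a).Coprime (orderOf b) := by
  obtain ⟨k, hk⟩ := hA ⟨a, ha⟩
  have hk' : a ^ (p ^ k) = 1 := congrArg Subtype.val hk
  have h1 : orderOf a ∣ p ^ k := orderOf_dvd_of_pow_eq_one hk'
  have h2 : orderOf b ∣ Nat.card B := Subgroup.orderOf_dvd_natCard B hb
  exact Nat.Coprime.coprime_dvd_left h1
    (Nat.Coprime.coprime_dvd_right h2 (Nat.Coprime.pow_left k hB.symm))

theorem isNilpotent_conj_smul (g : G) (H : Subgroup G) (hH : Group.IsNilpotent H) :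
    Group.IsNilpotent (MulAut.conj g • H : Subgroup G) :=
  Group.nilpotent_of_mulEquiv (Subgroup.equivSMul (MulAut.conj g) H)

/-- **Wielandt**: every subgroup whose order involves only primes dividing the order of a nilpotent
Hall subgroup `H` lies in a conjugate of `H`. -/
theorem wielandt_nilpotent_hall [Finite G] (H : Subgroup G) (hH : Group.IsNilpotent H)
    (hHall : (Nat.card H).Coprime H.index) :
    ∀ (n : ℕ) (K : Subgroup G), Nat.card K = n →
      (∀ p : ℕ, p.Prime → p ∣ Nat.card K → p ∣ Nat.card H) →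
      ∃ x : G, K ≤ MulAut.conj x • H := by
  intro n
  induction n using Nat.strong_induction_on with
  | _ n ih =>
  intro K hn hK
  by_cases hK1 : K = ⊥
  · exact ⟨1, by rw [hK1]; exact bot_le⟩
  have hKcard1 : Nat.card K ≠ 1 := fun h => hK1 (Subgroup.card_eq_one.1 h)
  -- facts about a conjugate of `H`
  have hconjfacts : ∀ g : G, Group.IsNilpotent (MulAut.conj g • H : Subgroup G) ∧
      (Nat.card (MulAut.conj g • H : Subgroup G)).Coprime (MulAut.conj g • H : Subgroup G).index ∧
      Nat.card (MulAut.conj g • H : Subgroup G) = Nat.card H := by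
    intro g
    refine ⟨isNilpotent_conj_smul g H hH, ?_, card_conj_smul g H⟩
    rw [card_conj_smul, index_conj_smul]; exact hHall
  by_cases hKnil : Group.IsNilpotent K
  · -- nilpotent case
    obtain ⟨p, hp, hpK⟩ := Nat.exists_prime_and_dvd hKcard1
    have hpF : Fact p.Prime := ⟨hp⟩
    obtain ⟨T⟩ : Nonempty (Sylow p K) := inferInstance
    have htfae := (Group.isNilpotent_of_finite_tfae (G := K)).out 0 3
    have hTn : (T : Subgroup K).Normal := htfae.1 hKnil p inferInstance T
    have hTcop : (Nat.card (T : Subgroup K)).Coprime (T : Subgroup K).index := by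
      rw [T.card_eq_multiplicity]
      exact Nat.Coprime.pow_left _ ((Nat.Prime.coprime_iff_not_dvd hp).2 T.not_dvd_index)
    obtain ⟨B', hB'⟩ := Subgroup.exists_right_complement'_of_coprime hTcop
    set A := (T : Subgroup K).map K.subtype with hA
    set B := B'.map K.subtype with hB
    have hAK : A ≤ K := Subgroup.map_subtype_le _
    have hBK : B ≤ K := Subgroup.map_subtype_le _
    have hcardmul : Nat.card (T : Subgroup K) * Nat.card B' = Nat.card K := hB'.card_mul_card
    have hTcard : p ∣ Nat.card (T : Subgroup K) := by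
      rw [T.card_eq_multiplicity]
      have h1 : 1 ≤ (Nat.card K).factorization p :=
        (hp.dvd_iff_one_le_factorization Nat.card_pos.ne').1 hpK
      exact dvd_pow_self p (by omega)
    have hcardB : Nat.card B = Nat.card B' := card_map_subtype B'
    have hBlt : Nat.card B < n := by
      rw [hcardB, ← hn, ← hcardmul]
      have h1 : 2 ≤ Nat.card (T : Subgroup K) := (hp.two_le).trans (Nat.le_of_dvd Nat.card_pos hTcard)
      have h2 : 0 < Nat.card B' := Nat.card_pos
      nlinarith
    have hBcop : (Nat.card B).Coprime p := by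
      rw [hcardB]
      have h1 : Nat.card B' = (T : Subgroup K).index := by
        have h2 := Subgroup.card_mul_index (T : Subgroup K)
        exact Nat.eq_of_mul_eq_mul_left Nat.card_pos (hcardmul.trans h2.symm)
      rw [h1]
      exact ((Nat.Prime.coprime_iff_not_dvd hp).2 T.not_dvd_index).symm
    have hBprimes : ∀ r : ℕ, r.Prime → r ∣ Nat.card B → r ∣ Nat.card H :=
      fun r hr hrB => hK r hr (hrB.trans (Subgroup.card_dvd_of_le hBK))
    obtain ⟨g, hg⟩ := ih _ hBlt B rfl hBprimes
    obtain ⟨hH'nil, hH'Hall, hH'card⟩ := hconjfacts g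
    set H' := (MulAut.conj g • H : Subgroup G) with hH'
    have hpH' : p ∣ Nat.card H' := by rw [hH'card]; exact hK p hp hpK
    obtain ⟨S, hS⟩ := exists_sylow_le_of_hall H' hH'Hall hpH'
    have hAp : IsPGroup p A := T.2.map _
    set C := Subgroup.centralizer (B : Set G) with hC
    have hSC : (S : Subgroup G) ≤ C := by
      intro s hs
      rw [hC, Subgroup.mem_centralizer_iff]
      intro b hb
      exact (commute_in_nilpotent_subgroup H' hH'nil (hS hs) (hg hb)
        (orderOf_coprime_of_isPGroup_of_coprime_card S.2 hBcop hs hb)).symm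
    have hAC : A ≤ C := by
      intro a ha
      rw [hC, Subgroup.mem_centralizer_iff]
      intro b hb
      exact (commute_in_nilpotent_subgroup K hKnil (hAK ha) (hBK hb)
        (orderOf_coprime_of_isPGroup_of_coprime_card hAp hBcop ha hb)).symm
    obtain ⟨c, hcC, hAc⟩ := sylow_conj_in_subgroup S C A hSC hAC hAp
    refine ⟨c * g, ?_⟩
    have hKAB : K ≤ A ⊔ B := by
      have h1 := hB'.sup_eq_top
      have h2 : K = (⊤ : Subgroup K).map K.subtype := by
        rw [← MonoidHom.range_eq_map, Subgroup.range_subtype]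
      rw [h2, ← h1, Subgroup.map_sup]
    rw [map_mul, mul_smul, ← hH']
    refine hKAB.trans (sup_le ?_ ?_)
    · exact hAc.trans (Subgroup.pointwise_smul_le_pointwise_smul_iff.2 hS)
    · have h1 : MulAut.conj c • B = B :=
        Cfsg.Agent.Lib.H1.conj_smul_eq_self_iff_mem_normalizer.2
          (Subgroup.centralizer_le_normalizer _ hcC)
      rw [← h1]
      exact Subgroup.pointwise_smul_le_pointwise_smul_iff.2 hg
  · -- non-nilpotent case: `K` is a Schmidt group
    exfalso
    have hKmin : Cfsg.IsMinimalNonNilpotent K := by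
      refine ⟨hKnil, ?_⟩
      intro K₁ hK₁
      set K₁' := K₁.map K.subtype with hK₁'
      have hK₁K : K₁' ≤ K := Subgroup.map_subtype_le _
      have hlt : Nat.card K₁' < n := by
        rw [← hn, hK₁', card_map_subtype]
        have h2 := Subgroup.card_mul_index K₁
        have h3 : K₁.index ≠ 1 := fun h => hK₁ (Subgroup.index_eq_one.1 h)
        have h4 : 0 < K₁.index := Nat.pos_of_ne_zero Subgroup.index_ne_zero_of_finite
        have h5 : 0 < Nat.card K₁ := Nat.card_pos
        have h6 : 2 ≤ K₁.index := by omega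
        nlinarith
      have hprimes : ∀ r : ℕ, r.Prime → r ∣ Nat.card K₁' → r ∣ Nat.card H :=
        fun r hr hrB => hK r hr (hrB.trans (Subgroup.card_dvd_of_le hK₁K))
      obtain ⟨g, hg⟩ := ih _ hlt K₁' rfl hprimes
      obtain ⟨hH'nil, _, _⟩ := hconjfacts g
      have h1 : Group.IsNilpotent K₁' :=
        Group.nilpotent_of_mulEquiv (Subgroup.subgroupOfEquivOfLe hg)
      exact Group.nilpotent_of_mulEquiv (K₁.equivMapOfInjective K.subtype
        (Subgroup.subtype_injective K)).symm
    obtain ⟨p, q, hp, hq, hpq, P, Q, _, hQn, hsup, hPnn⟩ := schmidt_structure hKmin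
    have hpF : Fact p.Prime := ⟨hp⟩
    have hqF : Fact q.Prime := ⟨hq⟩
    set P' := (P : Subgroup K).map K.subtype with hP'
    set Q' := (Q : Subgroup K).map K.subtype with hQ'
    have hP'K : P' ≤ K := Subgroup.map_subtype_le _
    have hQ'K : Q' ≤ K := Subgroup.map_subtype_le _
    have hP1 : (P : Subgroup K) ≠ ⊥ := by
      intro h
      apply hPnn
      rw [h]; infer_instance
    have hpK : p ∣ Nat.card K := by
      have h1 : Nat.card (P : Subgroup K) ≠ 1 := fun h => hP1 (Subgroup.card_eq_one.1 h)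
      obtain ⟨k, hk⟩ := IsPGroup.iff_card.1 P.2
      have hk0 : k ≠ 0 := by
        rintro rfl
        rw [pow_zero] at hk
        exact h1 hk
      have h2 : p ∣ Nat.card (P : Subgroup K) := by rw [hk]; exact dvd_pow_self p hk0
      exact h2.trans (Subgroup.card_subgroup_dvd_card _)
    have hQlt : Nat.card Q' < n := by
      rw [← hn, hQ', card_map_subtype]
      have h2 := Subgroup.card_mul_index (Q : Subgroup K)
      have h3 : (Q : Subgroup K).index ≠ 1 := by
        intro h
        have h4 : (Q : Subgroup K) = ⊤ := Subgroup.index_eq_one.1 h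
        have h5 : (P : Subgroup K) ⊓ Q = ⊥ :=
          (IsPGroup.disjoint_of_ne p q hpq _ _ P.2 Q.2).eq_bot
        rw [h4, inf_top_eq] at h5
        exact hP1 h5
      have h4 : 0 < (Q : Subgroup K).index := Nat.pos_of_ne_zero Subgroup.index_ne_zero_of_finite
      have h5 : 0 < Nat.card (Q : Subgroup K) := Nat.card_pos
      have h6 : 2 ≤ (Q : Subgroup K).index := by omega
      nlinarith
    have hQprimes : ∀ r : ℕ, r.Prime → r ∣ Nat.card Q' → r ∣ Nat.card H :=
      fun r hr hrB => hK r hr (hrB.trans (Subgroup.card_dvd_of_le hQ'K))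
    obtain ⟨g, hg⟩ := ih _ hQlt Q' rfl hQprimes
    obtain ⟨hH'nil, hH'Hall, hH'card⟩ := hconjfacts g
    set H' := (MulAut.conj g • H : Subgroup G) with hH'
    have hpH' : p ∣ Nat.card H' := by rw [hH'card]; exact hK p hp hpK
    obtain ⟨S, hS⟩ := exists_sylow_le_of_hall H' hH'Hall hpH'
    have hQ'q : IsPGroup q Q' := Q.2.map _
    have hP'p : IsPGroup p P' := P.2.map _
    set C := Subgroup.centralizer (Q' : Set G) with hC
    set L := Subgroup.normalizer (Q' : Set G) with hL
    have hCL : C ≤ L := Subgroup.centralizer_le_normalizer _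
    have hSC : (S : Subgroup G) ≤ C := by
      intro s hs
      rw [hC, Subgroup.mem_centralizer_iff]
      intro b hb
      exact (commute_of_isNilpotent_subgroup H' hH'nil hpq (S : Subgroup G) Q' S.2 hQ'q hs hb
        (hS hs) (hg hb)).symm
    have hKL : K ≤ L := by
      have h1 := Subgroup.le_normalizer_map (H := (Q : Subgroup K)) K.subtype
      rw [Subgroup.normalizer_eq_top_iff.2 hQn, ← MonoidHom.range_eq_map,
        Subgroup.range_subtype] at h1
      exact h1
    obtain ⟨l, hlL, hPl⟩ := sylow_conj_in_subgroup S L P' (hSC.trans hCL) (hP'K.trans hKL) hP'p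
    -- `P'` centralizes `Q'`
    have hP'C : P' ≤ C := by
      intro x hx
      obtain ⟨s, hs, rfl⟩ := (Subgroup.mem_smul_pointwise_iff_exists x _ _).1 (hPl hx)
      have hsC := hSC hs
      rw [hC, Subgroup.mem_centralizer_iff]
      intro y hy
      -- y = l y' l⁻¹ with y' ∈ Q'
      have hl' : MulAut.conj l⁻¹ • Q' = Q' :=
        Cfsg.Agent.Lib.H1.conj_smul_eq_self_iff_mem_normalizer.2 (L.inv_mem hlL)
      have hy' : l⁻¹ * y * l ∈ Q' := by
        have h1 : MulAut.conj l⁻¹ • y ∈ MulAut.conj l⁻¹ • Q' :=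
          Subgroup.smul_mem_pointwise_smul _ _ _ hy
        rw [hl'] at h1
        have h2 : MulAut.conj l⁻¹ • y = l⁻¹ * y * l := by
          rw [MulAut.smul_def, MulAut.conj_apply, inv_inv]
        rwa [h2] at h1
      have h3 := (Subgroup.mem_centralizer_iff.1 hsC) _ hy'
      show y * (l * s * l⁻¹) = l * s * l⁻¹ * y
      have e1 : y * (l * s * l⁻¹) = l * ((l⁻¹ * y * l) * s) * l⁻¹ := by group
      have e2 : l * s * l⁻¹ * y = l * (s * (l⁻¹ * y * l)) * l⁻¹ := by group
      rw [e1, e2, h3]
    -- hence `Q ≤ N_K(P)` and `P` is normal in `K`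
    apply hPnn
    rw [← Subgroup.normalizer_eq_top_iff, eq_top_iff, ← hsup]
    apply sup_le Subgroup.le_normalizer
    intro y hy
    apply Subgroup.centralizer_le_normalizer
    rw [Subgroup.mem_centralizer_iff]
    intro x hx
    have hx' : (x : G) ∈ P' := Subgroup.mem_map_of_mem _ hx
    have hy' : (y : G) ∈ Q' := Subgroup.mem_map_of_mem _ hy
    have h1 := (Subgroup.mem_centralizer_iff.1 (hP'C hx')) _ hy'
    exact Subtype.ext h1.symm

end Cfsg.Agent.Lib.H3
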