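import Mathlib

/-!
# S3670 (architect helper3): shared definitions

`alpha7 = ζ + ζ² + ζ⁴` for `ζ = exp(2πi/7)`: a root of `t² + t + 2`, not real; the ring `ℤ[alpha7]` is the ring of
integers of `ℚ(√-7)`; `conj alpha7 = -1 - alpha7`, `alpha7 * conj alpha7 = 2`.
-/

set_option autoImplicit false

namespace Cfsg.Agent.Lib.H3.DG

open scoped ComplexConjugate

/-- the primitive seventh root of unity `exp(2πi/7)` -/
noncomputable def zeta7 : ℂ := Complex.exp (2 * Real.pi * Complex.I / (7 : ℕ))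

theorem zeta7_prim : IsPrimitiveRoot zeta7 7 := Complex.isPrimitiveRoot_exp 7 (by norm_num)

theorem zeta7_pow : zeta7 ^ 7 = 1 := zeta7_prim.pow_eq_one

theorem zeta7_ne_one : zeta7 ≠ 1 := zeta7_prim.ne_one (by norm_num)

/-- `1 + ζ + ... + ζ⁶ = 0` -/
theorem zeta7_sum : 1 + zeta7 + zeta7 ^ 2 + zeta7 ^ 3 + zeta7 ^ 4 + zeta7 ^ 5 + zeta7 ^ 6 = 0 := by
  have h : (zeta7 - 1) * (1 + zeta7 + zeta7 ^ 2 + zeta7 ^ 3 + zeta7 ^ 4 + zeta7 ^ 5 + zeta7 ^ 6) = 0 := by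
    have : (zeta7 - 1) * (1 + zeta7 + zeta7 ^ 2 + zeta7 ^ 3 + zeta7 ^ 4 + zeta7 ^ 5 + zeta7 ^ 6)
        = zeta7 ^ 7 - 1 := by ring
    rw [this, zeta7_pow, sub_self]
  rcases mul_eq_zero.mp h with h | h
  · exact absurd (sub_eq_zero.mp h) zeta7_ne_one
  · exact h

/-- `alpha7 = ζ + ζ² + ζ⁴` -/
noncomputable def alpha7 : ℂ := zeta7 + zeta7 ^ 2 + zeta7 ^ 4

/-- `alpha7² + alpha7 + 2 = 0` -/
theorem alpha7_sq : alpha7 ^ 2 = -alpha7 - 2 := by
  unfold alpha7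
  have h7 := zeta7_pow
  have hs := zeta7_sum
  have h8 : zeta7 ^ 8 = zeta7 := by rw [pow_succ, h7, one_mul]
  linear_combination (2 : ℂ) * hs + (1 : ℂ) * h8 - 0 * h7

theorem conj_zeta7 : conj zeta7 = zeta7 ^ 6 := by
  have h1 : conj zeta7 = zeta7⁻¹ := by
    unfold zeta7
    rw [← Complex.exp_conj, ← Complex.exp_neg]
    congr 1
    have e2 : (starRingEnd ℂ) (2 : ℂ) = 2 := map_ofNat _ 2
    have e7 : (starRingEnd ℂ) ((7 : ℕ) : ℂ) = ((7 : ℕ) : ℂ) := map_natCast _ 7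
    rw [map_div₀, map_mul, map_mul, e2, e7, Complex.conj_ofReal, Complex.conj_I]
    ring
  rw [h1]
  have h7 := zeta7_pow
  have hne : zeta7 ≠ 0 := fun h => by rw [h] at h7; norm_num at h7
  rw [inv_eq_iff_eq_inv, eq_comm, inv_eq_of_mul_eq_one_left]
  rw [← h7]
  ring

/-- `conj alpha7 = ζ⁶ + ζ⁵ + ζ³ = -1 - alpha7` -/
theorem conj_alpha7 : conj alpha7 = -1 - alpha7 := by
  unfold alpha7
  rw [map_add, map_add, map_pow, map_pow, conj_zeta7]
  have h7 := zeta7_pow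
  have hs := zeta7_sum
  have h12 : (zeta7 ^ 6) ^ 2 = zeta7 ^ 5 := by
    calc (zeta7 ^ 6) ^ 2 = zeta7 ^ 7 * zeta7 ^ 5 := by ring
      _ = zeta7 ^ 5 := by rw [h7, one_mul]
  have h24 : (zeta7 ^ 6) ^ 4 = zeta7 ^ 3 := by
    calc (zeta7 ^ 6) ^ 4 = (zeta7 ^ 7) ^ 3 * zeta7 ^ 3 := by ring
      _ = zeta7 ^ 3 := by rw [h7, one_pow, one_mul]
  rw [h12, h24]
  linear_combination hs

theorem alpha7_mul_conj : alpha7 * conj alpha7 = 2 := by
  rw [conj_alpha7]
  have h := alpha7_sq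
  linear_combination -h

/-- `alpha7` is not real -/
theorem alpha7_im_ne : alpha7.im ≠ 0 := by
  intro h
  have hre : (alpha7.re : ℂ) = alpha7 := by
    apply Complex.ext
    · simp
    · simp [h]
  have h2 := alpha7_sq
  rw [← hre] at h2
  have h3 : alpha7.re ^ 2 = -alpha7.re - 2 := by exact_mod_cast h2
  nlinarith [sq_nonneg (alpha7.re + 1 / 2)]

/-- `1` and `alpha7` are linearly independent over the reals: used to split complex identities into integer ones -/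
theorem eq_zero_of_add_mul_alpha7 {a b : ℝ} (h : (a : ℂ) + (b : ℂ) * alpha7 = 0) : a = 0 ∧ b = 0 := by
  have him := congrArg Complex.im h
  simp at him
  have hb : b = 0 := by
    rcases him with h | h
    · exact h
    · exact absurd h alpha7_im_ne
  subst hb
  have hre := congrArg Complex.re h
  simp at hre
  exact ⟨hre, rfl⟩

theorem int_eq_zero_of_add_mul_alpha7 {a b : ℤ} (h : (a : ℂ) + (b : ℂ) * alpha7 = 0) : a = 0 ∧ b = 0 := by
  have h' : ((a : ℝ) : ℂ) + ((b : ℝ) : ℂ) * alpha7 = 0 := by push_cast; exact h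
  obtain ⟨h1, h2⟩ := eq_zero_of_add_mul_alpha7 h'
  exact ⟨by exact_mod_cast h1, by exact_mod_cast h2⟩

end Cfsg.Agent.Lib.H3.DG
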