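import Mathlib

/-! S4404 piece LIFT (helper3). -/

set_option autoImplicit false

namespace Cfsg.Agent.Lib.H3.FG19

theorem exists_seven_lift {G G' : Type*} [Group G] [Finite G] [Group G'] (ρ : G →* G') (H : Subgroup G)
    (B : G') (hB : B ∈ H.map ρ) (hB7 : B ^ 7 = 1) : ∃ b ∈ H, ρ b = B ∧ ∃ k : ℕ, b ^ 7 ^ k = 1 := by
  obtain ⟨b0, hb0H, rfl⟩ := hB
  have hpos : orderOf b0 ≠ 0 := (orderOf_pos b0).ne'
  obtain ⟨k, m, hm, hkm⟩ := Nat.exists_eq_pow_mul_and_not_dvd hpos 7 (by norm_num)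
  have hcop : Nat.Coprime m 7 := ((Nat.Prime.coprime_iff_not_dvd (by norm_num)).2 hm).symm
  obtain ⟨m', -, hm'⟩ := Nat.exists_mul_mod_eq_one_of_coprime hcop (by norm_num)
  refine ⟨b0 ^ (m * m'), H.pow_mem hb0H _, ?_, k, ?_⟩
  · rw [map_pow]
    have : m * m' = 7 * (m * m' / 7) + 1 := by
      have := Nat.div_add_mod (m * m') 7
      omega
    rw [this, pow_succ, pow_mul, hB7, one_pow, one_mul]
  · rw [← pow_mul, show m * m' * 7 ^ k = orderOf b0 * m' by rw [hkm]; ring, pow_mul, pow_orderOf_eq_one,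
      one_pow]

end Cfsg.Agent.Lib.H3.FG19
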