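import Mathlib

/-!
helper3 library: minimal normal subgroups of solvable groups and faithful primitive actions.
-/

set_option autoImplicit false

namespace Cfsg.Agent.Lib.H3

variable {G : Type*} [Group G]

/-- An abelian minimal normal subgroup of a finite group has prime exponent and prime-power order. -/
theorem minNormal_exists_prime_pow [Finite G] (M : Subgroup G) [hMn : M.Normal]
    (hM : M ≠ ⊥) (hmin : ∀ K : Subgroup G, K.Normal → K ≤ M → K = ⊥ ∨ K = M)
    (hcomm : ∀ x ∈ M, ∀ y ∈ M, x * y = y * x) :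
    ∃ p d : ℕ, p.Prime ∧ 0 < d ∧ Nat.card M = p ^ d ∧ ∀ m ∈ M, m ^ p = 1 := by
  have hnt : Nontrivial M := (Subgroup.nontrivial_iff_ne_bot M).2 hM
  have h1 : 1 < Nat.card M := Finite.one_lt_card_iff_nontrivial.2 hnt
  obtain ⟨p, hp, hpd⟩ := Nat.exists_prime_and_dvd h1.ne'
  have : Fact p.Prime := ⟨hp⟩
  let K : Subgroup G :=
    { carrier := {m | m ∈ M ∧ m ^ p = 1}
      mul_mem' := by
        rintro x y ⟨hx, hx1⟩ ⟨hy, hy1⟩
        refine ⟨M.mul_mem hx hy, ?_⟩
        rw [(show Commute x y from hcomm x hx y hy).mul_pow, hx1, hy1, one_mul]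
      one_mem' := ⟨M.one_mem, one_pow _⟩
      inv_mem' := by
        rintro x ⟨hx, hx1⟩
        exact ⟨M.inv_mem hx, by rw [inv_pow, hx1, inv_one]⟩ }
  have hKn : K.Normal := by
    constructor
    rintro x ⟨hx, hx1⟩ g
    refine ⟨hMn.conj_mem x hx g, ?_⟩
    rw [conj_pow, hx1, mul_one, mul_inv_cancel]
  have hKM : K ≤ M := fun x hx => hx.1
  obtain ⟨⟨m0, hm0⟩, hm0o⟩ := exists_prime_orderOf_dvd_card' (G := M) p hpd
  have hKne : K ≠ ⊥ := by
    intro hK
    have hmem : m0 ∈ K := by
      refine ⟨hm0, ?_⟩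
      have := pow_orderOf_eq_one (⟨m0, hm0⟩ : M)
      rw [hm0o] at this
      exact congrArg Subtype.val this
    rw [hK, Subgroup.mem_bot] at hmem
    subst hmem
    have : (⟨1, hm0⟩ : M) = 1 := rfl
    rw [this, orderOf_one] at hm0o
    exact hp.one_lt.ne hm0o
  have hKeq : K = M := (hmin K hKn hKM).resolve_left hKne
  have hexp : ∀ m ∈ M, m ^ p = 1 := by
    intro m hm
    have : m ∈ K := by rw [hKeq]; exact hm
    exact this.2
  have hpg : IsPGroup p M := by
    intro m
    refine ⟨1, ?_⟩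
    rw [pow_one]
    apply Subtype.ext
    simpa using hexp m.1 m.2
  obtain ⟨d, hd⟩ := IsPGroup.iff_card.1 hpg
  refine ⟨p, d, hp, ?_, hd, hexp⟩
  rcases Nat.eq_zero_or_pos d with h0 | h0
  · rw [h0, pow_zero] at hd; omega
  · exact h0

/-- A minimal normal subgroup of a solvable group is abelian. -/
theorem minNormal_comm_of_isSolvable [Group.IsSolvable G] (M : Subgroup G) [hMn : M.Normal]
    (hM : M ≠ ⊥) (hmin : ∀ K : Subgroup G, K.Normal → K ≤ M → K = ⊥ ∨ K = M) :
    ∀ x ∈ M, ∀ y ∈ M, x * y = y * x := by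
  have hlt : ⁅M, M⁆ < M := Group.IsSolvable.commutator_lt_of_ne_bot hM
  have hn : (⁅M, M⁆ : Subgroup G).Normal := inferInstance
  have hbot : ⁅M, M⁆ = ⊥ := by
    rcases hmin _ hn hlt.le with h | h
    · exact h
    · exact absurd h hlt.ne
  intro x hx y hy
  have := Subgroup.commutator_mem_commutator hx hy
  rw [hbot, Subgroup.mem_bot, commutatorElement_eq_one_iff_mul_comm] at this
  exact this

variable {Ω : Type*} [MulAction G Ω]

/-- A nontrivial normal subgroup of a faithful primitive group is transitive. -/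
theorem isPretransitive_of_normal_of_isPreprimitive [FaithfulSMul G Ω]
    (hprim : MulAction.IsPreprimitive G Ω) (M : Subgroup G) [hMn : M.Normal] (hM : M ≠ ⊥) :
    MulAction.IsPretransitive M Ω := by
  apply MulAction.IsQuasiPreprimitive.isPretransitive_of_normal (G := G)
  intro h
  apply hM
  rw [eq_bot_iff]
  intro m hm
  rw [Subgroup.mem_bot]
  apply FaithfulSMul.eq_of_smul_eq_smul (α := Ω)
  intro ω
  have : ω ∈ MulAction.fixedPoints M Ω := by rw [h]; trivial
  rw [one_smul]
  exact this ⟨m, hm⟩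

/-- An abelian transitive subgroup of a faithful action is regular. -/
theorem eq_one_of_smul_eq_of_comm_of_isPretransitive [FaithfulSMul G Ω] (M : Subgroup G)
    (hcomm : ∀ x ∈ M, ∀ y ∈ M, x * y = y * x) (htr : MulAction.IsPretransitive M Ω)
    {m : G} (hm : m ∈ M) {ω : Ω} (hfix : m • ω = ω) : m = 1 := by
  apply FaithfulSMul.eq_of_smul_eq_smul (α := Ω)
  intro ω'
  obtain ⟨⟨n, hn⟩, hn'⟩ := MulAction.exists_smul_eq M ω ω'
  have hn'' : n • ω = ω' := hn'
  rw [one_smul, ← hn'', ← mul_smul, hcomm m hm n hn, mul_smul, hfix]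

end Cfsg.Agent.Lib.H3
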