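import Mathlib

/-!
helper3 library: minimal normal subgroups, Wielandt's theorem on joins of subnormal subgroups
(finite groups).
-/

set_option autoImplicit false

namespace Cfsg.Agent.Lib.H3

variable {G : Type*} [Group G]

/-- `M` is a minimal normal subgroup of `G`. -/
def IsMinNormal (M : Subgroup G) : Prop :=
  M.Normal ∧ M ≠ ⊥ ∧ ∀ K : Subgroup G, K.Normal → K ≤ M → K = ⊥ ∨ K = M

/-- Every nontrivial normal subgroup of a finite group contains a minimal normal subgroup. -/
theorem exists_isMinNormal_le [Finite G] (N : Subgroup G) (hN : N.Normal) (hN1 : N ≠ ⊥) :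
    ∃ M : Subgroup G, IsMinNormal M ∧ M ≤ N := by
  obtain ⟨M, ⟨hMn, hM1, hMN⟩, hmin⟩ := exists_minimal_of_wellFoundedLT
    (fun K : Subgroup G => K.Normal ∧ K ≠ ⊥ ∧ K ≤ N) ⟨N, hN, hN1, le_rfl⟩
  refine ⟨M, ⟨hMn, hM1, ?_⟩, hMN⟩
  intro K hKn hKM
  by_cases hK : K = ⊥
  · exact Or.inl hK
  · right
    exact le_antisymm hKM (hmin ⟨hKn, hK, hKM.trans hMN⟩ hKM)

theorem IsMinNormal.map_equiv {G' : Type*} [Group G'] {M : Subgroup G} (hM : IsMinNormal M)
    (φ : G ≃* G') : IsMinNormal (M.map φ.toMonoidHom) := by
  obtain ⟨hMn, hM1, hmin⟩ := hM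
  refine ⟨hMn.map _ φ.surjective, ?_, ?_⟩
  · intro h
    apply hM1
    rwa [Subgroup.map_eq_bot_iff_of_injective _ φ.injective] at h
  · intro K hKn hKM
    have h1 : K.comap φ.toMonoidHom ≤ M := by
      intro x hx
      obtain ⟨y, hy, hxy⟩ := hKM hx
      have : y = x := φ.injective hxy
      rwa [← this]
    have hK : K = (K.comap φ.toMonoidHom).map φ.toMonoidHom :=
      (Subgroup.map_comap_eq_self_of_surjective φ.surjective K).symm
    rcases hmin _ (hKn.comap _) h1 with h | h
    · left; rw [hK, h, Subgroup.map_bot]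
    · right; rw [hK, h]

/-- A minimal normal subgroup of a finite group normalizes every subnormal subgroup. -/
theorem isMinNormal_le_normalizer.{u} :
    ∀ (n : ℕ) (G : Type u) [Group G] [Finite G], Nat.card G = n →
      ∀ (H M : Subgroup G), H.IsSubnormal → IsMinNormal M →
        M ≤ Subgroup.normalizer (H : Set G) := by
  intro n
  induction n using Nat.strong_induction_on with
  | _ n ih =>
  intro G _ _ hcard H M hH hM
  obtain ⟨hMn, hM1, hMmin⟩ := hM
  rcases hH.lt_normal with rfl | ⟨N, hNn, hHN, hNlt⟩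
  · rw [Subgroup.normalizer_eq_top_iff.2 inferInstance]; exact le_top
  by_cases hMN : M ⊓ N = ⊥
  · -- M centralizes N
    have hdisj : Disjoint M N := disjoint_iff.2 hMN
    have hcomm := Subgroup.commute_of_normal_of_disjoint M N hMn hNn hdisj
    refine le_trans ?_ (Subgroup.centralizer_le_normalizer (H : Set G))
    intro m hm
    rw [Subgroup.mem_centralizer_iff]
    intro h hh
    exact (hcomm m h hm (hHN hh)).eq.symm
  · have hMleN : M ≤ N := by
      have hn : (M ⊓ N).Normal := inferInstance
      rcases hMmin _ hn inf_le_left with h | h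
      · exact absurd h hMN
      · rw [← h]; exact inf_le_right
    -- pass to N
    have hNcard : Nat.card N < n := by
      rw [← hcard]
      exact lt_of_le_of_ne (Subgroup.card_le_card_group N)
        (fun h => hNlt.ne (Subgroup.eq_top_of_card_eq N h))
    have hM'n : (M.subgroupOf N).Normal := hMn.subgroupOf N
    have hM'1 : M.subgroupOf N ≠ ⊥ := by
      intro h
      apply hM1
      rw [Subgroup.subgroupOf_eq_bot] at h
      rw [disjoint_iff, inf_of_le_left hMleN] at h
      exact h
    obtain ⟨M1, hM1min, hM1le⟩ := exists_isMinNormal_le (M.subgroupOf N) hM'n hM'1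
    have hH' : (H.subgroupOf N).IsSubnormal := hH.subgroupOf
    -- the pieces
    have hpiece : ∀ g : G, (M1.map (MulAut.conjNormal g : N ≃* N).toMonoidHom).map N.subtype ≤
        Subgroup.normalizer (H : Set G) := by
      intro g
      have h1 := ih _ hNcard N rfl (H.subgroupOf N) _ hH' (hM1min.map_equiv (MulAut.conjNormal g))
      rw [← Subgroup.subgroupOf_normalizer_eq hHN] at h1
      rw [Subgroup.map_le_iff_le_comap]
      exact h1
    set J : Subgroup G := ⨆ g : G, (M1.map (MulAut.conjNormal g : N ≃* N).toMonoidHom).map N.subtype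
      with hJ
    have hJle : J ≤ Subgroup.normalizer (H : Set G) := iSup_le hpiece
    have hJM : J ≤ M := by
      apply iSup_le
      intro g
      rintro _ ⟨_, ⟨x, hx, rfl⟩, rfl⟩
      have hxM : (x : G) ∈ M := hM1le hx
      simp only [MulEquiv.coe_toMonoidHom, Subgroup.coe_subtype, MulAut.conjNormal_apply]
      exact hMn.conj_mem _ hxM g
    have hJn : J.Normal := by
      constructor
      intro y hy x
      have hmap : J.map (MulAut.conj x).toMonoidHom ≤ J := by
        rw [hJ, Subgroup.map_iSup]
        apply iSup_le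
        intro g
        refine le_trans ?_ (le_iSup _ (x * g))
        rintro _ ⟨_, ⟨_, ⟨z, hz, rfl⟩, rfl⟩, rfl⟩
        refine ⟨_, ⟨z, hz, rfl⟩, ?_⟩
        simp only [MulEquiv.coe_toMonoidHom, Subgroup.coe_subtype, MulAut.conjNormal_apply,
          MulAut.conj_apply]
        group
      have := hmap (Subgroup.mem_map_of_mem _ hy)
      simpa using this
    have hJ1 : J ≠ ⊥ := by
      intro h
      have h1 : (M1.map (MulAut.conjNormal (1 : G) : N ≃* N).toMonoidHom).map N.subtype ≤ J :=
        le_iSup (fun g : G => (M1.map (MulAut.conjNormal g : N ≃* N).toMonoidHom).map N.subtype) 1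
      rw [h, le_bot_iff, Subgroup.map_eq_bot_iff_of_injective _ N.subtype_injective,
        Subgroup.map_eq_bot_iff_of_injective _ (MulEquiv.injective _)] at h1
      exact hM1min.2.1 h1
    rcases hMmin J hJn hJM with h | h
    · exact absurd h hJ1
    · rw [← h]; exact hJle

/-- The normalizer of a join contains the intersection of the normalizers. -/
theorem normalizer_inf_le_normalizer_sup (A B : Subgroup G) :
    Subgroup.normalizer (A : Set G) ⊓ Subgroup.normalizer (B : Set G) ≤
      Subgroup.normalizer ((A ⊔ B : Subgroup G) : Set G) := by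
  rintro x ⟨hA, hB⟩
  change x ∈ Subgroup.normalizer (A : Set G) at hA
  change x ∈ Subgroup.normalizer (B : Set G) at hB
  rw [Subgroup.mem_normalizer_iff_map_conj_eq] at hA hB ⊢
  rw [Subgroup.map_sup, hA, hB]

/-- **Wielandt**: the join of two subnormal subgroups of a finite group is subnormal. -/
theorem isSubnormal_sup.{u} :
    ∀ (n : ℕ) (G : Type u) [Group G] [Finite G], Nat.card G = n →
      ∀ (A B : Subgroup G), A.IsSubnormal → B.IsSubnormal → (A ⊔ B).IsSubnormal := by
  intro n
  induction n using Nat.strong_induction_on with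
  | _ n ih =>
  intro G _ _ hcard A B hA hB
  rcases subsingleton_or_nontrivial G with hsub | hnt
  · have : A ⊔ B = ⊤ := Subsingleton.elim _ _
    rw [this]; exact Subgroup.IsSubnormal.top
  obtain ⟨M, hMmin, -⟩ := exists_isMinNormal_le (⊤ : Subgroup G) inferInstance top_ne_bot
  have hMn : M.Normal := hMmin.1
  have hs := QuotientGroup.mk'_surjective M
  have hMnt : Nontrivial M := (Subgroup.nontrivial_iff_ne_bot M).2 hMmin.2.1
  have hQlt : Nat.card (G ⧸ M) < n := by
    rw [← hcard, Subgroup.card_eq_card_quotient_mul_card_subgroup M]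
    exact lt_mul_of_one_lt_right Nat.card_pos (Finite.one_lt_card_iff_nontrivial.2 hMnt)
  have h1 := ih _ hQlt (G ⧸ M) rfl _ _ (hA.map hs) (hB.map hs)
  have h2 := h1.comap (QuotientGroup.mk' M)
  rw [← Subgroup.map_sup, Subgroup.comap_map_eq, QuotientGroup.ker_mk'] at h2
  have hle : A ⊔ B ≤ A ⊔ B ⊔ M := le_sup_left
  have hMN : M ≤ Subgroup.normalizer ((A ⊔ B : Subgroup G) : Set G) :=
    le_trans (le_inf (isMinNormal_le_normalizer _ G rfl A M hA hMmin)
      (isMinNormal_le_normalizer _ G rfl B M hB hMmin)) (normalizer_inf_le_normalizer_sup A B)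
  have hN : ((A ⊔ B).subgroupOf (A ⊔ B ⊔ M)).Normal :=
    (Subgroup.normal_subgroupOf_iff_le_normalizer hle).2 (sup_le Subgroup.le_normalizer hMN)
  exact Subgroup.IsSubnormal.step _ _ hle h2 hN

end Cfsg.Agent.Lib.H3
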