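import Cfsg.Agent.Lib.H3.HallSystem3
import Cfsg.Agent.Lib.H3.PrimSolv
import Cfsg.Agent.Lib.H3.Wielandt
import Cfsg.Agent.Lib.H1.NilpotentBasic
import Mathlib

/-!
helper3 library: system normalizers cover the central chief factors and avoid the eccentric ones
(minimal normal subgroup version).
-/

set_option autoImplicit false
open scoped Pointwise

namespace Cfsg.Agent.Lib.H3

variable {G : Type*} [Group G]

/-- A normal `p`-subgroup is contained in every Hall `q'`-subgroup for `q ≠ p`. -/
theorem normal_pgroup_le_complement [Finite G] {K : Nat.Primes → Subgroup G}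
    (hK : Cfsg.IsComplementSystem K) {p d : ℕ} (hp : p.Prime) (B : Subgroup G) [B.Normal]
    (hB : Nat.card B = p ^ d) (q : Nat.Primes) (hq : (q : ℕ) ≠ p) : B ≤ K q := by
  rw [← Subgroup.relIndex_eq_one]
  have h1 : (K q).relIndex B ∣ (q : ℕ) ^ (Nat.card G).factorization q := by
    rw [← hK q]; exact relIndex_dvd_index_of_normal_right (K q) B
  have h2 : (K q).relIndex B ∣ p ^ d := by
    rw [← hB]; exact Subgroup.relIndex_dvd_card (K q) B
  have hcop : (p ^ d).Coprime ((q : ℕ) ^ (Nat.card G).factorization q) :=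
    Nat.coprime_pow_primes _ _ hp q.2 (fun h => hq h.symm)
  exact Nat.eq_one_of_dvd_coprimes hcop h2 h1

/-- A central minimal normal subgroup is contained in every system normalizer. -/
theorem le_systemNormalizer_of_le_center [Finite G] [Group.IsSolvable G]
    {K : Nat.Primes → Subgroup G} (hK : Cfsg.IsComplementSystem K) (B : Subgroup G) [B.Normal]
    (hB : B ≠ ⊥) (hmin : ∀ N : Subgroup G, N.Normal → N ≤ B → N = ⊥ ∨ N = B)
    (hcen : B ≤ Subgroup.center G) : B ≤ Cfsg.systemNormalizer K := by
  obtain ⟨p, d, hp, _, hcard, _⟩ := minNormal_exists_prime_pow B hB hmin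
    (minNormal_comm_of_isSolvable B hB hmin)
  unfold Cfsg.systemNormalizer
  rw [le_iInf_iff]
  intro q
  by_cases hq : (q : ℕ) = p
  · exact hcen.trans (Subgroup.center_le_normalizer _)
  · exact (normal_pgroup_le_complement hK hp B hcard q hq).trans Subgroup.le_normalizer

/-- A `p`-subgroup `S` acting on a nontrivial normal `p`-subgroup `B` has a nontrivial fixed
point. -/
theorem exists_ne_one_commute_of_isPGroup [Finite G] {p : ℕ} [Fact p.Prime] (B S : Subgroup G)
    [B.Normal] (hB : IsPGroup p B) (hS : IsPGroup p S) (hB1 : B ≠ ⊥) :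
    ∃ b ∈ B, b ≠ 1 ∧ ∀ s ∈ S, s * b = b * s := by
  set E : Subgroup G := B ⊔ S with hE
  have hEp : IsPGroup p E := IsPGroup.to_sup_of_normal_left' hB hS
    (le_trans le_top (Subgroup.normalizer_eq_top_iff.2 inferInstance).ge)
  have hnil : Group.IsNilpotent E := hEp.isNilpotent
  have hBE : B ≤ E := le_sup_left
  have hSE : S ≤ E := le_sup_right
  have hN : (B.subgroupOf E).Normal := inferInstance
  have hN1 : B.subgroupOf E ≠ ⊥ := by
    intro h
    apply hB1
    rw [Subgroup.subgroupOf_eq_bot] at h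
    rw [eq_bot_iff]
    intro x hx
    have : x ∈ B ⊓ E := ⟨hx, hBE hx⟩
    rw [h.eq_bot] at this
    exact this
  have h1 := Cfsg.Agent.Lib.H1.normal_inf_center_ne_bot (B.subgroupOf E) hN1
  obtain ⟨⟨x, hx⟩, hx1⟩ := (Subgroup.ne_bot_iff_exists_ne_one).1 h1
  have hx1' : x ≠ 1 := fun h => hx1 (Subtype.ext h)
  obtain ⟨hxB, hxZ⟩ := hx
  refine ⟨x, Subgroup.mem_subgroupOf.1 hxB, ?_, ?_⟩
  · intro h
    apply hx1'
    exact Subtype.ext h
  · intro s hs
    have h2 := Subgroup.mem_center_iff.1 hxZ ⟨s, hSE hs⟩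
    exact congrArg Subtype.val h2

/-- The order of a Hall `p'`-subgroup is coprime to `p`. -/
theorem coprime_card_complement [Finite G] {K : Nat.Primes → Subgroup G}
    (hK : Cfsg.IsComplementSystem K) (p : Nat.Primes) : ((p : ℕ)).Coprime (Nat.card (K p)) := by
  have hG0 : Nat.card G ≠ 0 := Nat.card_pos.ne'
  have hp := p.2
  obtain ⟨n, hn⟩ : ∃ n : ℕ, n = (p : ℕ) ^ (Nat.card G).factorization p := ⟨_, rfl⟩
  have hnpos : 0 < n := by rw [hn]; exact pow_pos hp.pos _
  have hGmn : Nat.card G = Nat.card G / n * n := by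
    rw [hn]
    exact (Nat.div_mul_cancel (Nat.ordProj_dvd _ _)).symm
  have hcardK : Nat.card (K p) = Nat.card G / n := by
    have h3 := Subgroup.index_mul_card (K p)
    rw [hK p, ← hn] at h3
    have h4 : n * Nat.card (K p) = n * (Nat.card G / n) := by
      rw [h3, mul_comm]; exact hGmn
    exact Nat.eq_of_mul_eq_mul_left hnpos h4
  rw [hcardK, hn]
  exact Nat.coprime_ordCompl hp hG0

/-- An eccentric (non-central) minimal normal subgroup of a finite solvable group avoids every
system normalizer. -/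
theorem inf_systemNormalizer_eq_bot_of_not_le_center [Finite G] [Group.IsSolvable G]
    {K : Nat.Primes → Subgroup G} (hK : Cfsg.IsComplementSystem K) (B : Subgroup G) [B.Normal]
    (hB : B ≠ ⊥) (hmin : ∀ N : Subgroup G, N.Normal → N ≤ B → N = ⊥ ∨ N = B)
    (hcen : ¬ B ≤ Subgroup.center G) : B ⊓ Cfsg.systemNormalizer K = ⊥ := by
  obtain ⟨p, d, hp, hd, hcard, _⟩ := minNormal_exists_prime_pow B hB hmin
    (minNormal_comm_of_isSolvable B hB hmin)
  have hpF : Fact p.Prime := ⟨hp⟩
  set pp : Nat.Primes := ⟨p, hp⟩ with hpp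
  have hBp : IsPGroup p B := IsPGroup.of_card hcard
  set C := Subgroup.centralizer (B : Set G) with hC
  have hCn : C.Normal := Subgroup.normal_centralizer
  have hCtop : C ≠ ⊤ := by
    intro h
    apply hcen
    exact Subgroup.centralizer_eq_top_iff_subset.1 h
  have hQnt : Nontrivial (G ⧸ C) := by
    by_contra hnt
    rw [not_nontrivial_iff_subsingleton] at hnt
    exact hCtop (QuotientGroup.subgroup_eq_top_of_subsingleton C hnt)
  obtain ⟨Mbar, ⟨hMn, hM1, hMmin⟩, _⟩ := exists_isMinNormal_le (⊤ : Subgroup (G ⧸ C))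
    inferInstance top_ne_bot
  obtain ⟨q, e, hq, he, hMcard, _⟩ := minNormal_exists_prime_pow Mbar hM1 hMmin
    (minNormal_comm_of_isSolvable Mbar hM1 hMmin)
  set M := Mbar.comap (QuotientGroup.mk' C) with hM
  have hMnorm : M.Normal := hMn.comap _
  have hrel : C.relIndex M = q ^ e := by
    have h1 := Subgroup.relIndex_ker (K := M) (QuotientGroup.mk' C)
    rw [QuotientGroup.ker_mk', hM,
      Subgroup.map_comap_eq_self_of_surjective (QuotientGroup.mk'_surjective C), hMcard] at h1
    exact h1
  have hMC : ¬ M ≤ C := by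
    intro h
    have h1 : C.relIndex M = 1 := Subgroup.relIndex_eq_one.2 h
    rw [hrel] at h1
    exact absurd h1 (Nat.one_lt_pow he.ne' hq.one_lt).ne'
  set Y := B ⊓ Subgroup.centralizer (M : Set G) with hY
  have hYn : Y.Normal := inferInstance
  have hYB : Y ≠ B := by
    intro h
    apply hMC
    have h1 : B ≤ Subgroup.centralizer (M : Set G) := by rw [← h]; exact inf_le_right
    exact Subgroup.le_centralizer_iff.1 h1
  have hYbot : Y = ⊥ := (hmin Y hYn inf_le_left).resolve_right hYB
  -- elements of `B` commuting with `S` and with ... lie in `Y`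
  have hmemY : ∀ (T : Subgroup G), M ≤ C ⊔ T → ∀ b ∈ B, (∀ t ∈ T, t * b = b * t) → b ∈ Y := by
    intro T hT b hbB hbT
    refine ⟨hbB, ?_⟩
    have h1 : C ⊔ T ≤ Subgroup.centralizer ({b} : Set G) := by
      apply sup_le
      · intro c hc
        rw [Subgroup.mem_centralizer_iff]
        intro x hx
        rw [Set.mem_singleton_iff] at hx
        subst hx
        exact (Subgroup.mem_centralizer_iff.1 hc x hbB)
      · intro t ht
        rw [Subgroup.mem_centralizer_iff]
        intro x hx
        rw [Set.mem_singleton_iff] at hx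
        subst hx
        exact (hbT t ht).symm
    show b ∈ Subgroup.centralizer (M : Set G)
    rw [Subgroup.mem_centralizer_iff]
    intro m hm
    have h2 := h1 (hT hm)
    rw [Subgroup.mem_centralizer_iff] at h2
    exact (h2 b rfl).symm
  have hqp : q ≠ p := by
    intro hqp
    subst hqp
    obtain ⟨S⟩ : Nonempty (Sylow q G) := inferInstance
    set S' : Subgroup G := (S : Subgroup G) ⊓ M with hS'
    have hS'p : IsPGroup q S' := S.2.to_le inf_le_left
    have hsup : M ≤ C ⊔ S' := by
      rw [← Subgroup.relIndex_eq_one]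
      have h1 : (C ⊔ S').relIndex M ∣ q ^ e := by
        rw [← hrel]; exact Subgroup.relIndex_dvd_of_le_left M le_sup_left
      have h2 : (C ⊔ S').relIndex M ∣ (S : Subgroup G).index := by
        refine (Subgroup.relIndex_dvd_of_le_left M (le_sup_right : S' ≤ C ⊔ S')).trans ?_
        rw [hS', Subgroup.inf_relIndex_right]
        exact relIndex_dvd_index_of_normal_right (S : Subgroup G) M
      have hcop : (q ^ e).Coprime (S : Subgroup G).index :=
        (hq.coprime_pow_of_not_dvd S.not_dvd_index).symm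
      exact Nat.eq_one_of_dvd_coprimes hcop h1 h2
    obtain ⟨b, hbB, hb1, hbS⟩ := exists_ne_one_commute_of_isPGroup B S' hBp hS'p hB
    have h3 : b ∈ Y := hmemY S' hsup b hbB hbS
    rw [hYbot, Subgroup.mem_bot] at h3
    exact hb1 h3
  -- the Hall `p'`-subgroup
  have hcopK : p.Coprime (Nat.card (K pp)) := coprime_card_complement hK pp
  have hBK : B ⊓ K pp = ⊥ := by
    apply disjoint_iff.1
    apply Subgroup.disjoint_of_coprime_natCard
    rw [hcard]
    exact Nat.Coprime.pow_left d hcopK
  set H₀ : Subgroup G := M ⊓ K pp with hH₀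
  have hsup : M ≤ C ⊔ H₀ := by
    rw [← Subgroup.relIndex_eq_one]
    have h1 : (C ⊔ H₀).relIndex M ∣ q ^ e := by
      rw [← hrel]; exact Subgroup.relIndex_dvd_of_le_left M le_sup_left
    have h2 : (C ⊔ H₀).relIndex M ∣ p ^ (Nat.card G).factorization p := by
      refine (Subgroup.relIndex_dvd_of_le_left M (le_sup_right : H₀ ≤ C ⊔ H₀)).trans ?_
      rw [hH₀, Subgroup.inf_relIndex_left]
      have h3 := relIndex_dvd_index_of_normal_right (K pp) M
      rw [hK pp] at h3
      exact h3
    have hcop : (q ^ e).Coprime (p ^ (Nat.card G).factorization p) :=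
      Nat.coprime_pow_primes _ _ hq hp hqp
    exact Nat.eq_one_of_dvd_coprimes hcop h1 h2
  rw [eq_bot_iff]
  intro x hx
  obtain ⟨hxB, hxD⟩ := hx
  have hxN : x ∈ Subgroup.normalizer (K pp : Set G) := systemNormalizer_le_normalizer K pp hxD
  have hxY : x ∈ Y := by
    apply hmemY H₀ hsup x hxB
    intro k hk
    have hkK : k ∈ K pp := hk.2
    have h1 : x * k * x⁻¹ * k⁻¹ ∈ B ⊓ K pp := by
      constructor
      · have h2 : k * x⁻¹ * k⁻¹ ∈ B :=
          Subgroup.Normal.conj_mem inferInstance _ (B.inv_mem hxB) k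
        have h3 := B.mul_mem hxB h2
        have h4 : x * (k * x⁻¹ * k⁻¹) = x * k * x⁻¹ * k⁻¹ := by group
        rwa [h4] at h3
      · have h2 : x * k * x⁻¹ ∈ K pp := (Subgroup.mem_normalizer_iff.1 hxN k).1 hkK
        exact (K pp).mul_mem h2 ((K pp).inv_mem hkK)
    rw [hBK, Subgroup.mem_bot, mul_inv_eq_one, mul_inv_eq_iff_eq_mul] at h1
    exact h1.symm
  rw [hYbot] at hxY
  exact hxY

end Cfsg.Agent.Lib.H3
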