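import Mathlib

/-!
helper3 library: general finite-group lemmas.
-/

set_option autoImplicit false

namespace Cfsg.Agent.Lib.H3

variable {G : Type*} [Group G]

/-- A characteristic subgroup of a normal subgroup is normal. -/
theorem normal_map_subtype_of_char (H : Subgroup G) [H.Normal] (K : Subgroup H) [hK : K.Characteristic] :
    (K.map H.subtype).Normal := by
  constructor
  rintro _ ⟨k, hk, rfl⟩ g
  refine ⟨MulAut.conjNormal g k, ?_, ?_⟩
  · exact (Subgroup.characteristic_iff_le_comap.1 hK (MulAut.conjNormal g)) hk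
  · simp [MulAut.conjNormal_apply]

/-- Dedekind's modular law, elementwise, for a normal subgroup `F ≤ H`. -/
theorem inf_sup_eq_of_le_of_normal {H M F : Subgroup G} [F.Normal] (hFH : F ≤ H) :
    H ⊓ (M ⊔ F) = (H ⊓ M) ⊔ F := by
  apply le_antisymm
  · rintro x ⟨hxH, hxMF⟩
    obtain ⟨m, hm, f, hf, rfl⟩ := Subgroup.mem_sup_of_normal_right.1 hxMF
    have hmH : m ∈ H := by
      have : m = (m * f) * f⁻¹ := by group
      rw [this]; exact H.mul_mem hxH (H.inv_mem (hFH hf))
    exact Subgroup.mul_mem_sup (⟨hmH, hm⟩ : m ∈ H ⊓ M) hf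
  · exact sup_le (inf_le_inf_left _ le_sup_left) (le_inf hFH le_sup_right)

end Cfsg.Agent.Lib.H3
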