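import Mathlib
import Cfsg.Agent.Lib.H3.Thompson

/-!
helper3 library: index computations and Sylow subgroups of (sub)normal subgroups.
-/

set_option autoImplicit false

namespace Cfsg.Agent.Lib.H3

variable {G : Type*} [Group G]

/-- Second isomorphism theorem, index form: `[N : P ∩ N] = [PN : P]` for `N` normal. -/
theorem relIndex_eq_relIndex_sup_of_normal [Finite G] (P N : Subgroup G) [N.Normal] :
    P.relIndex N = P.relIndex (P ⊔ N) := by
  have h1 : N.relIndex (P ⊔ N) = N.relIndex P := Subgroup.relIndex_sup_right P N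
  have h2 := relIndex_mul_card_inf (P ⊔ N) P   -- P.relIndex (P⊔N) * card ((P⊔N) ⊓ P) = card (P ⊔ N)
  have h3 := relIndex_mul_card_inf (P ⊔ N) N   -- N.relIndex (P⊔N) * card ((P⊔N) ⊓ N) = card (P ⊔ N)
  have h4 := relIndex_mul_card_inf P N          -- N.relIndex P * card (P ⊓ N) = card P
  have h5 := relIndex_mul_card_inf N P          -- P.relIndex N * card (N ⊓ P) = card N
  rw [inf_of_le_right (le_sup_left : P ≤ P ⊔ N)] at h2
  rw [inf_of_le_right (le_sup_right : N ≤ P ⊔ N), h1] at h3
  rw [inf_comm] at h5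
  have hpos : 0 < Nat.card (P ⊓ N : Subgroup G) := Nat.card_pos
  have hpos2 : 0 < N.relIndex P := by
    rcases Nat.eq_zero_or_pos (N.relIndex P) with h | h
    · rw [h, zero_mul] at h4
      exact absurd h4.symm (Nat.card_pos (α := P)).ne'
    · exact h
  -- P.relIndex (P⊔N) * card P = N.relIndex P * card N
  have h6 : P.relIndex (P ⊔ N) * (N.relIndex P * Nat.card (P ⊓ N : Subgroup G)) =
      N.relIndex P * (P.relIndex N * Nat.card (P ⊓ N : Subgroup G)) := by
    rw [h4, h5, h2, h3]
  have h7 : (N.relIndex P * Nat.card (P ⊓ N : Subgroup G)) * P.relIndex (P ⊔ N) =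
      (N.relIndex P * Nat.card (P ⊓ N : Subgroup G)) * P.relIndex N := by
    rw [mul_comm, h6]; ring
  exact (Nat.eq_of_mul_eq_mul_left (Nat.mul_pos hpos2 hpos) h7).symm

/-- If `p ∤ [G : P]` and `N` is normal then `p ∤ [N : P ∩ N]`. -/
theorem not_dvd_relIndex_of_normal [Finite G] {p : ℕ} (P N : Subgroup G) [N.Normal]
    (h : ¬ p ∣ P.index) : ¬ p ∣ P.relIndex N := by
  rw [relIndex_eq_relIndex_sup_of_normal]
  exact fun h' => h (h'.trans (Subgroup.relIndex_dvd_index_of_le le_sup_left))

/-- If `H` is subnormal in `G` and `p ∤ [G : P]` then `p ∤ [H : P ∩ H]`. -/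
theorem not_dvd_relIndex_of_isSubnormal [Finite G] {p : ℕ} (P : Subgroup G) {H : Subgroup G}
    (hH : H.IsSubnormal) (h : ¬ p ∣ P.index) : ¬ p ∣ P.relIndex H := by
  induction hH with
  | top => rwa [Subgroup.relIndex_top_right]
  | step H K h_le _ hN ih =>
    -- work inside K
    have h1 : ¬ p ∣ (P.subgroupOf K).index := ih
    have h2 := not_dvd_relIndex_of_normal (P.subgroupOf K) (H.subgroupOf K) h1
    rwa [Subgroup.relIndex_subgroupOf h_le] at h2

end Cfsg.Agent.Lib.H3
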