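import Cfsg.Agent.Lib.H3.Supersolvable
import Cfsg.Agent.Lib.H3.Sylow
import Cfsg.Agent.Lib.H3.Basic
import Mathlib

/-!
helper3 library: supersolvable groups II — nilpotency of the commutator subgroup, maximal
subgroups have prime index.
-/

set_option autoImplicit false
open Cfsg
open scoped commutatorElement

namespace Cfsg.Agent.Lib.H3

variable {G : Type*} [Group G]

/-- Commutators centralize a normal cyclic subgroup. -/
theorem commute_commutatorElement_of_normal_zpowers (c : G)
    (hn : (Subgroup.zpowers c).Normal) (a b : G) : Commute ⁅a, b⁆ c := by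
  have key : ∀ a b : G, (a * b) * c * (a * b)⁻¹ = (b * a) * c * (b * a)⁻¹ := by
    intro a b
    obtain ⟨i, hi⟩ := Subgroup.mem_zpowers_iff.1 (hn.conj_mem c (Subgroup.mem_zpowers c) a)
    obtain ⟨j, hj⟩ := Subgroup.mem_zpowers_iff.1 (hn.conj_mem c (Subgroup.mem_zpowers c) b)
    have h1 : a * b * c * (a * b)⁻¹ = c ^ (i * j) := by
      calc a * b * c * (a * b)⁻¹ = a * (b * c * b⁻¹) * a⁻¹ := by group
        _ = a * c ^ j * a⁻¹ := by rw [hj]
        _ = (a * c * a⁻¹) ^ j := by rw [conj_zpow]
        _ = c ^ (i * j) := by rw [← hi, zpow_mul]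
    have h2 : b * a * c * (b * a)⁻¹ = c ^ (j * i) := by
      calc b * a * c * (b * a)⁻¹ = b * (a * c * a⁻¹) * b⁻¹ := by group
        _ = b * c ^ i * b⁻¹ := by rw [hi]
        _ = (b * c * b⁻¹) ^ i := by rw [conj_zpow]
        _ = c ^ (j * i) := by rw [← hj, zpow_mul]
    rw [h1, h2, mul_comm]
  have h := key a⁻¹ b⁻¹
  have e : ⁅a, b⁆ = (b⁻¹ * a⁻¹)⁻¹ * (a⁻¹ * b⁻¹) := by
    rw [commutatorElement_def]; group
  show ⁅a, b⁆ * c = c * ⁅a, b⁆
  rw [e]
  calc (b⁻¹ * a⁻¹)⁻¹ * (a⁻¹ * b⁻¹) * c
      = (b⁻¹ * a⁻¹)⁻¹ * ((a⁻¹ * b⁻¹) * c * (a⁻¹ * b⁻¹)⁻¹) * (a⁻¹ * b⁻¹) := by group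
    _ = (b⁻¹ * a⁻¹)⁻¹ * ((b⁻¹ * a⁻¹) * c * (b⁻¹ * a⁻¹)⁻¹) * (a⁻¹ * b⁻¹) := by rw [h]
    _ = c * ((b⁻¹ * a⁻¹)⁻¹ * (a⁻¹ * b⁻¹)) := by group

/-- A cyclic step `K ⊔ ⟨g⟩` over `K` (both normal) is centralized modulo `K` by the
commutator subgroup. -/
theorem comm_mem_of_mem_sup_zpowers (K : Subgroup G) [hK : K.Normal] (g : G)
    (hn : (K ⊔ Subgroup.zpowers g).Normal) {x c : G} (hx : x ∈ K ⊔ Subgroup.zpowers g)
    (hc : c ∈ commutator G) : x * c * x⁻¹ * c⁻¹ ∈ K := by
  have hsurj := QuotientGroup.mk'_surjective K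
  have hKb : K.map (QuotientGroup.mk' K) = ⊥ :=
    (Subgroup.map_eq_bot_iff _).2 (by rw [QuotientGroup.ker_mk'])
  have hn' : (Subgroup.zpowers (QuotientGroup.mk' K g)).Normal := by
    have := hn.map (QuotientGroup.mk' K) hsurj
    rwa [Subgroup.map_sup, MonoidHom.map_zpowers, hKb, bot_sup_eq] at this
  have hle : commutator G ≤
      (Subgroup.centralizer (Subgroup.zpowers (QuotientGroup.mk' K g) : Set (G ⧸ K))).comap
        (QuotientGroup.mk' K) := by
    rw [commutator_def, Subgroup.commutator_le]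
    intro a _ b _
    rw [Subgroup.mem_comap, map_commutatorElement, Subgroup.mem_centralizer_iff]
    intro y hy
    obtain ⟨k, rfl⟩ := Subgroup.mem_zpowers_iff.1 hy
    exact ((commute_commutatorElement_of_normal_zpowers _ hn' _ _).zpow_right k).eq.symm
  have hxz : QuotientGroup.mk' K x ∈ Subgroup.zpowers (QuotientGroup.mk' K g) := by
    have : QuotientGroup.mk' K x ∈ (K ⊔ Subgroup.zpowers g).map (QuotientGroup.mk' K) :=
      Subgroup.mem_map_of_mem _ hx
    rwa [Subgroup.map_sup, MonoidHom.map_zpowers, hKb, bot_sup_eq] at this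
  have hcomm := Subgroup.mem_centralizer_iff.1 (hle hc) _ hxz
  rw [← QuotientGroup.eq_one_iff (N := K)]
  have : ((x * c * x⁻¹ * c⁻¹ : G) : G ⧸ K) =
      QuotientGroup.mk' K x * QuotientGroup.mk' K c * (QuotientGroup.mk' K x)⁻¹ *
        (QuotientGroup.mk' K c)⁻¹ := by
    simp
  rw [this, hcomm]; group

theorem SSReach.exists_le_upperCentralSeries {K : Subgroup G} (h : SSReach K) :
    ∃ n, K.subgroupOf (commutator G) ≤ Subgroup.upperCentralSeries (commutator G) n := by
  induction h with
  | bot => exact ⟨0, by rw [Subgroup.bot_subgroupOf]; exact bot_le⟩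
  | step K g hK hn ih =>
    obtain ⟨n, hle⟩ := ih
    have := hK.normal
    refine ⟨n + 1, fun x hx => ?_⟩
    rw [Subgroup.mem_upperCentralSeries_succ_iff]
    intro y
    apply hle
    rw [Subgroup.mem_subgroupOf] at hx ⊢
    have := comm_mem_of_mem_sup_zpowers K g hn hx y.2
    simpa [commutatorElement_def] using this

theorem isNilpotent_commutator_of_ssReach (h : SSReach (⊤ : Subgroup G)) :
    Group.IsNilpotent (commutator G) := by
  obtain ⟨n, hn⟩ := h.exists_le_upperCentralSeries
  rw [Subgroup.top_subgroupOf, top_le_iff] at hn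
  exact ⟨⟨n, hn⟩⟩

/-- A subgroup of a normal cyclic subgroup is normal. -/
theorem normal_of_le_normal_zpowers {c : G} (hn : (Subgroup.zpowers c).Normal) {D : Subgroup G}
    (hle : D ≤ Subgroup.zpowers c) : D.Normal := by
  constructor
  intro y hy x
  obtain ⟨k, rfl⟩ := Subgroup.mem_zpowers_iff.1 (hle hy)
  obtain ⟨i, hi⟩ := Subgroup.mem_zpowers_iff.1 (hn.conj_mem c (Subgroup.mem_zpowers c) x)
  have : x * c ^ k * x⁻¹ = (c ^ k) ^ i := by
    rw [← conj_zpow, ← hi, ← zpow_mul, ← zpow_mul, mul_comm]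
  rw [this]
  exact D.zpow_mem hy i

/-- A normal maximal subgroup of a finite group has prime index. -/
theorem index_prime_of_normal_isCoatom [Finite G] {M : Subgroup G} [hMn : M.Normal]
    (hM : IsCoatom M) : M.index.Prime := by
  have h1 : M.index ≠ 1 := fun h => hM.1 (Subgroup.index_eq_one.1 h)
  have hp := Nat.minFac_prime h1
  have : Fact (Nat.minFac M.index).Prime := ⟨hp⟩
  have hdvd : Nat.minFac M.index ∣ Nat.card (G ⧸ M) := by
    rw [← Subgroup.index_eq_card]; exact Nat.minFac_dvd _
  obtain ⟨xb, hxb⟩ := exists_prime_orderOf_dvd_card' (Nat.minFac M.index) hdvd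
  obtain ⟨x, rfl⟩ := QuotientGroup.mk_surjective xb
  have hxM : x ∉ M := by
    intro hx
    have : ((x : G) : G ⧸ M) = 1 := (QuotientGroup.eq_one_iff x).2 hx
    rw [this, orderOf_one] at hxb
    exact hp.one_lt.ne hxb
  have htop : M ⊔ Subgroup.zpowers x = ⊤ := by
    apply hM.2
    refine lt_of_le_of_ne le_sup_left ?_
    intro h
    apply hxM
    rw [h]
    exact Subgroup.mem_sup_right (Subgroup.mem_zpowers x)
  have hz : Subgroup.zpowers (QuotientGroup.mk' M x) = ⊤ := by
    have := congrArg (Subgroup.map (QuotientGroup.mk' M)) htop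
    rwa [Subgroup.map_sup, MonoidHom.map_zpowers,
      Subgroup.map_top_of_surjective _ (QuotientGroup.mk'_surjective M),
      (Subgroup.map_eq_bot_iff _).2 (by rw [QuotientGroup.ker_mk']), bot_sup_eq] at this
  have hcard : orderOf (QuotientGroup.mk' M x) = Nat.card (G ⧸ M) :=
    orderOf_eq_card_of_forall_mem_zpowers (fun y => by rw [hz]; trivial)
  rw [Subgroup.index_eq_card, ← hcard]
  exact hxb ▸ hp

theorem isCoatom_map_of_surjective {H : Type*} [Group H] {φ : G →* H}
    (hφ : Function.Surjective φ) {M : Subgroup G} (hker : φ.ker ≤ M) (hM : IsCoatom M) :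
    IsCoatom (M.map φ) := by
  constructor
  · intro h
    apply hM.1
    have := congrArg (Subgroup.comap φ) h
    rwa [Subgroup.comap_map_eq_self hker, Subgroup.comap_top] at this
  · intro X hX
    have h1 : M < X.comap φ := by
      have := (Subgroup.comap_lt_comap_of_surjective hφ).2 hX
      rwa [Subgroup.comap_map_eq_self hker] at this
    have := hM.2 _ h1
    rw [← Subgroup.map_comap_eq_self_of_surjective hφ X, this,
      Subgroup.map_top_of_surjective _ hφ]

/-- A maximal subgroup not containing a normal cyclic subgroup has prime index. -/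
theorem index_prime_of_isCoatom_of_normal_zpowers [Finite G] {M : Subgroup G} (hM : IsCoatom M)
    {c : G} (hn : (Subgroup.zpowers c).Normal) (hc : c ∉ M) : M.index.Prime := by
  set C := Subgroup.zpowers c with hC
  have hCM : ¬ C ≤ M := fun h => hc (h (Subgroup.mem_zpowers c))
  have hidx : M.index = (M.subgroupOf C).index := by
    have htop : M ⊔ C = ⊤ := by
      apply hM.2
      exact lt_of_le_of_ne le_sup_left (fun h => hCM (h ▸ le_sup_right))
    have := relIndex_eq_relIndex_sup_of_normal M C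
    rw [htop, Subgroup.relIndex_top_right] at this
    exact this.symm
  -- `M.subgroupOf C` is normal in the commutative group `C`
  have hcomm : ∀ x y : C, x * y = y * x := by
    intro x y
    obtain ⟨i, hi⟩ := Subgroup.mem_zpowers_iff.1 x.2
    obtain ⟨j, hj⟩ := Subgroup.mem_zpowers_iff.1 y.2
    apply Subtype.ext
    simp only [Subgroup.coe_mul, ← hi, ← hj]
    exact (Commute.refl c).zpow_zpow i j |>.eq
  have hnorm : (M.subgroupOf C).Normal := by
    constructor
    intro y hy x
    have : x * y * x⁻¹ = y := by rw [hcomm x y, mul_inv_cancel_right]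
    rwa [this]
  have hco : IsCoatom (M.subgroupOf C) := by
    constructor
    · rw [Ne, Subgroup.subgroupOf_eq_top]; exact hCM
    · intro D' hD'
      set D := D'.map C.subtype with hD
      have hDC : D ≤ C := Subgroup.map_subtype_le D'
      have hDn : D.Normal := normal_of_le_normal_zpowers hn hDC
      have hMD : M ⊓ C ≤ D := by
        rintro x ⟨hxM, hxC⟩
        exact ⟨⟨x, hxC⟩, hD'.le (Subgroup.mem_subgroupOf.2 hxM), rfl⟩
      have hDM : ¬ D ≤ M := by
        intro h
        apply hD'.not_ge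
        intro y hy
        exact Subgroup.mem_subgroupOf.2 (h ⟨y, hy, rfl⟩)
      have htop : M ⊔ D = ⊤ := by
        apply hM.2
        exact lt_of_le_of_ne le_sup_left (fun h => hDM (h ▸ le_sup_right))
      have hded := inf_sup_eq_of_le_of_normal (H := C) (M := M) (F := D) hDC
      rw [htop, inf_top_eq, inf_comm, sup_eq_right.2 hMD] at hded
      rw [eq_top_iff]
      intro x _
      have hx : (x : G) ∈ D := by rw [← hded]; exact x.2
      obtain ⟨y, hy, hyx⟩ := hx
      have : y = x := Subtype.ext hyx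
      rwa [← this]
  rw [hidx]
  exact index_prime_of_normal_isCoatom hco

/-- One cyclic step `K ≤ K ⊔ ⟨g⟩` of a normal chain: a maximal subgroup containing `K` but not `g`
has prime index. -/
theorem index_prime_of_isCoatom_of_step [Finite G] {M : Subgroup G} (hM : IsCoatom M)
    (K : Subgroup G) [hK : K.Normal] (g : G) (hn : (K ⊔ Subgroup.zpowers g).Normal)
    (hKM : K ≤ M) (hg : g ∉ M) : M.index.Prime := by
  have hsurj := QuotientGroup.mk'_surjective K
  have hker : (QuotientGroup.mk' K).ker ≤ M := by rwa [QuotientGroup.ker_mk']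
  have hKb : K.map (QuotientGroup.mk' K) = ⊥ :=
    (Subgroup.map_eq_bot_iff _).2 (by rw [QuotientGroup.ker_mk'])
  have hn' : (Subgroup.zpowers (QuotientGroup.mk' K g)).Normal := by
    have := hn.map (QuotientGroup.mk' K) hsurj
    rwa [Subgroup.map_sup, MonoidHom.map_zpowers, hKb, bot_sup_eq] at this
  have hco := isCoatom_map_of_surjective hsurj hker hM
  have hg' : QuotientGroup.mk' K g ∉ M.map (QuotientGroup.mk' K) := by
    intro h
    apply hg
    have : g ∈ (M.map (QuotientGroup.mk' K)).comap (QuotientGroup.mk' K) := h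
    rwa [Subgroup.comap_map_eq_self hker] at this
  have := index_prime_of_isCoatom_of_normal_zpowers hco hn' hg'
  rwa [Subgroup.index_map_eq _ hsurj hker] at this

theorem SSReach.le_or_index_prime [Finite G] {M : Subgroup G} (hM : IsCoatom M) {K : Subgroup G}
    (h : SSReach K) : K ≤ M ∨ M.index.Prime := by
  induction h with
  | bot => exact Or.inl bot_le
  | step K g hK hn ih =>
    rcases ih with h1 | h1
    · by_cases hg : g ∈ M
      · left; exact sup_le h1 (by rwa [Subgroup.zpowers_le])
      · right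
        have := hK.normal
        exact index_prime_of_isCoatom_of_step hM K g hn h1 hg
    · exact Or.inr h1

theorem index_prime_of_isCoatom_of_ssReach [Finite G] (h : SSReach (⊤ : Subgroup G))
    {M : Subgroup G} (hM : IsCoatom M) : M.index.Prime := by
  rcases h.le_or_index_prime hM with h1 | h1
  · exact absurd (top_le_iff.1 h1) hM.1
  · exact h1

end Cfsg.Agent.Lib.H3
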