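import Cfsg.Agent.Lib.L0.HallCentral
import Cfsg.Agent.Lib.H1.CoprimeSylow
import Cfsg.Agent.Lib.H3.CoverAvoid
import Cfsg.Agent.Lib.H3.Supersolvable2
import Mathlib

/-!
helper3 library: Herstein's theorem — a finite group with an abelian maximal subgroup is solvable of
derived length at most three.
-/

set_option autoImplicit false
open scoped Pointwise

namespace Cfsg.Agent.Lib.H3

/-- A malnormal subgroup (Frobenius complement) is a Hall subgroup. -/
theorem coprime_card_index_of_malnormal {G : Type*} [Group G] [Finite G] (A : Subgroup G)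
    (hmal : ∀ g : G, g ∉ A → A ⊓ MulAut.conj g • A = ⊥) : (Nat.card A).Coprime A.index := by
  apply Nat.coprime_of_dvd
  intro p hp hpA hpi
  have hpF : Fact p.Prime := ⟨hp⟩
  obtain ⟨x, hx⟩ := exists_prime_orderOf_dvd_card' p hpA
  set Q : Subgroup G := Subgroup.zpowers (x : G) with hQ
  have hxo : orderOf (x : G) = p := by rw [Subgroup.orderOf_coe, hx]
  have hQp : IsPGroup p Q := IsPGroup.of_card (n := 1) (by rw [Nat.card_zpowers, hxo, pow_one])
  have hQA : Q ≤ A := Subgroup.zpowers_le.2 x.2
  have hfix : ((1 : G) : G ⧸ A) ∈ MulAction.fixedPoints Q (G ⧸ A) := by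
    intro q
    change ((((q : G) * 1 : G)) : G ⧸ A) = _
    rw [QuotientGroup.eq]
    simpa using A.inv_mem (hQA q.2)
  obtain ⟨b, hb, hne⟩ := hQp.exists_fixed_point_of_prime_dvd_card_of_fixed_point (G ⧸ A)
    (by rwa [← Subgroup.index_eq_card]) hfix
  obtain ⟨g, rfl⟩ := QuotientGroup.mk_surjective b
  have hgA : g ∉ A := fun h => hne (by rw [QuotientGroup.eq]; simpa using h)
  have hxg : (x : G) ∈ MulAut.conj g • A := by
    have h1 := hb ⟨x, Subgroup.mem_zpowers _⟩
    have h2 : ((((x : G) * g : G)) : G ⧸ A) = (g : G ⧸ A) := h1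
    rw [QuotientGroup.eq] at h2
    rw [Subgroup.mem_pointwise_smul_iff_inv_smul_mem]
    have h3 := A.inv_mem h2
    simpa [MulAut.smul_def, mul_assoc] using h3
  have h4 : (x : G) ∈ A ⊓ MulAut.conj g • A := ⟨x.2, hxg⟩
  rw [hmal g hgA, Subgroup.mem_bot] at h4
  rw [h4, orderOf_one] at hxo
  exact hp.one_lt.ne hxo

/-- A finite group with a malnormal abelian maximal subgroup is metabelian. -/
theorem derivedSeries_two_eq_bot_of_malnormal {G : Type*} [Group G] [Finite G] (A : Subgroup G)
    (hA : IsCoatom A) (hcomm : ∀ a ∈ A, ∀ b ∈ A, a * b = b * a)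
    (hmal : ∀ g : G, g ∉ A → A ⊓ MulAut.conj g • A = ⊥) : derivedSeries G 2 = ⊥ := by
  have hHall := coprime_card_index_of_malnormal A hmal
  have hNC : Subgroup.normalizer (A : Set G) ≤ Subgroup.centralizer (A : Set G) := by
    intro g hg
    rw [Subgroup.mem_centralizer_iff]
    intro a ha
    by_cases hgA : g ∈ A
    · exact hcomm a ha g hgA
    · have h1 := hmal g hgA
      rw [H1.conj_smul_eq_self_iff_mem_normalizer.2 hg, inf_idem] at h1
      have h2 : a = 1 := by
        have ha' : a ∈ A := ha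
        rw [h1] at ha'; exact Subgroup.mem_bot.1 ha'
      rw [h2, one_mul, mul_one]
  obtain ⟨N, hNn, hNc⟩ := L0.exists_normal_complement_of_normalizer_le_centralizer A hHall hNC
  have hdisj : N ⊓ A = ⊥ := hNc.disjoint.eq_bot
  have hsup : N ⊔ A = ⊤ := hNc.sup_eq_top
  have hcardG : Nat.card N * Nat.card A = Nat.card G := hNc.card_mul_card
  have key : ∀ W : Subgroup G, W ≤ N → W ≠ ⊥ → A ≤ Subgroup.normalizer (W : Set G) → W = N := by
    intro W hWN hW1 hAW
    have hWA : ¬ W ≤ A := by
      intro h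
      apply hW1
      rw [eq_bot_iff, ← hdisj]
      exact le_inf hWN h
    have hAWtop : A ⊔ W = ⊤ :=
      hA.2 _ (lt_of_le_of_ne le_sup_left (fun h => hWA (le_sup_right.trans h.ge)))
    have hWn : W.Normal := by
      rw [← Subgroup.normalizer_eq_top_iff, eq_top_iff, ← hAWtop]
      exact sup_le hAW Subgroup.le_normalizer
    have h1 : W.index = W.relIndex A := by
      rw [← Subgroup.relIndex_top_right, ← hAWtop, Subgroup.relIndex_sup_right]
    have h2 : W.index ∣ Nat.card A := h1 ▸ Subgroup.relIndex_dvd_card W A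
    apply Subgroup.eq_of_le_of_card_ge hWN
    have h3 := Subgroup.index_mul_card W
    have h4 : W.index ≤ Nat.card A := Nat.le_of_dvd Nat.card_pos h2
    have h5 : Nat.card A * Nat.card N ≤ Nat.card A * Nat.card W := by
      rw [mul_comm, hcardG, ← h3]; exact Nat.mul_le_mul_right _ h4
    exact Nat.le_of_mul_le_mul_left h5 Nat.card_pos
  have hN1 : N ≠ ⊥ := by
    intro h
    rw [h, bot_sup_eq] at hsup
    exact hA.1 hsup
  have hNnt : Nat.card N ≠ 1 := fun h => hN1 (Subgroup.card_eq_one.1 h)
  obtain ⟨r, hr, hrN⟩ := Nat.exists_prime_and_dvd hNnt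
  have hrF : Fact r.Prime := ⟨hr⟩
  have hidx : A.index = Nat.card N := by
    have h3 := Subgroup.index_mul_card A
    rw [← hcardG] at h3
    exact Nat.eq_of_mul_eq_mul_right Nat.card_pos h3
  have hAsolv : Group.IsSolvable A :=
    Group.isSolvable_of_comm (fun a b => Subtype.ext (hcomm a a.2 b b.2))
  have hcop : H1.CoprimeAction A N :=
    ⟨by rw [Subgroup.normalizer_eq_top_iff.2 hNn]; exact le_top, hidx ▸ hHall,
      Or.inl hAsolv⟩
  obtain ⟨R, hRsyl, hAR⟩ := H1.coprime_exists_invariant_sylow hcop r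
  have hR1 : R ≠ ⊥ := by
    intro h
    have h3 := hRsyl.card_eq
    rw [h, Subgroup.card_bot] at h3
    have h4 : 1 ≤ (Nat.card N).factorization r :=
      (hr.dvd_iff_one_le_factorization Nat.card_pos.ne').1 hrN
    have h5 : 1 < r ^ (Nat.card N).factorization r := Nat.one_lt_pow (by omega) hr.one_lt
    omega
  have hRN : R = N := key R hRsyl.le hR1 hAR
  have hNr : IsPGroup r N := hRN ▸ hRsyl.isPGroup
  obtain ⟨b, hbN, hb1, hbc⟩ := exists_ne_one_commute_of_isPGroup N N hNr hNr hN1
  set Z : Subgroup G := N ⊓ Subgroup.centralizer (N : Set G) with hZ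
  have hZ1 : Z ≠ ⊥ := by
    intro h
    have hbZ : b ∈ Z := by
      refine ⟨hbN, ?_⟩
      show b ∈ Subgroup.centralizer (N : Set G)
      rw [Subgroup.mem_centralizer_iff]
      exact hbc
    rw [h, Subgroup.mem_bot] at hbZ
    exact hb1 hbZ
  have hZn : Z.Normal := inferInstance
  have hZN : Z = N := key Z inf_le_left hZ1
    (by rw [Subgroup.normalizer_eq_top_iff.2 hZn]; exact le_top)
  have hNcomm : ∀ x ∈ N, ∀ y ∈ N, x * y = y * x := by
    intro x hx y hy
    have h3 : y ∈ Z := hZN ▸ hy
    have h2 : y ∈ Subgroup.centralizer (N : Set G) := h3.2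
    rw [Subgroup.mem_centralizer_iff] at h2
    exact h2 x hx
  have hD1 : derivedSeries G 1 ≤ N := by
    rw [derivedSeries_one, commutator_def, Subgroup.commutator_le]
    intro x _ y _
    have hx : x ∈ N ⊔ A := hsup ▸ Subgroup.mem_top x
    have hy : y ∈ N ⊔ A := hsup ▸ Subgroup.mem_top y
    obtain ⟨n, hn, a, ha, rfl⟩ := Subgroup.mem_sup_of_normal_left.1 hx
    obtain ⟨m, hm, b, hb, rfl⟩ := Subgroup.mem_sup_of_normal_left.1 hy
    rw [← QuotientGroup.eq_one_iff, ← QuotientGroup.mk'_apply, map_commutatorElement, map_mul,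
      map_mul]
    have hn' : QuotientGroup.mk' N n = 1 := (QuotientGroup.eq_one_iff n).2 hn
    have hm' : QuotientGroup.mk' N m = 1 := (QuotientGroup.eq_one_iff m).2 hm
    rw [hn', hm', one_mul, one_mul, ← map_commutatorElement,
      commutatorElement_eq_one_iff_mul_comm.2 (hcomm a ha b hb), map_one]
  rw [derivedSeries_succ, eq_bot_iff, Subgroup.commutator_le]
  intro x hx y hy
  rw [Subgroup.mem_bot, commutatorElement_eq_one_iff_mul_comm]
  exact hNcomm x (hD1 hx) y (hD1 hy)


/-- **Herstein**: a finite group with an abelian maximal subgroup has derived length at most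
three. -/
theorem derivedSeries_three_eq_bot_of_abelian_maximal {G : Type*} [Group G] [Finite G]
    (A : Subgroup G) (hA : IsCoatom A) (hcomm : ∀ a ∈ A, ∀ b ∈ A, a * b = b * a) :
    derivedSeries G 3 = ⊥ := by
  by_cases hAn : A.Normal
  · -- normal case
    obtain ⟨g, hg⟩ : ∃ g, g ∉ A := by
      by_contra h
      push Not at h
      exact hA.1 (eq_top_iff.2 (fun x _ => h x))
    have hsup : A ⊔ Subgroup.zpowers g = ⊤ :=
      hA.2 _ (lt_of_le_of_ne le_sup_left
        (fun h => hg (h.ge ((le_sup_right : Subgroup.zpowers g ≤ A ⊔ Subgroup.zpowers g)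
          (Subgroup.mem_zpowers g)))))
    have hD1 : derivedSeries G 1 ≤ A := by
      rw [derivedSeries_one, commutator_def, Subgroup.commutator_le]
      intro x _ y _
      have hx : x ∈ A ⊔ Subgroup.zpowers g := hsup ▸ Subgroup.mem_top x
      have hy : y ∈ A ⊔ Subgroup.zpowers g := hsup ▸ Subgroup.mem_top y
      obtain ⟨a, ha, u, hu, rfl⟩ := Subgroup.mem_sup_of_normal_left.1 hx
      obtain ⟨b, hb, v, hv, rfl⟩ := Subgroup.mem_sup_of_normal_left.1 hy
      obtain ⟨i, rfl⟩ := Subgroup.mem_zpowers_iff.1 hu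
      obtain ⟨j, rfl⟩ := Subgroup.mem_zpowers_iff.1 hv
      rw [← QuotientGroup.eq_one_iff, ← QuotientGroup.mk'_apply, map_commutatorElement, map_mul,
        map_mul]
      have ha' : QuotientGroup.mk' A a = 1 := (QuotientGroup.eq_one_iff a).2 ha
      have hb' : QuotientGroup.mk' A b = 1 := (QuotientGroup.eq_one_iff b).2 hb
      have hc : g ^ i * g ^ j = g ^ j * g ^ i := by rw [← zpow_add, ← zpow_add, add_comm]
      rw [ha', hb', one_mul, one_mul, ← map_commutatorElement,
        commutatorElement_eq_one_iff_mul_comm.2 hc, map_one]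
    have hD2 : derivedSeries G 2 = ⊥ := by
      rw [derivedSeries_succ, eq_bot_iff, Subgroup.commutator_le]
      intro x hx y hy
      rw [Subgroup.mem_bot, commutatorElement_eq_one_iff_mul_comm]
      exact hcomm x (hD1 hx) y (hD1 hy)
    rw [derivedSeries_succ, hD2, Subgroup.commutator_bot_left]
  · -- non-normal case
    set Z := Subgroup.center G with hZ
    have hNA : Subgroup.normalizer (A : Set G) = A := by
      by_contra hne
      have hlt : A < Subgroup.normalizer (A : Set G) :=
        lt_of_le_of_ne Subgroup.le_normalizer (fun h => hne h.symm)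
      exact hAn (Subgroup.normalizer_eq_top_iff.1 (hA.2 _ hlt))
    have hZA : Z ≤ A := by
      by_contra hZA
      have hsup : A ⊔ Z = ⊤ :=
        hA.2 _ (lt_of_le_of_ne le_sup_left (fun h => hZA (le_sup_right.trans h.ge)))
      apply hAn
      rw [← Subgroup.normalizer_eq_top_iff, eq_top_iff, ← hsup]
      exact sup_le Subgroup.le_normalizer
        ((Subgroup.center_le_centralizer _).trans (Subgroup.centralizer_le_normalizer _))
    have hAq : IsCoatom (A.map (QuotientGroup.mk' Z)) :=
      isCoatom_map_of_surjective (QuotientGroup.mk'_surjective Z)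
        (by rw [QuotientGroup.ker_mk']; exact hZA) hA
    have hcommq : ∀ a ∈ A.map (QuotientGroup.mk' Z), ∀ b ∈ A.map (QuotientGroup.mk' Z),
        a * b = b * a := by
      rintro _ ⟨a, ha, rfl⟩ _ ⟨b, hb, rfl⟩
      rw [← map_mul, ← map_mul, hcomm a ha b hb]
    have hmalq : ∀ gb : G ⧸ Z, gb ∉ A.map (QuotientGroup.mk' Z) →
        A.map (QuotientGroup.mk' Z) ⊓ MulAut.conj gb • A.map (QuotientGroup.mk' Z) = ⊥ := by
      intro gb hgb
      obtain ⟨g, rfl⟩ := QuotientGroup.mk'_surjective Z gb
      have hgA : g ∉ A := fun h => hgb (Subgroup.mem_map_of_mem _ h)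
      rw [eq_bot_iff]
      rintro xb ⟨hx1, hx2⟩
      obtain ⟨a, ha, rfl⟩ := hx1
      have hx2' : (QuotientGroup.mk' Z) a ∈
          MulAut.conj ((QuotientGroup.mk' Z) g) • Subgroup.map (QuotientGroup.mk' Z) A := hx2
      rw [Subgroup.mem_pointwise_smul_iff_inv_smul_mem] at hx2'
      replace hx2 := hx2'
      obtain ⟨b, hb, hbx⟩ := hx2
      have h1 : QuotientGroup.mk' Z b = QuotientGroup.mk' Z (g⁻¹ * a * g) := by
        rw [hbx]; simp [MulAut.smul_def, mul_assoc]
      have h2 : b⁻¹ * (g⁻¹ * a * g) ∈ Z := QuotientGroup.eq.1 h1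
      have h3 : g⁻¹ * a * g ∈ A := by
        have := A.mul_mem hb (hZA h2)
        simpa using this
      have hAg : MulAut.conj g • A ≠ A := fun h =>
        hgA (hNA ▸ (H1.conj_smul_eq_self_iff_mem_normalizer.1 h))
      have hAgle : ¬ MulAut.conj g • A ≤ A := by
        intro hle
        apply hAg
        apply Subgroup.eq_of_le_of_card_ge hle
        rw [H1.card_conj_smul]
      have hsup : A ⊔ MulAut.conj g • A = ⊤ :=
        hA.2 _ (lt_of_le_of_ne le_sup_left (fun h => hAgle (le_sup_right.trans h.ge)))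
      have hCa : A ⊔ MulAut.conj g • A ≤ Subgroup.centralizer ({a} : Set G) := by
        apply sup_le
        · intro x hx
          rw [Subgroup.mem_centralizer_iff]
          intro h hh
          rw [Set.mem_singleton_iff] at hh
          rw [hh]; exact hcomm a ha x hx
        · intro y hy
          rw [Subgroup.mem_pointwise_smul_iff_inv_smul_mem] at hy
          have hw : g⁻¹ * y * g ∈ A := by simpa [MulAut.smul_def, mul_assoc] using hy
          rw [Subgroup.mem_centralizer_iff]
          intro h hh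
          rw [Set.mem_singleton_iff] at hh
          rw [hh]
          have h5 := hcomm _ h3 _ hw
          have e1 : a * y = g * ((g⁻¹ * a * g) * (g⁻¹ * y * g)) * g⁻¹ := by group
          have e2 : y * a = g * ((g⁻¹ * y * g) * (g⁻¹ * a * g)) * g⁻¹ := by group
          rw [e1, e2, h5]
      have h4 : a ∈ Z := by
        rw [hZ, Subgroup.mem_center_iff]
        intro x
        have hx : x ∈ Subgroup.centralizer ({a} : Set G) := hCa (hsup ▸ Subgroup.mem_top x)
        rw [Subgroup.mem_centralizer_iff] at hx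
        exact (hx a rfl).symm
      rw [Subgroup.mem_bot]
      exact (QuotientGroup.eq_one_iff a).2 h4
    have hq := derivedSeries_two_eq_bot_of_malnormal (A.map (QuotientGroup.mk' Z)) hAq hcommq hmalq
    have hD2 : derivedSeries G 2 ≤ Z := by
      have h1 := map_derivedSeries_le_derivedSeries (QuotientGroup.mk' Z) 2
      rw [hq, le_bot_iff, (derivedSeries G 2).map_eq_bot_iff, QuotientGroup.ker_mk'] at h1
      exact h1
    rw [derivedSeries_succ, eq_bot_iff, Subgroup.commutator_le]
    intro x hx y hy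
    rw [Subgroup.mem_bot, commutatorElement_eq_one_iff_mul_comm]
    exact (Subgroup.mem_center_iff.1 (hD2 hy) x)

end Cfsg.Agent.Lib.H3
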