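import Mathlib
import Cfsg.Prelude.Def_LocalEven

/-!
# S2937: `p`-minimal groups over a simple group of Lie type (helper3) -- definitions

`X` is `p`-minimal, `K ⊴ X`, `U ∈ Syl_p(K)`.  Three properties of the abstract group `K` (invariant under isomorphism):

* `PMinR1 p K`: `N_K(U)` is a maximal subgroup of `K` for every Sylow `p`-subgroup `U` (Lie rank one);
* `PMinR2 p K`: for every Sylow `U` the subgroups of `K` containing `N_K(U)` are `N_K(U)`, `H₁`, `H₂`, `K` with `H₁`, `H₂`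
  incomparable (Lie rank two);
* `PMinBad p K`: for every Sylow `U` (not normal) and every `p`-group `A` of automorphisms of `K` stabilizing `U` there are two
  proper `A`-invariant subgroups of `K` containing `U` which generate `K`.

Each is `∀ U : Sylow p K, …At p K U`; by Sylow's theorem one Sylow subgroup suffices (`PMinTransport.lean`).
What they give for a `p`-minimal `X`: `PMinCore.lean` (`core_bad`, `core_r1`, `core_r2`).
-/

set_option autoImplicit false

namespace Cfsg.Agent.Lib.H3.PMin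

open Subgroup

/-- `N_K(U)` is a maximal subgroup -/
def R1At (K : Type*) [Group K] (U : Subgroup K) : Prop :=
  IsCoatom (normalizer (U : Set K))

/-- exactly two subgroups strictly between `N_K(U)` and `K`, incomparable -/
def R2At (K : Type*) [Group K] (U : Subgroup K) : Prop :=
  ∃ H₁ H₂ : Subgroup K,
    normalizer (U : Set K) ≤ H₁ ∧ normalizer (U : Set K) ≤ H₂ ∧
    H₁ ≠ ⊤ ∧ H₂ ≠ ⊤ ∧ ¬ H₁ ≤ H₂ ∧ ¬ H₂ ≤ H₁ ∧
    ∀ H : Subgroup K, normalizer (U : Set K) ≤ H →
      H = normalizer (U : Set K) ∨ H = H₁ ∨ H = H₂ ∨ H = ⊤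

/-- `U` is not normal, and for every `p`-group `A` of automorphisms stabilizing `U` there are two proper `A`-invariant
subgroups over `U` generating `K` -/
def BadAt (p : ℕ) (K : Type*) [Group K] (U : Subgroup K) : Prop :=
  ∀ A : Subgroup (MulAut K), IsPGroup p A →
    (∀ φ ∈ A, U.map (MulEquiv.toMonoidHom φ) = U) →
    normalizer (U : Set K) ≠ ⊤ ∧
    ∃ H₁ H₂ : Subgroup K, U ≤ H₁ ∧ U ≤ H₂ ∧ H₁ ≠ ⊤ ∧ H₂ ≠ ⊤ ∧ H₁ ⊔ H₂ = ⊤ ∧
      ∀ φ ∈ A, H₁.map (MulEquiv.toMonoidHom φ) = H₁ ∧ H₂.map (MulEquiv.toMonoidHom φ) = H₂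

/-- Lie rank one: the Sylow normalizers are maximal subgroups -/
def PMinR1 (p : ℕ) (K : Type*) [Group K] : Prop :=
  ∀ U : Sylow p K, R1At K (U : Subgroup K)

/-- Lie rank two -/
def PMinR2 (p : ℕ) (K : Type*) [Group K] : Prop :=
  ∀ U : Sylow p K, R2At K (U : Subgroup K)

/-- the excluded groups -/
def PMinBad (p : ℕ) (K : Type*) [Group K] : Prop :=
  ∀ U : Sylow p K, BadAt p K (U : Subgroup K)

end Cfsg.Agent.Lib.H3.PMin
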