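import Mathlib
import Cfsg.Agent.Lib.H3.PMinDefs

set_option autoImplicit false

namespace Cfsg.Agent.Lib.H3.PMin

open Subgroup

section transport

variable {K K' : Type*} [Group K] [Group K'] (p : ℕ) [Fact p.Prime]

/-- pull a Sylow subgroup back along an isomorphism -/
noncomputable def sylowPull (e : K ≃* K') (U' : Sylow p K') : Sylow p K :=
  U'.comapOfInjective e.toMonoidHom e.injective (by
    intro x _
    exact ⟨e.symm x, by simp⟩)

theorem coe_sylowPull (e : K ≃* K') (U' : Sylow p K') :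
    ((sylowPull p e U' : Sylow p K) : Subgroup K) = (U' : Subgroup K').comap e.toMonoidHom :=
  Sylow.coe_comapOfInjective _ _ _ _

theorem normalizer_sylowPull (e : K ≃* K') (U' : Sylow p K') :
    normalizer (((sylowPull p e U' : Sylow p K) : Subgroup K) : Set K) =
      (normalizer ((U' : Subgroup K') : Set K')).comap e.toMonoidHom := by
  rw [coe_sylowPull]
  exact (Subgroup.comap_normalizer_eq_of_surjective _ (f := e.toMonoidHom) e.surjective).symm

theorem map_comap_equiv (e : K ≃* K') (H' : Subgroup K') : (H'.comap e.toMonoidHom).map e.toMonoidHom = H' :=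
  Subgroup.map_comap_eq_self_of_surjective e.surjective H'

theorem comap_map_equiv (e : K ≃* K') (H : Subgroup K) : (H.map e.toMonoidHom).comap e.toMonoidHom = H :=
  Subgroup.comap_map_eq_self_of_injective e.injective H

theorem map_equiv_le_iff (e : K ≃* K') (H₁ H₂ : Subgroup K) : H₁.map e.toMonoidHom ≤ H₂.map e.toMonoidHom ↔ H₁ ≤ H₂ :=
  Subgroup.map_le_map_iff_of_injective e.injective

theorem map_equiv_eq_top_iff (e : K ≃* K') (H : Subgroup K) : H.map e.toMonoidHom = ⊤ ↔ H = ⊤ := by
  constructor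
  · intro h
    have := congrArg (Subgroup.comap e.toMonoidHom) h
    rwa [comap_map_equiv, Subgroup.comap_top] at this
  · rintro rfl
    rw [← MonoidHom.range_eq_map]
    exact MonoidHom.range_eq_top.mpr e.surjective

theorem R1At.of_mulEquiv (e : K ≃* K') (U' : Subgroup K') (h : R1At K (U'.comap e.toMonoidHom)) :
    R1At K' U' := by
  unfold R1At at h ⊢
  rw [← Subgroup.comap_normalizer_eq_of_surjective _ (f := e.toMonoidHom) e.surjective] at h
  exact ((MulEquiv.comapSubgroup e).isCoatom_iff _).mp h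

theorem PMinR1.of_mulEquiv (e : K ≃* K') (h : PMinR1 p K) : PMinR1 p K' := by
  intro U'
  have h1 := h (sylowPull p e U')
  rw [coe_sylowPull] at h1
  exact R1At.of_mulEquiv e _ h1

theorem R2At.of_mulEquiv (e : K ≃* K') (U' : Subgroup K') (h : R2At K (U'.comap e.toMonoidHom)) :
    R2At K' U' := by
  obtain ⟨H₁, H₂, h1, h2, h3, h4, h5, h6, h7⟩ := h
  rw [← Subgroup.comap_normalizer_eq_of_surjective _ (f := e.toMonoidHom) e.surjective] at h1 h2 h7
  set N' := normalizer (U' : Set K') with hN'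
  have hN : (N'.comap e.toMonoidHom).map e.toMonoidHom = N' := map_comap_equiv e N'
  refine ⟨H₁.map e.toMonoidHom, H₂.map e.toMonoidHom, ?_, ?_, ?_, ?_, ?_, ?_, ?_⟩
  · have := Subgroup.map_mono (f := e.toMonoidHom) h1
    rwa [hN] at this
  · have := Subgroup.map_mono (f := e.toMonoidHom) h2
    rwa [hN] at this
  · rwa [Ne, map_equiv_eq_top_iff]
  · rwa [Ne, map_equiv_eq_top_iff]
  · rwa [map_equiv_le_iff]
  · rwa [map_equiv_le_iff]
  · intro H' hH'
    have := h7 (H'.comap e.toMonoidHom) (Subgroup.comap_mono hH')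
    rcases this with h | h | h | h
    · left
      show H' = N'
      rw [← map_comap_equiv e H', h, hN]
    · right; left
      rw [← map_comap_equiv e H', h]
    · right; right; left
      rw [← map_comap_equiv e H', h]
    · right; right; right
      rw [← map_comap_equiv e H', h, map_equiv_eq_top_iff]

theorem PMinR2.of_mulEquiv (e : K ≃* K') (h : PMinR2 p K) : PMinR2 p K' := by
  intro U'
  have h1 := h (sylowPull p e U')
  rw [coe_sylowPull] at h1
  exact R2At.of_mulEquiv e _ h1

theorem BadAt.of_mulEquiv (e : K ≃* K') (U' : Subgroup K') (h : BadAt p K (U'.comap e.toMonoidHom)) :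
    BadAt p K' U' := by
  intro A' hA' hfix
  set c : MulAut K' →* MulAut K := (MulAut.congr e.symm).toMonoidHom with hc
  have hcφ : ∀ (φ' : MulAut K') (x : K), (c φ') x = e.symm (φ' (e x)) := by
    intro φ' x
    rfl
  obtain ⟨hn, H₁, H₂, h1, h2, h3, h4, h5, h6⟩ := h (A'.map c) (hA'.map c) (by
    rintro _ ⟨φ', hφ', rfl⟩
    ext x
    simp only [Subgroup.mem_map, Subgroup.mem_comap, MulEquiv.coe_toMonoidHom]
    have hf := hfix φ' hφ'
    constructor
    · rintro ⟨y, hy, rfl⟩
      rw [hcφ]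
      simp only [MulEquiv.apply_symm_apply]
      rw [← hf]
      exact ⟨e y, hy, rfl⟩
    · intro hx
      rw [← hf] at hx
      obtain ⟨z, hz, hzx⟩ := hx
      refine ⟨e.symm z, by rw [MulEquiv.apply_symm_apply]; exact hz, ?_⟩
      rw [hcφ]
      simp only [MulEquiv.apply_symm_apply]
      apply e.injective
      simp only [MulEquiv.apply_symm_apply]
      exact hzx)
  rw [← Subgroup.comap_normalizer_eq_of_surjective _ (f := e.toMonoidHom) e.surjective] at hn
  refine ⟨?_, H₁.map e.toMonoidHom, H₂.map e.toMonoidHom, ?_, ?_, ?_, ?_, ?_, ?_⟩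
  · intro h
    apply hn
    rw [h, Subgroup.comap_top]
  · rw [← map_comap_equiv e U']; exact Subgroup.map_mono h1
  · rw [← map_comap_equiv e U']; exact Subgroup.map_mono h2
  · rwa [Ne, map_equiv_eq_top_iff]
  · rwa [Ne, map_equiv_eq_top_iff]
  · rw [← Subgroup.map_sup, h5, map_equiv_eq_top_iff]
  · intro φ' hφ'
    have key : ∀ H : Subgroup K, H.map (MulEquiv.toMonoidHom (c φ')) = H →
        (H.map e.toMonoidHom).map (MulEquiv.toMonoidHom φ') = H.map e.toMonoidHom := by
      intro H hH
      conv_rhs => rw [← hH]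
      ext x
      simp only [Subgroup.mem_map, MulEquiv.coe_toMonoidHom, exists_exists_and_eq_and]
      constructor
      · rintro ⟨y, hy, rfl⟩
        exact ⟨y, hy, by rw [hcφ]; simp⟩
      · rintro ⟨y, hy, rfl⟩
        exact ⟨y, hy, by rw [hcφ]; simp⟩
    have h6' := h6 (c φ') ⟨φ', hφ', rfl⟩
    exact ⟨key H₁ h6'.1, key H₂ h6'.2⟩

theorem PMinBad.of_mulEquiv (e : K ≃* K') (h : PMinBad p K) : PMinBad p K' := by
  intro U'
  have h1 := h (sylowPull p e U')
  rw [coe_sylowPull] at h1
  exact BadAt.of_mulEquiv p e _ h1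

/-! ### one Sylow subgroup suffices -/

theorem comap_conj_of_smul [Finite K] (U₀ U : Sylow p K) :
    ∃ g : K, (U : Subgroup K).comap (MulEquiv.toMonoidHom (MulAut.conj g)) = (U₀ : Subgroup K) := by
  obtain ⟨g, hg⟩ := MulAction.exists_smul_eq K U₀ U
  refine ⟨g, ?_⟩
  rw [← hg, Sylow.coe_subgroup_smul]
  ext x
  rw [Subgroup.mem_comap, Subgroup.mem_pointwise_smul_iff_inv_smul_mem]
  simp [MulAut.smul_def, MulAut.conj_apply, mul_assoc]

theorem pminR1_of_one [Finite K] (U₀ : Sylow p K) (h : R1At K (U₀ : Subgroup K)) : PMinR1 p K := by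
  intro U
  obtain ⟨g, hg⟩ := comap_conj_of_smul p U₀ U
  exact R1At.of_mulEquiv (MulAut.conj g) _ (hg ▸ h)

theorem pminR2_of_one [Finite K] (U₀ : Sylow p K) (h : R2At K (U₀ : Subgroup K)) : PMinR2 p K := by
  intro U
  obtain ⟨g, hg⟩ := comap_conj_of_smul p U₀ U
  exact R2At.of_mulEquiv (MulAut.conj g) _ (hg ▸ h)

theorem pminBad_of_one [Finite K] (U₀ : Sylow p K) (h : BadAt p K (U₀ : Subgroup K)) : PMinBad p K := by
  intro U
  obtain ⟨g, hg⟩ := comap_conj_of_smul p U₀ U
  exact BadAt.of_mulEquiv p (MulAut.conj g) _ (hg ▸ h)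

end transport

end Cfsg.Agent.Lib.H3.PMin
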