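import Mathlib
import Cfsg.Agent.Lib.H2.BN5
import Cfsg.Agent.Lib.H3.PMinTransport

set_option autoImplicit false

namespace Cfsg.Agent.Lib.H3.PMin

open Cfsg Subgroup Cfsg.Agent.Lib.H2.BN

/-- split data of a (B,N)-pair of characteristic `p`: `B = T ⋉ U`, `U` a `p`-group, `T` a `p'`-group normalized by `N` -/
structure Spl (p : ℕ) {K : Type*} [Group K] (P : BNPair K) (T U : Subgroup K) : Prop where
  hTB : T ≤ P.B
  hNT : ∀ n ∈ P.N, ∀ t ∈ T, n⁻¹ * t * n ∈ T
  hUB : U ≤ P.B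
  hBTU : ∀ b ∈ P.B, ∃ t ∈ T, ∃ u ∈ U, b = t * u
  hUn : ∀ b ∈ P.B, ∀ u ∈ U, b⁻¹ * u * b ∈ U
  hU : IsPGroup p U
  hTp : ∀ t ∈ T, (orderOf t).Coprime p

section

variable {K : Type*} [Group K] {p : ℕ} {P : BNPair K} {T U : Subgroup K}

theorem Spl.eq_one_of_pow (h : Spl p P T U) {t : K} (ht : t ∈ T) {k : ℕ} (hk : t ^ (p ^ k) = 1) : t = 1 := by
  have h1 : orderOf t ∣ p ^ k := orderOf_dvd_of_pow_eq_one hk
  have h2 : (orderOf t).Coprime (p ^ k) := (h.hTp t ht).pow_right k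
  exact orderOf_eq_one_iff.mp (Nat.Coprime.eq_one_of_dvd h2 h1)

theorem parabolic_empty : P.parabolic (∅ : Set K) = P.B := by
  unfold BNPair.parabolic
  rw [Subgroup.closure_empty, sup_bot_eq]

theorem Spl.conj_mem (h : Spl p P T U) {b u : K} (hb : b ∈ P.B) (hu : u ∈ U) : b * u * b⁻¹ ∈ U := by
  have := h.hUn b⁻¹ (inv_mem hb) u hu
  simpa using this

theorem Spl.B_le_normalizer (h : Spl p P T U) : P.B ≤ normalizer (U : Set K) := by
  intro b hb
  rw [mem_normalizer_iff]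
  intro x
  constructor
  · intro hx
    exact h.conj_mem hb hx
  · intro hx
    have := h.hUn b hb _ hx
    simpa [mul_assoc] using this

/-- `N_K(U) = B` -/
theorem Spl.normalizer_eq (h : Spl p P T U) : normalizer (U : Set K) = P.B := by
  have hB := h.B_le_normalizer
  rw [eq_parabolic_of_le (P := P) _ hB]
  have hJ : {s | s ∈ P.S ∧ s ∈ normalizer (U : Set K)} = (∅ : Set K) := by
    rw [Set.eq_empty_iff_forall_notMem]
    rintro s ⟨hs, hsn⟩
    have hsN : s ∈ P.N := P.subset hs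
    have hss : s * s ∈ P.B := P.sq_mem s hs
    apply P.conj_ne s hs
    -- `s` normalizes `T` and `U`, hence `B`
    have hconj : ∀ b ∈ P.B, s⁻¹ * b * s ∈ P.B := by
      intro b hb
      obtain ⟨t, ht, u, hu, rfl⟩ := h.hBTU b hb
      have h1 : s⁻¹ * t * s ∈ T := h.hNT s hsN t ht
      have h2 : s⁻¹ * u * s ∈ U := by
        have := (mem_normalizer_iff.mp (inv_mem hsn) u).mp hu
        simpa using this
      have e : s⁻¹ * (t * u) * s = (s⁻¹ * t * s) * (s⁻¹ * u * s) := by group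
      rw [e]
      exact mul_mem (h.hTB h1) (h.hUB h2)
    have hconj' : ∀ b ∈ P.B, s * b * s⁻¹ ∈ P.B := by
      intro b hb
      obtain ⟨t, ht, u, hu, rfl⟩ := h.hBTU b hb
      have h1 : s * t * s⁻¹ ∈ T := by
        have := h.hNT s⁻¹ (inv_mem hsN) t ht
        simpa using this
      have h2 : s * u * s⁻¹ ∈ U := (mem_normalizer_iff.mp hsn u).mp hu
      have e : s * (t * u) * s⁻¹ = (s * t * s⁻¹) * (s * u * s⁻¹) := by group
      rw [e]
      exact mul_mem (h.hTB h1) (h.hUB h2)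
    ext x
    simp only [Set.mem_image, SetLike.mem_coe]
    constructor
    · rintro ⟨b, hb, rfl⟩
      have e : s * b * s = (s * b * s⁻¹) * (s * s) := by group
      rw [e]
      exact mul_mem (hconj' b hb) hss
    · intro hx
      refine ⟨s⁻¹ * x * s * (s * s)⁻¹, mul_mem (hconj x hx) (inv_mem hss), ?_⟩
      group
  rw [hJ, parabolic_empty]

end

end Cfsg.Agent.Lib.H3.PMin
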