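import Mathlib
import Cfsg.Agent.Lib.H3.PMinBNa

set_option autoImplicit false

namespace Cfsg.Agent.Lib.H3.PMin

open Cfsg Subgroup Cfsg.Agent.Lib.H2.BN

section

variable {K : Type*} [Group K] {p : ℕ} {P : BNPair K} {T U : Subgroup K}

/-- a `p`-element of `B` normalizing... lies in `U`: every `p`-subgroup `R ≤ B` containing `U` equals `U` -/
theorem Spl.eq_of_pGroup_le (h : Spl p P T U) (R : Subgroup K) (hR : IsPGroup p R) (hUR : U ≤ R) (hRB : R ≤ P.B) :
    R = U := by
  apply le_antisymm _ hUR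
  intro x hx
  obtain ⟨t, ht, u, hu, rfl⟩ := h.hBTU x (hRB hx)
  have htR : t ∈ R := by
    have : t = (t * u) * u⁻¹ := by group
    rw [this]
    exact mul_mem hx (inv_mem (hUR hu))
  obtain ⟨k, hk⟩ := hR ⟨t, htR⟩
  have hk' : t ^ p ^ k = 1 := by
    have := congrArg Subtype.val hk
    simpa using this
  rw [h.eq_one_of_pow ht hk', one_mul]
  exact hu

/-- `U` is a Sylow `p`-subgroup of `K` -/
theorem Spl.exists_sylow [Finite K] [Fact p.Prime] (h : Spl p P T U) :
    ∃ Q : Sylow p K, (Q : Subgroup K) = U := by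
  obtain ⟨Q, hQ⟩ := h.hU.exists_le_sylow
  refine ⟨Q, ?_⟩
  by_contra hne
  -- `U < Q`; the normalizer of `U` in the `p`-group `Q` is bigger than `U`
  have hlt : U.subgroupOf (Q : Subgroup K) < ⊤ := by
    rw [lt_top_iff_ne_top]
    intro htop
    apply hne
    apply le_antisymm _ hQ
    intro x hx
    have : (⟨x, hx⟩ : (Q : Subgroup K)) ∈ U.subgroupOf (Q : Subgroup K) := by rw [htop]; trivial
    exact this
  have : Group.IsNilpotent (Q : Subgroup K) := Q.isPGroup'.isNilpotent
  have hnc := Group.normalizerCondition_of_isNilpotent (G := (Q : Subgroup K)) _ hlt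
  obtain ⟨x, hxn, hxU⟩ := SetLike.exists_of_lt hnc
  -- `R = ⟨U, x⟩` would be a bigger `p`-subgroup of `N_K(U) = B`
  have hxN : (x : K) ∈ normalizer (U : Set K) := by
    rw [mem_normalizer_iff]
    intro y
    constructor
    · intro hy
      have := (mem_normalizer_iff.mp hxn ⟨y, hQ hy⟩).mp hy
      exact this
    · intro hy
      have hyQ : y ∈ (Q : Subgroup K) := by
        have : y = (x : K)⁻¹ * ((x : K) * y * (x : K)⁻¹) * (x : K) := by group
        rw [this]
        exact mul_mem (mul_mem (inv_mem x.2) (hQ hy)) x.2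
      exact (mem_normalizer_iff.mp hxn ⟨y, hyQ⟩).mpr hy
  have hxB : (x : K) ∈ P.B := h.normalizer_eq ▸ hxN
  obtain ⟨t, ht, u, hu, hxtu⟩ := h.hBTU _ hxB
  have htQ : t ∈ (Q : Subgroup K) := by
    have : t = (x : K) * u⁻¹ := by rw [hxtu]; group
    rw [this]
    exact mul_mem x.2 (inv_mem (hQ hu))
  obtain ⟨k, hk⟩ := Q.isPGroup' ⟨t, htQ⟩
  have hk' : t ^ p ^ k = 1 := by
    have := congrArg Subtype.val hk
    simpa using this
  have ht1 := h.eq_one_of_pow ht hk'
  apply hxU
  show (x : K) ∈ U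
  rw [hxtu, ht1, one_mul]
  exact hu

end

end Cfsg.Agent.Lib.H3.PMin
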