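import Mathlib
import Cfsg.Agent.Lib.H3.PMinBNb

set_option autoImplicit false

namespace Cfsg.Agent.Lib.H3.PMin

open Cfsg Subgroup Cfsg.Agent.Lib.H2.BN

section

variable {K : Type*} [Group K] {p : ℕ} {P : BNPair K} {T U : Subgroup K}

theorem parabolic_sup (J J' : Set K) : P.parabolic J ⊔ P.parabolic J' = P.parabolic (J ∪ J') := by
  unfold BNPair.parabolic
  rw [Subgroup.closure_union]
  apply le_antisymm
  · exact sup_le (sup_le le_sup_left (le_sup_left.trans le_sup_right))
      (sup_le le_sup_left (le_sup_right.trans le_sup_right))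
  · exact sup_le (le_sup_left.trans le_sup_left)
      (sup_le (le_sup_right.trans le_sup_left) (le_sup_right.trans le_sup_right))

theorem B_le_parabolic (J : Set K) : P.B ≤ P.parabolic J := le_sup_left

theorem mem_parabolic_of_mem {J : Set K} {s : K} (hs : s ∈ J) : s ∈ P.parabolic J :=
  (le_sup_right : Subgroup.closure J ≤ P.parabolic J) (Subgroup.subset_closure hs)

theorem parabolic_injective {J J' : Set K} (hJ : J ⊆ P.S) (hJ' : J' ⊆ P.S)
    (h : P.parabolic J = P.parabolic J') : J = J' :=
  Set.Subset.antisymm (subset_of_parabolic_le hJ hJ' h.le) (subset_of_parabolic_le hJ' hJ h.ge)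

/-- the set of distinguished generators in an overgroup of `B` -/
def gens (P : BNPair K) (M : Subgroup K) : Set K := {s | s ∈ P.S ∧ s ∈ M}

theorem gens_subset (M : Subgroup K) : gens P M ⊆ P.S := fun _ h => h.1

theorem eq_parabolic_gens (M : Subgroup K) (hBM : P.B ≤ M) : M = P.parabolic (gens P M) :=
  eq_parabolic_of_le (P := P) M hBM

theorem gens_parabolic {J : Set K} (hJ : J ⊆ P.S) : gens P (P.parabolic J) = J := by
  ext s
  constructor
  · rintro ⟨hs, hsJ⟩
    exact mem_of_mem_parabolic hJ hs hsJ
  · intro hs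
    exact ⟨hJ hs, mem_parabolic_of_mem hs⟩

/-- the complementary parabolic subgroup of an overgroup `H` of `B`: the largest overgroup meeting `H` in `B` -/
theorem exists_compl [Finite K] (H : Subgroup K) (hBH : P.B ≤ H) (hHB : H ≠ P.B) :
    ∃ H' : Subgroup K, P.B ≤ H' ∧ H' ≠ ⊤ ∧ H ⊔ H' = ⊤ ∧
      ∀ φ : K ≃* K, P.B.map φ.toMonoidHom = P.B → H.map φ.toMonoidHom = H → H'.map φ.toMonoidHom = H' := by
  set J := gens P H with hJdef
  have hJ : J ⊆ P.S := gens_subset H
  have hH : H = P.parabolic J := eq_parabolic_gens H hBH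
  set J' := P.S \ J with hJ'def
  have hJ' : J' ⊆ P.S := Set.sdiff_subset
  have hinter : P.parabolic J' ⊓ H = P.B := by
    rw [hH, parabolic_inf hJ' hJ]
    have : J' ∩ J = ∅ := by
      rw [hJ'def]; exact Set.sdiff_inter_self
    rw [this, parabolic_empty]
  have hmax : ∀ Y : Subgroup K, P.B ≤ Y → Y ⊓ H = P.B → Y ≤ P.parabolic J' := by
    intro Y hBY hYH
    rw [eq_parabolic_gens Y hBY]
    apply parabolic_mono
    intro s hs
    refine ⟨hs.1, fun hsJ => ?_⟩
    have : s ∈ Y ⊓ H := ⟨hs.2, hsJ.2⟩
    rw [hYH] at this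
    exact S_not_mem_B hs.1 this
  refine ⟨P.parabolic J', B_le_parabolic J', ?_, ?_, ?_⟩
  · intro htop
    apply hHB
    rw [← parabolic_S] at htop
    have h1 : P.S ⊆ J' := subset_of_parabolic_le (le_refl _) hJ' htop.ge
    have h2 : J = ∅ := by
      rw [Set.eq_empty_iff_forall_notMem]
      intro s hs
      exact (h1 (hJ hs)).2 hs
    rw [hH, h2, parabolic_empty]
  · rw [hH, parabolic_sup]
    have : J ∪ J' = P.S := by
      rw [hJ'def]; exact Set.union_sdiff_cancel hJ
    rw [this, parabolic_S]
  · intro φ hφB hφH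
    have hinj : Function.Injective φ.toMonoidHom := φ.injective
    have hle : (P.parabolic J').map φ.toMonoidHom ≤ P.parabolic J' := by
      apply hmax
      · rw [← hφB]
        exact Subgroup.map_mono (B_le_parabolic J')
      · conv_lhs => rw [← hφH]
        rw [← Subgroup.map_inf _ _ _ hinj, hinter, hφB]
    apply Subgroup.eq_of_le_of_card_ge hle
    rw [Subgroup.card_map_of_injective hinj]

/-- automorphisms stabilizing `U` stabilize `B = N_K(U)` -/
theorem Spl.map_B_eq (h : Spl p P T U) (φ : K ≃* K) (hφ : U.map φ.toMonoidHom = U) :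
    P.B.map φ.toMonoidHom = P.B := by
  rw [← h.normalizer_eq, Subgroup.map_equiv_normalizer_eq, hφ]

/-- **the basic criterion**: an invariant subgroup strictly between `B` and `K` -/
theorem Spl.badAt_of_inv [Finite K] (h : Spl p P T U)
    (hinv : ∀ A : Subgroup (MulAut K), IsPGroup p A → (∀ φ ∈ A, U.map (MulEquiv.toMonoidHom φ) = U) →
      ∃ H : Subgroup K, P.B ≤ H ∧ H ≠ P.B ∧ H ≠ ⊤ ∧ ∀ φ ∈ A, H.map (MulEquiv.toMonoidHom φ) = H) :
    BadAt p K U := by
  intro A hA hfix
  obtain ⟨H, hBH, hHB, hHt, hHinv⟩ := hinv A hA hfix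
  obtain ⟨H', hBH', hH't, hsup, hH'inv⟩ := exists_compl H hBH hHB
  refine ⟨?_, H, H', h.hUB.trans hBH, h.hUB.trans hBH', hHt, hH't, hsup, ?_⟩
  · rw [h.normalizer_eq]
    intro hB
    exact hHt (top_le_iff.mp (hB ▸ hBH))
  · intro φ hφ
    exact ⟨hHinv φ hφ, hH'inv φ (h.map_B_eq φ (hfix φ hφ)) (hHinv φ hφ)⟩

/-- **rank one**: `B = N_K(U)` is maximal -/
theorem Spl.r1At (h : Spl p P T U) (s : K) (hS : P.S = {s}) : R1At K U := by
  unfold R1At
  rw [h.normalizer_eq]
  have hs : s ∈ P.S := by rw [hS]; rfl
  refine ⟨?_, ?_⟩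
  · intro hB
    exact S_not_mem_B hs (hB ▸ Subgroup.mem_top s)
  · intro M hM
    have hBM := hM.le
    rw [eq_parabolic_gens M hBM]
    have : gens P M = P.S := by
      apply Set.Subset.antisymm (gens_subset M)
      rw [hS]
      rintro t rfl
      by_contra hne
      have hempty : gens P M = ∅ := by
        rw [Set.eq_empty_iff_forall_notMem]
        intro r hr
        have : r = t := by
          have := hr.1
          rw [hS] at this
          exact this
        exact hne (this ▸ hr)
      apply hM.ne
      rw [eq_parabolic_gens M hBM, hempty, parabolic_empty]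
    rw [this, parabolic_S]

/-- **rank two**: the overgroups of `B = N_K(U)` are `B`, `P₁`, `P₂`, `K` -/
theorem Spl.r2At (h : Spl p P T U) (s₁ s₂ : K) (hne : s₁ ≠ s₂) (hS : P.S = {s₁, s₂}) : R2At K U := by
  unfold R2At
  rw [h.normalizer_eq]
  have hs₁ : s₁ ∈ P.S := by rw [hS]; exact Set.mem_insert _ _
  have hs₂ : s₂ ∈ P.S := by rw [hS]; exact Set.mem_insert_of_mem _ rfl
  have h1 : ({s₁} : Set K) ⊆ P.S := Set.singleton_subset_iff.mpr hs₁
  have h2 : ({s₂} : Set K) ⊆ P.S := Set.singleton_subset_iff.mpr hs₂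
  refine ⟨P.parabolic {s₁}, P.parabolic {s₂}, B_le_parabolic _, B_le_parabolic _, ?_, ?_, ?_, ?_, ?_⟩
  · intro htop
    rw [← parabolic_S] at htop
    have := subset_of_parabolic_le (le_refl _) h1 htop.ge hs₂
    exact hne this.symm
  · intro htop
    rw [← parabolic_S] at htop
    have := subset_of_parabolic_le (le_refl _) h2 htop.ge hs₁
    exact hne this
  · intro hle
    have := subset_of_parabolic_le h1 h2 hle rfl
    exact hne this
  · intro hle
    have := subset_of_parabolic_le h2 h1 hle rfl
    exact hne this.symm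
  · intro M hBM
    rw [eq_parabolic_gens M hBM]
    have hsub : gens P M ⊆ {s₁, s₂} := hS ▸ gens_subset M
    by_cases m1 : s₁ ∈ gens P M <;> by_cases m2 : s₂ ∈ gens P M
    · right; right; right
      have : gens P M = P.S := by
        apply Set.Subset.antisymm (gens_subset M)
        rw [hS]
        rintro t (rfl | rfl)
        · exact m1
        · exact m2
      rw [this, parabolic_S]
    · right; left
      congr 1
      apply Set.Subset.antisymm
      · intro t ht
        rcases hsub ht with rfl | rfl
        · rfl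
        · exact absurd ht m2
      · rintro t rfl; exact m1
    · right; right; left
      congr 1
      apply Set.Subset.antisymm
      · intro t ht
        rcases hsub ht with rfl | rfl
        · exact absurd ht m1
        · rfl
      · rintro t rfl; exact m2
    · left
      have : gens P M = ∅ := by
        rw [Set.eq_empty_iff_forall_notMem]
        intro t ht
        rcases hsub ht with rfl | rfl
        · exact m1 ht
        · exact m2 ht
      rw [this, parabolic_empty]

end

end Cfsg.Agent.Lib.H3.PMin
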