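import Mathlib
import Cfsg.Agent.Lib.H3.PMinBNc

set_option autoImplicit false

namespace Cfsg.Agent.Lib.H3.PMin

open Cfsg Subgroup Cfsg.Agent.Lib.H2.BN

section

variable {K : Type*} [Group K] {p : ℕ} {P : BNPair K} {T U : Subgroup K}

/-- `Y` is a minimal subgroup strictly above `B` -/
def IsMinOver (P : BNPair K) (Y : Subgroup K) : Prop :=
  P.B ≤ Y ∧ Y ≠ P.B ∧ ∀ Z : Subgroup K, P.B ≤ Z → Z ≤ Y → Z = P.B ∨ Z = Y

theorem parabolic_singleton_ne_B {s : K} (hs : s ∈ P.S) : P.parabolic {s} ≠ P.B := by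
  intro h
  exact S_not_mem_B hs (h ▸ mem_parabolic_of_mem rfl)

theorem isMinOver_parabolic {s : K} (hs : s ∈ P.S) : IsMinOver P (P.parabolic {s}) := by
  refine ⟨B_le_parabolic _, parabolic_singleton_ne_B hs, ?_⟩
  intro Z hBZ hZ
  have h1 : ({s} : Set K) ⊆ P.S := Set.singleton_subset_iff.mpr hs
  rw [eq_parabolic_gens Z hBZ] at hZ ⊢
  have hsub := subset_of_parabolic_le (gens_subset Z) h1 hZ
  by_cases hm : s ∈ gens P Z
  · right
    congr 1
    exact Set.Subset.antisymm hsub (Set.singleton_subset_iff.mpr hm)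
  · left
    have : gens P Z = ∅ := by
      rw [Set.eq_empty_iff_forall_notMem]
      intro t ht
      have := hsub ht
      rw [Set.mem_singleton_iff] at this
      exact hm (this ▸ ht)
    rw [this, parabolic_empty]

theorem IsMinOver.exists_eq {Y : Subgroup K} (hY : IsMinOver P Y) : ∃ s ∈ P.S, Y = P.parabolic {s} := by
  obtain ⟨hBY, hne, hmin⟩ := hY
  have hne' : (gens P Y).Nonempty := by
    rw [Set.nonempty_iff_ne_empty]
    intro h
    apply hne
    rw [eq_parabolic_gens Y hBY, h, parabolic_empty]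
  obtain ⟨s, hs⟩ := hne'
  refine ⟨s, hs.1, ?_⟩
  have hle : P.parabolic {s} ≤ Y := by
    conv_rhs => rw [eq_parabolic_gens Y hBY]
    exact parabolic_mono (Set.singleton_subset_iff.mpr hs)
  rcases hmin _ (B_le_parabolic _) hle with h | h
  · exact absurd h (parabolic_singleton_ne_B hs.1)
  · exact h.symm

theorem IsMinOver.map {Y : Subgroup K} (hY : IsMinOver P Y) (φ : K ≃* K)
    (hφ : P.B.map φ.toMonoidHom = P.B) : IsMinOver P (Y.map φ.toMonoidHom) := by
  obtain ⟨hBY, hne, hmin⟩ := hY
  have hinj : Function.Injective φ.toMonoidHom := φ.injective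
  refine ⟨?_, ?_, ?_⟩
  · rw [← hφ]; exact Subgroup.map_mono hBY
  · intro h
    apply hne
    rw [← hφ] at h
    exact Subgroup.map_injective hinj h
  · intro Z hBZ hZ
    have h1 : P.B ≤ Z.comap φ.toMonoidHom := by
      rw [← Subgroup.map_le_iff_le_comap, hφ]; exact hBZ
    have h2 : Z.comap φ.toMonoidHom ≤ Y := by
      have := Subgroup.comap_mono (f := φ.toMonoidHom) hZ
      rwa [Subgroup.comap_map_eq_self_of_injective hinj] at this
    have h3 : (Z.comap φ.toMonoidHom).map φ.toMonoidHom = Z :=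
      Subgroup.map_comap_eq_self_of_surjective φ.surjective Z
    rcases hmin _ h1 h2 with h | h
    · left
      rw [← h3, h, hφ]
    · right
      rw [← h3, h]

/-- **criterion via an invariant property** of the minimal parabolic subgroups -/
theorem Spl.badAt_of_prop [Finite K] (h : Spl p P T U) (f : Subgroup K → Prop)
    (hf : ∀ φ : K ≃* K, P.B.map φ.toMonoidHom = P.B → ∀ Y : Subgroup K, IsMinOver P Y →
      f Y → f (Y.map φ.toMonoidHom))
    (s s' : K) (hs : s ∈ P.S) (hs' : s' ∈ P.S) (hfs : f (P.parabolic {s})) (hfs' : ¬ f (P.parabolic {s'})) :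
    BadAt p K U := by
  apply h.badAt_of_inv
  intro A hA hfix
  set J : Set K := {t | t ∈ P.S ∧ f (P.parabolic {t})} with hJdef
  have hJ : J ⊆ P.S := fun _ ht => ht.1
  refine ⟨P.parabolic J, B_le_parabolic J, ?_, ?_, ?_⟩
  · intro hB
    have hsJ : s ∈ J := ⟨hs, hfs⟩
    have : s ∈ P.parabolic J := mem_parabolic_of_mem hsJ
    exact S_not_mem_B hs (hB ▸ this)
  · intro htop
    rw [← parabolic_S] at htop
    have := subset_of_parabolic_le (le_refl _) hJ htop.ge hs'
    exact hfs' this.2
  · intro φ hφ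
    have hφB := h.map_B_eq φ (hfix φ hφ)
    have hinj : Function.Injective (MulEquiv.toMonoidHom φ) := (φ : K ≃* K).injective
    have hle : (P.parabolic J).map (MulEquiv.toMonoidHom φ) ≤ P.parabolic J := by
      unfold BNPair.parabolic
      rw [Subgroup.map_sup]
      apply sup_le
      · rw [hφB]; exact le_sup_left
      · rw [Subgroup.map_le_iff_le_comap, Subgroup.closure_le]
        intro t ht
        show (MulEquiv.toMonoidHom φ) t ∈ P.parabolic J
        have hmin := (isMinOver_parabolic ht.1).map φ hφB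
        obtain ⟨r, hr, hrt⟩ := hmin.exists_eq
        have hfr : f (P.parabolic {r}) := by
          rw [← hrt]
          exact hf φ hφB _ (isMinOver_parabolic ht.1) ht.2
        have h1 : (MulEquiv.toMonoidHom φ) t ∈ P.parabolic {r} := by
          rw [← hrt]
          exact ⟨t, mem_parabolic_of_mem rfl, rfl⟩
        have hrJ : r ∈ J := ⟨hr, hfr⟩
        exact parabolic_mono (Set.singleton_subset_iff.mpr hrJ) h1
    apply Subgroup.eq_of_le_of_card_ge hle
    rw [Subgroup.card_map_of_injective hinj]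

/-- criterion: two minimal parabolic subgroups of different orders -/
theorem Spl.badAt_of_card_ne [Finite K] (h : Spl p P T U)
    (s s' : K) (hs : s ∈ P.S) (hs' : s' ∈ P.S)
    (hne : Nat.card (P.parabolic {s}) ≠ Nat.card (P.parabolic {s'})) : BadAt p K U := by
  apply h.badAt_of_prop (fun Y => Nat.card Y = Nat.card (P.parabolic {s})) _ s s' hs hs' rfl
  · exact fun h => hne h.symm
  · intro φ _ Y _ hY
    show Nat.card (Y.map φ.toMonoidHom) = _
    rw [Subgroup.card_map_of_injective φ.injective]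
    exact hY

end

end Cfsg.Agent.Lib.H3.PMin
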