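import Mathlib
import Cfsg.Agent.Lib.H3.PMinBNd

set_option autoImplicit false

namespace Cfsg.Agent.Lib.H3.PMin

open Cfsg Subgroup Cfsg.Agent.Lib.H2.BN

open scoped Pointwise

section

variable {K : Type*} [Group K] {p : ℕ} {P : BNPair K} {T U : Subgroup K}

theorem word_singleton {s : K} (hs : s ∈ P.S) :
    ∀ l : List K, IsWord ({s} : Set K) l → Eqv P l.prod 1 ∨ Eqv P l.prod s := by
  intro l
  induction l with
  | nil =>
    intro _
    left
    rw [List.prod_nil]
    exact Eqv.refl 1
  | cons t l ih =>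
    intro hl
    obtain ⟨ht, hl'⟩ := hl.of_cons
    rw [Set.mem_singleton_iff] at ht
    subst ht
    rw [List.prod_cons]
    rcases ih hl' with h | h
    · right
      have := h.mul_left t
      rwa [mul_one] at this
    · left
      have h2 := h.mul_left t
      apply h2.trans
      show (t * t)⁻¹ * 1 ∈ P.B
      rw [mul_one]
      exact P.B.inv_mem (S_sq hs)

theorem C_one : C P 1 = (P.B : Set K) := by
  ext g
  exact mem_C_one_iff

theorem coe_parabolic_singleton {s : K} (hs : s ∈ P.S) :
    ((P.parabolic {s} : Subgroup K) : Set K) = (P.B : Set K) ∪ C P s := by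
  have h1 : ({s} : Set K) ⊆ P.S := Set.singleton_subset_iff.mpr hs
  ext g
  constructor
  · intro hg
    obtain ⟨n, hn, hgn⟩ := (mem_parabolic_iff h1 g).1 hg
    obtain ⟨l, hl, he⟩ := exists_word_of_mem_closure' h1 hn
    rcases word_singleton hs l hl with h | h
    · left
      have : Eqv P 1 n := h.symm.trans he
      rw [← this.C_eq, C_one] at hgn
      exact hgn
    · right
      have : Eqv P s n := h.symm.trans he
      rw [← this.C_eq] at hgn
      exact hgn
  · rintro (hg | hg)
    · exact B_le_parabolic _ hg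
    · obtain ⟨b₁, hb₁, b₂, hb₂, rfl⟩ := mem_C_iff.1 hg
      exact mul_mem (mul_mem (B_le_parabolic _ hb₁) (mem_parabolic_of_mem rfl)) (B_le_parabolic _ hb₂)

/-- `P_s P_t = B ∪ BsB ∪ BtB ∪ BstB` -/
theorem parabolic_mul_parabolic {s t : K} (hs : s ∈ P.S) (ht : t ∈ P.S) :
    ((P.parabolic {s} : Subgroup K) : Set K) * ((P.parabolic {t} : Subgroup K) : Set K) =
      (P.B : Set K) ∪ C P s ∪ C P t ∪ C P (s * t) := by
  rw [coe_parabolic_singleton hs, coe_parabolic_singleton ht]
  ext x
  constructor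
  · rintro ⟨g, hg, h, hh, rfl⟩
    rcases hg with hg | hg <;> rcases hh with hh | hh
    · left; left; left
      exact mul_mem hg hh
    · left; right
      exact mul_left_mem_C hg hh
    · left; left; right
      exact mul_right_mem_C hh hg
    · obtain ⟨b₁, hb₁, b₂, hb₂, rfl⟩ := mem_C_iff.1 hg
      have h1 : b₂ * h ∈ C P t := mul_left_mem_C hb₂ hh
      have e : b₁ * s * b₂ * h = b₁ * (s * (b₂ * h)) := by group
      show b₁ * s * b₂ * h ∈ _
      rw [e]
      rcases smul_mem_C hs (S_mem_N ht) h1 with h2 | h2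
      · right
        exact mul_left_mem_C hb₁ h2
      · left; right
        exact mul_left_mem_C hb₁ h2
  · rintro (((hx | hx) | hx) | hx)
    · exact ⟨x, Or.inl hx, 1, Or.inl (one_mem _), mul_one x⟩
    · exact ⟨x, Or.inr hx, 1, Or.inl (one_mem _), mul_one x⟩
    · exact ⟨1, Or.inl (one_mem _), x, Or.inr hx, one_mul x⟩
    · obtain ⟨b₁, hb₁, b₂, hb₂, rfl⟩ := mem_C_iff.1 hx
      refine ⟨b₁ * s, Or.inr ?_, t * b₂, Or.inr ?_, by group⟩
      · exact mem_C_iff.2 ⟨b₁, hb₁, 1, one_mem _, by group⟩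
      · exact mem_C_iff.2 ⟨1, one_mem _, b₂, hb₂, by group⟩

/-- commuting generators give commuting minimal parabolic subgroups -/
theorem parabolic_mul_comm_of_eqv {s t : K} (hs : s ∈ P.S) (ht : t ∈ P.S) (h : Eqv P (s * t) (t * s)) :
    ((P.parabolic {s} : Subgroup K) : Set K) * ((P.parabolic {t} : Subgroup K) : Set K) =
      ((P.parabolic {t} : Subgroup K) : Set K) * ((P.parabolic {s} : Subgroup K) : Set K) := by
  rw [parabolic_mul_parabolic hs ht, parabolic_mul_parabolic ht hs, h.C_eq]
  ext x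
  simp only [Set.mem_union]
  tauto

/-- commuting minimal parabolic subgroups come from commuting generators -/
theorem eqv_of_parabolic_mul_comm {s t : K} (hs : s ∈ P.S) (ht : t ∈ P.S) (hst : s ≠ t)
    (h : ((P.parabolic {s} : Subgroup K) : Set K) * ((P.parabolic {t} : Subgroup K) : Set K) =
      ((P.parabolic {t} : Subgroup K) : Set K) * ((P.parabolic {s} : Subgroup K) : Set K)) :
    Eqv P (s * t) (t * s) := by
  have hsN := S_mem_N hs
  have htN := S_mem_N ht
  have hmem : t * s ∈ (P.B : Set K) ∪ C P s ∪ C P t ∪ C P (s * t) := by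
    rw [← parabolic_mul_parabolic hs ht, h, parabolic_mul_parabolic ht hs]
    right
    exact mem_C_self _
  rcases hmem with ((hx | hx) | hx) | hx
  · -- `t s ∈ B`: then `t ≡ s⁻¹ ≡ s`
    exfalso
    apply hst
    apply (P.inj t ht s hs _).symm
    have h1 : Eqv P t⁻¹ s := by
      show t⁻¹⁻¹ * s ∈ P.B
      rwa [inv_inv]
    exact (S_eqv_inv ht).trans h1
  · -- `t s ∈ B s B`
    exfalso
    have h1 : Eqv P s (t * s) := eqv_of_mem_C hsN (mul_mem htN hsN) hx
    have h2 : s⁻¹ * t * s ∈ P.B := by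
      have : s⁻¹ * (t * s) = s⁻¹ * t * s := by group
      rw [← this]; exact h1
    exact S_not_mem_B ht (mem_B_of_conj hsN htN h2)
  · -- `t s ∈ B t B`
    exfalso
    have h1 : Eqv P t (t * s) := eqv_of_mem_C htN (mul_mem htN hsN) hx
    have h2 : s ∈ P.B := by
      have : t⁻¹ * (t * s) = s := by group
      rw [← this]; exact h1
    exact S_not_mem_B hs h2
  · exact eqv_of_mem_C (mul_mem hsN htN) (mul_mem htN hsN) hx

end

end Cfsg.Agent.Lib.H3.PMin
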