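import Mathlib
import Cfsg.Agent.Lib.H3.PMinBNe

set_option autoImplicit false

namespace Cfsg.Agent.Lib.H3.PMin

open Cfsg Subgroup Cfsg.Agent.Lib.H2.BN

open scoped Pointwise

section

variable {K : Type*} [Group K] {p : ℕ} {P : BNPair K} {T U : Subgroup K}

theorem coe_map_mul (φ : K ≃* K) (Y Z : Subgroup K) :
    ((Y.map φ.toMonoidHom : Subgroup K) : Set K) * ((Z.map φ.toMonoidHom : Subgroup K) : Set K) =
      φ '' ((Y : Set K) * (Z : Set K)) := by
  rw [Subgroup.coe_map, Subgroup.coe_map]
  exact (Set.image_mul φ.toMonoidHom).symm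

/-- **the leaf criterion** (Lie rank at least three): a node `s₁` of degree at most one and a node `s₂` of degree at
least two in the Coxeter graph -/
theorem Spl.badAt_of_leaf [Finite K] (h : Spl p P T U) (s₁ s₂ s₃ : K) (h1 : s₁ ∈ P.S) (h2 : s₂ ∈ P.S)
    (h3 : s₃ ∈ P.S) (h12 : s₁ ≠ s₂) (h13 : s₁ ≠ s₃)
    (hleaf : ∀ t ∈ P.S, t ≠ s₁ → t ≠ s₂ → Eqv P (s₁ * t) (t * s₁))
    (hn1 : ¬ Eqv P (s₂ * s₁) (s₁ * s₂)) (hn3 : ¬ Eqv P (s₂ * s₃) (s₃ * s₂)) : BadAt p K U := by
  have h23 : s₂ ≠ s₃ := by
    rintro rfl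
    exact hn3 (Eqv.refl _)
  apply h.badAt_of_prop (fun Y => ∃ Y₁ Y₂ : Subgroup K, IsMinOver P Y₁ ∧ IsMinOver P Y₂ ∧ Y₁ ≠ Y₂ ∧
      (Y : Set K) * (Y₁ : Set K) ≠ (Y₁ : Set K) * (Y : Set K) ∧
      (Y : Set K) * (Y₂ : Set K) ≠ (Y₂ : Set K) * (Y : Set K)) _ s₂ s₁ h2 h1
  · -- `s₂` has two non-commuting neighbours
    refine ⟨P.parabolic {s₁}, P.parabolic {s₃}, isMinOver_parabolic h1, isMinOver_parabolic h3, ?_, ?_, ?_⟩
    · intro he
      have := parabolic_injective (Set.singleton_subset_iff.mpr h1) (Set.singleton_subset_iff.mpr h3) he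
      exact h13 (Set.singleton_eq_singleton_iff.mp this)
    · intro he
      exact hn1 (eqv_of_parabolic_mul_comm h2 h1 (Ne.symm h12) he)
    · intro he
      exact hn3 (eqv_of_parabolic_mul_comm h2 h3 h23 he)
  · -- `s₁` has at most one
    rintro ⟨Y₁, Y₂, hY₁, hY₂, hne, hc1, hc2⟩
    obtain ⟨t₁, ht₁, rfl⟩ := hY₁.exists_eq
    obtain ⟨t₂, ht₂, rfl⟩ := hY₂.exists_eq
    have key : ∀ t ∈ P.S, ((P.parabolic {s₁} : Subgroup K) : Set K) * ((P.parabolic {t} : Subgroup K) : Set K) ≠
        ((P.parabolic {t} : Subgroup K) : Set K) * ((P.parabolic {s₁} : Subgroup K) : Set K) → t = s₂ := by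
      intro t ht hc
      by_contra hts₂
      by_cases hts₁ : t = s₁
      · subst hts₁
        exact hc rfl
      · exact hc (parabolic_mul_comm_of_eqv h1 ht (hleaf t ht hts₁ hts₂))
    apply hne
    rw [key t₁ ht₁ hc1, key t₂ ht₂ hc2]
  · -- invariance
    intro φ hφ Y _ hY
    obtain ⟨Y₁, Y₂, hY₁, hY₂, hne, hc1, hc2⟩ := hY
    have hinj : Function.Injective φ.toMonoidHom := φ.injective
    refine ⟨Y₁.map φ.toMonoidHom, Y₂.map φ.toMonoidHom, hY₁.map φ hφ, hY₂.map φ hφ, ?_, ?_, ?_⟩
    · intro he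
      exact hne (Subgroup.map_injective hinj he)
    · rw [coe_map_mul, coe_map_mul]
      intro he
      exact hc1 (Set.image_injective.mpr φ.injective he)
    · rw [coe_map_mul, coe_map_mul]
      intro he
      exact hc2 (Set.image_injective.mpr φ.injective he)

theorem map_mul_aut (φ ψ : MulAut K) (H : Subgroup K) :
    H.map (MulEquiv.toMonoidHom (φ * ψ)) = (H.map (MulEquiv.toMonoidHom ψ)).map (MulEquiv.toMonoidHom φ) := by
  rw [Subgroup.map_map]
  rfl

/-- **Lie rank two, `p` odd**: a `p`-group cannot interchange the two minimal parabolic subgroups -/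
theorem Spl.badAt_of_rank_two_odd [Finite K] [Fact p.Prime] (h : Spl p P T U) (s₁ s₂ : K) (hne : s₁ ≠ s₂)
    (hS : P.S = {s₁, s₂}) (hp : p ≠ 2) : BadAt p K U := by
  have hs₁ : s₁ ∈ P.S := by rw [hS]; exact Set.mem_insert _ _
  have hs₂ : s₂ ∈ P.S := by rw [hS]; exact Set.mem_insert_of_mem _ rfl
  have hP12 : P.parabolic {s₁} ≠ P.parabolic {s₂} := by
    intro he
    have := parabolic_injective (Set.singleton_subset_iff.mpr hs₁) (Set.singleton_subset_iff.mpr hs₂) he
    exact hne (Set.singleton_eq_singleton_iff.mp this)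
  apply h.badAt_of_inv
  intro A hA hfix
  refine ⟨P.parabolic {s₁}, B_le_parabolic _, parabolic_singleton_ne_B hs₁, ?_, ?_⟩
  · intro htop
    rw [← parabolic_S] at htop
    have := subset_of_parabolic_le (le_refl _) (Set.singleton_subset_iff.mpr hs₁) htop.ge hs₂
    exact hne (Set.mem_singleton_iff.mp this).symm
  · intro φ hφ
    by_contra hmove
    have hφB := h.map_B_eq φ (hfix φ hφ)
    have hinj : Function.Injective (MulEquiv.toMonoidHom φ) := (φ : K ≃* K).injective
    -- `φ` interchanges the two minimal parabolic subgroups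
    have hm1 : (P.parabolic {s₁}).map (MulEquiv.toMonoidHom φ) = P.parabolic {s₂} := by
      obtain ⟨r, hr, hr'⟩ := ((isMinOver_parabolic hs₁).map φ hφB).exists_eq
      rw [hS] at hr
      rcases hr with rfl | hr
      · exact absurd hr' hmove
      · rw [Set.mem_singleton_iff] at hr
        rw [hr'] ; rw [hr]
    have hm2 : (P.parabolic {s₂}).map (MulEquiv.toMonoidHom φ) = P.parabolic {s₁} := by
      obtain ⟨r, hr, hr'⟩ := ((isMinOver_parabolic hs₂).map φ hφB).exists_eq
      rw [hS] at hr
      rcases hr with rfl | hr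
      · exact hr'
      · rw [Set.mem_singleton_iff] at hr
        exfalso
        apply hP12
        apply Subgroup.map_injective hinj
        rw [hm1, hr', hr]
    have key : ∀ n : ℕ, (Even n → (P.parabolic {s₁}).map (MulEquiv.toMonoidHom (φ ^ n)) = P.parabolic {s₁}) ∧
        (Odd n → (P.parabolic {s₁}).map (MulEquiv.toMonoidHom (φ ^ n)) = P.parabolic {s₂}) := by
      intro n
      induction n with
      | zero =>
        refine ⟨fun _ => ?_, fun h => absurd h (by decide)⟩
        rw [pow_zero]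
        exact Subgroup.map_id _
      | succ n ih =>
        constructor
        · intro hev
          have hodd : Odd n := by
            rcases Nat.even_or_odd n with h | h
            · exact absurd hev (Nat.not_even_iff_odd.mpr (Even.add_one h))
            · exact h
          rw [pow_succ', map_mul_aut, ih.2 hodd, hm2]
        · intro hodd
          have hev : Even n := by
            rcases Nat.even_or_odd n with h | h
            · exact h
            · exact absurd hodd (Nat.not_odd_iff_even.mpr (Odd.add_one h))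
          rw [pow_succ', map_mul_aut, ih.1 hev, hm1]
    obtain ⟨k, hk⟩ := hA ⟨φ, hφ⟩
    have hk' : φ ^ p ^ k = 1 := by
      have := congrArg Subtype.val hk
      simpa using this
    have hodd : Odd (p ^ k) := ((Fact.out : p.Prime).odd_of_ne_two hp).pow
    have := (key (p ^ k)).2 hodd
    rw [hk'] at this
    apply hP12
    rw [← this]
    exact (Subgroup.map_id _).symm

theorem map_conj_eq_of_mem_normalizer {C : Subgroup K} {b : K} (hb : b ∈ normalizer (C : Set K)) :
    C.map (MulEquiv.toMonoidHom (MulAut.conj b)) = C := by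
  ext x
  simp only [Subgroup.mem_map, MulEquiv.coe_toMonoidHom, MulAut.conj_apply]
  constructor
  · rintro ⟨c, hc, rfl⟩
    exact (mem_normalizer_iff.mp hb c).mp hc
  · intro hx
    refine ⟨b⁻¹ * x * b, ?_, by group⟩
    have := (mem_normalizer_iff.mp (inv_mem hb) x).mp hx
    simpa using this

theorem mem_normalizer_of_map_conj_eq {C : Subgroup K} {b : K}
    (hb : C.map (MulEquiv.toMonoidHom (MulAut.conj b)) = C) : b ∈ normalizer (C : Set K) := by
  rw [mem_normalizer_iff]
  intro x
  constructor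
  · intro hx
    rw [← hb]
    exact ⟨x, hx, by simp [MulAut.conj_apply]⟩
  · intro hx
    rw [← hb] at hx
    obtain ⟨c, hc, hcx⟩ := hx
    have : c = x := by
      simp only [MulEquiv.coe_toMonoidHom, MulAut.conj_apply] at hcx
      exact mul_left_cancel (mul_right_cancel hcx)
    exact this ▸ hc

/-- **criterion via a canonical subgroup** `C` attached to `U` whose normalizer is bigger than `B` -/
theorem Spl.badAt_of_char [Finite K] (h : Spl p P T U) (C : Subgroup K)
    (hC : ∀ φ : K ≃* K, U.map φ.toMonoidHom = U → C.map φ.toMonoidHom = C)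
    (hCn : normalizer (C : Set K) ≠ ⊤) (g : K) (hg : g ∈ normalizer (C : Set K)) (hgB : g ∉ P.B) :
    BadAt p K U := by
  apply h.badAt_of_inv
  intro A _ hfix
  refine ⟨normalizer (C : Set K), ?_, ?_, hCn, ?_⟩
  · intro b hb
    apply mem_normalizer_of_map_conj_eq
    apply hC
    exact map_conj_eq_of_mem_normalizer (h.B_le_normalizer hb)
  · intro he
    exact hgB (he ▸ hg)
  · intro φ hφ
    rw [Subgroup.map_equiv_normalizer_eq]
    congr 2
    exact hC φ (hfix φ hφ)

/-- the centre of `U`, as a subgroup of `K`, is canonical -/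
theorem center_canonical (U : Subgroup K) (φ : K ≃* K) (hφ : U.map φ.toMonoidHom = U) :
    (U ⊓ centralizer (U : Set K)).map φ.toMonoidHom = U ⊓ centralizer (U : Set K) := by
  have half : ∀ ψ : K ≃* K, U.map ψ.toMonoidHom = U →
      (U ⊓ centralizer (U : Set K)).map ψ.toMonoidHom ≤ U ⊓ centralizer (U : Set K) := by
    intro ψ hψ
    rintro _ ⟨x, ⟨hxU, hxC⟩, rfl⟩
    have hxU' : x ∈ U := hxU
    have hxC' : x ∈ centralizer (U : Set K) := hxC
    have hm : ψ.toMonoidHom x ∈ U := by
      rw [← hψ]; exact ⟨x, hxU', rfl⟩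
    refine ⟨hm, ?_⟩
    show ψ.toMonoidHom x ∈ centralizer (U : Set K)
    rw [mem_centralizer_iff]
    intro u hu
    have hu : u ∈ U := hu
    rw [← hψ] at hu
    obtain ⟨v, hv, rfl⟩ := hu
    have := mem_centralizer_iff.mp hxC' v hv
    show ψ v * ψ x = ψ x * ψ v
    rw [← map_mul, ← map_mul, this]
  apply le_antisymm (half φ hφ)
  have hsymm : U.map φ.symm.toMonoidHom = U := by
    conv_lhs => rw [← hφ]
    rw [Subgroup.map_map]
    have : φ.symm.toMonoidHom.comp φ.toMonoidHom = MonoidHom.id K := by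
      ext x; simp
    rw [this, Subgroup.map_id]
  intro x hx
  refine ⟨φ.symm x, half φ.symm hsymm ⟨x, hx, rfl⟩, by simp⟩

/-- criterion: some element outside `B` normalizes `Z(U)` -/
theorem Spl.badAt_of_center [Finite K] (h : Spl p P T U)
    (hCn : normalizer ((U ⊓ centralizer (U : Set K) : Subgroup K) : Set K) ≠ ⊤) (g : K)
    (hg : g ∈ normalizer ((U ⊓ centralizer (U : Set K) : Subgroup K) : Set K)) (hgB : g ∉ P.B) : BadAt p K U :=
  h.badAt_of_char _ (center_canonical U) hCn g hg hgB

theorem normalizer_ne_top_of_simple [IsSimpleGroup K] (C : Subgroup K) (h1 : C ≠ ⊥) (h2 : C ≠ ⊤) :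
    normalizer (C : Set K) ≠ ⊤ := by
  intro h
  have : C.Normal := normalizer_eq_top_iff.mp h
  rcases this.eq_bot_or_eq_top with h | h
  · exact h1 h
  · exact h2 h

end

end Cfsg.Agent.Lib.H3.PMin
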