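import Mathlib
import Cfsg.Agent.Lib.H3.PMinBNf

set_option autoImplicit false

namespace Cfsg.Agent.Lib.H3.PMin

open Cfsg Subgroup Cfsg.Agent.Lib.H2.BN

section push

variable {G K : Type*} [Group G] [Group K] (P : BNPair G) (π : G →* K) (hπ : Function.Surjective π)
  (hker : π.ker ≤ P.B)

include hker in
theorem mem_B_of_map_mem {g : G} (h : π g ∈ P.B.map π) : g ∈ P.B := by
  obtain ⟨b, hb, hbg⟩ := h
  have : b⁻¹ * g ∈ π.ker := by
    rw [MonoidHom.mem_ker, map_mul, map_inv, hbg, inv_mul_cancel]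
  have h2 : g = b * (b⁻¹ * g) := by group
  rw [h2]
  exact mul_mem hb (hker this)

/-- the image of a (B,N)-pair under a surjection with kernel inside `B` -/
def pushBN : BNPair K where
  B := P.B.map π
  N := P.N.map π
  S := π '' P.S
  sup_eq_top := by
    rw [← Subgroup.map_sup, P.sup_eq_top, ← MonoidHom.range_eq_map]
    exact MonoidHom.range_eq_top.mpr hπ
  conj_mem := by
    rintro _ ⟨n, hn, rfl⟩ t ⟨⟨b, hb, hbt⟩, ⟨m, hm, hmt⟩⟩
    have hmB : m ∈ P.B := mem_B_of_map_mem P π hker (hmt ▸ ⟨b, hb, hbt⟩)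
    refine ⟨n * m * n⁻¹, P.conj_mem n hn m ⟨hmB, hm⟩, ?_⟩
    rw [map_mul, map_mul, map_inv, hmt]
  subset := by
    rintro _ ⟨s, hs, rfl⟩
    exact ⟨s, P.subset hs, rfl⟩
  sq_mem := by
    rintro _ ⟨s, hs, rfl⟩
    exact ⟨s * s, P.sq_mem s hs, map_mul π s s⟩
  inj := by
    rintro _ ⟨s, hs, rfl⟩ _ ⟨s', hs', rfl⟩ h
    have h1 : π (s⁻¹ * s') ∈ P.B.map π := by
      rw [map_mul, map_inv]; exact h
    rw [P.inj s hs s' hs' (mem_B_of_map_mem P π hker h1)]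
  closure_sup := by
    have h1 : P.B.map π ⊓ P.N.map π = (P.B ⊓ P.N).map π := by
      apply le_antisymm
      · rintro x ⟨hxB, ⟨n, hn, rfl⟩⟩
        exact ⟨n, ⟨mem_B_of_map_mem P π hker hxB, hn⟩, rfl⟩
      · exact Subgroup.map_inf_le _ _ _
    rw [h1, ← MonoidHom.map_closure, ← Subgroup.map_sup, P.closure_sup]
  mul_mem_union := by
    rintro _ ⟨s, hs, rfl⟩ _ ⟨n, hn, rfl⟩ _ ⟨b, hb, rfl⟩
    rcases P.mul_mem_union s hs n hn b hb with h | h
    · left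
      obtain ⟨b₁, hb₁, b₂, hb₂, he⟩ := DoubleCoset.mem_doubleCoset.mp h
      refine DoubleCoset.mem_doubleCoset.mpr ⟨π b₁, ⟨b₁, hb₁, rfl⟩, π b₂, ⟨b₂, hb₂, rfl⟩, ?_⟩
      rw [← map_mul, ← map_mul, ← map_mul, ← map_mul, ← map_mul, he]
    · right
      obtain ⟨b₁, hb₁, b₂, hb₂, he⟩ := DoubleCoset.mem_doubleCoset.mp h
      refine DoubleCoset.mem_doubleCoset.mpr ⟨π b₁, ⟨b₁, hb₁, rfl⟩, π b₂, ⟨b₂, hb₂, rfl⟩, ?_⟩
      rw [← map_mul, ← map_mul, ← map_mul, ← map_mul, he]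
  conj_ne := by
    rintro _ ⟨s, hs, rfl⟩ h
    apply P.conj_ne s hs
    have hsub : ∀ b ∈ P.B, s * b * s ∈ P.B := by
      intro b hb
      apply mem_B_of_map_mem P π hker
      have : π s * π b * π s ∈ ((P.B.map π : Subgroup K) : Set K) := by
        rw [← h]
        exact ⟨π b, ⟨b, hb, rfl⟩, rfl⟩
      rw [map_mul, map_mul]
      exact this
    have hss : s * s ∈ P.B := P.sq_mem s hs
    ext x
    constructor
    · rintro ⟨b, hb, rfl⟩
      exact hsub b hb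
    · intro hx
      have hx : x ∈ P.B := hx
      -- `x = s (s⁻¹ x s⁻¹) s` and `s⁻¹ x s⁻¹ = (s s)⁻¹ (s x s) (s s)⁻¹`
      refine ⟨(s * s)⁻¹ * (s * x * s) * (s * s)⁻¹, ?_, by group⟩
      exact mul_mem (mul_mem (inv_mem hss) (hsub x hx)) (inv_mem hss)

@[simp] theorem pushBN_B : (pushBN P π hπ hker).B = P.B.map π := rfl
@[simp] theorem pushBN_N : (pushBN P π hπ hker).N = P.N.map π := rfl
@[simp] theorem pushBN_S : (pushBN P π hπ hker).S = π '' P.S := rfl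

theorem eqv_push_iff (x y : G) : Eqv (pushBN P π hπ hker) (π x) (π y) ↔ Eqv P x y := by
  unfold Eqv
  rw [pushBN_B, ← map_inv, ← map_mul]
  constructor
  · exact mem_B_of_map_mem P π hker
  · intro h
    exact ⟨_, h, rfl⟩

variable {P} {p : ℕ} {T U : Subgroup G}

theorem Spl.push (h : Spl p P T U) : Spl p (pushBN P π hπ hker) (T.map π) (U.map π) where
  hTB := Subgroup.map_mono h.hTB
  hNT := by
    rintro _ ⟨n, hn, rfl⟩ _ ⟨t, ht, rfl⟩
    exact ⟨n⁻¹ * t * n, h.hNT n hn t ht, by simp⟩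
  hUB := Subgroup.map_mono h.hUB
  hBTU := by
    rintro _ ⟨b, hb, rfl⟩
    obtain ⟨t, ht, u, hu, rfl⟩ := h.hBTU b hb
    exact ⟨π t, ⟨t, ht, rfl⟩, π u, ⟨u, hu, rfl⟩, map_mul π t u⟩
  hUn := by
    rintro _ ⟨b, hb, rfl⟩ _ ⟨u, hu, rfl⟩
    exact ⟨b⁻¹ * u * b, h.hUn b hb u hu, by simp⟩
  hU := h.hU.map π
  hTp := by
    rintro _ ⟨t, ht, rfl⟩
    exact Nat.Coprime.coprime_dvd_left (orderOf_map_dvd π t) (h.hTp t ht)

end push

end Cfsg.Agent.Lib.H3.PMin
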