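import Mathlib
import Cfsg.Agent.Lib.H3.PMinBNg

set_option autoImplicit false

namespace Cfsg.Agent.Lib.H3.PMin

open Cfsg Subgroup Cfsg.Agent.Lib.H2.BN

/-! ## from split data on `K` itself -/

section klevel

variable {K : Type*} [Group K] [Finite K] {p : ℕ} [Fact p.Prime] {P : BNPair K} {T U : Subgroup K}

theorem Spl.pminR1 (h : Spl p P T U) (hr : R1At K U) : PMinR1 p K := by
  obtain ⟨Q, hQ⟩ := h.exists_sylow
  exact pminR1_of_one p Q (hQ ▸ hr)

theorem Spl.pminR2 (h : Spl p P T U) (hr : R2At K U) : PMinR2 p K := by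
  obtain ⟨Q, hQ⟩ := h.exists_sylow
  exact pminR2_of_one p Q (hQ ▸ hr)

theorem Spl.pminBad (h : Spl p P T U) (hr : BadAt p K U) : PMinBad p K := by
  obtain ⟨Q, hQ⟩ := h.exists_sylow
  exact pminBad_of_one p Q (hQ ▸ hr)

end klevel

/-! ## from split data on a covering group `G ↠ K` -/

section glevel

variable {G K : Type*} [Group G] [Group K] [Finite K] {p : ℕ} [Fact p.Prime] {P : BNPair G} {T U : Subgroup G}

theorem push_parabolic (π : G →* K) (hπ : Function.Surjective π) (hker : π.ker ≤ P.B) (J : Set G) :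
    (pushBN P π hπ hker).parabolic (π '' J) = (P.parabolic J).map π := by
  unfold BNPair.parabolic
  rw [pushBN_B, Subgroup.map_sup, MonoidHom.map_closure]

/-- **rank one** -/
theorem pminR1_of_bn (h : Spl p P T U) (π : G →* K) (hπ : Function.Surjective π) (hker : π.ker ≤ P.B)
    (s : G) (hS : P.S = {s}) : PMinR1 p K :=
  (h.push π hπ hker).pminR1 ((h.push π hπ hker).r1At (π s) (by rw [pushBN_S, hS, Set.image_singleton]))

theorem push_ne (π : G →* K) (hπ : Function.Surjective π) (hker : π.ker ≤ P.B) {s₁ s₂ : G} (h1 : s₁ ∈ P.S)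
    (h2 : s₂ ∈ P.S) (hne : s₁ ≠ s₂) : π s₁ ≠ π s₂ := by
  intro he
  apply hne
  apply P.inj s₁ h1 s₂ h2
  have : Eqv (pushBN P π hπ hker) (π s₁) (π s₂) := by rw [he]; exact Eqv.refl _
  exact (eqv_push_iff P π hπ hker s₁ s₂).mp this

/-- **rank two** -/
theorem pminR2_of_bn (h : Spl p P T U) (π : G →* K) (hπ : Function.Surjective π) (hker : π.ker ≤ P.B)
    (s₁ s₂ : G) (hne : s₁ ≠ s₂) (hS : P.S = {s₁, s₂}) : PMinR2 p K := by
  have hs₁ : s₁ ∈ P.S := by rw [hS]; exact Set.mem_insert _ _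
  have hs₂ : s₂ ∈ P.S := by rw [hS]; exact Set.mem_insert_of_mem _ rfl
  exact (h.push π hπ hker).pminR2 ((h.push π hπ hker).r2At (π s₁) (π s₂) (push_ne π hπ hker hs₁ hs₂ hne)
    (by rw [pushBN_S, hS, Set.image_pair]))

/-- **rank two, `p` odd** -/
theorem pminBad_of_rank_two_odd (h : Spl p P T U) (π : G →* K) (hπ : Function.Surjective π)
    (hker : π.ker ≤ P.B) (s₁ s₂ : G) (hne : s₁ ≠ s₂) (hS : P.S = {s₁, s₂}) (hp : p ≠ 2) : PMinBad p K := by
  have hs₁ : s₁ ∈ P.S := by rw [hS]; exact Set.mem_insert _ _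
  have hs₂ : s₂ ∈ P.S := by rw [hS]; exact Set.mem_insert_of_mem _ rfl
  exact (h.push π hπ hker).pminBad ((h.push π hπ hker).badAt_of_rank_two_odd (π s₁) (π s₂)
    (push_ne π hπ hker hs₁ hs₂ hne) (by rw [pushBN_S, hS, Set.image_pair]) hp)

/-- **the leaf criterion** (rank at least three) -/
theorem pminBad_of_leaf (h : Spl p P T U) (π : G →* K) (hπ : Function.Surjective π) (hker : π.ker ≤ P.B)
    (s₁ s₂ s₃ : G) (h1 : s₁ ∈ P.S) (h2 : s₂ ∈ P.S) (h3 : s₃ ∈ P.S) (h12 : s₁ ≠ s₂) (h13 : s₁ ≠ s₃)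
    (hleaf : ∀ t ∈ P.S, t ≠ s₁ → t ≠ s₂ → Eqv P (s₁ * t) (t * s₁))
    (hn1 : ¬ Eqv P (s₂ * s₁) (s₁ * s₂)) (hn3 : ¬ Eqv P (s₂ * s₃) (s₃ * s₂)) : PMinBad p K := by
  apply (h.push π hπ hker).pminBad
  apply (h.push π hπ hker).badAt_of_leaf (π s₁) (π s₂) (π s₃) ⟨s₁, h1, rfl⟩ ⟨s₂, h2, rfl⟩ ⟨s₃, h3, rfl⟩
    (push_ne π hπ hker h1 h2 h12) (push_ne π hπ hker h1 h3 h13)
  · rintro _ ⟨t, ht, rfl⟩ ht1 ht2
    rw [← map_mul, ← map_mul, eqv_push_iff]
    exact hleaf t ht (fun he => ht1 (he ▸ rfl)) (fun he => ht2 (he ▸ rfl))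
  · rw [← map_mul, ← map_mul, eqv_push_iff]
    exact hn1
  · rw [← map_mul, ← map_mul, eqv_push_iff]
    exact hn3

theorem index_map_eq (π : G →* K) (hπ : Function.Surjective π) (H : Subgroup G) (hker : π.ker ≤ H) :
    (H.map π).index = H.index := by
  rw [← Subgroup.index_comap_of_surjective _ hπ, Subgroup.comap_map_eq, sup_eq_left.mpr hker]

/-- **two minimal parabolic subgroups of different orders** -/
theorem pminBad_of_card_ne [Finite G] (h : Spl p P T U) (π : G →* K) (hπ : Function.Surjective π)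
    (hker : π.ker ≤ P.B) (s s' : G) (hs : s ∈ P.S) (hs' : s' ∈ P.S)
    (hne : Nat.card (P.parabolic {s}) ≠ Nat.card (P.parabolic {s'})) : PMinBad p K := by
  apply (h.push π hπ hker).pminBad
  apply (h.push π hπ hker).badAt_of_card_ne (π s) (π s') ⟨s, hs, rfl⟩ ⟨s', hs', rfl⟩
  rw [← Set.image_singleton, ← Set.image_singleton, push_parabolic, push_parabolic]
  intro he
  apply hne
  have i1 := index_map_eq π hπ (P.parabolic {s}) (hker.trans (B_le_parabolic _))
  have i2 := index_map_eq π hπ (P.parabolic {s'}) (hker.trans (B_le_parabolic _))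
  have c1 := Subgroup.card_mul_index ((P.parabolic {s}).map π)
  have c2 := Subgroup.card_mul_index ((P.parabolic {s'}).map π)
  have hpos : 0 < Nat.card ((P.parabolic {s'}).map π) := Nat.card_pos
  have hidx : (P.parabolic {s}).index = (P.parabolic {s'}).index := by
    rw [← i1, ← i2]
    rw [he] at c1
    exact Nat.eq_of_mul_eq_mul_left hpos (c1.trans c2.symm)
  have d1 := Subgroup.card_mul_index (P.parabolic {s})
  have d2 := Subgroup.card_mul_index (P.parabolic {s'})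
  have hipos : 0 < (P.parabolic {s'}).index := Nat.pos_of_ne_zero Subgroup.index_ne_zero_of_finite
  rw [hidx] at d1
  exact Nat.eq_of_mul_eq_mul_right hipos (d1.trans d2.symm)

end glevel

end Cfsg.Agent.Lib.H3.PMin
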