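import Cfsg.Agent.Lib.H3.PMinCore
import Cfsg.Agent.Lib.H3.PMinBNh

/-!
# S2937 (helper3): umbrella import of the abstract core and of the (B,N)-pair criteria
`Cfsg.Agent.Lib.H3.PMin`: `PMinR1`, `PMinR2`, `PMinBad` (+ `…At` versions, `.of_mulEquiv`, `pmin…_of_one`),
`core_bad`, `core_r1`, `core_r2`; `Spl p P T U`, `pushBN`, `Spl.push`, `eqv_push_iff`;
`pminR1_of_bn`, `pminR2_of_bn`, `pminBad_of_rank_two_odd`, `pminBad_of_leaf`, `pminBad_of_card_ne`;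
on `K` itself: `Spl.r1At`, `Spl.r2At`, `Spl.badAt_of_inv`, `Spl.badAt_of_prop`, `Spl.badAt_of_card_ne`, `Spl.badAt_of_leaf`,
`Spl.badAt_of_rank_two_odd`, `Spl.badAt_of_char`, `Spl.badAt_of_center`, `Spl.pminR1`, `Spl.pminR2`, `Spl.pminBad`.
-/
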