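import Mathlib
import Cfsg.Agent.Lib.H11.RK2Defs
import Cfsg.Agent.S4209

/-!
# S5289 piece T3POW (helper3): the `p`-th power map of a Blackburn group of type T3 is multiplicative

Route: `G' ≤ K = ⟨y, w⟩` (`w = z^(p^(n-3))` central) of exponent `p`, `[K, G] ≤ ⟨w⟩ ≤ Z(G)`, so `G` has class
`≤ 3 < p` and is regular (S4209); the correction term is a product of `p`-th powers of elements of `G'`, hence `1`.
-/

set_option autoImplicit false

namespace Cfsg.Agent.Lib.H3.RK2

open Cfsg.Agent.Lib.H11.RK2
open scoped commutatorElement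

/-- An element commuting with the generators modulo a normal subgroup is central modulo it. -/
theorem central_mod_of_gens {G : Type*} [Group G] (S : Set G) (hS : Subgroup.closure S = ⊤)
    (K : Subgroup G) [K.Normal] (a : G)
    (h : ∀ b ∈ S, QuotientGroup.mk' K a * QuotientGroup.mk' K b =
      QuotientGroup.mk' K b * QuotientGroup.mk' K a) :
    ∀ v : G ⧸ K, QuotientGroup.mk' K a * v = v * QuotientGroup.mk' K a := by
  intro v
  obtain ⟨g, rfl⟩ := QuotientGroup.mk'_surjective K v
  have hg : g ∈ Subgroup.closure S := hS ▸ Subgroup.mem_top g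
  induction hg using Subgroup.closure_induction with
  | mem b hb => exact h b hb
  | one => simp
  | mul u v _ _ hu hv =>
    rw [map_mul]
    exact Commute.mul_right hu hv
  | inv u _ hu =>
    rw [map_inv]
    exact Commute.inv_right hu

/-- Generators commuting modulo a normal subgroup: the quotient is commutative. -/
theorem comm_mod_of_gens {G : Type*} [Group G] (S : Set G) (hS : Subgroup.closure S = ⊤)
    (K : Subgroup G) [K.Normal]
    (h : ∀ a ∈ S, ∀ b ∈ S, QuotientGroup.mk' K a * QuotientGroup.mk' K b =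
      QuotientGroup.mk' K b * QuotientGroup.mk' K a) :
    ∀ u v : G ⧸ K, u * v = v * u := by
  intro u v
  obtain ⟨g, rfl⟩ := QuotientGroup.mk'_surjective K u
  have hg : g ∈ Subgroup.closure S := hS ▸ Subgroup.mem_top g
  induction hg using Subgroup.closure_induction with
  | mem a ha => exact central_mod_of_gens S hS K a (h a ha) v
  | one => simp
  | mul a b _ _ ha hb =>
    rw [map_mul]
    exact Commute.mul_left ha hb
  | inv a _ ha =>
    rw [map_inv]
    exact Commute.inv_left ha

theorem normal_of_le_center {G : Type*} [Group G] (W : Subgroup G) (hW : W ≤ Subgroup.center G) :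
    W.Normal :=
  ⟨fun m hm g => by
    have hmc := Subgroup.mem_center_iff.1 (hW hm) g
    rw [hmc, mul_inv_cancel_right]
    exact hm⟩

theorem T3.pow_mul {G : Type*} [Group G] [Finite G] {p n s : ℕ} [Fact p.Prime] {x y z : G}
    (h : T3 p n s x y z) : ∀ g k : G, (g * k) ^ p = g ^ p * k ^ p := by
  have hp5 := h.hp
  have hn := h.hn
  obtain ⟨w, hw⟩ : ∃ w : G, w = z ^ p ^ (n - 3) := ⟨_, rfl⟩
  have hyw : y * w = w * y := by
    rw [hw]; exact Commute.pow_right (show Commute y z from h.hyz) _
  have hzw : z * w = w * z := by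
    rw [hw]; exact Commute.pow_right (Commute.refl z) _
  have hconj_pow : ∀ m : ℕ, (x⁻¹ * z * x) ^ m = x⁻¹ * z ^ m * x := by
    intro m
    induction m with
    | zero => simp
    | succ m ih => rw [pow_succ, ih, pow_succ]; group
  have hypow : y ^ p ^ (n - 3) = 1 := by
    obtain ⟨m, hm⟩ : ∃ m, n - 3 = m + 1 := ⟨n - 4, by omega⟩
    rw [hm, pow_succ', _root_.pow_mul, h.hy, one_pow]
  have hxw : x⁻¹ * w * x = w := by
    rw [hw, ← hconj_pow, h.hxz, (show Commute y z from h.hyz).mul_pow, hypow, one_mul]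
  have hxw' : x * w = w * x := by
    calc x * w = x * (x⁻¹ * w * x) := by rw [hxw]
      _ = w * x := by group
  have hwc : ∀ g : G, g * w = w * g := by
    intro g
    have hg : g ∈ Subgroup.closure ({x, y, z} : Set G) := h.gen ▸ Subgroup.mem_top g
    induction hg using Subgroup.closure_induction with
    | mem a ha =>
      rcases ha with rfl | rfl | rfl
      exacts [hxw', hyw, hzw]
    | one => simp
    | mul a b _ _ ha hb => exact Commute.mul_left ha hb
    | inv a _ ha => exact Commute.inv_left ha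
  have hwp : w ^ p = 1 := by
    rw [hw, ← _root_.pow_mul, ← pow_succ, show n - 3 + 1 = n - 2 by omega, h.hz]
  -- W = ⟨w⟩ is central
  obtain ⟨W, hWdef⟩ : ∃ W : Subgroup G, W = Subgroup.zpowers w := ⟨_, rfl⟩
  have hWc : W ≤ Subgroup.center G := by
    rw [hWdef, Subgroup.zpowers_le]
    exact Subgroup.mem_center_iff.2 fun g => hwc g
  have hWn : W.Normal := normal_of_le_center W hWc
  have hwW : w ∈ W := by rw [hWdef]; exact Subgroup.mem_zpowers w
  -- in `G ⧸ W` the image of `y` is central
  have hzsW : z ^ (s * p ^ (n - 3)) ∈ W := by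
    rw [mul_comm, _root_.pow_mul, ← hw]
    exact W.pow_mem hwW s
  have hπ1 : ∀ g : G, g ∈ W → QuotientGroup.mk' W g = 1 := fun g hg =>
    (QuotientGroup.eq_one_iff g).2 hg
  have hy1x : QuotientGroup.mk' W y * QuotientGroup.mk' W x =
      QuotientGroup.mk' W x * QuotientGroup.mk' W y := by
    have := congrArg (QuotientGroup.mk' W) h.hxy
    rw [map_mul, map_mul, map_mul, map_inv, hπ1 _ hzsW, mul_one] at this
    calc QuotientGroup.mk' W y * QuotientGroup.mk' W x
        = QuotientGroup.mk' W x * ((QuotientGroup.mk' W x)⁻¹ * QuotientGroup.mk' W y *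
            QuotientGroup.mk' W x) := by group
      _ = QuotientGroup.mk' W x * QuotientGroup.mk' W y := by rw [this]
  have hy1c : ∀ v : G ⧸ W, QuotientGroup.mk' W y * v = v * QuotientGroup.mk' W y := by
    refine central_mod_of_gens _ h.gen W y ?_
    intro b hb
    rcases hb with rfl | rfl | rfl
    · exact hy1x
    · rfl
    · rw [← map_mul, ← map_mul, h.hyz]
  obtain ⟨Y1, hY1def⟩ : ∃ Y1 : Subgroup (G ⧸ W), Y1 = Subgroup.zpowers (QuotientGroup.mk' W y) :=
    ⟨_, rfl⟩
  have hY1c : Y1 ≤ Subgroup.center (G ⧸ W) := by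
    rw [hY1def, Subgroup.zpowers_le]
    exact Subgroup.mem_center_iff.2 fun v => (hy1c v).symm
  have hY1n : Y1.Normal := normal_of_le_center Y1 hY1c
  obtain ⟨K, hKdef⟩ : ∃ K : Subgroup G, K = Y1.comap (QuotientGroup.mk' W) := ⟨_, rfl⟩
  have hKn : K.Normal := by rw [hKdef]; infer_instance
  have hyK : y ∈ K := by
    rw [hKdef, Subgroup.mem_comap, hY1def]
    exact Subgroup.mem_zpowers _
  -- elements of `K` have the form `y^a w^b` and hence order dividing `p`
  have hKp : ∀ k ∈ K, k ^ p = 1 := by
    intro k hk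
    rw [hKdef, Subgroup.mem_comap, hY1def, Subgroup.mem_zpowers_iff] at hk
    obtain ⟨a, ha⟩ := hk
    have h1 : QuotientGroup.mk' W (y ^ a) = QuotientGroup.mk' W k := by
      rw [map_zpow, ha]
    have h2 : (y ^ a)⁻¹ * k ∈ W := by
      have := (QuotientGroup.eq (s := W) (a := y ^ a) (b := k)).1 h1
      exact this
    rw [hWdef, Subgroup.mem_zpowers_iff] at h2
    obtain ⟨b, hb⟩ := h2
    have hk' : k = y ^ a * w ^ b := by
      rw [hb]; group
    have hcomm : Commute (y ^ a) (w ^ b) := by
      have : Commute y w := hyw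
      exact (this.zpow_left a).zpow_right b
    rw [hk', hcomm.mul_pow]
    have e1 : (y ^ a) ^ p = 1 := by
      rw [← zpow_natCast, ← zpow_mul, mul_comm, zpow_mul, zpow_natCast, h.hy, one_zpow]
    have e2 : (w ^ b) ^ p = 1 := by
      rw [← zpow_natCast, ← zpow_mul, mul_comm, zpow_mul, zpow_natCast, hwp, one_zpow]
    rw [e1, e2, mul_one]
  -- `G ⧸ K` is commutative
  have hyK1 : QuotientGroup.mk' K y = 1 := (QuotientGroup.eq_one_iff y).2 hyK
  have hxzK : QuotientGroup.mk' K x * QuotientGroup.mk' K z =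
      QuotientGroup.mk' K z * QuotientGroup.mk' K x := by
    have := congrArg (QuotientGroup.mk' K) h.hxz
    rw [map_mul, map_mul, map_mul, map_inv, hyK1, one_mul] at this
    calc QuotientGroup.mk' K x * QuotientGroup.mk' K z
        = QuotientGroup.mk' K x * ((QuotientGroup.mk' K x)⁻¹ * QuotientGroup.mk' K z *
            QuotientGroup.mk' K x) := by rw [this]
      _ = QuotientGroup.mk' K z * QuotientGroup.mk' K x := by group
  have hQcomm : ∀ u v : G ⧸ K, u * v = v * u := by
    refine comm_mod_of_gens _ h.gen K ?_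
    intro a ha b hb
    rcases ha with rfl | rfl | rfl <;> rcases hb with rfl | rfl | rfl
    · rfl
    · rw [hyK1, mul_one, one_mul]
    · exact hxzK
    · rw [hyK1, mul_one, one_mul]
    · rfl
    · rw [hyK1, mul_one, one_mul]
    · exact hxzK.symm
    · rw [hyK1, mul_one, one_mul]
    · rfl
  have hcommK : ∀ g k : G, ⁅g, k⁆ ∈ K := by
    intro g k
    rw [← QuotientGroup.eq_one_iff, commutatorElement_def]
    have : ((g * k * g⁻¹ * k⁻¹ : G) : G ⧸ K) =
        QuotientGroup.mk' K g * QuotientGroup.mk' K k * (QuotientGroup.mk' K g)⁻¹ *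
          (QuotientGroup.mk' K k)⁻¹ := by
      simp
    rw [this, hQcomm (QuotientGroup.mk' K g) (QuotientGroup.mk' K k)]
    group
  -- the lower central series
  have hl1 : (⊤ : Subgroup G).lowerCentralSeries 1 ≤ K := by
    rw [Subgroup.lowerCentralSeries_succ, Subgroup.lowerCentralSeries_zero, Subgroup.commutator_le]
    intro g _ k _
    exact hcommK g k
  have hKW : ∀ k ∈ K, ∀ g : G, ⁅k, g⁆ ∈ W := by
    intro k hk g
    rw [hKdef, Subgroup.mem_comap] at hk
    have hkc := Subgroup.mem_center_iff.1 (hY1c hk)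
    rw [← QuotientGroup.eq_one_iff, commutatorElement_def]
    have : ((k * g * k⁻¹ * g⁻¹ : G) : G ⧸ W) =
        QuotientGroup.mk' W k * QuotientGroup.mk' W g * (QuotientGroup.mk' W k)⁻¹ *
          (QuotientGroup.mk' W g)⁻¹ := by
      simp
    rw [this, ← hkc (QuotientGroup.mk' W g)]
    group
  have hl2 : (⊤ : Subgroup G).lowerCentralSeries 2 ≤ W := by
    rw [Subgroup.lowerCentralSeries_succ, Subgroup.commutator_le]
    intro g hg k _
    exact hKW g (hl1 hg) k
  have hl3 : (⊤ : Subgroup G).lowerCentralSeries 3 = ⊥ :=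
    Subgroup.lowerCentralSeries_succ_eq_bot ⊤ (hl2.trans hWc)
  have hcl : (⊤ : Subgroup G).lowerCentralSeries (p - 1) = ⊥ := by
    have := Subgroup.lowerCentralSeries_antitone (⊤ : Subgroup G) (show 3 ≤ p - 1 by omega)
    rw [hl3] at this
    exact le_bot_iff.1 this
  have hG : IsPGroup p G := IsPGroup.of_card h.card
  have hreg := Cfsg.Agent.S4209.result hG hcl
  intro g k
  obtain ⟨c, hc, hgk⟩ := hreg.2 g k 1
  have hc1 : c = 1 := by
    have hle : Cfsg.powerClosure p 1 ⁅Subgroup.closure ({g, k} : Set G),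
        Subgroup.closure ({g, k} : Set G)⁆ ≤ ⊥ := by
      unfold Cfsg.powerClosure
      rw [Subgroup.closure_le]
      rintro u ⟨v, hv, rfl⟩
      have hvK : v ∈ K := by
        apply hl1
        rw [Subgroup.lowerCentralSeries_succ, Subgroup.lowerCentralSeries_zero]
        exact Subgroup.commutator_mono le_top le_top hv
      rw [pow_one, hKp v hvK]
      exact Subgroup.mem_bot.2 rfl
    exact Subgroup.mem_bot.1 (hle hc)
  rw [pow_one, hc1, mul_one] at hgk
  exact hgk

end Cfsg.Agent.Lib.H3.RK2
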