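import Cfsg.Agent.Lib.H1.S77.Hyp

/-!
# S0429 piece (FAM): the PSD inequality for weights constant on pairwise disjoint groups
(blueprint `tools/blueprints/S0429.md`)
-/

set_option autoImplicit false
set_option linter.unusedSectionVars false
open Cfsg

namespace Cfsg.Agent.Lib.H3.S77

open Cfsg.Agent.Lib.H1.S77 Finset

section
variable {V : Type*} [Fintype V] [DecidableEq V] {G : SimpleGraph V} [DecidableRel G.Adj]

/-- the indicator weight of the group `S` with value `c` -/
def ind (S : Finset V) (c : ℤ) (x : V) : ℤ := if x ∈ S then c else 0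

theorem sum_ind (S : Finset V) (c : ℤ) : ∑ x, ind S c x = c * (S.card : ℤ) := by
  unfold ind
  rw [Finset.sum_ite_mem, Finset.univ_inter, Finset.sum_const, nsmul_eq_mul, mul_comm]

theorem sum_ind_on (N S : Finset V) (c : ℤ) : ∑ y ∈ N, ind S c y = ((N ∩ S).card : ℤ) * c := by
  unfold ind
  rw [Finset.sum_ite_mem, Finset.sum_const, nsmul_eq_mul]

/-- one term of the double sum -/
theorem ee_term (S T : Finset V) (c d : ℤ) :
    ∑ x, ∑ y ∈ G.neighborFinset x, ind S c x * ind T d y = c * d * ee G S T := by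
  have h1 : ∀ x, ∑ y ∈ G.neighborFinset x, ind S c x * ind T d y
      = if x ∈ S then c * (((G.neighborFinset x ∩ T).card : ℤ) * d) else 0 := by
    intro x
    rw [← Finset.mul_sum, sum_ind_on]
    unfold ind
    split_ifs <;> simp
  rw [Finset.sum_congr rfl fun x _ => h1 x, Finset.sum_ite_mem, Finset.univ_inter]
  unfold ee
  rw [Finset.mul_sum]
  refine Finset.sum_congr rfl fun x _ => ?_
  ring

theorem psd_fam (h : HPsd G) : HPsdFam G := by
  intro k S hdisj c
  have hw := h (fun x => ∑ i, ind (S i) (c i) x)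
  -- the linear term
  have h1 : ∑ x, (∑ i, ind (S i) (c i) x) = ∑ i, c i * ((S i).card : ℤ) := by
    rw [Finset.sum_comm]
    exact Finset.sum_congr rfl fun i _ => sum_ind (S i) (c i)
  -- the square term
  have h2 : ∑ x, (∑ i, ind (S i) (c i) x) ^ 2 = ∑ i, c i ^ 2 * ((S i).card : ℤ) := by
    have hx : ∀ x, (∑ i, ind (S i) (c i) x) ^ 2 = ∑ i, ind (S i) (c i ^ 2) x := by
      intro x
      by_cases hx : ∃ i, x ∈ S i
      · obtain ⟨i0, hi0⟩ := hx
        have hne : ∀ j, j ≠ i0 → x ∉ S j := fun j hj hxj =>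
          (Finset.disjoint_left.mp (hdisj j i0 hj) hxj) hi0
        rw [Finset.sum_eq_single i0 (fun j _ hj => by simp [ind, hne j hj]) (by simp),
          Finset.sum_eq_single i0 (fun j _ hj => by simp [ind, hne j hj]) (by simp)]
        simp [ind, hi0]
      · have hx' : ∀ i, x ∉ S i := fun i hi => hx ⟨i, hi⟩
        simp [ind, hx']
    rw [Finset.sum_congr rfl fun x _ => hx x, Finset.sum_comm]
    exact Finset.sum_congr rfl fun i _ => sum_ind (S i) (c i ^ 2)
  -- the edge term
  have h3 : ∑ x, ∑ y ∈ G.neighborFinset x,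
        (∑ i, ind (S i) (c i) x) * (∑ j, ind (S j) (c j) y)
      = ∑ i, ∑ j, c i * c j * ee G (S i) (S j) := by
    calc ∑ x, ∑ y ∈ G.neighborFinset x,
          (∑ i, ind (S i) (c i) x) * (∑ j, ind (S j) (c j) y)
        = ∑ x, ∑ y ∈ G.neighborFinset x, ∑ i, ∑ j,
            ind (S i) (c i) x * ind (S j) (c j) y := by
          refine Finset.sum_congr rfl fun x _ => Finset.sum_congr rfl fun y _ => ?_
          rw [Finset.sum_mul_sum]
      _ = ∑ x, ∑ i, ∑ y ∈ G.neighborFinset x, ∑ j,
            ind (S i) (c i) x * ind (S j) (c j) y :=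
          Finset.sum_congr rfl fun x _ => Finset.sum_comm
      _ = ∑ i, ∑ x, ∑ y ∈ G.neighborFinset x, ∑ j,
            ind (S i) (c i) x * ind (S j) (c j) y := Finset.sum_comm
      _ = ∑ i, ∑ x, ∑ j, ∑ y ∈ G.neighborFinset x,
            ind (S i) (c i) x * ind (S j) (c j) y :=
          Finset.sum_congr rfl fun i _ => Finset.sum_congr rfl fun x _ => Finset.sum_comm
      _ = ∑ i, ∑ j, ∑ x, ∑ y ∈ G.neighborFinset x,
            ind (S i) (c i) x * ind (S j) (c j) y :=
          Finset.sum_congr rfl fun i _ => Finset.sum_comm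
      _ = ∑ i, ∑ j, c i * c j * ee G (S i) (S j) :=
          Finset.sum_congr rfl fun i _ => Finset.sum_congr rfl fun j _ =>
            ee_term (S i) (S j) (c i) (c j)
  have hw' : 0 ≤ 22 * ∑ x, (∑ i, ind (S i) (c i) x) ^ 2
      - 11 * ∑ x, ∑ y ∈ G.neighborFinset x, (∑ i, ind (S i) (c i) x) * (∑ j, ind (S j) (c j) y)
      + 2 * (∑ x, ∑ i, ind (S i) (c i) x) ^ 2 := hw
  rw [h1, h2, h3] at hw'
  exact hw'

end

end Cfsg.Agent.Lib.H3.S77
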