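import Cfsg.Agent.Lib.H1.S77.Hyp
import Cfsg.Agent.Lib.H3.S77EE

/-!
# S0429 piece (T3): three pairwise non-adjacent vertices do not have exactly three common
neighbours (blueprint `tools/blueprints/S0429.md`; PSD certificate with weights (3,2,1), value -12)
-/

set_option autoImplicit false
set_option linter.unusedSectionVars false
open Cfsg

namespace Cfsg.Agent.Lib.H3.S77

open Cfsg.Agent.Lib.H1.S77 Finset

section
variable {V : Type*} [Fintype V] [DecidableEq V] {G : SimpleGraph V} [DecidableRel G.Adj]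

/-- the PSD inequality for three groups -/
theorem psd_three (hp : HPsdFam G) (S0 S1 S2 : Finset V) (h01 : Disjoint S0 S1)
    (h02 : Disjoint S0 S2) (h12 : Disjoint S1 S2) (c0 c1 c2 : ℤ) :
    0 ≤ 22 * (c0 ^ 2 * (S0.card : ℤ) + c1 ^ 2 * (S1.card : ℤ) + c2 ^ 2 * (S2.card : ℤ))
      - 11 * ((c0 * c0 * ee G S0 S0 + c0 * c1 * ee G S0 S1 + c0 * c2 * ee G S0 S2)
        + (c1 * c0 * ee G S1 S0 + c1 * c1 * ee G S1 S1 + c1 * c2 * ee G S1 S2)
        + (c2 * c0 * ee G S2 S0 + c2 * c1 * ee G S2 S1 + c2 * c2 * ee G S2 S2))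
      + 2 * (c0 * (S0.card : ℤ) + c1 * (S1.card : ℤ) + c2 * (S2.card : ℤ)) ^ 2 := by
  have hd : ∀ i j : Fin 3, i ≠ j → Disjoint (![S0, S1, S2] i) (![S0, S1, S2] j) := by
    intro i j hij
    fin_cases i <;> fin_cases j
    · exact absurd rfl hij
    · exact h01
    · exact h02
    · exact h01.symm
    · exact absurd rfl hij
    · exact h12
    · exact h02.symm
    · exact h12.symm
    · exact absurd rfl hij
  have h := hp 3 ![S0, S1, S2] hd ![c0, c1, c2]
  simp only [Fin.sum_univ_three] at h
  simpa using h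

theorem sum_triple {a b c : V} (hab : a ≠ b) (hac : a ≠ c) (hbc : b ≠ c) (f : V → ℤ) :
    ∑ v ∈ ({a, b, c} : Finset V), f v = f a + f b + f c := by
  rw [Finset.sum_insert (by simp [hab, hac]), Finset.sum_insert (by simp [hbc]),
    Finset.sum_singleton]
  ring

/-- if `p, q, r` have three common neighbours, exactly one common neighbour of `q, r` is not
a neighbour of `p` -/
theorem card_third (hG : G.IsSRGWith 77 16 0 4) {p q r : V} (hqr : q ≠ r) (nqr : ¬ G.Adj q r)
    (h3 : (univ.filter (fun a => G.Adj p a ∧ G.Adj q a ∧ G.Adj r a)).card = 3) :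
    (univ.filter (fun w => G.Adj q w ∧ G.Adj r w ∧ ¬ G.Adj p w)).card = 1 := by
  have h4 := nadj_common hG hqr nqr
  have hsplit := Finset.card_filter_add_card_filter_not
    (s := G.neighborFinset q ∩ G.neighborFinset r) (fun a => G.Adj p a)
  have e1 : (G.neighborFinset q ∩ G.neighborFinset r).filter (fun a => G.Adj p a)
      = univ.filter (fun a => G.Adj p a ∧ G.Adj q a ∧ G.Adj r a) := by
    ext a; simp; tauto
  have e2 : (G.neighborFinset q ∩ G.neighborFinset r).filter (fun a => ¬ G.Adj p a)
      = univ.filter (fun w => G.Adj q w ∧ G.Adj r w ∧ ¬ G.Adj p w) := by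
    ext a; simp; tauto
  rw [e1, e2, h3, h4] at hsplit
  omega

theorem triple_ne_three (hG : G.IsSRGWith 77 16 0 4) (hp : HPsdFam G) {x y z : V}
    (hxy : x ≠ y) (hxz : x ≠ z) (hyz : y ≠ z)
    (nxy : ¬ G.Adj x y) (nxz : ¬ G.Adj x z) (nyz : ¬ G.Adj y z) :
    (G.neighborFinset x ∩ G.neighborFinset y ∩ G.neighborFinset z).card ≠ 3 := by
  intro hT
  have nyx : ¬ G.Adj y x := fun h => nxy h.symm
  have nzx : ¬ G.Adj z x := fun h => nxz h.symm
  have nzy : ¬ G.Adj z y := fun h => nyz h.symm
  have nxx : ¬ G.Adj x x := G.irrefl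
  have nyy : ¬ G.Adj y y := G.irrefl
  have nzz : ¬ G.Adj z z := G.irrefl
  set T := G.neighborFinset x ∩ G.neighborFinset y ∩ G.neighborFinset z with hTdef
  have memT : ∀ a, a ∈ T ↔ G.Adj x a ∧ G.Adj y a ∧ G.Adj z a := by
    intro a; simp [hTdef]
  have hTx : (univ.filter (fun a => G.Adj x a ∧ G.Adj y a ∧ G.Adj z a)).card = 3 := by
    rw [← hT]; congr 1; ext a; simp [memT]
  have hTy : (univ.filter (fun a => G.Adj y a ∧ G.Adj x a ∧ G.Adj z a)).card = 3 := by
    rw [← hT]; congr 1; ext a; simp [memT]; tauto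
  have hTz : (univ.filter (fun a => G.Adj z a ∧ G.Adj x a ∧ G.Adj y a)).card = 3 := by
    rw [← hT]; congr 1; ext a; simp [memT]; tauto
  obtain ⟨wx, hwx⟩ := Finset.card_eq_one.mp (card_third hG hyz nyz hTx)
  obtain ⟨wy, hwy⟩ := Finset.card_eq_one.mp (card_third hG hxz nxz hTy)
  obtain ⟨wz, hwz⟩ := Finset.card_eq_one.mp (card_third hG hxy nxy hTz)
  have px : G.Adj y wx ∧ G.Adj z wx ∧ ¬ G.Adj x wx := by
    have := Finset.mem_singleton_self wx
    rw [← hwx] at this
    simpa using this
  have py : G.Adj x wy ∧ G.Adj z wy ∧ ¬ G.Adj y wy := by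
    have := Finset.mem_singleton_self wy
    rw [← hwy] at this
    simpa using this
  have pz : G.Adj x wz ∧ G.Adj y wz ∧ ¬ G.Adj z wz := by
    have := Finset.mem_singleton_self wz
    rw [← hwz] at this
    simpa using this
  obtain ⟨aywx, azwx, nxwx⟩ := px
  obtain ⟨axwy, azwy, nywy⟩ := py
  obtain ⟨axwz, aywz, nzwz⟩ := pz
  have hwxy : wx ≠ wy := by rintro rfl; exact nxwx axwy
  have hwxz : wx ≠ wz := by rintro rfl; exact nxwx axwz
  have hwyz : wy ≠ wz := by rintro rfl; exact nywy aywz
  -- the groups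
  have c0 : ({x, y, z} : Finset V).card = 3 := by
    rw [Finset.card_insert_of_notMem (by simp [hxy, hxz]),
      Finset.card_insert_of_notMem (by simp [hyz]), Finset.card_singleton]
  have c2 : ({wx, wy, wz} : Finset V).card = 3 := by
    rw [Finset.card_insert_of_notMem (by simp [hwxy, hwxz]),
      Finset.card_insert_of_notMem (by simp [hwyz]), Finset.card_singleton]
  have d01 : Disjoint ({x, y, z} : Finset V) T := by
    rw [Finset.disjoint_left]
    intro a ha haT
    obtain ⟨h1, h2, h3⟩ := (memT a).mp haT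
    simp only [Finset.mem_insert, Finset.mem_singleton] at ha
    rcases ha with rfl | rfl | rfl
    · exact G.irrefl h1
    · exact G.irrefl h2
    · exact G.irrefl h3
  have d02 : Disjoint ({x, y, z} : Finset V) {wx, wy, wz} := by
    rw [Finset.disjoint_left]
    intro a ha hb
    simp only [Finset.mem_insert, Finset.mem_singleton] at ha hb
    rcases ha with rfl | rfl | rfl <;> rcases hb with h | h | h <;> subst h <;>
      first
      | exact nxy (by assumption) | exact nyx (by assumption) | exact nxz (by assumption)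
      | exact nzx (by assumption) | exact nyz (by assumption) | exact nzy (by assumption)
  have d12 : Disjoint T ({wx, wy, wz} : Finset V) := by
    rw [Finset.disjoint_left]
    intro a haT hb
    obtain ⟨h1, h2, h3⟩ := (memT a).mp haT
    simp only [Finset.mem_insert, Finset.mem_singleton] at hb
    rcases hb with rfl | rfl | rfl
    · exact nxwx h1
    · exact nywy h2
    · exact nzwz h3
  -- the edge counts
  have e00 : ee G ({x, y, z} : Finset V) {x, y, z} = 0 := by
    refine ee_eq_zero ?_
    intro a ha b hb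
    simp only [Finset.mem_insert, Finset.mem_singleton] at ha hb
    rcases ha with rfl | rfl | rfl <;> rcases hb with rfl | rfl | rfl <;> assumption
  have e11 : ee G T T = 0 := by
    refine ee_eq_zero ?_
    intro a ha b hb
    exact no_tri hG ((memT a).mp ha).1 ((memT b).mp hb).1
  have e12 : ee G T ({wx, wy, wz} : Finset V) = 0 := by
    refine ee_eq_zero ?_
    intro a ha b hb
    obtain ⟨h1, h2, h3⟩ := (memT a).mp ha
    simp only [Finset.mem_insert, Finset.mem_singleton] at hb
    rcases hb with rfl | rfl | rfl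
    · exact no_tri hG h2 aywx
    · exact no_tri hG h1 axwy
    · exact no_tri hG h1 axwz
  have e21 : ee G ({wx, wy, wz} : Finset V) T = 0 := by rw [ee_comm, e12]
  have e22 : ee G ({wx, wy, wz} : Finset V) {wx, wy, wz} = 0 := by
    refine ee_eq_zero ?_
    intro a ha b hb
    simp only [Finset.mem_insert, Finset.mem_singleton] at ha hb
    rcases ha with rfl | rfl | rfl <;> rcases hb with rfl | rfl | rfl
    · exact G.irrefl
    · exact no_tri hG azwx azwy
    · exact no_tri hG aywx aywz
    · exact no_tri hG azwy azwx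
    · exact G.irrefl
    · exact no_tri hG axwy axwz
    · exact no_tri hG aywz aywx
    · exact no_tri hG axwz axwy
    · exact G.irrefl
  have e01 : ee G ({x, y, z} : Finset V) T = 9 := by
    rw [ee_complete (T := T), c0, hT]
    · norm_num
    · intro a ha b hb
      obtain ⟨h1, h2, h3⟩ := (memT b).mp hb
      simp only [Finset.mem_insert, Finset.mem_singleton] at ha
      rcases ha with rfl | rfl | rfl <;> assumption
  have e10 : ee G T ({x, y, z} : Finset V) = 9 := by rw [ee_comm, e01]
  have e02 : ee G ({x, y, z} : Finset V) {wx, wy, wz} = 6 := by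
    rw [ee_eq_sum, sum_triple hxy hxz hyz, sum_triple hwxy hwxz hwyz, sum_triple hwxy hwxz hwyz,
      sum_triple hwxy hwxz hwyz]
    rw [if_neg nxwx, if_pos axwy, if_pos axwz, if_pos aywx, if_neg nywy, if_pos aywz,
      if_pos azwx, if_pos azwy, if_neg nzwz]
    norm_num
  have e20 : ee G ({wx, wy, wz} : Finset V) {x, y, z} = 6 := by rw [ee_comm, e02]
  have key := psd_three hp {x, y, z} T {wx, wy, wz} d01 d02 d12 3 2 1
  rw [e00, e01, e02, e10, e11, e12, e20, e21, e22, c0, c2, hT] at key
  norm_num at key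

end

end Cfsg.Agent.Lib.H3.S77
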