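import Cfsg.Agent.Lib.H3.Sylow
import Cfsg.Agent.Lib.H3.Wielandt
import Cfsg.Agent.Lib.H1.PCore
import Mathlib

/-!
helper3 library: subnormal `p`-subgroups lie in `O_p`; the commutator `[A, B]` is normal in `⟨A, B⟩`.
-/

set_option autoImplicit false
open scoped Pointwise commutatorElement
open Cfsg

namespace Cfsg.Agent.Lib.H3

variable {G : Type*} [Group G]

/-- A subnormal `p`-subgroup of a finite group lies in `O_p(G)`. -/
theorem isSubnormal_isPGroup_le_pCore [Finite G] {p : ℕ} [hp : Fact p.Prime] {X : Subgroup G}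
    (hsn : X.IsSubnormal) (hX : IsPGroup p X) : X ≤ Cfsg.pCore p G := by
  rw [H1.pCore_eq_iInf_sylow]
  apply le_iInf
  intro P
  rw [← Subgroup.relIndex_eq_one]
  have h1 : ¬ p ∣ (P : Subgroup G).relIndex X :=
    not_dvd_relIndex_of_isSubnormal (P : Subgroup G) hsn P.not_dvd_index
  have h2 : (P : Subgroup G).relIndex X ∣ Nat.card X := Subgroup.relIndex_dvd_card _ _
  obtain ⟨k, hk⟩ := IsPGroup.iff_card.1 hX
  rw [hk] at h2
  obtain ⟨i, -, hi⟩ := (Nat.dvd_prime_pow hp.out).1 h2
  rcases Nat.eq_zero_or_pos i with h0 | h0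
  · rw [hi, h0, pow_zero]
  · exfalso; apply h1; rw [hi]; exact dvd_pow_self p h0.ne'

theorem conj_commutatorElement_left (a x y : G) :
    a * ⁅x, y⁆ * a⁻¹ = ⁅a * x, y⁆ * ⁅a, y⁆⁻¹ := by
  simp only [commutatorElement_def]; group

theorem conj_commutatorElement_right (b x y : G) :
    b * ⁅x, y⁆ * b⁻¹ = ⁅x, b⁆⁻¹ * ⁅x, b * y⁆ := by
  simp only [commutatorElement_def]; group

/-- `[A, B]` is normalized by `A` and `B`. -/
theorem sup_le_normalizer_commutator (A B : Subgroup G) :
    A ⊔ B ≤ Subgroup.normalizer ((⁅A, B⁆ : Subgroup G) : Set G) := by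
  have hA : ∀ a ∈ A, ∀ z ∈ ⁅A, B⁆, a * z * a⁻¹ ∈ ⁅A, B⁆ := by
    intro a ha
    have h1 : ⁅A, B⁆ ≤ (⁅A, B⁆ : Subgroup G).comap (MulAut.conj a).toMonoidHom := by
      rw [Subgroup.commutator_le]
      intro x hx y hy
      rw [Subgroup.mem_comap]
      show a * ⁅x, y⁆ * a⁻¹ ∈ ⁅A, B⁆
      rw [conj_commutatorElement_left]
      exact Subgroup.mul_mem _ (Subgroup.commutator_mem_commutator (A.mul_mem ha hx) hy)
        (Subgroup.inv_mem _ (Subgroup.commutator_mem_commutator ha hy))
    intro z hz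
    exact h1 hz
  have hB : ∀ b ∈ B, ∀ z ∈ ⁅A, B⁆, b * z * b⁻¹ ∈ ⁅A, B⁆ := by
    intro b hb
    have h1 : ⁅A, B⁆ ≤ (⁅A, B⁆ : Subgroup G).comap (MulAut.conj b).toMonoidHom := by
      rw [Subgroup.commutator_le]
      intro x hx y hy
      rw [Subgroup.mem_comap]
      show b * ⁅x, y⁆ * b⁻¹ ∈ ⁅A, B⁆
      rw [conj_commutatorElement_right]
      exact Subgroup.mul_mem _ (Subgroup.inv_mem _ (Subgroup.commutator_mem_commutator hx hb))
        (Subgroup.commutator_mem_commutator hx (B.mul_mem hb hy))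
    intro z hz
    exact h1 hz
  apply sup_le
  · intro a ha
    rw [Subgroup.mem_normalizer_iff]
    intro z
    constructor
    · exact hA a ha z
    · intro hz
      have := hA a⁻¹ (A.inv_mem ha) _ hz
      simpa [mul_assoc] using this
  · intro b hb
    rw [Subgroup.mem_normalizer_iff]
    intro z
    constructor
    · exact hB b hb z
    · intro hz
      have := hB b⁻¹ (B.inv_mem hb) _ hz
      simpa [mul_assoc] using this

theorem commutator_le_sup (A B : Subgroup G) : ⁅A, B⁆ ≤ A ⊔ B := by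
  rw [Subgroup.commutator_le]
  intro x hx y hy
  rw [commutatorElement_def]
  have hx' : x ∈ A ⊔ B := Subgroup.mem_sup_left hx
  have hy' : y ∈ A ⊔ B := Subgroup.mem_sup_right hy
  exact Subgroup.mul_mem _ (Subgroup.mul_mem _ (Subgroup.mul_mem _ hx' hy') (Subgroup.inv_mem _ hx'))
    (Subgroup.inv_mem _ hy')

/-- The commutator of two subnormal subgroups of a finite group is subnormal. -/
theorem isSubnormal_commutator [Finite G] {A B : Subgroup G} (hA : A.IsSubnormal)
    (hB : B.IsSubnormal) : (⁅A, B⁆ : Subgroup G).IsSubnormal := by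
  have h1 : (A ⊔ B).IsSubnormal := isSubnormal_sup _ G rfl A B hA hB
  have h2 : ((⁅A, B⁆ : Subgroup G).subgroupOf (A ⊔ B)).Normal :=
    (Subgroup.normal_subgroupOf_iff_le_normalizer (commutator_le_sup A B)).2
      (sup_le_normalizer_commutator A B)
  exact Subgroup.IsSubnormal.trans (commutator_le_sup A B) h2.isSubnormal h1

end Cfsg.Agent.Lib.H3
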