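import Cfsg.Agent.Lib.H3.HallSystem2
import Cfsg.Agent.Lib.H3.Sylow
import Cfsg.Agent.Lib.H3.Wielandt2
import Mathlib

/-!
helper3 library: relative conjugacy of Hall complement systems; system normalizers and quotients.
-/

set_option autoImplicit false
open scoped Pointwise

namespace Cfsg.Agent.Lib.H3

variable {G : Type*} [Group G]

theorem mem_normalizer_of_conj_smul_eq {H : Subgroup G} {g : G} (h : MulAut.conj g • H = H) :
    g ∈ Subgroup.normalizer (H : Set G) := by
  rw [Subgroup.mem_normalizer_iff]
  intro x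
  constructor
  · intro hx
    have h1 : MulAut.conj g • x ∈ MulAut.conj g • H := Subgroup.smul_mem_pointwise_smul _ _ _ hx
    rw [h] at h1
    simpa [MulAut.smul_def] using h1
  · intro hx
    have h1 : MulAut.conj g • x ∈ MulAut.conj g • H := by
      rw [h]; simpa [MulAut.smul_def] using hx
    exact Subgroup.smul_mem_pointwise_smul_iff.1 h1

theorem relIndex_dvd_index_of_normal_right [Finite G] (K N : Subgroup G) [N.Normal] :
    K.relIndex N ∣ K.index := by
  rw [relIndex_eq_relIndex_sup_of_normal K N]
  exact Subgroup.relIndex_dvd_index_of_le le_sup_left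

/-- Two subgroups of the same order `m` inside a solvable subgroup `M`, where `|G| = m * n` with
`m`, `n` coprime, are conjugate by an element of `M`. -/
theorem hall_conj_in_subgroup [Finite G] {m n : ℕ} (hG : Nat.card G = m * n) (hmn : m.Coprime n)
    (M X L : Subgroup G) [Group.IsSolvable M] (hXM : X ≤ M) (hLM : L ≤ M)
    (hX : Nat.card X = m) (hL : Nat.card L = m) :
    ∃ y ∈ M, MulAut.conj y • X = L := by
  have hmM : m ∣ Nat.card M := hX ▸ Subgroup.card_dvd_of_le hXM
  obtain ⟨n', hn'⟩ := hmM
  have hMG : Nat.card M ∣ Nat.card G := Subgroup.card_subgroup_dvd_card M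
  have hm0 : 0 < m := by rw [← hX]; exact Nat.card_pos
  have hn'n : n' ∣ n := by
    rw [hn', hG] at hMG
    exact Nat.dvd_of_mul_dvd_mul_left hm0 hMG
  have hcop : m.Coprime n' := Nat.Coprime.coprime_dvd_right hn'n hmn
  have hX' : Nat.card (X.subgroupOf M) = m := by rw [card_subgroupOf_of_le hXM, hX]
  have hL' : Nat.card (L.subgroupOf M) = m := by rw [card_subgroupOf_of_le hLM, hL]
  obtain ⟨g, hg⟩ := Cfsg.Agent.Lib.H1.hall_conj hn' hcop (X.subgroupOf M) (L.subgroupOf M) hX' hL'
  refine ⟨g, g.2, ?_⟩
  have := congrArg (Subgroup.map M.subtype) hg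
  rwa [conj_smul_map_subtype, Subgroup.map_subgroupOf_eq_of_le hXM,
    Subgroup.map_subgroupOf_eq_of_le hLM] at this

theorem exists_mul_of_coprime_relIndex [Finite G] (N A B : Subgroup G)
    (h : (A.relIndex N).Coprime (B.relIndex N)) {x : G} (hx : x ∈ N) :
    ∃ a ∈ A ⊓ N, ∃ b ∈ B ⊓ N, x = a * b := by
  have huniv := mul_eq_univ_of_coprime_index (A.subgroupOf N) (B.subgroupOf N) h
  have hmem : (⟨x, hx⟩ : N) ∈ ((A.subgroupOf N : Set N) * (B.subgroupOf N : Set N)) := by
    rw [huniv]; trivial
  obtain ⟨a, ha, b, hb, hab⟩ := Set.mem_mul.1 hmem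
  refine ⟨a, ⟨Subgroup.mem_subgroupOf.1 ha, a.2⟩, b, ⟨Subgroup.mem_subgroupOf.1 hb, b.2⟩, ?_⟩
  have := congrArg Subtype.val hab
  simpa using this.symm

/-- Relative conjugacy of complement systems: if `L p ≤ K p ⊔ N` for all `p` then the two systems
are conjugate by an element of the normal subgroup `N`. -/
theorem complementSystem_conj_rel [Finite G] [Group.IsSolvable G] (N : Subgroup G) [hN : N.Normal]
    (K L : Nat.Primes → Subgroup G) (hK : Cfsg.IsComplementSystem K)
    (hL : Cfsg.IsComplementSystem L) (hKL : ∀ p, L p ≤ K p ⊔ N) (T : Finset Nat.Primes) :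
    ∃ g ∈ N, ∀ p ∈ T, MulAut.conj g • K p = L p := by
  classical
  induction T using Finset.induction_on with
  | empty => exact ⟨1, N.one_mem, fun p hp => absurd hp (Finset.notMem_empty p)⟩
  | insert q T hq ih =>
    obtain ⟨g, hgN, hg⟩ := ih
    set M := K q ⊔ N with hM
    set X := MulAut.conj g • K q with hX
    have hgM : g ∈ M := (le_sup_right : N ≤ M) hgN
    have hXM : X ≤ M := by
      have h1 : MulAut.conj g • K q ≤ MulAut.conj g • M :=
        Subgroup.pointwise_smul_le_pointwise_smul_iff.2 le_sup_left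
      rwa [Subgroup.conj_smul_eq_self_of_mem hgM] at h1
    have hXN : X ⊔ N = M := by
      have h1 : MulAut.conj g • M = MulAut.conj g • K q ⊔ MulAut.conj g • N := by
        rw [hM]; exact Subgroup.smul_sup _ _ _
      rw [Subgroup.conj_smul_eq_self_of_mem hgM, Subgroup.conj_smul_eq_self_of_mem hgN] at h1
      exact h1.symm
    have hG0 : Nat.card G ≠ 0 := Nat.card_pos.ne'
    obtain ⟨n, hn⟩ : ∃ n : ℕ, n = (q : ℕ) ^ (Nat.card G).factorization q := ⟨_, rfl⟩
    obtain ⟨m, hm⟩ : ∃ m : ℕ, m = Nat.card G / n := ⟨_, rfl⟩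
    have hXidx : X.index = n := by rw [hX, index_conj_smul, hK q, hn]
    have hLidx : (L q).index = n := by rw [hL q, hn]
    have hGmn : Nat.card G = m * n := by
      rw [hm, hn]
      exact (Nat.div_mul_cancel (Nat.ordProj_dvd _ _)).symm
    have hmn : m.Coprime n := by
      rw [hm, hn]
      exact ((Nat.coprime_ordCompl q.2 hG0).pow_left _).symm
    have hnpos : 0 < n := by rw [hn]; exact pow_pos q.2.pos _
    have hcardX : Nat.card X = m := by
      have h1 := Subgroup.index_mul_card X
      rw [hXidx, hGmn, mul_comm m n] at h1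
      exact Nat.eq_of_mul_eq_mul_left hnpos h1
    have hcardL : Nat.card (L q) = m := by
      have h1 := Subgroup.index_mul_card (L q)
      rw [hLidx, hGmn, mul_comm m n] at h1
      exact Nat.eq_of_mul_eq_mul_left hnpos h1
    obtain ⟨y, hyM, hy⟩ := hall_conj_in_subgroup hGmn hmn M X (L q) hXM (hKL q) hcardX hcardL
    -- y = n1 * x1 with n1 ∈ N, x1 ∈ X
    rw [← hXN, sup_comm] at hyM
    obtain ⟨n1, hn1, x1, hx1, rfl⟩ := Subgroup.mem_sup_of_normal_left.1 hyM
    have hn1X : MulAut.conj n1 • X = L q := by
      rw [map_mul, mul_smul, Subgroup.conj_smul_eq_self_of_mem hx1] at hy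
      exact hy
    -- adjust n1 into N ⊓ D
    set D : Subgroup G := ⨅ p ∈ T, L p with hD
    have hcop : ((L q).relIndex N).Coprime (D.relIndex N) := by
      apply Nat.Coprime.coprime_dvd_left (relIndex_dvd_index_of_normal_right (L q) N)
      apply Nat.Coprime.coprime_dvd_right (relIndex_dvd_index_of_normal_right D N)
      rw [hL q, hD, index_iInf_complementSystem hL T]
      apply Nat.Coprime.prod_right
      intro r hr
      apply coprime_pow_factorization
      rintro rfl
      exact hq hr
    obtain ⟨l, hl, d, hd, rfl⟩ := exists_mul_of_coprime_relIndex N (L q) D hcop hn1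
    have hdX : MulAut.conj d • X = L q := by
      rw [map_mul, mul_smul] at hn1X
      have h2 : MulAut.conj d • X = (MulAut.conj l)⁻¹ • L q := by
        rw [← hn1X, inv_smul_smul]
      rw [h2, ← map_inv]
      exact Subgroup.conj_smul_eq_self_of_mem ((L q).inv_mem hl.1)
    refine ⟨d * g, N.mul_mem hd.2 hgN, ?_⟩
    intro p hp
    rw [Finset.mem_insert] at hp
    rcases hp with rfl | hp
    · rw [map_mul, mul_smul]; exact hdX
    · rw [map_mul, mul_smul, hg p hp]
      apply Subgroup.conj_smul_eq_self_of_mem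
      have : D ≤ L p := iInf₂_le p hp
      exact this hd.1


/-- The images of a Hall complement system in a quotient form a Hall complement system. -/
theorem complementSystem_map_mk' [Finite G] {K : Nat.Primes → Subgroup G}
    (hK : Cfsg.IsComplementSystem K) (N : Subgroup G) [N.Normal] :
    Cfsg.IsComplementSystem (fun p => (K p).map (QuotientGroup.mk' N)) := by
  intro p
  show ((K p).map (QuotientGroup.mk' N)).index = _
  rw [Subgroup.index_map, QuotientGroup.ker_mk',
    MonoidHom.range_eq_top.2 (QuotientGroup.mk'_surjective N), Subgroup.index_top, mul_one]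
  have hG0 : Nat.card G ≠ 0 := Nat.card_pos.ne'
  have hp := p.2
  have h1 : (K p ⊔ N).index ∣ (K p).index := Subgroup.index_dvd_of_le le_sup_left
  rw [hK p] at h1
  obtain ⟨c, hc, hidx⟩ := (Nat.dvd_prime_pow hp).1 h1
  have h2 : N.relIndex (K p) * (K p ⊔ N).index = N.index := by
    rw [← Subgroup.relIndex_sup_right (K p) N]
    exact Subgroup.relIndex_mul_index le_sup_right
  -- card (K p) is coprime to p
  obtain ⟨n, hn⟩ : ∃ n : ℕ, n = (p : ℕ) ^ (Nat.card G).factorization p := ⟨_, rfl⟩
  have hnpos : 0 < n := by rw [hn]; exact pow_pos hp.pos _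
  have hGmn : Nat.card G = Nat.card G / n * n := by
    rw [hn]
    exact (Nat.div_mul_cancel (Nat.ordProj_dvd _ _)).symm
  have hcardK : Nat.card (K p) = Nat.card G / n := by
    have h3 := Subgroup.index_mul_card (K p)
    rw [hK p, ← hn] at h3
    have h4 : n * Nat.card (K p) = n * (Nat.card G / n) := by
      rw [h3, mul_comm]; exact hGmn
    exact Nat.eq_of_mul_eq_mul_left hnpos h4
  have hcopK : ((p : ℕ)).Coprime (Nat.card (K p)) := by
    rw [hcardK, hn]
    exact Nat.coprime_ordCompl hp hG0
  have hcop : ((p : ℕ)).Coprime (N.relIndex (K p)) :=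
    Nat.Coprime.coprime_dvd_right (Subgroup.relIndex_dvd_card N (K p)) hcopK
  have hr0 : N.relIndex (K p) ≠ 0 := by
    intro h0
    rw [h0] at hcop
    have := (Nat.coprime_zero_right _).1 hcop
    exact hp.one_lt.ne' this
  have hcard : Nat.card (G ⧸ N) = N.index := rfl
  rw [hidx, hcard, ← h2, hidx, Nat.factorization_mul hr0 (pow_pos hp.pos c).ne', Finsupp.add_apply,
    Nat.factorization_eq_zero_of_not_dvd ((Nat.Prime.coprime_iff_not_dvd hp).1 hcop), zero_add,
    Nat.Prime.factorization_pow hp, Finsupp.single_eq_same]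

/-- The system normalizer of the image of a Hall complement system in a quotient of a finite
solvable group is the image of the system normalizer. -/
theorem systemNormalizer_map_mk' [Finite G] [Group.IsSolvable G] {K : Nat.Primes → Subgroup G}
    (hK : Cfsg.IsComplementSystem K) (N : Subgroup G) [N.Normal] :
    Cfsg.systemNormalizer (fun p => (K p).map (QuotientGroup.mk' N)) =
      (Cfsg.systemNormalizer K).map (QuotientGroup.mk' N) := by
  apply le_antisymm
  · intro y hy
    obtain ⟨x, rfl⟩ := QuotientGroup.mk'_surjective N y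
    have hy' : ∀ p : Nat.Primes, QuotientGroup.mk' N x ∈
        Subgroup.normalizer (((K p).map (QuotientGroup.mk' N) : Subgroup (G ⧸ N)) : Set (G ⧸ N)) := by
      intro p
      exact (systemNormalizer_le_normalizer (fun p => (K p).map (QuotientGroup.mk' N)) p) hy
    set L : Nat.Primes → Subgroup G := fun p => MulAut.conj x • K p with hL
    have hLsys : Cfsg.IsComplementSystem L := by
      intro p
      show (MulAut.conj x • K p).index = _
      rw [index_conj_smul, hK p]
    have hKL : ∀ p, L p ≤ K p ⊔ N := by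
      intro p z hz
      obtain ⟨k, hk, rfl⟩ := hz
      have h1 : QuotientGroup.mk' N (x * k * x⁻¹) ∈ (K p).map (QuotientGroup.mk' N) := by
        rw [map_mul, map_mul, map_inv]
        exact (Subgroup.mem_normalizer_iff.1 (hy' p) _).1 (Subgroup.mem_map_of_mem _ hk)
      have h2 : x * k * x⁻¹ ∈ ((K p).map (QuotientGroup.mk' N)).comap (QuotientGroup.mk' N) := h1
      rw [Subgroup.comap_map_eq, QuotientGroup.ker_mk'] at h2
      exact h2
    obtain ⟨g, hgN, hg⟩ := complementSystem_conj_rel N K L hK hLsys hKL (primeDivisors G)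
    have hgall : ∀ p : Nat.Primes, MulAut.conj g • K p = L p := by
      intro p
      by_cases hp : (p : ℕ) ∣ Nat.card G
      · exact hg p ((mem_primeDivisors p).2 hp)
      · rw [complementSystem_eq_top_of_not_dvd hK p hp,
          complementSystem_eq_top_of_not_dvd hLsys p hp]
        exact Subgroup.conj_smul_eq_self_of_mem (Subgroup.mem_top g)
    refine ⟨g⁻¹ * x, ?_, ?_⟩
    · show g⁻¹ * x ∈ Cfsg.systemNormalizer K
      unfold Cfsg.systemNormalizer
      rw [Subgroup.mem_iInf]
      intro p
      have h3 : MulAut.conj (g⁻¹ * x) • K p = K p := by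
        rw [map_mul, mul_smul]
        show MulAut.conj g⁻¹ • L p = K p
        rw [← hgall p, map_inv, inv_smul_smul]
      exact mem_normalizer_of_conj_smul_eq h3
    · have h4 : QuotientGroup.mk' N g = 1 := (QuotientGroup.eq_one_iff g).2 hgN
      rw [map_mul, map_inv, h4, inv_one, one_mul]
  · unfold Cfsg.systemNormalizer
    rw [le_iInf_iff]
    intro p
    refine le_trans ?_ (Subgroup.le_normalizer_map (QuotientGroup.mk' N))
    exact Subgroup.map_mono (iInf_le (fun p : Nat.Primes => Subgroup.normalizer (K p : Set G)) p)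

end Cfsg.Agent.Lib.H3
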