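import Cfsg.Agent.Lib.H3.Thompson
import Cfsg.Agent.Lib.H15.SylowNormal
import Cfsg.Agent.Lib.H1.PCore
import Cfsg.Prelude.Def_PLocal
import Cfsg.Agent.Lib.H3.HallSystem3
import Mathlib

/-!
helper3 library: Thompson subgroups of subgroups and conjugation; Thompson factorizability.
-/

set_option autoImplicit false
open scoped Pointwise
open Cfsg

namespace Cfsg.Agent.Lib.H3

variable {G : Type*} [Group G]

/-- If `U` contains an elementary abelian subgroup of `G` of maximal order, then `J(U)` is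
generated by the elementary abelian subgroups of `G` of maximal order contained in `U`. -/
theorem thompsonSubgroupOf_eq_sSup [Finite G] {p : ℕ} {A₀ U : Subgroup G}
    (hA₀ : A₀ ∈ maxElementaryAbelianSubgroups p G) (hA₀U : A₀ ≤ U) :
    thompsonSubgroupOf p U = sSup {A | A ∈ maxElementaryAbelianSubgroups p G ∧ A ≤ U} := by
  apply le_antisymm
  · unfold thompsonSubgroupOf
    rw [Subgroup.map_le_iff_le_comap]
    apply sSup_le
    intro B hB
    rw [← Subgroup.map_le_iff_le_comap]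
    exact le_sSup ⟨maxElemAb_map_subtype hA₀ hA₀U hB, Subgroup.map_subtype_le B⟩
  · apply sSup_le
    rintro A ⟨hA, hAU⟩
    have h1 : A.subgroupOf U ≤ thompsonSubgroup p U := le_thompson (maxElemAb_subgroupOf hA hAU)
    have h2 := Subgroup.map_mono (f := U.subtype) h1
    rwa [Subgroup.map_subgroupOf_eq_of_le hAU] at h2

theorem maxElemAb_conj {p : ℕ} {A : Subgroup G} (g : G)
    (hA : A ∈ maxElementaryAbelianSubgroups p G) :
    MulAut.conj g • A ∈ maxElementaryAbelianSubgroups p G :=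
  maxElemAb_map_equiv (MulAut.conj g) hA

theorem thompsonSubgroupOf_conj_le [Finite G] {p : ℕ} {A₀ U : Subgroup G}
    (hA₀ : A₀ ∈ maxElementaryAbelianSubgroups p G) (hA₀U : A₀ ≤ U) (g : G) :
    thompsonSubgroupOf p (MulAut.conj g • U) ≤ MulAut.conj g • thompsonSubgroupOf p U := by
  have hA₁ : MulAut.conj g • A₀ ≤ MulAut.conj g • U :=
    Subgroup.pointwise_smul_le_pointwise_smul_iff.2 hA₀U
  rw [thompsonSubgroupOf_eq_sSup (maxElemAb_conj g hA₀) hA₁]
  apply sSup_le
  rintro A ⟨hA, hAU⟩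
  have h1 : (MulAut.conj g)⁻¹ • A ≤ U := by
    rw [← Subgroup.pointwise_smul_le_pointwise_smul_iff (a := MulAut.conj g), smul_inv_smul]
    exact hAU
  have h2 : (MulAut.conj g)⁻¹ • A ∈ maxElementaryAbelianSubgroups p G := by
    rw [← map_inv]; exact maxElemAb_conj g⁻¹ hA
  have h3 : (MulAut.conj g)⁻¹ • A ≤ thompsonSubgroupOf p U := by
    rw [thompsonSubgroupOf_eq_sSup hA₀ hA₀U]
    exact le_sSup ⟨h2, h1⟩
  have h4 := Subgroup.pointwise_smul_le_pointwise_smul_iff (a := MulAut.conj g) |>.2 h3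
  rwa [smul_inv_smul] at h4

/-- The Thompson subgroup commutes with conjugation. -/
theorem thompsonSubgroupOf_conj [Finite G] {p : ℕ} {A₀ U : Subgroup G}
    (hA₀ : A₀ ∈ maxElementaryAbelianSubgroups p G) (hA₀U : A₀ ≤ U) (g : G) :
    thompsonSubgroupOf p (MulAut.conj g • U) = MulAut.conj g • thompsonSubgroupOf p U := by
  apply le_antisymm (thompsonSubgroupOf_conj_le hA₀ hA₀U g)
  have hA₁ : MulAut.conj g • A₀ ≤ MulAut.conj g • U :=
    Subgroup.pointwise_smul_le_pointwise_smul_iff.2 hA₀U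
  have h1 := thompsonSubgroupOf_conj_le (maxElemAb_conj g hA₀) hA₁ g⁻¹
  rw [map_inv, inv_smul_smul] at h1
  have h2 := Subgroup.pointwise_smul_le_pointwise_smul_iff (a := MulAut.conj g) |>.2 h1
  rwa [smul_inv_smul] at h2


/-- `Ω₁(Z(S))` as used in the definition of Thompson factorizability. -/
abbrev omegaZ (p : ℕ) (S : Subgroup G) : Subgroup G :=
  omegaOne p (S ⊓ Subgroup.centralizer (S : Set G))

theorem omegaZ_le_centralizer (p : ℕ) (S : Subgroup G) :
    omegaZ p S ≤ Subgroup.centralizer (S : Set G) := by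
  unfold omegaZ omegaOne
  rw [Subgroup.closure_le]
  rintro x ⟨hx, -⟩
  exact hx.2

theorem omegaZ_conj_le (p : ℕ) (S : Subgroup G) (g : G) :
    (omegaZ p S).map (MulAut.conj g).toMonoidHom ≤ omegaZ p (MulAut.conj g • S) := by
  unfold omegaZ omegaOne
  rw [MonoidHom.map_closure, Subgroup.closure_le]
  rintro _ ⟨y, ⟨hyZ, hyp⟩, rfl⟩
  apply Subgroup.subset_closure
  refine ⟨⟨?_, ?_⟩, ?_⟩
  · exact Subgroup.smul_mem_pointwise_smul y (MulAut.conj g) _ hyZ.1
  · show _ ∈ Subgroup.centralizer _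
    rw [Subgroup.mem_centralizer_iff]
    intro h hh
    obtain ⟨s, hs, rfl⟩ := (Subgroup.mem_smul_pointwise_iff_exists h _ _).1 hh
    have hsy : s * y = y * s := Subgroup.mem_centralizer_iff.1 hyZ.2 s hs
    show g * s * g⁻¹ * (g * y * g⁻¹) = g * y * g⁻¹ * (g * s * g⁻¹)
    have e1 : g * s * g⁻¹ * (g * y * g⁻¹) = g * (s * y) * g⁻¹ := by group
    have e2 : g * y * g⁻¹ * (g * s * g⁻¹) = g * (y * s) * g⁻¹ := by group
    rw [e1, e2, hsy]
  · show (g * y * g⁻¹) ^ p = 1
    rw [conj_pow, hyp, mul_one, mul_inv_cancel]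

theorem iSup_omegaZ_normal (p : ℕ) [Fact p.Prime] [Finite G] :
    (⨆ S : Sylow p G, omegaZ p (S : Subgroup G)).Normal := by
  constructor
  intro x hx g
  have hmap : (⨆ S : Sylow p G, omegaZ p (S : Subgroup G)).map (MulAut.conj g).toMonoidHom ≤
      ⨆ S : Sylow p G, omegaZ p (S : Subgroup G) := by
    rw [Subgroup.map_iSup]
    apply iSup_le
    intro S
    refine le_trans ?_ (le_iSup (fun S : Sylow p G => omegaZ p (S : Subgroup G)) (g • S))
    rw [Sylow.coe_subgroup_smul]
    exact omegaZ_conj_le p (S : Subgroup G) g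
  exact hmap ⟨x, hx, rfl⟩

theorem thompsonSubgroupOf_le (p : ℕ) (U : Subgroup G) : thompsonSubgroupOf p U ≤ U :=
  Subgroup.map_subtype_le _

/-- With trivial `p'`-core, Thompson factorizability means that `J(G)` centralizes the normal
closure of `Ω₁(Z(S))`. -/
theorem thompsonFactorizable_iff [Finite G] {p : ℕ} [Fact p.Prime]
    (hO : Cfsg.pPrimeCore p G = ⊥)
    (hJall : Cfsg.thompsonSubgroup p G = ⨆ S : Sylow p G, thompsonSubgroupOf p (S : Subgroup G)) :
    Cfsg.IsThompsonFactorizable p G ↔ Cfsg.thompsonSubgroup p G ≤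
      Subgroup.centralizer ((⨆ S : Sylow p G, omegaZ p (S : Subgroup G) : Subgroup G) : Set G) := by
  constructor
  · intro hfac
    rw [hJall]
    apply iSup_le
    intro T
    rw [Subgroup.le_centralizer_iff]
    apply iSup_le
    intro S
    rw [← Subgroup.le_centralizer_iff]
    obtain ⟨g, hg⟩ := MulAction.exists_smul_eq G S T
    obtain ⟨x, hx, c, hc, n, hn, hgxcn⟩ := hfac S g
    rw [hO, Subgroup.mem_bot] at hx
    rw [hx, one_mul] at hgxcn
    obtain ⟨A₀, hA₀, hA₀S⟩ := exists_maxElemAb_le_sylow S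
    have hJT : thompsonSubgroupOf p (T : Subgroup G) =
        MulAut.conj g • thompsonSubgroupOf p (S : Subgroup G) := by
      rw [← hg, Sylow.coe_subgroup_smul]
      exact thompsonSubgroupOf_conj hA₀ hA₀S g
    rw [hJT]
    intro y hy
    obtain ⟨j, hj, rfl⟩ := (Subgroup.mem_smul_pointwise_iff_exists y _ _).1 hy
    have hj' : n * j * n⁻¹ ∈ thompsonSubgroupOf p (S : Subgroup G) :=
      (Subgroup.mem_normalizer_iff.1 hn j).1 hj
    have hj'S : n * j * n⁻¹ ∈ (S : Subgroup G) := thompsonSubgroupOf_le p _ hj'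
    show MulAut.conj g • j ∈ Subgroup.centralizer _
    rw [Subgroup.mem_centralizer_iff]
    intro z hz
    have hzS : z ∈ Subgroup.centralizer ((S : Subgroup G) : Set G) :=
      omegaZ_le_centralizer p _ hz
    have h1 : (n * j * n⁻¹) * z = z * (n * j * n⁻¹) := Subgroup.mem_centralizer_iff.1 hzS _ hj'S
    have h2 : z * c = c * z := Subgroup.mem_centralizer_iff.1 hc z hz
    have h3 : z * c⁻¹ = c⁻¹ * z := by
      have : c⁻¹ * (z * c) * c⁻¹ = c⁻¹ * (c * z) * c⁻¹ := by rw [h2]
      have e1 : c⁻¹ * (z * c) * c⁻¹ = c⁻¹ * z := by group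
      have e2 : c⁻¹ * (c * z) * c⁻¹ = z * c⁻¹ := by group
      rw [e1, e2] at this
      exact this.symm
    show z * (MulAut.conj g • j) = (MulAut.conj g • j) * z
    rw [MulAut.smul_def, MulAut.conj_apply, hgxcn]
    have e1 : c * n * j * (c * n)⁻¹ = c * (n * j * n⁻¹) * c⁻¹ := by group
    rw [e1]
    calc z * (c * (n * j * n⁻¹) * c⁻¹) = (z * c) * (n * j * n⁻¹) * c⁻¹ := by group
      _ = c * (z * (n * j * n⁻¹)) * c⁻¹ := by rw [h2]; group
      _ = c * ((n * j * n⁻¹) * z) * c⁻¹ := by rw [h1]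
      _ = c * (n * j * n⁻¹) * (z * c⁻¹) := by group
      _ = c * (n * j * n⁻¹) * (c⁻¹ * z) := by rw [h3]
      _ = c * (n * j * n⁻¹) * c⁻¹ * z := by group
  · intro hJ S g
    set W : Subgroup G := ⨆ S : Sylow p G, omegaZ p (S : Subgroup G) with hW
    set C := Subgroup.centralizer (W : Set G) with hC
    have hWn : W.Normal := iSup_omegaZ_normal p
    have hCn : C.Normal := Subgroup.normal_centralizer
    set T : Sylow p G := g • S with hT
    have hPS := H15.isSylowIn_inf_normal S C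
    have hPT := H15.isSylowIn_inf_normal T C
    obtain ⟨c, hcC, hc⟩ := hPS.exists_conj hPT
    have hc' : (T : Subgroup G) ⊓ C = MulAut.conj c • ((S : Subgroup G) ⊓ C) := hc
    obtain ⟨A₀, hA₀, hA₀S⟩ := exists_maxElemAb_le_sylow S
    have hmaxC : ∀ A ∈ maxElementaryAbelianSubgroups p G, A ≤ C :=
      fun A hA => (le_thompson hA).trans hJ
    have hJinf : ∀ U : Subgroup G, A₀ ≤ U →
        thompsonSubgroupOf p (U ⊓ C) = thompsonSubgroupOf p U := by
      intro U hU
      rw [thompsonSubgroupOf_eq_sSup hA₀ hU,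
        thompsonSubgroupOf_eq_sSup hA₀ (le_inf hU (hmaxC A₀ hA₀))]
      congr 1
      ext A
      constructor
      · rintro ⟨hA, hAU⟩; exact ⟨hA, hAU.trans inf_le_left⟩
      · rintro ⟨hA, hAU⟩; exact ⟨hA, le_inf hAU (hmaxC A hA)⟩
    have hJT1 : thompsonSubgroupOf p (T : Subgroup G) =
        MulAut.conj g • thompsonSubgroupOf p (S : Subgroup G) := by
      rw [hT, Sylow.coe_subgroup_smul]
      exact thompsonSubgroupOf_conj hA₀ hA₀S g
    have hA₁T : MulAut.conj g • A₀ ≤ (T : Subgroup G) := by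
      rw [hT, Sylow.coe_subgroup_smul]
      exact Subgroup.pointwise_smul_le_pointwise_smul_iff.2 hA₀S
    have hJT2 : thompsonSubgroupOf p (T : Subgroup G) =
        MulAut.conj c • thompsonSubgroupOf p (S : Subgroup G) := by
      have h1 := thompsonSubgroupOf_eq_sSup (maxElemAb_conj g hA₀) hA₁T
      have h2 := thompsonSubgroupOf_eq_sSup (maxElemAb_conj g hA₀)
        (le_inf hA₁T (hmaxC _ (maxElemAb_conj g hA₀)))
      have h3 : thompsonSubgroupOf p ((T : Subgroup G) ⊓ C) =
          thompsonSubgroupOf p (T : Subgroup G) := by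
        rw [h1, h2]
        congr 1
        ext A
        constructor
        · rintro ⟨hA, hAU⟩; exact ⟨hA, hAU.trans inf_le_left⟩
        · rintro ⟨hA, hAU⟩; exact ⟨hA, le_inf hAU (hmaxC A hA)⟩
      rw [← h3, hc', thompsonSubgroupOf_conj hA₀ (le_inf hA₀S (hmaxC A₀ hA₀)) c, hJinf _ hA₀S]
    refine ⟨1, Subgroup.one_mem _, c, ?_, c⁻¹ * g, ?_, by group⟩
    · have hle : omegaZ p (S : Subgroup G) ≤ W :=
        le_iSup (fun S : Sylow p G => omegaZ p (S : Subgroup G)) S
      exact Subgroup.centralizer_le hle hcC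
    · apply mem_normalizer_of_conj_smul_eq
      rw [map_mul, mul_smul, ← hJT1, hJT2, map_inv, inv_smul_smul]

end Cfsg.Agent.Lib.H3
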