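import Mathlib
import Cfsg.Agent.Lib.H3.ThompsonFact
set_option autoImplicit false
open scoped commutatorElement
namespace Cfsg.Agent.Lib.H3.Hol

variable {G : Type*} [Group G]

/-- a characteristic subgroup of `K` is normalized by `N_G(K)`. -/
theorem normalizer_le_normalizer_map (K : Subgroup G) (B : Subgroup ↥K) [hB : B.Characteristic] :
    Subgroup.normalizer (K : Set G) ≤
      Subgroup.normalizer ((B.map K.subtype : Subgroup G) : Set G) := by
  intro x hx
  have h1 : ∀ y (hy : y ∈ Subgroup.normalizer (K : Set G)), ∀ b ∈ B,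
      (K.normalizerMonoidHom ⟨y, hy⟩ b) ∈ B := by
    intro y hy b hb
    have := Subgroup.characteristic_iff_map_eq.1 hB (K.normalizerMonoidHom ⟨y, hy⟩)
    rw [← this]
    exact ⟨b, hb, rfl⟩
  rw [Subgroup.mem_normalizer_iff]
  intro g
  constructor
  · rintro ⟨b, hb, rfl⟩
    exact ⟨_, h1 x hx b hb, rfl⟩
  · rintro ⟨b, hb, hbg⟩
    have hx' := Subgroup.inv_mem _ hx
    refine ⟨_, h1 x⁻¹ hx' b hb, ?_⟩
    show x⁻¹ * (b : G) * x⁻¹⁻¹ = g
    have : (b : G) = x * g * x⁻¹ := hbg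
    rw [this]; group

theorem omegaZ_map_le {H : Type*} [Group H] (p : ℕ) (S : Subgroup H) (φ : H ≃* H) :
    (omegaZ p S).map φ.toMonoidHom ≤ omegaZ p (S.map φ.toMonoidHom) := by
  unfold omegaZ Cfsg.omegaOne
  rw [MonoidHom.map_closure, Subgroup.closure_le]
  rintro _ ⟨y, ⟨hyZ, hyp⟩, rfl⟩
  apply Subgroup.subset_closure
  refine ⟨⟨⟨y, hyZ.1, rfl⟩, ?_⟩, ?_⟩
  · show _ ∈ Subgroup.centralizer _
    rw [Subgroup.mem_centralizer_iff]
    rintro _ ⟨s, hs, rfl⟩
    have hsy : s * y = y * s := Subgroup.mem_centralizer_iff.1 hyZ.2 s hs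
    simp only [MulEquiv.coe_toMonoidHom]
    rw [← map_mul, ← map_mul, hsy]
  · simp only [MulEquiv.coe_toMonoidHom]
    rw [← map_pow, hyp, map_one]

theorem iSup_omegaZ_characteristic {H : Type*} [Group H] [Finite H] (p : ℕ) [Fact p.Prime] :
    (⨆ S : Sylow p H, omegaZ p (S : Subgroup H)).Characteristic := by
  rw [Subgroup.characteristic_iff_map_le]
  intro φ
  rw [Subgroup.map_iSup]
  apply iSup_le
  intro S
  have hs : Function.Surjective φ.toMonoidHom := φ.surjective
  refine le_trans ?_ (le_iSup (fun S : Sylow p H => omegaZ p (S : Subgroup H))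
    (S.mapSurjective hs))
  rw [Sylow.coe_mapSurjective]
  exact omegaZ_map_le p (S : Subgroup H) φ

end Cfsg.Agent.Lib.H3.Hol
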