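import Cfsg.Agent.Lib.H3.HallSystem3
import Cfsg.Agent.Lib.H3.CoverAvoid
import Cfsg.Agent.Lib.H3.PrimSolv
import Cfsg.Agent.Lib.H1.Carter
import Cfsg.Agent.Lib.H1.Hall
import Mathlib

/-!
helper3 library: system normalizers and Carter subgroups (Carter's theorem: every system normalizer
lies in a Carter subgroup and every Carter subgroup contains a system normalizer).
-/

set_option autoImplicit false
open scoped Pointwise
open Cfsg

namespace Cfsg.Agent.Lib.H3

variable {G : Type*} [Group G]

/-- A normal Hall subgroup contains every element whose order divides its order. -/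
theorem mem_of_pow_card_eq_one_of_normal_hall' [Finite G] (N : Subgroup G) [N.Normal]
    (hcop : (Nat.card N).Coprime N.index) {y : G} (hy : y ^ Nat.card N = 1) : y ∈ N := by
  rw [← QuotientGroup.eq_one_iff]
  have h1 : (y : G ⧸ N) ^ Nat.card N = 1 := by
    rw [← QuotientGroup.mk_pow, hy]; rfl
  have h2 : (y : G ⧸ N) ^ N.index = 1 := by
    rw [Subgroup.index_eq_card]; exact pow_card_eq_one'
  have h3 : orderOf (y : G ⧸ N) ∣ Nat.gcd (Nat.card N) N.index :=
    Nat.dvd_gcd (orderOf_dvd_of_pow_eq_one h1) (orderOf_dvd_of_pow_eq_one h2)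
  rw [Nat.Coprime.gcd_eq_one hcop] at h3
  exact orderOf_eq_one_iff.1 (Nat.dvd_one.1 h3)

/-- A Hall subgroup of a finite nilpotent group is normal. -/
theorem hall_normal_of_isNilpotent [Finite G] [hG : Group.IsNilpotent G] (Y : Subgroup G)
    (h : (Nat.card Y).Coprime Y.index) : Y.Normal := by
  have hnc := (normalizerCondition_iff_only_full_group_self_normalizing (G := G)).mp
    Group.normalizerCondition_of_isNilpotent
  set M := Subgroup.normalizer (Y : Set G) with hM
  have hYM : Y ≤ M := Subgroup.le_normalizer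
  have hYn : (Y.subgroupOf M).Normal := Subgroup.normal_in_normalizer
  have hcop : (Nat.card (Y.subgroupOf M)).Coprime (Y.subgroupOf M).index := by
    rw [card_subgroupOf_of_le hYM]
    exact h.coprime_dvd_right (Subgroup.relIndex_dvd_index_of_le hYM)
  have hMM : Subgroup.normalizer (M : Set G) = M := by
    apply le_antisymm _ Subgroup.le_normalizer
    intro g hg
    -- g normalizes M; show g normalizes Y
    have key : ∀ g : G, g ∈ Subgroup.normalizer (M : Set G) → ∀ y ∈ Y, g * y * g⁻¹ ∈ Y := by
      intro g hg y hy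
      have hyM : g * y * g⁻¹ ∈ M := (Subgroup.mem_normalizer_iff.1 hg y).1 (hYM hy)
      have hpow : (⟨g * y * g⁻¹, hyM⟩ : M) ^ Nat.card (Y.subgroupOf M) = 1 := by
        apply Subtype.ext
        rw [Subgroup.coe_pow, Subgroup.coe_one, card_subgroupOf_of_le hYM]
        show (g * y * g⁻¹) ^ Nat.card Y = 1
        rw [conj_pow]
        have : y ^ Nat.card Y = 1 := by
          have := pow_card_eq_one' (G := Y) (x := ⟨y, hy⟩)
          exact congrArg Subtype.val this
        rw [this]; group
      have := mem_of_pow_card_eq_one_of_normal_hall' (Y.subgroupOf M) hcop hpow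
      exact Subgroup.mem_subgroupOf.1 this
    rw [hM, Subgroup.mem_normalizer_iff]
    intro y
    constructor
    · exact key g hg y
    · intro hy
      have hg' : g⁻¹ ∈ Subgroup.normalizer (M : Set G) := Subgroup.inv_mem _ hg
      have := key g⁻¹ hg' _ hy
      simpa [mul_assoc] using this
  have hMtop : M = ⊤ := hnc M hMM
  exact Subgroup.normalizer_eq_top_iff.1 hMtop

/-- `[C N / N : K N / N ∩ C N / N] = [C : K N ∩ C]`. -/
theorem relIndex_map_mk'_eq (N : Subgroup G) [N.Normal] (K C : Subgroup G) :
    (K.map (QuotientGroup.mk' N)).relIndex (C.map (QuotientGroup.mk' N)) = (K ⊔ N).relIndex C := by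
  rw [← Subgroup.relIndex_comap, Subgroup.comap_map_eq, QuotientGroup.ker_mk']

theorem relIndex_map_mk'_dvd (N : Subgroup G) [N.Normal] (K C : Subgroup G) :
    (K.map (QuotientGroup.mk' N)).relIndex (C.map (QuotientGroup.mk' N)) ∣ K.relIndex C := by
  rw [relIndex_map_mk'_eq]
  exact Subgroup.relIndex_dvd_of_le_left C le_sup_left

/-- If `N ≤ K` then `[C N : K ∩ C N] = [C : K ∩ C]`. -/
theorem relIndex_sup_of_le (N : Subgroup G) [N.Normal] {K : Subgroup G} (C : Subgroup G)
    (h : N ≤ K) : K.relIndex (C ⊔ N) = K.relIndex C := by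
  have h1 := relIndex_map_mk'_eq N K (C ⊔ N)
  have h2 := relIndex_map_mk'_eq N K C
  rw [sup_eq_left.2 h] at h1 h2
  rw [← h1, ← h2, Subgroup.map_sup, QuotientGroup.map_mk'_self, sup_bot_eq]


/-- If `K` is a `p'`-group and `[X : K ∩ X]` is a power of `p`, then it is the full `p`-part of
`|X|`. -/
theorem relIndex_eq_pow_factorization [Finite G] {K : Subgroup G} {p : ℕ} (hp : p.Prime)
    (hK : p.Coprime (Nat.card K)) (X : Subgroup G) {j : ℕ} (h : K.relIndex X ∣ p ^ j) :
    K.relIndex X = p ^ (Nat.card X).factorization p := by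
  obtain ⟨i, -, hi⟩ := (Nat.dvd_prime_pow hp).1 h
  have h1 := relIndex_mul_card_inf X K
  have h2 : p.Coprime (Nat.card (X ⊓ K : Subgroup G)) :=
    hK.coprime_dvd_right (Subgroup.card_dvd_of_le inf_le_right)
  have h3 : ¬ p ∣ Nat.card (X ⊓ K : Subgroup G) :=
    fun hd => hp.one_lt.ne' (Nat.Coprime.eq_one_of_dvd h2 hd)
  rw [hi, ← h1, hi, Nat.factorization_mul (pow_ne_zero _ hp.ne_zero) Nat.card_pos.ne',
    Finsupp.add_apply, hp.factorization_pow, Finsupp.single_eq_same,
    Nat.factorization_eq_zero_of_not_dvd h3, add_zero]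

/-- A complement system `K` reduces into the subgroup `C`: each `K p ∩ C` has `p`-power index in
`C` (so it is a Hall `p'`-subgroup of `C`). -/
def Reduces (K : Nat.Primes → Subgroup G) (C : Subgroup G) : Prop :=
  ∀ p : Nat.Primes, ∃ j : ℕ, (K p).relIndex C ∣ (p : ℕ) ^ j

theorem Reduces.map_mk' {K : Nat.Primes → Subgroup G} {C : Subgroup G} (h : Reduces K C)
    (N : Subgroup G) [N.Normal] :
    Reduces (fun p => (K p).map (QuotientGroup.mk' N)) (C.map (QuotientGroup.mk' N)) := by
  intro p
  obtain ⟨j, hj⟩ := h p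
  exact ⟨j, (relIndex_map_mk'_dvd N (K p) C).trans hj⟩

/-- If a Hall complement system reduces into a Carter subgroup `C`, then its system normalizer is
contained in `C`. -/
theorem systemNormalizer_le_carter_of_reduces.{u} :
    ∀ (n : ℕ) (G : Type u) [Group G] [Finite G] [Group.IsSolvable G], Nat.card G = n →
      ∀ (C : Subgroup G) (K : Nat.Primes → Subgroup G), Cfsg.IsCarterSubgroup C →
        Cfsg.IsComplementSystem K → Reduces K C → Cfsg.systemNormalizer K ≤ C := by
  intro n
  induction n using Nat.strong_induction_on with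
  | _ n ih =>
  intro G _ _ _ hn C K hC hK hred
  by_cases hCtop : C = ⊤
  · rw [hCtop]; exact le_top
  have hnt : Nontrivial G := by
    by_contra h
    rw [not_nontrivial_iff_subsingleton] at h
    exact hCtop (Subsingleton.elim _ _)
  obtain ⟨N, hNn, hNne, hNab, -, hNmin⟩ := H1.exists_min_normal_abelian (G := G)
  obtain ⟨q, d, hq, hd, hNcard, -⟩ := minNormal_exists_prime_pow N hNne hNmin hNab
  have hCin : H1.IsCarterIn ⊤ C := H1.isCarterIn_top_iff.2 hC
  have IHconj : ∀ L : Subgroup G, L ≠ ⊤ → ∀ C D, H1.IsCarterIn L C → H1.IsCarterIn L D →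
      ∃ g ∈ L, MulAut.conj g • C = D := fun L _ =>
    (H1.carterProp_subgroup L (H1.carterProp_of_solvable _ L rfl)).2
  -- quotient step
  have hCq : Cfsg.IsCarterSubgroup (C.map (QuotientGroup.mk' N)) :=
    H1.carter_map_quotient hCin IHconj
  have hKq := complementSystem_map_mk' hK N
  have hredq := hred.map_mk' N
  have hlt : Nat.card (G ⧸ N) < n := hn ▸ H1.card_quotient_lt hNne
  have h1 := ih _ hlt (G ⧸ N) rfl (C.map (QuotientGroup.mk' N)) _ hCq hKq hredq
  rw [systemNormalizer_map_mk' hK N] at h1
  have hDle : Cfsg.systemNormalizer K ≤ C ⊔ N := by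
    have h2 := Subgroup.comap_mono (f := QuotientGroup.mk' N) h1
    rw [Subgroup.comap_map_eq, Subgroup.comap_map_eq, QuotientGroup.ker_mk'] at h2
    exact le_sup_left.trans h2
  by_cases hCN : C ⊔ N = ⊤
  · -- base case: `G = C N`, `C ∩ N = 1`
    have hinfn : (C ⊓ N).Normal := H1.inf_normal_of_sup_eq_top hNab hCN
    have hinf : C ⊓ N = ⊥ := by
      rcases hNmin _ hinfn inf_le_right with h | h
      · exact h
      · exfalso; apply hCtop; rw [← hCN]; exact (sup_eq_left.2 (h ▸ inf_le_left)).symm
    set qq : Nat.Primes := ⟨q, hq⟩ with hqq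
    obtain ⟨j, hj⟩ := hred qq
    have hj' : (K qq).relIndex C ∣ q ^ j := hj
    have hcopq : q.Coprime (Nat.card (K qq)) := coprime_card_complement hK qq
    have hCidx : C.index ∣ q ^ d := by
      have e3 : C.relIndex (C ⊔ N) = C.relIndex N :=
        (relIndex_eq_relIndex_sup_of_normal C N).symm
      rw [hCN, Subgroup.relIndex_top_right] at e3
      rw [e3, ← hNcard]; exact Subgroup.relIndex_dvd_card C N
    have hKC : K qq ≤ C := by
      have e1 : (K qq ⊓ C).relIndex (K qq) ∣ Nat.card (K qq) := Subgroup.relIndex_dvd_card _ _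
      have e2 : (K qq ⊓ C).relIndex (K qq) ∣ (K qq ⊓ C).index :=
        Subgroup.relIndex_dvd_index_of_le inf_le_left
      have e3 : (K qq ⊓ C).index = (K qq ⊓ C).relIndex C * C.index :=
        (Subgroup.relIndex_mul_index inf_le_right).symm
      rw [Subgroup.inf_relIndex_right] at e3
      have e4 : (K qq ⊓ C).index ∣ q ^ (j + d) := by
        rw [e3, pow_add]; exact Nat.mul_dvd_mul hj' hCidx
      have hcop : (q ^ (j + d)).Coprime (Nat.card (K qq)) := Nat.Coprime.pow_left _ hcopq
      have e5 : (K qq ⊓ C).relIndex (K qq) = 1 :=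
        Nat.eq_one_of_dvd_coprimes hcop (e2.trans e4) e1
      rw [Subgroup.relIndex_eq_one] at e5
      exact e5.trans inf_le_right
    set M := Subgroup.normalizer (K qq : Set G) with hM
    have hCM : C ≤ M := by
      have : Group.IsNilpotent C := hC.1
      have hcopC : (Nat.card ((K qq).subgroupOf C)).Coprime ((K qq).subgroupOf C).index := by
        rw [card_subgroupOf_of_le hKC]
        have h3 : ((K qq).subgroupOf C).index ∣ q ^ j := hj'
        exact (Nat.Coprime.pow_left j hcopq).symm.coprime_dvd_right h3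
      have hn' := hall_normal_of_isNilpotent ((K qq).subgroupOf C) hcopC
      exact (Subgroup.normal_subgroupOf_iff_le_normalizer hKC).1 hn'
    have hMtop : M ≠ ⊤ := by
      intro hMt
      have hKn : (K qq).Normal := Subgroup.normalizer_eq_top_iff.1 hMt
      have hCq' := H1.carter_map_quotient (N := K qq) hCin IHconj
      have hqF : Fact q.Prime := ⟨hq⟩
      have hpq : IsPGroup q (G ⧸ K qq) := by
        apply IsPGroup.of_card (n := (Nat.card G).factorization q)
        rw [← Subgroup.index_eq_card, hK qq]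
      have hnilq : Group.IsNilpotent (G ⧸ K qq) := hpq.isNilpotent
      have hnc := (normalizerCondition_iff_only_full_group_self_normalizing
        (G := G ⧸ K qq)).mp Group.normalizerCondition_of_isNilpotent
      have htop := hnc _ hCq'.2
      have h3 := congrArg (Subgroup.comap (QuotientGroup.mk' (K qq))) htop
      rw [Subgroup.comap_map_eq, QuotientGroup.ker_mk', Subgroup.comap_top,
        sup_eq_left.2 hKC] at h3
      exact hCtop h3
    have hMN : M ⊔ N = ⊤ := eq_top_iff.2 (hCN ▸ sup_le_sup_right hCM N)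
    have hMinfn : (M ⊓ N).Normal := H1.inf_normal_of_sup_eq_top hNab hMN
    have hMinf : M ⊓ N = ⊥ := by
      rcases hNmin _ hMinfn inf_le_right with h | h
      · exact h
      · exfalso; apply hMtop; rw [← hMN]; exact (sup_eq_left.2 (h ▸ inf_le_left)).symm
    intro x hx
    have hxM : x ∈ M := systemNormalizer_le_normalizer K qq hx
    have hxCN : x ∈ C ⊔ N := hCN ▸ Subgroup.mem_top x
    obtain ⟨c, hc, m, hm, rfl⟩ := Subgroup.mem_sup_of_normal_right.1 hxCN
    have hmM : m ∈ M := by
      have h3 : m = c⁻¹ * (c * m) := by group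
      rw [h3]; exact M.mul_mem (M.inv_mem (hCM hc)) hxM
    have h4 : m ∈ M ⊓ N := ⟨hmM, hm⟩
    rw [hMinf, Subgroup.mem_bot] at h4
    rw [h4, mul_one]; exact hc
  · -- subgroup step: pass to `C N`
    set G₁ := C ⊔ N with hG₁
    have hCG₁ : C ≤ G₁ := le_sup_left
    have hlt₁ : Nat.card G₁ < n := hn ▸ H1.card_lt_of_ne_top hCN
    have hC₁ : Cfsg.IsCarterSubgroup (C.subgroupOf G₁) := by
      have h3 : H1.IsCarterIn G₁ C := ⟨hCG₁, hC.1, by rw [hC.2]; exact inf_eq_left.2 hCG₁⟩
      exact (H1.isCarterIn_iff_subgroupOf hCG₁).1 h3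
    have hrel : ∀ p : Nat.Primes, ∃ j : ℕ, (K p).relIndex G₁ ∣ (p : ℕ) ^ j := by
      intro p
      obtain ⟨j, hj⟩ := hred p
      by_cases hpq : (p : ℕ) = q
      · refine ⟨j + d, ?_⟩
        have e1 : (K p).relIndex G₁ ∣ (K p ⊓ C).relIndex G₁ :=
          Subgroup.relIndex_dvd_of_le_left G₁ inf_le_left
        have e2 : (K p ⊓ C).relIndex G₁ = (K p ⊓ C).relIndex C * C.relIndex G₁ :=
          (Subgroup.relIndex_mul_relIndex _ _ _ inf_le_right hCG₁).symm
        have e3 : C.relIndex G₁ = C.relIndex N := (relIndex_eq_relIndex_sup_of_normal C N).symm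
        have e4 : C.relIndex N ∣ q ^ d := hNcard ▸ Subgroup.relIndex_dvd_card C N
        rw [Subgroup.inf_relIndex_right] at e2
        rw [e2, e3] at e1
        rw [pow_add, hpq]
        exact e1.trans (Nat.mul_dvd_mul (hpq ▸ hj) e4)
      · refine ⟨j, ?_⟩
        have hNK : N ≤ K p := normal_pgroup_le_complement hK hq N hNcard p hpq
        rw [hG₁, relIndex_sup_of_le N C hNK]
        exact hj
    have hK₁ : Cfsg.IsComplementSystem (fun p => (K p).subgroupOf G₁) := by
      intro p
      obtain ⟨j, hj⟩ := hrel p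
      exact relIndex_eq_pow_factorization p.2 (coprime_card_complement hK p) G₁ hj
    have hred₁ : Reduces (fun p => (K p).subgroupOf G₁) (C.subgroupOf G₁) := by
      intro p
      obtain ⟨j, hj⟩ := hred p
      refine ⟨j, ?_⟩
      show ((K p).subgroupOf G₁).relIndex (C.subgroupOf G₁) ∣ _
      rw [Subgroup.relIndex_subgroupOf hCG₁]
      exact hj
    have h2 := ih _ hlt₁ G₁ rfl (C.subgroupOf G₁) _ hC₁ hK₁ hred₁
    intro x hx
    have hxG₁ : x ∈ G₁ := hDle hx
    have hx' : (⟨x, hxG₁⟩ : G₁) ∈ Cfsg.systemNormalizer (fun p => (K p).subgroupOf G₁) := by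
      unfold Cfsg.systemNormalizer
      rw [Subgroup.mem_iInf]
      intro p
      have hxp := systemNormalizer_le_normalizer K p hx
      rw [Subgroup.mem_normalizer_iff] at hxp ⊢
      intro y
      rw [Subgroup.mem_subgroupOf, Subgroup.mem_subgroupOf]
      exact hxp y
    exact Subgroup.mem_subgroupOf.1 (h2 hx')


/-- The system normalizer of a conjugated family is the conjugate of the system normalizer. -/
theorem systemNormalizer_conj (K : Nat.Primes → Subgroup G) (g : G) :
    Cfsg.systemNormalizer (fun p => MulAut.conj g • K p) =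
      MulAut.conj g • Cfsg.systemNormalizer K := by
  ext x
  unfold Cfsg.systemNormalizer
  rw [H1.mem_conj_smul_iff, Subgroup.mem_iInf, Subgroup.mem_iInf]
  refine forall_congr' fun p => ?_
  rw [H1.normalizer_conj_smul, H1.mem_conj_smul_iff]

/-- Every subgroup of a finite solvable group has a Hall complement system reducing into it. -/
theorem exists_reducing_system [Finite G] [Group.IsSolvable G] (C : Subgroup G) :
    ∃ K : Nat.Primes → Subgroup G, Cfsg.IsComplementSystem K ∧ Reduces K C := by
  have key : ∀ p : Nat.Primes, ∃ H : Subgroup G,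
      H.index = (p : ℕ) ^ (Nat.card G).factorization p ∧ ∃ j : ℕ, H.relIndex C ∣ (p : ℕ) ^ j := by
    intro p
    have hp := p.2
    -- factor the orders
    set n := (p : ℕ) ^ (Nat.card G).factorization p with hn
    set n' := (p : ℕ) ^ (Nat.card C).factorization p with hn'
    have hG : Nat.card G = Nat.card G / n * n :=
      (Nat.div_mul_cancel (Nat.ordProj_dvd _ _)).symm
    have hC : Nat.card C = Nat.card C / n' * n' :=
      (Nat.div_mul_cancel (Nat.ordProj_dvd _ _)).symm
    have hcopG : (Nat.card G / n).Coprime n :=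
      (Nat.Coprime.pow_left _ (Nat.coprime_ordCompl hp Nat.card_pos.ne')).symm
    have hcopC : (Nat.card C / n').Coprime n' :=
      (Nat.Coprime.pow_left _ (Nat.coprime_ordCompl hp Nat.card_pos.ne')).symm
    obtain ⟨Y, hY⟩ := H1.hall_exists hC hcopC
    have hY' : Nat.card (Y.map C.subtype) = Nat.card C / n' := by rw [card_map_subtype, hY]
    have hcopY : (Nat.card (Y.map C.subtype)).Coprime n := by
      rw [hY', hn]
      exact (Nat.Coprime.pow_left _ (Nat.coprime_ordCompl hp Nat.card_pos.ne')).symm
    obtain ⟨H, hH, hYH⟩ := H1.hall_contain hG hcopG (Y.map C.subtype) hcopY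
    refine ⟨H, ?_, (Nat.card C).factorization p, ?_⟩
    · have h1 := Subgroup.index_mul_card H
      rw [hH] at h1
      have hpos : 0 < Nat.card G / n := by
        rcases Nat.eq_zero_or_pos (Nat.card G / n) with h | h
        · rw [h, zero_mul] at hG; exact absurd hG Nat.card_pos.ne'
        · exact h
      have h2 : H.index * (Nat.card G / n) = n * (Nat.card G / n) := by
        rw [h1, mul_comm]; exact hG
      exact Nat.eq_of_mul_eq_mul_right hpos h2
    · have h1 : H.relIndex C ∣ (Y.map C.subtype).relIndex C :=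
        Subgroup.relIndex_dvd_of_le_left C hYH
      have h2 : (Y.map C.subtype).relIndex C = Y.index := by
        unfold Subgroup.relIndex
        rw [Subgroup.subgroupOf, Subgroup.comap_map_eq_self_of_injective C.subtype_injective]
      have h3 : Y.index = n' := by
        have h4 := Subgroup.index_mul_card Y
        rw [hY] at h4
        have hpos : 0 < Nat.card C / n' := by
          rcases Nat.eq_zero_or_pos (Nat.card C / n') with h | h
          · rw [h, zero_mul] at hC; exact absurd hC Nat.card_pos.ne'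
          · exact h
        have h5 : Y.index * (Nat.card C / n') = n' * (Nat.card C / n') := by
          rw [h4, mul_comm]; exact hC
        exact Nat.eq_of_mul_eq_mul_right hpos h5
      rw [h2, h3] at h1
      exact h1
  choose K hK1 hK2 using key
  exact ⟨K, hK1, hK2⟩

/-- **Carter**: every Carter subgroup of a finite solvable group contains a system normalizer. -/
theorem exists_systemNormalizer_le_carter [Finite G] [Group.IsSolvable G] (C : Subgroup G)
    (hC : Cfsg.IsCarterSubgroup C) :
    ∃ K : Nat.Primes → Subgroup G, Cfsg.IsComplementSystem K ∧ Reduces K C ∧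
      Cfsg.systemNormalizer K ≤ C := by
  obtain ⟨K, hK, hred⟩ := exists_reducing_system C
  exact ⟨K, hK, hred, systemNormalizer_le_carter_of_reduces _ G rfl C K hC hK hred⟩

theorem isCarterSubgroup_conj {C : Subgroup G} (hC : Cfsg.IsCarterSubgroup C) (g : G) :
    Cfsg.IsCarterSubgroup (MulAut.conj g • C) := by
  have h1 := (H1.isCarterIn_top_iff.2 hC).conj (g := g)
    (by rw [Subgroup.normalizer_eq_top_iff.2 (inferInstance : (⊤ : Subgroup G).Normal)]
        exact Subgroup.mem_top g)
  exact H1.isCarterIn_top_iff.1 h1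

/-- **Carter**: every system normalizer of a finite solvable group lies in a Carter subgroup. -/
theorem exists_carter_ge_systemNormalizer [Finite G] [Group.IsSolvable G]
    (K : Nat.Primes → Subgroup G) (hK : Cfsg.IsComplementSystem K) :
    ∃ C : Subgroup G, Cfsg.IsCarterSubgroup C ∧ Reduces K C ∧ Cfsg.systemNormalizer K ≤ C := by
  obtain ⟨⟨C₀, hC₀⟩, -⟩ := H1.carterProp_of_solvable _ G rfl
  have hC₀' : Cfsg.IsCarterSubgroup C₀ := hC₀
  obtain ⟨K₀, hK₀, hred₀, hle₀⟩ := exists_systemNormalizer_le_carter C₀ hC₀'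
  obtain ⟨g, hg⟩ := complementSystem_conj_all K₀ K hK₀ hK
  have hKeq : K = fun p => MulAut.conj g • K₀ p := funext fun p => (hg p).symm
  refine ⟨MulAut.conj g • C₀, isCarterSubgroup_conj hC₀' g, ?_, ?_⟩
  · intro p
    obtain ⟨j, hj⟩ := hred₀ p
    refine ⟨j, ?_⟩
    rw [← hg p]
    have h1 : (MulAut.conj g • K₀ p).relIndex (MulAut.conj g • C₀) = (K₀ p).relIndex C₀ :=
      Subgroup.relIndex_map_map_of_injective (K₀ p) C₀ (MulAut.conj g).injective
    rw [h1]; exact hj
  · rw [hKeq, systemNormalizer_conj]
    exact Subgroup.pointwise_smul_le_pointwise_smul_iff.2 hle₀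

end Cfsg.Agent.Lib.H3
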