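import Cfsg.Agent.Lib.H3.Basic
import Cfsg.Agent.Lib.H3.Supersolvable2
import Cfsg.Agent.Lib.H1.Schmidt
import Cfsg.Agent.Lib.H1.Fitting
import Cfsg.Prelude.Def_SolvableStructure
import Mathlib

/-!
helper3 library: structure of minimal non-nilpotent (Schmidt) groups.
-/

set_option autoImplicit false
open scoped commutatorElement

namespace Cfsg.Agent.Lib.H3

variable {G : Type*} [Group G]

/-- In a nilpotent finite group `K`, a Sylow subgroup of the ambient group contained in `K` is
normalized by `K`. -/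
theorem le_normalizer_sylow_of_isNilpotent [Finite G] {p : ℕ} [Fact p.Prime] (P : Sylow p G)
    (K : Subgroup G) (hPK : (P : Subgroup G) ≤ K) (hK : Group.IsNilpotent K) :
    K ≤ Subgroup.normalizer ((P : Subgroup G) : Set G) := by
  have htfae := (Group.isNilpotent_of_finite_tfae (G := K)).out 0 3
  have h1 : ((P.subtype hPK : Sylow p K) : Subgroup K).Normal := htfae.1 hK p inferInstance _
  rw [Sylow.coe_subtype] at h1
  exact (Subgroup.normal_subgroupOf_iff_le_normalizer hPK).1 h1

/-- A solvable nontrivial finite group has a normal subgroup of prime index. -/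
theorem exists_normal_prime_index [Finite G] [Group.IsSolvable G] [Nontrivial G] :
    ∃ M : Subgroup G, M.Normal ∧ M.index.Prime := by
  have hlt := Group.IsSolvable.commutator_lt_top_of_nontrivial G
  rcases eq_top_or_exists_le_coatom (commutator G) with h | ⟨M, hM, hle⟩
  · exact absurd h hlt.ne
  · have hMn : M.Normal := by
      constructor
      intro m hm g
      have h1 : ⁅g, m⁆ ∈ M := hle (Subgroup.commutator_mem_commutator (Subgroup.mem_top g)
        (Subgroup.mem_top m))
      have h2 : g * m * g⁻¹ = ⁅g, m⁆ * m := by rw [commutatorElement_def]; group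
      rw [h2]
      exact M.mul_mem h1 hm
    exact ⟨M, hMn, index_prime_of_normal_isCoatom hM⟩

/-- In a finite nilpotent group, elements of a `p`-subgroup and of a `q`-subgroup (`p ≠ q`)
commute. -/
theorem commute_of_isNilpotent_of_isPGroup {K : Type*} [Group K] [Finite K]
    (hK : Group.IsNilpotent K) {p q : ℕ} [Fact p.Prime] [Fact q.Prime] (hpq : p ≠ q)
    (A B : Subgroup K) (hA : IsPGroup p A) (hB : IsPGroup q B) :
    ∀ a ∈ A, ∀ b ∈ B, a * b = b * a := by
  obtain ⟨PA, hPA⟩ := hA.exists_le_sylow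
  obtain ⟨PB, hPB⟩ := hB.exists_le_sylow
  have htfae := (Group.isNilpotent_of_finite_tfae (G := K)).out 0 3
  have h1 : (PA : Subgroup K).Normal := htfae.1 hK p inferInstance PA
  have h2 : (PB : Subgroup K).Normal := htfae.1 hK q inferInstance PB
  have hd := IsPGroup.disjoint_of_ne p q hpq _ _ PA.2 PB.2
  intro a ha b hb
  exact (Subgroup.commute_of_normal_of_disjoint _ _ h1 h2 hd a b (hPA ha) (hPB hb)).eq

/-- Same, for subgroups of an ambient group inside a nilpotent subgroup `K`. -/
theorem commute_of_isNilpotent_subgroup [Finite G] (K : Subgroup G) (hK : Group.IsNilpotent K)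
    {p q : ℕ} [Fact p.Prime] [Fact q.Prime] (hpq : p ≠ q) (A B : Subgroup G)
    (hA : IsPGroup p A) (hB : IsPGroup q B) {a b : G} (ha : a ∈ A) (hb : b ∈ B) (haK : a ∈ K)
    (hbK : b ∈ K) : a * b = b * a := by
  have h := commute_of_isNilpotent_of_isPGroup hK hpq (A.subgroupOf K) (B.subgroupOf K)
    hA.comap_subtype hB.comap_subtype ⟨a, haK⟩ (Subgroup.mem_subgroupOf.2 ha) ⟨b, hbK⟩
    (Subgroup.mem_subgroupOf.2 hb)
  exact congrArg Subtype.val h

/-- Structure of minimal non-nilpotent groups (Schmidt): `G = P Q` with `P` a cyclic, non-normal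
Sylow `p`-subgroup and `Q` a normal Sylow `q`-subgroup. -/
theorem schmidt_structure [Finite G] (hG : Cfsg.IsMinimalNonNilpotent G) :
    ∃ p q : ℕ, p.Prime ∧ q.Prime ∧ p ≠ q ∧ ∃ (P : Sylow p G) (Q : Sylow q G),
      IsCyclic P ∧ (Q : Subgroup G).Normal ∧ (P : Subgroup G) ⊔ Q = ⊤ ∧
      ¬ (P : Subgroup G).Normal := by
  obtain ⟨hnn, hprop⟩ := hG
  have hsolv : Group.IsSolvable G :=
    Cfsg.Agent.Lib.H1.isSolvable_of_maxNilpotent (fun M hM => hprop M hM.1)
  have hnt : Nontrivial G := by
    by_contra h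
    rw [not_nontrivial_iff_subsingleton] at h
    exact hnn inferInstance
  obtain ⟨M, hMn, hMp⟩ := exists_normal_prime_index (G := G)
  obtain ⟨p, hp⟩ : ∃ p : ℕ, p = M.index := ⟨_, rfl⟩
  rw [← hp] at hMp
  have hpF : Fact p.Prime := ⟨hMp⟩
  have hMtop : M ≠ ⊤ := by
    intro h
    rw [h, Subgroup.index_top] at hp
    rw [hp] at hMp
    exact Nat.not_prime_one hMp
  have hMnil : Group.IsNilpotent M := hprop M hMtop
  have hnormal : ∀ (r : ℕ) [Fact r.Prime], r ≠ p → ∀ R : Sylow r G, (R : Subgroup G).Normal := by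
    intro r hrF hrp R
    have hRM : (R : Subgroup G) ≤ M := by
      rw [← Subgroup.relIndex_eq_one]
      have h1 : M.relIndex R ∣ p := by
        rw [hp]; exact Subgroup.relIndex_dvd_index_of_normal M R
      have h2 : M.relIndex R ∣ Nat.card R := Subgroup.relIndex_dvd_card M R
      obtain ⟨k, hk⟩ := IsPGroup.iff_card.1 R.2
      rw [hk] at h2
      have hcop : (r ^ k).Coprime p :=
        Nat.Coprime.pow_left k ((Nat.coprime_primes hrF.out hMp).2 hrp)
      exact Nat.eq_one_of_dvd_coprimes hcop h2 h1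
    have htfae := (Group.isNilpotent_of_finite_tfae (G := M)).out 0 3
    have h1 : ((R.subtype hRM : Sylow r M) : Subgroup M).Normal :=
      htfae.1 hMnil r inferInstance _
    have h2 : ((R.subtype hRM : Sylow r M) : Subgroup M).Characteristic :=
      Sylow.characteristic_of_normal _ h1
    have h3 := normal_map_subtype_of_char M ((R.subtype hRM : Sylow r M) : Subgroup M)
    rwa [Sylow.coe_subtype, Subgroup.map_subgroupOf_eq_of_le hRM] at h3
  have htfaeG := (Group.isNilpotent_of_finite_tfae (G := G)).out 0 3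
  have hex : ∃ P : Sylow p G, ¬ (P : Subgroup G).Normal := by
    by_contra hcon
    push Not at hcon
    apply hnn
    apply htfaeG.2
    intro r hrF R
    by_cases hrp : r = p
    · subst hrp; exact hcon R
    · exact hnormal r hrp R
  obtain ⟨P, hPnn⟩ := hex
  have hexq : ∃ (q : ℕ) (_ : Fact q.Prime), q ≠ p ∧ ∃ Q : Sylow q G,
      ¬ (Q : Subgroup G) ≤ Subgroup.normalizer ((P : Subgroup G) : Set G) := by
    by_contra hcon
    push Not at hcon
    apply hPnn
    rw [← Subgroup.normalizer_eq_top_iff]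
    apply Cfsg.Agent.Lib.H1.eq_top_of_forall_sylow_le
    intro r hrF
    by_cases hrp : r = p
    · subst hrp; exact ⟨P, Subgroup.le_normalizer⟩
    · obtain ⟨R⟩ : Nonempty (Sylow r G) := inferInstance
      exact ⟨R, hcon r hrF hrp R⟩
  obtain ⟨q, hqF, hqp, Q, hQN⟩ := hexq
  have hQn : (Q : Subgroup G).Normal := hnormal q hqp Q
  have hsup : (P : Subgroup G) ⊔ Q = ⊤ := by
    by_contra hne
    have hK := hprop _ hne
    exact hQN (le_sup_right.trans (le_normalizer_sylow_of_isNilpotent P _ le_sup_left hK))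
  have hPQ : (P : Subgroup G) ⊓ Q = ⊥ :=
    (IsPGroup.disjoint_of_ne p q hqp.symm _ _ P.2 Q.2).eq_bot
  refine ⟨p, q, hMp, hqF.out, hqp.symm, P, Q, ?_, hQn, hsup, hPnn⟩
  by_contra hcyc
  apply hQN
  have hcomm : ∀ x ∈ (P : Subgroup G), ∀ y ∈ (Q : Subgroup G), x * y = y * x := by
    intro x hx y hy
    set K := Subgroup.zpowers x ⊔ (Q : Subgroup G) with hK
    have hzP : Subgroup.zpowers x ≤ (P : Subgroup G) := Subgroup.zpowers_le.2 hx
    have hKtop : K ≠ ⊤ := by
      intro htop
      apply hcyc
      have hPle : (P : Subgroup G) ≤ Subgroup.zpowers x := by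
        intro z hz
        have hzK : z ∈ K := by rw [htop]; exact Subgroup.mem_top z
        obtain ⟨a, ha, b, hb, rfl⟩ := Subgroup.mem_sup_of_normal_right.1 hzK
        have hbP : b ∈ (P : Subgroup G) := by
          have h1 : b = a⁻¹ * (a * b) := by group
          rw [h1]
          exact Subgroup.mul_mem _ (Subgroup.inv_mem _ (hzP ha)) hz
        have hb1 : b ∈ (P : Subgroup G) ⊓ Q := ⟨hbP, hb⟩
        rw [hPQ, Subgroup.mem_bot] at hb1
        rw [hb1, mul_one]
        exact ha
      have heq : (P : Subgroup G) = Subgroup.zpowers x := le_antisymm hPle hzP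
      have h2 : IsCyclic (Subgroup.zpowers x) := inferInstance
      rw [← heq] at h2
      exact h2
    have hKnil := hprop K hKtop
    exact commute_of_isNilpotent_subgroup K hKnil hqp.symm (P : Subgroup G) (Q : Subgroup G) P.2 Q.2
      hx hy ((le_sup_left : Subgroup.zpowers x ≤ K) (Subgroup.mem_zpowers x))
      ((le_sup_right : (Q : Subgroup G) ≤ K) hy)
  intro y hy
  apply Subgroup.centralizer_le_normalizer
  rw [Subgroup.mem_centralizer_iff]
  intro x hx
  exact hcomm x hx y hy

end Cfsg.Agent.Lib.H3
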