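import Mathlib
import Cfsg.Agent.Lib.H16.WielandtFormula

/-!
# S4316 (derived subgroups of fixed points, rank 3): shared definitions (helper3)

Ambient form: `Γ` a finite group, `G A : Subgroup Γ`, `A` abelian of exponent `q` and order `q ^ 3`
normalizing the `q'`-group `G`, and `|C_G(a)'| ≤ m` for all `a ∈ A`, `a ≠ 1`.
Theorem: `|G'| ≤ dBound q m`.
-/

set_option autoImplicit false

universe u

namespace Cfsg.Agent.Lib.H3.DF

open Subgroup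

variable {Γ : Type u} [Group Γ]

/-- `C_G(a)`. -/
def Gc (G : Subgroup Γ) (a : Γ) : Subgroup Γ := G ⊓ centralizer {a}

/-- `K_a = C_G(a)'`. -/
def Kc (G : Subgroup Γ) (a : Γ) : Subgroup Γ := ⁅Gc G a, Gc G a⁆

/-- `H_B = C_G(B)`. -/
def HB (G B : Subgroup Γ) : Subgroup Γ := G ⊓ centralizer (B : Set Γ)

/-- `T = ⟨K_a : a ∈ A, a ≠ 1⟩`. -/
noncomputable def TT [Finite Γ] (G A : Subgroup Γ) : Subgroup Γ :=
  ⨆ a ∈ Cfsg.Agent.Lib.H16.nz A, Kc G a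

/-- `A` is abelian of exponent `q` and order `q ^ 3`. -/
structure IsE3 (q : ℕ) (A : Subgroup Γ) : Prop where
  comm : ∀ a ∈ A, ∀ b ∈ A, a * b = b * a
  exp : ∀ a ∈ A, a ^ q = 1
  card : Nat.card A = q ^ 3

/-- A plane of `A`: a subgroup of order `q ^ 2`. -/
def IsPlane (q : ℕ) (A B : Subgroup Γ) : Prop := B ≤ A ∧ Nat.card B = q ^ 2

/-- The standing hypothesis. -/
structure DHyp (q m : ℕ) (G A : Subgroup Γ) : Prop where
  e3 : IsE3 q A
  norm : A ≤ normalizer (G : Set Γ)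
  cop : ¬ q ∣ Nat.card G
  small : ∀ a ∈ A, a ≠ 1 → Nat.card ↥(Kc G a) ≤ m

/-- Bound for `|H_B : C_{H_B}(T)|`. -/
def dJ (q m : ℕ) : ℕ := m ^ (q ^ 3 * m)

/-- Bound for `|G : C_G(T)|`. -/
def dN (q m : ℕ) : ℕ := (dJ q m ^ (q + 1)) ^ (q + 1)

/-- Schur's bound for `|T'|` in terms of `|T : Z(T)| ≤ n`. -/
def dS (n : ℕ) : ℕ := n ^ (n * n ^ 2 + 1)

/-- The bound of the theorem. -/
def dBound (q m : ℕ) : ℕ := m ^ (q ^ 3) * dS (dN q m)

end Cfsg.Agent.Lib.H3.DF
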