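import Mathlib
import Cfsg.Prelude.Def_PLocal
import Cfsg.Agent.Lib.H7.CoprimeGen
import Cfsg.Agent.Lib.H7.Coprime
import Cfsg.Agent.Lib.H7.Hyperplane
import Cfsg.Agent.Lib.H22.PPrimeCore
import Cfsg.Agent.Lib.H16.Replacement

/-! Best offenders in a faithful group with self-centralizing `p'`-core (KS 9.3). -/

set_option autoImplicit false
open scoped commutatorElement

namespace Cfsg.Agent.Lib.H3

variable {G : Type*} [Group G]

/-- The basic setup: `V` elementary abelian, `H` acts faithfully on `V`, `Q` a normal `p'`-subgroup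
of `H` containing its centralizer in `H`. -/
structure FFS (p : ℕ) (V H Q : Subgroup G) : Prop where
  hV : Cfsg.IsElementaryAbelian p V
  hHV : H ≤ Subgroup.normalizer (V : Set G)
  hf : H ⊓ Subgroup.centralizer (V : Set G) = ⊥
  hQH : Q ≤ H
  hQn : H ≤ Subgroup.normalizer (Q : Set G)
  hQp : (Nat.card Q).Coprime p
  hQc : H ⊓ Subgroup.centralizer (Q : Set G) ≤ Q

theorem ffs_of_hyps [Finite G] {p : ℕ} [Fact p.Prime] {V H : Subgroup G}
    (hV : Cfsg.IsElementaryAbelian p V) (hHV : H ≤ Subgroup.normalizer (V : Set G))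
    (hf : H ⊓ Subgroup.centralizer (V : Set G) = ⊥)
    (hS1 : Subgroup.centralizer (Cfsg.pPrimeCore p ↥H : Set ↥H) ≤ Cfsg.pPrimeCore p ↥H) :
    FFS p V H ((Cfsg.pPrimeCore p ↥H).map H.subtype) := by
  have hn : (Cfsg.pPrimeCore p ↥H).Normal := Cfsg.Agent.Lib.H22.pPrimeCore_normal p
  refine ⟨hV, hHV, hf, Subgroup.map_subtype_le _, ?_, ?_, ?_⟩
  · intro h hh
    have key : ∀ g ∈ H, ∀ x ∈ (Cfsg.pPrimeCore p ↥H).map H.subtype,
        g * x * g⁻¹ ∈ (Cfsg.pPrimeCore p ↥H).map H.subtype := by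
      intro g hg x hx
      obtain ⟨y, hy, rfl⟩ := hx
      exact ⟨⟨g, hg⟩ * y * ⟨g, hg⟩⁻¹, hn.conj_mem y hy ⟨g, hg⟩, rfl⟩
    rw [Subgroup.mem_normalizer_iff]
    intro x
    refine ⟨key h hh x, fun hx => ?_⟩
    have := key h⁻¹ (H.inv_mem hh) _ hx
    simpa [mul_assoc] using this
  · rw [Nat.card_congr (Subgroup.equivMapOfInjective _ _ H.subtype_injective).symm.toEquiv]
    exact Cfsg.Agent.Lib.H22.card_pPrimeCore_coprime p
  · intro x hx
    have hxH : x ∈ H := hx.1
    have hxc : (⟨x, hxH⟩ : ↥H) ∈ Subgroup.centralizer (Cfsg.pPrimeCore p ↥H : Set ↥H) := by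
      rw [Subgroup.mem_centralizer_iff]
      intro y hy
      apply Subtype.ext
      have := Subgroup.mem_centralizer_iff.1 hx.2 (y : G) ⟨y, hy, rfl⟩
      simpa using this
    exact ⟨⟨x, hxH⟩, hS1 hxc, rfl⟩

namespace FFS

variable {p : ℕ} [Fact p.Prime] {V H Q : Subgroup G}

theorem bo_comm (h : FFS p V H Q) {A : Subgroup G} (hAH : A ≤ H)
    (hA : Cfsg.IsBestOffenderOn p V A) : ∀ a ∈ A, ∀ b ∈ A, a * b = b * a := by
  intro a ha b hb
  have h1 : ⁅a, b⁆ ∈ H ⊓ Subgroup.centralizer (V : Set G) := by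
    refine ⟨?_, hA.2.1 (Subgroup.commutator_mem_commutator ha hb)⟩
    rw [commutatorElement_def]
    exact H.mul_mem (H.mul_mem (H.mul_mem (hAH ha) (hAH hb)) (H.inv_mem (hAH ha)))
      (H.inv_mem (hAH hb))
  rw [h.hf, Subgroup.mem_bot] at h1
  exact commutatorElement_eq_one_iff_mul_comm.1 h1

theorem bo_pow (h : FFS p V H Q) {A : Subgroup G} (hAH : A ≤ H)
    (hA : Cfsg.IsBestOffenderOn p V A) : ∀ a ∈ A, a ^ p = 1 := by
  intro a ha
  have h1 : a ^ p ∈ H ⊓ Subgroup.centralizer (V : Set G) :=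
    ⟨H.pow_mem (hAH ha) p, hA.2.2 a ha⟩
  rw [h.hf, Subgroup.mem_bot] at h1
  exact h1

theorem bo_isPGroup (h : FFS p V H Q) {A : Subgroup G} (hAH : A ≤ H)
    (hA : Cfsg.IsBestOffenderOn p V A) : IsPGroup p A := by
  intro a
  refine ⟨1, ?_⟩
  apply Subtype.ext
  simpa using h.bo_pow hAH hA a a.2

theorem isPGroup_V (h : FFS p V H Q) : IsPGroup p V := by
  intro a
  refine ⟨1, ?_⟩
  apply Subtype.ext
  simpa using h.hV.2 a a.2

/-- An element of order dividing `p` of `H` centralizing `Q` is trivial. -/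
theorem eq_one_of_centralizes (h : FFS p V H Q) [Finite G] {x : G} (hxH : x ∈ H) (hxp : x ^ p = 1)
    (hxQ : x ∈ Subgroup.centralizer (Q : Set G)) : x = 1 := by
  have hxQ' : x ∈ Q := h.hQc ⟨hxH, hxQ⟩
  have h1 : orderOf x ∣ p := orderOf_dvd_of_pow_eq_one hxp
  have h2 : orderOf x ∣ Nat.card Q := by
    have := orderOf_dvd_natCard (⟨x, hxQ'⟩ : Q)
    rwa [Subgroup.orderOf_mk] at this
  have h3 : orderOf x ∣ 1 := by
    have := Nat.dvd_gcd h2 h1
    rwa [Nat.Coprime.gcd_eq_one h.hQp] at this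
  exact orderOf_eq_one_iff.1 (Nat.dvd_one.1 h3)

/-- A nontrivial best offender has a hyperplane `B` with `[C_Q(B), A] ≠ 1`. -/
theorem exists_hyperplane_noncentral (h : FFS p V H Q) [Finite G] {A : Subgroup G} (hAH : A ≤ H)
    (hA : Cfsg.IsBestOffenderOn p V A) (hA1 : A ≠ ⊥) :
    ∃ B : Subgroup G, B ≤ A ∧ B.relIndex A = p ∧
      ¬ (Q ⊓ Subgroup.centralizer (B : Set G) ≤ Subgroup.centralizer (A : Set G)) := by
  by_contra hcon0
  have hcon : ∀ B : Subgroup G, B ≤ A → B.relIndex A = p →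
      Q ⊓ Subgroup.centralizer (B : Set G) ≤ Subgroup.centralizer (A : Set G) := by
    intro B hBA hBp
    by_contra h'
    exact hcon0 ⟨B, hBA, hBp, h'⟩
  have hAp := h.bo_isPGroup hAH hA
  have hAQ : A ≤ Subgroup.normalizer (Q : Set G) := hAH.trans h.hQn
  have h1 : Q ≤ Cfsg.Agent.Lib.H7.hypGen p A Q :=
    Cfsg.Agent.Lib.H7.le_hypGen p (h.bo_comm hAH hA) (h.bo_pow hAH hA) h.hQp hAQ
  have h2 : Cfsg.Agent.Lib.H7.hypGen p A Q ≤ Subgroup.centralizer (A : Set G) := by
    unfold Cfsg.Agent.Lib.H7.hypGen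
    apply iSup_le
    rintro ⟨B, hBA, hBi⟩
    rcases Cfsg.Agent.Lib.H7.eq_or_relIndex_eq_of_relIndex_le p hAp hBA hBi with rfl | hBp
    · exact inf_le_right
    · exact hcon B hBA hBp
  have h3 : A ≤ Subgroup.centralizer (Q : Set G) := Subgroup.le_centralizer_iff.1 (h1.trans h2)
  apply hA1
  rw [eq_bot_iff]
  intro x hx
  rw [Subgroup.mem_bot]
  exact h.eq_one_of_centralizes (hAH hx) (h.bo_pow hAH hA x hx) (h3 hx)

/-- conjugation by an element centralizing `B` and normalizing `V` preserves `C_V(B)`. -/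
theorem conj_mem_cfix {V B : Subgroup G} {x w : G} (hxV : x ∈ Subgroup.normalizer (V : Set G))
    (hxB : x ∈ Subgroup.centralizer (B : Set G)) (hw : w ∈ V ⊓ Subgroup.centralizer (B : Set G)) :
    x * w * x⁻¹ ∈ V ⊓ Subgroup.centralizer (B : Set G) := by
  refine ⟨(Subgroup.mem_normalizer_iff.1 hxV w).1 hw.1, ?_⟩
  exact (Subgroup.centralizer (B : Set G)).mul_mem
    ((Subgroup.centralizer (B : Set G)).mul_mem hxB hw.2)
    ((Subgroup.centralizer (B : Set G)).inv_mem hxB)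

theorem card_cfix_hyperplane (h : FFS p V H Q) [Finite G] {A B : Subgroup G} (hAH : A ≤ H)
    (hA : Cfsg.IsBestOffenderOn p V A) (hBA : B ≤ A) (hBi : B.relIndex A = p)
    (hnc : ¬ (Q ⊓ Subgroup.centralizer (B : Set G) ≤ Subgroup.centralizer (A : Set G))) :
    Nat.card ↥(V ⊓ Subgroup.centralizer (B : Set G)) =
      p * Nat.card ↥(V ⊓ Subgroup.centralizer (A : Set G)) := by
  have hp : p.Prime := Fact.out
  have hcard : Nat.card B * p = Nat.card A := by
    rw [← hBi]; exact Cfsg.Agent.Lib.H7.card_mul_relIndex_of_le hBA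
  have hle : V ⊓ Subgroup.centralizer (A : Set G) ≤ V ⊓ Subgroup.centralizer (B : Set G) :=
    inf_le_inf_left V (Subgroup.centralizer_le hBA)
  have hbest := hA.1 B hBA
  have hBpos : 0 < Nat.card B := Nat.card_pos
  have h1 : Nat.card ↥(V ⊓ Subgroup.centralizer (B : Set G)) ≤
      p * Nat.card ↥(V ⊓ Subgroup.centralizer (A : Set G)) := by
    rw [← hcard] at hbest
    have : Nat.card B * Nat.card ↥(V ⊓ Subgroup.centralizer (B : Set G)) ≤
        Nat.card B * (p * Nat.card ↥(V ⊓ Subgroup.centralizer (A : Set G))) := by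
      calc _ ≤ Nat.card B * p * Nat.card ↥(V ⊓ Subgroup.centralizer (A : Set G)) := hbest
        _ = _ := by ring
    exact Nat.le_of_mul_le_mul_left this hBpos
  -- both are p-powers
  have hVp := h.isPGroup_V
  obtain ⟨m, hm⟩ := IsPGroup.iff_card.1 (hVp.to_le (inf_le_left : V ⊓ Subgroup.centralizer (B : Set G) ≤ V))
  obtain ⟨n, hn⟩ := IsPGroup.iff_card.1 (hVp.to_le (inf_le_left : V ⊓ Subgroup.centralizer (A : Set G) ≤ V))
  have hnm : n ≤ m := by
    have := Subgroup.card_dvd_of_le hle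
    rw [hm, hn] at this
    exact (Nat.pow_dvd_pow_iff_le_right hp.one_lt).1 this
  have hmn : m ≤ n + 1 := by
    rw [hm, hn, ← pow_succ'] at h1
    exact (Nat.pow_le_pow_iff_right hp.one_lt).1 h1
  rcases (by omega : m = n + 1 ∨ m = n) with hmn' | hmn'
  · rw [hm, hn, hmn', pow_succ']
  · exfalso
    have heq : V ⊓ Subgroup.centralizer (A : Set G) = V ⊓ Subgroup.centralizer (B : Set G) :=
      Subgroup.eq_of_le_of_card_ge hle (by rw [hm, hn, hmn'])
    set W := V ⊓ Subgroup.centralizer (B : Set G) with hW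
    set X := Q ⊓ Subgroup.centralizer (B : Set G) with hX
    have hAW : A ≤ Subgroup.centralizer (W : Set G) := by
      rw [Subgroup.le_centralizer_iff, ← heq]; exact inf_le_right
    have hAB : A ≤ Subgroup.centralizer (B : Set G) := by
      intro a ha
      rw [Subgroup.mem_centralizer_iff]
      intro b hb
      exact h.bo_comm hAH hA b (hBA hb) a ha
    have hXW : ∀ x ∈ X, ∀ w ∈ W, x * w * x⁻¹ ∈ W := fun x hx w hw =>
      conj_mem_cfix (h.hHV (h.hQH hx.1)) hx.2 hw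
    have hYW : ⁅X, A⁆ ≤ Subgroup.centralizer (W : Set G) := by
      rw [Subgroup.commutator_le]
      intro x hx a ha
      rw [commutatorElement_def]
      have h2 : x * a * x⁻¹ ∈ Subgroup.centralizer (W : Set G) := by
        rw [Subgroup.mem_centralizer_iff]
        intro w hw
        have h3 := hXW x⁻¹ (X.inv_mem hx) w hw
        rw [inv_inv] at h3
        have h4 := Subgroup.mem_centralizer_iff.1 (hAW ha) _ h3
        calc w * (x * a * x⁻¹) = x * ((x⁻¹ * w * x) * a) * x⁻¹ := by group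
          _ = x * (a * (x⁻¹ * w * x)) * x⁻¹ := by rw [h4]
          _ = x * a * x⁻¹ * w := by group
      exact (Subgroup.centralizer (W : Set G)).mul_mem h2
        ((Subgroup.centralizer (W : Set G)).inv_mem (hAW ha))
    have hYB : ⁅X, A⁆ ≤ Subgroup.centralizer (B : Set G) := by
      rw [Subgroup.commutator_le]
      intro x hx a ha
      rw [commutatorElement_def]
      have hc := Subgroup.centralizer (B : Set G)
      exact (Subgroup.centralizer (B : Set G)).mul_mem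
        ((Subgroup.centralizer (B : Set G)).mul_mem
          ((Subgroup.centralizer (B : Set G)).mul_mem hx.2 (hAB ha))
          ((Subgroup.centralizer (B : Set G)).inv_mem hx.2))
        ((Subgroup.centralizer (B : Set G)).inv_mem (hAB ha))
    have hYQ : ⁅X, A⁆ ≤ Q := by
      rw [Subgroup.commutator_le]
      intro x hx a ha
      rw [commutatorElement_def]
      have h2 : a * x⁻¹ * a⁻¹ ∈ Q :=
        (Subgroup.mem_normalizer_iff.1 (h.hQn (hAH ha)) x⁻¹).1 (Q.inv_mem hx.1)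
      have : x * a * x⁻¹ * a⁻¹ = x * (a * x⁻¹ * a⁻¹) := by group
      rw [this]
      exact Q.mul_mem hx.1 h2
    have hYp : (Nat.card ↥(⁅X, A⁆)).Coprime p :=
      Nat.Coprime.coprime_dvd_left (Subgroup.card_dvd_of_le hYQ) h.hQp
    have hYH : ⁅X, A⁆ ≤ H := hYQ.trans h.hQH
    have hBp : IsPGroup p B := (h.bo_isPGroup hAH hA).to_le hBA
    have hcomm1 : ⁅⁅X, A⁆, B⁆ = ⊥ := by
      rw [Subgroup.commutator_eq_bot_iff_le_centralizer]; exact hYB
    have hcomm2 : ⁅⁅X, A⁆, V ⊓ Subgroup.centralizer (B : Set G)⁆ = ⊥ := by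
      rw [Subgroup.commutator_eq_bot_iff_le_centralizer]; exact hYW
    have hres := Cfsg.Agent.Lib.H7.thompson_AxB' p hVp hBp hYp hcomm1 (hYH.trans h.hHV)
      ((hBA.trans hAH).trans h.hHV) hcomm2
    have hY1 : ⁅X, A⁆ = ⊥ := by
      rw [Subgroup.commutator_eq_bot_iff_le_centralizer] at hres
      rw [eq_bot_iff, ← h.hf]
      exact le_inf hYH hres
    apply hnc
    rw [Subgroup.commutator_eq_bot_iff_le_centralizer] at hY1
    exact hY1

end FFS

/-- `v ↦ [a, v]` as an endomorphism of the abelian subgroup `V` normalized by `a`. -/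
def commEnd {V : Subgroup G} (hVc : ∀ x ∈ V, ∀ y ∈ V, x * y = y * x) {a : G}
    (ha : a ∈ Subgroup.normalizer (V : Set G)) : V →* V where
  toFun v := ⟨a * v * a⁻¹ * (v : G)⁻¹,
    V.mul_mem ((Subgroup.mem_normalizer_iff.1 ha v).1 v.2) (V.inv_mem v.2)⟩
  map_one' := by
    apply Subtype.ext; simp
  map_mul' x y := by
    apply Subtype.ext
    simp only [Subgroup.coe_mul]
    have h1 : a * (y : G) * a⁻¹ ∈ V := (Subgroup.mem_normalizer_iff.1 ha y).1 y.2
    have h2 := hVc (x : G)⁻¹ (V.inv_mem x.2) _ h1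
    have h3 := hVc (y : G)⁻¹ (V.inv_mem y.2) (x : G)⁻¹ (V.inv_mem x.2)
    calc a * ((x : G) * y) * a⁻¹ * ((x : G) * y)⁻¹
        = a * x * y * a⁻¹ * ((y : G)⁻¹ * (x : G)⁻¹) := by group
      _ = a * x * y * a⁻¹ * ((x : G)⁻¹ * (y : G)⁻¹) := by rw [h3]
      _ = (a * x * a⁻¹) * ((a * y * a⁻¹) * (x : G)⁻¹) * (y : G)⁻¹ := by group
      _ = (a * x * a⁻¹) * ((x : G)⁻¹ * (a * y * a⁻¹)) * (y : G)⁻¹ := by rw [h2]
      _ = _ := by group

theorem commEnd_coe {V : Subgroup G} (hVc : ∀ x ∈ V, ∀ y ∈ V, x * y = y * x) {a : G}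
    (ha : a ∈ Subgroup.normalizer (V : Set G)) (v : V) :
    ((commEnd hVc ha v : V) : G) = a * v * a⁻¹ * (v : G)⁻¹ := rfl

theorem card_commutator_zpowers [Finite G] {V : Subgroup G}
    (hVc : ∀ x ∈ V, ∀ y ∈ V, x * y = y * x) {a : G}
    (ha : a ∈ Subgroup.normalizer (V : Set G)) :
    Nat.card ↥(⁅V, Subgroup.zpowers a⁆) *
      Nat.card ↥(V ⊓ Subgroup.centralizer ((Subgroup.zpowers a : Subgroup G) : Set G)) =
      Nat.card V := by
  set φ := commEnd hVc ha with hφ
  have h1 := Subgroup.card_mul_index φ.ker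
  rw [Subgroup.index_ker] at h1
  have hker : φ.ker.map V.subtype =
      V ⊓ Subgroup.centralizer ((Subgroup.zpowers a : Subgroup G) : Set G) := by
    ext v
    constructor
    · rintro ⟨w, hw, rfl⟩
      refine ⟨w.2, ?_⟩
      have hw' : φ w = 1 := hw
      have h2 : a * (w : G) * a⁻¹ * (w : G)⁻¹ = 1 := by
        have := congrArg Subtype.val hw'
        simpa [hφ, commEnd_coe] using this
      have h3 : a * (w : G) = w * a := by
        have : a * (w : G) * a⁻¹ = w := by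
          rw [mul_inv_eq_one] at h2; exact h2
        calc a * (w : G) = a * w * a⁻¹ * a := by group
          _ = w * a := by rw [this]
      show (w : G) ∈ Subgroup.centralizer ((Subgroup.zpowers a : Subgroup G) : Set G)
      rw [← Cfsg.Agent.Lib.H7.centralizer_singleton_eq_centralizer_zpowers,
        Subgroup.mem_centralizer_iff]
      intro g hg
      rw [Set.mem_singleton_iff] at hg
      rw [hg, h3]
    · rintro ⟨hvV, hvC⟩
      refine ⟨⟨v, hvV⟩, ?_, rfl⟩
      show φ ⟨v, hvV⟩ = 1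
      apply Subtype.ext
      rw [hφ, commEnd_coe]
      have h3 : a * v = v * a :=
        Subgroup.mem_centralizer_iff.1 hvC a (Subgroup.mem_zpowers a)
      simp only [Subgroup.coe_one]
      rw [h3]; group
  have hR : ∀ v ∈ V, a * v * a⁻¹ * v⁻¹ ∈ φ.range.map V.subtype := fun v hv =>
    ⟨φ ⟨v, hv⟩, ⟨⟨v, hv⟩, rfl⟩, rfl⟩
  have hRV : φ.range.map V.subtype ≤ V := Subgroup.map_subtype_le _
  have hRa : ∀ r ∈ φ.range.map V.subtype, a * r * a⁻¹ ∈ φ.range.map V.subtype := by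
    rintro r ⟨w, ⟨u, rfl⟩, rfl⟩
    have hu' : a * (u : G) * a⁻¹ ∈ V := (Subgroup.mem_normalizer_iff.1 ha u).1 u.2
    have := hR _ hu'
    have e : a * (V.subtype (φ u)) * a⁻¹ = a * (a * (u : G) * a⁻¹) * a⁻¹ * (a * (u : G) * a⁻¹)⁻¹ := by
      simp only [Subgroup.subtype_apply, hφ, commEnd_coe]; group
    rw [e]; exact this
  have hpow : ∀ k : ℕ, ∀ v ∈ V, a ^ k * v * (a ^ k)⁻¹ * v⁻¹ ∈ φ.range.map V.subtype := by
    intro k
    induction k with
    | zero => intro v _; simp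
    | succ k ih =>
      intro v hv
      have h2 := hRa _ (ih v hv)
      have h3 := hR v hv
      have e : a ^ (k + 1) * v * (a ^ (k + 1))⁻¹ * v⁻¹ =
          a * (a ^ k * v * (a ^ k)⁻¹ * v⁻¹) * a⁻¹ * (a * v * a⁻¹ * v⁻¹) := by
        rw [pow_succ']; group
      rw [e]
      exact Subgroup.mul_mem _ h2 h3
  have hrange : φ.range.map V.subtype = ⁅V, Subgroup.zpowers a⁆ := by
    apply le_antisymm
    · rintro r ⟨w, ⟨u, rfl⟩, rfl⟩
      have h2 : ⁅(u : G), a⁆ ∈ ⁅V, Subgroup.zpowers a⁆ :=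
        Subgroup.commutator_mem_commutator u.2 (Subgroup.mem_zpowers a)
      have e : V.subtype (φ u) = (⁅(u : G), a⁆)⁻¹ := by
        simp only [Subgroup.subtype_apply, hφ, commEnd_coe, commutatorElement_def]; group
      rw [e]
      exact Subgroup.inv_mem _ h2
    · rw [Subgroup.commutator_le]
      intro v hv g hg
      have hfin : IsOfFinOrder a := isOfFinOrder_of_finite a
      rw [← mem_powers_iff_mem_zpowers] at hg
      obtain ⟨k, rfl⟩ := hg
      have h2 := hpow k v hv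
      have e : ⁅v, a ^ k⁆ = (a ^ k * v * (a ^ k)⁻¹ * v⁻¹)⁻¹ := by
        rw [commutatorElement_def]; group
      rw [e]
      exact Subgroup.inv_mem _ h2
  have c1 : Nat.card φ.ker =
      Nat.card ↥(V ⊓ Subgroup.centralizer ((Subgroup.zpowers a : Subgroup G) : Set G)) := by
    rw [← hker]
    exact Nat.card_congr (Subgroup.equivMapOfInjective _ _ V.subtype_injective).toEquiv
  have c2 : Nat.card φ.range = Nat.card ↥(⁅V, Subgroup.zpowers a⁆) := by
    rw [← hrange]
    exact Nat.card_congr (Subgroup.equivMapOfInjective _ _ V.subtype_injective).toEquiv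
  rw [← c1, ← c2, mul_comm]
  exact h1

theorem inf_centralizer_bot (V : Subgroup G) :
    V ⊓ Subgroup.centralizer (((⊥ : Subgroup G) : Subgroup G) : Set G) = V := by
  apply inf_eq_left.2
  intro x _
  rw [Subgroup.mem_centralizer_iff]
  intro y hy
  have : y = 1 := Subgroup.mem_bot.1 hy
  rw [this]; simp

namespace FFS

variable {p : ℕ} [Fact p.Prime] {V H Q : Subgroup G}

theorem hyperplane_isBestOffender (h : FFS p V H Q) [Finite G] {A B : Subgroup G} (hAH : A ≤ H)
    (hA : Cfsg.IsBestOffenderOn p V A) (hBA : B ≤ A) (hBi : B.relIndex A = p)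
    (hnc : ¬ (Q ⊓ Subgroup.centralizer (B : Set G) ≤ Subgroup.centralizer (A : Set G))) :
    Cfsg.IsBestOffenderOn p V B ∧
      Nat.card B * Nat.card ↥(V ⊓ Subgroup.centralizer (B : Set G)) =
        Nat.card A * Nat.card ↥(V ⊓ Subgroup.centralizer (A : Set G)) := by
  have hcard : Nat.card B * p = Nat.card A := by
    rw [← hBi]; exact Cfsg.Agent.Lib.H7.card_mul_relIndex_of_le hBA
  have hkey := h.card_cfix_hyperplane hAH hA hBA hBi hnc
  have heq : Nat.card B * Nat.card ↥(V ⊓ Subgroup.centralizer (B : Set G)) =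
        Nat.card A * Nat.card ↥(V ⊓ Subgroup.centralizer (A : Set G)) := by
    rw [hkey, ← hcard]; ring
  refine ⟨⟨?_, ?_, ?_⟩, heq⟩
  · intro B' hB'
    rw [heq]
    exact hA.1 B' (hB'.trans hBA)
  · exact (Subgroup.commutator_mono hBA hBA).trans hA.2.1
  · intro b hb
    exact hA.2.2 b (hBA hb)

/-- **KS 9.3 (S0610)**: every nontrivial best offender satisfies `|A| |C_V(A)| = |V|`. -/
theorem offVal_eq (h : FFS p V H Q) [Finite G] : ∀ (n : ℕ) (A : Subgroup G), Nat.card A = n → A ≤ H →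
    Cfsg.IsBestOffenderOn p V A → A ≠ ⊥ →
    Nat.card A * Nat.card ↥(V ⊓ Subgroup.centralizer (A : Set G)) = Nat.card V := by
  intro n
  induction n using Nat.strong_induction_on with
  | _ n ih =>
    intro A hn hAH hA hA1
    obtain ⟨B, hBA, hBi, hnc⟩ := h.exists_hyperplane_noncentral hAH hA hA1
    obtain ⟨hBbo, hBeq⟩ := h.hyperplane_isBestOffender hAH hA hBA hBi hnc
    have hp : p.Prime := Fact.out
    have hcard : Nat.card B * p = Nat.card A := by
      rw [← hBi]; exact Cfsg.Agent.Lib.H7.card_mul_relIndex_of_le hBA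
    rw [← hBeq]
    by_cases hB1 : B = ⊥
    · subst hB1
      rw [inf_centralizer_bot, Subgroup.card_bot, one_mul]
    · have hlt : Nat.card B < n := by
        rw [← hn, ← hcard]
        have : 0 < Nat.card B := Nat.card_pos
        have := hp.one_lt
        nlinarith
      exact ih (Nat.card B) hlt B rfl (hBA.trans hAH) hBbo hB1

theorem ne_bot_of_commutator_ne_bot {A : Subgroup G} (hAV : ⁅V, A⁆ ≠ ⊥) : A ≠ ⊥ := by
  rintro rfl
  apply hAV
  rw [eq_bot_iff, Subgroup.commutator_le]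
  intro v _ a ha
  rw [Subgroup.mem_bot.1 ha]
  simp

theorem commutator_ne_bot (h : FFS p V H Q) {A : Subgroup G} (hAH : A ≤ H) (hA1 : A ≠ ⊥) :
    ⁅V, A⁆ ≠ ⊥ := by
  intro hcon
  apply hA1
  rw [eq_bot_iff, ← h.hf]
  refine le_inf hAH ?_
  rw [Subgroup.commutator_comm, Subgroup.commutator_eq_bot_iff_le_centralizer] at hcon
  exact hcon

/-- **S0611**: a minimal nontrivially acting best offender has order `p`. -/
theorem card_eq_of_minimal (h : FFS p V H Q) [Finite G] {A : Subgroup G} (hAH : A ≤ H)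
    (hA : Cfsg.IsBestOffenderOn p V A) (hAV : ⁅V, A⁆ ≠ ⊥)
    (hmin : ∀ B : Subgroup G, B ≤ A → Cfsg.IsBestOffenderOn p V B → ⁅V, B⁆ ≠ ⊥ → B = A) :
    Nat.card A = p := by
  have hA1 : A ≠ ⊥ := ne_bot_of_commutator_ne_bot hAV
  obtain ⟨B, hBA, hBi, hnc⟩ := h.exists_hyperplane_noncentral hAH hA hA1
  obtain ⟨hBbo, -⟩ := h.hyperplane_isBestOffender hAH hA hBA hBi hnc
  have hp : p.Prime := Fact.out
  have hcard : Nat.card B * p = Nat.card A := by
    rw [← hBi]; exact Cfsg.Agent.Lib.H7.card_mul_relIndex_of_le hBA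
  by_cases hB1 : B = ⊥
  · subst hB1
    rw [← hcard, Subgroup.card_bot, one_mul]
  · exfalso
    have := hmin B hBA hBbo (h.commutator_ne_bot (hBA.trans hAH) hB1)
    subst this
    rw [Subgroup.relIndex_self] at hBi
    exact hp.one_lt.ne hBi

end FFS

theorem exists_zpowers_eq_of_card_prime [Finite G] {p : ℕ} [Fact p.Prime] {A : Subgroup G}
    (hA : Nat.card A = p) : ∃ a ∈ A, a ≠ 1 ∧ orderOf a = p ∧ Subgroup.zpowers a = A := by
  have hp : p.Prime := Fact.out
  have hne : A ≠ ⊥ := by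
    intro h; rw [h, Subgroup.card_bot] at hA; exact hp.one_lt.ne hA
  obtain ⟨⟨a, ha⟩, ha1'⟩ := (Subgroup.ne_bot_iff_exists_ne_one).1 hne
  have ha1 : a ≠ 1 := fun h1 => ha1' (Subtype.ext h1)
  have hle : Subgroup.zpowers a ≤ A := (Subgroup.zpowers_le).2 ha
  have hdvd : orderOf a ∣ p := by
    rw [← hA, ← Nat.card_zpowers]; exact Subgroup.card_dvd_of_le hle
  have ho : orderOf a = p := by
    rcases (Nat.dvd_prime hp).1 hdvd with h1 | h1
    · exact absurd (orderOf_eq_one_iff.1 h1) ha1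
    · exact h1
  refine ⟨a, ha, ha1, ho, ?_⟩
  apply Subgroup.eq_of_le_of_card_ge hle
  rw [Nat.card_zpowers, ho, hA]

namespace FFS
variable {p : ℕ} [Fact p.Prime] {V H Q : Subgroup G}

theorem comm_V (h : FFS p V H Q) : ∀ x ∈ V, ∀ y ∈ V, x * y = y * x := by
  exact Cfsg.Agent.Lib.H16.comm_of_elemAb h.hV

/-- **S0611**. -/
theorem minimal_offender (h : FFS p V H Q) [Finite G] {A : Subgroup G} (hAH : A ≤ H)
    (hA : Cfsg.IsBestOffenderOn p V A) (hAV : ⁅V, A⁆ ≠ ⊥)
    (hmin : ∀ B : Subgroup G, B ≤ A → Cfsg.IsBestOffenderOn p V B → ⁅V, B⁆ ≠ ⊥ → B = A) :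
    Nat.card A = p ∧ Nat.card ↥(⁅V, A⁆) = p ∧
      ((V ⊓ Subgroup.centralizer (A : Set G))).relIndex V = p := by
  have hp : p.Prime := Fact.out
  have hc := h.card_eq_of_minimal hAH hA hAV hmin
  have hA1 : A ≠ ⊥ := ne_bot_of_commutator_ne_bot hAV
  have hoff := h.offVal_eq _ A rfl hAH hA hA1
  rw [hc] at hoff
  have hpos : 0 < Nat.card ↥(V ⊓ Subgroup.centralizer (A : Set G)) := Nat.card_pos
  refine ⟨hc, ?_, ?_⟩
  · obtain ⟨a, ha, -, -, hz⟩ := exists_zpowers_eq_of_card_prime hc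
    have h1 := card_commutator_zpowers h.comm_V (h.hHV (hAH ha))
    rw [hz, ← hoff] at h1
    exact Nat.eq_of_mul_eq_mul_right hpos h1
  · have h1 := Cfsg.Agent.Lib.H7.card_mul_relIndex_of_le
      (inf_le_left : V ⊓ Subgroup.centralizer (A : Set G) ≤ V)
    rw [← hoff, mul_comm] at h1
    exact Nat.eq_of_mul_eq_mul_right hpos h1

end FFS
end Cfsg.Agent.Lib.H3
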