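import Mathlib
import Cfsg.Agent.Lib.H3.Offender

/-! Decomposition of best offenders into offenders of order `p` (KS 9.3, S0612). -/
set_option autoImplicit false
open scoped commutatorElement
namespace Cfsg.Agent.Lib.H3

variable {G : Type*} [Group G]

theorem le_normalizer_of_le_abelian {A X Y : Subgroup G} (hA : ∀ a ∈ A, ∀ b ∈ A, a * b = b * a)
    (hX : X ≤ A) (hY : Y ≤ A) : Y ≤ Subgroup.normalizer (X : Set G) := by
  refine le_trans ?_ (Subgroup.centralizer_le_normalizer (X : Set G))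
  intro y hy
  rw [Subgroup.mem_centralizer_iff]
  intro x hx
  exact hA x (hX hx) y (hY hy)

theorem card_biSup_le [Finite G] {ι : Type*} [DecidableEq ι] {A : Subgroup G}
    (hA : ∀ a ∈ A, ∀ b ∈ A, a * b = b * a) (f : ι → Subgroup G) (hf : ∀ i, f i ≤ A)
    (s : Finset ι) : Nat.card ↥(⨆ i ∈ s, f i) ≤ ∏ i ∈ s, Nat.card (f i) := by
  induction s using Finset.induction_on with
  | empty => simp
  | insert a s has ih =>
    rw [Finset.iSup_insert, Finset.prod_insert has]
    have hY : (⨆ i ∈ s, f i) ≤ A := iSup₂_le fun i _ => hf i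
    have h1 := Cfsg.Agent.Lib.H7.card_sup_dvd_mul_of_le_normalizer
      (le_normalizer_of_le_abelian hA (hf a) hY)
    have h2 := Nat.le_of_dvd (Nat.mul_pos Nat.card_pos Nat.card_pos) h1
    exact h2.trans (Nat.mul_le_mul_left _ ih)

theorem iSupIndep_of_card_pow [Finite G] {p : ℕ} [Fact p.Prime] {k : ℕ} {B : Fin k → Subgroup G}
    {A : Subgroup G} (hA : ∀ a ∈ A, ∀ b ∈ A, a * b = b * a) (hBA : ∀ i, B i ≤ A)
    (hB : ∀ i, Nat.card (B i) = p) (hsup : ⨆ i, B i = A) (hcard : Nat.card A = p ^ k) :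
    iSupIndep B := by
  have hp : p.Prime := Fact.out
  intro i
  rw [disjoint_iff]
  set C : Subgroup G := ⨆ (j) (_ : j ≠ i), B j with hC
  have hC' : C = ⨆ j ∈ (Finset.univ.erase i : Finset (Fin k)), B j := by
    rw [hC]
    congr 1
    funext j
    simp
  have hCcard : Nat.card C ≤ p ^ (k - 1) := by
    rw [hC']
    refine (card_biSup_le hA B hBA _).trans ?_
    rw [Finset.prod_congr rfl (fun j _ => hB j), Finset.prod_const,
      Finset.card_erase_of_mem (Finset.mem_univ i), Finset.card_univ, Fintype.card_fin]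
  have hk : 1 ≤ k := by
    rcases k with _ | k
    · exact i.elim0
    · omega
  -- `B i ⊓ C` is `⊥` or `B i`
  by_contra hne
  have h1 : B i ⊓ C = B i := by
    have hdvd : Nat.card ↥(B i ⊓ C) ∣ p := by
      rw [← hB i]; exact Subgroup.card_dvd_of_le inf_le_left
    rcases (Nat.dvd_prime hp).1 hdvd with h2 | h2
    · exact absurd (Subgroup.card_eq_one.1 h2) hne
    · exact Subgroup.eq_of_le_of_card_ge inf_le_left (by rw [h2, hB i])
  have h2 : B i ≤ C := inf_eq_left.1 h1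
  have h3 : A ≤ C := by
    rw [← hsup]
    apply iSup_le
    intro j
    by_cases hji : j = i
    · rw [hji]; exact h2
    · exact le_iSup₂ (f := fun j (_ : j ≠ i) => B j) j hji
  have h4 := Subgroup.card_le_of_le h3
  rw [hcard] at h4
  have h5 : p ^ k ≤ p ^ (k - 1) := h4.trans hCcard
  have h6 := (Nat.pow_le_pow_iff_right hp.one_lt).1 h5
  omega

theorem sup_eq_of_relIndex_prime [Finite G] {p : ℕ} [Fact p.Prime] {C C' C'' : Subgroup G}
    (h1 : C'' ≤ C) (h2 : C''.relIndex C = p) (h3 : C' ≤ C) (h4 : ¬ C' ≤ C'') : C' ⊔ C'' = C := by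
  have hp : p.Prime := Fact.out
  apply le_antisymm (sup_le h3 h1)
  have h5 := Subgroup.relIndex_mul_relIndex C'' (C' ⊔ C'') C le_sup_right (sup_le h3 h1)
  rw [h2] at h5
  have h6 : C''.relIndex (C' ⊔ C'') ≠ 1 := by
    intro h
    rw [Subgroup.relIndex_eq_one] at h
    exact h4 (le_sup_left.trans h)
  have h7 : C''.relIndex (C' ⊔ C'') ∣ p := ⟨_, h5.symm⟩
  rcases (Nat.dvd_prime hp).1 h7 with h8 | h8
  · exact absurd h8 h6
  · rw [h8] at h5
    have h9 : (C' ⊔ C'').relIndex C = 1 := by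
      have := hp.pos
      nlinarith
    exact Subgroup.relIndex_eq_one.1 h9

namespace FFS
variable {p : ℕ} [Fact p.Prime] {V H Q : Subgroup G}

theorem exists_good_hyperplane_not_mem (h : FFS p V H Q) [Finite G] {A : Subgroup G} (hAH : A ≤ H)
    (hA : Cfsg.IsBestOffenderOn p V A) {x : G} (hxA : x ∈ A) (hx1 : x ≠ 1) :
    ∃ B : Subgroup G, B ≤ A ∧ B.relIndex A = p ∧
      ¬ (Q ⊓ Subgroup.centralizer (B : Set G) ≤ Subgroup.centralizer (A : Set G)) ∧ x ∉ B := by
  by_contra hcon0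
  have hcon : ∀ B : Subgroup G, B ≤ A → B.relIndex A = p →
      ¬ (Q ⊓ Subgroup.centralizer (B : Set G) ≤ Subgroup.centralizer (A : Set G)) → x ∈ B := by
    intro B hBA hBp hg
    by_contra h'
    exact hcon0 ⟨B, hBA, hBp, hg, h'⟩
  have hAp := h.bo_isPGroup hAH hA
  have hAQ : A ≤ Subgroup.normalizer (Q : Set G) := hAH.trans h.hQn
  have h1 : Q ≤ Cfsg.Agent.Lib.H7.hypGen p A Q :=
    Cfsg.Agent.Lib.H7.le_hypGen p (h.bo_comm hAH hA) (h.bo_pow hAH hA) h.hQp hAQ
  have h2 : Cfsg.Agent.Lib.H7.hypGen p A Q ≤ Subgroup.centralizer ({x} : Set G) := by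
    unfold Cfsg.Agent.Lib.H7.hypGen
    apply iSup_le
    rintro ⟨B, hBA, hBi⟩
    have hmono : ∀ D : Subgroup G, x ∈ D →
        Subgroup.centralizer (D : Set G) ≤ Subgroup.centralizer ({x} : Set G) := fun D hD =>
      Subgroup.centralizer_le (by simpa using hD)
    rcases Cfsg.Agent.Lib.H7.eq_or_relIndex_eq_of_relIndex_le p hAp hBA hBi with rfl | hBp
    · exact inf_le_right.trans (hmono _ hxA)
    · by_cases hg : Q ⊓ Subgroup.centralizer (B : Set G) ≤ Subgroup.centralizer (A : Set G)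
      · exact hg.trans (hmono _ hxA)
      · exact inf_le_right.trans (hmono _ (hcon B hBA hBp hg))
  have h3 : x ∈ Subgroup.centralizer (Q : Set G) := by
    rw [Subgroup.mem_centralizer_iff]
    intro q hq
    have := Subgroup.mem_centralizer_iff.1 (h2 (h1 hq)) x rfl
    exact this.symm
  exact hx1 (h.eq_one_of_centralizes (hAH hxA) (h.bo_pow hAH hA x hxA) h3)

/-- Inside a best offender `A`, outside any proper subgroup `B` there is a best offender of order
`p`. -/
theorem exists_card_p_offender (h : FFS p V H Q) [Finite G] {B : Subgroup G} :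
    ∀ (n : ℕ) (C : Subgroup G), Nat.card C = n → C ≤ H → Cfsg.IsBestOffenderOn p V C → ¬ C ≤ B →
      ∃ A₁ : Subgroup G, A₁ ≤ C ∧ Cfsg.IsBestOffenderOn p V A₁ ∧ Nat.card A₁ = p ∧ ¬ A₁ ≤ B := by
  intro n
  induction n using Nat.strong_induction_on with
  | _ n ih =>
    intro C hn hCH hC hCB
    have hp : p.Prime := Fact.out
    have hC1 : C ≠ ⊥ := by
      rintro rfl; exact hCB bot_le
    obtain ⟨C', hC'C, hC'i, hC'g⟩ := h.exists_hyperplane_noncentral hCH hC hC1
    obtain ⟨hC'bo, -⟩ := h.hyperplane_isBestOffender hCH hC hC'C hC'i hC'g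
    have hcard : Nat.card C' * p = Nat.card C := by
      rw [← hC'i]; exact Cfsg.Agent.Lib.H7.card_mul_relIndex_of_le hC'C
    have hlt : ∀ D : Subgroup G, Nat.card D * p = Nat.card C → Nat.card D < n := by
      intro D hD
      rw [← hn, ← hD]
      have : 0 < Nat.card D := Nat.card_pos
      have := hp.one_lt
      nlinarith
    by_cases hC'1 : C' = ⊥
    · refine ⟨C, le_rfl, hC, ?_, hCB⟩
      rw [← hcard, hC'1, Subgroup.card_bot, one_mul]
    by_cases hC'B : C' ≤ B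
    · obtain ⟨⟨x, hx⟩, hx1'⟩ := (Subgroup.ne_bot_iff_exists_ne_one).1 hC'1
      have hx1 : x ≠ 1 := fun h1 => hx1' (Subtype.ext h1)
      obtain ⟨C'', hC''C, hC''i, hC''g, hxC''⟩ :=
        h.exists_good_hyperplane_not_mem hCH hC (hC'C hx) hx1
      obtain ⟨hC''bo, -⟩ := h.hyperplane_isBestOffender hCH hC hC''C hC''i hC''g
      have hcard'' : Nat.card C'' * p = Nat.card C := by
        rw [← hC''i]; exact Cfsg.Agent.Lib.H7.card_mul_relIndex_of_le hC''C
      by_cases hC''B : C'' ≤ B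
      · exfalso
        have hsup : C' ⊔ C'' = C :=
          sup_eq_of_relIndex_prime hC''C hC''i hC'C (fun hle => hxC'' (hle hx))
        exact hCB (hsup ▸ sup_le hC'B hC''B)
      · obtain ⟨A₁, hA₁, hbo, hc, hnb⟩ :=
          ih _ (hlt C'' hcard'') C'' rfl (hC''C.trans hCH) hC''bo hC''B
        exact ⟨A₁, hA₁.trans hC''C, hbo, hc, hnb⟩
    · obtain ⟨A₁, hA₁, hbo, hc, hnb⟩ :=
        ih _ (hlt C' hcard) C' rfl (hC'C.trans hCH) hC'bo hC'B
      exact ⟨A₁, hA₁.trans hC'C, hbo, hc, hnb⟩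

theorem exists_decomp (h : FFS p V H Q) [Finite G] : ∀ (n : ℕ) (A : Subgroup G), Nat.card A = n →
    A ≤ H → Cfsg.IsBestOffenderOn p V A →
    ∃ (k : ℕ) (B : Fin k → Subgroup G),
      (∀ i, B i ≤ A ∧ Cfsg.IsBestOffenderOn p V (B i) ∧ Nat.card (B i) = p) ∧
      (⨆ i, B i = A) ∧ Nat.card A = p ^ k := by
  intro n
  induction n using Nat.strong_induction_on with
  | _ n ih =>
    intro A hn hAH hA
    have hp : p.Prime := Fact.out
    by_cases hA1 : A = ⊥
    · subst hA1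
      refine ⟨0, Fin.elim0, fun i => i.elim0, ?_, by simp⟩
      simp
    obtain ⟨B₀, hB₀A, hB₀i, hB₀g⟩ := h.exists_hyperplane_noncentral hAH hA hA1
    obtain ⟨hB₀bo, -⟩ := h.hyperplane_isBestOffender hAH hA hB₀A hB₀i hB₀g
    have hcard : Nat.card B₀ * p = Nat.card A := by
      rw [← hB₀i]; exact Cfsg.Agent.Lib.H7.card_mul_relIndex_of_le hB₀A
    have hAB₀ : ¬ A ≤ B₀ := by
      intro hle
      rw [← Subgroup.relIndex_eq_one, hB₀i] at hle
      exact hp.one_lt.ne' hle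
    obtain ⟨A₁, hA₁A, hA₁bo, hA₁c, hA₁B⟩ :=
      h.exists_card_p_offender (B := B₀) _ A rfl hAH hA hAB₀
    have hlt : Nat.card B₀ < n := by
      rw [← hn, ← hcard]
      have : 0 < Nat.card B₀ := Nat.card_pos
      have := hp.one_lt
      nlinarith
    obtain ⟨k, Bf, hBf, hsup, hck⟩ := ih _ hlt B₀ rfl (hB₀A.trans hAH) hB₀bo
    have hsupA : A₁ ⊔ B₀ = A := sup_eq_of_relIndex_prime hB₀A hB₀i hA₁A hA₁B
    refine ⟨k + 1, Fin.cons A₁ Bf, ?_, ?_, ?_⟩
    · intro i
      refine Fin.cases ?_ (fun j => ?_) i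
      · simp only [Fin.cons_zero]
        exact ⟨hA₁A, hA₁bo, hA₁c⟩
      · simp only [Fin.cons_succ]
        exact ⟨(hBf j).1.trans hB₀A, (hBf j).2.1, (hBf j).2.2⟩
    · apply le_antisymm
      · apply iSup_le
        intro i
        refine Fin.cases ?_ (fun j => ?_) i
        · simp only [Fin.cons_zero]; exact hA₁A
        · simp only [Fin.cons_succ]; exact (hBf j).1.trans hB₀A
      · rw [← hsupA]
        apply sup_le
        · have := le_iSup (fun i : Fin (k + 1) => (Fin.cons A₁ Bf : Fin (k + 1) → Subgroup G) i) 0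
          simpa using this
        · rw [← hsup]
          apply iSup_le
          intro j
          have := le_iSup (fun i : Fin (k + 1) => (Fin.cons A₁ Bf : Fin (k + 1) → Subgroup G) i)
            j.succ
          simpa using this
    · rw [← hcard, hck, pow_succ]

theorem minimal_of_card (h : FFS p V H Q) [Finite G] {A₁ : Subgroup G} (hAH : A₁ ≤ H)
    (hc : Nat.card A₁ = p) :
    ⁅V, A₁⁆ ≠ ⊥ ∧ ∀ C : Subgroup G, C ≤ A₁ → Cfsg.IsBestOffenderOn p V C → ⁅V, C⁆ ≠ ⊥ → C = A₁ := by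
  have hp : p.Prime := Fact.out
  have hA1 : A₁ ≠ ⊥ := by
    intro h1; rw [h1, Subgroup.card_bot] at hc; exact hp.one_lt.ne hc
  refine ⟨h.commutator_ne_bot hAH hA1, ?_⟩
  intro C hC _ hCV
  have hC1 : C ≠ ⊥ := ne_bot_of_commutator_ne_bot hCV
  have hdvd : Nat.card C ∣ p := by rw [← hc]; exact Subgroup.card_dvd_of_le hC
  rcases (Nat.dvd_prime hp).1 hdvd with h2 | h2
  · exact absurd (Subgroup.card_eq_one.1 h2) hC1
  · exact Subgroup.eq_of_le_of_card_ge hC (by rw [h2, hc])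

/-- **S0612**. -/
theorem decomp (h : FFS p V H Q) [Finite G] {A : Subgroup G} (hAH : A ≤ H)
    (hA : Cfsg.IsBestOffenderOn p V A) :
    ∃ (k : ℕ) (B : Fin k → Subgroup G),
      (∀ i, B i ≤ A ∧ Cfsg.IsBestOffenderOn p V (B i) ∧ ⁅V, B i⁆ ≠ ⊥ ∧
        ∀ C : Subgroup G, C ≤ B i → Cfsg.IsBestOffenderOn p V C → ⁅V, C⁆ ≠ ⊥ → C = B i) ∧
      iSupIndep B ∧ ⨆ i, B i = A := by
  obtain ⟨k, B, hB, hsup, hck⟩ := h.exists_decomp _ A rfl hAH hA
  refine ⟨k, B, ?_, ?_, hsup⟩
  · intro i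
    obtain ⟨h1, h2, h3⟩ := hB i
    have := h.minimal_of_card (h1.trans hAH) h3
    exact ⟨h1, h2, this.1, this.2⟩
  · exact iSupIndep_of_card_pow (h.bo_comm hAH hA) (fun i => (hB i).1) (fun i => (hB i).2.2) hsup hck

end FFS
end Cfsg.Agent.Lib.H3
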