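import Mathlib
import Cfsg.Agent.Lib.H3.Offender2
import Cfsg.Agent.Lib.H1.CoprimeAbelian
import Cfsg.Agent.Lib.H26.SmallFocal
set_option autoImplicit false
open scoped commutatorElement
namespace Cfsg.Agent.Lib.H3

variable {G : Type*} [Group G]

theorem le_normalizer_commutator' {K X Y : Subgroup G}
    (hX : K ≤ Subgroup.normalizer (X : Set G)) (hY : K ≤ Subgroup.normalizer (Y : Set G)) :
    K ≤ Subgroup.normalizer ((⁅X, Y⁆ : Subgroup G) : Set G) := by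
  intro k hk
  rw [Subgroup.mem_normalizer_iff_map_conj_eq, Subgroup.map_commutator,
    Subgroup.mem_normalizer_iff_map_conj_eq.1 (hX hk),
    Subgroup.mem_normalizer_iff_map_conj_eq.1 (hY hk)]

/-- conjugating `B` by an element normalizing `V` conjugates `C_V(B)`. -/
theorem inf_centralizer_map_conj {V B : Subgroup G} {x : G}
    (hx : x ∈ Subgroup.normalizer (V : Set G)) :
    V ⊓ Subgroup.centralizer ((B.map (MulAut.conj x).toMonoidHom : Subgroup G) : Set G) =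
      (V ⊓ Subgroup.centralizer (B : Set G)).map (MulAut.conj x).toMonoidHom := by
  ext v
  simp only [Subgroup.mem_inf, Subgroup.mem_map, MulEquiv.coe_toMonoidHom, MulAut.conj_apply]
  constructor
  · rintro ⟨hvV, hvC⟩
    refine ⟨x⁻¹ * v * x, ⟨?_, ?_⟩, by group⟩
    · have := (Subgroup.mem_normalizer_iff.1 (Subgroup.inv_mem _ hx) v).1 hvV
      simpa using this
    · rw [Subgroup.mem_centralizer_iff]
      intro b hb
      have h1 := Subgroup.mem_centralizer_iff.1 hvC (x * b * x⁻¹) ⟨b, hb, rfl⟩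
      calc b * (x⁻¹ * v * x) = x⁻¹ * ((x * b * x⁻¹) * v) * x := by group
        _ = x⁻¹ * (v * (x * b * x⁻¹)) * x := by rw [h1]
        _ = x⁻¹ * v * x * b := by group
  · rintro ⟨w, ⟨hwV, hwC⟩, rfl⟩
    refine ⟨(Subgroup.mem_normalizer_iff.1 hx w).1 hwV, ?_⟩
    rw [Subgroup.mem_centralizer_iff]
    rintro _ ⟨b, hb, rfl⟩
    have h1 := Subgroup.mem_centralizer_iff.1 hwC b hb
    simp only [MulEquiv.coe_toMonoidHom, MulAut.conj_apply]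
    calc x * b * x⁻¹ * (x * w * x⁻¹) = x * (b * w) * x⁻¹ := by group
      _ = x * (w * b) * x⁻¹ := by rw [h1]
      _ = x * w * x⁻¹ * (x * b * x⁻¹) := by group

theorem card_inf_centralizer_map_conj {V B : Subgroup G} {x : G}
    (hx : x ∈ Subgroup.normalizer (V : Set G)) :
    Nat.card ↥(V ⊓ Subgroup.centralizer ((B.map (MulAut.conj x).toMonoidHom : Subgroup G) : Set G)) =
      Nat.card ↥(V ⊓ Subgroup.centralizer (B : Set G)) := by
  rw [inf_centralizer_map_conj hx]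
  exact (Nat.card_congr (Subgroup.equivMapOfInjective _ _
    (MulAut.conj x).injective).toEquiv).symm

/-- In `Q ⋊ A` with `A` abelian, commutators lie in `Q`. -/
theorem commutator_mem_of_mem_sup_abelian {Q A : Subgroup G}
    (hAQ : A ≤ Subgroup.normalizer (Q : Set G)) (hA : ∀ a ∈ A, ∀ b ∈ A, a * b = b * a)
    {g h : G} (hg : g ∈ Q ⊔ A) (hh : h ∈ Q ⊔ A) : ⁅g, h⁆ ∈ Q := by
  have hcoe := Subgroup.coe_mul_of_right_le_normalizer_left Q A hAQ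
  have hg' : g ∈ ((Q ⊔ A : Subgroup G) : Set G) := hg
  have hh' : h ∈ ((Q ⊔ A : Subgroup G) : Set G) := hh
  rw [hcoe] at hg' hh'
  obtain ⟨q₁, hq₁, a₁, ha₁, rfl⟩ := hg'
  obtain ⟨q₂, hq₂, a₂, ha₂, rfl⟩ := hh'
  have hc : a₂ * a₁⁻¹ = a₁⁻¹ * a₂ := by
    have := hA a₁ ha₁ a₂ ha₂
    calc a₂ * a₁⁻¹ = a₁⁻¹ * (a₁ * a₂) * a₁⁻¹ := by group
      _ = a₁⁻¹ * (a₂ * a₁) * a₁⁻¹ := by rw [this]
      _ = a₁⁻¹ * a₂ := by group
  have e : ⁅q₁ * a₁, q₂ * a₂⁆ = q₁ * (a₁ * q₂ * a₁⁻¹) * (a₂ * q₁⁻¹ * a₂⁻¹) * q₂⁻¹ := by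
    rw [commutatorElement_def]
    calc q₁ * a₁ * (q₂ * a₂) * (q₁ * a₁)⁻¹ * (q₂ * a₂)⁻¹
        = q₁ * a₁ * q₂ * (a₂ * a₁⁻¹) * q₁⁻¹ * a₂⁻¹ * q₂⁻¹ := by group
      _ = q₁ * a₁ * q₂ * (a₁⁻¹ * a₂) * q₁⁻¹ * a₂⁻¹ * q₂⁻¹ := by rw [hc]
      _ = _ := by group
  rw [e]
  have h1 : a₁ * q₂ * a₁⁻¹ ∈ Q := (Subgroup.mem_normalizer_iff.1 (hAQ ha₁) q₂).1 hq₂
  have h2 : a₂ * q₁⁻¹ * a₂⁻¹ ∈ Q :=
    (Subgroup.mem_normalizer_iff.1 (hAQ ha₂) q₁⁻¹).1 (Q.inv_mem hq₁)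
  exact Q.mul_mem (Q.mul_mem (Q.mul_mem hq₁ h1) h2) (Q.inv_mem hq₂)

/-- product formula for two subgroups of an abelian subgroup meeting trivially. -/
theorem card_sup_of_inf_eq_bot [Finite G] {A X Y : Subgroup G}
    (hA : ∀ a ∈ A, ∀ b ∈ A, a * b = b * a) (hX : X ≤ A) (hY : Y ≤ A) (hXY : X ⊓ Y = ⊥) :
    Nat.card ↥(X ⊔ Y) = Nat.card X * Nat.card Y := by
  have h1 := Cfsg.Agent.Lib.H7.card_sup_dvd_mul_of_le_normalizer
    (le_normalizer_of_le_abelian hA hX hY)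
  have h2 := card_mul_card_le X Y
  rw [hXY, Subgroup.card_bot, mul_one] at h2
  exact le_antisymm (Nat.le_of_dvd (Nat.mul_pos Nat.card_pos Nat.card_pos) h1) h2

end Cfsg.Agent.Lib.H3
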