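import Mathlib
import Cfsg.Agent.Lib.H3.Offender2
import Cfsg.Agent.Lib.H3.OffenderSL2a
import Cfsg.Agent.Lib.H1.Complement
set_option autoImplicit false
open scoped commutatorElement
namespace Cfsg.Agent.Lib.H3

variable {G : Type*} [Group G]

namespace FFS
variable {p : ℕ} [Fact p.Prime] {V H Q : Subgroup G}

theorem pair_structure_full (h : FFS p V H Q) [Finite G] {A : Subgroup G} (hAH : A ≤ H)
    (hA : Cfsg.IsBestOffenderOn p V A) (hAc : Nat.card A = p) {x : G} (hxQ : x ∈ Q)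
    (hxA : x ∉ Subgroup.centralizer (A : Set G)) :
    Nat.card ↥(⁅V, A ⊔ A.map (MulAut.conj x).toMonoidHom⁆) = p ^ 2 ∧
    (A ⊔ A.map (MulAut.conj x).toMonoidHom) ⊓ Subgroup.centralizer
      ((⁅V, A ⊔ A.map (MulAut.conj x).toMonoidHom⁆ : Subgroup G) : Set G) = ⊥ ∧
    A ≠ A.map (MulAut.conj x).toMonoidHom ∧
    (∀ g ∈ A ⊔ A.map (MulAut.conj x).toMonoidHom, ∀ g' ∈ A ⊔ A.map (MulAut.conj x).toMonoidHom,
      ⁅g, g'⁆ ∈ Q) ∧
    ⁅V, A ⊔ A.map (MulAut.conj x).toMonoidHom⁆ ⊓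
      (V ⊓ Subgroup.centralizer ((A ⊔ A.map (MulAut.conj x).toMonoidHom : Subgroup G) : Set G)) = ⊥ ∧
    ⁅V, A ⊔ A.map (MulAut.conj x).toMonoidHom⁆ ⊔
      (V ⊓ Subgroup.centralizer ((A ⊔ A.map (MulAut.conj x).toMonoidHom : Subgroup G) : Set G)) = V := by
  have hp : p.Prime := Fact.out
  obtain ⟨a, ha, ha1, hao, hz⟩ := exists_zpowers_eq_of_card_prime hAc
  set A' := A.map (MulAut.conj x).toMonoidHom with hA'
  set L := A ⊔ A' with hL
  have hxH : x ∈ H := h.hQH hxQ
  have hA'H : A' ≤ H := by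
    rintro _ ⟨y, hy, rfl⟩
    simp only [MulEquiv.coe_toMonoidHom, MulAut.conj_apply]
    exact H.mul_mem (H.mul_mem hxH (hAH hy)) (H.inv_mem hxH)
  have hLH : L ≤ H := sup_le hAH hA'H
  have hAL : A ≤ L := le_sup_left
  have hA'L : A' ≤ L := le_sup_right
  have hVc := h.comm_V
  have hVp := h.isPGroup_V
  have hAcomm := h.bo_comm hAH hA
  have hA1 : A ≠ ⊥ := by
    intro h1; rw [h1, Subgroup.card_bot] at hAc; exact hp.one_lt.ne hAc
  -- the element c
  have hbA' : x * a * x⁻¹ ∈ A' := ⟨a, ha, by simp [MulAut.conj_apply]⟩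
  set c := x * a * x⁻¹ * a⁻¹ with hc
  have hcL : c ∈ L := L.mul_mem (hA'L hbA') (L.inv_mem (hAL ha))
  have hcQ : c ∈ Q := by
    have h1 : a * x⁻¹ * a⁻¹ ∈ Q :=
      (Subgroup.mem_normalizer_iff.1 (h.hQn (hAH ha)) x⁻¹).1 (Q.inv_mem hxQ)
    have : c = x * (a * x⁻¹ * a⁻¹) := by rw [hc]; group
    rw [this]; exact Q.mul_mem hxQ h1
  have hc1 : c ≠ 1 := by
    intro h1
    apply hxA
    rw [← hz, ← Cfsg.Agent.Lib.H7.centralizer_singleton_eq_centralizer_zpowers,
      Subgroup.mem_centralizer_iff]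
    intro g hg
    rw [Set.mem_singleton_iff] at hg
    rw [hg]
    have h2 : x * a * x⁻¹ = a := by rw [hc, mul_inv_eq_one] at h1; exact h1
    calc a * x = (x * a * x⁻¹) * x := by rw [h2]
      _ = x * a := by group
  set Q₁ := L ⊓ Q with hQ₁
  have hQ₁ne : Q₁ ≠ ⊥ := by
    intro hb
    have : c ∈ Q₁ := ⟨hcL, hcQ⟩
    rw [hb] at this
    exact hc1 (Subgroup.mem_bot.1 this)
  have hQ₁H : Q₁ ≤ H := inf_le_left.trans hLH
  have hQ₁V : Q₁ ≤ Subgroup.normalizer (V : Set G) := hQ₁H.trans h.hHV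
  have hcopQ₁ : (Nat.card Q₁).Coprime p :=
    Nat.Coprime.coprime_dvd_left (Subgroup.card_dvd_of_le inf_le_right) h.hQp
  obtain ⟨n, hn⟩ := IsPGroup.iff_card.1 hVp
  have hcop : (Nat.card Q₁).Coprime (Nat.card V) := by
    rw [hn]; exact Nat.Coprime.pow_right n hcopQ₁
  haveI : IsMulCommutative V := h.hV.1
  have hca : Cfsg.Agent.Lib.H1.CoprimeAction Q₁ V := ⟨hQ₁V, hcop,
    Or.inr (Group.isSolvable_of_comm (fun a b => Subtype.ext (hVc a a.2 b b.2)))⟩
  set U := ⁅V, Q₁⁆ with hU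
  have hUV : U ≤ V := hca.commutator_le
  have hsup : U ⊔ (V ⊓ Subgroup.centralizer (Q₁ : Set G)) = V :=
    Cfsg.Agent.Lib.H1.coprime_commutator_sup_centralizer hca
  have hinf : (V ⊓ Subgroup.centralizer (Q₁ : Set G)) ⊓ U = ⊥ :=
    Cfsg.Agent.Lib.H1.coprime_abelian_centralizer_inf_commutator hQ₁V hcop
  have hUU : ⁅U, Q₁⁆ = U := Cfsg.Agent.Lib.H1.coprime_commutator_commutator hca
  have hUne : U ≠ ⊥ := by
    intro hb
    apply hQ₁ne
    rw [eq_bot_iff, ← h.hf]
    refine le_inf hQ₁H ?_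
    rw [hU, Subgroup.commutator_comm, Subgroup.commutator_eq_bot_iff_le_centralizer] at hb
    exact hb
  have hcardV : Nat.card V =
      Nat.card U * Nat.card ↥(V ⊓ Subgroup.centralizer (Q₁ : Set G)) := by
    rw [← card_sup_of_inf_eq_bot hVc hUV inf_le_left (by rw [inf_comm]; exact hinf), hsup]
  have hLV : L ≤ Subgroup.normalizer (V : Set G) := hLH.trans h.hHV
  have hLQ₁ : L ≤ Subgroup.normalizer (Q₁ : Set G) :=
    Cfsg.Agent.Lib.H7.le_normalizer_inf Subgroup.le_normalizer (hLH.trans h.hQn)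
  have hLU : L ≤ Subgroup.normalizer (U : Set G) := le_normalizer_commutator' hLV hLQ₁
  have hcent : Nat.card U = p → L ≤ Subgroup.centralizer (U : Set G) := by
    intro hUc
    obtain ⟨u, hu, hu1, huo, huz⟩ := exists_zpowers_eq_of_card_prime hUc
    have key : ∀ s ∈ L, s ^ p = 1 → s ∈ Subgroup.centralizer (U : Set G) := by
      intro s hs hsp
      have h1 : s * u * s⁻¹ ∈ Subgroup.zpowers u := by
        rw [huz]; exact (Subgroup.mem_normalizer_iff.1 (hLU hs) u).1 hu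
      have h2 := Cfsg.Agent.Lib.H26.conj_eq_of_pow_prime (p := p) ⟨1, by simpa using hsp⟩
        (by rw [← huo]; exact pow_orderOf_eq_one u) h1
      rw [← huz, ← Cfsg.Agent.Lib.H7.centralizer_singleton_eq_centralizer_zpowers,
        Subgroup.mem_centralizer_iff]
      intro g hg
      rw [Set.mem_singleton_iff] at hg
      rw [hg]
      calc u * s = (s * u * s⁻¹) * s := by rw [h2]
        _ = s * u := by group
    apply sup_le
    · intro s hs; exact key s (hAL hs) (h.bo_pow hAH hA s hs)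
    · rintro _ ⟨s, hs, rfl⟩
      apply key
      · exact hA'L ⟨s, hs, rfl⟩
      · simp only [MulEquiv.coe_toMonoidHom, MulAut.conj_apply]
        rw [conj_pow, h.bo_pow hAH hA s hs]; simp
  have hUnp : Nat.card U ≠ p := by
    intro hUc
    have h1 : Q₁ ≤ Subgroup.centralizer (U : Set G) := inf_le_left.trans (hcent hUc)
    have h2 : ⁅U, Q₁⁆ = ⊥ := by
      rw [Subgroup.commutator_comm, Subgroup.commutator_eq_bot_iff_le_centralizer]; exact h1
    rw [hUU] at h2
    exact hUne h2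
  set C := V ⊓ Subgroup.centralizer (L : Set G) with hC
  have hC_eq : C = (V ⊓ Subgroup.centralizer (A : Set G)) ⊓
      (V ⊓ Subgroup.centralizer (A' : Set G)) := by
    apply le_antisymm
    · exact le_inf (inf_le_inf_left V (Subgroup.centralizer_le hAL))
        (inf_le_inf_left V (Subgroup.centralizer_le hA'L))
    · intro v hv
      exact ⟨hv.1.1, Cfsg.Agent.Lib.H16.centralizer_sup_ge A A' ⟨hv.1.2, hv.2.2⟩⟩
  have hoffA := h.offVal_eq _ A rfl hAH hA hA1
  rw [hAc] at hoffA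
  have hcA' : Nat.card ↥(V ⊓ Subgroup.centralizer (A' : Set G)) =
      Nat.card ↥(V ⊓ Subgroup.centralizer (A : Set G)) :=
    card_inf_centralizer_map_conj (h.hHV hxH)
  have hposA : 0 < Nat.card ↥(V ⊓ Subgroup.centralizer (A : Set G)) := Nat.card_pos
  have hri : (V ⊓ Subgroup.centralizer (A : Set G)).relIndex V = p := by
    have h1 := Cfsg.Agent.Lib.H7.card_mul_relIndex_of_le
      (inf_le_left : V ⊓ Subgroup.centralizer (A : Set G) ≤ V)
    rw [← hoffA, mul_comm] at h1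
    exact Nat.eq_of_mul_eq_mul_right hposA h1
  have hri' : (V ⊓ Subgroup.centralizer (A' : Set G)).relIndex V = p := by
    have h1 := Cfsg.Agent.Lib.H7.card_mul_relIndex_of_le
      (inf_le_left : V ⊓ Subgroup.centralizer (A' : Set G) ≤ V)
    rw [hcA', ← hoffA, mul_comm] at h1
    exact Nat.eq_of_mul_eq_mul_right hposA h1
  have hCri : C.relIndex V ≤ p * p := by
    rw [hC_eq]
    refine (Subgroup.relIndex_inf_le).trans ?_
    rw [hri, hri']
  have hCle : C ≤ V ⊓ Subgroup.centralizer (Q₁ : Set G) :=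
    inf_le_inf_left V (Subgroup.centralizer_le inf_le_left)
  have hcardC : Nat.card C * C.relIndex V = Nat.card V :=
    Cfsg.Agent.Lib.H7.card_mul_relIndex_of_le inf_le_left
  have hUle : Nat.card U ≤ p * p := by
    have h1 : Nat.card C ≤ Nat.card ↥(V ⊓ Subgroup.centralizer (Q₁ : Set G)) :=
      Subgroup.card_le_of_le hCle
    have : Nat.card U * Nat.card ↥(V ⊓ Subgroup.centralizer (Q₁ : Set G)) ≤
        (p * p) * Nat.card ↥(V ⊓ Subgroup.centralizer (Q₁ : Set G)) := by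
      calc _ = Nat.card V := hcardV.symm
        _ = Nat.card C * C.relIndex V := hcardC.symm
        _ ≤ Nat.card C * (p * p) := Nat.mul_le_mul_left _ hCri
        _ ≤ Nat.card ↥(V ⊓ Subgroup.centralizer (Q₁ : Set G)) * (p * p) :=
          Nat.mul_le_mul_right _ h1
        _ = _ := mul_comm _ _
    exact Nat.le_of_mul_le_mul_right this Nat.card_pos
  obtain ⟨m, hm⟩ := IsPGroup.iff_card.1 (hVp.to_le hUV)
  have hm2 : m = 2 := by
    have h0 : m ≠ 0 := by
      rintro rfl; rw [pow_zero] at hm; exact hUne (Subgroup.card_eq_one.1 hm)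
    have h1 : m ≠ 1 := by
      rintro rfl; rw [pow_one] at hm; exact hUnp hm
    have h2 : m ≤ 2 := by
      rw [hm, ← pow_two] at hUle
      exact (Nat.pow_le_pow_iff_right hp.one_lt).1 hUle
    omega
  have hUcard : Nat.card U = p ^ 2 := by rw [hm, hm2]
  have hCeq : C = V ⊓ Subgroup.centralizer (Q₁ : Set G) := by
    apply Subgroup.eq_of_le_of_card_ge hCle
    have : p ^ 2 * Nat.card ↥(V ⊓ Subgroup.centralizer (Q₁ : Set G)) ≤ p ^ 2 * Nat.card C := by
      calc _ = Nat.card V := by rw [hcardV, hUcard]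
        _ = Nat.card C * C.relIndex V := hcardC.symm
        _ ≤ Nat.card C * (p * p) := Nat.mul_le_mul_left _ hCri
        _ = _ := by ring
    exact Nat.le_of_mul_le_mul_left this (by have := hp.pos; positivity)
  have hsup' : U ⊔ C = V := by rw [hCeq]; exact hsup
  have hWU : ⁅V, L⁆ = U := by
    apply le_antisymm
    · rw [Subgroup.commutator_le]
      intro v hv g hg
      have hv' : v ∈ U ⊔ C := by rw [hsup']; exact hv
      obtain ⟨u, hu, c', hc', rfl⟩ := Cfsg.Agent.Lib.H1.mem_sup_of_le_normalizer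
        (le_normalizer_of_le_abelian hVc hUV (inf_le_left : C ≤ V)) hv'
      have hcg : c' * g = g * c' := (Subgroup.mem_centralizer_iff.1 hc'.2 g hg).symm
      have e : ⁅u * c', g⁆ = u * (g * u⁻¹ * g⁻¹) := by
        rw [commutatorElement_def]
        calc u * c' * g * (u * c')⁻¹ * g⁻¹ = u * (c' * g) * c'⁻¹ * u⁻¹ * g⁻¹ := by group
          _ = u * (g * c') * c'⁻¹ * u⁻¹ * g⁻¹ := by rw [hcg]
          _ = _ := by group
      rw [e]
      exact U.mul_mem hu ((Subgroup.mem_normalizer_iff.1 (hLU hg) u⁻¹).1 (U.inv_mem hu))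
    · exact Subgroup.commutator_mono le_rfl inf_le_left
  refine ⟨by rw [hWU]; exact hUcard, ?_, ?_, ?_, ?_, ?_⟩
  rotate_left 3
  · rw [hWU, hCeq, inf_comm]; exact hinf
  · rw [hWU]; exact hsup'
  · rw [hWU, eq_bot_iff, ← h.hf]
    intro g hg
    refine ⟨hLH hg.1, ?_⟩
    have h1 : U ⊔ C ≤ Subgroup.centralizer ({g} : Set G) := by
      apply sup_le
      · intro u hu
        rw [Subgroup.mem_centralizer_iff]
        intro y hy
        rw [Set.mem_singleton_iff] at hy
        rw [hy]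
        exact (Subgroup.mem_centralizer_iff.1 hg.2 u hu).symm
      · intro c' hc'
        rw [Subgroup.mem_centralizer_iff]
        intro y hy
        rw [Set.mem_singleton_iff] at hy
        rw [hy]
        exact Subgroup.mem_centralizer_iff.1 hc'.2 g hg.1
    rw [hsup'] at h1
    show g ∈ Subgroup.centralizer (V : Set G)
    rw [Subgroup.mem_centralizer_iff]
    intro v hv
    exact (Subgroup.mem_centralizer_iff.1 (h1 hv) g rfl).symm
  · intro hAA'
    -- then x normalizes A, and [A, x] ≤ A ∩ Q = 1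
    have h1 : x * a * x⁻¹ ∈ A := by rw [hAA']; exact hbA'
    have h2 : c ∈ A := A.mul_mem h1 (A.inv_mem ha)
    have h3 : orderOf c ∣ p := by
      have := orderOf_dvd_natCard (⟨c, h2⟩ : A)
      rwa [Subgroup.orderOf_mk, hAc] at this
    have h4 : orderOf c ∣ Nat.card Q := by
      have := orderOf_dvd_natCard (⟨c, hcQ⟩ : Q)
      rwa [Subgroup.orderOf_mk] at this
    have h5 : orderOf c ∣ 1 := by
      have := Nat.dvd_gcd h4 h3
      rwa [Nat.Coprime.gcd_eq_one h.hQp] at this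
    exact hc1 (orderOf_eq_one_iff.1 (Nat.dvd_one.1 h5))
  · have hLQA : L ≤ Q ⊔ A := by
      apply sup_le le_sup_right
      rintro _ ⟨s, hs, rfl⟩
      simp only [MulEquiv.coe_toMonoidHom, MulAut.conj_apply]
      have h1 : s * x⁻¹ * s⁻¹ ∈ Q :=
        (Subgroup.mem_normalizer_iff.1 (h.hQn (hAH hs)) x⁻¹).1 (Q.inv_mem hxQ)
      have e : x * s * x⁻¹ = (x * (s * x⁻¹ * s⁻¹)) * s := by group
      rw [e]
      exact Subgroup.mul_mem _ (le_sup_left (a := Q) (Q.mul_mem hxQ h1)) (le_sup_right (a := Q) hs)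
    intro g hg g' hg'
    exact commutator_mem_of_mem_sup_abelian (hAH.trans h.hQn) hAcomm (hLQA hg) (hLQA hg')

theorem pair_structure (h : FFS p V H Q) [Finite G] {A : Subgroup G} (hAH : A ≤ H)
    (hA : Cfsg.IsBestOffenderOn p V A) (hAc : Nat.card A = p) {x : G} (hxQ : x ∈ Q)
    (hxA : x ∉ Subgroup.centralizer (A : Set G)) :
    Nat.card ↥(⁅V, A ⊔ A.map (MulAut.conj x).toMonoidHom⁆) = p ^ 2 ∧
    (A ⊔ A.map (MulAut.conj x).toMonoidHom) ⊓ Subgroup.centralizer
      ((⁅V, A ⊔ A.map (MulAut.conj x).toMonoidHom⁆ : Subgroup G) : Set G) = ⊥ ∧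
    A ≠ A.map (MulAut.conj x).toMonoidHom ∧
    (∀ g ∈ A ⊔ A.map (MulAut.conj x).toMonoidHom, ∀ g' ∈ A ⊔ A.map (MulAut.conj x).toMonoidHom,
      ⁅g, g'⁆ ∈ Q) := by
  obtain ⟨h1, h2, h3, h4, -, -⟩ := h.pair_structure_full hAH hA hAc hxQ hxA
  exact ⟨h1, h2, h3, h4⟩


end FFS
end Cfsg.Agent.Lib.H3
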