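import Mathlib
import Cfsg.Agent.Lib.H3.OffenderPair
set_option autoImplicit false
open scoped commutatorElement
namespace Cfsg.Agent.Lib.H3

variable {G : Type*} [Group G]

/-- If `b u b⁻¹ = t u` with `b, u, t` … then the conjugates `b^k u b^{-k}` together with `t`
cover the "plane" spanned by `u` and `t`. -/
theorem conj_pow_eq_mul_pow {b u t : G} (hbu : b * u * b⁻¹ = u * t) (hbt : b * t * b⁻¹ = t)
    (k : ℕ) : b ^ k * u * (b ^ k)⁻¹ = u * t ^ k := by
  induction k with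
  | zero => simp
  | succ k ih =>
    have hbtk : b * t ^ k * b⁻¹ = t ^ k := by
      rw [← conj_pow, hbt]
    calc b ^ (k + 1) * u * (b ^ (k + 1))⁻¹ = b * (b ^ k * u * (b ^ k)⁻¹) * b⁻¹ := by
          rw [pow_succ']; group
      _ = b * (u * t ^ k) * b⁻¹ := by rw [ih]
      _ = (b * u * b⁻¹) * (b * t ^ k * b⁻¹) := by group
      _ = u * t * t ^ k := by rw [hbu, hbtk]
      _ = u * t ^ (k + 1) := by rw [pow_succ', mul_assoc]

theorem plane_cover {p : ℕ} [Fact p.Prime] {b u t : G} (hbu : b * u * b⁻¹ = u * t)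
    (hbt : b * t * b⁻¹ = t) (hut : u * t = t * u) (hu : orderOf u = p) (ht : t ^ p = 1)
    (i j : ℕ) (hi : u ^ i ≠ 1) : ∃ k : ℕ, u ^ i * t ^ j = (b ^ k * u * (b ^ k)⁻¹) ^ i := by
  have hp : p.Prime := Fact.out
  have hcop : Nat.Coprime i p := by
    rw [Nat.coprime_comm, hp.coprime_iff_not_dvd]
    intro hdvd
    apply hi
    rw [← hu] at hdvd
    exact orderOf_dvd_iff_pow_eq_one.1 hdvd
  obtain ⟨k, -, hk⟩ := Nat.exists_mul_mod_eq_of_coprime j hcop hp.ne_zero
  refine ⟨k, ?_⟩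
  rw [conj_pow_eq_mul_pow hbu hbt, (show Commute u (t ^ k) from (Commute.pow_right hut k)).mul_pow,
    ← pow_mul]
  congr 1
  rw [pow_eq_pow_mod j ht, pow_eq_pow_mod (k * i) ht, mul_comm k i, hk]

end Cfsg.Agent.Lib.H3
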