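import Mathlib
import Cfsg.Agent.Lib.H3.OffenderPair
import Cfsg.Agent.Lib.H3.OffenderE0

/-! Conjugation invariance and quadratic action of offenders of order `p`. -/
set_option autoImplicit false
open scoped commutatorElement
namespace Cfsg.Agent.Lib.H3

variable {G : Type*} [Group G]

theorem map_conj_map_conj_inv (B : Subgroup G) (z : G) :
    (B.map (MulAut.conj z).toMonoidHom).map (MulAut.conj z⁻¹).toMonoidHom = B := by
  rw [Subgroup.map_map]
  have : (MulAut.conj z⁻¹).toMonoidHom.comp (MulAut.conj z).toMonoidHom = MonoidHom.id G := by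
    ext g; simp [MulAut.conj_apply, mul_assoc]
  rw [this, Subgroup.map_id]

theorem card_map_conj' (B : Subgroup G) (z : G) :
    Nat.card (B.map (MulAut.conj z).toMonoidHom) = Nat.card B :=
  (Nat.card_congr (Subgroup.equivMapOfInjective B _ (MulAut.conj z).injective).toEquiv).symm

namespace FFS
variable {p : ℕ} [Fact p.Prime] {V H Q : Subgroup G}

theorem map_conj_le (h : FFS p V H Q) {B : Subgroup G} (hBH : B ≤ H) {z : G} (hz : z ∈ H) :
    B.map (MulAut.conj z).toMonoidHom ≤ H := by
  rintro _ ⟨y, hy, rfl⟩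
  simp only [MulEquiv.coe_toMonoidHom, MulAut.conj_apply]
  exact H.mul_mem (H.mul_mem hz (hBH hy)) (H.inv_mem hz)

theorem conj_isBestOffender (h : FFS p V H Q) [Finite G] {B : Subgroup G} (hBH : B ≤ H)
    (hB : Cfsg.IsBestOffenderOn p V B) {z : G} (hz : z ∈ H) :
    Cfsg.IsBestOffenderOn p V (B.map (MulAut.conj z).toMonoidHom) := by
  have hzV : z ∈ Subgroup.normalizer (V : Set G) := h.hHV hz
  have hzV' : z⁻¹ ∈ Subgroup.normalizer (V : Set G) := Subgroup.inv_mem _ hzV
  refine ⟨?_, ?_, ?_⟩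
  · intro D hD
    have hD₀ : D.map (MulAut.conj z⁻¹).toMonoidHom ≤ B := by
      rw [← map_conj_map_conj_inv B z]
      exact Subgroup.map_mono hD
    have h1 := hB.1 _ hD₀
    rw [card_map_conj', card_inf_centralizer_map_conj hzV'] at h1
    rw [card_map_conj', card_inf_centralizer_map_conj hzV]
    exact h1
  · have h1 : ⁅B, B⁆ = ⊥ := by
      rw [Subgroup.commutator_eq_bot_iff_le_centralizer]
      intro b hb
      rw [Subgroup.mem_centralizer_iff]
      intro c hc
      exact h.bo_comm hBH hB c hc b hb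
    rw [← Subgroup.map_commutator, h1, Subgroup.map_bot]
    exact bot_le
  · rintro _ ⟨b, hb, rfl⟩
    simp only [MulEquiv.coe_toMonoidHom, MulAut.conj_apply]
    rw [conj_pow, h.bo_pow hBH hB b hb]
    simp

/-- An offender of order `p` acts quadratically with commutator of order `p`. -/
theorem quadratic_of_card_p (h : FFS p V H Q) [Finite G] {B : Subgroup G} (hBH : B ≤ H)
    (hB : Cfsg.IsBestOffenderOn p V B) (hBc : Nat.card B = p) :
    Nat.card ↥(⁅V, B⁆) = p ∧ B ≤ Subgroup.centralizer ((⁅V, B⁆ : Subgroup G) : Set G) := by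
  obtain ⟨hne, hmin⟩ := h.minimal_of_card hBH hBc
  have hc := (h.minimal_offender hBH hB hne hmin).2.1
  refine ⟨hc, ?_⟩
  obtain ⟨u, hu, hu1, huo, huz⟩ := exists_zpowers_eq_of_card_prime hc
  have hBV : B ≤ Subgroup.normalizer (V : Set G) := hBH.trans h.hHV
  have hBU : B ≤ Subgroup.normalizer ((⁅V, B⁆ : Subgroup G) : Set G) :=
    le_normalizer_commutator' hBV Subgroup.le_normalizer
  intro s hs
  have h1 : s * u * s⁻¹ ∈ Subgroup.zpowers u := by
    rw [huz]; exact (Subgroup.mem_normalizer_iff.1 (hBU hs) u).1 hu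
  have h2 := Cfsg.Agent.Lib.H26.conj_eq_of_pow_prime (p := p)
    ⟨1, by simpa using h.bo_pow hBH hB s hs⟩ (by rw [← huo]; exact pow_orderOf_eq_one u) h1
  rw [← huz, ← Cfsg.Agent.Lib.H7.centralizer_singleton_eq_centralizer_zpowers,
    Subgroup.mem_centralizer_iff]
  intro g hg
  rw [Set.mem_singleton_iff] at hg
  rw [hg]
  calc u * s = (s * u * s⁻¹) * s := by rw [h2]
    _ = s * u := by group

end FFS
end Cfsg.Agent.Lib.H3
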