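import Mathlib
import Cfsg.Agent.Lib.H3.OffenderE1

/-! All `Q`-conjugates of a minimal offender lie in `⟨A, A^x⟩`; the plane is covered by centers. -/
set_option autoImplicit false
open scoped commutatorElement
namespace Cfsg.Agent.Lib.H3

variable {G : Type*} [Group G]

namespace FFS
variable {p : ℕ} [Fact p.Prime] {V H Q : Subgroup G}

/-- Every element of the plane `[V, ⟨A, A^x⟩]` lies in the commutator `[V, A^q]` of some
`Q`-conjugate `A^q ≤ ⟨A, A^x⟩`. -/
theorem exists_conj_center_mem (h : FFS p V H Q) [Finite G] {A : Subgroup G} (hAH : A ≤ H)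
    (hA : Cfsg.IsBestOffenderOn p V A) (hAc : Nat.card A = p) {x : G} (hxQ : x ∈ Q)
    (hxA : x ∉ Subgroup.centralizer (A : Set G)) {w : G}
    (hw : w ∈ ⁅V, A ⊔ A.map (MulAut.conj x).toMonoidHom⁆) :
    ∃ q ∈ Q, A.map (MulAut.conj q).toMonoidHom ≤ A ⊔ A.map (MulAut.conj x).toMonoidHom ∧
      w ∈ ⁅V, A.map (MulAut.conj q).toMonoidHom⁆ := by
  have hp : p.Prime := Fact.out
  obtain ⟨hW, hfaith, hne, -, hinf, hsup⟩ := h.pair_structure_full hAH hA hAc hxQ hxA
  set A' := A.map (MulAut.conj x).toMonoidHom with hA'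
  set L := A ⊔ A' with hL
  have hVc := h.comm_V
  have hxH : x ∈ H := h.hQH hxQ
  have hA'H : A' ≤ H := h.map_conj_le hAH hxH
  have hLH : L ≤ H := sup_le hAH hA'H
  have hAL : A ≤ L := le_sup_left
  have hA'L : A' ≤ L := le_sup_right
  have hA'bo : Cfsg.IsBestOffenderOn p V A' := h.conj_isBestOffender hAH hA hxH
  have hA'c : Nat.card A' = p := by rw [hA', card_map_conj', hAc]
  obtain ⟨hPc, hAP⟩ := h.quadratic_of_card_p hAH hA hAc
  obtain ⟨hP'c, hA'P'⟩ := h.quadratic_of_card_p hA'H hA'bo hA'c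
  set P := ⁅V, A⁆ with hP
  set P' := ⁅V, A'⁆ with hP'
  set W := ⁅V, L⁆ with hWdef
  have hPW : P ≤ W := Subgroup.commutator_mono le_rfl hAL
  have hP'W : P' ≤ W := Subgroup.commutator_mono le_rfl hA'L
  have hLV : L ≤ Subgroup.normalizer (V : Set G) := hLH.trans h.hHV
  have hWV : W ≤ V := (Subgroup.le_normalizer_iff_commutator_le_left).mp hLV
  have htriv : ∀ v ∈ W, v ∈ Subgroup.centralizer (A : Set G) →
      v ∈ Subgroup.centralizer (A' : Set G) → v = 1 := by
    intro v hv h1 h2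
    have h3 : v ∈ W ⊓ (V ⊓ Subgroup.centralizer (L : Set G)) :=
      ⟨hv, hWV hv, Cfsg.Agent.Lib.H16.centralizer_sup_ge A A' ⟨h1, h2⟩⟩
    rw [hinf] at h3
    exact Subgroup.mem_bot.1 h3
  -- generators
  obtain ⟨a, ha, ha1, hao, haz⟩ := exists_zpowers_eq_of_card_prime hAc
  obtain ⟨u, hu, hu1, huo, huz⟩ := exists_zpowers_eq_of_card_prime hPc
  set b := x * a * x⁻¹ with hb
  have hbA' : b ∈ A' := ⟨a, ha, by simp [MulAut.conj_apply, hb]⟩
  have hbV : b ∈ Subgroup.normalizer (V : Set G) := h.hHV (hA'H hbA')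
  have huV : u ∈ V := hWV (hPW hu)
  set t := b * u * b⁻¹ * u⁻¹ with ht
  have htP' : t ∈ P' := by
    have h1 : ⁅u, b⁆ ∈ P' := Subgroup.commutator_mem_commutator huV hbA'
    have e : t = (⁅u, b⁆)⁻¹ := by rw [ht, commutatorElement_def]; group
    rw [e]; exact P'.inv_mem h1
  have htV : t ∈ V := hWV (hP'W htP')
  have hbu : b * u * b⁻¹ = u * t := by
    have h1 : b * u * b⁻¹ = t * u := by rw [ht]; group
    rw [h1]; exact hVc t htV u huV
  have hbt : b * t * b⁻¹ = t := by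
    have h1 := Subgroup.mem_centralizer_iff.1 (hA'P' hbA') t htP'
    calc b * t * b⁻¹ = (t * b) * b⁻¹ := by rw [h1]
      _ = t := by group
  have huA : u ∈ Subgroup.centralizer (A : Set G) := (Subgroup.le_centralizer_iff.1 hAP) hu
  have ht1 : t ≠ 1 := by
    intro h1
    apply hu1
    apply htriv u (hPW hu) huA
    -- `b` commutes with `u`, so all of `A' = ⟨b⟩` does
    have hbz : Subgroup.zpowers b = A' := by
      apply Subgroup.eq_of_le_of_card_ge ((Subgroup.zpowers_le).2 hbA')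
      rw [Nat.card_zpowers, hA'c]
      have : orderOf b = orderOf a := (MulAut.conj x).orderOf_eq a
      rw [this, hao]
    rw [← hbz, ← Cfsg.Agent.Lib.H7.centralizer_singleton_eq_centralizer_zpowers,
      Subgroup.mem_centralizer_iff]
    intro g hg
    rw [Set.mem_singleton_iff] at hg
    rw [hg]
    have h2 : b * u * b⁻¹ = u := by rw [hbu, h1, mul_one]
    calc b * u = (b * u * b⁻¹) * b := by group
      _ = u * b := by rw [h2]
  have htz : Subgroup.zpowers t = P' := by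
    apply Subgroup.eq_of_le_of_card_ge ((Subgroup.zpowers_le).2 htP')
    rw [Nat.card_zpowers, hP'c]
    have h1 : orderOf t ∣ p := by
      rw [← hP'c]
      have := orderOf_dvd_natCard (⟨t, htP'⟩ : P')
      rwa [Subgroup.orderOf_mk] at this
    rcases (Nat.dvd_prime hp).1 h1 with h2 | h2
    · exact absurd (orderOf_eq_one_iff.1 h2) ht1
    · rw [h2]
  have htp : t ^ p = 1 := by
    have := orderOf_dvd_natCard (⟨t, htP'⟩ : P')
    rw [Subgroup.orderOf_mk, hP'c] at this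
    exact orderOf_dvd_iff_pow_eq_one.1 this
  have hPP' : P ⊓ P' = ⊥ := by
    rw [eq_bot_iff]
    intro v hv
    rw [Subgroup.mem_bot]
    exact htriv v (hPW hv.1) ((Subgroup.le_centralizer_iff.1 hAP) hv.1)
      ((Subgroup.le_centralizer_iff.1 hA'P') hv.2)
  have hPP'W : P ⊔ P' = W := by
    apply Subgroup.eq_of_le_of_card_ge (sup_le hPW hP'W)
    rw [card_sup_of_inf_eq_bot hVc (hPW.trans hWV) (hP'W.trans hWV) hPP', hPc, hP'c, hW, pow_two]
  -- decompose `w`
  have hwW : w ∈ P ⊔ P' := by rw [hPP'W]; exact hw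
  obtain ⟨y₁, hy₁, y₂, hy₂, rfl⟩ := Cfsg.Agent.Lib.H1.mem_sup_of_le_normalizer
    (le_normalizer_of_le_abelian hVc (hPW.trans hWV) (hP'W.trans hWV)) hwW
  rw [← huz] at hy₁
  rw [← htz] at hy₂
  rw [← mem_powers_iff_mem_zpowers] at hy₁ hy₂
  obtain ⟨i, rfl⟩ := hy₁
  obtain ⟨j, rfl⟩ := hy₂
  by_cases hui : u ^ i = 1
  · refine ⟨x, hxQ, hA'L, ?_⟩
    beta_reduce
    rw [hui, one_mul]
    exact P'.pow_mem htP' j
  · obtain ⟨k, hk⟩ := plane_cover (p := p) hbu hbt (hVc u huV t htV) huo htp i j hui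
    set q := b ^ k * (a ^ k)⁻¹ with hq
    have hqQ : q ∈ Q := by
      have h1 : b ^ k = x * a ^ k * x⁻¹ := by rw [hb, conj_pow]
      have h2 : a ^ k * x⁻¹ * (a ^ k)⁻¹ ∈ Q :=
        (Subgroup.mem_normalizer_iff.1 (h.hQn (hAH (A.pow_mem ha k))) x⁻¹).1 (Q.inv_mem hxQ)
      have e : q = x * (a ^ k * x⁻¹ * (a ^ k)⁻¹) := by rw [hq, h1]; group
      rw [e]; exact Q.mul_mem hxQ h2
    have hbkL : b ^ k ∈ L := L.pow_mem (hA'L hbA') k
    have hmap : A.map (MulAut.conj q).toMonoidHom = A.map (MulAut.conj (b ^ k)).toMonoidHom := by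
      have h1 : A.map (MulAut.conj (a ^ k)).toMonoidHom = A := by
        have := Subgroup.mem_normalizer_iff_map_conj_eq.1
          (Subgroup.le_normalizer (A.pow_mem ha k) : a ^ k ∈ Subgroup.normalizer (A : Set G))
        exact this
      have h2 : b ^ k = q * a ^ k := by rw [hq]; group
      rw [h2]
      conv_rhs => rw [show (MulAut.conj (q * a ^ k)).toMonoidHom =
        (MulAut.conj q).toMonoidHom.comp (MulAut.conj (a ^ k)).toMonoidHom from by
          ext g; simp [MulAut.conj_apply, mul_assoc], ← Subgroup.map_map, h1]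
    have hBL : A.map (MulAut.conj q).toMonoidHom ≤ L := by
      rw [hmap]
      rintro _ ⟨s, hs, rfl⟩
      simp only [MulEquiv.coe_toMonoidHom, MulAut.conj_apply]
      exact L.mul_mem (L.mul_mem hbkL (hAL hs)) (L.inv_mem hbkL)
    refine ⟨q, hqQ, hBL, ?_⟩
    beta_reduce
    rw [hk, hmap]
    apply Subgroup.pow_mem
    have hbkV : b ^ k ∈ Subgroup.normalizer (V : Set G) := Subgroup.pow_mem _ hbV k
    have hVmap : V.map (MulAut.conj (b ^ k)).toMonoidHom = V :=
      Subgroup.mem_normalizer_iff_map_conj_eq.1 hbkV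
    have h3 : (⁅V, A⁆).map (MulAut.conj (b ^ k)).toMonoidHom =
        ⁅V, A.map (MulAut.conj (b ^ k)).toMonoidHom⁆ := by
      rw [Subgroup.map_commutator, hVmap]
    rw [← h3]
    exact ⟨u, hu, rfl⟩

/-- All `Q`-conjugates of an offender `A` of order `p` lie in `⟨A, A^x⟩` (`x ∈ Q` not centralizing
`A`). -/
theorem conj_le_pair (h : FFS p V H Q) [Finite G] {A : Subgroup G} (hAH : A ≤ H)
    (hA : Cfsg.IsBestOffenderOn p V A) (hAc : Nat.card A = p) {x : G} (hxQ : x ∈ Q)
    (hxA : x ∉ Subgroup.centralizer (A : Set G)) {y : G} (hyQ : y ∈ Q) :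
    A.map (MulAut.conj y).toMonoidHom ≤ A ⊔ A.map (MulAut.conj x).toMonoidHom := by
  have hp : p.Prime := Fact.out
  obtain ⟨hW, hfaith, hne, -, hinf, hsup⟩ := h.pair_structure_full hAH hA hAc hxQ hxA
  set A' := A.map (MulAut.conj x).toMonoidHom with hA'
  set L := A ⊔ A' with hL
  set F := A.map (MulAut.conj y).toMonoidHom with hF
  have hVc := h.comm_V
  have hxH : x ∈ H := h.hQH hxQ
  have hyH : y ∈ H := h.hQH hyQ
  have hA'H : A' ≤ H := h.map_conj_le hAH hxH
  have hFH : F ≤ H := h.map_conj_le hAH hyH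
  have hLH : L ≤ H := sup_le hAH hA'H
  have hAL : A ≤ L := le_sup_left
  have hA'L : A' ≤ L := le_sup_right
  have hA'bo : Cfsg.IsBestOffenderOn p V A' := h.conj_isBestOffender hAH hA hxH
  have hFbo : Cfsg.IsBestOffenderOn p V F := h.conj_isBestOffender hAH hA hyH
  have hA'c : Nat.card A' = p := by rw [hA', card_map_conj', hAc]
  have hFc : Nat.card F = p := by rw [hF, card_map_conj', hAc]
  obtain ⟨hPc, hAP⟩ := h.quadratic_of_card_p hAH hA hAc
  obtain ⟨hP'c, hA'P'⟩ := h.quadratic_of_card_p hA'H hA'bo hA'c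
  set P := ⁅V, A⁆ with hP
  set P' := ⁅V, A'⁆ with hP'
  set W := ⁅V, L⁆ with hWdef
  have hPW : P ≤ W := Subgroup.commutator_mono le_rfl hAL
  have hP'W : P' ≤ W := Subgroup.commutator_mono le_rfl hA'L
  have hLV : L ≤ Subgroup.normalizer (V : Set G) := hLH.trans h.hHV
  have hWV : W ≤ V := (Subgroup.le_normalizer_iff_commutator_le_left).mp hLV
  -- elements centralized by both `A` and `A'` in `W` are trivial
  have htriv : ∀ v ∈ W, v ∈ Subgroup.centralizer (A : Set G) →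
      v ∈ Subgroup.centralizer (A' : Set G) → v = 1 := by
    intro v hv h1 h2
    have h3 : v ∈ W ⊓ (V ⊓ Subgroup.centralizer (L : Set G)) :=
      ⟨hv, hWV hv, Cfsg.Agent.Lib.H16.centralizer_sup_ge A A' ⟨h1, h2⟩⟩
    rw [hinf] at h3
    exact Subgroup.mem_bot.1 h3
  by_contra hFL
  -- key property
  have key : ∀ q ∈ Q, A.map (MulAut.conj q).toMonoidHom ≤ L →
      ⁅V, A.map (MulAut.conj q).toMonoidHom⁆ ⊓ (V ⊓ Subgroup.centralizer (F : Set G)) = ⊥ := by
    intro q hq hBL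
    set B := A.map (MulAut.conj q).toMonoidHom with hB
    have hqH : q ∈ H := h.hQH hq
    have hBH : B ≤ H := h.map_conj_le hAH hqH
    have hBbo : Cfsg.IsBestOffenderOn p V B := h.conj_isBestOffender hAH hA hqH
    have hBc : Nat.card B = p := by rw [hB, card_map_conj', hAc]
    obtain ⟨-, hBquad⟩ := h.quadratic_of_card_p hBH hBbo hBc
    have hBF : B = F.map (MulAut.conj (q * y⁻¹)).toMonoidHom := by
      rw [hB, hF, Subgroup.map_map]
      congr 1
      ext g
      simp [MulAut.conj_apply, mul_assoc]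
    have hz : q * y⁻¹ ∈ Q := Q.mul_mem hq (Q.inv_mem hyQ)
    by_cases hzF : q * y⁻¹ ∈ Subgroup.centralizer (F : Set G)
    · exfalso
      apply hFL
      have : F.map (MulAut.conj (q * y⁻¹)).toMonoidHom = F :=
        Subgroup.mem_normalizer_iff_map_conj_eq.1
          (Subgroup.centralizer_le_normalizer (F : Set G) hzF)
      rw [← this, ← hBF]
      exact hBL
    · obtain ⟨-, -, -, -, hinf', -⟩ := h.pair_structure_full hFH hFbo hFc hz hzF
      rw [← hBF] at hinf'
      rw [eq_bot_iff]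
      intro v hv
      have h3 : v ∈ ⁅V, F ⊔ B⁆ ⊓ (V ⊓ Subgroup.centralizer ((F ⊔ B : Subgroup G) : Set G)) := by
        refine ⟨Subgroup.commutator_mono le_rfl le_sup_right hv.1, hv.2.1, ?_⟩
        refine Cfsg.Agent.Lib.H16.centralizer_sup_ge F B ⟨hv.2.2, ?_⟩
        have := Subgroup.le_centralizer_iff.1 hBquad
        exact this hv.1
      rw [hinf'] at h3
      exact h3
  -- a nontrivial element of `W ⊓ C_V(F)`
  have hoffF := h.offVal_eq _ F rfl hFH hFbo (by
    intro h1; rw [h1, Subgroup.card_bot] at hFc; exact hp.one_lt.ne hFc)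
  rw [hFc] at hoffF
  have hex : ∃ w ∈ W ⊓ (V ⊓ Subgroup.centralizer (F : Set G)), w ≠ 1 := by
    by_contra hcon
    have hbot : W ⊓ (V ⊓ Subgroup.centralizer (F : Set G)) = ⊥ := by
      rw [eq_bot_iff]
      intro w hw
      by_contra hw1
      exact hcon ⟨w, hw, fun h1 => hw1 (Subgroup.mem_bot.2 h1)⟩
    have h1 := card_mul_card_le W (V ⊓ Subgroup.centralizer (F : Set G))
    rw [hbot, Subgroup.card_bot, mul_one] at h1
    have h2 : Nat.card ↥(W ⊔ (V ⊓ Subgroup.centralizer (F : Set G))) ≤ Nat.card V :=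
      Subgroup.card_le_of_le (sup_le hWV inf_le_left)
    have h3 : Nat.card W = p ^ 2 := hW
    rw [h3] at h1
    have h4 : p ^ 2 * Nat.card ↥(V ⊓ Subgroup.centralizer (F : Set G)) ≤
        p * Nat.card ↥(V ⊓ Subgroup.centralizer (F : Set G)) := by
      rw [hoffF]; exact h1.trans h2
    have h5 : 0 < Nat.card ↥(V ⊓ Subgroup.centralizer (F : Set G)) := Nat.card_pos
    have h6 : p ^ 2 ≤ p := Nat.le_of_mul_le_mul_right h4 h5
    have := hp.one_lt
    nlinarith
  obtain ⟨w, hw, hw1⟩ := hex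
  obtain ⟨q, hqQ, hqL, hwq⟩ := h.exists_conj_center_mem hAH hA hAc hxQ hxA hw.1
  have h1 := key q hqQ hqL
  have h2 : w ∈ ⁅V, A.map (MulAut.conj q).toMonoidHom⁆ ⊓
      (V ⊓ Subgroup.centralizer (F : Set G)) := ⟨hwq, hw.2⟩
  rw [h1] at h2
  exact hw1 (Subgroup.mem_bot.1 h2)

end FFS
end Cfsg.Agent.Lib.H3
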