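import Mathlib
import Cfsg.Agent.Lib.H2.SL2Sylow
import Cfsg.Agent.Lib.H17.ElemAbGL
set_option autoImplicit false
open scoped commutatorElement
namespace Cfsg.Agent.Lib.H3

open Matrix

section SLtools

variable {p : ℕ} [Fact p.Prime]

/-- a hom to `GL₂` with trivial determinant factors through `SL₂`. -/
def toSL {K : Type*} [Group K] {F : Type*} [Field F] (ψ : K →* GL (Fin 2) F)
    (hdet : ∀ g, Matrix.GeneralLinearGroup.det (ψ g) = 1) : K →* SpecialLinearGroup (Fin 2) F where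
  toFun g := ⟨((ψ g : GL (Fin 2) F) : Matrix (Fin 2) (Fin 2) F), by
    have := congrArg Units.val (hdet g)
    simpa using this⟩
  map_one' := by
    apply Subtype.ext
    simp
  map_mul' g h := by
    apply Subtype.ext
    show ((ψ (g * h) : GL (Fin 2) F) : Matrix (Fin 2) (Fin 2) F) =
      ((ψ g : GL (Fin 2) F) : Matrix (Fin 2) (Fin 2) F) * ((ψ h : GL (Fin 2) F) : Matrix (Fin 2) (Fin 2) F)
    rw [map_mul]; rfl

theorem toSL_injective {K : Type*} [Group K] {F : Type*} [Field F] (ψ : K →* GL (Fin 2) F)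
    (hdet : ∀ g, Matrix.GeneralLinearGroup.det (ψ g) = 1) (hinj : Function.Injective ψ) :
    Function.Injective (toSL ψ hdet) := by
  intro g h hgh
  apply hinj
  apply Units.ext
  exact congrArg Subtype.val hgh

/-- a `p`-element of `(ZMod p)ˣ` is trivial. -/
theorem units_eq_one_of_pow (z : (ZMod p)ˣ) (hz : z ^ p = 1) : z = 1 := by
  have hp : p.Prime := Fact.out
  have h1 : z ^ (p - 1) = 1 := ZMod.units_pow_card_sub_one_eq_one p z
  have h2 : orderOf z ∣ p := orderOf_dvd_of_pow_eq_one hz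
  have h3 : orderOf z ∣ p - 1 := orderOf_dvd_of_pow_eq_one h1
  have h4 : orderOf z ∣ 1 := by
    have := Nat.dvd_sub h2 h3
    have e : p - (p - 1) = 1 := by have := hp.pos; omega
    rwa [e] at this
  exact orderOf_eq_one_iff.1 (Nat.dvd_one.1 h4)

theorem exists_sylow_of_card (P : Subgroup (SpecialLinearGroup (Fin 2) (ZMod p)))
    (hP : Nat.card P = p) :
    ∃ S : Sylow p (SpecialLinearGroup (Fin 2) (ZMod p)),
      (S : Subgroup (SpecialLinearGroup (Fin 2) (ZMod p))) = P := by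
  have hp : p.Prime := Fact.out
  have hPp : IsPGroup p P := IsPGroup.of_card (n := 1) (by rw [hP, pow_one])
  have hidx : ¬ p ∣ P.index := by
    have h1 := Subgroup.card_mul_index P
    rw [hP, Cfsg.Agent.Lib.H12.card_SL2, ZMod.card] at h1
    have h2 : P.index = p ^ 2 - 1 := Nat.eq_of_mul_eq_mul_left hp.pos h1
    rw [h2]
    intro hdvd
    have h3 : 1 ≤ p ^ 2 := Nat.one_le_pow _ _ hp.pos
    have h4 : p ∣ p ^ 2 := dvd_pow_self p (by norm_num)
    have h5 : p ∣ p ^ 2 - (p ^ 2 - 1) := Nat.dvd_sub h4 hdvd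
    have h6 : p ^ 2 - (p ^ 2 - 1) = 1 := by omega
    rw [h6] at h5
    exact hp.one_lt.ne' (Nat.dvd_one.1 h5)
  exact ⟨hPp.toSylow hidx, rfl⟩

/-- diagonal element -/
def dSL' {F : Type*} [Field F] (t : F) (ht : t ≠ 0) : SpecialLinearGroup (Fin 2) F :=
  ⟨!![t, 0; 0, t⁻¹], by simp [Matrix.det_fin_two_of, ht]⟩

theorem dSL'_val {F : Type*} [Field F] (t : F) (ht : t ≠ 0) :
    (dSL' t ht : Matrix (Fin 2) (Fin 2) F) = !![t, 0; 0, t⁻¹] := rfl

open Cfsg.Agent.Lib.H2.SL2 in
theorem dSL'_mul_uSL {F : Type*} [Field F] (t : F) (ht : t ≠ 0) (s : F) :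
    dSL' t ht * uSL s = uSL (t * t * s) * dSL' t ht := by
  apply ext_entries <;> simp only [mul_val, uSL_val, dSL'_val, Matrix.of_apply, Matrix.cons_val',
    Matrix.cons_val_zero, Matrix.cons_val_one, Matrix.empty_val', Matrix.cons_val_fin_one]
  all_goals first | ring1 | (field_simp; ring1) | field_simp

open Cfsg.Agent.Lib.H2.SL2 in
theorem commutator_dSL'_uSL {F : Type*} [Field F] (t : F) (ht : t ≠ 0) (s : F) :
    ⁅dSL' t ht, uSL s⁆ = uSL (t * t * s - s) := by
  rw [commutatorElement_def, dSL'_mul_uSL, mul_inv_cancel_right, sub_eq_add_neg, uSL_add, uSL_neg]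

end SLtools

end Cfsg.Agent.Lib.H3
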