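import Mathlib
import Cfsg.Agent.Lib.H3.OffenderSL2b

/-! Recognition of `SL₂(p)` acting on a plane, and `p ≤ 3` in the `p`-solvable case. -/
set_option autoImplicit false
open scoped commutatorElement
namespace Cfsg.Agent.Lib.H3

open Matrix

variable {G : Type*} [Group G]

theorem exists_mulEquiv_SL2 [Finite G] {p : ℕ} [Fact p.Prime] {W L A A' : Subgroup G}
    (hWc : ∀ a ∈ W, ∀ b ∈ W, a * b = b * a) (hWe : ∀ a ∈ W, a ^ p = 1)
    (hWcard : Nat.card W = p ^ 2) (hLW : L ≤ Subgroup.normalizer (W : Set G))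
    (hfaith : L ⊓ Subgroup.centralizer (W : Set G) = ⊥) (hL : L = A ⊔ A')
    (hAc : Nat.card A = p) (hA'c : Nat.card A' = p) (hne : A ≠ A') :
    Nonempty (↥L ≃* SpecialLinearGroup (Fin 2) (ZMod p)) := by
  have hp : p.Prime := Fact.out
  have hAL : A ≤ L := hL ▸ le_sup_left
  have hA'L : A' ≤ L := hL ▸ le_sup_right
  set N := Subgroup.normalizer (W : Set G) with hN
  set F : Subgroup ↥N := W.subgroupOf N with hF
  haveI : F.Normal := Subgroup.normal_in_normalizer
  have hFcard : Nat.card F = p ^ 2 := by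
    rw [← hWcard]
    exact Nat.card_congr (Subgroup.subgroupOfEquivOfLe Subgroup.le_normalizer).toEquiv
  have hFc : ∀ a ∈ F, ∀ b ∈ F, a * b = b * a := by
    intro a ha b hb
    apply Subtype.ext
    exact hWc a ha b hb
  have hFe : ∀ a ∈ F, a ^ p = 1 := by
    intro a ha
    apply Subtype.ext
    simpa using hWe a ha
  obtain ⟨φ, hφ⟩ := Cfsg.Agent.Lib.H17.exists_hom_GL_ker_eq_centralizer F p 2 hFc hFe hFcard
  set ι : ↥L →* ↥N := Subgroup.inclusion hLW with hι
  set ψ : ↥L →* GL (Fin 2) (ZMod p) := φ.comp ι with hψ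
  have hinj : Function.Injective ψ := by
    rw [injective_iff_map_eq_one]
    intro g hg
    have h1 : ι g ∈ φ.ker := hg
    rw [hφ] at h1
    have h2 : (g : G) ∈ L ⊓ Subgroup.centralizer (W : Set G) := by
      refine ⟨g.2, ?_⟩
      show (g : G) ∈ Subgroup.centralizer (W : Set G)
      rw [Subgroup.mem_centralizer_iff]
      intro w hw
      have hwN : w ∈ N := Subgroup.le_normalizer hw
      have := Subgroup.mem_centralizer_iff.1 h1 ⟨w, hwN⟩ (Subgroup.mem_subgroupOf.2 hw)
      exact congrArg Subtype.val this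
    rw [hfaith, Subgroup.mem_bot] at h2
    exact Subtype.ext h2
  have hpow : ∀ B : Subgroup G, Nat.card B = p → ∀ s ∈ B, s ^ p = 1 := by
    intro B hB s hs
    have := orderOf_dvd_natCard (⟨s, hs⟩ : B)
    rw [Subgroup.orderOf_mk, hB] at this
    exact orderOf_dvd_iff_pow_eq_one.1 this
  have htop : A.subgroupOf L ⊔ A'.subgroupOf L = ⊤ := by
    rw [← Subgroup.subgroupOf_sup hAL hA'L, ← hL, Subgroup.subgroupOf_self]
  have hdet : ∀ g, Matrix.GeneralLinearGroup.det (ψ g) = 1 := by
    set δ : ↥L →* (ZMod p)ˣ := Matrix.GeneralLinearGroup.det.comp ψ with hδ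
    have hker : δ.ker = ⊤ := by
      rw [eq_top_iff, ← htop]
      apply sup_le
      · intro s hs
        rw [Subgroup.mem_subgroupOf] at hs
        have h1 : s ^ p = 1 := Subtype.ext (by simpa using hpow A hAc s hs)
        have h2 : δ s ^ p = 1 := by rw [← map_pow, h1, map_one]
        exact units_eq_one_of_pow _ h2
      · intro s hs
        rw [Subgroup.mem_subgroupOf] at hs
        have h1 : s ^ p = 1 := Subtype.ext (by simpa using hpow A' hA'c s hs)
        have h2 : δ s ^ p = 1 := by rw [← map_pow, h1, map_one]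
        exact units_eq_one_of_pow _ h2
    intro g
    have : g ∈ δ.ker := by rw [hker]; trivial
    exact this
  set ψ' := toSL ψ hdet with hψ'
  have hinj' : Function.Injective ψ' := toSL_injective ψ hdet hinj
  have hcardmap : ∀ B : Subgroup G, B ≤ L → Nat.card B = p →
      Nat.card ((B.subgroupOf L).map ψ') = p := by
    intro B hB hBc
    have e1 := Nat.card_congr (Subgroup.equivMapOfInjective (B.subgroupOf L) ψ' hinj').toEquiv
    have e2 := Nat.card_congr (Subgroup.subgroupOfEquivOfLe hB).toEquiv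
    rw [← e1, e2, hBc]
  obtain ⟨S₁, hS₁⟩ := exists_sylow_of_card _ (hcardmap A hAL hAc)
  obtain ⟨S₂, hS₂⟩ := exists_sylow_of_card _ (hcardmap A' hA'L hA'c)
  have hS : S₁ ≠ S₂ := by
    intro h12
    have h1 : (A.subgroupOf L).map ψ' = (A'.subgroupOf L).map ψ' := by
      rw [← hS₁, ← hS₂, h12]
    have h2 := Subgroup.map_injective hinj' h1
    rw [Subgroup.subgroupOf_inj, inf_of_le_left hAL, inf_of_le_left hA'L] at h2
    exact hne h2
  have hsup := Cfsg.Agent.Lib.H2.SL2.sylow_sup_eq_top p S₁ S₂ hS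
  rw [hS₁, hS₂, ← Subgroup.map_sup, htop, ← MonoidHom.range_eq_map] at hsup
  have hsurj : Function.Surjective ψ' := MonoidHom.range_eq_top.1 hsup
  exact ⟨MulEquiv.ofBijective ψ' ⟨hinj', hsurj⟩⟩

open Cfsg.Agent.Lib.H2.SL2 in
theorem uSL_pow {F : Type*} [Field F] (t : F) (n : ℕ) : uSL t ^ n = uSL (n • t) := by
  induction n with
  | zero => simp [uSL_zero]
  | succ n ih => rw [pow_succ, ih, ← uSL_add, succ_nsmul]

open Cfsg.Agent.Lib.H2.SL2 in
/-- `SL₂(p)` has a normal subgroup of `p'`-order with abelian quotient only for `p ≤ 3`. -/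
theorem prime_le_three_of_SL2 {p : ℕ} [Fact p.Prime] {K : Type*} [Group K] [Finite K]
    (e : K ≃* SpecialLinearGroup (Fin 2) (ZMod p)) (N : Subgroup K)
    (hN : ∀ g : K, g ∈ N → g ^ p = 1 → g = 1) (hcomm : ∀ g h : K, ⁅g, h⁆ ∈ N) :
    p = 2 ∨ p = 3 := by
  have hp : p.Prime := Fact.out
  by_contra hcon
  push Not at hcon
  have h2 : (2 : ZMod p) ≠ 0 := by
    intro h
    have : ((2 : ℕ) : ZMod p) = 0 := by exact_mod_cast h
    rw [ZMod.natCast_eq_zero_iff] at this
    exact hcon.1 ((Nat.prime_dvd_prime_iff_eq hp Nat.prime_two).1 this)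
  have h3 : (3 : ZMod p) ≠ 0 := by
    intro h
    have : ((3 : ℕ) : ZMod p) = 0 := by exact_mod_cast h
    rw [ZMod.natCast_eq_zero_iff] at this
    exact hcon.2 ((Nat.prime_dvd_prime_iff_eq hp Nat.prime_three).1 this)
  set c : SpecialLinearGroup (Fin 2) (ZMod p) := ⁅dSL' 2 h2, uSL 1⁆ with hc
  have hc' : c = uSL 3 := by
    rw [hc, commutator_dSL'_uSL]; norm_num
  set w : K := ⁅e.symm (dSL' 2 h2), e.symm (uSL 1)⁆ with hw
  have hwc : w = e.symm c := by
    rw [hw, hc, map_commutatorElement]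
  have hwN : w ∈ N := hcomm _ _
  have hw1 : w ≠ 1 := by
    intro h
    rw [hwc, hc'] at h
    have h4 : uSL (3 : ZMod p) = 1 := by
      have := congrArg e h
      simpa using this
    rw [← uSL_zero] at h4
    exact h3 (uSL_injective h4)
  have hwp : w ^ p = 1 := by
    rw [hwc, ← map_pow, hc', uSL_pow]
    have : (p • (3 : ZMod p)) = 0 := by
      rw [nsmul_eq_mul, CharP.cast_eq_zero, zero_mul]
    rw [this, uSL_zero, map_one]
  exact hw1 (hN w hwN hwp)

end Cfsg.Agent.Lib.H3
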