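import Mathlib
import Cfsg.Agent.Lib.H3.OffenderE2
import Cfsg.Agent.Lib.H3.OffenderSL2c
set_option autoImplicit false
open scoped commutatorElement
namespace Cfsg.Agent.Lib.H3

variable {G : Type*} [Group G]

theorem mem_normalizer_of_map_conj_le [Finite G] {L : Subgroup G} {q : G}
    (hq : L.map (MulAut.conj q).toMonoidHom ≤ L) : q ∈ Subgroup.normalizer (L : Set G) := by
  have h1 : L.map (MulAut.conj q).toMonoidHom = L :=
    Subgroup.eq_of_le_of_card_ge hq (by rw [card_map_conj'])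
  exact Subgroup.mem_normalizer_iff_map_conj_eq.2 h1

namespace FFS
variable {p : ℕ} [Fact p.Prime] {V H Q : Subgroup G}

theorem exists_not_mem_centralizer (h : FFS p V H Q) [Finite G] {A : Subgroup G} (hAH : A ≤ H)
    (hA : Cfsg.IsBestOffenderOn p V A) (hA1 : A ≠ ⊥) :
    ∃ x ∈ Q, x ∉ Subgroup.centralizer (A : Set G) := by
  by_contra hcon
  apply hA1
  rw [eq_bot_iff]
  intro a ha
  rw [Subgroup.mem_bot]
  apply h.eq_one_of_centralizes (hAH ha) (h.bo_pow hAH hA a ha)
  rw [Subgroup.mem_centralizer_iff]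
  intro q hq
  have hq' : q ∈ Subgroup.centralizer (A : Set G) := by
    by_contra h'
    exact hcon ⟨q, hq, h'⟩
  exact (Subgroup.mem_centralizer_iff.1 hq' a ha).symm

/-- `[Q, A] A = ⟨A, A^x⟩`. -/
theorem E_eq_pair (h : FFS p V H Q) [Finite G] {A : Subgroup G} (hAH : A ≤ H)
    (hA : Cfsg.IsBestOffenderOn p V A) (hAc : Nat.card A = p) {x : G} (hxQ : x ∈ Q)
    (hxA : x ∉ Subgroup.centralizer (A : Set G)) :
    ⁅Q, A⁆ ⊔ A = A ⊔ A.map (MulAut.conj x).toMonoidHom := by
  apply le_antisymm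
  · apply sup_le _ le_sup_left
    rw [Subgroup.commutator_le]
    intro q hq s hs
    have h1 : q * s * q⁻¹ ∈ A ⊔ A.map (MulAut.conj x).toMonoidHom :=
      h.conj_le_pair hAH hA hAc hxQ hxA hq ⟨s, hs, rfl⟩
    rw [commutatorElement_def]
    exact Subgroup.mul_mem _ h1 (Subgroup.inv_mem _ (le_sup_left (a := A) hs))
  · apply sup_le le_sup_right
    rintro _ ⟨s, hs, rfl⟩
    simp only [MulEquiv.coe_toMonoidHom, MulAut.conj_apply]
    have e : x * s * x⁻¹ = ⁅x, s⁆ * s := by rw [commutatorElement_def]; group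
    rw [e]
    exact Subgroup.mul_mem _ (le_sup_left (a := ⁅Q, A⁆) (Subgroup.commutator_mem_commutator hxQ hs))
      (le_sup_right (a := ⁅Q, A⁆) hs)

theorem Q_le_normalizer_E (h : FFS p V H Q) [Finite G] {A : Subgroup G} (hAH : A ≤ H)
    (hA : Cfsg.IsBestOffenderOn p V A) (hAc : Nat.card A = p) :
    Q ≤ Subgroup.normalizer ((⁅Q, A⁆ ⊔ A : Subgroup G) : Set G) := by
  have hp : p.Prime := Fact.out
  have hA1 : A ≠ ⊥ := by
    intro h1; rw [h1, Subgroup.card_bot] at hAc; exact hp.one_lt.ne hAc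
  obtain ⟨x, hxQ, hxA⟩ := h.exists_not_mem_centralizer hAH hA hA1
  rw [h.E_eq_pair hAH hA hAc hxQ hxA]
  intro q hq
  apply mem_normalizer_of_map_conj_le
  rw [Subgroup.map_sup]
  apply sup_le
  · exact h.conj_le_pair hAH hA hAc hxQ hxA hq
  · rw [Subgroup.map_map]
    have : (MulAut.conj q).toMonoidHom.comp (MulAut.conj x).toMonoidHom =
        (MulAut.conj (q * x)).toMonoidHom := by
      ext g; simp [MulAut.conj_apply, mul_assoc]
    rw [this]
    exact h.conj_le_pair hAH hA hAc hxQ hxA (Q.mul_mem hq hxQ)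

end FFS
end Cfsg.Agent.Lib.H3
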