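import Mathlib
import Cfsg.Agent.Lib.H3.OffenderE3
set_option autoImplicit false
open scoped commutatorElement
namespace Cfsg.Agent.Lib.H3

variable {G : Type*} [Group G]

/-- minimal offender: a best offender of order `p` inside `H`. -/
structure MO (p : ℕ) (V H A : Subgroup G) : Prop where
  le : A ≤ H
  bo : Cfsg.IsBestOffenderOn p V A
  card : Nat.card A = p

namespace MO
variable {p : ℕ} [Fact p.Prime] {V H Q A : Subgroup G}

theorem ne_bot (m : MO p V H A) : A ≠ ⊥ := by
  have hp : p.Prime := Fact.out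
  intro h1
  have := m.card
  rw [h1, Subgroup.card_bot] at this
  exact hp.one_lt.ne this

theorem conj [Finite G] (m : MO p V H A) (h : FFS p V H Q) {z : G} (hz : z ∈ H) :
    MO p V H (A.map (MulAut.conj z).toMonoidHom) :=
  ⟨h.map_conj_le m.le hz, h.conj_isBestOffender m.le m.bo hz, by rw [card_map_conj', m.card]⟩

theorem pow_eq_one (m : MO p V H A) {s : G} (hs : s ∈ A) : s ^ p = 1 := by
  have := orderOf_dvd_natCard (⟨s, hs⟩ : A)
  rw [Subgroup.orderOf_mk, m.card] at this
  exact orderOf_dvd_iff_pow_eq_one.1 this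

end MO

namespace FFS
variable {p : ℕ} [Fact p.Prime] {V H Q : Subgroup G}

/-- `⟨A, A^x⟩` acts irreducibly on its commutator plane. -/
theorem pair_irred (h : FFS p V H Q) [Finite G] {A : Subgroup G} (m : MO p V H A) {x : G}
    (hxQ : x ∈ Q) (hxA : x ∉ Subgroup.centralizer (A : Set G)) {F : Subgroup G}
    (hF : F ≤ ⁅V, A ⊔ A.map (MulAut.conj x).toMonoidHom⁆)
    (hAF : A ≤ Subgroup.normalizer (F : Set G))
    (hA'F : A.map (MulAut.conj x).toMonoidHom ≤ Subgroup.normalizer (F : Set G)) :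
    F = ⊥ ∨ F = ⁅V, A ⊔ A.map (MulAut.conj x).toMonoidHom⁆ := by
  have hp : p.Prime := Fact.out
  obtain ⟨hW, -, -, -, hinf, -⟩ := h.pair_structure_full m.le m.bo m.card hxQ hxA
  set L := A ⊔ A.map (MulAut.conj x).toMonoidHom with hL
  have hxH : x ∈ H := h.hQH hxQ
  have m' := m.conj h hxH
  have hLH : L ≤ H := sup_le m.le m'.le
  have hWV : ⁅V, L⁆ ≤ V := (Subgroup.le_normalizer_iff_commutator_le_left).mp (hLH.trans h.hHV)
  have hdvd : Nat.card F ∣ p ^ 2 := by rw [← hW]; exact Subgroup.card_dvd_of_le hF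
  obtain ⟨k, hk, hFk⟩ := (Nat.dvd_prime_pow hp).1 hdvd
  interval_cases k
  · left
    rw [pow_zero] at hFk
    exact Subgroup.card_eq_one.1 hFk
  · exfalso
    rw [pow_one] at hFk
    obtain ⟨u, hu, hu1, huo, huz⟩ := exists_zpowers_eq_of_card_prime hFk
    have key : ∀ B : Subgroup G, MO p V H B → B ≤ Subgroup.normalizer (F : Set G) →
        B ≤ Subgroup.centralizer (F : Set G) := by
      intro B mB hBF s hs
      have h1 : s * u * s⁻¹ ∈ Subgroup.zpowers u := by
        rw [huz]; exact (Subgroup.mem_normalizer_iff.1 (hBF hs) u).1 hu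
      have h2 := Cfsg.Agent.Lib.H26.conj_eq_of_pow_prime (p := p)
        ⟨1, by simpa using mB.pow_eq_one hs⟩ (by rw [← huo]; exact pow_orderOf_eq_one u) h1
      rw [← huz, ← Cfsg.Agent.Lib.H7.centralizer_singleton_eq_centralizer_zpowers,
        Subgroup.mem_centralizer_iff]
      intro g hg
      rw [Set.mem_singleton_iff] at hg
      rw [hg]
      calc u * s = (s * u * s⁻¹) * s := by rw [h2]
        _ = s * u := by group
    have h1 : L ≤ Subgroup.centralizer (F : Set G) := sup_le (key A m hAF) (key _ m' hA'F)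
    have h2 : F ≤ ⁅V, L⁆ ⊓ (V ⊓ Subgroup.centralizer (L : Set G)) :=
      le_inf hF (le_inf (hF.trans hWV) (Subgroup.le_centralizer_iff.1 h1))
    rw [hinf] at h2
    have : u = 1 := Subgroup.mem_bot.1 (h2 hu)
    exact hu1 this
  · right
    exact Subgroup.eq_of_le_of_card_ge hF (by rw [hW, hFk])

end FFS
end Cfsg.Agent.Lib.H3
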