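import Mathlib
import Cfsg.Agent.Lib.H3.OffenderE4
set_option autoImplicit false
open scoped commutatorElement
namespace Cfsg.Agent.Lib.H3

variable {G : Type*} [Group G]

namespace FFS
variable {p : ℕ} [Fact p.Prime] {V H Q : Subgroup G}

/-- generalization of `exists_hyperplane_noncentral` to elementary abelian subgroups. -/
theorem exists_hyperplane_noncentral' (h : FFS p V H Q) [Finite G] {A : Subgroup G} (hAH : A ≤ H)
    (hAc : ∀ a ∈ A, ∀ b ∈ A, a * b = b * a) (hAe : ∀ a ∈ A, a ^ p = 1) (hA1 : A ≠ ⊥) :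
    ∃ B : Subgroup G, B ≤ A ∧ B.relIndex A = p ∧
      ¬ (Q ⊓ Subgroup.centralizer (B : Set G) ≤ Subgroup.centralizer (A : Set G)) := by
  by_contra hcon0
  have hcon : ∀ B : Subgroup G, B ≤ A → B.relIndex A = p →
      Q ⊓ Subgroup.centralizer (B : Set G) ≤ Subgroup.centralizer (A : Set G) := by
    intro B hBA hBp
    by_contra h'
    exact hcon0 ⟨B, hBA, hBp, h'⟩
  have hAp : IsPGroup p A := by
    intro a
    refine ⟨1, Subtype.ext ?_⟩
    simpa using hAe a a.2
  have hAQ : A ≤ Subgroup.normalizer (Q : Set G) := hAH.trans h.hQn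
  have h1 : Q ≤ Cfsg.Agent.Lib.H7.hypGen p A Q :=
    Cfsg.Agent.Lib.H7.le_hypGen p hAc hAe h.hQp hAQ
  have h2 : Cfsg.Agent.Lib.H7.hypGen p A Q ≤ Subgroup.centralizer (A : Set G) := by
    unfold Cfsg.Agent.Lib.H7.hypGen
    apply iSup_le
    rintro ⟨B, hBA, hBi⟩
    rcases Cfsg.Agent.Lib.H7.eq_or_relIndex_eq_of_relIndex_le p hAp hBA hBi with rfl | hBp
    · exact inf_le_right
    · exact hcon B hBA hBp
  have h3 : A ≤ Subgroup.centralizer (Q : Set G) := Subgroup.le_centralizer_iff.1 (h1.trans h2)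
  apply hA1
  rw [eq_bot_iff]
  intro x hx
  rw [Subgroup.mem_bot]
  exact h.eq_one_of_centralizes (hAH hx) (hAe x hx) (h3 hx)

theorem sameCenter_aux (h : FFS p V H Q) [Finite G] {A B₁ : Subgroup G} (m : MO p V H A)
    (m₁ : MO p V H B₁) (hcomm : A ≤ Subgroup.centralizer (B₁ : Set G))
    (hD : ⁅V, B₁⁆ ≤ ⁅V, A⁆) {q : G} (hqQ : q ∈ Q) (hqB : q ∈ Subgroup.centralizer (B₁ : Set G))
    (hqA : q ∉ Subgroup.centralizer (A : Set G)) : False := by
  have hp : p.Prime := Fact.out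
  obtain ⟨hW, -, -, -, hinf, hsup⟩ := h.pair_structure_full m.le m.bo m.card hqQ hqA
  have hirr := fun F => h.pair_irred m hqQ hqA (F := F)
  set A' := A.map (MulAut.conj q).toMonoidHom with hA'
  set L := A ⊔ A' with hL
  have hqH : q ∈ H := h.hQH hqQ
  have m' : MO p V H A' := m.conj h hqH
  have hLH : L ≤ H := sup_le m.le m'.le
  have hLV : L ≤ Subgroup.normalizer (V : Set G) := hLH.trans h.hHV
  have hWV : ⁅V, L⁆ ≤ V := (Subgroup.le_normalizer_iff_commutator_le_left).mp hLV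
  have hA'c : A' ≤ Subgroup.centralizer (B₁ : Set G) := by
    rintro _ ⟨s, hs, rfl⟩
    simp only [MulEquiv.coe_toMonoidHom, MulAut.conj_apply]
    exact Subgroup.mul_mem _ (Subgroup.mul_mem _ hqB (hcomm hs)) (Subgroup.inv_mem _ hqB)
  have hLc : L ≤ Subgroup.centralizer (B₁ : Set G) := sup_le hcomm hA'c
  have hB₁L : B₁ ≤ Subgroup.centralizer (L : Set G) := Subgroup.le_centralizer_iff.1 hLc
  have hB₁V : B₁ ≤ Subgroup.normalizer (V : Set G) := m₁.le.trans h.hHV
  have hB₁W : B₁ ≤ Subgroup.normalizer ((⁅V, L⁆ : Subgroup G) : Set G) :=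
    le_normalizer_commutator' hB₁V (hB₁L.trans (Subgroup.centralizer_le_normalizer _))
  have hDW : ⁅V, A⁆ ≤ ⁅V, L⁆ := Subgroup.commutator_mono le_rfl le_sup_left
  have hqd := h.quadratic_of_card_p m.le m.bo m.card
  -- step 1
  have h1 : V ⊓ Subgroup.centralizer (L : Set G) ≤ Subgroup.centralizer (B₁ : Set G) := by
    rw [← Subgroup.commutator_eq_bot_iff_le_centralizer, eq_bot_iff, Subgroup.commutator_le]
    intro v hv b hb
    rw [← hinf]
    refine ⟨hDW (hD (Subgroup.commutator_mem_commutator hv.1 hb)), ?_, ?_⟩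
    · rw [commutatorElement_def]
      have := (Subgroup.mem_normalizer_iff.1 (hB₁V hb) v⁻¹).1 (V.inv_mem hv.1)
      have e : v * b * v⁻¹ * b⁻¹ = v * (b * v⁻¹ * b⁻¹) := by group
      rw [e]
      exact V.mul_mem hv.1 this
    · rw [commutatorElement_def]
      exact Subgroup.mul_mem _ (Subgroup.mul_mem _ (Subgroup.mul_mem _ hv.2 (hB₁L hb))
        (Subgroup.inv_mem _ hv.2)) (Subgroup.inv_mem _ (hB₁L hb))
  -- step 2
  have h2 : ⁅V, L⁆ ≤ Subgroup.centralizer (B₁ : Set G) := by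
    rw [← Subgroup.commutator_eq_bot_iff_le_centralizer]
    have hF1 : ⁅⁅V, L⁆, B₁⁆ ≤ ⁅V, L⁆ := (Subgroup.le_normalizer_iff_commutator_le_left).mp hB₁W
    have hF2 : ⁅⁅V, L⁆, B₁⁆ ≤ ⁅V, A⁆ := (Subgroup.commutator_mono hWV le_rfl).trans hD
    have hLW : L ≤ Subgroup.normalizer ((⁅V, L⁆ : Subgroup G) : Set G) :=
      le_normalizer_commutator' hLV Subgroup.le_normalizer
    have hLB : L ≤ Subgroup.normalizer (B₁ : Set G) :=
      hLc.trans (Subgroup.centralizer_le_normalizer _)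
    have hLF : L ≤ Subgroup.normalizer ((⁅⁅V, L⁆, B₁⁆ : Subgroup G) : Set G) :=
      le_normalizer_commutator' hLW hLB
    rcases hirr _ hF1 (le_sup_left.trans hLF) (le_sup_right.trans hLF) with h3 | h3
    · exact h3
    · exfalso
      have h4 : Nat.card ↥(⁅V, L⁆) ≤ Nat.card ↥(⁅V, A⁆) := by
        rw [← h3]; exact Subgroup.card_le_of_le hF2
      rw [hW, hqd.1] at h4
      have := hp.one_lt
      nlinarith
  have h3 : V ≤ Subgroup.centralizer (B₁ : Set G) := by
    rw [← hsup]; exact sup_le h2 h1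
  have h4 : B₁ ≤ H ⊓ Subgroup.centralizer (V : Set G) :=
    le_inf m₁.le (Subgroup.le_centralizer_iff.1 h3)
  rw [h.hf] at h4
  exact m₁.ne_bot (eq_bot_iff.2 h4)

end FFS
end Cfsg.Agent.Lib.H3
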