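import Mathlib
import Cfsg.Agent.Lib.H3.OffenderE5
set_option autoImplicit false
open scoped commutatorElement
namespace Cfsg.Agent.Lib.H3

variable {G : Type*} [Group G]

namespace FFS
variable {p : ℕ} [Fact p.Prime] {V H Q : Subgroup G}

/-- an order `p` subgroup whose commutator with `V` has order at most `p` is a minimal offender -/
theorem mo_of_commutator_le (h : FFS p V H Q) [Finite G] {B D : Subgroup G} (hBH : B ≤ H)
    (hBc : Nat.card B = p) (hDc : Nat.card D = p) (hBD : ⁅V, B⁆ ≤ D) : MO p V H B := by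
  have hp : p.Prime := Fact.out
  refine ⟨hBH, ?_, hBc⟩
  obtain ⟨c, hc, hc1, hco, hcz⟩ := exists_zpowers_eq_of_card_prime hBc
  have hcV : c ∈ Subgroup.normalizer (V : Set G) := h.hHV (hBH hc)
  have h1 := card_commutator_zpowers h.comm_V hcV
  rw [hcz] at h1
  have h2 : Nat.card ↥(⁅V, B⁆) ≤ p := by
    rw [← hDc]; exact Subgroup.card_le_of_le hBD
  have h3 : Nat.card V ≤ p * Nat.card ↥(V ⊓ Subgroup.centralizer (B : Set G)) := by
    rw [← h1]; exact Nat.mul_le_mul_right _ h2
  have hBcomm : ∀ a ∈ B, ∀ b ∈ B, a * b = b * a := by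
    intro a ha b hb
    rw [← hcz] at ha hb
    obtain ⟨i, rfl⟩ := ha
    obtain ⟨j, rfl⟩ := hb
    exact (Commute.zpow_zpow_self c i j).eq
  refine ⟨?_, ?_, ?_⟩
  · intro B' hB'
    have hdvd : Nat.card B' ∣ p := by rw [← hBc]; exact Subgroup.card_dvd_of_le hB'
    rcases (Nat.dvd_prime hp).1 hdvd with h4 | h4
    · have : B' = ⊥ := Subgroup.card_eq_one.1 h4
      subst this
      rw [inf_centralizer_bot, Subgroup.card_bot, one_mul, hBc]
      exact h3
    · have : B' = B := Subgroup.eq_of_le_of_card_ge hB' (by rw [h4, hBc])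
      rw [this]
  · have : ⁅B, B⁆ = ⊥ := by
      rw [Subgroup.commutator_eq_bot_iff_le_centralizer]
      intro b hb
      rw [Subgroup.mem_centralizer_iff]
      intro c' hc'
      exact hBcomm c' hc' b hb
    rw [this]; exact bot_le
  · intro a ha
    have : a ^ p = 1 := by
      have := orderOf_dvd_natCard (⟨a, ha⟩ : B)
      rw [Subgroup.orderOf_mk, hBc] at this
      exact orderOf_dvd_iff_pow_eq_one.1 this
    rw [this]; exact Subgroup.one_mem _

/-- minimal offenders with the same commutator on `V` coincide. -/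
theorem sameCenter (h : FFS p V H Q) [Finite G] {A B : Subgroup G} (mA : MO p V H A)
    (mB : MO p V H B) (hD : ⁅V, A⁆ = ⁅V, B⁆) : A = B := by
  have hp : p.Prime := Fact.out
  by_contra hne
  obtain ⟨hDc, hAD⟩ := h.quadratic_of_card_p mA.le mA.bo mA.card
  obtain ⟨-, hBD⟩ := h.quadratic_of_card_p mB.le mB.bo mB.card
  rw [← hD] at hBD
  set D := ⁅V, A⁆ with hDdef
  have hAV : A ≤ Subgroup.normalizer (V : Set G) := mA.le.trans h.hHV
  have hBV : B ≤ Subgroup.normalizer (V : Set G) := mB.le.trans h.hHV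
  have hDV : D ≤ V := (Subgroup.le_normalizer_iff_commutator_le_left).mp hAV
  have hVc := h.comm_V
  -- elements of A and B commute
  have hcomm : ∀ a ∈ A, ∀ b ∈ B, a * b = b * a := by
    intro a ha b hb
    have hc : (b * a)⁻¹ * (a * b) ∈ H ⊓ Subgroup.centralizer (V : Set G) := by
      refine ⟨H.mul_mem (H.inv_mem (H.mul_mem (mB.le hb) (mA.le ha)))
        (H.mul_mem (mA.le ha) (mB.le hb)), ?_⟩
      show (b * a)⁻¹ * (a * b) ∈ Subgroup.centralizer (V : Set G)
      rw [Subgroup.mem_centralizer_iff]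
      intro v hv
      have hda : a * v * a⁻¹ * v⁻¹ ∈ D := by
        have := Subgroup.commutator_mem_commutator ha hv
        rw [Subgroup.commutator_comm] at this
        rwa [commutatorElement_def] at this
      have hdb : b * v * b⁻¹ * v⁻¹ ∈ D := by
        have := Subgroup.commutator_mem_commutator hb hv
        rw [Subgroup.commutator_comm, ← hD] at this
        rwa [commutatorElement_def] at this
      set da := a * v * a⁻¹ * v⁻¹ with hda'
      set db := b * v * b⁻¹ * v⁻¹ with hdb'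
      have e1 : a * v * a⁻¹ = da * v := by rw [hda']; group
      have e2 : b * v * b⁻¹ = db * v := by rw [hdb']; group
      have e3 : a * db * a⁻¹ = db := by
        have := Subgroup.mem_centralizer_iff.1 (hAD ha) db hdb
        rw [← this]; group
      have e4 : b * da * b⁻¹ = da := by
        have := Subgroup.mem_centralizer_iff.1 (hBD hb) da hda
        rw [← this]; group
      have e5 : da * db = db * da := hVc da (hDV hda) db (hDV hdb)
      have e6 : (a * b) * v * (a * b)⁻¹ = (b * a) * v * (b * a)⁻¹ := by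
        calc (a * b) * v * (a * b)⁻¹ = a * (b * v * b⁻¹) * a⁻¹ := by group
          _ = a * (db * v) * a⁻¹ := by rw [e2]
          _ = (a * db * a⁻¹) * (a * v * a⁻¹) := by group
          _ = db * (da * v) := by rw [e3, e1]
          _ = da * (db * v) := by rw [← mul_assoc, ← e5, mul_assoc]
          _ = (b * da * b⁻¹) * (b * v * b⁻¹) := by rw [e4, e2]
          _ = b * (a * v * a⁻¹) * b⁻¹ := by rw [e1]; group
          _ = (b * a) * v * (b * a)⁻¹ := by group
      calc v * ((b * a)⁻¹ * (a * b)) = (b * a)⁻¹ * ((b * a) * v * (b * a)⁻¹) * (a * b) := by group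
        _ = (b * a)⁻¹ * ((a * b) * v * (a * b)⁻¹) * (a * b) := by rw [e6]
        _ = (b * a)⁻¹ * (a * b) * v := by group
    rw [h.hf, Subgroup.mem_bot] at hc
    calc a * b = (b * a) * ((b * a)⁻¹ * (a * b)) := by group
      _ = b * a := by rw [hc, mul_one]
  have hAcomm := h.bo_comm mA.le mA.bo
  have hBcomm := h.bo_comm mB.le mB.bo
  have hAB : B ≤ Subgroup.centralizer (A : Set G) := by
    intro b hb
    rw [Subgroup.mem_centralizer_iff]
    intro a ha
    exact hcomm a ha b hb
  have hBA : A ≤ Subgroup.centralizer (B : Set G) := Subgroup.le_centralizer_iff.1 hAB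
  have hAA : A ≤ Subgroup.centralizer (A : Set G) := by
    intro b hb
    rw [Subgroup.mem_centralizer_iff]
    intro a ha
    exact hAcomm a ha b hb
  have hBB : B ≤ Subgroup.centralizer (B : Set G) := by
    intro b hb
    rw [Subgroup.mem_centralizer_iff]
    intro a ha
    exact hBcomm a ha b hb
  set T := A ⊔ B with hT
  have hTA : T ≤ Subgroup.centralizer (A : Set G) := sup_le hAA hAB
  have hTB : T ≤ Subgroup.centralizer (B : Set G) := sup_le hBA hBB
  have hTT : T ≤ Subgroup.centralizer (T : Set G) :=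
    sup_le (Subgroup.le_centralizer_iff.1 hTA) (Subgroup.le_centralizer_iff.1 hTB)
  have hTc : ∀ a ∈ T, ∀ b ∈ T, a * b = b * a := by
    intro a ha b hb
    exact Subgroup.mem_centralizer_iff.1 (hTT hb) a ha
  have hcoe := Subgroup.coe_mul_of_right_le_normalizer_left A B
    (hAB.trans (Subgroup.centralizer_le_normalizer _))
  have hTmem : ∀ t ∈ T, ∃ a ∈ A, ∃ b ∈ B, t = a * b := by
    intro t ht
    have ht' : t ∈ ((A ⊔ B : Subgroup G) : Set G) := ht
    rw [hcoe] at ht'
    obtain ⟨a, ha, b, hb, rfl⟩ := ht'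
    exact ⟨a, ha, b, hb, rfl⟩
  have hTe : ∀ t ∈ T, t ^ p = 1 := by
    intro t ht
    obtain ⟨a, ha, b, hb, rfl⟩ := hTmem t ht
    rw [(Commute.mul_pow (hcomm a ha b hb)), mA.pow_eq_one ha, mB.pow_eq_one hb, one_mul]
  have hTH : T ≤ H := sup_le mA.le mB.le
  have hTV : ∀ t ∈ T, ∀ v ∈ V, ⁅v, t⁆ ∈ D := by
    intro t ht v hv
    obtain ⟨a, ha, b, hb, rfl⟩ := hTmem t ht
    have h1 : ⁅v, a⁆ ∈ D := Subgroup.commutator_mem_commutator hv ha
    have h2 : ⁅v, b⁆ ∈ D := by rw [hD]; exact Subgroup.commutator_mem_commutator hv hb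
    have e : ⁅v, a * b⁆ = ⁅v, a⁆ * (a * ⁅v, b⁆ * a⁻¹) := by
      simp only [commutatorElement_def]; group
    have e2 : a * ⁅v, b⁆ * a⁻¹ = ⁅v, b⁆ := by
      have := Subgroup.mem_centralizer_iff.1 (hAD ha) _ h2
      rw [← this]; group
    rw [e, e2]
    exact D.mul_mem h1 h2
  have hinf : A ⊓ B = ⊥ := by
    have hdvd : Nat.card ↥(A ⊓ B) ∣ p := by rw [← mA.card]; exact Subgroup.card_dvd_of_le inf_le_left
    rcases (Nat.dvd_prime hp).1 hdvd with h4 | h4
    · exact Subgroup.card_eq_one.1 h4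
    · exfalso
      have h5 : A ⊓ B = A := Subgroup.eq_of_le_of_card_ge inf_le_left (by rw [h4, mA.card])
      have h6 : A ⊓ B = B := Subgroup.eq_of_le_of_card_ge inf_le_right (by rw [h4, mB.card])
      exact hne (h5.symm.trans h6)
  have hTcard : Nat.card T = p * p := by
    rw [hT, card_sup_of_inf_eq_bot hTc le_sup_left le_sup_right hinf, mA.card, mB.card]
  have hT1 : T ≠ ⊥ := by
    intro h1
    apply mA.ne_bot
    rw [eq_bot_iff, ← h1]; exact le_sup_left
  obtain ⟨B₁, hB₁T, hB₁i, hnc⟩ := h.exists_hyperplane_noncentral' hTH hTc hTe hT1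
  have hB₁c : Nat.card B₁ = p := by
    have := Cfsg.Agent.Lib.H7.card_mul_relIndex_of_le hB₁T
    rw [hB₁i, hTcard] at this
    exact Nat.eq_of_mul_eq_mul_right hp.pos this
  have hB₁D : ⁅V, B₁⁆ ≤ D := by
    rw [Subgroup.commutator_le]
    intro v hv t ht
    exact hTV t (hB₁T ht) v hv
  have m₁ : MO p V H B₁ := h.mo_of_commutator_le (hB₁T.trans hTH) hB₁c hDc hB₁D
  obtain ⟨q, ⟨hqQ, hqB₁⟩, hqT⟩ := SetLike.not_le_iff_exists.1 hnc
  have hq : q ∉ Subgroup.centralizer (A : Set G) ∨ q ∉ Subgroup.centralizer (B : Set G) := by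
    by_contra hcon
    push Not at hcon
    apply hqT
    have h1 : A ⊔ B ≤ Subgroup.centralizer ((Subgroup.zpowers q : Subgroup G) : Set G) :=
      sup_le (Subgroup.le_centralizer_iff.1 ((Subgroup.zpowers_le).2 hcon.1))
        (Subgroup.le_centralizer_iff.1 ((Subgroup.zpowers_le).2 hcon.2))
    exact (Subgroup.le_centralizer_iff.1 h1) (Subgroup.mem_zpowers q)
  rcases hq with hq | hq
  · exact h.sameCenter_aux mA m₁ (hB₁T.trans hTA |> Subgroup.le_centralizer_iff.1) hB₁D hqQ hqB₁ hq
  · refine h.sameCenter_aux mB m₁ (hB₁T.trans hTB |> Subgroup.le_centralizer_iff.1) ?_ hqQ hqB₁ hq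
    rw [← hD]; exact hB₁D

end FFS
end Cfsg.Agent.Lib.H3
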