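import Mathlib
import Cfsg.Agent.Lib.H3.OffenderE6
set_option autoImplicit false
open scoped commutatorElement
namespace Cfsg.Agent.Lib.H3

variable {G : Type*} [Group G]

namespace FFS
variable {p : ℕ} [Fact p.Prime] {V H Q : Subgroup G}

theorem exists_E_eq_pair (h : FFS p V H Q) [Finite G] {A : Subgroup G} (m : MO p V H A) :
    ∃ x ∈ Q, x ∉ Subgroup.centralizer (A : Set G) ∧
      ⁅Q, A⁆ ⊔ A = A ⊔ A.map (MulAut.conj x).toMonoidHom := by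
  obtain ⟨x, hxQ, hxA⟩ := h.exists_not_mem_centralizer m.le m.bo m.ne_bot
  exact ⟨x, hxQ, hxA, h.E_eq_pair m.le m.bo m.card hxQ hxA⟩

theorem E_le (h : FFS p V H Q) {A : Subgroup G} (hAH : A ≤ H) : ⁅Q, A⁆ ⊔ A ≤ H := by
  refine sup_le ?_ hAH
  rw [Subgroup.commutator_le]
  intro q hq a ha
  rw [commutatorElement_def]
  exact H.mul_mem (H.mul_mem (H.mul_mem (h.hQH hq) (hAH ha)) (H.inv_mem (h.hQH hq)))
    (H.inv_mem (hAH ha))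

theorem comm_le_Q (h : FFS p V H Q) {A : Subgroup G} (hAH : A ≤ H) : ⁅Q, A⁆ ≤ Q := by
  rw [Subgroup.commutator_le]
  intro q hq a ha
  rw [commutatorElement_def]
  have h1 : a * q⁻¹ * a⁻¹ ∈ Q :=
    (Subgroup.mem_normalizer_iff.1 (h.hQn (hAH ha)) q⁻¹).1 (Q.inv_mem hq)
  have e : q * a * q⁻¹ * a⁻¹ = q * (a * q⁻¹ * a⁻¹) := by group
  rw [e]
  exact Q.mul_mem hq h1

theorem E_le_normalizer_V (h : FFS p V H Q) {A : Subgroup G} (hAH : A ≤ H) :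
    ⁅Q, A⁆ ⊔ A ≤ Subgroup.normalizer (V : Set G) := (h.E_le hAH).trans h.hHV

theorem W_le_V (h : FFS p V H Q) {A : Subgroup G} (hAH : A ≤ H) : ⁅V, ⁅Q, A⁆ ⊔ A⁆ ≤ V :=
  (Subgroup.le_normalizer_iff_commutator_le_left).mp (h.E_le_normalizer_V hAH)

theorem E_le_normalizer_W (h : FFS p V H Q) {A : Subgroup G} (hAH : A ≤ H) :
    ⁅Q, A⁆ ⊔ A ≤ Subgroup.normalizer ((⁅V, ⁅Q, A⁆ ⊔ A⁆ : Subgroup G) : Set G) :=
  le_normalizer_commutator' (h.E_le_normalizer_V hAH) Subgroup.le_normalizer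

theorem card_W (h : FFS p V H Q) [Finite G] {A : Subgroup G} (m : MO p V H A) :
    Nat.card ↥(⁅V, ⁅Q, A⁆ ⊔ A⁆) = p ^ 2 := by
  obtain ⟨x, hxQ, hxA, hE⟩ := h.exists_E_eq_pair m
  rw [hE]
  exact (h.pair_structure_full m.le m.bo m.card hxQ hxA).1

theorem E_faithful (h : FFS p V H Q) [Finite G] {A : Subgroup G} (m : MO p V H A) :
    (⁅Q, A⁆ ⊔ A) ⊓ Subgroup.centralizer ((⁅V, ⁅Q, A⁆ ⊔ A⁆ : Subgroup G) : Set G) = ⊥ := by
  obtain ⟨x, hxQ, hxA, hE⟩ := h.exists_E_eq_pair m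
  rw [hE]
  exact (h.pair_structure_full m.le m.bo m.card hxQ hxA).2.1

theorem W_inf (h : FFS p V H Q) [Finite G] {A : Subgroup G} (m : MO p V H A) :
    ⁅V, ⁅Q, A⁆ ⊔ A⁆ ⊓ (V ⊓ Subgroup.centralizer ((⁅Q, A⁆ ⊔ A : Subgroup G) : Set G)) = ⊥ := by
  obtain ⟨x, hxQ, hxA, hE⟩ := h.exists_E_eq_pair m
  rw [hE]
  exact (h.pair_structure_full m.le m.bo m.card hxQ hxA).2.2.2.2.1

theorem W_sup (h : FFS p V H Q) [Finite G] {A : Subgroup G} (m : MO p V H A) :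
    ⁅V, ⁅Q, A⁆ ⊔ A⁆ ⊔ (V ⊓ Subgroup.centralizer ((⁅Q, A⁆ ⊔ A : Subgroup G) : Set G)) = V := by
  obtain ⟨x, hxQ, hxA, hE⟩ := h.exists_E_eq_pair m
  rw [hE]
  exact (h.pair_structure_full m.le m.bo m.card hxQ hxA).2.2.2.2.2

theorem E_irred (h : FFS p V H Q) [Finite G] {A : Subgroup G} (m : MO p V H A) {F : Subgroup G}
    (hF : F ≤ ⁅V, ⁅Q, A⁆ ⊔ A⁆) (hEF : ⁅Q, A⁆ ⊔ A ≤ Subgroup.normalizer (F : Set G)) :
    F = ⊥ ∨ F = ⁅V, ⁅Q, A⁆ ⊔ A⁆ := by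
  obtain ⟨x, hxQ, hxA, hE⟩ := h.exists_E_eq_pair m
  rw [hE] at hF hEF ⊢
  exact h.pair_irred m hxQ hxA hF (le_sup_left.trans hEF) (le_sup_right.trans hEF)

theorem E_cover (h : FFS p V H Q) [Finite G] {A : Subgroup G} (m : MO p V H A) {w : G}
    (hw : w ∈ ⁅V, ⁅Q, A⁆ ⊔ A⁆) : ∃ q ∈ Q, w ∈ ⁅V, A.map (MulAut.conj q).toMonoidHom⁆ := by
  obtain ⟨x, hxQ, hxA, hE⟩ := h.exists_E_eq_pair m
  rw [hE] at hw
  obtain ⟨q, hq, -, hwq⟩ := h.exists_conj_center_mem m.le m.bo m.card hxQ hxA hw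
  exact ⟨q, hq, hwq⟩

theorem map_conj_Q (h : FFS p V H Q) {q : G} (hq : q ∈ Q) :
    Q.map (MulAut.conj q).toMonoidHom = Q :=
  Subgroup.mem_normalizer_iff_map_conj_eq.1 (Subgroup.le_normalizer hq)

theorem E_conj (h : FFS p V H Q) [Finite G] {A : Subgroup G} (m : MO p V H A) {q : G}
    (hq : q ∈ Q) :
    ⁅Q, A.map (MulAut.conj q).toMonoidHom⁆ ⊔ A.map (MulAut.conj q).toMonoidHom = ⁅Q, A⁆ ⊔ A := by
  have h1 : (⁅Q, A⁆ ⊔ A).map (MulAut.conj q).toMonoidHom = ⁅Q, A⁆ ⊔ A :=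
    Subgroup.mem_normalizer_iff_map_conj_eq.1 (h.Q_le_normalizer_E m.le m.bo m.card hq)
  rw [Subgroup.map_sup, Subgroup.map_commutator, h.map_conj_Q hq] at h1
  exact h1

theorem A_le_centralizer_comm (h : FFS p V H Q) [Finite G] {A : Subgroup G} (m : MO p V H A) :
    A ≤ Subgroup.centralizer ((⁅V, A⁆ : Subgroup G) : Set G) :=
  (h.quadratic_of_card_p m.le m.bo m.card).2

theorem card_comm (h : FFS p V H Q) [Finite G] {A : Subgroup G} (m : MO p V H A) :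
    Nat.card ↥(⁅V, A⁆) = p :=
  (h.quadratic_of_card_p m.le m.bo m.card).1

end FFS
end Cfsg.Agent.Lib.H3
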