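import Mathlib
import Cfsg.Agent.Lib.H3.OffenderE7
set_option autoImplicit false
open scoped commutatorElement
namespace Cfsg.Agent.Lib.H3

variable {G : Type*} [Group G]

theorem eq_of_card_prime_of_mem [Finite G] {p : ℕ} [Fact p.Prime] {X Y : Subgroup G}
    (hX : Nat.card X = p) (hY : Nat.card Y = p) {w : G} (hw1 : w ≠ 1) (hwX : w ∈ X)
    (hwY : w ∈ Y) : X = Y := by
  have hp : p.Prime := Fact.out
  have key : ∀ Z : Subgroup G, Nat.card Z = p → w ∈ Z → Subgroup.zpowers w = Z := by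
    intro Z hZ hwZ
    have hle : Subgroup.zpowers w ≤ Z := (Subgroup.zpowers_le).2 hwZ
    have hdvd : Nat.card (Subgroup.zpowers w) ∣ p := by
      rw [← hZ]; exact Subgroup.card_dvd_of_le hle
    rcases (Nat.dvd_prime hp).1 hdvd with h1 | h1
    · exfalso
      have h2 : Subgroup.zpowers w = ⊥ := Subgroup.card_eq_one.1 h1
      exact hw1 (Subgroup.zpowers_eq_bot.1 h2)
    · exact Subgroup.eq_of_le_of_card_ge hle (by rw [h1, hZ])
  rw [← key X hX hwX, ← key Y hY hwY]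

theorem conj_mem_centralizer_of_mem_normalizer {W : Subgroup G} {e x : G}
    (he : e ∈ Subgroup.normalizer (W : Set G)) (hx : x ∈ Subgroup.centralizer (W : Set G)) :
    e * x * e⁻¹ ∈ Subgroup.centralizer (W : Set G) := by
  rw [Subgroup.mem_centralizer_iff]
  intro w hw
  have h1 : e⁻¹ * w * e ∈ W := by
    have := (Subgroup.mem_normalizer_iff.1 (Subgroup.inv_mem _ he) w).1 hw
    simpa using this
  have h2 := Subgroup.mem_centralizer_iff.1 hx _ h1
  calc w * (e * x * e⁻¹) = e * ((e⁻¹ * w * e) * x) * e⁻¹ := by group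
    _ = e * (x * (e⁻¹ * w * e)) * e⁻¹ := by rw [h2]
    _ = e * x * e⁻¹ * w := by group

theorem le_normalizer_inf {K X Y : Subgroup G}
    (hX : K ≤ Subgroup.normalizer (X : Set G)) (hY : K ≤ Subgroup.normalizer (Y : Set G)) :
    K ≤ Subgroup.normalizer ((X ⊓ Y : Subgroup G) : Set G) := by
  intro k hk
  rw [Subgroup.mem_normalizer_iff]
  intro g
  rw [Subgroup.mem_inf, Subgroup.mem_inf, ← Subgroup.mem_normalizer_iff.1 (hX hk) g,
    ← Subgroup.mem_normalizer_iff.1 (hY hk) g]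

namespace MO
variable {p : ℕ} [Fact p.Prime] {V H Q A : Subgroup G}

theorem le_centralizer_of_le_normalizer [Finite G] (mB : MO p V H A) {F : Subgroup G}
    (hFc : Nat.card F = p) (hBF : A ≤ Subgroup.normalizer (F : Set G)) :
    A ≤ Subgroup.centralizer (F : Set G) := by
  obtain ⟨u, hu, hu1, huo, huz⟩ := exists_zpowers_eq_of_card_prime hFc
  intro s hs
  have h1 : s * u * s⁻¹ ∈ Subgroup.zpowers u := by
    rw [huz]; exact (Subgroup.mem_normalizer_iff.1 (hBF hs) u).1 hu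
  have h2 := Cfsg.Agent.Lib.H26.conj_eq_of_pow_prime (p := p)
    ⟨1, by simpa using mB.pow_eq_one hs⟩ (by rw [← huo]; exact pow_orderOf_eq_one u) h1
  rw [← huz, ← Cfsg.Agent.Lib.H7.centralizer_singleton_eq_centralizer_zpowers,
    Subgroup.mem_centralizer_iff]
  intro g hg
  rw [Set.mem_singleton_iff] at hg
  rw [hg]
  calc u * s = (s * u * s⁻¹) * s := by rw [h2]
    _ = s * u := by group

end MO

namespace FFS
variable {p : ℕ} [Fact p.Prime] {V H Q : Subgroup G}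

/-- (α): planes meeting nontrivially belong to the same `E`. -/
theorem E_eq_of_W_inf_ne_bot (h : FFS p V H Q) [Finite G] {A B : Subgroup G} (mA : MO p V H A)
    (mB : MO p V H B) (hne : ⁅V, ⁅Q, A⁆ ⊔ A⁆ ⊓ ⁅V, ⁅Q, B⁆ ⊔ B⁆ ≠ ⊥) :
    ⁅Q, A⁆ ⊔ A = ⁅Q, B⁆ ⊔ B := by
  obtain ⟨⟨w, hw⟩, hw1'⟩ := (Subgroup.ne_bot_iff_exists_ne_one).1 hne
  have hw1 : w ≠ 1 := fun h1 => hw1' (Subtype.ext h1)
  obtain ⟨q, hq, hwq⟩ := h.E_cover mA hw.1
  obtain ⟨q', hq', hwq'⟩ := h.E_cover mB hw.2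
  have mA' := mA.conj h (h.hQH hq)
  have mB' := mB.conj h (h.hQH hq')
  have h1 := eq_of_card_prime_of_mem (h.card_comm mA') (h.card_comm mB') hw1 hwq hwq'
  have h2 := h.sameCenter mA' mB' h1
  rw [← h.E_conj mA hq, ← h.E_conj mB hq', h2]

/-- (β): planes meeting trivially: `B` centralizes `E_A` and its plane. -/
theorem centralizes_of_W_inf_eq_bot (h : FFS p V H Q) [Finite G] {A B : Subgroup G}
    (mA : MO p V H A) (mB : MO p V H B)
    (hdisj : ⁅V, ⁅Q, A⁆ ⊔ A⁆ ⊓ ⁅V, ⁅Q, B⁆ ⊔ B⁆ = ⊥) :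
    B ≤ Subgroup.centralizer ((⁅Q, A⁆ ⊔ A : Subgroup G) : Set G) ∧
      B ≤ Subgroup.centralizer ((⁅V, ⁅Q, A⁆ ⊔ A⁆ : Subgroup G) : Set G) := by
  have hp : p.Prime := Fact.out
  set EA := ⁅Q, A⁆ ⊔ A with hEA
  set EB := ⁅Q, B⁆ ⊔ B with hEB
  set X := EA ⊓ Q with hX
  have hEAH : EA ≤ H := h.E_le mA.le
  have hEAV : EA ≤ Subgroup.normalizer (V : Set G) := h.E_le_normalizer_V mA.le
  have hXQ : X ≤ Q := inf_le_right
  have hXE : X ≤ EA := inf_le_left
  have hXV : X ≤ Subgroup.normalizer (V : Set G) := hXE.trans hEAV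
  have hXEB : X ≤ Subgroup.normalizer (EB : Set G) :=
    hXQ.trans (h.Q_le_normalizer_E mB.le mB.bo mB.card)
  have hXWB : X ≤ Subgroup.normalizer ((⁅V, EB⁆ : Subgroup G) : Set G) :=
    le_normalizer_commutator' hXV hXEB
  have hQAX : ⁅Q, A⁆ ≤ X := le_inf le_sup_left (h.comm_le_Q mA.le)
  -- step 3
  have h3 : ⁅V, EB⁆ ≤ Subgroup.centralizer (X : Set G) := by
    rw [← Subgroup.commutator_eq_bot_iff_le_centralizer, eq_bot_iff, ← hdisj]
    refine le_inf ?_ ((Subgroup.le_normalizer_iff_commutator_le_left).mp hXWB)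
    exact Subgroup.commutator_mono (h.W_le_V mB.le) hXE
  have h3' : X ≤ Subgroup.centralizer ((⁅V, EB⁆ : Subgroup G) : Set G) :=
    Subgroup.le_centralizer_iff.1 h3
  -- step 4
  have h4 : EB ≤ Subgroup.centralizer (X : Set G) := by
    rw [← Subgroup.commutator_eq_bot_iff_le_centralizer, eq_bot_iff, ← h.E_faithful mB]
    refine le_inf ((Subgroup.le_normalizer_iff_commutator_le_left).mp hXEB) ?_
    rw [Subgroup.commutator_le]
    intro e he x hx
    rw [commutatorElement_def]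
    have h5 := conj_mem_centralizer_of_mem_normalizer (h.E_le_normalizer_W mB.le he) (h3' hx)
    exact Subgroup.mul_mem _ h5 (Subgroup.inv_mem _ (h3' hx))
  have hBX : B ≤ Subgroup.centralizer (X : Set G) := le_sup_right.trans h4
  -- step 5
  have hEAX : EA ≤ Subgroup.normalizer (X : Set G) :=
    le_normalizer_inf Subgroup.le_normalizer (hEAH.trans h.hQn)
  have h5 : ⁅V, X⁆ = ⁅V, EA⁆ := by
    have hF : ⁅V, X⁆ ≤ ⁅V, EA⁆ := Subgroup.commutator_mono le_rfl hXE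
    have hEF : EA ≤ Subgroup.normalizer ((⁅V, X⁆ : Subgroup G) : Set G) :=
      le_normalizer_commutator' hEAV hEAX
    rcases h.E_irred mA hF hEF with h6 | h6
    · exfalso
      rw [Subgroup.commutator_comm, Subgroup.commutator_eq_bot_iff_le_centralizer] at h6
      have h7 : X ≤ H ⊓ Subgroup.centralizer (V : Set G) := le_inf (hXE.trans hEAH) h6
      rw [h.hf] at h7
      have h8 : ⁅Q, A⁆ = ⊥ := eq_bot_iff.2 (hQAX.trans h7)
      rw [Subgroup.commutator_eq_bot_iff_le_centralizer] at h8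
      obtain ⟨x, hxQ, hxA⟩ := h.exists_not_mem_centralizer mA.le mA.bo mA.ne_bot
      exact hxA (h8 hxQ)
    · exact h6
  -- step 6
  have hBV : B ≤ Subgroup.normalizer (V : Set G) := mB.le.trans h.hHV
  have h6 : B ≤ Subgroup.normalizer ((⁅V, EA⁆ : Subgroup G) : Set G) := by
    rw [← h5]
    exact le_normalizer_commutator' hBV (hBX.trans (Subgroup.centralizer_le_normalizer _))
  -- step 7
  have h7 : ⁅V, EA⁆ ≤ Subgroup.centralizer (B : Set G) := by
    rw [← Subgroup.commutator_eq_bot_iff_le_centralizer, eq_bot_iff, ← hdisj]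
    refine le_inf ((Subgroup.le_normalizer_iff_commutator_le_left).mp h6) ?_
    exact Subgroup.commutator_mono (h.W_le_V mA.le) le_sup_right
  have h7' : B ≤ Subgroup.centralizer ((⁅V, EA⁆ : Subgroup G) : Set G) :=
    Subgroup.le_centralizer_iff.1 h7
  refine ⟨?_, h7'⟩
  -- step 8
  have hDW : ⁅V, A⁆ ≤ ⁅V, EA⁆ := Subgroup.commutator_mono le_rfl le_sup_right
  have h8 : B ≤ Subgroup.normalizer (A : Set G) := by
    intro b hb
    have mA' := mA.conj h (mB.le hb)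
    have h9 : ⁅V, A.map (MulAut.conj b).toMonoidHom⁆ = ⁅V, A⁆ := by
      have hbV : V.map (MulAut.conj b).toMonoidHom = V :=
        Subgroup.mem_normalizer_iff_map_conj_eq.1 (hBV hb)
      have hbD : (⁅V, A⁆).map (MulAut.conj b).toMonoidHom = ⁅V, A⁆ := by
        have hbc : b ∈ Subgroup.centralizer ((⁅V, A⁆ : Subgroup G) : Set G) :=
          Subgroup.centralizer_le (by exact_mod_cast hDW) (h7' hb)
        exact Subgroup.mem_normalizer_iff_map_conj_eq.1
          (Subgroup.centralizer_le_normalizer _ hbc)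
      rw [Subgroup.map_commutator, hbV] at hbD
      exact hbD
    have h10 := h.sameCenter mA' mA h9
    exact Subgroup.mem_normalizer_iff_map_conj_eq.2 h10
  have h9 : B ≤ Subgroup.centralizer (A : Set G) :=
    mB.le_centralizer_of_le_normalizer mA.card h8
  -- step 9
  rw [Subgroup.le_centralizer_iff]
  refine sup_le ?_ (Subgroup.le_centralizer_iff.1 h9)
  exact hQAX.trans (Subgroup.le_centralizer_iff.1 hBX)

theorem dichotomy (h : FFS p V H Q) [Finite G] {A B : Subgroup G} (mA : MO p V H A)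
    (mB : MO p V H B) :
    ⁅Q, A⁆ ⊔ A = ⁅Q, B⁆ ⊔ B ∨
      (B ≤ Subgroup.centralizer ((⁅Q, A⁆ ⊔ A : Subgroup G) : Set G) ∧
      B ≤ Subgroup.centralizer ((⁅V, ⁅Q, A⁆ ⊔ A⁆ : Subgroup G) : Set G)) := by
  by_cases hd : ⁅V, ⁅Q, A⁆ ⊔ A⁆ ⊓ ⁅V, ⁅Q, B⁆ ⊔ B⁆ = ⊥
  · exact Or.inr (h.centralizes_of_W_inf_eq_bot mA mB hd)
  · exact Or.inl (h.E_eq_of_W_inf_ne_bot mA mB hd)

/-- different `E`'s centralize each other. -/
theorem E_le_centralizer_of_ne (h : FFS p V H Q) [Finite G] {A B : Subgroup G} (mA : MO p V H A)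
    (mB : MO p V H B) (hne : ⁅Q, A⁆ ⊔ A ≠ ⁅Q, B⁆ ⊔ B) :
    ⁅Q, B⁆ ⊔ B ≤ Subgroup.centralizer ((⁅Q, A⁆ ⊔ A : Subgroup G) : Set G) ∧
      ⁅Q, B⁆ ⊔ B ≤ Subgroup.centralizer ((⁅V, ⁅Q, A⁆ ⊔ A⁆ : Subgroup G) : Set G) := by
  obtain ⟨y, hyQ, hyB, hE⟩ := h.exists_E_eq_pair mB
  have mB' := mB.conj h (h.hQH hyQ)
  have hE' := h.E_conj mB hyQ
  have h1 : B ≤ Subgroup.centralizer ((⁅Q, A⁆ ⊔ A : Subgroup G) : Set G) ∧
      B ≤ Subgroup.centralizer ((⁅V, ⁅Q, A⁆ ⊔ A⁆ : Subgroup G) : Set G) := by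
    rcases h.dichotomy mA mB with h2 | h2
    · exact absurd h2 hne
    · exact h2
  have h2 : B.map (MulAut.conj y).toMonoidHom ≤
        Subgroup.centralizer ((⁅Q, A⁆ ⊔ A : Subgroup G) : Set G) ∧
      B.map (MulAut.conj y).toMonoidHom ≤
        Subgroup.centralizer ((⁅V, ⁅Q, A⁆ ⊔ A⁆ : Subgroup G) : Set G) := by
    rcases h.dichotomy mA mB' with h2 | h2
    · rw [hE'] at h2
      exact absurd h2 hne
    · exact h2
  rw [hE]
  exact ⟨sup_le h1.1 h2.1, sup_le h1.2 h2.2⟩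

end FFS
end Cfsg.Agent.Lib.H3
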