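import Mathlib
import Cfsg.Agent.Lib.H3.OffenderE8
import Cfsg.Agent.Lib.H3.OffenderSL2c
set_option autoImplicit false
open scoped commutatorElement
namespace Cfsg.Agent.Lib.H3

variable {G : Type*} [Group G]

namespace FFS
variable {p : ℕ} [Fact p.Prime] {V H Q : Subgroup G}

theorem pair_iso (h : FFS p V H Q) [Finite G] {A : Subgroup G} (m : MO p V H A) {x : G}
    (hx : x ∈ Q) (hxA : x ∉ Subgroup.centralizer (A : Set G)) :
    (p = 2 ∨ p = 3) ∧
    Nonempty (↥(A ⊔ A.map (MulAut.conj x).toMonoidHom) ≃*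
      Matrix.SpecialLinearGroup (Fin 2) (ZMod p)) := by
  obtain ⟨h1, h2, h3, h4⟩ := h.pair_structure m.le m.bo m.card hx hxA
  set A' := A.map (MulAut.conj x).toMonoidHom with hA'
  set L := A ⊔ A' with hL
  have hxH : x ∈ H := h.hQH hx
  have m' : MO p V H A' := m.conj h hxH
  have hLH : L ≤ H := sup_le m.le m'.le
  have hLV : L ≤ Subgroup.normalizer (V : Set G) := hLH.trans h.hHV
  have hWV : ⁅V, L⁆ ≤ V := (Subgroup.le_normalizer_iff_commutator_le_left).mp hLV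
  have hLW : L ≤ Subgroup.normalizer ((⁅V, L⁆ : Subgroup G) : Set G) :=
    le_normalizer_commutator' hLV Subgroup.le_normalizer
  have hiso := exists_mulEquiv_SL2 (p := p)
    (fun a ha b hb => h.comm_V a (hWV ha) b (hWV hb)) (fun a ha => h.hV.2 a (hWV ha)) h1 hLW h2 rfl
    m.card m'.card h3
  refine ⟨?_, hiso⟩
  obtain ⟨e⟩ := hiso
  refine prime_le_three_of_SL2 e (Q.subgroupOf L) ?_ ?_
  · intro g hg hgp
    rw [Subgroup.mem_subgroupOf] at hg
    have hgp' : (g : G) ^ p = 1 := by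
      have := congrArg Subtype.val hgp
      simpa using this
    have h5 : orderOf (g : G) ∣ p := orderOf_dvd_of_pow_eq_one hgp'
    have h6 : orderOf (g : G) ∣ Nat.card Q := by
      have := orderOf_dvd_natCard (⟨(g : G), hg⟩ : Q)
      rwa [Subgroup.orderOf_mk] at this
    have h7 : orderOf (g : G) ∣ 1 := by
      have := Nat.dvd_gcd h6 h5
      rwa [Nat.Coprime.gcd_eq_one h.hQp] at this
    exact Subtype.ext (orderOf_eq_one_iff.1 (Nat.dvd_one.1 h7))
  · intro g g'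
    rw [Subgroup.mem_subgroupOf]
    have := h4 g g.2 g' g'.2
    have e : ((⁅g, g'⁆ : ↥L) : G) = ⁅(g : G), (g' : G)⁆ := by
      rw [commutatorElement_def, commutatorElement_def]; simp
    rw [e]
    exact this

theorem E_iso (h : FFS p V H Q) [Finite G] {A : Subgroup G} (m : MO p V H A) :
    (p = 2 ∨ p = 3) ∧
    Nonempty (↥(⁅Q, A⁆ ⊔ A) ≃* Matrix.SpecialLinearGroup (Fin 2) (ZMod p)) := by
  obtain ⟨x, hxQ, hxA, hE⟩ := h.exists_E_eq_pair m
  rw [hE]
  exact h.pair_iso m hxQ hxA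

/-- `H` is generated by the minimal offenders. -/
theorem le_of_forall_MO (h : FFS p V H Q) [Finite G]
    (hS3 : H = ⨆ A : {A : Subgroup G // A ≤ H ∧ Cfsg.IsBestOffenderOn p V A}, (A : Subgroup G))
    {S : Subgroup G} (hS : ∀ B, MO p V H B → B ≤ S) : H ≤ S := by
  calc H = ⨆ A : {A : Subgroup G // A ≤ H ∧ Cfsg.IsBestOffenderOn p V A}, (A : Subgroup G) := hS3
    _ ≤ S := by
      apply iSup_le
      rintro ⟨A', hA'H, hA'bo⟩
      obtain ⟨k, Bf, hB, hsup, -⟩ := h.exists_decomp _ A' rfl hA'H hA'bo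
      show A' ≤ S
      rw [← hsup]
      apply iSup_le
      intro i
      exact hS _ ⟨(hB i).1.trans hA'H, (hB i).2.1, (hB i).2.2⟩

theorem MO_le_E_or (h : FFS p V H Q) [Finite G] {A B : Subgroup G} (mA : MO p V H A)
    (mB : MO p V H B) :
    B ≤ ⁅Q, A⁆ ⊔ A ∨
      (B ≤ Subgroup.centralizer ((⁅Q, A⁆ ⊔ A : Subgroup G) : Set G) ∧
      B ≤ Subgroup.centralizer ((⁅V, ⁅Q, A⁆ ⊔ A⁆ : Subgroup G) : Set G)) := by
  rcases h.dichotomy mA mB with h1 | h1
  · left; rw [h1]; exact le_sup_right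
  · right; exact h1

theorem H_le_normalizer_E (h : FFS p V H Q) [Finite G]
    (hS3 : H = ⨆ A : {A : Subgroup G // A ≤ H ∧ Cfsg.IsBestOffenderOn p V A}, (A : Subgroup G))
    {A : Subgroup G} (mA : MO p V H A) :
    H ≤ Subgroup.normalizer ((⁅Q, A⁆ ⊔ A : Subgroup G) : Set G) := by
  apply h.le_of_forall_MO hS3
  intro B mB
  rcases h.MO_le_E_or mA mB with h1 | h1
  · exact h1.trans Subgroup.le_normalizer
  · exact h1.1.trans (Subgroup.centralizer_le_normalizer _)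

/-- `K = C_H([V,E])` centralizes `E`. -/
theorem K_le_centralizer_E (h : FFS p V H Q) [Finite G]
    (hS3 : H = ⨆ A : {A : Subgroup G // A ≤ H ∧ Cfsg.IsBestOffenderOn p V A}, (A : Subgroup G))
    {A : Subgroup G} (mA : MO p V H A) :
    H ⊓ Subgroup.centralizer ((⁅V, ⁅Q, A⁆ ⊔ A⁆ : Subgroup G) : Set G) ≤
      Subgroup.centralizer ((⁅Q, A⁆ ⊔ A : Subgroup G) : Set G) := by
  set E := ⁅Q, A⁆ ⊔ A with hE
  set K := H ⊓ Subgroup.centralizer ((⁅V, E⁆ : Subgroup G) : Set G) with hK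
  set K' := K ⊓ Subgroup.centralizer (E : Set G) with hK'
  have hK'E : K' ≤ Subgroup.normalizer (E : Set G) :=
    inf_le_right.trans (Subgroup.centralizer_le_normalizer _)
  have hH : H ≤ E ⊔ K' := by
    apply h.le_of_forall_MO hS3
    intro B mB
    rcases h.MO_le_E_or mA mB with h1 | h1
    · exact h1.trans le_sup_left
    · exact (le_inf (le_inf mB.le h1.2) h1.1).trans le_sup_right
  have hcoe := Subgroup.coe_mul_of_right_le_normalizer_left E K' hK'E
  intro k hk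
  have hk' : k ∈ ((E ⊔ K' : Subgroup G) : Set G) := hH hk.1
  rw [hcoe] at hk'
  obtain ⟨e, he, k', hk', rfl⟩ := hk'
  beta_reduce at hk ⊢
  have he' : e ∈ E ⊓ Subgroup.centralizer ((⁅V, E⁆ : Subgroup G) : Set G) := by
    refine ⟨he, ?_⟩
    have : e = (e * k') * k'⁻¹ := by group
    rw [this]
    exact Subgroup.mul_mem _ hk.2 (Subgroup.inv_mem _ hk'.1.2)
  rw [h.E_faithful mA, Subgroup.mem_bot] at he'
  rw [he', one_mul]
  exact hk'.2

theorem E_sup_K (h : FFS p V H Q) [Finite G]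
    (hS3 : H = ⨆ A : {A : Subgroup G // A ≤ H ∧ Cfsg.IsBestOffenderOn p V A}, (A : Subgroup G))
    {A : Subgroup G} (mA : MO p V H A) :
    (⁅Q, A⁆ ⊔ A) ⊔ (H ⊓ Subgroup.centralizer ((⁅V, ⁅Q, A⁆ ⊔ A⁆ : Subgroup G) : Set G)) = H := by
  apply le_antisymm
  · exact sup_le (h.E_le mA.le) inf_le_left
  · apply h.le_of_forall_MO hS3
    intro B mB
    rcases h.MO_le_E_or mA mB with h1 | h1
    · exact h1.trans le_sup_left
    · exact (le_inf mB.le h1.2).trans le_sup_right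

theorem E_inf_K (h : FFS p V H Q) [Finite G] {A : Subgroup G} (mA : MO p V H A) :
    (⁅Q, A⁆ ⊔ A) ⊓ (H ⊓ Subgroup.centralizer ((⁅V, ⁅Q, A⁆ ⊔ A⁆ : Subgroup G) : Set G)) = ⊥ := by
  rw [eq_bot_iff, ← h.E_faithful mA]
  exact le_inf inf_le_left (inf_le_right.trans inf_le_right)

theorem comm_E_K (h : FFS p V H Q) [Finite G]
    (hS3 : H = ⨆ A : {A : Subgroup G // A ≤ H ∧ Cfsg.IsBestOffenderOn p V A}, (A : Subgroup G))
    {A : Subgroup G} (mA : MO p V H A) :
    ⁅⁅Q, A⁆ ⊔ A, H ⊓ Subgroup.centralizer ((⁅V, ⁅Q, A⁆ ⊔ A⁆ : Subgroup G) : Set G)⁆ = ⊥ := by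
  rw [Subgroup.commutator_eq_bot_iff_le_centralizer, Subgroup.le_centralizer_iff]
  exact h.K_le_centralizer_E hS3 mA

theorem comm_V_K (h : FFS p V H Q) [Finite G]
    (hS3 : H = ⨆ A : {A : Subgroup G // A ≤ H ∧ Cfsg.IsBestOffenderOn p V A}, (A : Subgroup G))
    {A : Subgroup G} (mA : MO p V H A) :
    ⁅V, H ⊓ Subgroup.centralizer ((⁅V, ⁅Q, A⁆ ⊔ A⁆ : Subgroup G) : Set G)⁆ ≤
      V ⊓ Subgroup.centralizer ((⁅Q, A⁆ ⊔ A : Subgroup G) : Set G) := by
  set E := ⁅Q, A⁆ ⊔ A with hE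
  set K := H ⊓ Subgroup.centralizer ((⁅V, E⁆ : Subgroup G) : Set G) with hK
  refine le_inf ?_ ?_
  · exact (Subgroup.le_normalizer_iff_commutator_le_left).mp (inf_le_left.trans h.hHV)
  · rw [← Subgroup.commutator_eq_bot_iff_le_centralizer]
    apply Subgroup.commutator_commutator_eq_bot_of_rotate
    · have : ⁅K, E⁆ = ⊥ := by
        rw [Subgroup.commutator_comm]; exact h.comm_E_K hS3 mA
      rw [this, Subgroup.commutator_bot_left]
    · rw [Subgroup.commutator_comm E V, Subgroup.commutator_eq_bot_iff_le_centralizer,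
        Subgroup.le_centralizer_iff]
      exact inf_le_right

end FFS
end Cfsg.Agent.Lib.H3
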