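import Mathlib
import Cfsg.Agent.Lib.H3.OffenderE9
import Cfsg.Agent.Lib.H12.CardSL
set_option autoImplicit false
open scoped commutatorElement
namespace Cfsg.Agent.Lib.H3

variable {G : Type*} [Group G]

theorem card_sup_of_inf_eq_bot' [Finite G] {X Y : Subgroup G}
    (hYX : Y ≤ Subgroup.normalizer (X : Set G)) (hXY : X ⊓ Y = ⊥) :
    Nat.card ↥(X ⊔ Y) = Nat.card X * Nat.card Y := by
  have h1 := Cfsg.Agent.Lib.H7.card_sup_dvd_mul_of_le_normalizer hYX
  have h2 := card_mul_card_le X Y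
  rw [hXY, Subgroup.card_bot, mul_one] at h2
  exact le_antisymm (Nat.le_of_dvd (Nat.mul_pos Nat.card_pos Nat.card_pos) h1) h2

namespace FFS
variable {p : ℕ} [Fact p.Prime] {V H Q : Subgroup G}

theorem A_le_normalizer_comm (h : FFS p V H Q) {A : Subgroup G} (hAH : A ≤ H) :
    A ≤ Subgroup.normalizer ((⁅Q, A⁆ : Subgroup G) : Set G) :=
  le_normalizer_commutator' (hAH.trans h.hQn) Subgroup.le_normalizer

theorem comm_inf_A (h : FFS p V H Q) [Finite G] {A : Subgroup G} (m : MO p V H A) :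
    ⁅Q, A⁆ ⊓ A = ⊥ := by
  have hp : p.Prime := Fact.out
  rw [← Subgroup.card_eq_one]
  have h1 : Nat.card ↥(⁅Q, A⁆ ⊓ A) ∣ Nat.card Q :=
    Subgroup.card_dvd_of_le (inf_le_left.trans (h.comm_le_Q m.le))
  have h2 : Nat.card ↥(⁅Q, A⁆ ⊓ A) ∣ p := by
    rw [← m.card]; exact Subgroup.card_dvd_of_le inf_le_right
  have := Nat.dvd_gcd h1 h2
  rw [Nat.Coprime.gcd_eq_one h.hQp] at this
  exact Nat.dvd_one.1 this

theorem card_comm_Q (h : FFS p V H Q) [Finite G] {A : Subgroup G} (m : MO p V H A) :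
    Nat.card ↥(⁅Q, A⁆) = p ^ 2 - 1 := by
  have hp : p.Prime := Fact.out
  obtain ⟨-, ⟨e⟩⟩ := h.E_iso m
  have h1 := Nat.card_congr e.toEquiv
  rw [Cfsg.Agent.Lib.H12.card_SL2, ZMod.card,
    card_sup_of_inf_eq_bot' (h.A_le_normalizer_comm m.le) (h.comm_inf_A m), m.card, mul_comm] at h1
  exact Nat.eq_of_mul_eq_mul_left hp.pos h1

theorem E_le_normalizer_comm (h : FFS p V H Q) {A : Subgroup G} (hAH : A ≤ H) :
    ⁅Q, A⁆ ⊔ A ≤ Subgroup.normalizer ((⁅Q, A⁆ : Subgroup G) : Set G) :=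
  sup_le Subgroup.le_normalizer (h.A_le_normalizer_comm hAH)

/-- elements of `E` whose order is prime to `p` lie in `[Q, A]`. -/
theorem mem_comm_of_pow (h : FFS p V H Q) [Finite G] {A : Subgroup G} (m : MO p V H A)
    {g : G} (hg : g ∈ ⁅Q, A⁆ ⊔ A) {n : ℕ} (hn : n.Coprime p) (hgn : g ^ n = 1) : g ∈ ⁅Q, A⁆ := by
  have hp : p.Prime := Fact.out
  set X := ⁅Q, A⁆ with hX
  set E := X ⊔ A with hE
  have hXE : X ≤ E := le_sup_left
  haveI : (X.subgroupOf E).Normal :=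
    (Subgroup.normal_subgroupOf_iff_le_normalizer hXE).2 (h.E_le_normalizer_comm m.le)
  have hidx : (X.subgroupOf E).index = p := by
    have h1 := Cfsg.Agent.Lib.H7.card_mul_relIndex_of_le hXE
    rw [card_sup_of_inf_eq_bot' (h.A_le_normalizer_comm m.le) (h.comm_inf_A m), m.card] at h1
    exact Nat.eq_of_mul_eq_mul_left Nat.card_pos h1
  have h1 := Subgroup.pow_index_mem (X.subgroupOf E) ⟨g, hg⟩
  rw [hidx, Subgroup.mem_subgroupOf] at h1
  have h1' : g ^ p ∈ X := by simpa using h1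
  -- g = (g^p)^a for suitable a
  rcases Nat.lt_or_ge 1 n with hn2 | hn2
  · obtain ⟨a, -, ha⟩ := Nat.exists_mul_mod_eq_one_of_coprime hn.symm hn2
    have : g = (g ^ p) ^ a := by
      rw [← pow_mul, pow_eq_pow_mod _ hgn, ha, pow_one]
    rw [this]
    exact Subgroup.pow_mem _ h1' a
  · interval_cases n
    · simp at hn; exact absurd hn hp.one_lt.ne'
    · rw [pow_one] at hgn
      rw [hgn]; exact Subgroup.one_mem _

end FFS
end Cfsg.Agent.Lib.H3
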