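import Mathlib
import Cfsg.Agent.Lib.H3.OffenderE9
set_option autoImplicit false
open scoped commutatorElement
namespace Cfsg.Agent.Lib.H3

variable {G : Type*} [Group G]

theorem mem_sup_of_abelian {V X Y : Subgroup G} (hVc : ∀ x ∈ V, ∀ y ∈ V, x * y = y * x)
    (hX : X ≤ V) (hY : Y ≤ V) {g : G} (hg : g ∈ X ⊔ Y) : ∃ x ∈ X, ∃ y ∈ Y, g = x * y := by
  have hcoe := Subgroup.coe_mul_of_right_le_normalizer_left X Y
    (le_normalizer_of_le_abelian hVc hX hY)
  have hg' : g ∈ ((X ⊔ Y : Subgroup G) : Set G) := hg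
  rw [hcoe] at hg'
  obtain ⟨x, hx, y, hy, rfl⟩ := hg'
  exact ⟨x, hx, y, hy, rfl⟩

/-- abstract direct decomposition: planes `W i` with complements `C i` in an abelian `V`, where
`W j ≤ C i` for `j ≠ i`. -/
theorem decomp_aux {V : Subgroup G} (hVc : ∀ x ∈ V, ∀ y ∈ V, x * y = y * x)
    {ι : Type*} [DecidableEq ι] (W C : ι → Subgroup G) (hW : ∀ i, W i ≤ V)
    (hinf : ∀ i, W i ⊓ C i = ⊥) (hsup : ∀ i, W i ⊔ (V ⊓ C i) = V)
    (hne : ∀ i j, i ≠ j → W j ≤ C i) (s : Finset ι) :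
    (∀ m ∈ ⨆ i ∈ s, W i, (∀ i ∈ s, m ∈ C i) → m = 1) ∧
    (∀ v ∈ V, ∃ m ∈ ⨆ i ∈ s, W i, ∃ c ∈ V, (∀ i ∈ s, c ∈ C i) ∧ v = m * c) := by
  induction s using Finset.induction_on with
  | empty =>
    refine ⟨?_, ?_⟩
    · intro m hm _
      simp only [Finset.notMem_empty, not_false_eq_true, iSup_neg, iSup_bot,
        Subgroup.mem_bot] at hm
      exact hm
    · intro v hv
      exact ⟨1, Subgroup.one_mem _, v, hv, by simp, by simp⟩
  | insert a s has ih =>
    obtain ⟨ih1, ih2⟩ := ih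
    have hMV : (⨆ i ∈ s, W i) ≤ V := iSup₂_le fun i _ => hW i
    have hMC : (⨆ i ∈ s, W i) ≤ C a := by
      apply iSup₂_le
      intro i hi
      apply hne
      rintro rfl
      exact has hi
    refine ⟨?_, ?_⟩
    · intro m hm hmC
      rw [Finset.iSup_insert] at hm
      obtain ⟨w, hw, m', hm', rfl⟩ := mem_sup_of_abelian hVc (hW a) hMV hm
      have h1 : w ∈ W a ⊓ C a := by
        refine ⟨hw, ?_⟩
        have : w = (w * m') * m'⁻¹ := by group
        rw [this]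
        exact Subgroup.mul_mem _ (hmC a (Finset.mem_insert_self a s))
          (Subgroup.inv_mem _ (hMC hm'))
      rw [hinf a, Subgroup.mem_bot] at h1
      rw [h1, one_mul]
      apply ih1 m' hm'
      intro i hi
      have := hmC i (Finset.mem_insert_of_mem hi)
      rwa [h1, one_mul] at this
    · intro v hv
      obtain ⟨m, hm, c, hcV, hcC, rfl⟩ := ih2 v hv
      have hcsup : c ∈ W a ⊔ (V ⊓ C a) := by rw [hsup a]; exact hcV
      obtain ⟨w, hw, c', hc', rfl⟩ := mem_sup_of_abelian hVc (hW a) inf_le_left hcsup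
      clear hcsup
      refine ⟨w * m, ?_, c', hc'.1, ?_, ?_⟩
      · rw [Finset.iSup_insert]
        exact Subgroup.mul_mem _ (Subgroup.mem_sup_left hw) (Subgroup.mem_sup_right hm)
      · intro i hi
        rcases Finset.mem_insert.1 hi with rfl | hi'
        · exact hc'.2
        · have h1 : w ∈ C i := by
            apply hne i _ _ hw
            rintro rfl
            exact has hi'
          have : c' = w⁻¹ * (w * c') := by group
          rw [this]
          exact Subgroup.mul_mem _ (Subgroup.inv_mem _ h1) (hcC i hi')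
      · have : m * w = w * m := hVc m (hMV hm) w (hW a hw)
        calc m * (w * c') = (m * w) * c' := by group
          _ = w * m * c' := by rw [this]

namespace FFS
variable {p : ℕ} [Fact p.Prime] {V H Q : Subgroup G}

/-- different `E`'s: `E_B ≤ K_A`. -/
theorem E_le_K_of_ne (h : FFS p V H Q) [Finite G] {A B : Subgroup G} (mA : MO p V H A)
    (mB : MO p V H B) (hne : ⁅Q, A⁆ ⊔ A ≠ ⁅Q, B⁆ ⊔ B) :
    ⁅Q, B⁆ ⊔ B ≤ H ⊓ Subgroup.centralizer ((⁅V, ⁅Q, A⁆ ⊔ A⁆ : Subgroup G) : Set G) :=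
  le_inf (h.E_le mB.le) (h.E_le_centralizer_of_ne mA mB hne).2

theorem W_le_of_ne (h : FFS p V H Q) [Finite G]
    (hS3 : H = ⨆ A : {A : Subgroup G // A ≤ H ∧ Cfsg.IsBestOffenderOn p V A}, (A : Subgroup G))
    {A B : Subgroup G} (mA : MO p V H A)
    (mB : MO p V H B) (hne : ⁅Q, A⁆ ⊔ A ≠ ⁅Q, B⁆ ⊔ B) :
    ⁅V, ⁅Q, B⁆ ⊔ B⁆ ≤ V ⊓ Subgroup.centralizer ((⁅Q, A⁆ ⊔ A : Subgroup G) : Set G) :=
  (Subgroup.commutator_mono le_rfl (h.E_le_K_of_ne mA mB hne)).trans (h.comm_V_K hS3 mA)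

theorem exists_MO (h : FFS p V H Q) [Finite G]
    (hS3 : H = ⨆ A : {A : Subgroup G // A ≤ H ∧ Cfsg.IsBestOffenderOn p V A}, (A : Subgroup G))
    (hH1 : H ≠ ⊥) : ∃ A, MO p V H A := by
  by_contra hcon
  apply hH1
  rw [eq_bot_iff]
  apply h.le_of_forall_MO hS3
  intro B mB
  exact absurd ⟨B, mB⟩ hcon

end FFS
end Cfsg.Agent.Lib.H3
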