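import Mathlib
import Cfsg.Agent.Lib.H3.Thompson
import Cfsg.Agent.Lib.H1.QuotientBasic
set_option autoImplicit false
open scoped commutatorElement
namespace Cfsg.Agent.Lib.H3.QT

variable {G : Type*} [Group G] (V : Subgroup G) [hVn : V.Normal]

/-- the conjugation action of `G / C_G(V)` on the normal subgroup `V`. -/
noncomputable def act : G ⧸ Subgroup.centralizer (V : Set G) →* MulAut ↥V :=
  QuotientGroup.lift _ (MulAut.conjNormal (H := V)) (by
    intro g hg
    rw [MonoidHom.mem_ker]
    ext v
    rw [MulAut.conjNormal_apply]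
    have := Subgroup.mem_centralizer_iff.1 hg (v : G) v.2
    simp only [MulAut.one_apply]
    rw [← this]; group)

theorem act_mk (g : G) (v : V) :
    ((act V (QuotientGroup.mk g : G ⧸ Subgroup.centralizer (V : Set G)) v : V) : G) =
      g * v * g⁻¹ := by
  unfold act
  rw [QuotientGroup.lift_mk, MulAut.conjNormal_apply]

theorem act_injective : Function.Injective (act V) := by
  rw [injective_iff_map_eq_one]
  intro x hx
  induction x using QuotientGroup.induction_on with
  | H g =>
    rw [QuotientGroup.eq_one_iff]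
    rw [Subgroup.mem_centralizer_iff]
    intro v hv
    have h1 := congrArg (fun f : MulAut ↥V => ((f ⟨v, hv⟩ : V) : G)) hx
    simp only [MulAut.one_apply] at h1
    have h2 : g * v * g⁻¹ = v := by
      have := act_mk V g ⟨v, hv⟩
      rw [← this]; exact h1
    calc v * g = (g * v * g⁻¹) * g := by rw [h2]
      _ = g * v := by group

/-- the semidirect product `V ⋊ G/C_G(V)`. -/
noncomputable abbrev Gam : Type _ := ↥V ⋊[act V] (G ⧸ Subgroup.centralizer (V : Set G))

instance [Finite G] : Finite (Gam V) := Finite.of_equiv _ SemidirectProduct.equivProd.symm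

/-- the image of `V` in `Gam`. -/
noncomputable def Vh : Subgroup (Gam V) := (SemidirectProduct.inl : ↥V →* Gam V).range

/-- the image of `A ≤ G` in `Gam`. -/
noncomputable def hat (A : Subgroup G) : Subgroup (Gam V) :=
  (A.map (QuotientGroup.mk' (Subgroup.centralizer (V : Set G)))).map SemidirectProduct.inr

theorem conj_inr_inl (g : G) (v : V) :
    (SemidirectProduct.inr (QuotientGroup.mk g : G ⧸ Subgroup.centralizer (V : Set G)) : Gam V) *
      SemidirectProduct.inl v * (SemidirectProduct.inr (QuotientGroup.mk g))⁻¹ =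
      SemidirectProduct.inl (⟨g * v * g⁻¹, hVn.conj_mem v v.2 g⟩ : V) := by
  rw [← map_inv, ← SemidirectProduct.inl_aut]
  have : act V (QuotientGroup.mk g) v = ⟨g * v * g⁻¹, hVn.conj_mem v v.2 g⟩ :=
    Subtype.ext (act_mk V g v)
  rw [this]

instance Vh_normal : (Vh V).Normal := by
  unfold Vh
  rw [SemidirectProduct.range_inl_eq_ker_rightHom]
  infer_instance

theorem mem_hat {A : Subgroup G} {x : Gam V} :
    x ∈ hat V A ↔ ∃ a ∈ A, x = SemidirectProduct.inr (QuotientGroup.mk a) := by
  unfold hat
  constructor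
  · rintro ⟨y, ⟨a, ha, rfl⟩, rfl⟩
    exact ⟨a, ha, rfl⟩
  · rintro ⟨a, ha, rfl⟩
    exact ⟨_, ⟨a, ha, rfl⟩, rfl⟩

theorem hat_mono {A B : Subgroup G} (h : A ≤ B) : hat V A ≤ hat V B :=
  Subgroup.map_mono (Subgroup.map_mono h)

theorem hat_le_normalizer (A : Subgroup G) :
    hat V A ≤ Subgroup.normalizer ((Vh V : Subgroup (Gam V)) : Set (Gam V)) := by
  rw [Subgroup.normalizer_eq_top]
  exact le_top

theorem Vh_elemAb {p : ℕ} (hV : Cfsg.IsElementaryAbelian p V) :
    Cfsg.IsElementaryAbelian p (Vh V) := by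
  have h1 : Cfsg.IsElementaryAbelian p (⊤ : Subgroup ↥V) := by
    refine ⟨⟨⟨?_⟩⟩, ?_⟩
    · intro a b
      apply Subtype.ext
      apply Subtype.ext
      have := hV.1.is_comm.comm (a : ↥V) (b : ↥V)
      exact congrArg Subtype.val this
    · intro a _
      apply Subtype.ext
      simpa using hV.2 a a.2
  have h2 := elemAb_map (SemidirectProduct.inl : ↥V →* Gam V) h1
  rwa [← MonoidHom.range_eq_map] at h2

theorem card_Vh : Nat.card (Vh V) = Nat.card V := by
  unfold Vh
  exact (Nat.card_congr (MonoidHom.ofInjective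
    (SemidirectProduct.inl_injective (φ := act V))).toEquiv).symm

/-- faithfulness -/
theorem range_inr_inf_centralizer :
    (SemidirectProduct.inr : (G ⧸ Subgroup.centralizer (V : Set G)) →* Gam V).range ⊓
      Subgroup.centralizer ((Vh V : Subgroup (Gam V)) : Set (Gam V)) = ⊥ := by
  rw [eq_bot_iff]
  rintro x ⟨⟨g, rfl⟩, hx⟩
  rw [Subgroup.mem_bot]
  have hg : g = 1 := by
    apply act_injective V
    ext v
    simp only [map_one, MulAut.one_apply]
    have h1 := Subgroup.mem_centralizer_iff.1 hx (SemidirectProduct.inl v) ⟨v, rfl⟩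
    have h2 : (SemidirectProduct.inl (act V g v) : Gam V) = SemidirectProduct.inl v := by
      rw [SemidirectProduct.inl_aut, map_inv, ← h1]; group
    exact congrArg Subtype.val (SemidirectProduct.inl_injective h2)
  rw [hg, map_one]

theorem hat_inf_centralizer (A : Subgroup G) :
    hat V A ⊓ Subgroup.centralizer ((Vh V : Subgroup (Gam V)) : Set (Gam V)) = ⊥ := by
  rw [eq_bot_iff, ← range_inr_inf_centralizer V]
  refine inf_le_inf_right _ ?_
  unfold hat
  exact Subgroup.map_le_range _ _

theorem hat_eq_bot_iff (A : Subgroup G) :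
    hat V A = ⊥ ↔ A ≤ Subgroup.centralizer (V : Set G) := by
  unfold hat
  rw [Subgroup.map_eq_bot_iff_of_injective _ SemidirectProduct.inr_injective,
    Subgroup.map_eq_bot_iff, QuotientGroup.ker_mk']

theorem hat_iSup {ι : Sort*} (f : ι → Subgroup G) : hat V (⨆ i, f i) = ⨆ i, hat V (f i) := by
  unfold hat
  rw [Subgroup.map_iSup, Subgroup.map_iSup]

theorem hat_sSup (S : Set (Subgroup G)) : hat V (sSup S) = ⨆ A ∈ S, hat V A := by
  rw [sSup_eq_iSup, hat_iSup]
  congr 1
  ext A
  rw [hat_iSup]

/-- fixed points of `hat A` on `Vh` correspond to `C_V(A)`. -/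
theorem Vh_inf_centralizer_hat (A : Subgroup G) :
    Vh V ⊓ Subgroup.centralizer ((hat V A : Subgroup (Gam V)) : Set (Gam V)) =
      ((V ⊓ Subgroup.centralizer (A : Set G)).subgroupOf V).map SemidirectProduct.inl := by
  ext x
  constructor
  · rintro ⟨⟨v, rfl⟩, hx⟩
    refine ⟨v, ?_, rfl⟩
    show v ∈ (V ⊓ Subgroup.centralizer (A : Set G)).subgroupOf V
    rw [Subgroup.mem_subgroupOf]
    refine ⟨v.2, ?_⟩
    show (v : G) ∈ Subgroup.centralizer (A : Set G)
    rw [Subgroup.mem_centralizer_iff]
    intro a ha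
    have h1 := Subgroup.mem_centralizer_iff.1 hx _ ((mem_hat V).2 ⟨a, ha, rfl⟩)
    have h2 := conj_inr_inl V a v
    rw [h1] at h2
    have h3 : (SemidirectProduct.inl v : Gam V) =
        SemidirectProduct.inl (⟨a * v * a⁻¹, hVn.conj_mem v v.2 a⟩ : V) := by
      rw [← h2]; group
    have h4 := congrArg Subtype.val (SemidirectProduct.inl_injective h3)
    simp only at h4
    calc a * (v : G) = (a * v * a⁻¹) * a := by group
      _ = v * a := by rw [← h4]
  · rintro ⟨v, hv, rfl⟩
    replace hv : v ∈ (V ⊓ Subgroup.centralizer (A : Set G)).subgroupOf V := hv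
    rw [Subgroup.mem_subgroupOf] at hv
    refine ⟨⟨v, rfl⟩, ?_⟩
    show (SemidirectProduct.inl v : Gam V) ∈ Subgroup.centralizer ((hat V A : Subgroup (Gam V)) : Set (Gam V))
    rw [Subgroup.mem_centralizer_iff]
    intro y hy
    obtain ⟨a, ha, rfl⟩ := (mem_hat V).1 hy
    have h1 := Subgroup.mem_centralizer_iff.1 hv.2 a ha
    have h2 := conj_inr_inl V a v
    have h3 : (⟨a * v * a⁻¹, hVn.conj_mem v v.2 a⟩ : V) = v := by
      apply Subtype.ext
      show a * (v : G) * a⁻¹ = v
      rw [h1]; group
    rw [h3] at h2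
    calc (SemidirectProduct.inr (QuotientGroup.mk a) : Gam V) * SemidirectProduct.inl v
        = (SemidirectProduct.inr (QuotientGroup.mk a) * SemidirectProduct.inl v *
            (SemidirectProduct.inr (QuotientGroup.mk a))⁻¹) *
            SemidirectProduct.inr (QuotientGroup.mk a) := by group
      _ = SemidirectProduct.inl v * SemidirectProduct.inr (QuotientGroup.mk a) := by rw [h2]

theorem card_Vh_inf_centralizer_hat (A : Subgroup G) :
    Nat.card ↥(Vh V ⊓ Subgroup.centralizer ((hat V A : Subgroup (Gam V)) : Set (Gam V))) =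
      Nat.card ↥(V ⊓ Subgroup.centralizer (A : Set G)) := by
  rw [Vh_inf_centralizer_hat]
  rw [← Nat.card_congr (Subgroup.equivMapOfInjective _ _
    (SemidirectProduct.inl_injective (φ := act V))).toEquiv]
  exact Nat.card_congr (Subgroup.subgroupOfEquivOfLe inf_le_left).toEquiv

theorem card_hat (A : Subgroup G) :
    Nat.card (hat V A) * Nat.card ↥(Subgroup.centralizer (V : Set G) ⊓ A) = Nat.card A := by
  unfold hat
  rw [← Nat.card_congr (Subgroup.equivMapOfInjective _ _
    (SemidirectProduct.inr_injective (φ := act V))).toEquiv]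
  exact Cfsg.Agent.Lib.H1.card_map_mk'_mul _ A

end Cfsg.Agent.Lib.H3.QT
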