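import Mathlib
import Cfsg.Prelude.Def_Local
import Cfsg.Agent.Lib.H22.PPrimeCore
import Cfsg.Agent.Lib.H1.PCore
import Cfsg.Agent.Lib.H7.Hyperplane
import Cfsg.Agent.Lib.H3.Thompson
set_option autoImplicit false
open scoped commutatorElement
namespace Cfsg.Agent.Lib.H3

variable {X : Type*} [Group X]

/-- A normal subgroup `L` with a central normal `p'`-subgroup `L₀` of `p`-power index is `L₀`,
when `O_p(X) = 1`. -/
theorem eq_of_central_pPrime_of_pCore_eq_bot [Finite X] {p : ℕ} [Fact p.Prime]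
    (hOp : Cfsg.pCore p X = ⊥) {L L₀ : Subgroup X} [hL : L.Normal] (hL₀L : L₀ ≤ L)
    (hcop : (Nat.card L₀).Coprime p) (hcent : L ≤ Subgroup.centralizer (L₀ : Set X))
    {m : ℕ} (hidx : L₀.relIndex L = p ^ m) : L = L₀ := by
  have hp : p.Prime := Fact.out
  obtain ⟨P⟩ : Nonempty (Sylow p ↥L) := inferInstance
  set P' := (P : Subgroup ↥L).map L.subtype with hP'
  have hP'L : P' ≤ L := Subgroup.map_subtype_le _
  have hcardL : Nat.card L₀ * p ^ m = Nat.card L := by
    rw [← hidx]; exact Cfsg.Agent.Lib.H7.card_mul_relIndex_of_le hL₀L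
  have hP'card : Nat.card P' = p ^ m := by
    rw [hP', ← Nat.card_congr (Subgroup.equivMapOfInjective _ _ L.subtype_injective).toEquiv,
      Sylow.card_eq_multiplicity, ← hcardL, Nat.factorization_mul Nat.card_pos.ne'
        (pow_ne_zero _ hp.ne_zero), Finsupp.add_apply,
      Nat.factorization_eq_zero_of_not_dvd
        (fun h => hp.one_lt.ne' (Nat.Coprime.eq_one_of_dvd hcop.symm h)),
      zero_add, hp.factorization_pow, Finsupp.single_eq_same]
  have hinf : P' ⊓ L₀ = ⊥ := by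
    rw [← Subgroup.card_eq_one]
    have h1 : Nat.card ↥(P' ⊓ L₀) ∣ p ^ m := by
      rw [← hP'card]; exact Subgroup.card_dvd_of_le inf_le_left
    have h2 : Nat.card ↥(P' ⊓ L₀) ∣ Nat.card L₀ := Subgroup.card_dvd_of_le inf_le_right
    have h3 : (Nat.card L₀).Coprime (p ^ m) := Nat.Coprime.pow_right m hcop
    exact Nat.eq_one_of_dvd_coprimes h3 h2 h1
  have hL₀c : L₀ ≤ Subgroup.centralizer (L : Set X) := Subgroup.le_centralizer_iff.1 hcent
  have hL₀P : L₀ ≤ Subgroup.normalizer (P' : Set X) :=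
    (hL₀c.trans (Subgroup.centralizer_le (by exact_mod_cast hP'L))).trans
      (Subgroup.centralizer_le_normalizer _)
  have hsup : P' ⊔ L₀ = L := by
    apply Subgroup.eq_of_le_of_card_ge (sup_le hP'L hL₀L)
    have h1 := card_mul_card_le P' L₀
    rw [hinf, Subgroup.card_bot, mul_one, hP'card] at h1
    rw [← hcardL, mul_comm]
    exact h1
  have hLP : L ≤ Subgroup.normalizer (P' : Set X) := by
    rw [← hsup]; exact sup_le Subgroup.le_normalizer hL₀P
  have hPn : (P : Subgroup ↥L).Normal := by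
    have h1 : P'.subgroupOf L = (P : Subgroup ↥L) :=
      Subgroup.comap_map_eq_self_of_injective L.subtype_injective _
    rw [← h1]
    exact (Subgroup.normal_subgroupOf_iff_le_normalizer hP'L).2 hLP
  haveI : (P : Subgroup ↥L).Characteristic := Sylow.characteristic_of_normal P hPn
  have hP'n : P'.Normal := ConjAct.normal_of_characteristic_of_normal
  have hP'p : IsPGroup p P' := IsPGroup.of_card hP'card
  have h1 : P' ≤ Cfsg.pCore p X := Cfsg.Agent.Lib.H1.le_pCore hP'n hP'p
  rw [hOp, le_bot_iff] at h1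
  rw [← hsup, h1, bot_sup_eq]

end Cfsg.Agent.Lib.H3

namespace Cfsg.Agent.Lib.H3

variable {X : Type*} [Group X]

/-- dual Hall–Higman lemma, internal form for a normal subgroup `N` of a `p`-solvable group with
`O_p(X) = 1`: `O_{p'}(X) ∩ N` contains its centralizer in `N`. -/
theorem dual_hallHigman [Finite X] {p : ℕ} [Fact p.Prime] (hsol : Cfsg.IsPSolvable p X)
    (hOp : Cfsg.pCore p X = ⊥) (N : Subgroup X) [hN : N.Normal] :
    N ⊓ Subgroup.centralizer ((Cfsg.pPrimeCore p X ⊓ N : Subgroup X) : Set X) ≤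
      Cfsg.pPrimeCore p X ⊓ N := by
  have hp : p.Prime := Fact.out
  haveI hOn : (Cfsg.pPrimeCore p X).Normal := Cfsg.Agent.Lib.H22.pPrimeCore_normal p
  set Q := Cfsg.pPrimeCore p X ⊓ N with hQ
  haveI hQn : Q.Normal := Subgroup.normal_inf_normal _ _
  set K := N ⊓ Subgroup.centralizer (Q : Set X) with hK
  haveI hKn : K.Normal := Subgroup.normal_inf_normal _ _
  have hQcop : (Nat.card Q).Coprime p :=
    Nat.Coprime.coprime_dvd_left (Subgroup.card_dvd_of_le inf_le_left)
      (Cfsg.Agent.Lib.H22.card_pPrimeCore_coprime p)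
  by_contra hKQ
  obtain ⟨n, H, h0, hlast, hmono, hnorm, hstep⟩ := hsol
  have hex : ∃ i : ℕ, ∃ hi : i < n + 1, ¬ (H ⟨i, hi⟩ ⊓ K ≤ Q) := by
    refine ⟨n, Nat.lt_succ_self n, ?_⟩
    have e : (⟨n, Nat.lt_succ_self n⟩ : Fin (n + 1)) = Fin.last n := rfl
    rw [e, hlast, top_inf_eq]
    exact hKQ
  classical
  set i := Nat.find hex with hi
  obtain ⟨hi1, hi2⟩ := Nat.find_spec hex
  have hi0 : i ≠ 0 := by
    intro h
    apply hi2
    have e : (⟨i, hi1⟩ : Fin (n + 1)) = 0 := Fin.ext h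
    rw [e, h0, bot_inf_eq]
    exact bot_le
  obtain ⟨j, hj⟩ := Nat.exists_eq_succ_of_ne_zero hi0
  have hjn : j < n := by omega
  have hjmin : H ⟨j, by omega⟩ ⊓ K ≤ Q := by
    by_contra hcon
    have := Nat.find_min hex (m := j) (by omega)
    exact this ⟨by omega, hcon⟩
  set jf : Fin n := ⟨j, hjn⟩ with hjf
  have e1 : jf.castSucc = ⟨j, by omega⟩ := rfl
  have e2 : jf.succ = ⟨i, hi1⟩ := Fin.ext (by simp [hjf, hj])
  have hst := hstep jf
  rw [e1, e2] at hst
  set Hj := H ⟨j, by omega⟩ with hHj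
  set Hi := H ⟨i, hi1⟩ with hHi
  haveI : Hj.Normal := hnorm _
  haveI : Hi.Normal := hnorm _
  have hji : Hj ≤ Hi := hmono (by rw [Fin.mk_le_mk]; omega)
  set L := Hi ⊓ K with hL
  set L₀ := Hj ⊓ K with hL₀
  haveI hLn : L.Normal := Subgroup.normal_inf_normal _ _
  have hL₀L : L₀ ≤ L := inf_le_inf_right _ hji
  have hL₀cop : (Nat.card L₀).Coprime p :=
    Nat.Coprime.coprime_dvd_left (Subgroup.card_dvd_of_le hjmin) hQcop
  have hcent : L ≤ Subgroup.centralizer (L₀ : Set X) :=
    (inf_le_right.trans inf_le_right).trans (Subgroup.centralizer_le (by exact_mod_cast hjmin))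
  have hLN : L ≤ N := inf_le_right.trans inf_le_left
  -- index divisibility
  have hdvd : L₀.relIndex L ∣ Hj.relIndex Hi := by
    have h1 : L₀.relIndex L = Hj.relIndex L := by
      have : L₀ = Hj ⊓ L := by
        apply le_antisymm
        · exact le_inf inf_le_left hL₀L
        · exact le_inf inf_le_left (inf_le_right.trans inf_le_right)
      rw [this, Subgroup.inf_relIndex_right]
    rw [h1, ← Subgroup.relIndex_sup_right]
    have h2 := Subgroup.relIndex_mul_relIndex Hj (L ⊔ Hj) Hi le_sup_right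
      (sup_le inf_le_left hji)
    exact Dvd.intro _ h2
  have hcardL : Nat.card L₀ * L₀.relIndex L = Nat.card L :=
    Cfsg.Agent.Lib.H7.card_mul_relIndex_of_le hL₀L
  rcases hst with ⟨m, hm⟩ | hcop
  · -- p-case
    rw [hm] at hdvd
    obtain ⟨m', -, hm'⟩ := (Nat.dvd_prime_pow hp).1 hdvd
    have := eq_of_central_pPrime_of_pCore_eq_bot hOp hL₀L hL₀cop hcent hm'
    apply hi2
    show L ≤ Q
    rw [this]; exact hjmin
  · -- p'-case
    have h1 : (L₀.relIndex L).Coprime p := Nat.Coprime.coprime_dvd_left hdvd hcop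
    have h2 : (Nat.card L).Coprime p := by
      rw [← hcardL]; exact Nat.Coprime.mul_left hL₀cop h1
    apply hi2
    show L ≤ Q
    exact le_inf (Cfsg.Agent.Lib.H22.le_pPrimeCore p L hLn h2) hLN

end Cfsg.Agent.Lib.H3
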