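import Mathlib
import Cfsg.Agent.Lib.H3.QT1
import Cfsg.Agent.Lib.H3.QT2
import Cfsg.Agent.Lib.H3.Offender
import Cfsg.Agent.Lib.H10.PSolvable2
import Cfsg.Agent.S0606
set_option autoImplicit false
open scoped commutatorElement
namespace Cfsg.Agent.Lib.H3.QT

variable {G : Type*} [Group G] [Finite G] (V : Subgroup G) [hVn : V.Normal] {p : ℕ} [Fact p.Prime]

theorem hat_isBestOffender {A : Subgroup G} (hAe : Cfsg.IsElementaryAbelian p A)
    (hA : ∀ B : Subgroup G, B ≤ A →
      Nat.card B * Nat.card ↥(V ⊓ Subgroup.centralizer (B : Set G)) ≤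
        Nat.card A * Nat.card ↥(V ⊓ Subgroup.centralizer (A : Set G))) :
    Cfsg.IsBestOffenderOn p (Vh V) (hat V A) := by
  refine ⟨?_, ?_, ?_⟩
  · intro Bh hBh
    set B := A ⊓ ((Bh.comap SemidirectProduct.inr).comap
      (QuotientGroup.mk' (Subgroup.centralizer (V : Set G)))) with hB
    have hBA : B ≤ A := inf_le_left
    have hhat : hat V B = Bh := by
      apply le_antisymm
      · intro x hx
        obtain ⟨b, hb, rfl⟩ := (mem_hat V).1 hx
        exact hb.2
      · intro y hy
        obtain ⟨a, ha, rfl⟩ := (mem_hat V).1 (hBh hy)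
        exact (mem_hat V).2 ⟨a, ⟨ha, hy⟩, rfl⟩
    have hCB : Subgroup.centralizer (V : Set G) ⊓ B = Subgroup.centralizer (V : Set G) ⊓ A := by
      apply le_antisymm (inf_le_inf_left _ hBA)
      rintro c ⟨hcC, hcA⟩
      refine ⟨hcC, hcA, ?_⟩
      show (SemidirectProduct.inr (QuotientGroup.mk' (Subgroup.centralizer (V : Set G)) c) :
        Gam V) ∈ Bh
      have : (QuotientGroup.mk' (Subgroup.centralizer (V : Set G)) c) = 1 :=
        (QuotientGroup.eq_one_iff c).2 hcC
      rw [this, map_one]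
      exact Subgroup.one_mem _
    have h1 := card_hat V B
    have h2 := card_hat V A
    rw [hCB, hhat] at h1
    have h3 := card_Vh_inf_centralizer_hat V B
    rw [hhat] at h3
    have h4 := card_Vh_inf_centralizer_hat V A
    rw [h3, h4]
    have h5 := hA B hBA
    rw [← h1, ← h2] at h5
    have hpos : 0 < Nat.card ↥(Subgroup.centralizer (V : Set G) ⊓ A) := Nat.card_pos
    apply Nat.le_of_mul_le_mul_right _ hpos
    calc Nat.card Bh * Nat.card ↥(V ⊓ Subgroup.centralizer (B : Set G)) *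
          Nat.card ↥(Subgroup.centralizer (V : Set G) ⊓ A)
        = Nat.card Bh * Nat.card ↥(Subgroup.centralizer (V : Set G) ⊓ A) *
            Nat.card ↥(V ⊓ Subgroup.centralizer (B : Set G)) := by
          ring
      _ ≤ Nat.card (hat V A) * Nat.card ↥(Subgroup.centralizer (V : Set G) ⊓ A) *
            Nat.card ↥(V ⊓ Subgroup.centralizer (A : Set G)) := h5
      _ = _ := by ring
  · have : ⁅hat V A, hat V A⁆ = ⊥ := by
      rw [Subgroup.commutator_eq_bot_iff_le_centralizer]
      intro x hx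
      rw [Subgroup.mem_centralizer_iff]
      intro y hy
      obtain ⟨a, ha, rfl⟩ := (mem_hat V).1 hx
      obtain ⟨b, hb, rfl⟩ := (mem_hat V).1 hy
      rw [← map_mul, ← map_mul, ← QuotientGroup.mk_mul, ← QuotientGroup.mk_mul]
      have := hAe.1.is_comm.comm (⟨b, hb⟩ : A) ⟨a, ha⟩
      have h' : b * a = a * b := congrArg Subtype.val this
      rw [h']
    rw [this]; exact bot_le
  · intro x hx
    obtain ⟨a, ha, rfl⟩ := (mem_hat V).1 hx
    rw [← map_pow, ← QuotientGroup.mk_pow, hAe.2 a ha]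
    simp

theorem hat_thompson_eq_iSup (hV : Cfsg.IsElementaryAbelian p V) :
    hat V (Cfsg.thompsonSubgroup p G) =
      ⨆ A : {A' : Subgroup (Gam V) // A' ≤ hat V (Cfsg.thompsonSubgroup p G) ∧
        Cfsg.IsBestOffenderOn p (Vh V) A'}, (A : Subgroup (Gam V)) := by
  apply le_antisymm
  · have h0 : hat V (Cfsg.thompsonSubgroup p G) =
        ⨆ A ∈ Cfsg.maxElementaryAbelianSubgroups p G, hat V A :=
      hat_sSup V (Cfsg.maxElementaryAbelianSubgroups p G)
    refine h0.le.trans ?_
    apply iSup₂_le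
    intro A hA
    have hbo := Cfsg.Agent.S0606.result V hV A hA
    have h1 : hat V A ≤ hat V (Cfsg.thompsonSubgroup p G) :=
      hat_mono V (le_sSup hA)
    exact le_iSup (fun A : {A' : Subgroup (Gam V) //
        A' ≤ hat V (Cfsg.thompsonSubgroup p G) ∧
        Cfsg.IsBestOffenderOn p (Vh V) A'} => (A : Subgroup (Gam V)))
      ⟨hat V A, h1, hat_isBestOffender V hA.1 hbo.1⟩
  · apply iSup_le
    intro A
    exact A.2.1

/-- the `FFS` structure on the image of a normal subgroup `N` of a `p`-solvable group. -/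
theorem ffs_hat (hV : Cfsg.IsElementaryAbelian p V) (hsep : Cfsg.IsPSolvable p G)
    (hO : Cfsg.pCore p (G ⧸ Subgroup.centralizer (V : Set G)) = ⊥) (N : Subgroup G)
    [hN : N.Normal] :
    FFS p (Vh V) (hat V N)
      ((Cfsg.pPrimeCore p (G ⧸ Subgroup.centralizer (V : Set G)) ⊓
        N.map (QuotientGroup.mk' (Subgroup.centralizer (V : Set G)))).map
          (SemidirectProduct.inr : _ →* Gam V)) := by
  set C := Subgroup.centralizer (V : Set G) with hC
  set Nb := N.map (QuotientGroup.mk' C) with hNb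
  haveI hNbn : Nb.Normal := Subgroup.Normal.map hN _ (QuotientGroup.mk'_surjective C)
  haveI hOn : (Cfsg.pPrimeCore p (G ⧸ C)).Normal := Cfsg.Agent.Lib.H22.pPrimeCore_normal p
  set Qb := Cfsg.pPrimeCore p (G ⧸ C) ⊓ Nb with hQb
  haveI hQbn : Qb.Normal := Subgroup.normal_inf_normal _ _
  have hsol' : Cfsg.IsPSolvable p (G ⧸ C) := Cfsg.Agent.Lib.H10.isPSolvable_quotient hsep C
  have hdual := dual_hallHigman hsol' hO Nb
  refine ⟨Vh_elemAb V hV, hat_le_normalizer V N, hat_inf_centralizer V N, ?_, ?_, ?_, ?_⟩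
  · exact Subgroup.map_mono inf_le_right
  · refine le_trans ?_ (Subgroup.le_normalizer_map _)
    rw [Subgroup.normalizer_eq_top]
    exact Subgroup.map_mono le_top
  · rw [← Nat.card_congr (Subgroup.equivMapOfInjective _ _
      (SemidirectProduct.inr_injective (φ := act V))).toEquiv]
    exact Nat.Coprime.coprime_dvd_left (Subgroup.card_dvd_of_le inf_le_left)
      (Cfsg.Agent.Lib.H22.card_pPrimeCore_coprime p)
  · rintro y ⟨hy1, hy2⟩
    obtain ⟨nb, hnb, rfl⟩ := hy1
    refine ⟨nb, hdual ⟨hnb, ?_⟩, rfl⟩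
    show nb ∈ Subgroup.centralizer ((Qb : Subgroup (G ⧸ C)) : Set (G ⧸ C))
    rw [Subgroup.mem_centralizer_iff]
    intro q hq
    have := Subgroup.mem_centralizer_iff.1 hy2 (SemidirectProduct.inr q) ⟨q, hq, rfl⟩
    rw [← map_mul, ← map_mul] at this
    exact SemidirectProduct.inr_injective this

end Cfsg.Agent.Lib.H3.QT
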