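import Mathlib
import Cfsg.Agent.Lib.H3.QT3
import Cfsg.Agent.Lib.H3.OffenderE10
set_option autoImplicit false
open scoped commutatorElement
namespace Cfsg.Agent.Lib.H3.QT

variable {G : Type*} [Group G] [Finite G] (V : Subgroup G) [hVn : V.Normal] {p : ℕ} [Fact p.Prime]

/-- the map `G → Γ`. -/
noncomputable def toGam : G →* Gam V :=
  (SemidirectProduct.inr : _ →* Gam V).comp (QuotientGroup.mk' (Subgroup.centralizer (V : Set G)))

theorem toGam_ker : (toGam V).ker = Subgroup.centralizer (V : Set G) := by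
  unfold toGam
  ext x
  rw [MonoidHom.mem_ker, MonoidHom.comp_apply, ← map_one (SemidirectProduct.inr : _ →* Gam V),
    SemidirectProduct.inr_injective.eq_iff, QuotientGroup.mk'_apply, QuotientGroup.eq_one_iff]

theorem hat_eq_map (A : Subgroup G) : hat V A = A.map (toGam V) := by
  unfold hat toGam
  rw [Subgroup.map_map]

/-- pull back a subgroup `E₁ ≤ hat V N` of `Γ` to `G`. -/
theorem pullback_props (N : Subgroup G) (E₁ : Subgroup (Gam V)) (hE₁ : E₁ ≤ hat V N)
    (hnorm : hat V N ≤ Subgroup.normalizer (E₁ : Set (Gam V))) :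
    Subgroup.centralizer (V : Set G) ≤ E₁.comap (toGam V) ∧
    E₁.comap (toGam V) ≤ N ⊔ Subgroup.centralizer (V : Set G) ∧
    N ⊔ Subgroup.centralizer (V : Set G) ≤
      Subgroup.normalizer ((E₁.comap (toGam V) : Subgroup G) : Set G) ∧
    ∃ hn : ((Subgroup.centralizer (V : Set G)).subgroupOf (E₁.comap (toGam V))).Normal,
      Nonempty ((↥(E₁.comap (toGam V)) ⧸
        (Subgroup.centralizer (V : Set G)).subgroupOf (E₁.comap (toGam V))) ≃* ↥E₁) := by
  set C := Subgroup.centralizer (V : Set G) with hC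
  set f := toGam V with hf
  have hker : f.ker = C := toGam_ker V
  refine ⟨?_, ?_, ?_, ?_⟩
  · intro c hc
    rw [Subgroup.mem_comap]
    have : f c = 1 := by
      rw [← MonoidHom.mem_ker, hker]; exact hc
    rw [this]; exact Subgroup.one_mem _
  · intro x hx
    rw [Subgroup.mem_comap] at hx
    have h1 := hE₁ hx
    rw [hat_eq_map] at h1
    obtain ⟨a, ha, hax⟩ := h1
    have h2 : a⁻¹ * x ∈ C := by
      rw [← hker, MonoidHom.mem_ker, map_mul, map_inv, hax]; group
    have : x = a * (a⁻¹ * x) := by group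
    rw [this]
    exact Subgroup.mul_mem_sup ha h2
  · have h1 : N ⊔ C ≤ (Subgroup.normalizer (E₁ : Set (Gam V))).comap f := by
      refine sup_le ?_ ?_
      · intro n hn
        rw [Subgroup.mem_comap]
        apply hnorm
        rw [hat_eq_map]
        exact ⟨n, hn, rfl⟩
      · intro c hc
        rw [Subgroup.mem_comap]
        have : f c = 1 := by
          rw [← MonoidHom.mem_ker, hker]; exact hc
        rw [this]; exact Subgroup.one_mem _
    exact h1.trans (Subgroup.le_normalizer_comap f)
  · set E := E₁.comap f with hE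
    set g : ↥E →* ↥E₁ := f.subgroupComap E₁ with hg
    have hgs : Function.Surjective g := by
      rintro ⟨y, hy⟩
      have h1 := hE₁ hy
      rw [hat_eq_map] at h1
      obtain ⟨a, ha, hax⟩ := h1
      refine ⟨⟨a, ?_⟩, ?_⟩
      · rw [hE, Subgroup.mem_comap]
        show f a ∈ E₁
        rw [hax]; exact hy
      · apply Subtype.ext
        exact hax
    have hgk : g.ker = C.subgroupOf E := by
      ext x
      rw [MonoidHom.mem_ker, Subgroup.mem_subgroupOf, ← hker, MonoidHom.mem_ker]
      constructor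
      · intro h
        have := congrArg Subtype.val h
        exact this
      · intro h
        apply Subtype.ext
        exact h
    have hn : (C.subgroupOf E).Normal := by
      rw [← hgk]; infer_instance
    refine ⟨hn, ⟨?_⟩⟩
    exact (QuotientGroup.quotientMulEquivOfEq hgk.symm).trans
      (QuotientGroup.quotientKerEquivOfSurjective g hgs)

theorem thompson_normal : (Cfsg.thompsonSubgroup p G).Normal := by
  haveI := Cfsg.Agent.Lib.H3.thompson_characteristic (G := G) p
  infer_instance

/-- the structure theorem when `J(G)` does not centralize `V`. -/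
theorem exists_SL2 (hV : Cfsg.IsElementaryAbelian p V) (hsep : Cfsg.IsPSolvable p G)
    (hO : Cfsg.pCore p (G ⧸ Subgroup.centralizer (V : Set G)) = ⊥)
    (hJ : ¬ Cfsg.thompsonSubgroup p G ≤ Subgroup.centralizer (V : Set G)) :
    (p = 2 ∨ p = 3) ∧ ∃ E : Subgroup G, Subgroup.centralizer (V : Set G) ≤ E ∧
      E ≤ Cfsg.thompsonSubgroup p G ⊔ Subgroup.centralizer (V : Set G) ∧
      Cfsg.thompsonSubgroup p G ⊔ Subgroup.centralizer (V : Set G) ≤
        Subgroup.normalizer (E : Set G) ∧
      ∃ hn : ((Subgroup.centralizer (V : Set G)).subgroupOf E).Normal,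
        Nonempty ((↥E ⧸ (Subgroup.centralizer (V : Set G)).subgroupOf E) ≃*
          Matrix.SpecialLinearGroup (Fin 2) (ZMod p)) := by
  haveI hJn : (Cfsg.thompsonSubgroup p G).Normal := thompson_normal
  have h := ffs_hat V hV hsep hO (Cfsg.thompsonSubgroup p G)
  have hH1 : hat V (Cfsg.thompsonSubgroup p G) ≠ ⊥ := by
    intro h0
    exact hJ ((hat_eq_bot_iff V _).1 h0)
  have hS3 := hat_thompson_eq_iSup (p := p) V hV
  obtain ⟨A₁, m⟩ := h.exists_MO hS3 hH1
  obtain ⟨hp, ⟨e⟩⟩ := h.E_iso m
  have hnorm := h.H_le_normalizer_E hS3 m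
  have hle := h.E_le m.le
  obtain ⟨h1, h2, h3, hn, ⟨e'⟩⟩ := pullback_props V (Cfsg.thompsonSubgroup p G) _ hle hnorm
  exact ⟨hp, _, h1, h2, h3, hn, ⟨e'.trans e⟩⟩

end Cfsg.Agent.Lib.H3.QT
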