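import Mathlib
import Cfsg.Agent.Lib.H3.QT4
set_option autoImplicit false
open scoped commutatorElement
namespace Cfsg.Agent.Lib.H3.QT

variable {G : Type*} [Group G] [Finite G] (V : Subgroup G) [hVn : V.Normal] {p : ℕ} [Fact p.Prime]

omit [Finite G] hVn [Fact p.Prime] in
theorem elemAb_omegaOne {H : Subgroup G} (hH : IsMulCommutative H) :
    Cfsg.IsElementaryAbelian p (Cfsg.omegaOne p H) := by
  have hHH := Subgroup.le_centralizer_iff_isMulCommutative.2 hH
  have hle : Cfsg.omegaOne p H ≤ H := by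
    unfold Cfsg.omegaOne
    rw [Subgroup.closure_le]
    rintro x ⟨hx, -⟩
    exact hx
  have hc : Cfsg.omegaOne p H ≤ Subgroup.centralizer ((Cfsg.omegaOne p H : Subgroup G) : Set G) :=
    hle.trans (hHH.trans (Subgroup.centralizer_le hle))
  refine ⟨Subgroup.le_centralizer_iff_isMulCommutative.1 hc, ?_⟩
  intro x hx
  have hx' := hx
  unfold Cfsg.omegaOne at hx
  induction hx using Subgroup.closure_induction with
  | mem y hy => exact hy.2
  | one => exact one_pow p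
  | mul y z hy hz ihy ihz =>
    have hy' : y ∈ H := hle (by unfold Cfsg.omegaOne; exact hy)
    have hz' : z ∈ H := hle (by unfold Cfsg.omegaOne; exact hz)
    have hcomm : Commute y z := hHH hz' y hy'
    rw [hcomm.mul_pow, ihy (by unfold Cfsg.omegaOne; exact hy),
      ihz (by unfold Cfsg.omegaOne; exact hz), one_mul]
  | inv y hy ihy => rw [inv_pow, ihy (by unfold Cfsg.omegaOne; exact hy), inv_one]

/-- for `A ∈ 𝒜(G)`: `|Â| |C_V(A)| = |V|`. -/
theorem card_hat_mul (hV : Cfsg.IsElementaryAbelian p V) (hsep : Cfsg.IsPSolvable p G)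
    (hO : Cfsg.pCore p (G ⧸ Subgroup.centralizer (V : Set G)) = ⊥) {A : Subgroup G}
    (hA : A ∈ Cfsg.maxElementaryAbelianSubgroups p G) :
    Nat.card (hat V A) * Nat.card ↥(V ⊓ Subgroup.centralizer (A : Set G)) = Nat.card V := by
  by_cases hAC : A ≤ Subgroup.centralizer (V : Set G)
  · have h1 : hat V A = ⊥ := (hat_eq_bot_iff V A).2 hAC
    have h2 : V ⊓ Subgroup.centralizer (A : Set G) = V :=
      inf_eq_left.2 (Subgroup.le_centralizer_iff.1 hAC)
    rw [h1, h2, Subgroup.card_bot, one_mul]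
  · haveI hJn : (Cfsg.thompsonSubgroup p G).Normal := thompson_normal
    have h := ffs_hat V hV hsep hO (Cfsg.thompsonSubgroup p G)
    have hle : hat V A ≤ hat V (Cfsg.thompsonSubgroup p G) :=
      hat_mono V (Cfsg.Agent.Lib.H3.le_thompson hA)
    have hbo := hat_isBestOffender V hA.1 (Cfsg.Agent.S0606.result V hV A hA).1
    have hne : hat V A ≠ ⊥ := fun h0 => hAC ((hat_eq_bot_iff V A).1 h0)
    have := h.offVal_eq _ _ rfl hle hbo hne
    rw [card_Vh_inf_centralizer_hat, card_Vh] at this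
    exact this

omit [Fact p.Prime] in
/-- for `A ∈ 𝒜(G)`: `C_V(A) = V ∩ A`. -/
theorem inf_centralizer_eq_of_maxElemAb (hV : Cfsg.IsElementaryAbelian p V) {A : Subgroup G}
    (hA : A ∈ Cfsg.maxElementaryAbelianSubgroups p G) :
    V ⊓ Subgroup.centralizer (A : Set G) = (Subgroup.centralizer (V : Set G) ⊓ A) ⊓ V := by
  have hVV := Subgroup.le_centralizer_iff_isMulCommutative.2 hV.1
  have hAA := Subgroup.le_centralizer_iff_isMulCommutative.2 hA.1.1
  apply le_antisymm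
  · rintro x ⟨hxV, hxA⟩
    refine ⟨⟨hVV hxV, ?_⟩, hxV⟩
    have h1 : Cfsg.IsElementaryAbelian p (A ⊔ Subgroup.zpowers x) := by
      apply Cfsg.Agent.Lib.H3.elemAb_sup hA.1 (Cfsg.Agent.Lib.H3.elemAb_zpowers (hV.2 x hxV))
      rw [Subgroup.zpowers_le]
      exact hxA
    have h2 := Cfsg.Agent.Lib.H3.eq_of_maxElemAb_le hA h1 le_sup_left
    rw [h2]
    exact le_sup_right (a := A) (Subgroup.mem_zpowers x)
  · rintro x ⟨⟨-, hxA⟩, hxV⟩
    exact ⟨hxV, hAA hxA⟩

/-- for `A ∈ 𝒜(G)`: `A* = C_A(V) V ∈ 𝒜(G)`. -/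
theorem star_mem (hV : Cfsg.IsElementaryAbelian p V) (hsep : Cfsg.IsPSolvable p G)
    (hO : Cfsg.pCore p (G ⧸ Subgroup.centralizer (V : Set G)) = ⊥) {A : Subgroup G}
    (hA : A ∈ Cfsg.maxElementaryAbelianSubgroups p G) :
    (Subgroup.centralizer (V : Set G) ⊓ A) ⊔ V ∈ Cfsg.maxElementaryAbelianSubgroups p G := by
  set A₀ := Subgroup.centralizer (V : Set G) ⊓ A with hA₀
  have hA₀e : Cfsg.IsElementaryAbelian p A₀ := Cfsg.Agent.Lib.H3.elemAb_mono inf_le_right hA.1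
  have hel : Cfsg.IsElementaryAbelian p (A₀ ⊔ V) := by
    apply Cfsg.Agent.Lib.H3.elemAb_sup hA₀e hV
    rw [Subgroup.le_centralizer_iff]
    exact inf_le_left
  have h1 := card_hat_mul V hV hsep hO hA
  have h2 := card_hat V A
  have h3 := inf_centralizer_eq_of_maxElemAb V hV hA
  rw [← hA₀] at h2 h3
  have h4 : Nat.card V * V.relIndex (A₀ ⊔ V) = Nat.card ↥(A₀ ⊔ V) :=
    Cfsg.Agent.Lib.H7.card_mul_relIndex_of_le le_sup_right
  have h5 : V.relIndex (A₀ ⊔ V) = V.relIndex A₀ := by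
    rw [sup_comm]; exact Subgroup.relIndex_sup_left A₀ V
  have h6 := Cfsg.Agent.Lib.H3.relIndex_mul_card_inf A₀ V
  rw [h3] at h1
  have hcard : Nat.card ↥(A₀ ⊔ V) = Nat.card A := by
    have hpos : 0 < Nat.card ↥(A₀ ⊓ V) := Nat.card_pos
    apply Nat.eq_of_mul_eq_mul_right hpos
    calc Nat.card ↥(A₀ ⊔ V) * Nat.card ↥(A₀ ⊓ V)
        = Nat.card V * (V.relIndex A₀ * Nat.card ↥(A₀ ⊓ V)) := by rw [← h4, h5]; ring
      _ = Nat.card V * Nat.card A₀ := by rw [h6]
      _ = (Nat.card (hat V A) * Nat.card ↥(A₀ ⊓ V)) * Nat.card A₀ := by rw [h1]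
      _ = (Nat.card (hat V A) * Nat.card A₀) * Nat.card ↥(A₀ ⊓ V) := by ring
      _ = Nat.card A * Nat.card ↥(A₀ ⊓ V) := by rw [h2]
  refine ⟨hel, fun B hB => ?_⟩
  rw [hcard]
  exact hA.2 B hB

/-- KS 9.3.8 -/
theorem commutator_omega_le (hV : Cfsg.IsElementaryAbelian p V) (hsep : Cfsg.IsPSolvable p G)
    (hO : Cfsg.pCore p (G ⧸ Subgroup.centralizer (V : Set G)) = ⊥) :
    ⁅Cfsg.omegaOne p (Cfsg.centerThompsonOf p (Subgroup.centralizer (V : Set G))),
      Cfsg.thompsonSubgroup p G⁆ ≤ V := by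
  set C := Subgroup.centralizer (V : Set G) with hC
  set JC := Cfsg.thompsonSubgroupOf p C with hJC
  set Z := Cfsg.omegaOne p (Cfsg.centerThompsonOf p C) with hZ
  have hZJ : Cfsg.centerThompsonOf p C = JC ⊓ Subgroup.centralizer (JC : Set G) := rfl
  have hZe : Cfsg.IsElementaryAbelian p Z := by
    apply elemAb_omegaOne
    rw [← Subgroup.le_centralizer_iff_isMulCommutative, hZJ]
    exact inf_le_right.trans (Subgroup.centralizer_le inf_le_left)
  have hZc : Z ≤ Subgroup.centralizer (JC : Set G) := by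
    rw [hZ]
    unfold Cfsg.omegaOne
    rw [Subgroup.closure_le]
    rintro x ⟨hx, -⟩
    exact hx.2
  -- each `A`
  have key : ∀ A ∈ Cfsg.maxElementaryAbelianSubgroups p G, ∀ z ∈ Z, ∀ a ∈ A, ⁅z, a⁆ ∈ V := by
    intro A hA z hz a ha
    have hstar := star_mem V hV hsep hO hA
    set A₀ := C ⊓ A with hA₀
    have hstarC : A₀ ⊔ V ≤ C := by
      refine sup_le inf_le_left ?_
      exact Subgroup.le_centralizer_iff_isMulCommutative.2 hV.1
    have h1 := Cfsg.Agent.Lib.H3.maxElemAb_subgroupOf hstar hstarC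
    have h2 : A₀ ⊔ V ≤ JC := by
      have h3 : (A₀ ⊔ V).subgroupOf C ≤ Cfsg.thompsonSubgroup p ↥C :=
        Cfsg.Agent.Lib.H3.le_thompson h1
      have h4 := Subgroup.map_mono (f := C.subtype) h3
      rw [Subgroup.map_subgroupOf_eq_of_le hstarC] at h4
      exact h4
    have h5 : Cfsg.IsElementaryAbelian p ((A₀ ⊔ V) ⊔ Z) := by
      apply Cfsg.Agent.Lib.H3.elemAb_sup hstar.1 hZe
      exact hZc.trans (Subgroup.centralizer_le h2)
    have h6 := Cfsg.Agent.Lib.H3.eq_of_maxElemAb_le hstar h5 le_sup_left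
    have hzs : z ∈ A₀ ⊔ V := by
      rw [h6]; exact le_sup_right (a := A₀ ⊔ V) hz
    obtain ⟨a₀, ha₀, v, hv, rfl⟩ := Subgroup.mem_sup_of_normal_right.1 hzs
    have hAA := Subgroup.le_centralizer_iff_isMulCommutative.2 hA.1.1
    have hcomm : a₀ * a = a * a₀ := (hAA ha a₀ ha₀.2)
    have e : ⁅a₀ * v, a⁆ = a₀ * (v * (a * v⁻¹ * a⁻¹)) * a₀⁻¹ := by
      rw [commutatorElement_def]
      have : a₀ * v * a * (a₀ * v)⁻¹ * a⁻¹ = a₀ * (v * (a * v⁻¹ * a⁻¹)) * (a * a₀⁻¹ * a⁻¹) := by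
        group
      rw [this]
      have : a * a₀⁻¹ * a⁻¹ = a₀⁻¹ := by
        calc a * a₀⁻¹ * a⁻¹ = a₀⁻¹ * (a₀ * a) * a₀⁻¹ * a⁻¹ := by group
          _ = a₀⁻¹ * (a * a₀) * a₀⁻¹ * a⁻¹ := by rw [hcomm]
          _ = a₀⁻¹ := by group
      rw [this]
    rw [e]
    exact hVn.conj_mem _ (V.mul_mem hv (hVn.conj_mem _ (V.inv_mem hv) a)) a₀
  -- assemble
  rw [Subgroup.commutator_le]
  intro z hz g hg
  have hsub : Cfsg.thompsonSubgroup p G ≤
      { carrier := {g | ∀ z ∈ Z, ⁅z, g⁆ ∈ V}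
        one_mem' := by
          intro z _
          rw [commutatorElement_one_right]; exact V.one_mem
        mul_mem' := by
          intro x y hx hy z hz
          have e : ⁅z, x * y⁆ = ⁅z, x⁆ * (x * ⁅z, y⁆ * x⁻¹) := by
            simp only [commutatorElement_def]; group
          rw [e]
          exact V.mul_mem (hx z hz) (hVn.conj_mem _ (hy z hz) x)
        inv_mem' := by
          intro x hx z hz
          have e : ⁅z, x⁻¹⁆ = x⁻¹ * (⁅z, x⁆)⁻¹ * x⁻¹⁻¹ := by
            simp only [commutatorElement_def]; group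
          rw [e]
          exact hVn.conj_mem _ (V.inv_mem (hx z hz)) x⁻¹ } := by
    unfold Cfsg.thompsonSubgroup
    apply sSup_le
    intro A hA a ha z hz
    exact key A hA z hz a ha
  exact hsub hg z hz

end Cfsg.Agent.Lib.H3.QT
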