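import Mathlib

/-!
S4415, BAD layer, step (B6) = LEMMA T (helper10's proof, board #9170), generic pure group theory.

`T` a finite `2`-group, `X ≤ T` normalised by `Γ ≥ T`, `z ∈ X` an involution central in `Γ`,
commutators of `X` in `⟨z⟩`, and every `Γ`-normal abelian subgroup of `X` inside `{1, z}`.
Then `T` acts trivially on `X / ⟨z⟩`.
-/

set_option autoImplicit false

namespace Cfsg.Agent.Lib.H3.S4415B6

/-- commutators are insensitive to central factors -/
theorem comm_central {G : Type*} [Group G] (e e' t x : G) (h1 : Commute e t) (h2 : Commute e x)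
    (h3 : Commute e' t) (h4 : Commute e' x) (h5 : Commute e e') :
    (e * t) * (e' * x) * (e * t)⁻¹ * (e' * x)⁻¹ = t * x * t⁻¹ * x⁻¹ := by
  have ht : Commute (e * e') t := h1.mul_left h3
  have hx : Commute (e * e') x := h2.mul_left h4
  have hc : Commute (e * e') (t * x * (x * t)⁻¹) :=
    (ht.mul_right hx).mul_right (hx.mul_right ht).inv_right
  have e1 : (e * t) * (e' * x) = (e * e') * (t * x) := by
    rw [mul_assoc, ← mul_assoc t e' x, ← h3.eq, mul_assoc e' t x, ← mul_assoc]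
  have e2 : (e' * x) * (e * t) = (e * e') * (x * t) := by
    rw [mul_assoc, ← mul_assoc x e t, ← h2.eq, mul_assoc e x t, ← mul_assoc, h5.eq]
  calc (e * t) * (e' * x) * (e * t)⁻¹ * (e' * x)⁻¹
      = (e * t) * (e' * x) * ((e' * x) * (e * t))⁻¹ := by group
    _ = (e * e') * (t * x) * ((e * e') * (x * t))⁻¹ := by rw [e1, e2]
    _ = (e * e') * (t * x * (x * t)⁻¹) * (e * e')⁻¹ := by rw [mul_inv_rev]; group
    _ = t * x * (x * t)⁻¹ := by rw [hc.eq, mul_inv_cancel_right]
    _ = t * x * t⁻¹ * x⁻¹ := by group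

/-- In a finite `2`-group `T`, a normal subgroup `Y ∋ z` not inside `{1, z}` (`z` a central
involution) has an element outside `{1, z}` which `T` moves only inside its coset of `⟨z⟩`. -/
theorem exists_fixed_mod {T : Type*} [Group T] [Finite T] (hT : IsPGroup 2 T) (Y : Subgroup T)
    [Y.Normal] (z : T) (hz2 : z * z = 1) (hzc : ∀ t : T, t * z = z * t)
    (hY : ∃ y ∈ Y, y ≠ 1 ∧ y ≠ z) :
    ∃ a ∈ Y, a ≠ 1 ∧ a ≠ z ∧ ∀ t : T, t * a * t⁻¹ = a ∨ t * a * t⁻¹ = z * a := by
  classical
  have : Fact (Nat.Prime 2) := ⟨Nat.prime_two⟩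
  set Z : Subgroup T := Subgroup.zpowers z with hZ
  have hZmem : ∀ y : T, y ∈ Z ↔ y = 1 ∨ y = z := by
    intro y
    rw [hZ, Subgroup.mem_zpowers_iff]
    constructor
    · rintro ⟨k, rfl⟩
      rcases Int.emod_two_eq_zero_or_one k with h | h
      · left
        have hk : k = 2 * (k / 2) := by omega
        rw [hk, zpow_mul, zpow_ofNat, sq, hz2, one_zpow]
      · right
        have hk : k = 2 * (k / 2) + 1 := by omega
        rw [hk, zpow_add, zpow_mul, zpow_ofNat, sq, hz2, one_zpow, one_mul, zpow_one]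
    · rintro (h | h)
      · exact ⟨0, by rw [h, zpow_zero]⟩
      · exact ⟨1, by rw [h, zpow_one]⟩
  have hZn : Z.Normal := by
    refine ⟨fun y hy t => ?_⟩
    rcases (hZmem y).mp hy with h | h
    · rw [h, mul_one, mul_inv_cancel]; exact Z.one_mem
    · rw [h, hzc t, mul_inv_cancel_right]; exact (hZmem z).mpr (Or.inr rfl)
  set Yb : Subgroup (T ⧸ Z) := Y.map (QuotientGroup.mk' Z) with hYb
  have : Yb.Normal :=
    Subgroup.Normal.map inferInstance (QuotientGroup.mk' Z) (QuotientGroup.mk'_surjective Z)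
  have hQ : IsPGroup 2 (T ⧸ Z) := hT.to_quotient Z
  obtain ⟨y, hyY, hy1, hyz⟩ := hY
  have hyZ : y ∉ Z := fun h => by
    rcases (hZmem y).mp h with h | h
    · exact hy1 h
    · exact hyz h
  have hYbne : Yb ≠ ⊥ := by
    intro h
    have hm : (QuotientGroup.mk' Z) y ∈ Yb := Subgroup.mem_map_of_mem _ hyY
    rw [h, Subgroup.mem_bot] at hm
    exact hyZ ((QuotientGroup.eq_one_iff y).mp hm)
  have h2 : 2 ∣ Nat.card Yb := by
    obtain ⟨n, hn⟩ := (IsPGroup.iff_card).mp (hQ.to_subgroup Yb)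
    have hn0 : n ≠ 0 := by
      rintro rfl
      rw [pow_zero] at hn
      exact hYbne (Subgroup.card_eq_one.mp hn)
    rw [hn]; exact dvd_pow_self 2 hn0
  have hfix1 : (1 : Yb) ∈ MulAction.fixedPoints (ConjAct (T ⧸ Z)) Yb := fun g => smul_one g
  obtain ⟨b, hb, hb1⟩ :=
    (hQ.of_equiv ConjAct.toConjAct).exists_fixed_point_of_prime_dvd_card_of_fixed_point Yb h2 hfix1
  obtain ⟨a, haY, hab⟩ := Subgroup.mem_map.mp b.2
  have haZ : a ∉ Z := by
    intro h
    apply hb1
    apply Subtype.ext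
    rw [← hab]
    exact ((QuotientGroup.eq_one_iff a).mpr h).symm
  refine ⟨a, haY, fun h => haZ ((hZmem a).mpr (Or.inl h)), fun h => haZ ((hZmem a).mpr (Or.inr h)),
    fun t => ?_⟩
  have h3 := hb (ConjAct.toConjAct ((QuotientGroup.mk' Z) t))
  have h4 : ((ConjAct.toConjAct ((QuotientGroup.mk' Z) t) • b : Yb) : T ⧸ Z) = (b : T ⧸ Z) :=
    congrArg Subtype.val h3
  rw [ConjAct.Subgroup.val_conj_smul, ConjAct.smul_def, ConjAct.ofConjAct_toConjAct, ← hab,
    ← map_inv, ← map_mul, ← map_mul] at h4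
  have h5 : (t * a * t⁻¹)⁻¹ * a ∈ Z := QuotientGroup.eq.mp h4
  rcases (hZmem _).mp h5 with h6 | h6
  · left
    exact inv_mul_eq_one.mp h6
  · right
    have h7 : a = t * a * t⁻¹ * z := inv_mul_eq_iff_eq_mul.mp h6
    have h8 : t * a * t⁻¹ = a * z := by
      calc t * a * t⁻¹ = t * a * t⁻¹ * (z * z) := by rw [hz2, mul_one]
        _ = (t * a * t⁻¹ * z) * z := by rw [mul_assoc (t * a * t⁻¹) z z]
        _ = a * z := by rw [← h7]
    rw [h8, hzc a]

/-- **(B6) LEMMA T**, generic form. -/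
theorem lemma_T {G : Type*} [Group G] (T X Γ : Subgroup G) [Finite T] (hT2 : IsPGroup 2 T)
    (hXT : X ≤ T) (hTΓ : T ≤ Γ) (z : G) (hzX : z ∈ X) (hz2 : z * z = 1)
    (hzc : ∀ g ∈ Γ, g * z = z * g)
    (hXn : ∀ g ∈ Γ, ∀ x ∈ X, g * x * g⁻¹ ∈ X)
    (hTn : ∀ g ∈ Γ, ∀ t ∈ T, g * t * g⁻¹ ∈ T)
    (hcomm : ∀ x ∈ X, ∀ y ∈ X, x * y = y * x ∨ x * y = z * (y * x))
    (hB1 : ∀ A : Subgroup G, A ≤ X → (∀ g ∈ Γ, ∀ a ∈ A, g * a * g⁻¹ ∈ A) →
      (∀ a ∈ A, ∀ a' ∈ A, a * a' = a' * a) → ∀ a ∈ A, a = 1 ∨ a = z) :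
    ∀ t ∈ T, ∀ x ∈ X, t * x * t⁻¹ = x ∨ t * x * t⁻¹ = z * x := by
  by_contra hcon
  push Not at hcon
  obtain ⟨t₀, ht₀, x₀, hx₀, hne1, hne2⟩ := hcon
  have hzinv : z⁻¹ = z := inv_eq_of_mul_eq_one_right hz2
  have hXΓ : X ≤ Γ := hXT.trans hTΓ
  set gens : Set G := {z} ∪ {c | ∃ t ∈ T, ∃ x ∈ X, c = t * x * t⁻¹ * x⁻¹} with hgens
  set Y : Subgroup G := Subgroup.closure gens with hY
  have hYX : Y ≤ X := by
    rw [hY, Subgroup.closure_le]
    rintro c (hc | ⟨t, ht, x, hx, rfl⟩)
    · rw [Set.mem_singleton_iff] at hc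
      rw [hc]; exact hzX
    · exact X.mul_mem (hXn t (hTΓ ht) x hx) (X.inv_mem hx)
  have hzconj : ∀ g ∈ Γ, g * z * g⁻¹ = z := by
    intro g hg
    rw [hzc g hg, mul_inv_cancel_right]
  have hYn : ∀ g ∈ Γ, ∀ y ∈ Y, g * y * g⁻¹ ∈ Y := by
    intro g hg y hy
    rw [hY] at hy
    refine Subgroup.closure_induction (p := fun y _ => g * y * g⁻¹ ∈ Y) ?_ ?_ ?_ ?_ hy
    · rintro c (hc | ⟨t, ht, x, hx, rfl⟩)
      · rw [Set.mem_singleton_iff] at hc
        rw [hc, hzconj g hg]
        exact Subgroup.subset_closure (Or.inl rfl)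
      · refine Subgroup.subset_closure (Or.inr ⟨g * t * g⁻¹, hTn g hg t ht, g * x * g⁻¹,
          hXn g hg x hx, ?_⟩)
        group
    · rw [mul_one, mul_inv_cancel]; exact Y.one_mem
    · intro a b _ _ iha ihb
      have : g * (a * b) * g⁻¹ = (g * a * g⁻¹) * (g * b * g⁻¹) := by group
      rw [this]; exact Y.mul_mem iha ihb
    · intro a _ iha
      have : g * a⁻¹ * g⁻¹ = (g * a * g⁻¹)⁻¹ := by group
      rw [this]; exact Y.inv_mem iha
  -- the subgroup `A`
  let A : Subgroup G :=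
    { carrier := {a | a ∈ Y ∧ ∀ t ∈ T, t * a * t⁻¹ = a ∨ t * a * t⁻¹ = z * a}
      one_mem' := ⟨Y.one_mem, fun t _ => Or.inl (by rw [mul_one, mul_inv_cancel])⟩
      mul_mem' := by
        rintro a a' ⟨haY, ha⟩ ⟨ha'Y, ha'⟩
        refine ⟨Y.mul_mem haY ha'Y, fun t ht => ?_⟩
        have hza : a * z = z * a := hzc a (hXΓ (hYX haY))
        have hsplit : t * (a * a') * t⁻¹ = (t * a * t⁻¹) * (t * a' * t⁻¹) := by group
        rw [hsplit]
        rcases ha t ht with h1 | h1 <;> rcases ha' t ht with h2 | h2 <;> rw [h1, h2]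
        · left; rfl
        · right; rw [← mul_assoc, hza, mul_assoc]
        · right; rw [mul_assoc]
        · left
          rw [mul_assoc z a (z * a'), ← mul_assoc a z a', hza, mul_assoc z a a', ← mul_assoc z z,
            hz2, one_mul]
      inv_mem' := by
        rintro a ⟨haY, ha⟩
        refine ⟨Y.inv_mem haY, fun t ht => ?_⟩
        have hza : a * z = z * a := hzc a (hXΓ (hYX haY))
        have hsplit : t * a⁻¹ * t⁻¹ = (t * a * t⁻¹)⁻¹ := by group
        rw [hsplit]
        rcases ha t ht with h1 | h1 <;> rw [h1]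
        · left; rfl
        · right
          rw [mul_inv_rev, hzinv]
          have : a⁻¹ * z = z * a⁻¹ := by
            have := congrArg (fun w => a⁻¹ * w * a⁻¹) hza
            simpa [mul_assoc] using this.symm
          exact this }
  have hA_mem : ∀ a, a ∈ A ↔ a ∈ Y ∧ ∀ t ∈ T, t * a * t⁻¹ = a ∨ t * a * t⁻¹ = z * a :=
    fun a => Iff.rfl
  have hAX : A ≤ X := fun a ha => hYX ((hA_mem a).mp ha).1
  have hAn : ∀ g ∈ Γ, ∀ a ∈ A, g * a * g⁻¹ ∈ A := by
    intro g hg a ha
    obtain ⟨haY, hat⟩ := (hA_mem a).mp ha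
    refine (hA_mem _).mpr ⟨hYn g hg a haY, fun t ht => ?_⟩
    have ht' : g⁻¹ * t * g⁻¹⁻¹ ∈ T := hTn g⁻¹ (Γ.inv_mem hg) t ht
    have hsplit : t * (g * a * g⁻¹) * t⁻¹
        = g * ((g⁻¹ * t * g⁻¹⁻¹) * a * (g⁻¹ * t * g⁻¹⁻¹)⁻¹) * g⁻¹ := by group
    rw [hsplit]
    rcases hat _ ht' with h1 | h1 <;> rw [h1]
    · left; rfl
    · right
      have : g * (z * a) * g⁻¹ = (g * z * g⁻¹) * (g * a * g⁻¹) := by group
      rw [this, hzconj g hg]
  have hAab : ∀ a ∈ A, ∀ a' ∈ A, a * a' = a' * a := by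
    intro a ha a' ha'
    obtain ⟨haY, hat⟩ := (hA_mem a).mp ha
    have haX : a ∈ X := hYX haY
    have hle : Y ≤ Subgroup.centralizer ({a} : Set G) := by
      rw [hY, Subgroup.closure_le]
      rintro c (hc | ⟨t, ht, x, hx, rfl⟩)
      · rw [Set.mem_singleton_iff] at hc
        rw [hc, SetLike.mem_coe, Subgroup.mem_centralizer_iff]
        intro h hh
        rw [Set.mem_singleton_iff] at hh
        rw [hh]; exact hzc a (hXΓ haX)
      · rw [SetLike.mem_coe, Subgroup.mem_centralizer_iff]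
        intro h hh
        rw [Set.mem_singleton_iff] at hh
        rw [hh]
        -- a t a⁻¹ = ε t
        have hzt : Commute z t := (hzc t (hTΓ ht)).symm
        have hzx : Commute z x := (hzc x (hXΓ hx)).symm
        obtain ⟨e, he, hae⟩ : ∃ e : G, (e = 1 ∨ e = z) ∧ a * t * a⁻¹ = e * t := by
          rcases hat t ht with h1 | h1
          · refine ⟨1, Or.inl rfl, ?_⟩
            have : t * a = a * t := by
              have := congrArg (fun w => w * t) h1
              simpa [mul_assoc] using this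
            rw [← this, mul_inv_cancel_right, one_mul]
          · refine ⟨z, Or.inr rfl, ?_⟩
            have h2 : t * a = z * a * t := by
              have := congrArg (fun w => w * t) h1
              simpa [mul_assoc] using this
            have h3 : a * t = z * t * a := by
              calc a * t = (z * z) * (a * t) := by rw [hz2, one_mul]
                _ = z * (z * a * t) := by group
                _ = z * (t * a) := by rw [h2]
                _ = z * t * a := by group
            rw [h3, mul_inv_cancel_right]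
        obtain ⟨e', he', hae'⟩ : ∃ e' : G, (e' = 1 ∨ e' = z) ∧ a * x * a⁻¹ = e' * x := by
          rcases hcomm a haX x hx with h1 | h1
          · exact ⟨1, Or.inl rfl, by rw [h1, mul_inv_cancel_right, one_mul]⟩
          · exact ⟨z, Or.inr rfl, by rw [h1, ← mul_assoc, mul_inv_cancel_right]⟩
        have hce : ∀ w : G, Commute z w → Commute e w := by
          intro w hw
          rcases he with rfl | rfl
          · exact Commute.one_left w
          · exact hw
        have hce' : ∀ w : G, Commute z w → Commute e' w := by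
          intro w hw
          rcases he' with rfl | rfl
          · exact Commute.one_left w
          · exact hw
        have hee' : Commute e e' := by
          apply hce
          rcases he' with h | h
          · rw [h]; exact Commute.one_right z
          · rw [h]
        have hconj : a * (t * x * t⁻¹ * x⁻¹) * a⁻¹ = t * x * t⁻¹ * x⁻¹ := by
          have hsplit : a * (t * x * t⁻¹ * x⁻¹) * a⁻¹
              = (a * t * a⁻¹) * (a * x * a⁻¹) * (a * t * a⁻¹)⁻¹ * (a * x * a⁻¹)⁻¹ := by group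
          rw [hsplit, hae, hae']
          exact comm_central e e' t x (hce t hzt) (hce x hzx) (hce' t hzt) (hce' x hzx) hee'
        have := congrArg (fun w => w * a) hconj
        simpa [mul_assoc] using this
    have := hle ((hA_mem a').mp ha').1
    rw [Subgroup.mem_centralizer_iff] at this
    exact this a rfl
  -- a non-trivial element of `A`
  have hYnorm : (Y.subgroupOf T).Normal := by
    refine ⟨fun y hy t => ?_⟩
    rw [Subgroup.mem_subgroupOf] at hy ⊢
    simpa using hYn (t : G) (hTΓ t.2) (y : G) hy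
  have hex := exists_fixed_mod (T := ↥T) hT2 (Y.subgroupOf T) (⟨z, hXT hzX⟩ : ↥T)
    (Subtype.ext (by simpa using hz2))
    (fun t => Subtype.ext (by simpa using hzc (t : G) (hTΓ t.2)))
    ⟨⟨t₀ * x₀ * t₀⁻¹ * x₀⁻¹, T.mul_mem (T.mul_mem (T.mul_mem ht₀ (hXT hx₀)) (T.inv_mem ht₀))
        (T.inv_mem (hXT hx₀))⟩, by
      rw [Subgroup.mem_subgroupOf]
      exact Subgroup.subset_closure (Or.inr ⟨t₀, ht₀, x₀, hx₀, rfl⟩), by
      intro h
      have h' : t₀ * x₀ * t₀⁻¹ * x₀⁻¹ = 1 := congrArg Subtype.val h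
      exact hne1 (mul_inv_eq_one.mp h'), by
      intro h
      have h' : t₀ * x₀ * t₀⁻¹ * x₀⁻¹ = z := congrArg Subtype.val h
      exact hne2 (mul_inv_eq_iff_eq_mul.mp h')⟩
  obtain ⟨a, haY, ha1, haz, hat⟩ := hex
  have haA : (a : G) ∈ A := by
    refine (hA_mem _).mpr ⟨by simpa [Subgroup.mem_subgroupOf] using haY, fun t ht => ?_⟩
    rcases hat ⟨t, ht⟩ with h | h
    · left
      have := congrArg Subtype.val h
      simpa using this
    · right
      have := congrArg Subtype.val h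
      simpa using this
  rcases hB1 A hAX hAn hAab (a : G) haA with h | h
  · exact ha1 (Subtype.ext (by simpa using h))
  · exact haz (Subtype.ext (by simpa using h))

end Cfsg.Agent.Lib.H3.S4415B6
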