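/-
helper3: piece e6a1 of helper10's sub-farm-out of SU3-e6 (S5778, `q = 5`; tools/blueprints/SU3E6_sigs.lean):
a pair of generators in normal position of `R = 3^{1+2}`.
-/
import Mathlib
import Cfsg.Agent.Lib.H10.SU3E6Defs
import Cfsg.Agent.Lib.H4.Herm

set_option autoImplicit false

namespace Cfsg.Agent.Lib.H3.SU3

open Cfsg Cfsg.Geo Cfsg.Agent.Lib.Lead.Asch Cfsg.Agent.Lib.H27.SU3 Cfsg.Agent.Lib.H10.SU3
open scoped MatrixGroups Matrix

variable {F : Type*} [Field F] [Fintype F]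

/-- `3 ≠ 0` in the field with 25 elements -/
theorem e6a1_three_ne (hF : Fintype.card F = 5 ^ 2) : (3 : F) ≠ 0 := by
  have h25 : (25 : F) = 0 := by
    have h := FiniteField.cast_card_eq_zero F
    rw [hF] at h
    norm_num at h
    exact h
  intro h
  have : (1 : F) = 0 := by linear_combination h25 - 8 * h
  exact one_ne_zero this

/-- an element of order dividing 3 of the similarity group is an isometry (`q = 5`) -/
theorem e6a1_mem_GU (hF : Fintype.card F = 5 ^ 2) (r : GL (Fin 3) F)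
    (hr : r ∈ similarityGroup (hermForm 3 F 5)) (h3 : r ^ 3 = 1) : r ∈ GU 3 F 5 := by
  obtain ⟨cc, hcc⟩ := hr
  set e0 : Fin 3 → F := Pi.single 0 1 with he0
  have hf0 : hermForm 3 F 5 e0 e0 = 1 := by
    simp [hermForm, Fin.sum_univ_three, he0]
  have hr3 : (r : Matrix (Fin 3) (Fin 3) F) *ᵥ ((r : Matrix (Fin 3) (Fin 3) F) *ᵥ
      ((r : Matrix (Fin 3) (Fin 3) F) *ᵥ e0)) = e0 := by
    rw [Matrix.mulVec_mulVec, Matrix.mulVec_mulVec, ← Units.val_mul, ← Units.val_mul]
    have : r * r * r = 1 := by rw [← h3, pow_succ, pow_two]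
    rw [this, Units.val_one, Matrix.one_mulVec]
  have hc3 : (cc : F) ^ 3 = 1 := by
    have h := hcc ((r : Matrix (Fin 3) (Fin 3) F) *ᵥ ((r : Matrix (Fin 3) (Fin 3) F) *ᵥ e0))
      ((r : Matrix (Fin 3) (Fin 3) F) *ᵥ ((r : Matrix (Fin 3) (Fin 3) F) *ᵥ e0))
    rw [hr3, hcc, hcc, hf0] at h
    linear_combination -h
  have hc5 : (cc : F) ^ 5 = cc := by
    have h := Cfsg.Agent.Lib.H4.hermForm_conj 3 hF ((r : Matrix (Fin 3) (Fin 3) F) *ᵥ e0)
      ((r : Matrix (Fin 3) (Fin 3) F) *ᵥ e0)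
    rw [hcc, hf0, mul_one] at h
    exact h
  have hc0 : (cc : F) ≠ 0 := cc.ne_zero
  have hc1 : (cc : F) = 1 := by
    have h2 : (cc : F) * ((cc : F) - 1) = 0 := by linear_combination hc5 - (cc : F) ^ 2 * hc3
    rcases mul_eq_zero.1 h2 with h | h
    · exact absurd h hc0
    · exact sub_eq_zero.1 h
  intro u v
  show hermForm 3 F 5 ((r : Matrix (Fin 3) (Fin 3) F) *ᵥ u) ((r : Matrix (Fin 3) (Fin 3) F) *ᵥ v) = _
  rw [hcc, hc1, one_mul]

/-- an eigenvector of a matrix with `x ^ 3 = 1`, eigenvalue a power of `w` -/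
theorem e6a1_eigen (hF : Fintype.card F = 5 ^ 2) {w : F} (hw : w ^ 2 + w + 1 = 0)
    (x0 : Matrix (Fin 3) (Fin 3) F) (hx : x0 ^ 3 = 1) :
    ∃ v : Fin 3 → F, v ≠ 0 ∧ ∃ j : ℕ, (w ^ j) • (x0 *ᵥ v) = v := by
  have h3 := e6a1_three_ne hF
  have hw3 : w ^ 3 = 1 := by linear_combination (w - 1) * hw
  set u : Fin 3 → F := Pi.single 0 1 with hu
  have hu0 : u ≠ 0 := by
    intro h
    have := congrFun h 0
    simp [hu] at this
  set a : Fin 3 → F := x0 *ᵥ u with ha
  set b : Fin 3 → F := x0 *ᵥ a with hb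
  have hc : x0 *ᵥ b = u := by
    rw [hb, ha, Matrix.mulVec_mulVec, Matrix.mulVec_mulVec]
    have : x0 * x0 * x0 = 1 := by rw [← hx, pow_succ, pow_two]
    rw [this, Matrix.one_mulVec]
  by_cases h1 : u + a + b = 0
  · by_cases h2 : u + w ^ 2 • a + w • b = 0
    · -- third projector
      refine ⟨u + w • a + w ^ 2 • b, ?_, 1, ?_⟩
      · intro h
        apply hu0
        have h4 : (3 : F) • u = 0 := by
          have : (3 : F) • u = (u + a + b) + (u + w ^ 2 • a + w • b) + (u + w • a + w ^ 2 • b)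
              - (w ^ 2 + w + 1) • a - (w ^ 2 + w + 1) • b := by module
          rw [this, h1, h2, h, hw]
          simp
        rcases smul_eq_zero.1 h4 with h5 | h5
        · exact absurd h5 h3
        · exact h5
      · rw [Matrix.mulVec_add, Matrix.mulVec_add, Matrix.mulVec_smul, Matrix.mulVec_smul, ← ha, ← hb, hc]
        have : w ^ 1 • (a + w • b + w ^ 2 • u) = u + w • a + w ^ 2 • b + (w ^ 3 - 1) • u := by module
        rw [this, hw3, sub_self, zero_smul, add_zero]
    · refine ⟨u + w ^ 2 • a + w • b, h2, 2, ?_⟩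
      rw [Matrix.mulVec_add, Matrix.mulVec_add, Matrix.mulVec_smul, Matrix.mulVec_smul, ← ha, ← hb, hc]
      have : w ^ 2 • (a + w ^ 2 • b + w • u) = u + w ^ 2 • a + w • b + (w ^ 3 - 1) • u
          + (w * (w ^ 3 - 1)) • b := by module
      rw [this, hw3, sub_self, mul_zero, zero_smul, zero_smul, add_zero, add_zero]
  · refine ⟨u + a + b, h1, 0, ?_⟩
    rw [Matrix.mulVec_add, Matrix.mulVec_add, ← ha, ← hb, hc, pow_zero, one_smul]
    abel

/-- **e6a1** (group theory): a pair of generators in normal position. -/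
theorem e6a1 (hF : Fintype.card F = 5 ^ 2) : E6a1Stmt F := by
  classical
  intro w hw R hsym hsim hcard hcen hcomm
  have h3 := e6a1_three_ne hF
  have hw3 : w ^ 3 = 1 := by linear_combination (w - 1) * hw
  have hw1 : w ≠ 1 := by
    rintro rfl
    apply h3
    linear_combination hw
  -- exponent 3
  have hexp : ∀ r ∈ R, r ^ 3 = 1 := by
    intro r hr
    have h := Monoid.pow_exponent_eq_one (⟨r, hr⟩ : R)
    rw [hsym.exponent_eq] at h
    have h6 : (3 * Nat.gcd 2 3) = 3 := by norm_num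
    rw [h6] at h
    have := congrArg Subtype.val h
    simpa using this
  -- `R` is not commutative
  have hnc : ∃ x0 ∈ R, ∃ y0 ∈ R, x0 * y0 ≠ y0 * x0 := by
    by_contra hcon
    have hall : ∀ x0 ∈ R, ∀ y0 ∈ R, x0 * y0 = y0 * x0 := by
      intro x0 hx0 y0 hy0
      by_contra h
      exact hcon ⟨x0, hx0, y0, hy0, h⟩
    have htop : Subgroup.center R = ⊤ := by
      rw [eq_top_iff]
      intro a _
      rw [Subgroup.mem_center_iff]
      intro b
      exact Subtype.ext (hall b b.2 a a.2)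
    rw [htop, Subgroup.card_top, hcard] at hcen
    omega
  obtain ⟨x0, hx0, y0, hy0, hxy0⟩ := hnc
  -- the commutator
  have hstep1 : ∃ x1 ∈ R, ∃ y1 ∈ R, ∃ z ∈ R,
      (z : Matrix (Fin 3) (Fin 3) F) = w • (1 : Matrix (Fin 3) (Fin 3) F) ∧
      (x1 : Matrix (Fin 3) (Fin 3) F) * (y1 : Matrix (Fin 3) (Fin 3) F) =
        w • ((y1 : Matrix (Fin 3) (Fin 3) F) * (x1 : Matrix (Fin 3) (Fin 3) F)) := by
    set c : GL (Fin 3) F := x0 * y0 * x0⁻¹ * y0⁻¹ with hc
    have hcR : c ∈ R := R.mul_mem (R.mul_mem (R.mul_mem hx0 hy0) (R.inv_mem hx0)) (R.inv_mem hy0)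
    obtain ⟨μ, hμ⟩ := (mem_scalars_iff c).1 (hcomm x0 hx0 y0 hy0)
    have hc1 : c ≠ 1 := by
      intro h
      apply hxy0
      have : x0 * y0 = c * (y0 * x0) := by rw [hc]; group
      rw [this, h, one_mul]
    have hμ1 : (μ : F) ≠ 1 := by
      intro h
      apply hc1
      apply Units.ext
      rw [hμ, h, one_smul, Units.val_one]
    have hμ3 : (μ : F) ^ 3 = 1 := by
      have h := hexp c hcR
      have h1 := congrArg (fun g : GL (Fin 3) F => (g : Matrix (Fin 3) (Fin 3) F) 0 0) h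
      simp only [Units.val_pow_eq_pow_val, hμ, smul_pow, one_pow, Units.val_one, Matrix.smul_apply,
        Matrix.one_apply_eq, smul_eq_mul, mul_one] at h1
      exact h1
    have hμ2 : (μ : F) ^ 2 + μ + 1 = 0 := by
      have : ((μ : F) - 1) * ((μ : F) ^ 2 + μ + 1) = 0 := by linear_combination hμ3
      rcases mul_eq_zero.1 this with h | h
      · exact absurd (sub_eq_zero.1 h) hμ1
      · exact h
    have hcases : ((μ : F) - w) * ((μ : F) - w ^ 2) = 0 := by
      linear_combination hμ2 - (μ : F) * hw + hw3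
    have hrel0 : (x0 : Matrix (Fin 3) (Fin 3) F) * (y0 : Matrix (Fin 3) (Fin 3) F) =
        (μ : F) • ((y0 : Matrix (Fin 3) (Fin 3) F) * (x0 : Matrix (Fin 3) (Fin 3) F)) := by
      have : x0 * y0 = c * (y0 * x0) := by rw [hc]; group
      have h1 := congrArg (fun g : GL (Fin 3) F => (g : Matrix (Fin 3) (Fin 3) F)) this
      simp only [Units.val_mul] at h1
      rw [h1, hμ, Matrix.smul_mul, Matrix.one_mul]
    rcases mul_eq_zero.1 hcases with h | h
    · have hμw : (μ : F) = w := sub_eq_zero.1 h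
      refine ⟨x0, hx0, y0, hy0, c, hcR, by rw [hμ, hμw], by rw [hrel0, hμw]⟩
    · have hμw : (μ : F) = w ^ 2 := sub_eq_zero.1 h
      refine ⟨y0, hy0, x0, hx0, c ^ 2, R.pow_mem hcR 2, ?_, ?_⟩
      · rw [Units.val_pow_eq_pow_val, hμ, hμw, smul_pow, one_pow]
        congr 1
        linear_combination w * hw3
      · rw [hrel0, hμw, smul_smul]
        have : w * w ^ 2 = 1 := by linear_combination hw3
        rw [this, one_smul]
  obtain ⟨x1, hx1, y1, hy1, z, hz, hzm, hrel1⟩ := hstep1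
  -- the eigenvector
  have hx13 : (x1 : Matrix (Fin 3) (Fin 3) F) ^ 3 = 1 := by
    rw [← Units.val_pow_eq_pow_val, hexp x1 hx1, Units.val_one]
  obtain ⟨v, hv0, j, hv⟩ := e6a1_eigen hF hw (x1 : Matrix (Fin 3) (Fin 3) F) hx13
  set x : GL (Fin 3) F := z ^ j * x1 with hx
  have hxR : x ∈ R := R.mul_mem (R.pow_mem hz j) hx1
  have hxm : (x : Matrix (Fin 3) (Fin 3) F) = (w ^ j) • (x1 : Matrix (Fin 3) (Fin 3) F) := by
    rw [hx, Units.val_mul, Units.val_pow_eq_pow_val, hzm, smul_pow, one_pow, Matrix.smul_mul,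
      Matrix.one_mul]
  have hrel : (x : Matrix (Fin 3) (Fin 3) F) * (y1 : Matrix (Fin 3) (Fin 3) F) =
      w • ((y1 : Matrix (Fin 3) (Fin 3) F) * (x : Matrix (Fin 3) (Fin 3) F)) := by
    rw [hxm, Matrix.smul_mul, hrel1, Matrix.mul_smul, smul_comm]
  have hnotcomm : x * y1 ≠ y1 * x := by
    intro h
    have h1 := congrArg (fun g : GL (Fin 3) F => (g : Matrix (Fin 3) (Fin 3) F)) h
    simp only [Units.val_mul] at h1
    rw [hrel] at h1
    have h2 : (w - 1) • ((y1 : Matrix (Fin 3) (Fin 3) F) * (x : Matrix (Fin 3) (Fin 3) F)) = 0 := by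
      rw [sub_smul, one_smul, h1, sub_self]
    rcases smul_eq_zero.1 h2 with h4 | h4
    · exact hw1 (sub_eq_zero.1 h4)
    · have h5 : ((y1 * x : GL (Fin 3) F) : Matrix (Fin 3) (Fin 3) F) = 0 := by
        rw [Units.val_mul]; exact h4
      have h6 := (y1 * x).isUnit
      rw [h5] at h6
      exact not_isUnit_zero h6
  refine ⟨x, y1, hxR, hy1, e6a1_mem_GU hF x (hsim hxR) (hexp x hxR),
    e6a1_mem_GU hF y1 (hsim hy1) (hexp y1 hy1), hexp x hxR, hexp y1 hy1, hrel,
    ⟨v, hv0, by rw [hxm, Matrix.smul_mulVec]; exact hv⟩, ?_⟩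
  -- generation
  set S : Subgroup (GL (Fin 3) F) := Subgroup.closure {x, y1} with hS
  have hSR : S ≤ R := by
    rw [hS, Subgroup.closure_le]
    intro g hg
    rcases hg with rfl | rfl
    · exact hxR
    · exact hy1
  have hxS : x ∈ S := Subgroup.subset_closure (by simp)
  have hyS : y1 ∈ S := Subgroup.subset_closure (by simp)
  have hdvd : Nat.card S ∣ 3 ^ 3 := by
    have := Subgroup.card_dvd_of_le hSR
    rw [hcard] at this
    exact this
  obtain ⟨k, hk, hkS⟩ := (Nat.dvd_prime_pow Nat.prime_three).1 hdvd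
  have : Fact (Nat.Prime 3) := ⟨Nat.prime_three⟩
  have hcomS : (∀ a b : S, a * b = b * a) → False := by
    intro h
    apply hnotcomm
    have := h ⟨x, hxS⟩ ⟨y1, hyS⟩
    exact congrArg Subtype.val this
  have hk3 : k = 3 := by
    by_contra hne
    have hk' : k = 0 ∨ k = 1 ∨ k = 2 := by omega
    apply hcomS
    rcases hk' with rfl | rfl | rfl
    · have hsub : Subsingleton S := (Nat.card_eq_one_iff_unique.1 (by rw [hkS, pow_zero])).1
      intro a b
      exact Subsingleton.elim _ _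
    · have : IsCyclic S := isCyclic_of_prime_card (p := 3) (by rw [hkS, pow_one])
      intro a b
      exact (IsCyclic.isMulCommutative (α := S)).is_comm.comm a b
    · exact (IsPGroup.isMulCommutative_of_card_eq_prime_sq (p := 3) hkS).is_comm.comm
  symm
  apply Subgroup.eq_of_le_of_card_ge hSR
  rw [hcard, hkS, hk3]
  norm_num

end Cfsg.Agent.Lib.H3.SU3
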