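import Mathlib
import Cfsg.Agent.Lib.H8.AschSM4a
import Cfsg.Agent.Lib.H8.AschSM2

/-!
# S5662, module SM4, piece SM4-D (helper3): `q` even, `f = G₁ ⊗ C` with both factors symmetric with zero
diagonal gives class 8
-/

set_option autoImplicit false
set_option linter.unusedSectionVars false

namespace Cfsg.Agent.Lib.H3.AschS

open Cfsg Cfsg.Geo Cfsg.Agent.Lib.Lead.Asch Cfsg.Agent.Lib.H6.Asch Cfsg.Agent.Lib.H20.Asch
  Cfsg.Agent.Lib.H11.AschS Cfsg.Agent.Lib.H8.AschS
open scoped MatrixGroups Matrix Kronecker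

variable {F : Type*} [Field F]

/-- the strict upper triangle of a square matrix -/
def SM4D_upper {m : ℕ} (S : Matrix (Fin m) (Fin m) F) : Matrix (Fin m) (Fin m) F :=
  fun a a' => if a < a' then S a a' else 0

theorem SM4D_upper_add {m : ℕ} (S : Matrix (Fin m) (Fin m) F) (hS : Sᵀ = S)
    (h0 : ∀ a, S a a = 0) : SM4D_upper S + (SM4D_upper S)ᵀ = S := by
  ext a a'
  simp only [Matrix.add_apply, Matrix.transpose_apply, SM4D_upper]
  rcases lt_trichotomy a a' with h | h | h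
  · rw [if_pos h, if_neg (not_lt.mpr h.le), add_zero]
  · subst h
    rw [if_neg (lt_irrefl _), add_zero, h0]
  · rw [if_neg (not_lt.mpr h.le), if_pos h, zero_add]
    have := congrFun (congrFun hS a) a'
    rw [Matrix.transpose_apply] at this
    exact this

section qf
variable {κ : Type} [Fintype κ] [DecidableEq κ]

/-- the quadratic map `X ↦ X ⬝ M X` -/
def SM4D_qf (M : Matrix κ κ F) (X : κ → F) : F := X ⬝ᵥ M *ᵥ X

theorem SM4D_formOfGram_eq (G : Matrix κ κ F) (X Y : κ → F) :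
    formOfGram id G X Y = X ⬝ᵥ G *ᵥ Y := by
  unfold formOfGram dotProduct Matrix.mulVec dotProduct
  refine Finset.sum_congr rfl fun a _ => ?_
  rw [Finset.mul_sum]
  refine Finset.sum_congr rfl fun b _ => ?_
  simp only [id]
  rw [mul_assoc]

theorem SM4D_qf_smul (M : Matrix κ κ F) (c : F) (X : κ → F) :
    SM4D_qf M (c • X) = c ^ 2 * SM4D_qf M X := by
  unfold SM4D_qf
  rw [Matrix.mulVec_smul, smul_dotProduct, dotProduct_smul, smul_eq_mul, smul_eq_mul]
  ring

theorem SM4D_dot_transpose (M : Matrix κ κ F) (X Y : κ → F) :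
    X ⬝ᵥ Mᵀ *ᵥ Y = Y ⬝ᵥ M *ᵥ X := by
  rw [Matrix.mulVec_transpose, dotProduct_comm, ← Matrix.dotProduct_mulVec]

theorem SM4D_polar_qf (M : Matrix κ κ F) (X Y : κ → F) :
    QuadraticMap.polar (SM4D_qf M) X Y = formOfGram id (M + Mᵀ) X Y := by
  rw [SM4D_formOfGram_eq, Matrix.add_mulVec, dotProduct_add, SM4D_dot_transpose]
  unfold QuadraticMap.polar SM4D_qf
  rw [Matrix.mulVec_add, dotProduct_add, add_dotProduct, add_dotProduct]
  ring

/-- two maps with the same polar form that agree on the multiples of the basis vectors (and at `0`)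
are equal -/
theorem SM4D_quad_ext (Q R : (κ → F) → F)
    (hpol : ∀ X Y, QuadraticMap.polar Q X Y = QuadraticMap.polar R X Y)
    (hb : ∀ p c, Q (Pi.single p c) = R (Pi.single p c)) (h0 : Q 0 = R 0) (X : κ → F) :
    Q X = R X := by
  have key : ∀ s : Finset κ, Q (∑ p ∈ s, Pi.single p (X p)) = R (∑ p ∈ s, Pi.single p (X p)) := by
    intro s
    induction s using Finset.induction_on with
    | empty => simpa using h0
    | insert p s hp ih =>
      rw [Finset.sum_insert hp]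
      have h1 := hpol (Pi.single p (X p)) (∑ p ∈ s, Pi.single p (X p))
      unfold QuadraticMap.polar at h1
      have h2 := hb p (X p)
      linear_combination h1 + h2 + ih
  have := key Finset.univ
  rwa [Finset.univ_sum_single] at this

end qf

section kron
variable {d k : ℕ}

theorem SM4D_qf_kron_pure (U : Matrix (Fin d) (Fin d) F) (C : Matrix (Fin k) (Fin k) F)
    (v : Fin d → F) (w : Fin k → F) :
    SM4D_qf (U ⊗ₖ C) (fun p => v p.1 * w p.2) = (v ⬝ᵥ U *ᵥ v) * (w ⬝ᵥ C *ᵥ w) := by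
  unfold SM4D_qf dotProduct Matrix.mulVec dotProduct
  simp only [Fintype.sum_prod_type, Matrix.kroneckerMap_apply]
  rw [Finset.sum_mul_sum]
  refine Finset.sum_congr rfl fun a _ => Finset.sum_congr rfl fun b _ => ?_
  rw [show v a * ∑ x, U a x * v x = ∑ x, v a * (U a x * v x) from Finset.mul_sum _ _ _,
    show w b * ∑ x, C b x * w x = ∑ x, w b * (C b x * w x) from Finset.mul_sum _ _ _,
    Finset.sum_mul_sum, Finset.mul_sum]
  refine Finset.sum_congr rfl fun a' _ => ?_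
  rw [Finset.mul_sum]
  refine Finset.sum_congr rfl fun b' _ => ?_
  ring

/-- In characteristic `2` a symmetric matrix with zero diagonal gives an alternating form. -/
theorem SM4D_dot_self_eq_zero (h2 : (2 : F) = 0) (C : Matrix (Fin k) (Fin k) F) (hC : Cᵀ = C)
    (hC0 : ∀ b, C b b = 0) (w : Fin k → F) : w ⬝ᵥ C *ᵥ w = 0 := by
  rw [← SM4D_upper_add C hC hC0, Matrix.add_mulVec, dotProduct_add, SM4D_dot_transpose]
  linear_combination (w ⬝ᵥ SM4D_upper C *ᵥ w) * h2

/-- **The quadratic form of a tensor product of two alternating forms** (`SM8.3` needs it too). -/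
theorem exists_quad_of_tensor_alt (h2 : (2 : F) = 0)
    (G₁ : Matrix (Fin d) (Fin d) F) (C : Matrix (Fin k) (Fin k) F)
    (hG₁ : G₁ᵀ = G₁) (hC : Cᵀ = C) (hG₁0 : ∀ a, G₁ a a = 0) (hC0 : ∀ b, C b b = 0) :
    ∃ Q₀ : (Fin d × Fin k → F) → F,
      (∀ (c : F) (X : Fin d × Fin k → F), Q₀ (c • X) = c ^ 2 * Q₀ X) ∧
      (∀ X Y, QuadraticMap.polar Q₀ X Y = formOfGram id (G₁ ⊗ₖ C) X Y) ∧
      (∀ (v : Fin d → F) (w : Fin k → F), Q₀ (fun p => v p.1 * w p.2) = 0) := by
  refine ⟨SM4D_qf (SM4D_upper G₁ ⊗ₖ C), SM4D_qf_smul _, fun X Y => ?_, fun v w => ?_⟩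
  · rw [SM4D_polar_qf, kron_transpose, hC, ← Matrix.add_kronecker, SM4D_upper_add G₁ hG₁ hG₁0]
  · rw [SM4D_qf_kron_pure, SM4D_dot_self_eq_zero h2 C hC hC0, mul_zero]

/-- a quadratic map with polar form `G`, vanishing on the pure tensors, is fixed by every Kronecker
product fixing `G` -/
theorem SM4D_quad_fixed (G : Matrix (Fin d × Fin k) (Fin d × Fin k) F)
    (Q₀ : (Fin d × Fin k → F) → F)
    (hsmul : ∀ (c : F) (X : Fin d × Fin k → F), Q₀ (c • X) = c ^ 2 * Q₀ X)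
    (hpolar : ∀ X Y, QuadraticMap.polar Q₀ X Y = formOfGram id G X Y)
    (hpure : ∀ (v : Fin d → F) (w : Fin k → F), Q₀ (fun p => v p.1 * w p.2) = 0)
    (a : Matrix (Fin d) (Fin d) F) (b : Matrix (Fin k) (Fin k) F)
    (hfix : (a ⊗ₖ b)ᵀ * G * (a ⊗ₖ b) = G) (X : Fin d × Fin k → F) :
    Q₀ ((a ⊗ₖ b) *ᵥ X) = Q₀ X := by
  have hQ0 : Q₀ 0 = 0 := by
    have := hsmul 0 0
    rw [zero_smul] at this
    rw [this]; ring
  refine SM4D_quad_ext (fun X => Q₀ ((a ⊗ₖ b) *ᵥ X)) Q₀ (fun X Y => ?_) (fun p c => ?_) ?_ X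
  · have h1 : QuadraticMap.polar (fun X => Q₀ ((a ⊗ₖ b) *ᵥ X)) X Y =
        QuadraticMap.polar Q₀ ((a ⊗ₖ b) *ᵥ X) ((a ⊗ₖ b) *ᵥ Y) := by
      simp only [QuadraticMap.polar, Matrix.mulVec_add]
    rw [h1, hpolar, hpolar, SM4D_formOfGram_eq, SM4D_formOfGram_eq]
    conv_rhs => rw [← hfix]
    rw [← Matrix.mulVec_mulVec, ← Matrix.mulVec_mulVec, SM4D_dot_transpose, dotProduct_comm]
  · obtain ⟨i, j⟩ := p
    have e1 : (a ⊗ₖ b) *ᵥ (Pi.single (i, j) c : Fin d × Fin k → F) =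
        fun p => (c * a p.1 i) * b p.2 j := by
      funext p
      simp only [Matrix.mulVec, dotProduct, Pi.single_apply, mul_ite, mul_zero,
        Finset.sum_ite_eq', Finset.mem_univ, if_true, Matrix.kroneckerMap_apply]
      ring
    have e2 : (Pi.single (i, j) c : Fin d × Fin k → F) =
        fun p => (Pi.single i c : Fin d → F) p.1 * (Pi.single j 1 : Fin k → F) p.2 := by
      funext p
      obtain ⟨p1, p2⟩ := p
      simp only [Pi.single_apply, Prod.mk.injEq]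
      by_cases h1 : p1 = i
      · by_cases h2 : p2 = j
        · simp [h1, h2]
        · simp [h1, h2]
      · simp [h1]
    show Q₀ ((a ⊗ₖ b) *ᵥ Pi.single (i, j) c) = Q₀ (Pi.single (i, j) c)
    rw [e1, e2, hpure (fun x => c * a x i) (fun y => b y j), hpure]
  · show Q₀ ((a ⊗ₖ b) *ᵥ 0) = Q₀ 0
    rw [Matrix.mulVec_zero]

end kron

variable [Fintype F] {n : ℕ} {f : (Fin n → F) → (Fin n → F) → F}

/-- **SM4-D**. -/
theorem sc8_of_tensor_alt (hf : IsSymplecticForm f) (hq : ¬ Odd (Fintype.card F))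
    (H : Subgroup (GL (Fin n) F)) (hH : FixesForm (matrixSet H) f)
    {d k : ℕ} (e : Fin n ≃ Fin d × Fin k) (P : GL (Fin n) F)
    (G₁ : Matrix (Fin d) (Fin d) F) (C : Matrix (Fin k) (Fin k) F)
    (hG₁ : G₁ᵀ = G₁) (hC : Cᵀ = C) (hG₁0 : ∀ a, G₁ a a = 0) (hC0 : ∀ b, C b b = 0)
    (hform : ∀ x y : Fin d × Fin k → F,
      f (((P⁻¹ : GL (Fin n) F) : Matrix (Fin n) (Fin n) F) *ᵥ (x ∘ e))
        (((P⁻¹ : GL (Fin n) F) : Matrix (Fin n) (Fin n) F) *ᵥ (y ∘ e)) =
        formOfGram id (G₁ ⊗ₖ C) x y)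
    (hkron : ∀ h ∈ H, glReindex e (P * h * P⁻¹) ∈ kroneckerSubgroup d k F) :
    SC8 f H := by
  have h2 : (2 : F) = 0 := by
    have := neg_eq_self_of_not_odd hq (1 : F)
    linear_combination -this
  obtain ⟨Q₀, hsmul, hpolar, hpure⟩ := exists_quad_of_tensor_alt h2 G₁ C hG₁ hC hG₁0 hC0
  have hpol : ∀ u v, QuadraticMap.polar (fun v => Q₀ (transEquiv e P v)) u v = f u v := by
    intro u v
    have h1 : QuadraticMap.polar (fun v => Q₀ (transEquiv e P v)) u v =
        QuadraticMap.polar Q₀ (transEquiv e P u) (transEquiv e P v) := by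
      simp only [QuadraticMap.polar, map_add]
    rw [h1, hpolar, ← hform, ← transEquiv_symm_apply, ← transEquiv_symm_apply,
      LinearEquiv.symm_apply_apply, LinearEquiv.symm_apply_apply]
  have hpolfun : QuadraticMap.polar (fun v => Q₀ (transEquiv e P v)) = f := by
    funext u v
    exact hpol u v
  refine ⟨fun v => Q₀ (transEquiv e P v), hq, ⟨fun c v => ?_, ?_, ?_⟩, hpol, fun h hh => ?_⟩
  · show Q₀ (transEquiv e P (c • v)) = c ^ 2 * Q₀ (transEquiv e P v)
    rw [map_smul, hsmul]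
  · rw [hpolfun]; exact hf.bilinear
  · rw [hpolfun]; exact hf.nondegenerate
  · refine ⟨1, fun v => ?_⟩
    show Q₀ (transEquiv e P ((h : Matrix (Fin n) (Fin n) F) *ᵥ v)) =
      ((1 : Fˣ) : F) * Q₀ (transEquiv e P v)
    obtain ⟨a, b, hab⟩ := hkron h hh
    have hfix := gram_fix_of_fixesForm H hH e P (G₁ ⊗ₖ C) hform h hh
    rw [hab] at hfix
    rw [transEquiv_mulVec, hab, Units.val_one, one_mul]
    exact SM4D_quad_fixed (G₁ ⊗ₖ C) Q₀ hsmul hpolar hpure _ _ hfix _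

end Cfsg.Agent.Lib.H3.AschS
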