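import Mathlib

/-!
# S1951 piece REGCOUNT (helper3): the counting half of step F6

`G` a finite group, `p` a prime, `a : G`.  Suppose that for every element `y` of order `p` at most
one of the elements `a⁻¹ * y ^ j` (`1 ≤ j < p`) is `p`-regular (order prime to `p`).  Then
`(p - 1) * #{y of order p with a⁻¹ * y p-regular} ≤ #{y of order p}`, hence
`(p - 2) * #{y of order p} ≤ (p - 1) * #{y of order p with a⁻¹ * y p-singular}`.

Proof: double count pairs `(y, j)`, using that `y ↦ y ^ j` permutes the elements of order `p`.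
-/

set_option autoImplicit false

namespace Cfsg.Agent.Lib.H3.AE

open Finset

section

variable {G : Type*} [Group G]

/-- for `1 ≤ j < p` there is `j'` with `(y ^ j) ^ j' = y = (y ^ j') ^ j` for all `y` of order `p`. -/
theorem exists_pow_inverse {p : ℕ} (hp : p.Prime) {j : ℕ} (hj1 : 1 ≤ j) (hjp : j < p) :
    ∃ j' : ℕ, ∀ y : G, orderOf y = p → (y ^ j) ^ j' = y ∧ (y ^ j') ^ j = y := by
  have hcop : Nat.Coprime j p := by
    rw [Nat.coprime_comm]
    exact (Nat.Prime.coprime_iff_not_dvd hp).2 (Nat.not_dvd_of_pos_of_lt hj1 hjp)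
  obtain ⟨j', -, hj'⟩ := Nat.exists_mul_mod_eq_one_of_coprime hcop hp.one_lt
  refine ⟨j', fun y hy => ?_⟩
  have h1 : y ^ (j * j') = y := by
    rw [← pow_mod_orderOf, hy, hj', pow_one]
  constructor
  · rw [← pow_mul]; exact h1
  · rw [← pow_mul, mul_comm]; exact h1

theorem orderOf_pow_of_lt {p : ℕ} (hp : p.Prime) {j : ℕ} (hj1 : 1 ≤ j) (hjp : j < p)
    {y : G} (hy : orderOf y = p) : orderOf (y ^ j) = p := by
  have hcop : Nat.Coprime (orderOf y) j := by
    rw [hy]
    exact (Nat.Prime.coprime_iff_not_dvd hp).2 (Nat.not_dvd_of_pos_of_lt hj1 hjp)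
  rw [Nat.Coprime.orderOf_pow hcop, hy]

variable [Fintype G] [DecidableEq G]

/-- the elements of order `p`. -/
noncomputable def ordP (G : Type*) [Group G] [Fintype G] [DecidableEq G] (p : ℕ) : Finset G :=
  univ.filter (fun y => orderOf y = p)

/-- the elements `y` of order `p` with `a⁻¹ * y ^ j` `p`-regular. -/
noncomputable def regSet (p : ℕ) (a : G) (j : ℕ) : Finset G :=
  (ordP G p).filter (fun y => ¬ p ∣ orderOf (a⁻¹ * y ^ j))

theorem card_regSet_eq {p : ℕ} (hp : p.Prime) (a : G) {j : ℕ} (hj1 : 1 ≤ j) (hjp : j < p) :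
    (regSet p a j).card = (regSet p a 1).card := by
  obtain ⟨j', hj'⟩ := exists_pow_inverse (G := G) hp hj1 hjp
  refine Finset.card_bij' (fun y _ => y ^ j) (fun z _ => z ^ j') ?_ ?_ ?_ ?_
  · intro y hy
    simp only [regSet, ordP, mem_filter, mem_univ, true_and, pow_one] at hy ⊢
    exact ⟨orderOf_pow_of_lt hp hj1 hjp hy.1, hy.2⟩
  · intro z hz
    simp only [regSet, ordP, mem_filter, mem_univ, true_and, pow_one] at hz ⊢
    have hz' := hj' z hz.1
    have hord : orderOf (z ^ j') = p := by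
      -- `z = (z ^ j') ^ j` has order `p`, and `z ^ j'` is a power of `z`
      have h1 : orderOf (z ^ j') ∣ p := by
        rw [← hz.1]; exact orderOf_pow_dvd j'
      rcases (Nat.dvd_prime hp).1 h1 with h | h
      · exfalso
        have h2 : z ^ j' = 1 := orderOf_eq_one_iff.1 h
        have h3 : z = 1 := by rw [← hz'.2, h2, one_pow]
        rw [h3, orderOf_one] at hz
        exact hp.one_lt.ne hz.1
      · exact h
    refine ⟨hord, ?_⟩
    rw [hz'.2]; exact hz.2
  · intro y hy
    simp only [regSet, ordP, mem_filter, mem_univ, true_and] at hy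
    exact (hj' y hy.1).1
  · intro z hz
    simp only [regSet, ordP, mem_filter, mem_univ, true_and] at hz
    exact (hj' z hz.1).2

/-- **REGCOUNT.** -/
theorem regcount {p : ℕ} (hp : p.Prime) (a : G)
    (h : ∀ y : G, orderOf y = p → ∀ i j : ℕ, 1 ≤ i → i < p → 1 ≤ j → j < p →
      ¬ p ∣ orderOf (a⁻¹ * y ^ i) → ¬ p ∣ orderOf (a⁻¹ * y ^ j) → i = j) :
    (p - 1) * ((ordP G p).filter (fun y => ¬ p ∣ orderOf (a⁻¹ * y))).card ≤ (ordP G p).card := by
  have hR : (ordP G p).filter (fun y => ¬ p ∣ orderOf (a⁻¹ * y)) = regSet p a 1 := by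
    simp [regSet]
  rw [hR]
  -- `∑_{j ∈ Ico 1 p} #regSet j = (p - 1) * #regSet 1`
  have h1 : ∑ j ∈ Ico 1 p, (regSet p a j).card = (p - 1) * (regSet p a 1).card := by
    rw [Finset.sum_congr rfl (fun j hj => card_regSet_eq hp a (mem_Ico.1 hj).1 (mem_Ico.1 hj).2),
      Finset.sum_const, Nat.card_Ico, smul_eq_mul]
  rw [← h1]
  -- swap the sums
  have h2 : ∑ j ∈ Ico 1 p, (regSet p a j).card =
      ∑ y ∈ ordP G p, ((Ico 1 p).filter (fun j => ¬ p ∣ orderOf (a⁻¹ * y ^ j))).card := by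
    simp only [regSet, Finset.card_filter]
    exact Finset.sum_comm
  rw [h2]
  calc ∑ y ∈ ordP G p, ((Ico 1 p).filter (fun j => ¬ p ∣ orderOf (a⁻¹ * y ^ j))).card
      ≤ ∑ _y ∈ ordP G p, 1 := by
        refine Finset.sum_le_sum (fun y hy => ?_)
        have hy' : orderOf y = p := by simpa [ordP] using hy
        refine Finset.card_le_one.2 (fun i hi j hj => ?_)
        simp only [mem_filter, mem_Ico] at hi hj
        exact h y hy' i j hi.1.1 hi.1.2 hj.1.1 hj.1.2 hi.2 hj.2
    _ = (ordP G p).card := by simp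

/-- Corollary: the `p`-singular count. -/
theorem singcount {p : ℕ} (hp : p.Prime) (a : G)
    (h : ∀ y : G, orderOf y = p → ∀ i j : ℕ, 1 ≤ i → i < p → 1 ≤ j → j < p →
      ¬ p ∣ orderOf (a⁻¹ * y ^ i) → ¬ p ∣ orderOf (a⁻¹ * y ^ j) → i = j) :
    (p - 2) * (ordP G p).card ≤
      (p - 1) * ((ordP G p).filter (fun y => p ∣ orderOf (a⁻¹ * y))).card := by
  have h1 := regcount hp a h
  have h2 : ((ordP G p).filter (fun y => p ∣ orderOf (a⁻¹ * y))).card +
      ((ordP G p).filter (fun y => ¬ p ∣ orderOf (a⁻¹ * y))).card = (ordP G p).card :=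
    Finset.card_filter_add_card_filter_not (s := ordP G p) (fun y => p ∣ orderOf (a⁻¹ * y))
  have hp2 := hp.two_le
  set S := ((ordP G p).filter (fun y => p ∣ orderOf (a⁻¹ * y))).card
  set R := ((ordP G p).filter (fun y => ¬ p ∣ orderOf (a⁻¹ * y))).card
  set K := (ordP G p).card
  obtain ⟨q, rfl⟩ : ∃ q, p = q + 2 := ⟨p - 2, by omega⟩
  simp only [Nat.add_sub_cancel] at *
  have h3 : q + 2 - 1 = q + 1 := by omega
  rw [h3] at h1 ⊢
  nlinarith

end

section natcard

variable {G : Type*} [Group G] [Finite G]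

theorem natCard_subtype_eq_card_filter [Fintype G] [DecidableEq G] (Q : G → Prop)
    [DecidablePred Q] : Nat.card {y : G // Q y} = (univ.filter Q).card := by
  rw [Nat.card_eq_fintype_card, Fintype.card_subtype]

/-- REGCOUNT with `Nat.card` of subtypes. -/
theorem regcount_natCard {p : ℕ} (hp : p.Prime) (a : G)
    (h : ∀ y : G, orderOf y = p → ∀ i j : ℕ, 1 ≤ i → i < p → 1 ≤ j → j < p →
      ¬ p ∣ orderOf (a⁻¹ * y ^ i) → ¬ p ∣ orderOf (a⁻¹ * y ^ j) → i = j) :
    (p - 1) * Nat.card {y : G // orderOf y = p ∧ ¬ p ∣ orderOf (a⁻¹ * y)} ≤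
      Nat.card {y : G // orderOf y = p} := by
  classical
  haveI : Fintype G := Fintype.ofFinite G
  have h1 := regcount hp a h
  rw [natCard_subtype_eq_card_filter, natCard_subtype_eq_card_filter]
  simpa [ordP, Finset.filter_filter] using h1

/-- SINGCOUNT with `Nat.card` of subtypes. -/
theorem singcount_natCard {p : ℕ} (hp : p.Prime) (a : G)
    (h : ∀ y : G, orderOf y = p → ∀ i j : ℕ, 1 ≤ i → i < p → 1 ≤ j → j < p →
      ¬ p ∣ orderOf (a⁻¹ * y ^ i) → ¬ p ∣ orderOf (a⁻¹ * y ^ j) → i = j) :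
    (p - 2) * Nat.card {y : G // orderOf y = p} ≤
      (p - 1) * Nat.card {y : G // orderOf y = p ∧ p ∣ orderOf (a⁻¹ * y)} := by
  classical
  haveI : Fintype G := Fintype.ofFinite G
  have h1 := singcount hp a h
  rw [natCard_subtype_eq_card_filter, natCard_subtype_eq_card_filter]
  simpa [ordP, Finset.filter_filter] using h1

end natcard

end Cfsg.Agent.Lib.H3.AE
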