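import Cfsg.Agent.Lib.H3.Basic
import Cfsg.Agent.Lib.H3.Supersolvable2
import Cfsg.Agent.Lib.H3.Wielandt
import Cfsg.Agent.Lib.H1.Fitting
import Mathlib

/-!
helper3 library: Frattini subgroup facts (Gaschütz): a normal subgroup of `G` inside the Frattini
subgroup of some subgroup lies in `Φ(G)`; `Φ(N) ≤ Φ(G)` for `N` normal; `F' ≤ Φ(F)` for nilpotent
`F`; when `Φ(G) = 1` the Fitting subgroup is abelian and every abelian normal subgroup has a
complement.
-/

set_option autoImplicit false
open scoped commutatorElement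

namespace Cfsg.Agent.Lib.H3

variable {G : Type*} [Group G]

theorem le_frattini_iff {N : Subgroup G} : N ≤ frattini G ↔ ∀ M : Subgroup G, IsCoatom M → N ≤ M := by
  unfold frattini Order.radical
  rw [le_iInf₂_iff]
  rfl

theorem sup_eq_top_of_isCoatom_of_not_le {M N : Subgroup G} (hM : IsCoatom M) (h : ¬ N ≤ M) :
    M ⊔ N = ⊤ := by
  by_contra hne
  have hlt : M < M ⊔ N :=
    lt_of_le_of_ne le_sup_left (fun heq => h (by rw [heq]; exact le_sup_right))
  exact hne (hM.2 _ hlt)

/-- A normal subgroup `N` of `G` contained in the Frattini subgroup of a subgroup `H` lies in the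
Frattini subgroup of `G`. -/
theorem le_frattini_of_subgroupOf_le_frattini [Finite G] (N H : Subgroup G) [N.Normal]
    (hNH : N ≤ H) (h : N.subgroupOf H ≤ frattini H) : N ≤ frattini G := by
  rw [le_frattini_iff]
  intro M hM
  by_contra hNM
  have hsup : M ⊔ N = ⊤ := sup_eq_top_of_isCoatom_of_not_le hM hNM
  have h1 : H = (H ⊓ M) ⊔ N := by
    rw [← inf_sup_eq_of_le_of_normal hNH, hsup, inf_top_eq]
  have h2 : (H ⊓ M).subgroupOf H ⊔ frattini H = ⊤ := by
    rw [eq_top_iff]
    have h3 : (⊤ : Subgroup H) = ((H ⊓ M) ⊔ N).subgroupOf H := by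
      rw [← h1, Subgroup.subgroupOf_self]
    rw [h3, Subgroup.subgroupOf_sup inf_le_left hNH]
    exact sup_le_sup_left h _
  have h3 : (H ⊓ M).subgroupOf H = ⊤ := frattini_nongenerating h2
  have h4 : H ≤ H ⊓ M := Subgroup.subgroupOf_eq_top.1 h3
  exact hNM (hNH.trans (h4.trans inf_le_right))

/-- `Φ(N) ≤ Φ(G)` for a normal subgroup `N` of a finite group. -/
theorem frattini_map_subtype_le_frattini [Finite G] (N : Subgroup G) [N.Normal] :
    (frattini N).map N.subtype ≤ frattini G := by
  have hn : ((frattini N).map N.subtype).Normal := normal_map_subtype_of_char N (frattini N)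
  apply le_frattini_of_subgroupOf_le_frattini _ N (Subgroup.map_subtype_le _)
  have : ((frattini N).map N.subtype).subgroupOf N = frattini N :=
    Subgroup.comap_map_eq_self_of_injective (Subgroup.subtype_injective N) _
  rw [this]

/-- In a finite nilpotent group the commutator subgroup lies in the Frattini subgroup. -/
theorem commutator_le_frattini_of_isNilpotent (F : Type*) [Group F] [Finite F]
    [hF : Group.IsNilpotent F] : commutator F ≤ frattini F := by
  rw [le_frattini_iff]
  intro M hM
  have htfae := (Group.isNilpotent_of_finite_tfae (G := F)).out 0 2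
  have hMn : M.Normal := htfae.1 hF M hM
  have hp := index_prime_of_normal_isCoatom hM
  have hfact : Fact M.index.Prime := ⟨hp⟩
  have hcyc : IsCyclic (F ⧸ M) := isCyclic_of_prime_card (p := M.index) (Subgroup.index_eq_card M).symm
  rw [commutator_def, Subgroup.commutator_le]
  intro a _ b _
  rw [← QuotientGroup.eq_one_iff]
  have h1 : ((⁅a, b⁆ : F) : F ⧸ M) = ⁅(a : F ⧸ M), (b : F ⧸ M)⁆ :=
    map_commutatorElement (QuotientGroup.mk' M) a b
  rw [h1, commutatorElement_eq_one_iff_mul_comm]
  obtain ⟨g, hg⟩ := hcyc.exists_generator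
  obtain ⟨m, hm⟩ := Subgroup.mem_zpowers_iff.1 (hg (a : F ⧸ M))
  obtain ⟨n, hn⟩ := Subgroup.mem_zpowers_iff.1 (hg (b : F ⧸ M))
  rw [← hm, ← hn, ← zpow_add, ← zpow_add, add_comm]

/-- If `Φ(G) = 1` then the Fitting subgroup is abelian. -/
theorem fittingSubgroup_comm_of_frattini_eq_bot [Finite G] (hΦ : frattini G = ⊥) :
    ∀ x ∈ Cfsg.fittingSubgroup G, ∀ y ∈ Cfsg.fittingSubgroup G, x * y = y * x := by
  set F := Cfsg.fittingSubgroup G with hF
  have hFn : F.Normal := Cfsg.Agent.Lib.H1.fittingSubgroup_normal G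
  have hnil : Group.IsNilpotent F := Cfsg.Agent.Lib.H1.fittingSubgroup_isNilpotent
  have h1 : commutator F ≤ frattini F := commutator_le_frattini_of_isNilpotent F
  have h2 : (frattini F).map F.subtype ≤ ⊥ := hΦ ▸ frattini_map_subtype_le_frattini F
  have h3 : frattini F = ⊥ := by
    rw [le_bot_iff, Subgroup.map_eq_bot_iff_of_injective _ (Subgroup.subtype_injective F)] at h2
    exact h2
  rw [h3, le_bot_iff] at h1
  intro x hx y hy
  have h4 : ⁅(⟨x, hx⟩ : F), ⟨y, hy⟩⁆ ∈ commutator F :=
    Subgroup.commutator_mem_commutator (Subgroup.mem_top _) (Subgroup.mem_top _)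
  rw [h1, Subgroup.mem_bot, commutatorElement_eq_one_iff_mul_comm] at h4
  exact congrArg Subtype.val h4

/-- If `Φ(G) = 1` then every abelian normal subgroup `S` has a complement `H`. -/
theorem exists_complement_of_comm_normal [Finite G] (hΦ : frattini G = ⊥) (S : Subgroup G)
    [S.Normal] (hS : ∀ x ∈ S, ∀ y ∈ S, x * y = y * x) :
    ∃ H : Subgroup G, S ⊔ H = ⊤ ∧ S ⊓ H = ⊥ := by
  obtain ⟨H, hH, hmin⟩ := exists_minimal_of_wellFoundedLT (fun H : Subgroup G => S ⊔ H = ⊤)
    ⟨⊤, sup_top_eq _⟩
  refine ⟨H, hH, ?_⟩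
  set N := S ⊓ H with hN
  have hNn : N.Normal := by
    rw [← Subgroup.normalizer_eq_top_iff, eq_top_iff, ← hH]
    apply sup_le
    · intro s hs
      rw [Subgroup.mem_normalizer_iff]
      intro n
      constructor
      · intro hn
        have : s * n * s⁻¹ = n := by rw [hS s hs n hn.1, mul_inv_cancel_right]
        rw [this]; exact hn
      · intro hn
        have h1 : s⁻¹ * (s * n * s⁻¹) * s = n := by group
        have h2 : s⁻¹ * (s * n * s⁻¹) * s = s * n * s⁻¹ := by
          rw [hS s⁻¹ (S.inv_mem hs) _ hn.1, inv_mul_cancel_right]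
        rw [← h1, h2]; exact hn
    · intro h hh
      rw [Subgroup.mem_normalizer_iff]
      intro n
      constructor
      · intro hn
        exact ⟨Subgroup.Normal.conj_mem inferInstance n hn.1 h,
          H.mul_mem (H.mul_mem hh hn.2) (H.inv_mem hh)⟩
      · intro hn
        have h1 : h⁻¹ * (h * n * h⁻¹) * h⁻¹⁻¹ = n := by group
        rw [← h1]
        exact ⟨Subgroup.Normal.conj_mem inferInstance _ hn.1 h⁻¹,
          H.mul_mem (H.mul_mem (H.inv_mem hh) hn.2) (H.inv_mem (H.inv_mem hh))⟩
  have hNH : N ≤ H := inf_le_right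
  have hfr : N.subgroupOf H ≤ frattini H := by
    rw [le_frattini_iff]
    intro M' hM'
    by_contra hNM
    have hsup := sup_eq_top_of_isCoatom_of_not_le hM' hNM
    set M := M'.map H.subtype with hM
    have hMH : M ≤ H := Subgroup.map_subtype_le _
    have h1 : M ⊔ N = H := by
      have h2 := congrArg (Subgroup.map H.subtype) hsup
      rw [Subgroup.map_sup, Subgroup.map_subgroupOf_eq_of_le hNH, ← MonoidHom.range_eq_map,
        Subgroup.range_subtype] at h2
      exact h2
    have h3 : S ⊔ M = ⊤ := by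
      rw [eq_top_iff, ← hH, ← h1]
      apply sup_le le_sup_left
      apply sup_le le_sup_right
      exact inf_le_left.trans le_sup_left
    have h4 : H ≤ M := hmin h3 hMH
    apply hM'.1
    rw [eq_top_iff]
    intro x _
    obtain ⟨y, hy, hxy⟩ := h4 x.2
    have : y = x := Subtype.ext hxy
    rw [← this]; exact hy
  have := le_frattini_of_subgroupOf_le_frattini N H hNH hfr
  rw [hΦ, le_bot_iff] at this
  exact this

end Cfsg.Agent.Lib.H3
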