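import Mathlib
import Cfsg.Agent.Lib.H3.DF0

/-!
# S4316 piece D6a: small facts on `T` and `K_c` (helper3)
-/

set_option autoImplicit false

universe u

namespace Cfsg.Agent.Lib.H3.DF

open Subgroup Cfsg.Agent.Lib.H16
open scoped commutatorElement

variable {Γ : Type u} [Group Γ]

/-- `K_c ≤ C_G(c)`. -/
theorem Kc_le_Gc (G : Subgroup Γ) (c : Γ) : Kc G c ≤ Gc G c := by
  unfold Kc
  rw [Subgroup.commutator_le]
  intro g₁ h₁ g₂ h₂
  exact (Gc G c).mul_mem ((Gc G c).mul_mem ((Gc G c).mul_mem h₁ h₂) ((Gc G c).inv_mem h₁))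
    ((Gc G c).inv_mem h₂)

/-- `C_G(c) ≤ G`. -/
theorem Gc_le (G : Subgroup Γ) (c : Γ) : Gc G c ≤ G := inf_le_left

/-- An element normalizing `X` normalizes `⁅X, X⁆`. -/
theorem mem_normalizer_commutator_self {X : Subgroup Γ} {a : Γ}
    (ha : a ∈ normalizer (X : Set Γ)) : a ∈ normalizer ((⁅X, X⁆ : Subgroup Γ) : Set Γ) := by
  rw [mem_normalizer_iff_cj_eq] at ha ⊢
  unfold cj at ha ⊢
  rw [Subgroup.map_commutator, ha]

/-- An element normalizing `G` and commuting with `c` normalizes `C_G(c)`. -/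
theorem mem_normalizer_Gc {G : Subgroup Γ} {a c : Γ} (ha : a ∈ normalizer (G : Set Γ))
    (hac : c * a = a * c) : a ∈ normalizer (Gc G c : Set Γ) := by
  unfold Gc
  refine mem_normalizer_inf ha (mem_normalizer_centralizer ?_)
  intro s hs
  rw [Set.mem_singleton_iff] at hs
  rw [hs]
  exact hac

/-- An element normalizing every member of a family normalizes its supremum. -/
theorem mem_normalizer_biSup {ι : Type*} (s : Set ι) (K : ι → Subgroup Γ) {a : Γ}
    (ha : ∀ i ∈ s, a ∈ normalizer (K i : Set Γ)) :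
    a ∈ normalizer ((⨆ i ∈ s, K i : Subgroup Γ) : Set Γ) := by
  rw [mem_normalizer_iff_cj_eq]
  unfold cj
  rw [Subgroup.map_iSup]
  refine iSup_congr fun i => ?_
  rw [Subgroup.map_iSup]
  refine iSup_congr fun hi => ?_
  have := ha i hi
  rw [mem_normalizer_iff_cj_eq] at this
  exact this

variable [Finite Γ]

/-- D6a. Small facts on `T` and `K_c`: `K_c ≤ T ≤ G`, `A` normalizes `C_G(c)`, `K_c`, `T`. -/
theorem TT_facts {q m : ℕ} [Fact q.Prime] {G A : Subgroup Γ} (h : DHyp q m G A) :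
    TT G A ≤ G ∧ (∀ c ∈ A, c ≠ 1 → Kc G c ≤ TT G A) ∧
      (∀ c ∈ A, A ≤ normalizer (Gc G c : Set Γ)) ∧ (∀ c ∈ A, A ≤ normalizer (Kc G c : Set Γ)) ∧
      A ≤ normalizer (TT G A : Set Γ) := by
  have hGc : ∀ c ∈ A, A ≤ normalizer (Gc G c : Set Γ) := by
    intro c hc a ha
    exact mem_normalizer_Gc (h.norm ha) (h.e3.comm c hc a ha)
  have hKc : ∀ c ∈ A, A ≤ normalizer (Kc G c : Set Γ) := by
    intro c hc a ha
    exact mem_normalizer_commutator_self (hGc c hc ha)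
  refine ⟨?_, ?_, hGc, hKc, ?_⟩
  · unfold TT
    refine iSup₂_le fun a _ => ?_
    exact (Kc_le_Gc G a).trans (Gc_le G a)
  · intro c hc hc1
    unfold TT
    exact le_iSup₂_of_le c (mem_nz.2 ⟨hc1, hc⟩) le_rfl
  · intro a ha
    unfold TT
    exact mem_normalizer_biSup (↑(nz A) : Set Γ) (Kc G)
      (fun c hc => hKc c (mem_nz.1 (Finset.mem_coe.1 hc)).2 ha)

end Cfsg.Agent.Lib.H3.DF
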