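import Mathlib
import Cfsg.Agent.Lib.H25.LieCrit
import Cfsg.Agent.Lib.H10.PGroup

set_option autoImplicit false

/-! # Generic lemmas for the simplicity of the 2-fusion system of a group whose involution
centraliser has shape `Q : H` (helper3) -/

namespace Cfsg.Agent.Lib.H3.FusGen

open Cfsg Cfsg.Agent.Lib.H25.LieCrit

variable {G : Type*} [Group G]

theorem mem_normalizer_of_conj [Finite G] (H : Subgroup G) (g : G)
    (h : ∀ x ∈ H, g * x * g⁻¹ ∈ H) : g ∈ Subgroup.normalizer (H : Set G) := by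
  rw [Subgroup.mem_normalizer_iff]
  intro x
  refine ⟨h x, fun hx => ?_⟩
  let f : H → H := fun y => ⟨g * y.1 * g⁻¹, h y.1 y.2⟩
  have hf : Function.Injective f := by
    intro a b hab
    have := congrArg Subtype.val hab
    simp only [f] at this
    exact Subtype.ext (mul_left_cancel (mul_right_cancel this))
  obtain ⟨y, hy⟩ := (Finite.injective_iff_surjective.1 hf) ⟨g * x * g⁻¹, hx⟩
  have := congrArg Subtype.val hy
  simp only [f] at this
  have e : y.1 = x := mul_left_cancel (mul_right_cancel this)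
  rw [← e]; exact y.2

/-- A strongly closed subgroup of a `2`-group `S₀` with centre `{1, t}`, all of whose
involutions are conjugate to `t` and which is generated by involutions, is `1` or `S₀`. -/
theorem stronglyClosed_trivial [Finite G] (S₀ : Subgroup G) (hS : IsPGroup 2 S₀) (t : G)
    (hZ : ∀ x ∈ S₀, (∀ y ∈ S₀, x * y = y * x) → x = 1 ∨ x = t)
    (hinv : ∀ y ∈ S₀, y * y = 1 → y ≠ 1 → ∃ g : G, g * t * g⁻¹ = y)
    (hgen : S₀ ≤ Subgroup.closure {y : G | y ∈ S₀ ∧ y * y = 1})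
    (T : Subgroup G) (hT : Cfsg.IsStronglyClosed T S₀) : T = ⊥ ∨ T = S₀ := by
  by_cases hbot : T = ⊥
  · exact Or.inl hbot
  right
  obtain ⟨hTS, hcl⟩ := hT
  apply le_antisymm hTS
  haveI : (T.subgroupOf S₀).Normal := by
    constructor
    intro n hn s
    rw [Subgroup.mem_subgroupOf] at hn ⊢
    have := hcl _ hn s.1 (S₀.mul_mem (S₀.mul_mem s.2 n.2) (S₀.inv_mem s.2))
    simpa using this
  have hne : T.subgroupOf S₀ ≠ ⊥ := by
    intro h
    apply hbot
    rw [Subgroup.eq_bot_iff_forall]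
    intro x hx
    have : (⟨x, hTS hx⟩ : S₀) ∈ T.subgroupOf S₀ := by
      rw [Subgroup.mem_subgroupOf]; exact hx
    rw [h, Subgroup.mem_bot] at this
    exact congrArg Subtype.val this
  haveI : Fact (Nat.Prime 2) := ⟨Nat.prime_two⟩
  obtain ⟨x, hxT, hx1, hxc⟩ :=
    Cfsg.Agent.Lib.H10.exists_ne_one_mem_center_of_normal hS (T.subgroupOf S₀) hne
  rw [Subgroup.mem_subgroupOf] at hxT
  rw [Subgroup.mem_center_iff] at hxc
  have hxt : (x : G) = t := by
    have hcomm : ∀ y ∈ S₀, (x : G) * y = y * x := by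
      intro y hy
      have := hxc ⟨y, hy⟩
      exact (congrArg Subtype.val this).symm
    rcases hZ x.1 x.2 hcomm with h | h
    · exact absurd (Subtype.ext h) hx1
    · exact h
  have htT : t ∈ T := hxt ▸ hxT
  have hinvT : ∀ y ∈ S₀, y * y = 1 → y ∈ T := by
    intro y hy hyy
    by_cases hy1 : y = 1
    · rw [hy1]; exact T.one_mem
    obtain ⟨g, hg⟩ := hinv y hy hyy hy1
    rw [← hg]
    apply hcl t htT g
    rw [hg]; exact hy
  refine hgen.trans ?_
  rw [Subgroup.closure_le]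
  rintro y ⟨hy, hyy⟩
  exact hinvT y hy hyy

/-- The normaliser of `S₀` is generated by good elements, when `C(t) = Q' H'`. -/
theorem normalizer_le_closure_goodElt [Finite G] (S₀ Q' H' : Subgroup G) (t : G)
    (ht1 : t ≠ 1) (htS : t ∈ S₀) (htc : ∀ y ∈ S₀, t * y = y * t)
    (hZ : ∀ x ∈ S₀, (∀ y ∈ S₀, x * y = y * x) → x = 1 ∨ x = t)
    (hfac : ∀ c : G, c * t = t * c → ∃ q ∈ Q', ∃ h ∈ H', c = q * h)
    (hQS : Q' ≤ S₀)
    (hnorm : ∀ h ∈ H', ∀ q ∈ Q', h * q * h⁻¹ ∈ Q')
    (hCQ : ∀ x ∈ S₀, (∀ q ∈ Q', x * q = q * x) → x ∈ Q')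
    (hHgen : H' ≤ Subgroup.closure {x : G | x ∈ H' ∧ x * x = 1}) :
    Subgroup.normalizer (S₀ : Set G) ≤ Subgroup.closure {h : G | GoodElt 2 S₀ h} := by
  intro n hn
  have hn' := Subgroup.mem_normalizer_iff.mp hn
  have hninv : n⁻¹ ∈ Subgroup.normalizer (S₀ : Set G) := Subgroup.inv_mem _ hn
  have hninv' := Subgroup.mem_normalizer_iff.mp hninv
  have h1 : n * t * n⁻¹ ∈ S₀ := (hn' t).mp htS
  have h2 : ∀ y ∈ S₀, n * t * n⁻¹ * y = y * (n * t * n⁻¹) := by
    intro y hy
    have hy' : n⁻¹ * y * n⁻¹⁻¹ ∈ S₀ := (hninv' y).mp hy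
    have := htc _ hy'
    calc n * t * n⁻¹ * y = n * (t * (n⁻¹ * y * n⁻¹⁻¹)) * n⁻¹ := by group
      _ = n * ((n⁻¹ * y * n⁻¹⁻¹) * t) * n⁻¹ := by rw [this]
      _ = y * (n * t * n⁻¹) := by group
  have h3 : n * t * n⁻¹ = t := by
    rcases hZ _ h1 h2 with h | h
    · exfalso; apply ht1
      calc t = n⁻¹ * (n * t * n⁻¹) * n := by group
        _ = 1 := by rw [h]; group
    · exact h
  have h4 : n * t = t * n := by
    calc n * t = n * t * n⁻¹ * n := by group
      _ = t * n := by rw [h3]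
  obtain ⟨q, hq, h, hh, rfl⟩ := hfac n h4
  have hQnorm : ∀ c : G, c * t = t * c → c ∈ Subgroup.normalizer (Q' : Set G) := by
    intro c hc
    obtain ⟨q₁, hq₁, h₁, hh₁, rfl⟩ := hfac c hc
    apply mem_normalizer_of_conj
    intro x hx
    have : q₁ * h₁ * x * (q₁ * h₁)⁻¹ = q₁ * (h₁ * x * h₁⁻¹) * q₁⁻¹ := by group
    rw [this]
    exact Q'.mul_mem (Q'.mul_mem hq₁ (hnorm h₁ hh₁ x hx)) (Q'.inv_mem hq₁)
  apply Subgroup.mul_mem
  · exact Subgroup.subset_closure (Or.inl (hQS hq))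
  · apply Subgroup.subset_closure
    right; right
    refine ⟨?_, Q', hQS, ?_, ?_, ?_⟩
    · have : h = q⁻¹ * (q * h) := by group
      rw [this]
      exact Subgroup.mul_mem _ (Subgroup.inv_mem _ (Subgroup.le_normalizer (hQS hq))) hn
    · intro s hs
      exact hQnorm s (htc s hs).symm
    · rintro x ⟨hx1, hx2⟩
      apply hCQ x hx2
      intro q hq
      exact (Subgroup.mem_centralizer_iff.mp hx1 q hq).symm
    · refine (hHgen.trans ?_) hh
      apply Subgroup.closure_mono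
      rintro x ⟨hxH, hxx⟩
      refine ⟨?_, ?_⟩
      · apply mem_normalizer_of_conj
        exact hnorm x hxH
      · have hd : orderOf x ∣ 2 := orderOf_dvd_of_pow_eq_one (by rw [pow_two]; exact hxx)
        rcases (Nat.dvd_prime Nat.prime_two).mp hd with h | h
        · exact ⟨0, by rw [h]; rfl⟩
        · exact ⟨1, by rw [h]; rfl⟩

/-- A simple group containing an involution is generated by its involutions. -/
theorem le_closure_involutions (H' : Subgroup G) [IsSimpleGroup H'] (u : G) (huH : u ∈ H')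
    (hu1 : u ≠ 1) (huu : u * u = 1) :
    H' ≤ Subgroup.closure {x : G | x ∈ H' ∧ x * x = 1} := by
  let K : Subgroup H' := Subgroup.normalClosure {(⟨u, huH⟩ : H')}
  have hK : K = ⊤ := by
    rcases (Subgroup.normalClosure_normal (s := {(⟨u, huH⟩ : H')})).eq_bot_or_eq_top with h | h
    · exfalso
      have : (⟨u, huH⟩ : H') ∈ K := Subgroup.subset_normalClosure (Set.mem_singleton _)
      rw [show K = ⊥ from h, Subgroup.mem_bot] at this
      exact hu1 (congrArg Subtype.val this)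
    · exact h
  have hle : K ≤ (Subgroup.closure {x : G | x ∈ H' ∧ x * x = 1}).comap H'.subtype := by
    show Subgroup.closure (Group.conjugatesOfSet {(⟨u, huH⟩ : H')}) ≤ _
    rw [Subgroup.closure_le]
    intro y hy
    rw [Group.mem_conjugatesOfSet_iff] at hy
    obtain ⟨b, hb, hby⟩ := hy
    rw [Set.mem_singleton_iff] at hb
    subst hb
    obtain ⟨c, hc⟩ := isConj_iff.mp hby
    apply Subgroup.subset_closure
    refine ⟨y.2, ?_⟩
    rw [← hc]
    show (c : G) * u * (c : G)⁻¹ * ((c : G) * u * (c : G)⁻¹) = 1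
    calc (c : G) * u * (c : G)⁻¹ * ((c : G) * u * (c : G)⁻¹)
        = (c : G) * (u * u) * (c : G)⁻¹ := by group
      _ = 1 := by rw [huu]; group
  intro h hh
  have : (⟨h, hh⟩ : H') ∈ K := by rw [hK]; exact Subgroup.mem_top _
  exact hle this

/-- Every Sylow `2`-subgroup is conjugate to a given subgroup of order `128`. -/
theorem sylow_conj [Finite G] (S₀ : Subgroup G) (m : ℕ) (hm : ¬ 2 ∣ m)
    (hS : Nat.card S₀ = 128) (hG : Nat.card G = 128 * m) (S : Sylow 2 G) :
    ∃ g : G, (S : Subgroup G) = Cfsg.Agent.Lib.H26.cj g S₀ := by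
  haveI : Fact (Nat.Prime 2) := ⟨Nat.prime_two⟩
  have hp : IsPGroup 2 S₀ := IsPGroup.of_card (n := 7) (by rw [hS]; norm_num)
  obtain ⟨S₁, hS₁⟩ := hp.exists_le_sylow
  have hc : Nat.card (S₁ : Subgroup G) = 128 := by
    obtain ⟨k, hk⟩ := IsPGroup.iff_card.mp S₁.isPGroup'
    have h1 : 128 ∣ 2 ^ k := by rw [← hk, ← hS]; exact Subgroup.card_dvd_of_le hS₁
    have h2 : 2 ^ k ∣ 128 * m := by rw [← hk, ← hG]; exact Subgroup.card_subgroup_dvd_card _
    have h3 : 2 ^ k ∣ 128 := by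
      apply Nat.Coprime.dvd_of_dvd_mul_right _ h2
      apply Nat.Coprime.pow_left
      exact (Nat.Prime.coprime_iff_not_dvd Nat.prime_two).2 hm
    rw [hk]; exact Nat.dvd_antisymm h3 h1
  have he : S₀ = (S₁ : Subgroup G) := Subgroup.eq_of_le_of_card_ge hS₁ (by rw [hc, hS])
  obtain ⟨g, hg⟩ := MulAction.exists_smul_eq G S₁ S
  refine ⟨g, ?_⟩
  rw [he, ← hg]
  ext x
  rw [Cfsg.Agent.Lib.H26.mem_cj, Sylow.coe_subgroup_smul,
    Subgroup.mem_pointwise_smul_iff_inv_smul_mem]
  simp [MulAut.smul_def]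

/-- The factorisation `C(t) = Q' H'`. -/
theorem centralizer_factor [Finite G] (t' : G) (Q' H' : Subgroup G)
    (hQc : Q' ≤ Subgroup.centralizer ({t'} : Set G))
    (hHc : H' ≤ Subgroup.centralizer ({t'} : Set G))
    (hcard : Nat.card (Subgroup.centralizer ({t'} : Set G)) ≤ 1920)
    (hQ : Nat.card Q' = 32) (eH : Nonempty (H' ≃* alternatingGroup (Fin 5)))
    (hnorm : ∀ h ∈ H', ∀ q ∈ Q', h * q * h⁻¹ ∈ Q') :
    ∀ c : G, c * t' = t' * c → ∃ q ∈ Q', ∃ h ∈ H', c = q * h := by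
  classical
  obtain ⟨eH⟩ := eH
  haveI : IsSimpleGroup H' := eH.isSimpleGroup
  have hH60 : Nat.card H' = 60 := by
    rw [Nat.card_congr eH.toEquiv, nat_card_alternatingGroup, Nat.card_fin]
    decide
  have hdisj : Q' ⊓ H' = ⊥ := by
    have hN : ((Q' ⊓ H').subgroupOf H').Normal := by
      constructor
      intro n hn g
      rw [Subgroup.mem_subgroupOf] at hn ⊢
      exact ⟨hnorm g g.2 n hn.1, (g * n * g⁻¹).2⟩
    rcases hN.eq_bot_or_eq_top with h | h
    · rw [Subgroup.subgroupOf_eq_bot] at h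
      have := h.eq_bot
      rwa [inf_assoc, inf_idem] at this
    · rw [Subgroup.subgroupOf_eq_top] at h
      have h1 : H' ≤ Q' := h.trans inf_le_left
      have := Subgroup.card_le_of_le h1
      rw [hH60, hQ] at this
      omega
  set C := Subgroup.centralizer ({t'} : Set G) with hC
  let eQ : Q' ≃* Q'.subgroupOf C := (Subgroup.subgroupOfEquivOfLe hQc).symm
  let eHC : H'.subgroupOf C ≃* H' := Subgroup.subgroupOfEquivOfLe hHc
  have hcQ : Nat.card (Q'.subgroupOf C) = 32 := by rw [← Nat.card_congr eQ.toEquiv, hQ]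
  have hcH : Nat.card (H'.subgroupOf C) = 60 := by rw [Nat.card_congr eHC.toEquiv, hH60]
  have hdisjC : Disjoint (Q'.subgroupOf C) (H'.subgroupOf C) := by
    rw [Subgroup.disjoint_def]
    intro x hx1 hx2
    have : (x : G) ∈ Q' ⊓ H' := ⟨hx1, hx2⟩
    rw [hdisj, Subgroup.mem_bot] at this
    exact Subtype.ext this
  have hinj := Subgroup.mul_injective_of_disjoint hdisjC
  have hle := Nat.card_le_card_of_injective _ hinj
  rw [Nat.card_prod, hcQ, hcH] at hle
  have hcC : Nat.card C = 1920 := le_antisymm hcard hle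
  have hcompl : (Q'.subgroupOf C).IsComplement' (H'.subgroupOf C) :=
    Subgroup.isComplement'_of_card_mul_and_disjoint (by rw [hcQ, hcH, hcC]) hdisjC
  intro c hc
  have hcC' : c ∈ C := by
    rw [hC, Subgroup.mem_centralizer_iff]
    intro h hh
    rw [Set.mem_singleton_iff] at hh
    rw [hh]; exact hc.symm
  obtain ⟨⟨q, h⟩, hqh⟩ := hcompl.2 ⟨c, hcC'⟩
  refine ⟨q.1.1, q.2, h.1.1, h.2, ?_⟩
  have := congrArg Subtype.val hqh
  exact this.symm

end Cfsg.Agent.Lib.H3.FusGen
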