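import Mathlib
import Cfsg.Agent.Lib.H12.SLMinDefs

/-!
# S2332 piece COMM0-4 (helper3): in `GL (Fin 3) F`, `|F| ≥ 4`, the transvection `uG (s e₀)` is a
commutator of two determinant-one elements fixing a given vector fixed by it.
-/

set_option autoImplicit false

namespace Cfsg.Agent.Lib.H3.SLMin

open Matrix Module Cfsg.Agent.Lib.H12.SLMin

section three

variable {F : Type*} [Field F]

/-- the upper triangular matrix `[[a, b, c], [0, d, e], [0, 0, f]]` -/
def ut (a b c d e f : F) : Matrix (Fin 3) (Fin 3) F := !![a, b, c; 0, d, e; 0, 0, f]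

theorem ut_mul (a b c d e f a' b' c' d' e' f' : F) :
    ut a b c d e f * ut a' b' c' d' e' f' =
      ut (a * a') (a * b' + b * d') (a * c' + b * e' + c * f') (d * d') (d * e' + e * f') (f * f') := by
  unfold ut
  ext i j
  fin_cases i <;> fin_cases j <;> simp [Matrix.mul_apply, Fin.sum_univ_three]

theorem ut_one : ut (1 : F) 0 0 1 0 1 = 1 := by
  unfold ut
  ext i j
  fin_cases i <;> fin_cases j <;> simp

theorem det_ut (a b c d e f : F) : (ut a b c d e f).det = a * d * f := by
  unfold ut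
  rw [Matrix.det_fin_three]
  simp

theorem ut_mulVec (a b c d e f : F) (v : Fin 3 → F) :
    ut a b c d e f *ᵥ v = ![a * v 0 + b * v 1 + c * v 2, d * v 1 + e * v 2, f * v 2] := by
  unfold ut
  ext i
  fin_cases i <;> simp [Matrix.mulVec, dotProduct, Fin.sum_univ_three]

/-- the matrix of the transvection -/
theorem uG_single_coe (s : F) :
    ((uG (Pi.single (0 : Fin 2) s) : GL (Fin 3) F) : Matrix (Fin 3) (Fin 3) F) = ut 1 s 0 1 0 1 := by
  rw [uG_coe]
  unfold ut
  ext i j
  fin_cases i <;> fin_cases j <;> first | rfl | simp [bm, Pi.single_apply]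

/-- lower unitriangular with a single entry at `(2, 1)` -/
def lt21 (s : F) : Matrix (Fin 3) (Fin 3) F := !![1, 0, 0; 0, 1, 0; 0, s, 1]

theorem lt21_mul (s t : F) : lt21 s * lt21 t = lt21 (s + t) := by
  unfold lt21
  ext i j
  fin_cases i <;> fin_cases j <;> simp [Matrix.mul_apply, Fin.sum_univ_three, add_comm]

theorem lt21_zero : lt21 (0 : F) = 1 := by
  unfold lt21
  ext i j
  fin_cases i <;> fin_cases j <;> simp

theorem det_lt21 (s : F) : (lt21 s).det = 1 := by
  unfold lt21
  rw [Matrix.det_fin_three]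
  simp

theorem lt21_mulVec (s : F) (v : Fin 3 → F) :
    lt21 s *ᵥ v = ![v 0, v 1, s * v 1 + v 2] := by
  unfold lt21
  ext i
  fin_cases i <;> simp [Matrix.mulVec, dotProduct, Fin.sum_univ_three]

end three

/-- `n = 4`, `q ≥ 4` -/
theorem comm0_4 {F : Type*} [Field F] [Fintype F] (hq : 4 ≤ Fintype.card F) (s : F) (v : Fin 3 → F)
    (hfix : ((uG (Pi.single (0 : Fin 2) s) : GL (Fin 3) F) : Matrix (Fin 3) (Fin 3) F) *ᵥ v = v) :
    ∃ h₁ h₂ : GL (Fin 3) F,
      (h₁ : Matrix (Fin 3) (Fin 3) F).det • ((h₁ : Matrix (Fin 3) (Fin 3) F) *ᵥ v) = v ∧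
      (h₂ : Matrix (Fin 3) (Fin 3) F).det • ((h₂ : Matrix (Fin 3) (Fin 3) F) *ᵥ v) = v ∧
      uG (Pi.single (0 : Fin 2) s) = h₁ * h₂ * h₁⁻¹ * h₂⁻¹ := by
  classical
  have hX := uG_single_coe (F := F) s
  -- `s * v 1 = 0`
  have hsv : s * v 1 = 0 := by
    have h1 := congrFun hfix 0
    rw [hX, ut_mulVec] at h1
    simp only [Matrix.cons_val_zero] at h1
    linear_combination h1
  have hveta : v = ![v 0, v 1, v 2] := by
    ext i; fin_cases i <;> simp
  by_cases hs : s = 0
  · -- trivial transvection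
    refine ⟨1, 1, ?_, ?_, ?_⟩
    · simp
    · simp
    · subst hs
      apply Units.ext
      rw [hX]
      simp [ut_one]
  have hv1 : v 1 = 0 := by
    rcases mul_eq_zero.mp hsv with h | h
    · exact absurd h hs
    · exact h
  by_cases hv2 : v 2 = 0
  · -- `h₁ = 1 + E₀₂`, `h₂ = 1 + s E₂₁`
    let h1 : GL (Fin 3) F := ⟨ut 1 0 1 1 0 1, ut 1 0 (-1) 1 0 1,
      by rw [ut_mul, ← ut_one]; congr 1 <;> ring,
      by rw [ut_mul, ← ut_one]; congr 1 <;> ring⟩
    let h2 : GL (Fin 3) F := ⟨lt21 s, lt21 (-s),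
      by rw [lt21_mul, add_neg_cancel, lt21_zero],
      by rw [lt21_mul, neg_add_cancel, lt21_zero]⟩
    refine ⟨h1, h2, ?_, ?_, ?_⟩
    · show (ut (1 : F) 0 1 1 0 1).det • (ut (1 : F) 0 1 1 0 1 *ᵥ v) = v
      rw [det_ut, ut_mulVec, hv2]
      conv_rhs => rw [hveta, hv2]
      simp
    · show (lt21 s).det • (lt21 s *ᵥ v) = v
      rw [det_lt21, lt21_mulVec, hsv]
      conv_rhs => rw [hveta]
      simp
    · apply Units.ext
      rw [hX]
      show ut 1 s 0 1 0 1 = ut (1 : F) 0 1 1 0 1 * lt21 s * ut 1 0 (-1) 1 0 1 * lt21 (-s)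
      unfold ut lt21
      ext i j
      fin_cases i <;> fin_cases j <;> simp [Matrix.mul_apply, Fin.sum_univ_three]
  · -- `h₁ = [[a, 0, (1 - a) v₀ / v₂], [0, a⁻¹, 0], [0, 0, 1]]`, `h₂ = 1 + t E₀₁`
    obtain ⟨a, ha0, ha1⟩ : ∃ a : F, a ≠ 0 ∧ a * a ≠ 1 := by
      by_contra hcon
      have hall : ∀ a : F, a ≠ 0 → a * a = 1 := by
        intro a ha
        by_contra h
        exact hcon ⟨a, ha, h⟩
      have hsub : (Finset.univ : Finset F) ⊆ {0, 1, -1} := by
        intro a _
        by_cases h0 : a = 0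
        · simp [h0]
        · have h1 := hall a h0
          have h2 : (a - 1) * (a + 1) = 0 := by linear_combination h1
          rcases mul_eq_zero.mp h2 with h | h
          · have : a = 1 := by linear_combination h
            simp [this]
          · have : a = -1 := by linear_combination h
            simp [this]
      have hc := Finset.card_le_card hsub
      have h3 : ({0, 1, -1} : Finset F).card ≤ 3 := Finset.card_le_three
      rw [Finset.card_univ] at hc
      omega
    have hd : a * a - 1 ≠ 0 := sub_ne_zero.mpr ha1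
    set c : F := (1 - a) * v 0 / v 2 with hc
    set t : F := s / (a * a - 1) with ht
    let h1 : GL (Fin 3) F := ⟨ut a 0 c a⁻¹ 0 1, ut a⁻¹ 0 (-(a⁻¹ * c)) a 0 1,
      by
        rw [ut_mul, ← ut_one]
        congr 1
        · field_simp
        · ring
        · field_simp
          ring
        · field_simp
        · ring
        · ring,
      by
        rw [ut_mul, ← ut_one]
        congr 1
        · field_simp
        · ring
        · field_simp
          ring
        · field_simp
        · ring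
        · ring⟩
    let h2 : GL (Fin 3) F := ⟨ut 1 t 0 1 0 1, ut 1 (-t) 0 1 0 1,
      by rw [ut_mul, ← ut_one]; congr 1 <;> ring,
      by rw [ut_mul, ← ut_one]; congr 1 <;> ring⟩
    refine ⟨h1, h2, ?_, ?_, ?_⟩
    · show (ut a 0 c a⁻¹ 0 1).det • (ut a 0 c a⁻¹ 0 1 *ᵥ v) = v
      rw [det_ut, ut_mulVec, hv1]
      have e1 : a * a⁻¹ * 1 = 1 := by field_simp
      rw [e1, one_smul]
      conv_rhs => rw [hveta, hv1]
      have e2 : a * v 0 + 0 * 0 + c * v 2 = v 0 := by
        rw [hc]
        field_simp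
        ring
      rw [e2]
      simp
    · show (ut (1 : F) t 0 1 0 1).det • (ut (1 : F) t 0 1 0 1 *ᵥ v) = v
      rw [det_ut, ut_mulVec, hv1]
      conv_rhs => rw [hveta, hv1]
      simp
    · apply Units.ext
      rw [hX]
      show ut 1 s 0 1 0 1 = ut a 0 c a⁻¹ 0 1 * ut 1 t 0 1 0 1 * ut a⁻¹ 0 (-(a⁻¹ * c)) a 0 1 *
        ut 1 (-t) 0 1 0 1
      rw [ut_mul, ut_mul, ut_mul]
      congr 1
      · field_simp
      · have hd2 : a ^ 2 - 1 ≠ 0 := by rw [pow_two]; exact hd
        have hd3 : -1 + a ^ 2 ≠ 0 := by rw [neg_add_eq_sub]; exact hd2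
        rw [ht]
        field_simp
        ring
      · field_simp
        ring
      · field_simp
      · ring
      · ring

end Cfsg.Agent.Lib.H3.SLMin
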