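import Mathlib
import Cfsg.Agent.Lib.H12.SLMinDefs

/-!
# S2332 piece COMM0-GE5 (helper3): in `GL (Fin (j + 2)) F`, `j ≥ 2`, the transvection `uG (s e₀)` is a
commutator of two unipotent elements fixing a given vector fixed by it.
-/

set_option autoImplicit false

namespace Cfsg.Agent.Lib.H3.SLMin

open Matrix Module Cfsg.Agent.Lib.H12.SLMin

section rankone

variable {F : Type*} [Field F] {n : ℕ}

/-- `(1 + a bᵀ)(1 - a bᵀ) = 1` when `b ⬝ a = 0` -/
theorem one_add_mul_one_sub (a b : Fin n → F) (h : b ⬝ᵥ a = 0) :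
    (1 + vecMulVec a b) * (1 - vecMulVec a b) = (1 : Matrix (Fin n) (Fin n) F) := by
  have h2 : vecMulVec a b * vecMulVec a b = (0 : Matrix (Fin n) (Fin n) F) := by
    rw [vecMulVec_mul_vecMulVec, h, zero_smul]
    ext i k
    simp [vecMulVec_apply]
  rw [add_mul, mul_sub, mul_sub, one_mul, mul_one, one_mul, h2]
  abel

theorem one_sub_mul_one_add (a b : Fin n → F) (h : b ⬝ᵥ a = 0) :
    (1 - vecMulVec a b) * (1 + vecMulVec a b) = (1 : Matrix (Fin n) (Fin n) F) := by
  have h2 : vecMulVec a b * vecMulVec a b = (0 : Matrix (Fin n) (Fin n) F) := by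
    rw [vecMulVec_mul_vecMulVec, h, zero_smul]
    ext i k
    simp [vecMulVec_apply]
  rw [sub_mul, mul_add, mul_add, one_mul, mul_one, one_mul, h2]
  abel

/-- the unipotent element `1 + a bᵀ` of `GL`, for `b ⬝ a = 0` -/
def tEl (a b : Fin n → F) (h : b ⬝ᵥ a = 0) : GL (Fin n) F :=
  ⟨1 + vecMulVec a b, 1 - vecMulVec a b, one_add_mul_one_sub a b h, one_sub_mul_one_add a b h⟩

@[simp] theorem tEl_coe (a b : Fin n → F) (h : b ⬝ᵥ a = 0) :
    (tEl a b h : Matrix (Fin n) (Fin n) F) = 1 + vecMulVec a b := rfl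

theorem tEl_inv_coe (a b : Fin n → F) (h : b ⬝ᵥ a = 0) :
    ((tEl a b h)⁻¹ : GL (Fin n) F).1 = 1 - vecMulVec a b := rfl

theorem det_tEl (a b : Fin n → F) (h : b ⬝ᵥ a = 0) :
    (tEl a b h : Matrix (Fin n) (Fin n) F).det = 1 := by
  rw [tEl_coe, vecMulVec_eq Unit, det_one_add_replicateCol_mul_replicateRow, h, add_zero]

theorem tEl_mulVec (a b : Fin n → F) (h : b ⬝ᵥ a = 0) (v : Fin n → F) :
    (tEl a b h : Matrix (Fin n) (Fin n) F) *ᵥ v = v + (b ⬝ᵥ v) • a := by
  rw [tEl_coe, add_mulVec, one_mulVec, vecMulVec_mulVec]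
  ext i
  simp [mul_comm]

/-- the commutator of `1 + A` and `1 + B` when `A² = B² = BA = 0` -/
theorem comm_of_sq_zero (A B : Matrix (Fin n) (Fin n) F) (hA : A * A = 0) (hB : B * B = 0)
    (hBA : B * A = 0) : (1 + A) * (1 + B) * (1 - A) * (1 - B) = 1 + A * B := by
  have e1 : A * (A * B) = 0 := by rw [← mul_assoc, hA, zero_mul]
  have e2 : B * (A * B) = 0 := by rw [← mul_assoc, hBA, zero_mul]
  have e3 : A * B * A = 0 := by rw [mul_assoc, hBA, mul_zero]
  have e4 : A * B * B = 0 := by rw [mul_assoc, hB, mul_zero]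
  have e5 : A * B * (A * B) = 0 := by rw [mul_assoc, e2, mul_zero]
  have step1 : (1 + A) * (1 + B) = 1 + A + B + A * B := by
    rw [add_mul, mul_add, mul_add, one_mul, mul_one, one_mul]
    abel
  have step2 : (1 + A + B + A * B) * (1 - A) = 1 + B + A * B := by
    rw [mul_sub, mul_one, add_mul, add_mul, add_mul, one_mul, hA, hBA, e3]
    abel
  have step3 : (1 + B + A * B) * (1 - B) = 1 + A * B := by
    rw [mul_sub, mul_one, add_mul, add_mul, one_mul, hB, e4]
    abel
  rw [step1, step2, step3]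

end rankone

/-- `n = j + 3 ≥ 5` -/
theorem comm0_ge5 {F : Type*} [Field F] {j : ℕ} (hj : 2 ≤ j) (s : F) (v : Fin (j + 2) → F)
    (hfix : ((uG (Pi.single (0 : Fin (j + 1)) s) : GL (Fin (j + 2)) F) : Matrix (Fin (j + 2)) (Fin (j + 2)) F) *ᵥ v = v) :
    ∃ h₁ h₂ : GL (Fin (j + 2)) F,
      (h₁ : Matrix (Fin (j + 2)) (Fin (j + 2)) F).det • ((h₁ : Matrix (Fin (j + 2)) (Fin (j + 2)) F) *ᵥ v) = v ∧
      (h₂ : Matrix (Fin (j + 2)) (Fin (j + 2)) F).det • ((h₂ : Matrix (Fin (j + 2)) (Fin (j + 2)) F) *ᵥ v) = v ∧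
      uG (Pi.single (0 : Fin (j + 1)) s) = h₁ * h₂ * h₁⁻¹ * h₂⁻¹ := by
  classical
  -- the indices
  set i0 : Fin (j + 2) := 0 with hi0
  set i1 : Fin (j + 2) := Fin.succ 0 with hi1
  set i2 : Fin (j + 2) := ⟨2, by omega⟩ with hi2
  set i3 : Fin (j + 2) := ⟨3, by omega⟩ with hi3
  have h01 : i0 ≠ i1 := by
    rw [hi0, hi1]; exact (Fin.succ_ne_zero 0).symm
  have h02 : i0 ≠ i2 := by
    rw [hi0, hi2]; intro h; have := congrArg Fin.val h; simp at this
  have h03 : i0 ≠ i3 := by
    rw [hi0, hi3]; intro h; have := congrArg Fin.val h; simp at this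
  have h12 : i1 ≠ i2 := by
    rw [hi1, hi2]; intro h; have := congrArg Fin.val h; simp at this
  have h13 : i1 ≠ i3 := by
    rw [hi1, hi3]; intro h; have := congrArg Fin.val h; simp at this
  have h23 : i2 ≠ i3 := by
    rw [hi2, hi3]; intro h; have := congrArg Fin.val h; simp at this
  -- the matrix of the transvection
  have hX : ((uG (Pi.single (0 : Fin (j + 1)) s) : GL (Fin (j + 2)) F) : Matrix (Fin (j + 2)) (Fin (j + 2)) F) =
      1 + s • vecMulVec (Pi.single i0 (1 : F)) (Pi.single i1 (1 : F)) := by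
    rw [uG_coe]
    apply bm_ext
    · simp [vecMulVec_apply, hi0, hi1, Pi.single_apply]
    · intro c
      have hne : (0 : Fin (j + 2)) ≠ Fin.succ c := (Fin.succ_ne_zero c).symm
      simp only [bm_zero_succ, Matrix.add_apply, Matrix.smul_apply, vecMulVec_apply,
        Matrix.one_apply_ne hne, zero_add, smul_eq_mul]
      rw [hi0, hi1, Pi.single_eq_same, one_mul]
      by_cases hc : c = 0
      · subst hc; simp
      · have hc' : Fin.succ c ≠ (Fin.succ 0 : Fin (j + 2)) := fun h => hc (Fin.succ_injective _ h)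
        rw [Pi.single_eq_of_ne hc, Pi.single_eq_of_ne hc', mul_zero]
    · intro r
      have : (Fin.succ r : Fin (j + 2)) ≠ 0 := Fin.succ_ne_zero r
      simp [vecMulVec_apply, hi0, hi1, Pi.single_apply, this, Matrix.one_apply]
    · intro r c
      have : (Fin.succ r : Fin (j + 2)) ≠ 0 := Fin.succ_ne_zero r
      simp [vecMulVec_apply, hi0, hi1, Pi.single_apply, this, Matrix.one_apply]
  -- `s * v 1 = 0`
  have hsv : s * v i1 = 0 := by
    have h1 := congrFun hfix i0
    rw [hX, add_mulVec, one_mulVec, smul_mulVec, vecMulVec_mulVec] at h1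
    simp only [Pi.add_apply, Pi.smul_apply, MulOpposite.smul_eq_mul_unop, MulOpposite.unop_op,
      smul_eq_mul, single_dotProduct, one_mul, Pi.single_eq_same, mul_one] at h1
    have : v i0 + s * v i1 = v i0 := h1
    linear_combination this
  -- the vectors `w` and `u₀`
  obtain ⟨w, u0, hw0, hu1, hwv, hwu⟩ : ∃ w u0 : Fin (j + 2) → F, w i0 = 0 ∧ u0 i1 = 0 ∧
      w ⬝ᵥ v = 0 ∧ w ⬝ᵥ u0 = 1 := by
    by_cases hv2 : v i2 = 0
    · refine ⟨Pi.single i2 1, Pi.single i2 1, ?_, ?_, ?_, ?_⟩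
      · simp [Pi.single_apply, h02]
      · simp [Pi.single_apply, h12]
      · simp [single_dotProduct, hv2]
      · simp [single_dotProduct]
    · refine ⟨Pi.single i2 (v i3) - Pi.single i3 (v i2), Pi.single i3 (-(v i2)⁻¹), ?_, ?_, ?_, ?_⟩
      · simp [Pi.single_apply, h02, h03]
      · simp [Pi.single_apply, h13]
      · rw [sub_dotProduct, single_dotProduct, single_dotProduct]
        ring
      · rw [sub_dotProduct, single_dotProduct, single_dotProduct, Pi.single_eq_of_ne h23,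
          Pi.single_eq_same, mul_zero, zero_sub]
        field_simp
  have hwe0 : w ⬝ᵥ Pi.single i0 (1 : F) = 0 := by
    rw [dotProduct_single, hw0, zero_mul]
  have hue1 : Pi.single i1 (1 : F) ⬝ᵥ (s • u0) = 0 := by
    rw [single_dotProduct, Pi.smul_apply, hu1, smul_zero, mul_zero]
  refine ⟨tEl (Pi.single i0 1) w hwe0, tEl (s • u0) (Pi.single i1 1) hue1, ?_, ?_, ?_⟩
  · rw [det_tEl, one_smul, tEl_mulVec, hwv, zero_smul, add_zero]
  · rw [det_tEl, one_smul, tEl_mulVec, single_dotProduct, one_mul, smul_smul, mul_comm, hsv,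
      zero_smul, add_zero]
  · apply Units.ext
    rw [Units.val_mul, Units.val_mul, Units.val_mul, tEl_inv_coe, tEl_inv_coe, tEl_coe, tEl_coe, hX]
    rw [comm_of_sq_zero]
    · rw [vecMulVec_mul_vecMulVec, dotProduct_smul, hwu, smul_eq_mul, mul_one]
      congr 1
      ext r c
      simp only [Matrix.smul_apply, vecMulVec_apply, Pi.smul_apply, smul_eq_mul]
      ring
    · rw [vecMulVec_mul_vecMulVec, hwe0, zero_smul]
      ext r c
      simp [vecMulVec_apply]
    · rw [vecMulVec_mul_vecMulVec, hue1, zero_smul]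
      ext r c
      simp [vecMulVec_apply]
    · rw [vecMulVec_mul_vecMulVec, single_dotProduct, Pi.single_apply, if_neg h01.symm, mul_zero,
        zero_smul]
      ext r c
      simp [vecMulVec_apply]

end Cfsg.Agent.Lib.H3.SLMin
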