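import Cfsg.Agent.Lib.H12.ReeU5
import Cfsg.Agent.Lib.H29.ReeB1
import Cfsg.Agent.Lib.H2.ReeC1

/-!
# REE tori project (architect helper12), piece REE-F6 (helper3): three eighths of the elements of the
Ree group have even order
-/

set_option autoImplicit false

namespace Cfsg.Agent.Lib.H3.Ree

open Cfsg.Agent.Lib.H12.ReeC Cfsg.Agent.Lib.H12.ReeC.RSys

variable {G K : Type*} [Group G] [Field K] {R : RSys G K} [Fintype K] [Finite G]

local notation "PSL2" => Matrix.ProjectiveSpecialLinearGroup (Fin 2) K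

/-- the elements of odd order of `C(a)` are the `Φ(1, x)` with `x` of odd order -/
theorem card_odd_centralizer_a :
    Nat.card {w : G // w * R.a = R.a * w ∧ Odd (orderOf w)} =
      Nat.card {x : PSL2 // Odd (orderOf x)} := by
  symm
  have hord : ∀ (e : Multiplicative (ZMod 2)) (x : PSL2),
      orderOf (R.Phi (e, x)) = Nat.lcm (orderOf e) (orderOf x) := by
    intro e x
    rw [orderOf_injective R.Phi R.Phi_injective, Prod.orderOf_mk]
  refine Nat.card_congr (Equiv.ofBijective
    (fun x : {x : PSL2 // Odd (orderOf x)} =>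
      (⟨R.Phi (1, x.1), ?_, ?_⟩ : {w : G // w * R.a = R.a * w ∧ Odd (orderOf w)})) ⟨?_, ?_⟩)
  · have h : R.Phi (1, x.1) ∈ Subgroup.centralizer ({R.a} : Set G) := by
      rw [← R.Phi_range]
      exact ⟨_, rfl⟩
    rw [Subgroup.mem_centralizer_singleton_iff] at h
    exact h
  · rw [hord, orderOf_one, Nat.lcm_one_left]
    exact x.2
  · intro x x' h
    have h1 := congrArg Subtype.val h
    have h2 := R.Phi_injective h1
    rw [Prod.mk.injEq] at h2
    exact Subtype.ext h2.2
  · rintro ⟨w, hw1, hw2⟩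
    have hw : w ∈ Subgroup.centralizer ({R.a} : Set G) := by
      rw [Subgroup.mem_centralizer_singleton_iff]
      exact hw1
    obtain ⟨e, x, rfl⟩ := R.mem_centralizer_a w hw
    rw [hord] at hw2
    have he : Odd (orderOf e) := Odd.of_dvd_nat hw2 (Nat.dvd_lcm_left _ _)
    have hx : Odd (orderOf x) := Odd.of_dvd_nat hw2 (Nat.dvd_lcm_right _ _)
    have he2 : orderOf e ∣ 2 := orderOf_dvd_of_pow_eq_one (by rw [pow_two]; exact z2_sq e)
    have he1 : orderOf e = 1 := by
      rcases (Nat.dvd_prime Nat.prime_two).1 he2 with h | h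
      · exact h
      · rw [h] at he
        exact absurd he (by decide)
    have he' : e = 1 := orderOf_eq_one_iff.1 he1
    subst he'
    exact ⟨⟨x, hx⟩, rfl⟩

/-- **REE-F6** three eighths of the elements have even order. -/
theorem card_even_elements {q : ℕ} (D : R.ReeData q) :
    8 * Nat.card {y : G // Even (orderOf y)} = 3 * Nat.card G := by
  obtain ⟨k, hN, hk⟩ := D.two_part
  have hB1 := Cfsg.Agent.Lib.H29.Ree.card_even_order R.a R.a_ne_one R.a_sq
    (fun v hv1 hv2 => R.involution_conj D.hq8' k hN hk D.hZ v hv1 hv2)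
    (fun x hx => R.sq_of_pow_four D.hq8' k hN hk x hx)
  have hCa : Nat.card (Subgroup.centralizer ({R.a} : Set G)) = 2 * Nat.card PSL2 := by
    rw [Nat.card_congr R.centIso.toEquiv, Nat.card_prod]
    congr 1
    rw [Nat.card_eq_fintype_card]
    rfl
  have hC1 := Cfsg.Agent.Lib.H2.Ree.card_odd_PSL2 (F := K) D.hq8'
  rw [hCa, card_odd_centralizer_a] at hB1
  have hpos : 0 < Nat.card PSL2 := Nat.card_pos
  have key : (8 * Nat.card {y : G // Even (orderOf y)}) * Nat.card PSL2 =
      (3 * Nat.card G) * Nat.card PSL2 := by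
    calc (8 * Nat.card {y : G // Even (orderOf y)}) * Nat.card PSL2
        = 4 * (Nat.card {y : G // Even (orderOf y)} * (2 * Nat.card PSL2)) := by ring
      _ = 4 * (Nat.card G * Nat.card {x : PSL2 // Odd (orderOf x)}) := by rw [hB1]
      _ = Nat.card G * (4 * Nat.card {x : PSL2 // Odd (orderOf x)}) := by ring
      _ = Nat.card G * (3 * Nat.card PSL2) := by rw [hC1]
      _ = (3 * Nat.card G) * Nat.card PSL2 := by ring
  exact Nat.eq_of_mul_eq_mul_right hpos key

end Cfsg.Agent.Lib.H3.Ree
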