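import Mathlib
import Cfsg.Agent.Lib.H24.AschODefs
import Cfsg.Agent.Lib.H20.AschP2E0
import Cfsg.Agent.Lib.H17.AschU2a
import Cfsg.Agent.Lib.H28.GLBasic

/-!
# S5673 project, OM2-F (helper3): an orthogonal frame of isometric lines over a non-prime field gives class 5
-/

set_option autoImplicit false

namespace Cfsg.Agent.Lib.H3.Asch

open Cfsg Cfsg.Geo Cfsg.Agent.Lib.Lead.Asch Cfsg.Agent.Lib.H24.Asch Cfsg.Agent.Lib.H28
open scoped MatrixGroups Matrix

variable {F : Type*} [Field F] [Fintype F] {n : ℕ}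

theorem OM2F_two_ne_zero (h : Odd (Fintype.card F)) : (2 : F) ≠ 0 := by
  intro h2
  have h3 : ringChar F = 2 := CharP.ringChar_of_prime_eq_zero Nat.prime_two (by exact_mod_cast h2)
  have h4 := FiniteField.even_card_of_char_two h3
  rw [Nat.odd_iff] at h
  omega

/-- the prime field is a proper subfield of a finite field of non-prime order -/
theorem OM2F_bot_ne_top (hnp : ¬ (Fintype.card F).Prime) : (⊥ : Subfield F) ≠ ⊤ := by
  intro h
  apply hnp
  obtain ⟨p, hp⟩ := CharP.exists F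
  haveI := hp
  haveI : Fact p.Prime := ⟨CharP.char_is_prime F p⟩
  letI : Algebra (ZMod p) F := ZMod.algebra F p
  have hbot := Subfield.bot_eq_of_zMod_algebra (K := F) p
  have hsurj : Function.Surjective (algebraMap (ZMod p) F) := by
    intro x
    have hx : x ∈ (⊤ : Subfield F) := trivial
    rw [← h, hbot] at hx
    exact hx
  have hinj : Function.Injective (algebraMap (ZMod p) F) := (algebraMap (ZMod p) F).injective
  have hcard : Fintype.card F = Fintype.card (ZMod p) :=
    (Fintype.card_of_bijective ⟨hinj, hsurj⟩).symm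
  rw [hcard, ZMod.card]
  exact Fact.out

section quad
variable {Q : (Fin n → F) → F}

/-- the polar form as a bundled bilinear form -/
noncomputable def OM2F_B (hQ : IsNondegenerateQuadraticForm Q) : LinearMap.BilinForm F (Fin n → F) :=
  LinearMap.mk₂ F (QuadraticMap.polar Q) hQ.polar_bilinear.add_left
    (fun c x v => by rw [hQ.polar_bilinear.smul_left, smul_eq_mul])
    hQ.polar_bilinear.add_right
    (fun c x v => by rw [hQ.polar_bilinear.smul_right, smul_eq_mul])

theorem OM2F_B_apply (hQ : IsNondegenerateQuadraticForm Q) (u v : Fin n → F) :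
    OM2F_B hQ u v = QuadraticMap.polar Q u v := rfl

theorem OM2F_toMatrix (hQ : IsNondegenerateQuadraticForm Q) :
    LinearMap.BilinForm.toMatrix' (OM2F_B hQ) = gramMatrix (QuadraticMap.polar Q) := by
  ext i j
  rw [LinearMap.BilinForm.toMatrix'_apply, OM2F_B_apply]
  rfl

theorem OM2F_polar_self (hQ : IsNondegenerateQuadraticForm Q) (v : Fin n → F) :
    QuadraticMap.polar Q v v = 2 * Q v := by
  unfold QuadraticMap.polar
  have h1 : v + v = (2 : F) • v := (two_smul F v).symm
  rw [h1, hQ.smul]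
  ring

theorem OM2F_Q_zero (hQ : IsNondegenerateQuadraticForm Q) : Q 0 = 0 := by
  have := hQ.smul 0 0
  simpa using this

end quad

/-- a matrix with entries in a subfield whose inverse also has entries there comes from `GL` of the subfield -/
theorem OM2F_mem_range (F₀ : Subfield F) (A : GL (Fin n) F)
    (hA : ∀ i j, (A : Matrix (Fin n) (Fin n) F) i j ∈ F₀)
    (hA' : ∀ i j, ((A⁻¹ : GL (Fin n) F) : Matrix (Fin n) (Fin n) F) i j ∈ F₀) :
    A ∈ (Matrix.GeneralLinearGroup.map (F₀.subtype : F₀ →+* F)).range := by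
  let M₀ : Matrix (Fin n) (Fin n) F₀ := fun i j => ⟨(A : Matrix (Fin n) (Fin n) F) i j, hA i j⟩
  let M₁ : Matrix (Fin n) (Fin n) F₀ := fun i j =>
    ⟨((A⁻¹ : GL (Fin n) F) : Matrix (Fin n) (Fin n) F) i j, hA' i j⟩
  have hM₀ : M₀.map (F₀.subtype : F₀ →+* F) = (A : Matrix (Fin n) (Fin n) F) := by
    ext i j; rfl
  have hM₁ : M₁.map (F₀.subtype : F₀ →+* F) = ((A⁻¹ : GL (Fin n) F) : Matrix (Fin n) (Fin n) F) := by
    ext i j; rfl
  have hinj : Function.Injective
      (fun M : Matrix (Fin n) (Fin n) F₀ => M.map (F₀.subtype : F₀ →+* F)) :=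
    Matrix.map_injective (F₀.subtype : F₀ →+* F).injective
  have h1 : M₀ * M₁ = 1 := by
    apply hinj
    show (M₀ * M₁).map (F₀.subtype : F₀ →+* F) = (1 : Matrix (Fin n) (Fin n) F₀).map (F₀.subtype : F₀ →+* F)
    rw [Matrix.map_mul, hM₀, hM₁, Matrix.map_one _ (map_zero _) (map_one _), ← Units.val_mul,
      mul_inv_cancel, Units.val_one]
  have h2 : M₁ * M₀ = 1 := by
    apply hinj
    show (M₁ * M₀).map (F₀.subtype : F₀ →+* F) = (1 : Matrix (Fin n) (Fin n) F₀).map (F₀.subtype : F₀ →+* F)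
    rw [Matrix.map_mul, hM₀, hM₁, Matrix.map_one _ (map_zero _) (map_one _), ← Units.val_mul,
      inv_mul_cancel, Units.val_one]
  refine ⟨⟨M₀, M₁, h1, h2⟩, ?_⟩
  apply Units.ext
  ext i j
  rfl

theorem OM2F_entry (A B C : Matrix (Fin n) (Fin n) F) (j i : Fin n) :
    (A * B * C) j i = (A *ᵥ (B *ᵥ (C *ᵥ Pi.single i 1))) j := by
  rw [Matrix.mulVec_mulVec, Matrix.mulVec_mulVec, Matrix.mulVec_single_one]
  rfl

/-- **OM2-F**. -/
theorem oc5_of_frame (Q : (Fin n → F) → F) (hQ : OData Q) (hnp : ¬ (Fintype.card F).Prime)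
    (H : Subgroup (GL (Fin n) F)) (hH : H ≤ isometryGroup F Q) (t : ℕ)
    (D : Fin t → Submodule F (Fin n → F)) (hD : IsOrthogonalMDecomposition Q 1 D)
    (hHD : H ≤ decompositionStabilizer D) : OC5 Q H := by
  classical
  have h2 : (2 : F) ≠ 0 := OM2F_two_ne_zero hQ.qodd
  have hbil := hQ.quad.polar_bilinear
  obtain ⟨b₀, hb₀D, -⟩ := Cfsg.Agent.Lib.H20.AschP2.exists_basis_of_lines D hD.decomp.decomp
  have htn : n = t := by
    have := Module.finrank_eq_card_basis b₀
    simpa using this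
  subst htn
  have hQ0 : Q 0 = 0 := OM2F_Q_zero hQ.quad
  have hself : ∀ v, QuadraticMap.polar Q v v = 2 * Q v := OM2F_polar_self hQ.quad
  -- the lines
  have hline : ∀ i, ∀ x ∈ D i, ∃ a : F, x = a • b₀ i := by
    intro i x hx
    have hfin := hD.decomp.decomp.finrank_eq i
    have hne : (⟨b₀ i, hb₀D i⟩ : D i) ≠ 0 := by
      intro h
      exact b₀.ne_zero i (congrArg Subtype.val h)
    obtain ⟨a, ha⟩ := (finrank_eq_one_iff_of_nonzero' (⟨b₀ i, hb₀D i⟩ : D i) hne).mp hfin ⟨x, hx⟩
    refine ⟨a, ?_⟩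
    have := congrArg Subtype.val ha
    simpa using this.symm
  have hQne : ∀ i, Q (b₀ i) ≠ 0 := by
    intro i hi
    obtain ⟨⟨x, hx, hxw⟩, -⟩ := hD.decomp.nondegenerate i (b₀ i) (hb₀D i) (b₀.ne_zero i)
    obtain ⟨a, rfl⟩ := hline i x hx
    apply hxw
    rw [hbil.smul_left, hself, hi]
    ring
  have ht2 := hD.decomp.decomp.two_le
  let i₀ : Fin n := ⟨0, by omega⟩
  set c := Q (b₀ i₀) with hc
  have hc0 : c ≠ 0 := hQne i₀
  have hscale : ∀ i, ∃ a : F, a ≠ 0 ∧ Q (a • b₀ i) = c := by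
    intro i
    obtain ⟨e, he⟩ := hD.isometric i₀ i
    obtain ⟨a, ha⟩ := hline i ((e ⟨b₀ i₀, hb₀D i₀⟩ : D i) : Fin n → F) (e ⟨b₀ i₀, hb₀D i₀⟩).2
    have h1 := he ⟨b₀ i₀, hb₀D i₀⟩
    rw [ha] at h1
    refine ⟨a, ?_, h1⟩
    rintro rfl
    rw [zero_smul, hQ0] at h1
    exact hc0 h1.symm
  choose a ha0 haQ using hscale
  -- discriminant
  obtain ⟨d, hd, bb, hdet⟩ := hQ.disc
  let w : Module.Basis (Fin n) F (Fin n → F) := b₀.unitsSMul (fun i => Units.mk0 (a i) (ha0 i))
  have hw : ∀ i, w i = a i • b₀ i := by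
    intro i
    simp [w, Module.Basis.unitsSMul_apply, Units.smul_def]
  have hwD : ∀ i, w i ∈ D i := fun i => by rw [hw]; exact (D i).smul_mem _ (hb₀D i)
  have hwQ : ∀ i, Q (w i) = c := fun i => by rw [hw]; exact haQ i
  have hworth : ∀ i j, i ≠ j → QuadraticMap.polar Q (w i) (w j) = 0 := fun i j hij =>
    hD.decomp.orthogonal i j hij (w i) (hwD i) (w j) (hwD j)
  have hdiag : ((Pi.basisFun F (Fin n)).toMatrix w)ᵀ * gramMatrix (QuadraticMap.polar Q) *
      (Pi.basisFun F (Fin n)).toMatrix w = Matrix.diagonal (fun _ => 2 * c) := by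
    rw [← OM2F_toMatrix hQ.quad, ← LinearMap.BilinForm.toMatrix_basisFun,
      LinearMap.BilinForm.toMatrix_mul_basis_toMatrix]
    ext i j
    rw [LinearMap.BilinForm.toMatrix_apply, OM2F_B_apply, Matrix.diagonal_apply]
    by_cases hij : i = j
    · subst hij
      rw [if_pos rfl, hself, hwQ]
    · rw [if_neg hij, hworth i j hij]
  have hdet2 : ((Pi.basisFun F (Fin n)).toMatrix w).det ^ 2 * (d * bb ^ 2) = (2 * c) ^ n := by
    have := congrArg Matrix.det hdiag
    rw [Matrix.det_mul, Matrix.det_mul, Matrix.det_transpose, Matrix.det_diagonal, hdet,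
      Finset.prod_const, Finset.card_univ, Fintype.card_fin] at this
    rw [← this]
    ring
  obtain ⟨k, hk⟩ := hQ.nodd
  rw [Fintype.card_fin] at hk
  have h2c : (2 * c) ≠ 0 := mul_ne_zero h2 hc0
  set s := bb * ((Pi.basisFun F (Fin n)).toMatrix w).det / (2 * c) ^ k with hs
  have hcs : c = d / 2 * s ^ 2 := by
    have h3 : (2 * c) ^ n = (2 * c) ^ k * (2 * c) ^ k * (2 * c) := by
      rw [hk]; ring
    rw [h3] at hdet2
    have hk0 : (2 * c) ^ k ≠ 0 := pow_ne_zero _ h2c
    rw [hs]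
    field_simp
    linear_combination (-1 : F) * hdet2
  have hs0 : s ≠ 0 := by
    intro h
    rw [h] at hcs
    apply hc0
    rw [hcs]
    ring
  -- the final basis
  let v : Module.Basis (Fin n) F (Fin n → F) :=
    w.unitsSMul (fun _ => Units.mk0 s⁻¹ (inv_ne_zero hs0))
  have hv : ∀ i, v i = s⁻¹ • w i := by
    intro i
    simp [v, Module.Basis.unitsSMul_apply, Units.smul_def]
  have hvD : ∀ i, v i ∈ D i := fun i => by rw [hv]; exact (D i).smul_mem _ (hwD i)
  have hvQ : ∀ i, Q (v i) = d / 2 := by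
    intro i
    rw [hv, hQ.quad.smul, hwQ, hcs]
    field_simp
  have hvorth : ∀ i j, i ≠ j → QuadraticMap.polar Q (v i) (v j) = 0 := fun i j hij =>
    hD.decomp.orthogonal i j hij (v i) (hvD i) (v j) (hvD j)
  have hlinev : ∀ i, ∀ x ∈ D i, ∃ ε : F, x = ε • v i := by
    intro i x hx
    obtain ⟨a', rfl⟩ := hline i x hx
    refine ⟨a' * s * (a i)⁻¹, ?_⟩
    rw [hv, hw, smul_smul, smul_smul]
    congr 1
    have := ha0 i
    field_simp
  -- the subfield
  obtain ⟨F₀, r, hle, hr, hcard⟩ :=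
    Cfsg.Agent.Lib.H17.Asch.exists_prime_degree_subfield (⊥ : Subfield F) (OM2F_bot_ne_top hnp)
  let P : GL (Fin n) F := glOfEquiv v.equivFun.symm
  have hPmul : ∀ u : Fin n → F, (P : Matrix (Fin n) (Fin n) F) *ᵥ u = ∑ i, u i • v i := by
    intro u
    rw [glOfEquiv_mulVec, Module.Basis.equivFun_symm_apply]
  have hPsingle : ∀ i, (P : Matrix (Fin n) (Fin n) F) *ᵥ Pi.single i 1 = v i := by
    intro i
    rw [hPmul]
    simp [Pi.single_apply]
  have hPinv : ∀ x : Fin n → F,
      ((P⁻¹ : GL (Fin n) F) : Matrix (Fin n) (Fin n) F) *ᵥ x = v.equivFun x := by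
    intro x
    have h1 : (P : Matrix (Fin n) (Fin n) F) *ᵥ (v.equivFun x) = x := by
      rw [glOfEquiv_mulVec, LinearEquiv.symm_apply_apply]
    have h3 : ((P⁻¹ : GL (Fin n) F) : Matrix (Fin n) (Fin n) F) *ᵥ
        ((P : Matrix (Fin n) (Fin n) F) *ᵥ (v.equivFun x)) = v.equivFun x := by
      rw [Matrix.mulVec_mulVec, ← Units.val_mul, inv_mul_cancel, Units.val_one, Matrix.one_mulVec]
    rw [h1] at h3
    exact h3
  have hd0 : d ∈ F₀ := hle hd
  have h2F : (2 : F) ∈ F₀ := by
    have : (2 : F) = 1 + 1 := by norm_num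
    rw [this]
    exact F₀.add_mem F₀.one_mem F₀.one_mem
  refine ⟨F₀, r, P, hr, hcard, ?_, ?_⟩
  · -- rational structure
    intro u hu
    rw [hPmul]
    have hform : Q (∑ i, u i • v i) = d / 2 * ∑ i, u i ^ 2 := by
      have h1 := hself (∑ i, u i • v i)
      have h3 : QuadraticMap.polar Q (∑ i, u i • v i) (∑ i, u i • v i) = d * ∑ i, u i ^ 2 := by
        rw [← OM2F_B_apply hQ.quad]
        simp only [LinearMap.BilinForm.sum_left, LinearMap.BilinForm.sum_right,
          LinearMap.BilinForm.smul_left, LinearMap.BilinForm.smul_right, OM2F_B_apply]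
        rw [Finset.mul_sum]
        apply Finset.sum_congr rfl
        intro i _
        rw [Finset.sum_eq_single i]
        · rw [hself, hvQ]
          field_simp
        · intro j _ hji
          rw [hvorth j i hji]
          ring
        · intro h
          exact absurd (Finset.mem_univ i) h
      rw [h3] at h1
      field_simp
      linear_combination -h1
    rw [hform]
    apply F₀.mul_mem (F₀.div_mem hd0 h2F)
    apply F₀.sum_mem
    intro i _
    exact F₀.pow_mem (hu i) 2
  · -- `H` consists of signed permutation matrices in the basis `v`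
    have hmono : ∀ h ∈ H, ∀ i, ∃ (j : Fin n) (ε : F), (ε = 1 ∨ ε = -1) ∧
        (h : Matrix (Fin n) (Fin n) F) *ᵥ v i = ε • v j := by
      intro h hh i
      obtain ⟨σ, hσ⟩ := hHD hh
      have hmem : (h : Matrix (Fin n) (Fin n) F) *ᵥ v i ∈ D (σ i) := by
        rw [← hσ i]
        exact ⟨v i, hvD i, by rw [Matrix.toLin'_apply]⟩
      obtain ⟨ε, hε⟩ := hlinev (σ i) _ hmem
      refine ⟨σ i, ε, ?_, hε⟩
      have hiso : Q ((h : Matrix (Fin n) (Fin n) F) *ᵥ v i) = Q (v i) := hH hh (v i) (v i)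
      rw [hε, hQ.quad.smul, hvQ, hvQ] at hiso
      have hd2 : d / 2 ≠ 0 := by
        intro h0
        apply hc0
        rw [hcs, h0]
        ring
      have h1 : ε ^ 2 = 1 := by
        have := mul_right_cancel₀ hd2 (hiso.trans (one_mul _).symm)
        exact this
      rw [pow_two] at h1
      exact mul_self_eq_one_iff.mp h1
    have hentry : ∀ h ∈ H, ∀ j' i,
        (((P⁻¹ : GL (Fin n) F) : Matrix (Fin n) (Fin n) F) * (h : Matrix (Fin n) (Fin n) F) *
          (P : Matrix (Fin n) (Fin n) F)) j' i ∈ F₀ := by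
      intro h hh j' i
      rw [OM2F_entry, hPsingle, hPinv]
      obtain ⟨j, ε, hε, hhv⟩ := hmono h hh i
      rw [hhv, map_smul]
      simp only [Pi.smul_apply, Module.Basis.equivFun_self, smul_eq_mul]
      have hεF : ε ∈ F₀ := by
        rcases hε with rfl | rfl
        · exact F₀.one_mem
        · exact F₀.neg_mem F₀.one_mem
      split_ifs
      · rw [mul_one]; exact hεF
      · rw [mul_zero]; exact F₀.zero_mem
    intro h hh
    unfold subfieldSubgroup
    refine Subgroup.mem_map.mpr ⟨P⁻¹ * h * P, Subgroup.mem_sup_left ?_, ?_⟩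
    · apply OM2F_mem_range
      · intro i j
        rw [Units.val_mul, Units.val_mul]
        exact hentry h hh i j
      · intro i j
        have : (P⁻¹ * h * P)⁻¹ = P⁻¹ * h⁻¹ * P := by group
        rw [this, Units.val_mul, Units.val_mul]
        exact hentry h⁻¹ (H.inv_mem hh) i j
    · show P * (P⁻¹ * h * P) * P⁻¹ = h
      group

end Cfsg.Agent.Lib.H3.Asch
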