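import Mathlib

set_option autoImplicit false

/-! # Transport of the centre and the central quotient along an isomorphism -/

namespace Cfsg.Agent.Lib.H3.CenterIso

variable {G H : Type*} [Group G] [Group H]

theorem map_center_mulEquiv (e : G ≃* H) :
    (Subgroup.center G).map e.toMonoidHom = Subgroup.center H := by
  ext x
  constructor
  · rintro ⟨z, hz, rfl⟩
    rw [Subgroup.mem_center_iff]
    intro h
    have hz' := Subgroup.mem_center_iff.mp hz (e.symm h)
    have := congrArg e hz'
    simpa using this
  · intro hx
    refine ⟨e.symm x, ?_, by simp⟩
    rw [SetLike.mem_coe, Subgroup.mem_center_iff]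
    intro g
    have hx' := Subgroup.mem_center_iff.mp hx (e g)
    have := congrArg e.symm hx'
    simpa using this

/-- the induced isomorphism of central quotients -/
noncomputable def quotCenterCongr (e : G ≃* H) :
    G ⧸ Subgroup.center G ≃* H ⧸ Subgroup.center H :=
  QuotientGroup.congr _ _ e (map_center_mulEquiv e)

theorem card_center_congr (e : G ≃* H) :
    Nat.card (Subgroup.center G) = Nat.card (Subgroup.center H) := by
  rw [← map_center_mulEquiv e]
  exact (Nat.card_congr ((Subgroup.center G).equivMapOfInjective e.toMonoidHom e.injective).toEquiv)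

theorem isSimpleGroup_congr (e : G ≃* H) [IsSimpleGroup G] : IsSimpleGroup H :=
  e.symm.isSimpleGroup

end Cfsg.Agent.Lib.H3.CenterIso
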