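import Mathlib
import Cfsg.Agent.Lib.H7.K4Defs

/-!
# S3701 (helper7 blueprint), GROUP side, part 1: the model `M3` of `3^3 : 2^2`

`M3 = {p ∈ S₃ × S₃ × S₃ | sign p₁ * sign p₂ * sign p₃ = 1}` (order 108) and the isomorphism
`isoM3` of the subgroup of `Perm (Fin 9)` of the statement S3701 with `M3`.
-/

set_option autoImplicit false

namespace Cfsg.Agent.Lib.H3.H108

open Cfsg Cfsg.Agent.Lib.H7.K4

/-- `S₃ × S₃ × S₃` -/
abbrev S333 := S3 × S3 × S3

/-- the product of the three signs -/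
def sgn3 : S333 →* ℤˣ where
  toFun p := Equiv.Perm.sign p.1 * Equiv.Perm.sign p.2.1 * Equiv.Perm.sign p.2.2
  map_one' := by simp
  map_mul' := by
    intro p q
    simp only [Prod.fst_mul, Prod.snd_mul, map_mul]
    ac_rfl

theorem sgn3_apply (p : S333) :
    sgn3 p = Equiv.Perm.sign p.1 * Equiv.Perm.sign p.2.1 * Equiv.Perm.sign p.2.2 := rfl

/-- the model of `H`: the even elements of `S₃ × S₃ × S₃` -/
abbrev M3 : Subgroup S333 := sgn3.ker

theorem mem_M3 (p : S333) : p ∈ M3 ↔ sgn3 p = 1 := MonoidHom.mem_ker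

/-- the transposition `(0 1)` of `S₃` -/
def t3 : S3 := Equiv.swap 0 1

/-- the `b`-th component -/
def comp (p : S333) (b : Fin 3) : S3 := if b = 0 then p.1 else if b = 1 then p.2.1 else p.2.2

theorem comp_one (b : Fin 3) : comp 1 b = 1 := by
  unfold comp; split_ifs <;> rfl

theorem comp_mul (p q : S333) (b : Fin 3) : comp (p * q) b = comp p b * comp q b := by
  unfold comp; split_ifs <;> rfl

/-- the block action on `Fin 3 × Fin 3` -/
def blkP : S333 →* Equiv.Perm (Fin 3 × Fin 3) where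
  toFun p := Equiv.prodCongrRight (comp p)
  map_one' := by
    ext ⟨b, r⟩ <;> simp [comp_one]
  map_mul' := by
    intro p q
    ext ⟨b, r⟩ <;> simp [comp_mul]

/-- the block action on `Fin 9`: block `b` is `{3b, 3b+1, 3b+2}` -/
def blk : S333 →* Equiv.Perm (Fin 9) :=
  (finProdFinEquiv (m := 3) (n := 3)).permCongrHom.toMonoidHom.comp blkP

/-- the generating set of the statement S3701 -/
def gens9 : Set (Equiv.Perm (Fin 9)) :=
  {Equiv.swap (0 : Fin 9) 1 * Equiv.swap 1 2, Equiv.swap (3 : Fin 9) 4 * Equiv.swap 4 5,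
    Equiv.swap (6 : Fin 9) 7 * Equiv.swap 7 8,
    Equiv.swap (0 : Fin 9) 1 * Equiv.swap 3 4, Equiv.swap (0 : Fin 9) 1 * Equiv.swap 6 7}

/-- the five generators in the model -/
def g1 : S333 := (c3, 1, 1)
def g2 : S333 := (1, c3, 1)
def g3 : S333 := (1, 1, c3)
def g4 : S333 := (t3, t3, 1)
def g5 : S333 := (t3, 1, t3)

theorem blk_g1 : blk g1 = Equiv.swap (0 : Fin 9) 1 * Equiv.swap 1 2 := by decide
theorem blk_g2 : blk g2 = Equiv.swap (3 : Fin 9) 4 * Equiv.swap 4 5 := by decide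
theorem blk_g3 : blk g3 = Equiv.swap (6 : Fin 9) 7 * Equiv.swap 7 8 := by decide
theorem blk_g4 : blk g4 = Equiv.swap (0 : Fin 9) 1 * Equiv.swap 3 4 := by decide
theorem blk_g5 : blk g5 = Equiv.swap (0 : Fin 9) 1 * Equiv.swap 6 7 := by decide

set_option maxRecDepth 100000 in
theorem blk_injective : Function.Injective blk := by
  rw [injective_iff_map_eq_one]
  decide

set_option maxRecDepth 100000 in
theorem card_M3 : Nat.card ↥M3 = 108 := by
  rw [Nat.card_eq_fintype_card]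
  decide

set_option maxRecDepth 100000 in
theorem words (p : S333) (hp : sgn3 p = 1) :
    ∃ i j k : Fin 3, ∃ u v : Fin 2,
      p = g1 ^ (i : ℕ) * g2 ^ (j : ℕ) * g3 ^ (k : ℕ) * g4 ^ (u : ℕ) * g5 ^ (v : ℕ) := by
  revert p
  decide

theorem g_mem_M3 : g1 ∈ M3 ∧ g2 ∈ M3 ∧ g3 ∈ M3 ∧ g4 ∈ M3 ∧ g5 ∈ M3 := by
  simp only [mem_M3]
  decide

theorem blk_mem_closure (p : S333) (hp : sgn3 p = 1) : blk p ∈ Subgroup.closure gens9 := by
  obtain ⟨i, j, k, u, v, rfl⟩ := words p hp
  have h1 : blk g1 ∈ Subgroup.closure gens9 := Subgroup.subset_closure (by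
    rw [blk_g1]; simp [gens9])
  have h2 : blk g2 ∈ Subgroup.closure gens9 := Subgroup.subset_closure (by
    rw [blk_g2]; simp [gens9])
  have h3 : blk g3 ∈ Subgroup.closure gens9 := Subgroup.subset_closure (by
    rw [blk_g3]; simp [gens9])
  have h4 : blk g4 ∈ Subgroup.closure gens9 := Subgroup.subset_closure (by
    rw [blk_g4]; simp [gens9])
  have h5 : blk g5 ∈ Subgroup.closure gens9 := Subgroup.subset_closure (by
    rw [blk_g5]; simp [gens9])
  simp only [map_mul, map_pow]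
  exact mul_mem (mul_mem (mul_mem (mul_mem (pow_mem h1 _) (pow_mem h2 _)) (pow_mem h3 _))
    (pow_mem h4 _)) (pow_mem h5 _)

theorem closure_gens9 : Subgroup.closure gens9 = M3.map blk := by
  apply le_antisymm
  · rw [Subgroup.closure_le]
    obtain ⟨m1, m2, m3, m4, m5⟩ := g_mem_M3
    intro x hx
    simp only [gens9, Set.mem_insert_iff, Set.mem_singleton_iff] at hx
    rcases hx with rfl | rfl | rfl | rfl | rfl
    · exact ⟨g1, m1, blk_g1⟩
    · exact ⟨g2, m2, blk_g2⟩
    · exact ⟨g3, m3, blk_g3⟩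
    · exact ⟨g4, m4, blk_g4⟩
    · exact ⟨g5, m5, blk_g5⟩
  · rintro x ⟨p, hp, rfl⟩
    exact blk_mem_closure p ((mem_M3 p).1 hp)

/-- the group of the statement S3701 is the model `M3` -/
noncomputable def isoM3 : ↥(Subgroup.closure gens9) ≃* ↥M3 :=
  ((Subgroup.equivMapOfInjective M3 blk blk_injective).trans
    (MulEquiv.subgroupCongr closure_gens9.symm)).symm

theorem isoM3_symm_apply (m : ↥M3) : ((isoM3.symm m : ↥(Subgroup.closure gens9)) :
    Equiv.Perm (Fin 9)) = blk (m : S333) := rfl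

/-- the same with the literal generating set of the statement -/
noncomputable def isoM3' : ↥(Subgroup.closure ({Equiv.swap (0 : Fin 9) 1 * Equiv.swap 1 2,
    Equiv.swap (3 : Fin 9) 4 * Equiv.swap 4 5, Equiv.swap (6 : Fin 9) 7 * Equiv.swap 7 8,
    Equiv.swap (0 : Fin 9) 1 * Equiv.swap 3 4, Equiv.swap (0 : Fin 9) 1 * Equiv.swap 6 7} :
    Set (Equiv.Perm (Fin 9)))) ≃* ↥M3 := isoM3

end Cfsg.Agent.Lib.H3.H108
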