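import Mathlib
import Cfsg.Agent.Lib.H3.H108Model

/-!
# S3701 (helper7 blueprint), GROUP side, part 2: the hypotheses of S3701 give the abstract datum

For `H ≤ G` isomorphic to the group of the statement, `T ≤ H` of order 27 with `N_G(T) = H` and
`C_G(t) ≤ H` for `t ∈ T#`: an isomorphism `e : H ≃* M3`, `T = {t | (e t)³ = 1}`, and the set
`{d ∈ H | d⁴ ≠ 1}` of 3-singular elements of `H` is a TI set with normaliser `H`.
-/

set_option autoImplicit false

namespace Cfsg.Agent.Lib.H3.H108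

open Cfsg Cfsg.Agent.Lib.H7.K4

set_option maxRecDepth 100000 in
theorem pow27_S3 (a : S3) (h : a ^ 27 = 1) : a ^ 3 = 1 := by
  revert a; decide

set_option maxRecDepth 100000 in
theorem pow4_S3 (a : S3) : (a ^ 4) ^ 3 = 1 := by
  revert a; decide

theorem pow27_S333 (p : S333) (h : p ^ 27 = 1) : p ^ 3 = 1 := by
  have h1 : p.1 ^ 27 = 1 := congrArg Prod.fst h
  have h2 : p.2.1 ^ 27 = 1 := congrArg (fun x => x.2.1) h
  have h3 : p.2.2 ^ 27 = 1 := congrArg (fun x => x.2.2) h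
  exact Prod.ext (pow27_S3 _ h1) (Prod.ext (pow27_S3 _ h2) (pow27_S3 _ h3))

theorem pow4_S333 (p : S333) : (p ^ 4) ^ 3 = 1 :=
  Prod.ext (pow4_S3 _) (Prod.ext (pow4_S3 _) (pow4_S3 _))

theorem comm_S3 (a b : S3) (ha : a ^ 3 = 1) (hb : b ^ 3 = 1) : a * b = b * a := by
  revert a b; decide

theorem comm_S333 (p q : S333) (hp : p ^ 3 = 1) (hq : q ^ 3 = 1) : p * q = q * p := by
  have hp1 : p.1 ^ 3 = 1 := congrArg Prod.fst hp
  have hp2 : p.2.1 ^ 3 = 1 := congrArg (fun x => x.2.1) hp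
  have hp3 : p.2.2 ^ 3 = 1 := congrArg (fun x => x.2.2) hp
  have hq1 : q.1 ^ 3 = 1 := congrArg Prod.fst hq
  have hq2 : q.2.1 ^ 3 = 1 := congrArg (fun x => x.2.1) hq
  have hq3 : q.2.2 ^ 3 = 1 := congrArg (fun x => x.2.2) hq
  refine Prod.ext (comm_S3 _ _ hp1 hq1) (Prod.ext (comm_S3 _ _ hp2 hq2) (comm_S3 _ _ hp3 hq3))

section

variable {G : Type*} [Group G] [Finite G] (H : Subgroup G) (T : Subgroup G)

omit [Finite G] in
/-- a 3-element of `H` lies in the normal subgroup `T` of index 4 -/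
theorem mem_of_pow_three (hTH : T ≤ H) (hT : Nat.card T = 27) (hH : Nat.card H = 108)
    (hN : Subgroup.normalizer (T : Set G) = H) (x : G) (hx : x ∈ H) (hx3 : x ^ 3 = 1) : x ∈ T := by
  have hnorm : (T.subgroupOf H).Normal := by
    rw [Subgroup.normal_subgroupOf_iff_le_normalizer hTH]
    exact hN.ge
  have hcardT' : Nat.card ↥(T.subgroupOf H) = 27 := by
    rw [Nat.card_congr (Subgroup.subgroupOfEquivOfLe hTH).toEquiv, hT]
  have hquot : Nat.card (↥H ⧸ T.subgroupOf H) = 4 := by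
    have := Subgroup.card_eq_card_quotient_mul_card_subgroup (T.subgroupOf H)
    rw [hH, hcardT'] at this
    omega
  have h3 : ((QuotientGroup.mk ⟨x, hx⟩ : ↥H ⧸ T.subgroupOf H)) ^ 3 = 1 := by
    rw [← QuotientGroup.mk_pow]
    have : (⟨x, hx⟩ : ↥H) ^ 3 = 1 := Subtype.ext hx3
    rw [this]; rfl
  have h4 : ((QuotientGroup.mk ⟨x, hx⟩ : ↥H ⧸ T.subgroupOf H)) ^ 4 = 1 := by
    rw [← hquot]; exact pow_card_eq_one'
  have h1 : (QuotientGroup.mk ⟨x, hx⟩ : ↥H ⧸ T.subgroupOf H) = 1 := by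
    have h := pow_succ (QuotientGroup.mk ⟨x, hx⟩ : ↥H ⧸ T.subgroupOf H) 3
    rw [h4, h3, one_mul] at h
    exact h.symm
  rw [QuotientGroup.eq_one_iff] at h1
  exact Subgroup.mem_subgroupOf.1 h1

/-- **GROUP side of S3701.** -/
theorem exists_hyp
    (hH : Nonempty (↥H ≃* ↥(Subgroup.closure gens9)))
    (hTH : T ≤ H) (hT : Nat.card T = 27) (hN : Subgroup.normalizer (T : Set G) = H)
    (hC : ∀ t ∈ T, t ≠ 1 → Subgroup.centralizer ({t} : Set G) ≤ H) :
    ∃ e : ↥H ≃* ↥M3, (∀ t : ↥H, (t : G) ∈ T ↔ ((e t : ↥M3) : S333) ^ 3 = 1) ∧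
      (∀ a ∈ T, ∀ b ∈ T, a * b = b * a) ∧
      (∀ g d : G, d ∈ H → d ^ 4 ≠ 1 → g * d * g⁻¹ ∈ H → g ∈ H) := by
  classical
  obtain ⟨e0⟩ := hH
  let e : ↥H ≃* ↥M3 := e0.trans isoM3
  have hcardH : Nat.card ↥H = 108 := by rw [Nat.card_congr e.toEquiv, card_M3]
  have key := mem_of_pow_three H T hTH hT hcardH hN
  -- characterisation of `T`
  have hchar : ∀ t : ↥H, (t : G) ∈ T ↔ ((e t : ↥M3) : S333) ^ 3 = 1 := by
    intro t
    constructor
    · intro ht
      have h27 : (t : G) ^ 27 = 1 := by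
        have : (⟨(t : G), ht⟩ : ↥T) ^ Nat.card ↥T = 1 := pow_card_eq_one'
        rw [hT] at this
        exact congrArg Subtype.val this
      have h27' : t ^ 27 = 1 := Subtype.ext h27
      have : ((e t : ↥M3) : S333) ^ 27 = 1 := by
        have h := congrArg (fun m : ↥M3 => (m : S333)) (congrArg e h27')
        simpa using h
      exact pow27_S333 _ this
    · intro h3
      have h3' : (e t) ^ 3 = 1 := Subtype.ext h3
      have : t ^ 3 = 1 := by
        apply e.injective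
        rw [map_pow, h3', map_one]
      exact key (t : G) t.2 (congrArg Subtype.val this)
  -- `T` is abelian
  have hab : ∀ a ∈ T, ∀ b ∈ T, a * b = b * a := by
    intro a ha b hb
    have h1 := (hchar ⟨a, hTH ha⟩).1 ha
    have h2 := (hchar ⟨b, hTH hb⟩).1 hb
    have h := comm_S333 _ _ h1 h2
    have h' : e ⟨a, hTH ha⟩ * e ⟨b, hTH hb⟩ = e ⟨b, hTH hb⟩ * e ⟨a, hTH ha⟩ := Subtype.ext h
    rw [← map_mul, ← map_mul] at h'
    exact congrArg Subtype.val (e.injective h')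
  have hT3 : ∀ a ∈ T, a ^ 3 = 1 := by
    intro a ha
    have h1 := (hchar ⟨a, hTH ha⟩).1 ha
    have h3' : (e ⟨a, hTH ha⟩) ^ 3 = 1 := Subtype.ext h1
    have : (⟨a, hTH ha⟩ : ↥H) ^ 3 = 1 := by
      apply e.injective
      rw [map_pow, h3', map_one]
    exact congrArg Subtype.val this
  refine ⟨e, hchar, hab, ?_⟩
  intro g d hd hd4 hgd
  -- `t = d⁴ ∈ T#`
  have ht3 : (d ^ 4) ^ 3 = 1 := by
    have h := pow4_S333 ((e ⟨d, hd⟩ : ↥M3) : S333)
    have h' : ((e ⟨d, hd⟩) ^ 4) ^ 3 = 1 := Subtype.ext h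
    have : ((⟨d, hd⟩ : ↥H) ^ 4) ^ 3 = 1 := by
      apply e.injective
      rw [map_pow, map_pow, h', map_one]
    exact congrArg Subtype.val this
  have htT : d ^ 4 ∈ T := key _ (pow_mem hd 4) ht3
  -- `t' = g t g⁻¹ ∈ T#`
  have hconj : g * d ^ 4 * g⁻¹ = (g * d * g⁻¹) ^ 4 := by
    rw [conj_pow]
  have ht'H : g * d ^ 4 * g⁻¹ ∈ H := by rw [hconj]; exact pow_mem hgd 4
  have ht'3 : (g * d ^ 4 * g⁻¹) ^ 3 = 1 := by
    rw [conj_pow, ht3]; simp
  have ht'T : g * d ^ 4 * g⁻¹ ∈ T := key _ ht'H ht'3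
  have ht'1 : g * d ^ 4 * g⁻¹ ≠ 1 := by
    intro h
    apply hd4
    have : d ^ 4 = g⁻¹ * 1 * g := by rw [← h]; group
    simpa using this
  have hCt' := hC _ ht'T ht'1
  -- `g T g⁻¹ ⊆ T`
  have hsub : ∀ s ∈ T, g * s * g⁻¹ ∈ T := by
    intro s hs
    have hcomm : g * s * g⁻¹ ∈ Subgroup.centralizer ({g * d ^ 4 * g⁻¹} : Set G) := by
      rw [Subgroup.mem_centralizer_iff]
      intro y hy
      rw [Set.mem_singleton_iff] at hy
      subst hy
      have h := hab s hs _ htT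
      calc g * d ^ 4 * g⁻¹ * (g * s * g⁻¹) = g * (d ^ 4 * s) * g⁻¹ := by group
        _ = g * (s * d ^ 4) * g⁻¹ := by rw [h]
        _ = g * s * g⁻¹ * (g * d ^ 4 * g⁻¹) := by group
    have hinH : g * s * g⁻¹ ∈ H := hCt' hcomm
    have h3 : (g * s * g⁻¹) ^ 3 = 1 := by
      rw [conj_pow, hT3 s hs]; simp
    exact key _ hinH h3
  -- hence `g ∈ N_G(T) = H`
  rw [← hN]
  have hmem : g ∈ Subgroup.normalizer (T : Set G) := by
    rw [Subgroup.mem_normalizer_iff_map_conj_eq]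
    apply Subgroup.eq_of_le_of_card_ge
    · rintro _ ⟨s, hs, rfl⟩
      exact hsub s hs
    · rw [Subgroup.card_map_of_injective (MulAut.conj g).injective]
  exact hmem

end

end Cfsg.Agent.Lib.H3.H108
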