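import Mathlib
import Cfsg.Agent.Lib.H7.T27Defs
import Cfsg.Agent.Lib.H3.H108Hyp
import Cfsg.Agent.Lib.L0.CharOps
import Cfsg.Agent.Lib.L0.CharInd
import Cfsg.Agent.Lib.L0.CharIndChar

/-!
# S3701 (helper7 blueprint), piece CHAR1: `Sfun a` is a character of `M3`

`S_a = indFun T_M λ_a` for the linear character `λ_a(s) = ζ^(a · lg3 s)` of the subgroup
`T_M = {s | s³ = 1}` of `M3`.
-/

set_option autoImplicit false

namespace Cfsg.Agent.Lib.H3.T27

open Cfsg Cfsg.Agent.Lib.H7.K4 Cfsg.Agent.Lib.H3.H108 Cfsg.Agent.Lib.H7.T27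
open scoped ComplexConjugate

/-! ## the cube root of unity -/

theorem zeta_pow_three : ζ ^ 3 = 1 := by
  unfold ζ
  rw [← Complex.exp_nat_mul]
  have : ((3 : ℕ) : ℂ) * (2 * Real.pi * Complex.I / 3) = 2 * Real.pi * Complex.I := by
    push_cast; ring
  rw [this, Complex.exp_two_pi_mul_I]

theorem zeta_ne_zero : ζ ≠ 0 := by
  intro h
  have := zeta_pow_three
  rw [h] at this
  norm_num at this

/-- `ζ` as a unit -/
noncomputable def ζu : ℂˣ := Units.mk0 ζ zeta_ne_zero

theorem ζu_val : (ζu : ℂ) = ζ := rfl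

theorem ζu_pow_three : ζu ^ 3 = 1 := by
  apply Units.ext
  rw [Units.val_pow_eq_pow_val, ζu_val, zeta_pow_three]; rfl

theorem ζu_pow_val_add (x y : ZMod 3) : ζu ^ (x + y).val = ζu ^ x.val * ζu ^ y.val := by
  rw [ZMod.val_add, ← pow_add]
  exact (pow_eq_pow_mod _ ζu_pow_three).symm

/-! ## facts on `S₃` -/

/-- the sign of `x : S₃` as `1` or `2 = -1` in `ZMod 3` -/
def sv (x : S3) : ZMod 3 := if x ^ 3 = 1 then 1 else 2

/-- the sign vector -/
def sv3 (x : S333) : V := (sv x.1, sv x.2.1, sv x.2.2)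

set_option maxRecDepth 100000 in
theorem lg_mul (a b : S3) (ha : a ^ 3 = 1) (hb : b ^ 3 = 1) : lg (a * b) = lg a + lg b := by
  revert a b; decide

set_option maxRecDepth 100000 in
theorem lg_conj (x a : S3) (ha : a ^ 3 = 1) : lg (x⁻¹ * a * x) = sv x * lg a := by
  revert x a; decide

theorem lg3_mul (s t : S333) (hs : s ^ 3 = 1) (ht : t ^ 3 = 1) : lg3 (s * t) = lg3 s + lg3 t := by
  have hs1 : s.1 ^ 3 = 1 := congrArg Prod.fst hs
  have hs2 : s.2.1 ^ 3 = 1 := congrArg (fun x => x.2.1) hs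
  have hs3 : s.2.2 ^ 3 = 1 := congrArg (fun x => x.2.2) hs
  have ht1 : t.1 ^ 3 = 1 := congrArg Prod.fst ht
  have ht2 : t.2.1 ^ 3 = 1 := congrArg (fun x => x.2.1) ht
  have ht3 : t.2.2 ^ 3 = 1 := congrArg (fun x => x.2.2) ht
  unfold lg3
  exact Prod.ext (lg_mul _ _ hs1 ht1) (Prod.ext (lg_mul _ _ hs2 ht2) (lg_mul _ _ hs3 ht3))

theorem lg3_conj (x s : S333) (hs : s ^ 3 = 1) : lg3 (x⁻¹ * s * x) = act (sv3 x) (lg3 s) := by
  have hs1 : s.1 ^ 3 = 1 := congrArg Prod.fst hs
  have hs2 : s.2.1 ^ 3 = 1 := congrArg (fun x => x.2.1) hs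
  have hs3 : s.2.2 ^ 3 = 1 := congrArg (fun x => x.2.2) hs
  unfold lg3 act sv3
  exact Prod.ext (lg_conj _ _ hs1) (Prod.ext (lg_conj _ _ hs2) (lg_conj _ _ hs3))

theorem lg3_one : lg3 1 = 0 := by decide

theorem dot_add (a t t' : V) : dot a (t + t') = dot a t + dot a t' := by
  unfold dot
  simp only [Prod.fst_add, Prod.snd_add]
  ring

theorem dot_act (κ a t : V) : dot a (act κ t) = dot (act κ a) t := by
  unfold dot act
  ring

/-! ## the subgroup `T_M` and its linear characters -/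

/-- the `T`-part of `M3` -/
def TM : Subgroup ↥M3 where
  carrier := {s | (s : S333) ^ 3 = 1}
  one_mem' := by simp
  mul_mem' := by
    intro s t hs ht
    simp only [Set.mem_ofPred_eq] at hs ht ⊢
    have hc : Commute (s : S333) (t : S333) := comm_S333 _ _ hs ht
    rw [Subgroup.coe_mul, hc.mul_pow, hs, ht, one_mul]
  inv_mem' := by
    intro s hs
    simp only [Set.mem_ofPred_eq] at hs ⊢
    rw [Subgroup.coe_inv, inv_pow, hs, inv_one]

theorem mem_TM (s : ↥M3) : s ∈ TM ↔ (s : S333) ^ 3 = 1 := Iff.rfl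

/-- the linear character `λ_a` of `T_M` -/
noncomputable def lam (a : V) : ↥TM →* ℂˣ where
  toFun s := ζu ^ (dot a (lg3 ((s : ↥M3) : S333))).val
  map_one' := by
    show ζu ^ (dot a (lg3 (1 : S333))).val = 1
    rw [lg3_one]
    simp [dot]
  map_mul' := by
    intro s t
    show ζu ^ (dot a (lg3 (((s : ↥M3) : S333) * ((t : ↥M3) : S333)))).val = _
    rw [lg3_mul _ _ s.2 t.2, dot_add, ζu_pow_val_add]

theorem lam_apply (a : V) (s : ↥TM) :
    ((lam a s : ℂˣ) : ℂ) = ζ ^ (dot a (lg3 ((s : ↥M3) : S333))).val := by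
  show ((ζu ^ (dot a (lg3 ((s : ↥M3) : S333))).val : ℂˣ) : ℂ) = _
  rw [Units.val_pow_eq_pow_val, ζu_val]

/-! ## evaluation of the induced character -/

instance : DecidablePred (· ∈ TM) := fun s => inferInstanceAs (Decidable ((s : S333) ^ 3 = 1))

set_option maxRecDepth 100000 in
theorem card_TM : Nat.card ↥TM = 27 := by
  rw [Nat.card_eq_fintype_card]
  decide

set_option maxRecDepth 100000 in
theorem card_fiber (κ : V) :
    (Finset.univ.filter (fun x : ↥M3 => sv3 (x : S333) = κ)).card = if κ ∈ Ksgn then 27 else 0 := by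
  revert κ; decide

theorem sum_sv3 (F : V → ℂ) : ∑ x : ↥M3, F (sv3 (x : S333)) = 27 * ∑ κ ∈ Ksgn, F κ := by
  classical
  rw [← Finset.sum_fiberwise (Finset.univ : Finset ↥M3) (fun x : ↥M3 => sv3 (x : S333))
    (fun x => F (sv3 (x : S333)))]
  have h1 : ∀ κ : V, ∑ x ∈ Finset.univ.filter (fun x : ↥M3 => sv3 (x : S333) = κ),
      F (sv3 (x : S333)) = if κ ∈ Ksgn then 27 * F κ else 0 := by
    intro κ
    have h2 : ∑ x ∈ Finset.univ.filter (fun x : ↥M3 => sv3 (x : S333) = κ), F (sv3 (x : S333))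
        = ∑ x ∈ Finset.univ.filter (fun x : ↥M3 => sv3 (x : S333) = κ), F κ := by
      refine Finset.sum_congr rfl fun x hx => ?_
      rw [(Finset.mem_filter.1 hx).2]
    rw [h2, Finset.sum_const, card_fiber]
    split_ifs
    · rw [nsmul_eq_mul]; norm_num
    · simp
  rw [Finset.sum_congr rfl (fun κ _ => h1 κ), Finset.sum_ite_mem, Finset.univ_inter,
    Finset.mul_sum]

theorem Sfun_eq (a : V) : Sfun a = indFun TM (fun s => ((lam a s : ℂˣ) : ℂ)) := by
  funext s
  rw [L0.indFun_apply]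
  by_cases hs : (s : S333) ^ 3 = 1
  · unfold Sfun
    rw [if_pos hs]
    have hx : ∀ x : ↥M3, extendByZero TM (fun s => ((lam a s : ℂˣ) : ℂ)) (x⁻¹ * s * x)
        = ζ ^ (dot (act (sv3 (x : S333)) a) (lg3 (s : S333))).val := by
      intro x
      have hcoe : ((x⁻¹ * s * x : ↥M3) : S333) = (x : S333)⁻¹ * (s : S333) * (x : S333) := rfl
      have hmem : x⁻¹ * s * x ∈ TM := by
        rw [mem_TM, hcoe]
        have : ((x : S333)⁻¹ * (s : S333) * (x : S333)) ^ 3
            = (x : S333)⁻¹ * (s : S333) ^ 3 * (x : S333) := by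
          have := conj_pow (a := (x : S333)⁻¹) (b := (s : S333)) (i := 3)
          simpa using this
        rw [this, hs]; simp
      rw [L0.extendByZero_apply_of_mem TM _ hmem, lam_apply]
      show ζ ^ (dot a (lg3 ((x⁻¹ * s * x : ↥M3) : S333))).val = _
      rw [hcoe, lg3_conj _ _ hs, dot_act]
    rw [Finset.sum_congr rfl (fun x _ => hx x),
      sum_sv3 (fun κ => ζ ^ (dot (act κ a) (lg3 (s : S333))).val), card_TM]
    push_cast
    field_simp
  · unfold Sfun
    rw [if_neg hs]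
    have hx : ∀ x : ↥M3, extendByZero TM (fun s => ((lam a s : ℂˣ) : ℂ)) (x⁻¹ * s * x) = 0 := by
      intro x
      apply L0.extendByZero_apply_not_mem
      intro hmem
      apply hs
      rw [mem_TM] at hmem
      have hcoe : ((x⁻¹ * s * x : ↥M3) : S333) = (x : S333)⁻¹ * (s : S333) * (x : S333) := rfl
      rw [hcoe] at hmem
      have h3 : ((x : S333)⁻¹ * (s : S333) * (x : S333)) ^ 3
          = (x : S333)⁻¹ * (s : S333) ^ 3 * (x : S333) := by
        have := conj_pow (a := (x : S333)⁻¹) (b := (s : S333)) (i := 3)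
        simpa using this
      rw [h3] at hmem
      have : (s : S333) ^ 3 = (x : S333) * ((x : S333)⁻¹ * (s : S333) ^ 3 * (x : S333)) * (x : S333)⁻¹ := by
        group
      rw [this, hmem]; simp
    rw [Finset.sum_congr rfl (fun x _ => hx x)]
    simp

/-- **CHAR1.** -/
theorem isCharacter_Sfun (a : V) : IsCharacter ↥M3 (Sfun a) := by
  rw [Sfun_eq]
  exact L0.isCharacter_indFun TM (L0.isCharacter_of_irr (L0.isIrrCharacter_of_hom (lam a)))

end Cfsg.Agent.Lib.H3.T27
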