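import Cfsg.Agent.Lib.H3.KZD2

/-!
# S4540 piece CY2 `coeff_dvd` (helper3), exact signature of `tools/blueprints/S4540_sigs.lean`.

Wrapper around `Cfsg.Agent.Lib.H3.KZ.two_pow_dvd_coeff` with `I :=` the image in `ℂ` of the
maximal ideal of the local subring `R`.
-/

set_option autoImplicit false

namespace Cfsg.Agent.Lib.H3.KY

open Polynomial

/-- The image in `ℂ` of the maximal ideal of a local subring of `ℂ`. -/
def cyI (R : Subring ℂ) [IsLocalRing R] : Set ℂ :=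
  {z | ∃ x : R, x ∈ IsLocalRing.maximalIdeal R ∧ (x : ℂ) = z}

theorem cyI_add (R : Subring ℂ) [IsLocalRing R] (a b : ℂ) (ha : a ∈ cyI R) (hb : b ∈ cyI R) :
    a + b ∈ cyI R := by
  obtain ⟨x, hx, rfl⟩ := ha
  obtain ⟨y, hy, rfl⟩ := hb
  exact ⟨x + y, Ideal.add_mem _ hx hy, by push_cast; rfl⟩

theorem cyI_mul (R : Subring ℂ) [IsLocalRing R] (a b : ℂ) (ha : a ∈ R) (hb : b ∈ cyI R) :
    a * b ∈ cyI R := by
  obtain ⟨y, hy, rfl⟩ := hb
  exact ⟨⟨a, ha⟩ * y, Ideal.mul_mem_left _ _ hy, by push_cast; rfl⟩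

theorem cyI_int (R : Subring ℂ) [IsLocalRing R] (h2 : (2 : R) ∈ IsLocalRing.maximalIdeal R)
    (k : ℤ) : ((k : ℂ) ∈ cyI R ↔ (2 : ℤ) ∣ k) := by
  constructor
  · rintro ⟨x, hx, hxk⟩
    have hxk' : x = (k : R) := by
      apply Subtype.ext
      rw [hxk]
      push_cast
      rfl
    rw [hxk'] at hx
    by_contra hodd
    rw [← even_iff_two_dvd, Int.not_even_iff_odd] at hodd
    obtain ⟨c, hc⟩ := hodd
    have h1 : (1 : R) ∈ IsLocalRing.maximalIdeal R := by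
      have : (1 : R) = (k : R) - 2 * (c : R) := by
        rw [hc]; push_cast; ring
      rw [this]
      exact Ideal.sub_mem _ hx (Ideal.mul_mem_right _ _ h2)
    exact (Ideal.ne_top_iff_one _).1 (IsLocalRing.maximalIdeal.isMaximal R).ne_top h1
  · rintro ⟨c, rfl⟩
    exact ⟨2 * (c : R), Ideal.mul_mem_right _ _ h2, by push_cast; rfl⟩

theorem cyI_unit (R : Subring ℂ) [IsLocalRing R] (z : ℂ) (hz : z ∈ R) (hzI : z ∉ cyI R) :
    z⁻¹ ∈ R := by
  have hx : (⟨z, hz⟩ : R) ∉ IsLocalRing.maximalIdeal R := fun h => hzI ⟨⟨z, hz⟩, h, rfl⟩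
  have hu : IsUnit (⟨z, hz⟩ : R) := IsLocalRing.notMem_maximalIdeal.1 hx
  obtain ⟨y, hy⟩ := isUnit_iff_exists_inv.1 hu
  have hy' : z * (y : ℂ) = 1 := by
    have := congrArg (fun t : R => (t : ℂ)) hy
    simpa using this
  have : z⁻¹ = (y : ℂ) := by
    have hz0 : z ≠ 0 := by
      rintro rfl
      simp at hy'
    field_simp
    exact hy'.symm
  rw [this]
  exact y.2

/-- (CY2) the coefficients of an element of `2^h R` in the basis `1, ζ, …, ζ^{n-1}` are divisible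
by `2^h`. -/
theorem coeff_dvd (R : Subring ℂ) [IsLocalRing R] (h2 : (2 : R) ∈ IsLocalRing.maximalIdeal R)
    (ζ : ℂ) (hζR : ζ ∈ R) (a : ℕ) (hζ : ζ ^ (2 ^ a) = -1) (β : ℕ → ℤ) (h : ℕ) (r : ℂ)
    (hr : r ∈ R) (hx : ∑ i ∈ Finset.range (2 ^ a), (β i : ℂ) * ζ ^ i = 2 ^ h * r) :
    ∀ i < 2 ^ a, (2 : ℤ) ^ h ∣ β i := by
  classical
  set P : Polynomial ℤ := ∑ i ∈ Finset.range (2 ^ a), C (β i) * X ^ i with hP
  have hcoeff : ∀ i, P.coeff i = if i < 2 ^ a then β i else 0 := by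
    intro i
    rw [hP, finsetSum_coeff]
    simp only [coeff_C_mul_X_pow]
    rw [Finset.sum_ite_eq]
    simp [Finset.mem_range]
  have hdeg : P.natDegree < 2 ^ a := by
    by_cases hP0 : P = 0
    · rw [hP0]; simp
    · rw [natDegree_lt_iff_degree_lt hP0, degree_lt_iff_coeff_zero]
      intro m hm
      rw [hcoeff m, if_neg (by omega)]
  have haeval : aeval ζ P = ∑ i ∈ Finset.range (2 ^ a), (β i : ℂ) * ζ ^ i := by
    rw [hP, map_sum]
    refine Finset.sum_congr rfl ?_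
    intro i _
    simp
  have := Cfsg.Agent.Lib.H3.KZ.two_pow_dvd_coeff R (cyI R) (cyI_add R) (cyI_mul R)
    (cyI_int R h2) (cyI_unit R) ζ hζR a hζ P hdeg 1 odd_one h r hr
    (by rw [haeval, hx]; simp)
  intro i hi
  have h3 := this i
  rwa [hcoeff i, if_pos hi] at h3

end Cfsg.Agent.Lib.H3.KY
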