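import Mathlib
import Cfsg.Agent.Lib.Lead.AschUDefs
import Cfsg.Agent.Lib.H15.UP2Base
import Cfsg.Agent.Lib.H20.AschP2B4B7

/-!
# Unitary phase 2, UP2-B7 (helper3): `SU_n(q)` is not contained in a tensor-wreath subgroup with two factors
of dimension `k ≥ 3`
-/

set_option autoImplicit false

namespace Cfsg.Agent.Lib.H3.UP2

open Cfsg Cfsg.Geo Cfsg.Agent.Lib.Lead.Asch Cfsg.Agent.Lib.H15.UP2 Cfsg.Agent.Lib.H15.SUGen
  Cfsg.Agent.Lib.H20.AschP2
open scoped MatrixGroups Matrix Kronecker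

variable {F : Type*} [Field F] [Fintype F] {n q : ℕ}

/-- A plane of the unitary space contains a non-zero isotropic vector. -/
theorem B7_exists_isotropic (hF : Fintype.card F = q ^ 2) (u₁ u₂ : Fin n → F) :
    ∃ α β : F, (α ≠ 0 ∨ β ≠ 0) ∧
      hermForm n F q (α • u₁ + β • u₂) (α • u₁ + β • u₂) = 0 := by
  by_cases hA : hermForm n F q u₁ u₁ = 0
  · refine ⟨1, 0, Or.inl one_ne_zero, ?_⟩
    rw [one_smul, zero_smul, add_zero]
    exact hA
  · set A := hermForm n F q u₁ u₁ with hAdef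
    set B := hermForm n F q u₁ u₂ with hBdef
    set C := hermForm n F q u₂ u₂ with hCdef
    have hAq : A ^ q = A := hf_conj hF u₁ u₁
    have hCq : C ^ q = C := hf_conj hF u₂ u₂
    have hBq : hermForm n F q u₂ u₁ = B ^ q := (hf_conj hF u₁ u₂).symm
    have hr : (B ^ q / A * (B / A) - C / A) ^ q = B ^ q / A * (B / A) - C / A := by
      rw [fr_sub hF, mul_pow, div_pow, div_pow, div_pow, fr_fr hF, hAq, hCq]
      ring
    obtain ⟨γ, hγ⟩ := exists_norm hF _ hr
    refine ⟨γ - B ^ q / A, 1, Or.inr one_ne_zero, ?_⟩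
    have hαq : (γ - B ^ q / A) ^ q = γ ^ q - B / A := by
      rw [fr_sub hF, div_pow, fr_fr hF, hAq]
    rw [one_smul]
    have e1 : hermForm n F q ((γ - B ^ q / A) • u₁ + u₂) ((γ - B ^ q / A) • u₁ + u₂) =
        (γ - B ^ q / A) * ((γ - B ^ q / A) ^ q * A) + (γ - B ^ q / A) * B +
          ((γ - B ^ q / A) ^ q * B ^ q + C) := by
      have h1 := hf_add_left (q := q) ((γ - B ^ q / A) • u₁) u₂ ((γ - B ^ q / A) • u₁ + u₂)
      have h2 := hf_add_right hF ((γ - B ^ q / A) • u₁) ((γ - B ^ q / A) • u₁) u₂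
      have h3 := hf_add_right hF u₂ ((γ - B ^ q / A) • u₁) u₂
      have h4 := hf_smul_left (q := q) (γ - B ^ q / A) u₁ ((γ - B ^ q / A) • u₁)
      have h5 := hf_smul_right (q := q) (γ - B ^ q / A) u₁ u₁
      have h6 := hf_smul_left (q := q) (γ - B ^ q / A) u₁ u₂
      have h7 := hf_smul_right (q := q) (γ - B ^ q / A) u₂ u₁
      unfold hf at h1 h2 h3 h4 h5 h6 h7
      rw [h1, h2, h3, h4, h5, h6, h7, hBq]
    rw [e1, hαq]
    field_simp
    field_simp at hγ
    linear_combination hγ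

section pure
variable {k : ℕ}

/-- the tensor of two vectors, as a function on `Fin 2 → Fin k` -/
def B7_T (x₀ x₁ : Fin k → F) : (Fin 2 → Fin k) → F := fun z => x₀ (z 0) * x₁ (z 1)

theorem B7_pure_T (x₀ x₁ : Fin k → F) : PureVec k 2 (B7_T x₀ x₁) := by
  refine ⟨![x₀, x₁], fun z => ?_⟩
  rw [Fin.prod_univ_two]
  rfl

theorem B7_pure_iff (w : (Fin 2 → Fin k) → F) (h : PureVec k 2 w) : ∃ y₀ y₁, w = B7_T y₀ y₁ := by
  obtain ⟨ws, hws⟩ := h
  refine ⟨ws 0, ws 1, ?_⟩
  funext z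
  rw [hws z, Fin.prod_univ_two]
  rfl

/-- the 2×2-minor identity -/
theorem B7_minor (x₀ x₁ v₀ v₁ y₀ y₁ : Fin k → F) (c : F) (hc : c ≠ 0)
    (h : B7_T x₀ x₁ + c • B7_T v₀ v₁ = B7_T y₀ y₁) :
    (∀ a a', x₀ a * v₀ a' = v₀ a * x₀ a') ∨ (∀ b b', x₁ b * v₁ b' = v₁ b * x₁ b') := by
  by_contra hcon
  rw [not_or, not_forall, not_forall] at hcon
  obtain ⟨⟨a, ha⟩, ⟨b, hb⟩⟩ := hcon
  rw [not_forall] at ha hb
  obtain ⟨a', ha⟩ := ha
  obtain ⟨b', hb⟩ := hb
  have hz : ∀ s t : Fin k, x₀ s * x₁ t + c * (v₀ s * v₁ t) = y₀ s * y₁ t := by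
    intro s t
    have := congrFun h ![s, t]
    simpa [B7_T] using this
  have e : c * (x₀ a * v₀ a' - v₀ a * x₀ a') * (x₁ b * v₁ b' - v₁ b * x₁ b') =
      (x₀ a * x₁ b + c * (v₀ a * v₁ b)) * (x₀ a' * x₁ b' + c * (v₀ a' * v₁ b')) -
      (x₀ a * x₁ b' + c * (v₀ a * v₁ b')) * (x₀ a' * x₁ b + c * (v₀ a' * v₁ b)) := by ring
  rw [hz a b, hz a' b', hz a b', hz a' b] at e
  have e0 : c * (x₀ a * v₀ a' - v₀ a * x₀ a') * (x₁ b * v₁ b' - v₁ b * x₁ b') = 0 := by
    rw [e]; ring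
  rcases mul_eq_zero.mp e0 with h1 | h1
  · rcases mul_eq_zero.mp h1 with h2 | h2
    · exact hc h2
    · exact ha (sub_eq_zero.mp h2)
  · exact hb (sub_eq_zero.mp h1)

theorem B7_T_add_left (x u y : Fin k → F) : B7_T (x + u) y = B7_T x y + B7_T u y := by
  funext z
  simp only [B7_T, Pi.add_apply]
  ring

theorem B7_T_add_right (x y u : Fin k → F) : B7_T x (y + u) = B7_T x y + B7_T x u := by
  funext z
  simp only [B7_T, Pi.add_apply]
  ring

theorem B7_T_smul_left (c : F) (x y : Fin k → F) : B7_T (c • x) y = c • B7_T x y := by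
  funext z
  simp only [B7_T, Pi.smul_apply, smul_eq_mul]
  ring

/-- "parallel" -/
def B7_Par (x v : Fin k → F) : Prop := ∀ a a', x a * v a' = v a * x a'

theorem B7_notPar_add {x u v : Fin k → F} (hx : B7_Par x v) (hu : ¬ B7_Par u v) :
    ¬ B7_Par (x + u) v := by
  intro h
  apply hu
  intro a a'
  have h1 := h a a'
  have h2 := hx a a'
  simp only [Pi.add_apply] at h1
  linear_combination h1 - h2

theorem B7_exists_notPar (hk : 2 ≤ k) {v : Fin k → F} (hv : v ≠ 0) : ∃ u : Fin k → F, ¬ B7_Par u v := by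
  classical
  obtain ⟨a, ha⟩ : ∃ a, v a ≠ 0 := by
    by_contra h
    apply hv
    funext a
    by_contra h'
    exact h ⟨a, h'⟩
  obtain ⟨a', ha'⟩ : ∃ a' : Fin k, a' ≠ a := by
    by_cases h0 : a = ⟨0, by omega⟩
    · exact ⟨⟨1, by omega⟩, by rw [h0]; simp [Fin.ext_iff]⟩
    · exact ⟨⟨0, by omega⟩, fun h => h0 h.symm⟩
  refine ⟨Pi.single a' 1, fun h => ?_⟩
  have := h a' a
  rw [Pi.single_eq_same, Pi.single_eq_of_ne (Ne.symm ha'), one_mul, mul_zero] at this
  exact ha this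

end pure

section coords
variable {k : ℕ}

/-- the coordinate isomorphism `w ↦ P (w ∘ e)` -/
noncomputable def B7_E (e : Fin n ≃ (Fin 2 → Fin k)) (P : GL (Fin n) F) :
    ((Fin 2 → Fin k) → F) →ₗ[F] (Fin n → F) :=
  (Matrix.toLin' (P : Matrix (Fin n) (Fin n) F)) ∘ₗ (LinearMap.funLeft F F e)

theorem B7_E_apply (e : Fin n ≃ (Fin 2 → Fin k)) (P : GL (Fin n) F) (w : (Fin 2 → Fin k) → F) :
    B7_E e P w = (P : Matrix (Fin n) (Fin n) F) *ᵥ (w ∘ e) := by
  unfold B7_E
  rw [LinearMap.comp_apply, Matrix.toLin'_apply]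
  rfl

/-- the coordinates of a vector -/
def B7_c (e : Fin n ≃ (Fin 2 → Fin k)) (P : GL (Fin n) F) (y : Fin n → F) : (Fin 2 → Fin k) → F :=
  (((P⁻¹ : GL (Fin n) F) : Matrix (Fin n) (Fin n) F) *ᵥ y) ∘ e.symm

theorem B7_c_E (e : Fin n ≃ (Fin 2 → Fin k)) (P : GL (Fin n) F) (w : (Fin 2 → Fin k) → F) :
    B7_c e P (B7_E e P w) = w := by
  unfold B7_c
  rw [B7_E_apply, Matrix.mulVec_mulVec, ← Units.val_mul, inv_mul_cancel, Units.val_one,
    Matrix.one_mulVec]
  funext z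
  simp

theorem B7_E_c (e : Fin n ≃ (Fin 2 → Fin k)) (P : GL (Fin n) F) (y : Fin n → F) :
    B7_E e P (B7_c e P y) = y := by
  rw [B7_E_apply]
  unfold B7_c
  have : ((((P⁻¹ : GL (Fin n) F) : Matrix (Fin n) (Fin n) F) *ᵥ y) ∘ e.symm) ∘ e =
      ((P⁻¹ : GL (Fin n) F) : Matrix (Fin n) (Fin n) F) *ᵥ y := by
    funext i
    simp
  rw [this, Matrix.mulVec_mulVec, ← Units.val_mul, mul_inv_cancel, Units.val_one, Matrix.one_mulVec]

/-- elements of the tensor-wreath subgroup act on coordinates through the standard group -/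
theorem B7_coords (e : Fin n ≃ (Fin 2 → Fin k)) (P : GL (Fin n) F) (g : GL (Fin n) F)
    (hg : g ∈ tensorWreathSubgroup k 2 e P) :
    ∃ g₀ ∈ tensorWreathStandard k 2 F, ∀ y : Fin n → F,
      B7_c e P ((g : Matrix (Fin n) (Fin n) F) *ᵥ y) =
        (g₀ : Matrix (Fin 2 → Fin k) (Fin 2 → Fin k) F) *ᵥ B7_c e P y := by
  obtain ⟨g₁, ⟨g₀, hg₀, rfl⟩, rfl⟩ := hg
  refine ⟨g₀, hg₀, fun y => ?_⟩
  unfold B7_c
  have h1 : ((MulAut.conj P).toMonoidHom ((glReindex e.symm).toMonoidHom g₀) : GL (Fin n) F) =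
      P * glReindex e.symm g₀ * P⁻¹ := rfl
  rw [h1, Matrix.mulVec_mulVec, ← Units.val_mul]
  have h2 : P⁻¹ * (P * glReindex e.symm g₀ * P⁻¹) = glReindex e.symm g₀ * P⁻¹ := by group
  rw [h2, Units.val_mul, ← Matrix.mulVec_mulVec]
  set u := ((P⁻¹ : GL (Fin n) F) : Matrix (Fin n) (Fin n) F) *ᵥ y with hu
  funext z
  simp only [Function.comp_apply, Matrix.mulVec, dotProduct]
  rw [← Equiv.sum_comp e]
  apply Finset.sum_congr rfl
  intro j _
  rw [Cfsg.Agent.Lib.H20.Asch.glReindex_apply_apply]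
  simp

end coords

/-- **UP2-B7**. -/
theorem not_su_le_tensorWreathSubgroup (hF : Fintype.card F = q ^ 2) (k : ℕ)
    (e : Fin n ≃ (Fin 2 → Fin k)) (P : GL (Fin n) F) (hk : 3 ≤ k) :
    ¬ GU n F q ⊓ specialLinear (Fin n) F ≤ tensorWreathSubgroup k 2 e P := by
  classical
  intro hle
  -- every element of the standard group maps pure vectors to pure vectors
  have hall : ∀ g ∈ tensorWreathStandard k 2 F, ∀ v : (Fin 2 → Fin k) → F, PureVec k 2 v →
      PureVec k 2 ((g : Matrix (Fin 2 → Fin k) (Fin 2 → Fin k) F) *ᵥ v) := by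
    intro g hg
    unfold tensorWreathStandard at hg
    induction hg using Subgroup.closure_induction with
    | mem g hg =>
      rcases hg with hg | hg
      · exact pureVec_of_isPureTensor g hg
      · exact pureVec_of_isFactorPermutation g hg
    | one => intro v hv; simpa using hv
    | mul a b _ _ iha ihb =>
      intro v hv
      rw [Units.val_mul, ← Matrix.mulVec_mulVec]
      exact iha _ (ihb v hv)
    | inv a _ iha =>
      intro v hv
      have hpow : ∀ m : ℕ, PureVec k 2 (((a ^ m : GL (Fin 2 → Fin k) F) :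
          Matrix (Fin 2 → Fin k) (Fin 2 → Fin k) F) *ᵥ v) := by
        intro m
        induction m with
        | zero => simpa using hv
        | succ m ih =>
          rw [pow_succ', Units.val_mul, ← Matrix.mulVec_mulVec]
          exact iha _ ih
      have hinv : a⁻¹ = a ^ (orderOf a - 1) := by
        have hpos : 0 < orderOf a := orderOf_pos a
        rw [eq_comm, ← mul_eq_one_iff_eq_inv', ← pow_succ', Nat.sub_add_cancel hpos,
          pow_orderOf_eq_one]
      rw [hinv]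
      exact hpow _
  -- a pure isotropic vector
  let a0 : Fin k := ⟨0, by omega⟩
  let a1 : Fin k := ⟨1, by omega⟩
  have ha01 : a0 ≠ a1 := by simp [a0, a1, Fin.ext_iff]
  obtain ⟨α, β, hαβ, hiso⟩ := B7_exists_isotropic hF
    (B7_E e P (B7_T (Pi.single a0 1) (Pi.single a0 1)))
    (B7_E e P (B7_T (Pi.single a1 1) (Pi.single a0 1)))
  obtain ⟨v₀, hv₀def⟩ : ∃ v₀ : Fin k → F, v₀ = α • Pi.single a0 1 + β • Pi.single a1 1 := ⟨_, rfl⟩
  obtain ⟨v₁, hv₁def⟩ : ∃ v₁ : Fin k → F, v₁ = Pi.single a0 1 := ⟨_, rfl⟩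
  obtain ⟨v, hvdef⟩ : ∃ v : Fin n → F, v = B7_E e P (B7_T v₀ v₁) := ⟨_, rfl⟩
  have hv_eq : v = α • B7_E e P (B7_T (Pi.single a0 1) (Pi.single a0 1)) +
      β • B7_E e P (B7_T (Pi.single a1 1) (Pi.single a0 1)) := by
    rw [hvdef, hv₀def, hv₁def, B7_T_add_left, B7_T_smul_left, B7_T_smul_left, map_add, map_smul,
      map_smul]
  have hviso : hermForm n F q v v = 0 := by rw [hv_eq]; exact hiso
  have hv₀a0 : v₀ a0 = α := by
    rw [hv₀def]
    simp [Pi.single_apply, ha01, ha01.symm]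
  have hv₀a1 : v₀ a1 = β := by
    rw [hv₀def]
    simp [Pi.single_apply, ha01, ha01.symm]
  have hv₀ : v₀ ≠ 0 := by
    intro h
    rcases hαβ with h1 | h1
    · apply h1; rw [← hv₀a0, h]; rfl
    · apply h1; rw [← hv₀a1, h]; rfl
  have hv₁ : v₁ ≠ 0 := by
    intro h
    have := congrFun h a0
    simp [hv₁def] at this
  have hvne : v ≠ 0 := by
    intro h
    have h1 : B7_c e P v = B7_T v₀ v₁ := by rw [hvdef]; exact B7_c_E e P _
    rw [h] at h1
    have h2 : B7_c e P (0 : Fin n → F) = 0 := by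
      unfold B7_c
      rw [Matrix.mulVec_zero]
      rfl
    rw [h2] at h1
    rcases hαβ with h3 | h3
    · apply h3
      have := congrFun h1 ![a0, a0]
      simp only [B7_T, Pi.zero_apply, Matrix.cons_val_zero, Matrix.cons_val_one] at this
      rw [hv₀a0, hv₁def, Pi.single_eq_same, mul_one] at this
      exact this.symm
    · apply h3
      have := congrFun h1 ![a1, a0]
      simp only [B7_T, Pi.zero_apply, Matrix.cons_val_zero, Matrix.cons_val_one] at this
      rw [hv₀a1, hv₁def, Pi.single_eq_same, mul_one] at this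
      exact this.symm
  obtain ⟨a, ha0, hatr⟩ := exists_tr0 hF
  have hτ : utv hF a v ∈ tensorWreathSubgroup k 2 e P := hle (utv_mem hF a v)
  obtain ⟨g₀, hg₀, hact⟩ := B7_coords e P _ hτ
  -- the functional `w ↦ f (E w) v`
  have hφadd : ∀ w w', hermForm n F q (B7_E e P (w + w')) v =
      hermForm n F q (B7_E e P w) v + hermForm n F q (B7_E e P w') v := by
    intro w w'
    rw [map_add]
    exact hf_add_left _ _ _
  have hφsmul : ∀ (c : F) w, hermForm n F q (B7_E e P (c • w)) v =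
      c * hermForm n F q (B7_E e P w) v := by
    intro c w
    rw [map_smul]
    exact hf_smul_left _ _ _
  have key : ∀ x₀ x₁ : Fin k → F, ¬ B7_Par x₀ v₀ → ¬ B7_Par x₁ v₁ →
      hermForm n F q (B7_E e P (B7_T x₀ x₁)) v = 0 := by
    intro x₀ x₁ h0 h1
    by_contra hne
    have hc : a * hermForm n F q (B7_E e P (B7_T x₀ x₁)) v ≠ 0 := mul_ne_zero ha0 hne
    have hpure := hall g₀ hg₀ (B7_T x₀ x₁) (B7_pure_T _ _)
    have h2 := hact (B7_E e P (B7_T x₀ x₁))
    rw [B7_c_E] at h2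
    rw [← h2, utv_mulVec hF hatr hviso] at hpure
    have h3 : B7_E e P (B7_T x₀ x₁) + (a * hermForm n F q (B7_E e P (B7_T x₀ x₁)) v) • v =
        B7_E e P (B7_T x₀ x₁ + (a * hermForm n F q (B7_E e P (B7_T x₀ x₁)) v) • B7_T v₀ v₁) := by
      rw [map_add, map_smul, ← hvdef]
    rw [h3, B7_c_E] at hpure
    obtain ⟨y₀, y₁, hy⟩ := B7_pure_iff _ hpure
    rcases B7_minor x₀ x₁ v₀ v₁ y₀ y₁ _ hc hy with h | h
    · exact h0 h
    · exact h1 h
  obtain ⟨u₀, hu₀⟩ := B7_exists_notPar (by omega : 2 ≤ k) hv₀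
  obtain ⟨u₁, hu₁⟩ := B7_exists_notPar (by omega : 2 ≤ k) hv₁
  have key1 : ∀ x₀ x₁ : Fin k → F, ¬ B7_Par x₁ v₁ →
      hermForm n F q (B7_E e P (B7_T x₀ x₁)) v = 0 := by
    intro x₀ x₁ h1
    by_cases h0 : B7_Par x₀ v₀
    · have e1 := key (x₀ + u₀) x₁ (B7_notPar_add h0 hu₀) h1
      have e2 := key u₀ x₁ hu₀ h1
      rw [B7_T_add_left, hφadd, e2, add_zero] at e1
      exact e1
    · exact key x₀ x₁ h0 h1
  have key2 : ∀ x₀ x₁ : Fin k → F, hermForm n F q (B7_E e P (B7_T x₀ x₁)) v = 0 := by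
    intro x₀ x₁
    by_cases h1 : B7_Par x₁ v₁
    · have e1 := key1 x₀ (x₁ + u₁) (B7_notPar_add h1 hu₁)
      have e2 := key1 x₀ u₁ hu₁
      rw [B7_T_add_right, hφadd, e2, add_zero] at e1
      exact e1
    · exact key1 x₀ x₁ h1
  -- so `f (·, v) = 0`
  let φ : ((Fin 2 → Fin k) → F) →ₗ[F] F :=
    { toFun := fun w => hermForm n F q (B7_E e P w) v
      map_add' := hφadd
      map_smul' := fun c w => by rw [hφsmul, RingHom.id_apply, smul_eq_mul] }
  have hφ0 : φ = 0 := by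
    apply LinearMap.pi_ext
    intro z c
    have hz : (Pi.single z c : (Fin 2 → Fin k) → F) =
        c • B7_T (Pi.single (z 0) 1) (Pi.single (z 1) 1) := by
      funext z'
      simp only [B7_T, Pi.smul_apply, smul_eq_mul, Pi.single_apply]
      by_cases hzz : z' = z
      · subst hzz; simp
      · rw [if_neg hzz]
        have : ¬ (z' 0 = z 0 ∧ z' 1 = z 1) := by
          rintro ⟨h0, h1⟩
          apply hzz
          funext i
          fin_cases i
          · exact h0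
          · exact h1
        rw [not_and_or] at this
        rcases this with h | h
        · rw [if_neg h]; ring
        · rw [if_neg h]; ring
    rw [hz, LinearMap.zero_apply]
    show hermForm n F q (B7_E e P _) v = 0
    rw [hφsmul, key2, mul_zero]
  obtain ⟨y, hy⟩ := herm_nondeg hF hvne
  apply hy
  have : φ (B7_c e P y) = 0 := by rw [hφ0]; rfl
  have h2 : φ (B7_c e P y) = hermForm n F q (B7_E e P (B7_c e P y)) v := rfl
  rw [h2, B7_E_c] at this
  exact this

end Cfsg.Agent.Lib.H3.UP2
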