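import Mathlib
import Cfsg.Agent.Lib.H3.SteinerData11
import Cfsg.Agent.Lib.H3.SteinerData12

set_option autoImplicit false
set_option maxRecDepth 100000

/-! # Uniqueness of the Steiner systems `S(4, 5, 11)` and `S(5, 6, 12)` -/

namespace Cfsg.Agent.Lib.H3.StS

open Cfsg

/-- the reference `S(4, 5, 11)` -/
def std11 : Set (Finset (Fin 11)) := blocksOf 11 St11.B0

/-- the reference `S(5, 6, 12)` -/
def std12 : Set (Finset (Fin 12)) := blocksOf 12 St12.B0

theorem std11_steiner : IsSteinerSystem 4 5 std11 := steinerOK_sound St11.ts_ok St11.B0_ok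

theorem std12_steiner : IsSteinerSystem 5 6 std12 := steinerOK_sound St12.ts_ok St12.B0_ok

theorem iso11 {α : Type*} [Fintype α] [DecidableEq α] (hα : Fintype.card α = 11)
    {B : Set (Finset α)} (hB : IsSteinerSystem 4 5 B) : SetSystemIso B std11 := by
  obtain ⟨B₁, i₁, hB₁, hfirst⟩ := exists_first (v := 11) (t := 4) ({0, 1, 2, 3, 4} : Finset (Fin 11))
    (by decide) hα (by norm_num) hB
  have hch₁ : ∀ m ∈ [31], ∃ b ∈ B₁, mask b = m := by
    intro m hm
    rw [List.mem_singleton] at hm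
    subst hm
    exact ⟨_, hfirst, by decide⟩
  obtain ⟨B₂, i₂, hB₂, hch₂⟩ := normalize_step (v := 11) (t := 4) (by norm_num) hB₁ [31] hch₁
    ({0, 1, 2, 5} : Finset (Fin 11)) (by decide) 31 (by decide +kernel) 6 (by decide +kernel)
    (by decide +kernel)
  have e₂ : mask (insert (6 : Fin 11) ({0, 1, 2, 5} : Finset (Fin 11))) = 103 := by decide +kernel
  rw [e₂] at hch₂
  obtain ⟨B₃, i₃, hB₃, hch₃⟩ := normalize_step (v := 11) (t := 4) (by norm_num) hB₂ [103, 31] hch₂
    ({0, 1, 2, 7} : Finset (Fin 11)) (by decide) 127 (by decide +kernel) 8 (by decide +kernel)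
    (by decide +kernel)
  have e₃ : mask (insert (8 : Fin 11) ({0, 1, 2, 7} : Finset (Fin 11))) = 391 := by decide +kernel
  rw [e₃] at hch₃
  exact iso_trans i₁ (iso_trans i₂ (iso_trans i₃
    (iso_of_good (by norm_num) St11.B0 St11.ts St11.chI St11.ts_ok St11.B0_ok St11.good hB₃ hch₃)))

theorem iso12 {α : Type*} [Fintype α] [DecidableEq α] (hα : Fintype.card α = 12)
    {B : Set (Finset α)} (hB : IsSteinerSystem 5 6 B) : SetSystemIso B std12 := by
  obtain ⟨B₁, i₁, hB₁, hfirst⟩ := exists_first (v := 12) (t := 5)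
    ({0, 1, 2, 3, 4, 5} : Finset (Fin 12)) (by decide) hα (by norm_num) hB
  have hch₁ : ∀ m ∈ [63], ∃ b ∈ B₁, mask b = m := by
    intro m hm
    rw [List.mem_singleton] at hm
    subst hm
    exact ⟨_, hfirst, by decide⟩
  obtain ⟨B₂, i₂, hB₂, hch₂⟩ := normalize_step (v := 12) (t := 5) (by norm_num) hB₁ [63] hch₁
    ({0, 1, 2, 3, 6} : Finset (Fin 12)) (by decide) 63 (by decide +kernel) 7 (by decide +kernel)
    (by decide +kernel)
  have e₂ : mask (insert (7 : Fin 12) ({0, 1, 2, 3, 6} : Finset (Fin 12))) = 207 := by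
    decide +kernel
  rw [e₂] at hch₂
  obtain ⟨B₃, i₃, hB₃, hch₃⟩ := normalize_step (v := 12) (t := 5) (by norm_num) hB₂ [207, 63] hch₂
    ({0, 1, 2, 3, 8} : Finset (Fin 12)) (by decide) 255 (by decide +kernel) 9 (by decide +kernel)
    (by decide +kernel)
  have e₃ : mask (insert (9 : Fin 12) ({0, 1, 2, 3, 8} : Finset (Fin 12))) = 783 := by
    decide +kernel
  rw [e₃] at hch₃
  exact iso_trans i₁ (iso_trans i₂ (iso_trans i₃
    (iso_of_good (by norm_num) St12.B0 St12.ts St12.chI St12.ts_ok St12.B0_ok St12.good hB₃ hch₃)))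

end Cfsg.Agent.Lib.H3.StS
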