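import Mathlib

set_option autoImplicit false

/-!
# A simplicity criterion via elements of prime order `p` with `p ∥ |G|`
-/

namespace Cfsg.Agent.Lib.H3.SimpleP

open Subgroup
open scoped Pointwise

variable {G : Type*} [Group G]

/-- the fixed subgroup of an automorphism -/
def fixSub {N : Type*} [Group N] (φ : MulAut N) : Subgroup N where
  carrier := {n | φ n = n}
  mul_mem' := by
    intro a b ha hb
    simp only [Set.mem_setOf_eq] at *
    rw [map_mul, ha, hb]
  one_mem' := by simp
  inv_mem' := by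
    intro a ha
    simp only [Set.mem_setOf_eq] at *
    rw [map_inv, ha]

theorem mem_fixSub {N : Type*} [Group N] (φ : MulAut N) (n : N) : n ∈ fixSub φ ↔ φ n = n := Iff.rfl

/-- a fixed Sylow subgroup -/
theorem exists_fixed_sylow {N : Type*} [Group N] [Finite N] (p r : ℕ) [Fact p.Prime] [Fact r.Prime]
    (hpN : ¬ p ∣ Nat.card N) (φ : MulAut N) (hφ : φ ^ p = 1) :
    ∃ R : Sylow r N, φ • R = R := by
  classical
  haveI : Fintype (Sylow r N) := Fintype.ofFinite _
  let f : Function.End (Sylow r N) := fun R => φ • R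
  have hfk : ∀ k : ℕ, ∀ R, (f ^ k) R = φ ^ k • R := by
    intro k
    induction k with
    | zero => intro R; rw [pow_zero, pow_zero, one_smul]; rfl
    | succ k ih =>
      intro R
      rw [pow_succ', pow_succ', mul_smul, ← ih R]
      rfl
  have hf : f ^ p ^ 1 = 1 := by
    funext R
    rw [pow_one, hfk, hφ, one_smul]; rfl
  have h1 := Equiv.Perm.card_fixedPoints_modEq (p := p) (n := 1) hf
  have h2 : ¬ p ∣ Fintype.card (Sylow r N) := by
    intro h
    obtain ⟨R0⟩ : Nonempty (Sylow r N) := inferInstance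
    have h3 : Nat.card (Sylow r N) ∣ Nat.card N :=
      (Sylow.card_dvd_index R0).trans (Subgroup.index_dvd_card _)
    rw [Nat.card_eq_fintype_card] at h3
    exact hpN (h.trans h3)
  have h3 : Fintype.card (Function.fixedPoints f) ≠ 0 := by
    intro h0
    rw [h0] at h1
    exact h2 ((Nat.modEq_zero_iff_dvd).mp h1)
  obtain ⟨⟨R, hR⟩⟩ := Fintype.card_pos_iff.mp (Nat.pos_of_ne_zero h3)
  exact ⟨R, hR⟩

theorem le_fixSub_of_fixed {N : Type*} [Group N] [Finite N] (p r : ℕ) [Fact p.Prime]
    [Fact r.Prime] (hrp : r ≠ p) (φ : MulAut N) (hφ : φ ^ p = 1) (R : Sylow r N)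
    (hR : φ • R = R)
    (hr : ∀ a j : ℕ, r ^ a ∣ Nat.card N → j < a → ¬ p ∣ r ^ (a - j) - 1) :
    (R : Subgroup N) ≤ fixSub φ := by
  classical
  have hmem : ∀ n ∈ (R : Subgroup N), φ n ∈ (R : Subgroup N) := by
    intro n hn
    have h1 : φ • n ∈ φ • (R : Subgroup N) := Subgroup.smul_mem_pointwise_smul n φ _ hn
    have h2 : ((φ • R : Sylow r N) : Subgroup N) = φ • (R : Subgroup N) := rfl
    rw [← h2, hR] at h1
    exact h1
  haveI : Fintype (R : Subgroup N) := Fintype.ofFinite _
  let g : Function.End (R : Subgroup N) := fun n => ⟨φ n, hmem n n.2⟩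
  have hgk : ∀ k : ℕ, ∀ n : (R : Subgroup N), (((g ^ k) n : (R : Subgroup N)) : N) = (φ ^ k) (n : N) := by
    intro k
    induction k with
    | zero => intro n; rw [pow_zero, pow_zero]; rfl
    | succ k ih =>
      intro n
      rw [pow_succ', pow_succ']
      show φ ((g ^ k) n : N) = _
      rw [ih n]; rfl
  have hg : g ^ p ^ 1 = 1 := by
    funext n
    apply Subtype.ext
    rw [pow_one, hgk, hφ]; rfl
  have h1 := Equiv.Perm.card_fixedPoints_modEq (p := p) (n := 1) hg
  -- the fixed points are the subgroup `(fixSub φ).subgroupOf R`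
  have e : Function.fixedPoints g ≃ ((fixSub φ).subgroupOf (R : Subgroup N)) :=
    { toFun := fun n => ⟨n.1, by
        rw [Subgroup.mem_subgroupOf, mem_fixSub]
        have := n.2
        exact congrArg Subtype.val this⟩
      invFun := fun n => ⟨n.1, by
        have := n.2
        rw [Subgroup.mem_subgroupOf, mem_fixSub] at this
        exact Subtype.ext this⟩
      left_inv := fun n => rfl
      right_inv := fun n => rfl }
  obtain ⟨a, ha⟩ := (R.isPGroup').exists_card_eq
  obtain ⟨j, hj⟩ := ((R.isPGroup').to_subgroup ((fixSub φ).subgroupOf (R : Subgroup N))).exists_card_eq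
  have hr1 : 1 < r := (Fact.out : r.Prime).one_lt
  have hja : j ≤ a := by
    have h2 : Nat.card ((fixSub φ).subgroupOf (R : Subgroup N)) ∣ Nat.card (R : Subgroup N) :=
      Subgroup.card_subgroup_dvd_card _
    rw [ha, hj] at h2
    exact (Nat.pow_dvd_pow_iff_le_right hr1).mp h2
  rw [Fintype.card_congr e, ← Nat.card_eq_fintype_card, ← Nat.card_eq_fintype_card, ha, hj] at h1
  have hja' : j = a := by
    by_contra hne
    have hlt : j < a := lt_of_le_of_ne hja hne
    have hdvd : r ^ a ∣ Nat.card N := by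
      rw [← ha]; exact Subgroup.card_subgroup_dvd_card _
    apply hr a j hdvd hlt
    have h3 : p ∣ r ^ a - r ^ j := (Nat.modEq_iff_dvd' (Nat.pow_le_pow_right hr1.le hja)).mp h1.symm
    have h4 : r ^ a - r ^ j = r ^ j * (r ^ (a - j) - 1) := by
      rw [Nat.mul_sub, mul_one, ← pow_add, Nat.add_sub_cancel' hja]
    rw [h4] at h3
    have hcop : Nat.Coprime p (r ^ j) :=
      Nat.Coprime.pow_right _ ((Nat.coprime_primes Fact.out Fact.out).mpr (Ne.symm hrp))
    exact hcop.dvd_of_dvd_mul_left h3
  have htop : (fixSub φ).subgroupOf (R : Subgroup N) = ⊤ := by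
    apply Subgroup.eq_top_of_card_eq
    rw [hj, ha, hja']
  exact Subgroup.subgroupOf_eq_top.mp htop

theorem conj_fix_of_pow_eq_one [Finite G] (p : ℕ) [Fact p.Prime] (N : Subgroup G) [N.Normal]
    (hpN : ¬ p ∣ Nat.card N)
    (hr : ∀ r : ℕ, r.Prime → r ≠ p → ∀ a j : ℕ, r ^ a ∣ Nat.card N → j < a →
      ¬ p ∣ r ^ (a - j) - 1)
    (x : G) (hx : x ^ p = 1) : ∀ n ∈ N, x * n * x⁻¹ = n := by
  classical
  set φ : MulAut N := MulAut.conjNormal x with hφdef
  have hφ : φ ^ p = 1 := by rw [hφdef, ← map_pow, hx, map_one]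
  have hN0 : Nat.card N ≠ 0 := Nat.card_pos.ne'
  have hF0 : Nat.card (fixSub φ) ≠ 0 := Nat.card_pos.ne'
  have hdvd : Nat.card N ∣ Nat.card (fixSub φ) := by
    rw [← Nat.factorization_le_iff_dvd hN0 hF0]
    intro r
    by_cases hrp : r.Prime
    · haveI : Fact r.Prime := ⟨hrp⟩
      by_cases hrp' : r = p
      · subst hrp'
        rw [Nat.factorization_eq_zero_of_not_dvd hpN]; exact Nat.zero_le _
      · obtain ⟨R, hR⟩ := exists_fixed_sylow p r hpN φ hφ
        have hle := le_fixSub_of_fixed p r hrp' φ hφ R hR (hr r hrp hrp')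
        have h1 : Nat.card (R : Subgroup N) ∣ Nat.card (fixSub φ) := Subgroup.card_dvd_of_le hle
        rw [Sylow.card_eq_multiplicity] at h1
        exact (hrp.pow_dvd_iff_le_factorization hF0).mp h1
    · rw [Nat.factorization_eq_zero_of_not_prime _ hrp]; exact Nat.zero_le _
  have htop : fixSub φ = ⊤ := by
    apply Subgroup.eq_top_of_card_eq
    exact Nat.dvd_antisymm (Subgroup.card_subgroup_dvd_card _) hdvd
  intro n hn
  have h1 : (⟨n, hn⟩ : N) ∈ fixSub φ := by rw [htop]; exact Subgroup.mem_top _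
  rw [mem_fixSub] at h1
  have h2 := congrArg Subtype.val h1
  rw [hφdef, MulAut.conjNormal_apply] at h2
  exact h2

/-- **Simplicity criterion.** -/
theorem isSimpleGroup_of_prime_generated [Finite G] (p : ℕ) [Fact p.Prime]
    (hp : p ∣ Nat.card G) (hp2 : ¬ p ^ 2 ∣ Nat.card G)
    (hgen : Subgroup.closure {x : G | x ^ p = 1} = ⊤)
    (hZ : Subgroup.center G = ⊥)
    (hr : ∀ r : ℕ, r.Prime → r ≠ p → ∀ a j : ℕ, r ^ a ∣ Nat.card G → j < a →
      ¬ p ∣ r ^ (a - j) - 1) :
    IsSimpleGroup G := by
  classical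
  have hpp : p.Prime := Fact.out
  have hG0 : Nat.card G ≠ 0 := Nat.card_pos.ne'
  haveI : Nontrivial G := by
    rw [← Finite.one_lt_card_iff_nontrivial]
    exact lt_of_lt_of_le hpp.one_lt (Nat.le_of_dvd Nat.card_pos hp)
  refine ⟨fun N hN => ?_⟩
  haveI := hN
  by_cases hpN : p ∣ Nat.card N
  · right
    -- `N` contains a Sylow `p`-subgroup, hence all elements with `x ^ p = 1`
    have hfac : (Nat.card G).factorization p = 1 := by
      have h1 : 1 ≤ (Nat.card G).factorization p :=
        (hpp.pow_dvd_iff_le_factorization hG0).mp (by simpa using hp)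
      have h2 : ¬ 2 ≤ (Nat.card G).factorization p := fun h =>
        hp2 ((hpp.pow_dvd_iff_le_factorization hG0).mpr h)
      omega
    obtain ⟨y, hy⟩ := exists_prime_orderOf_dvd_card' (G := N) p hpN
    have hcard : Nat.card (Subgroup.zpowers (y : G)) = p ^ (Nat.card G).factorization p := by
      rw [hfac, pow_one, Nat.card_zpowers, Subgroup.orderOf_coe, hy]
    let Q : Sylow p G := Sylow.ofCard (Subgroup.zpowers (y : G)) hcard
    have hQN : (Q : Subgroup G) ≤ N := by
      show Subgroup.zpowers (y : G) ≤ N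
      rw [Subgroup.zpowers_le]; exact y.2
    rw [eq_top_iff, ← hgen, Subgroup.closure_le]
    intro x hx
    have hx' : x ^ p = 1 := hx
    -- `zpowers x` is a `p`-group, contained in a conjugate of `Q`
    have hpg : IsPGroup p (Subgroup.zpowers x) := by
      apply IsPGroup.of_card (n := if x = 1 then 0 else 1)
      rw [Nat.card_zpowers]
      by_cases hx1 : x = 1
      · simp [hx1]
      · simp only [hx1, if_false, pow_one]
        exact orderOf_eq_prime hx' hx1
    obtain ⟨Q', hQ'⟩ := hpg.exists_le_sylow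
    obtain ⟨g, hg⟩ := MulAction.exists_smul_eq G Q Q'
    have hxQ' : x ∈ (Q' : Subgroup G) := hQ' (Subgroup.mem_zpowers x)
    have h5 : ((g • Q : Sylow p G) : Subgroup G) = MulAut.conj g • (Q : Subgroup G) := rfl
    rw [← hg, h5] at hxQ'
    -- conjugate of `Q ≤ N` is in `N`
    have : (MulAut.conj g • (Q : Subgroup G)) ≤ N := by
      intro z hz
      rw [Subgroup.mem_pointwise_smul_iff_inv_smul_mem] at hz
      have h3 := hQN hz
      have h4 := hN.conj_mem _ h3 g
      simpa [MulAut.smul_def, mul_assoc] using h4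
    exact this hxQ'
  · left
    -- every `x` with `x ^ p = 1` centralizes `N`, so `N ≤ Z(G) = ⊥`
    have hr' : ∀ r : ℕ, r.Prime → r ≠ p → ∀ a j : ℕ, r ^ a ∣ Nat.card N → j < a →
        ¬ p ∣ r ^ (a - j) - 1 := fun r h1 h2 a j h3 h4 =>
      hr r h1 h2 a j (h3.trans (Subgroup.card_subgroup_dvd_card N)) h4
    have hcent : ∀ n ∈ N, n ∈ Subgroup.center G := by
      intro n hn
      have hle : Subgroup.closure {x : G | x ^ p = 1} ≤ Subgroup.centralizer {n} := by
        rw [Subgroup.closure_le]
        intro x hx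
        have h1 := conj_fix_of_pow_eq_one p N hpN hr' x hx n hn
        rw [SetLike.mem_coe, Subgroup.mem_centralizer_iff]
        intro m hm
        rw [Set.mem_singleton_iff] at hm
        subst hm
        have : x * m * x⁻¹ * x = m * x := by rw [h1]
        simpa using this.symm
      rw [hgen] at hle
      rw [Subgroup.mem_center_iff]
      intro g
      have h2 : g ∈ Subgroup.centralizer {n} := hle (Subgroup.mem_top g)
      rw [Subgroup.mem_centralizer_iff] at h2
      exact (h2 n rfl).symm
    rw [eq_bot_iff]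
    intro n hn
    have := hcent n hn
    rw [hZ] at this
    exact this

theorem center_quotient_eq_bot [Finite G] (p : ℕ) [Fact p.Prime]
    (hgen : Subgroup.closure {x : G | x ^ p = 1} = ⊤)
    (hpZ : ¬ p ∣ Nat.card (Subgroup.center G)) :
    Subgroup.center (G ⧸ Subgroup.center G) = ⊥ := by
  classical
  rw [eq_bot_iff]
  intro q hq
  induction q using QuotientGroup.induction_on with
  | H x =>
  rw [Subgroup.mem_bot, QuotientGroup.eq_one_iff]
  rw [Subgroup.mem_center_iff] at hq
  -- `x` commutes with every generator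
  have hle : Subgroup.closure {y : G | y ^ p = 1} ≤ Subgroup.centralizer {x} := by
    rw [Subgroup.closure_le]
    intro y hy
    have hy' : y ^ p = 1 := hy
    have h1 := hq (QuotientGroup.mk y)
    rw [← QuotientGroup.mk_mul, ← QuotientGroup.mk_mul, QuotientGroup.eq] at h1
    -- c = (y x)⁻¹ (x y) central
    set c := (y * x)⁻¹ * (x * y) with hc
    have hcy : x * y = y * x * c := by rw [hc]; group
    have hcomm : ∀ g : G, g * c = c * g := fun g => (Subgroup.mem_center_iff.mp h1 g)
    -- (x y x⁻¹)^p = 1 and x y x⁻¹ = y * (x c x⁻¹) = y * c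
    have h2 : x * y * x⁻¹ = y * c := by
      rw [hcy, mul_assoc, mul_assoc, ← hcomm x⁻¹, ← mul_assoc x, mul_inv_cancel, one_mul]
    have h3 : (y * c) ^ p = 1 := by
      rw [← h2, conj_pow, hy', mul_one, mul_inv_cancel]
    have h4 : c ^ p = 1 := by
      have : (y * c) ^ p = y ^ p * c ^ p := (Commute.mul_pow (hcomm y) p)
      rw [this, hy', one_mul] at h3
      exact h3
    have h5 : c = 1 := by
      have ho : orderOf c ∣ p := orderOf_dvd_of_pow_eq_one h4
      have ho2 : orderOf (⟨c, h1⟩ : Subgroup.center G) ∣ Nat.card (Subgroup.center G) :=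
        orderOf_dvd_natCard _
      have ho3 : orderOf (⟨c, h1⟩ : Subgroup.center G) = orderOf c := by
        rw [← Subgroup.orderOf_coe]
      rw [ho3] at ho2
      rcases (Nat.dvd_prime Fact.out).mp ho with h | h
      · exact orderOf_eq_one_iff.mp h
      · exact absurd (h ▸ ho2) hpZ
    rw [SetLike.mem_coe, Subgroup.mem_centralizer_iff]
    intro m hm
    rw [Set.mem_singleton_iff] at hm
    subst hm
    rw [hcy, h5, mul_one]
  rw [hgen] at hle
  rw [Subgroup.mem_center_iff]
  intro g
  have h2 : g ∈ Subgroup.centralizer {x} := hle (Subgroup.mem_top g)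
  rw [Subgroup.mem_centralizer_iff] at h2
  exact (h2 x rfl).symm

theorem closure_quotient_eq_top (N : Subgroup G) [N.Normal] (p : ℕ)
    (hgen : Subgroup.closure {x : G | x ^ p = 1} = ⊤) :
    Subgroup.closure {x : G ⧸ N | x ^ p = 1} = ⊤ := by
  rw [eq_top_iff]
  intro q _
  induction q using QuotientGroup.induction_on with
  | H x =>
  have hx : x ∈ Subgroup.closure {x : G | x ^ p = 1} := by rw [hgen]; exact Subgroup.mem_top x
  induction hx using Subgroup.closure_induction with
  | mem y hy =>
    apply Subgroup.subset_closure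
    show (QuotientGroup.mk y : G ⧸ N) ^ p = 1
    rw [← QuotientGroup.mk_pow, (hy : y ^ p = 1)]; rfl
  | one => exact Subgroup.one_mem _
  | mul y z _ _ ihy ihz =>
    rw [QuotientGroup.mk_mul]
    exact Subgroup.mul_mem _ (ihy (Subgroup.mem_top _)) (ihz (Subgroup.mem_top _))
  | inv y _ ih => rw [QuotientGroup.mk_inv]; exact Subgroup.inv_mem _ (ih (Subgroup.mem_top _))

end Cfsg.Agent.Lib.H3.SimpleP
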