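import Mathlib
import Cfsg.Prelude.Def_Sporadic_a

set_option autoImplicit false

/-!
# Bitmask encoding of subsets of `Fin v` and a verified exhaustive search for Steiner systems
`S(t, t+1, v)`, part 1: masks
-/

namespace Cfsg.Agent.Lib.H3.StS

open Cfsg

variable {v : ℕ}

/-- bitmask of a finset of `Fin v` -/
def mask (s : Finset (Fin v)) : ℕ := Nat.ofBits fun i => decide (i ∈ s)

theorem testBit_mask (s : Finset (Fin v)) (i : ℕ) :
    (mask s).testBit i = if h : i < v then decide ((⟨i, h⟩ : Fin v) ∈ s) else false :=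
  Nat.testBit_ofBits _

theorem testBit_mask_fin (s : Finset (Fin v)) (i : Fin v) :
    (mask s).testBit i = decide (i ∈ s) := by
  rw [testBit_mask, dif_pos i.2]

theorem testBit_mask_true (s : Finset (Fin v)) (i : ℕ) :
    (mask s).testBit i = true ↔ ∃ h : i < v, (⟨i, h⟩ : Fin v) ∈ s := by
  rw [testBit_mask]
  constructor
  · intro h
    by_cases hi : i < v
    · rw [dif_pos hi] at h
      exact ⟨hi, of_decide_eq_true h⟩
    · rw [dif_neg hi] at h
      exact absurd h (by decide)
  · rintro ⟨hi, h⟩
    rw [dif_pos hi]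
    exact decide_eq_true h

theorem mask_lt (s : Finset (Fin v)) : mask s < 2 ^ v := Nat.ofBits_lt_two_pow _

theorem mask_injective : Function.Injective (mask : Finset (Fin v) → ℕ) := by
  intro s b h
  ext i
  have h1 := congrArg (fun m => m.testBit i) h
  simp only [testBit_mask_fin] at h1
  constructor
  · intro hi
    have : decide (i ∈ s) = true := decide_eq_true hi
    rw [h1] at this
    exact of_decide_eq_true this
  · intro hi
    have : decide (i ∈ b) = true := decide_eq_true hi
    rw [← h1] at this
    exact of_decide_eq_true this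

/-- equality of masks through bits -/
theorem eq_mask_of_testBit (m : ℕ) (s : Finset (Fin v))
    (h : ∀ i, m.testBit i = true ↔ ∃ h : i < v, (⟨i, h⟩ : Fin v) ∈ s) : m = mask s := by
  apply Nat.eq_of_testBit_eq
  intro i
  have h1 := h i
  have h2 := testBit_mask_true s i
  cases hm : m.testBit i <;> cases hs : (mask s).testBit i
  · rfl
  · rw [hs] at h2; rw [hm] at h1
    exact absurd (h1.mpr (h2.mp rfl)) (by decide)
  · rw [hs] at h2; rw [hm] at h1
    exact absurd (h2.mpr (h1.mp rfl)) (by decide)
  · rfl

theorem mask_and (s b : Finset (Fin v)) : mask s &&& mask b = mask (s ∩ b) := by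
  apply eq_mask_of_testBit
  intro i
  rw [Nat.testBit_and, Bool.and_eq_true, testBit_mask_true, testBit_mask_true]
  constructor
  · rintro ⟨⟨h, h1⟩, ⟨_, h2⟩⟩
    exact ⟨h, Finset.mem_inter.mpr ⟨h1, h2⟩⟩
  · rintro ⟨h, h1⟩
    rw [Finset.mem_inter] at h1
    exact ⟨⟨h, h1.1⟩, ⟨h, h1.2⟩⟩

theorem mask_or (s b : Finset (Fin v)) : mask s ||| mask b = mask (s ∪ b) := by
  apply eq_mask_of_testBit
  intro i
  rw [Nat.testBit_or, Bool.or_eq_true, testBit_mask_true, testBit_mask_true]
  constructor
  · rintro (⟨h, h1⟩ | ⟨h, h1⟩)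
    · exact ⟨h, Finset.mem_union_left _ h1⟩
    · exact ⟨h, Finset.mem_union_right _ h1⟩
  · rintro ⟨h, h1⟩
    rcases Finset.mem_union.mp h1 with h2 | h2
    · exact Or.inl ⟨h, h2⟩
    · exact Or.inr ⟨h, h2⟩

theorem mask_sdiff (s b : Finset (Fin v)) : mask s ^^^ (mask s &&& mask b) = mask (s \ b) := by
  apply eq_mask_of_testBit
  intro i
  rw [Nat.testBit_xor, Nat.testBit_and]
  constructor
  · intro h
    have hs : (mask s).testBit i = true := by
      cases h1 : (mask s).testBit i
      · rw [h1] at h; simp at h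
      · rfl
    have hb : (mask b).testBit i = false := by
      cases h1 : (mask b).testBit i
      · rfl
      · rw [hs, h1] at h; simp at h
    obtain ⟨hi, h1⟩ := (testBit_mask_true s i).mp hs
    refine ⟨hi, Finset.mem_sdiff.mpr ⟨h1, ?_⟩⟩
    intro h2
    have := (testBit_mask_true b i).mpr ⟨hi, h2⟩
    rw [hb] at this
    exact absurd this (by decide)
  · rintro ⟨hi, h1⟩
    rw [Finset.mem_sdiff] at h1
    have hs : (mask s).testBit i = true := (testBit_mask_true s i).mpr ⟨hi, h1.1⟩
    have hb : (mask b).testBit i = false := by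
      cases h2 : (mask b).testBit i
      · rfl
      · obtain ⟨_, h3⟩ := (testBit_mask_true b i).mp h2
        exact absurd h3 h1.2
    rw [hs, hb]
    rfl

theorem mask_eq_zero (s : Finset (Fin v)) : mask s = 0 ↔ s = ∅ := by
  constructor
  · intro h
    ext i
    simp only [Finset.notMem_empty, iff_false]
    intro hi
    have := (testBit_mask_true s i).mpr ⟨i.2, hi⟩
    rw [h, Nat.zero_testBit] at this
    exact absurd this (by decide)
  · rintro rfl
    symm
    apply eq_mask_of_testBit
    intro i
    rw [Nat.zero_testBit]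
    simp

theorem mask_singleton (x : Fin v) : mask ({x} : Finset (Fin v)) = 2 ^ (x : ℕ) := by
  symm
  apply eq_mask_of_testBit
  intro i
  rw [Nat.testBit_two_pow]
  simp only [decide_eq_true_eq, Finset.mem_singleton]
  constructor
  · intro h
    subst h
    exact ⟨x.2, rfl⟩
  · rintro ⟨h, h1⟩
    rw [← h1]

theorem mask_insert (x : Fin v) (s : Finset (Fin v)) :
    mask s ||| (1 <<< (x : ℕ)) = mask (insert x s) := by
  rw [Nat.one_shiftLeft, ← mask_singleton, mask_or, Finset.union_comm, ← Finset.insert_eq]

theorem eq_singleton_of_mask (u : Finset (Fin v)) (i : ℕ) (h : mask u = 2 ^ i) :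
    ∃ hi : i < v, u = {⟨i, hi⟩} := by
  have hi : i < v := by
    have h1 := (testBit_mask_true u i).mp (by rw [h]; exact Nat.testBit_two_pow_self)
    exact h1.1
  refine ⟨hi, ?_⟩
  apply mask_injective
  rw [h, mask_singleton]

/-- subset in terms of masks -/
theorem subset_iff_mask (s b : Finset (Fin v)) : s ⊆ b ↔ mask s ^^^ (mask s &&& mask b) = 0 := by
  rw [mask_sdiff, mask_eq_zero, Finset.sdiff_eq_empty_iff_subset]

/-- a number below `2 ^ v` is a mask -/
theorem exists_mask (m : ℕ) (hm : m < 2 ^ v) : ∃ s : Finset (Fin v), mask s = m := by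
  refine ⟨Finset.univ.filter fun i : Fin v => m.testBit i = true, ?_⟩
  symm
  apply eq_mask_of_testBit
  intro i
  constructor
  · intro h
    have hi : i < v := by
      by_contra hc
      have : m < 2 ^ i := lt_of_lt_of_le hm (Nat.pow_le_pow_right (by norm_num) (not_lt.mp hc))
      rw [Nat.testBit_lt_two_pow this] at h
      exact absurd h (by decide)
    exact ⟨hi, by simp [h]⟩
  · rintro ⟨hi, h⟩
    simpa using h

/-! ### popcount -/

/-- number of ones among the lowest `k` bits -/
def popc : ℕ → ℕ → ℕ
  | 0, _ => 0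
  | k + 1, n => n % 2 + popc k (n / 2)

theorem popc_eq_sum (k n : ℕ) : popc k n = ∑ i ∈ Finset.range k, (n.testBit i).toNat := by
  induction k generalizing n with
  | zero => simp [popc]
  | succ k ih =>
    rw [popc, ih, Finset.sum_range_succ']
    have h0 : (n.testBit 0).toNat = n % 2 := by
      rw [Nat.testBit_zero]
      rcases Nat.mod_two_eq_zero_or_one n with h | h <;> simp [h]
    rw [h0, add_comm]
    congr 1
    apply Finset.sum_congr rfl
    intro i _
    rw [Nat.testBit_succ]

theorem popc_mask (s : Finset (Fin v)) : popc v (mask s) = s.card := by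
  rw [popc_eq_sum, Finset.sum_range (fun i => ((mask s).testBit i).toNat)]
  simp only [testBit_mask_fin]
  rw [Finset.card_eq_sum_ones, ← Finset.sum_filter_add_sum_filter_not Finset.univ (fun i => i ∈ s)]
  have h1 : ∑ i ∈ Finset.univ.filter (fun i : Fin v => i ∈ s), (decide (i ∈ s)).toNat
      = ∑ i ∈ s, 1 := by
    have : Finset.univ.filter (fun i : Fin v => i ∈ s) = s := by ext i; simp
    rw [this]
    apply Finset.sum_congr rfl
    intro i hi
    simp [hi]
  have h2 : ∑ i ∈ Finset.univ.filter (fun i : Fin v => ¬ i ∈ s), (decide (i ∈ s)).toNat = 0 := by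
    apply Finset.sum_eq_zero
    intro i hi
    rw [Finset.mem_filter] at hi
    simp [hi.2]
  rw [h1, h2, add_zero]

end Cfsg.Agent.Lib.H3.StS
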