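import Mathlib
import Cfsg.Agent.Lib.H3.SteinerSearch1

set_option autoImplicit false

/-!
# Verified exhaustive search for Steiner systems `S(t, t+1, v)`, part 2: the search
-/

namespace Cfsg.Agent.Lib.H3.StS

open Cfsg

variable {v : ℕ}

/-- scan the chosen blocks against the `t`-set `T`: `none` if `T` is covered by a chosen block,
otherwise the union of the chosen blocks containing all but one point of `T` -/
def scan (T : ℕ) : List ℕ → Option ℕ
  | [] => some 0
  | b :: bs =>
    if T ^^^ (T &&& b) = 0 then none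
    else match scan T bs with
      | none => none
      | some f =>
        some (if (T ^^^ (T &&& b)) &&& ((T ^^^ (T &&& b)) - 1) = 0 then f ||| b else f)

/-- the search: the list of all completions of `chosen` covering all `t`-sets of the list -/
def search (v : ℕ) : List ℕ → List ℕ → List (List ℕ)
  | [], chosen => [chosen]
  | T :: rest, chosen =>
    match scan T chosen with
    | none => search v rest chosen
    | some f => (List.range v).flatMap fun x =>
        if (T ||| f).testBit x then [] else search v rest ((T ||| (1 <<< x)) :: chosen)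

theorem scan_none (T : ℕ) : ∀ chosen : List ℕ, scan T chosen = none →
    ∃ b ∈ chosen, T ^^^ (T &&& b) = 0 := by
  intro chosen
  induction chosen with
  | nil => intro h; simp [scan] at h
  | cons b bs ih =>
    intro h
    rw [scan] at h
    by_cases h0 : T ^^^ (T &&& b) = 0
    · exact ⟨b, List.mem_cons_self, h0⟩
    · rw [if_neg h0] at h
      cases hs : scan T bs with
      | none =>
        obtain ⟨c, hc, hc'⟩ := ih hs
        exact ⟨c, List.mem_cons_of_mem _ hc, hc'⟩
      | some f => rw [hs] at h; simp at h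

theorem scan_some (T : ℕ) : ∀ (chosen : List ℕ) (f : ℕ), scan T chosen = some f →
    (∀ b ∈ chosen, T ^^^ (T &&& b) ≠ 0) ∧
    ∀ i, f.testBit i = true → ∃ b ∈ chosen, b.testBit i = true ∧
      (T ^^^ (T &&& b)) &&& ((T ^^^ (T &&& b)) - 1) = 0 := by
  intro chosen
  induction chosen with
  | nil =>
    intro f h
    simp only [scan, Option.some.injEq] at h
    subst h
    refine ⟨by simp, ?_⟩
    intro i hi
    rw [Nat.zero_testBit] at hi
    exact absurd hi (by decide)
  | cons b bs ih =>
    intro f h
    rw [scan] at h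
    by_cases h0 : T ^^^ (T &&& b) = 0
    · rw [if_pos h0] at h; exact absurd h (by simp)
    · rw [if_neg h0] at h
      cases hs : scan T bs with
      | none => rw [hs] at h; simp at h
      | some f' =>
        rw [hs] at h
        simp only [Option.some.injEq] at h
        obtain ⟨ih1, ih2⟩ := ih f' hs
        refine ⟨?_, ?_⟩
        · intro c hc
          rcases List.mem_cons.mp hc with rfl | hc
          · exact h0
          · exact ih1 c hc
        · intro i hi
          by_cases hp : (T ^^^ (T &&& b)) &&& ((T ^^^ (T &&& b)) - 1) = 0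
          · rw [if_pos hp] at h
            rw [← h, Nat.testBit_or, Bool.or_eq_true] at hi
            rcases hi with hi | hi
            · obtain ⟨c, hc, hc'⟩ := ih2 i hi
              exact ⟨c, List.mem_cons_of_mem _ hc, hc'⟩
            · exact ⟨b, List.mem_cons_self, hi, hp⟩
          · rw [if_neg hp] at h
            rw [← h] at hi
            obtain ⟨c, hc, hc'⟩ := ih2 i hi
            exact ⟨c, List.mem_cons_of_mem _ hc, hc'⟩

set_option maxRecDepth 1000000 in
theorem pow2_of_and_pred : ∀ y < 4096, y ≠ 0 → y &&& (y - 1) = 0 → ∃ i < 12, y = 2 ^ i := by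
  decide +kernel

/-- a nonempty set whose mask passes the power-of-two test is a singleton -/
theorem card_one_of_test (hv : v ≤ 12) (u : Finset (Fin v)) (h0 : mask u ≠ 0)
    (h : mask u &&& (mask u - 1) = 0) : ∃ x, u = {x} := by
  have hlt : mask u < 4096 := lt_of_lt_of_le (mask_lt u)
    (by calc 2 ^ v ≤ 2 ^ 12 := Nat.pow_le_pow_right (by norm_num) hv
          _ = 4096 := by norm_num)
  obtain ⟨i, _, hi⟩ := pow2_of_and_pred (mask u) hlt h0 h
  obtain ⟨hi', hu⟩ := eq_singleton_of_mask u i hi
  exact ⟨_, hu⟩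

section Steiner

variable {t : ℕ} {B : Set (Finset (Fin v))}

/-- two blocks sharing `t` points are equal -/
theorem block_eq_of_inter (hB : IsSteinerSystem t (t + 1) B) {b c : Finset (Fin v)} (hb : b ∈ B)
    (hc : c ∈ B) (h : t ≤ (b ∩ c).card) : b = c := by
  obtain ⟨s, hs, hcard⟩ := Finset.exists_subset_card_eq h
  obtain ⟨d, _, hd⟩ := hB.2 s hcard
  have h1 : b = d := hd b ⟨hb, fun x hx => (Finset.mem_inter.mp (hs hx)).1⟩
  have h2 : c = d := hd c ⟨hc, fun x hx => (Finset.mem_inter.mp (hs hx)).2⟩
  rw [h1, h2]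

/-- a block containing the `t`-set `s` is `s` plus one point -/
theorem block_eq_insert (hB : IsSteinerSystem t (t + 1) B) {s c : Finset (Fin v)} (hs : s.card = t)
    (hc : c ∈ B) (hsc : s ⊆ c) : ∃ x, x ∉ s ∧ c = insert x s := by
  have hcard : (c \ s).card = 1 := by
    rw [Finset.card_sdiff_of_subset hsc, hB.1 c hc, hs]
    omega
  obtain ⟨x, hx⟩ := Finset.card_eq_one.mp hcard
  have hxm : x ∈ c \ s := by rw [hx]; exact Finset.mem_singleton_self x
  rw [Finset.mem_sdiff] at hxm
  refine ⟨x, hxm.2, ?_⟩
  ext y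
  rw [Finset.mem_insert]
  constructor
  · intro hy
    by_cases hys : y ∈ s
    · exact Or.inr hys
    · left
      have : y ∈ c \ s := Finset.mem_sdiff.mpr ⟨hy, hys⟩
      rw [hx] at this
      exact Finset.mem_singleton.mp this
  · rintro (rfl | hy)
    · exact hxm.1
    · exact hsc hy

/-- the key step: the true extension of `T` is not excluded by the scan -/
theorem scan_step (hv : v ≤ 12) (hB : IsSteinerSystem t (t + 1) B) (chosen : List ℕ)
    (hch : ∀ m ∈ chosen, ∃ b ∈ B, mask b = m) (s : Finset (Fin v)) (hs : s.card = t) (f : ℕ)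
    (hf : scan (mask s) chosen = some f) :
    ∃ x : Fin v, insert x s ∈ B ∧ (mask s ||| f).testBit (x : ℕ) = false := by
  obtain ⟨c, ⟨hc, hsc⟩, -⟩ := hB.2 s hs
  obtain ⟨x, hxs, rfl⟩ := block_eq_insert hB hs hc hsc
  refine ⟨x, hc, ?_⟩
  obtain ⟨h1, h2⟩ := scan_some _ _ _ hf
  rw [Nat.testBit_or]
  have hx1 : (mask s).testBit (x : ℕ) = false := by
    rw [testBit_mask_fin]
    exact decide_eq_false hxs
  rw [hx1, Bool.false_or]
  by_contra hcon
  have hfx : f.testBit (x : ℕ) = true := by
    cases h : f.testBit (x : ℕ)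
    · exact absurd h hcon
    · rfl
  obtain ⟨m, hm, hmx, hpow⟩ := h2 _ hfx
  obtain ⟨b, hb, rfl⟩ := hch m hm
  rw [mask_sdiff] at hpow
  have hne : mask (s \ b) ≠ 0 := by
    have := h1 _ hm
    rwa [mask_sdiff] at this
  obtain ⟨y, hy⟩ := card_one_of_test hv (s \ b) hne hpow
  have hxb : x ∈ b := by
    have := (testBit_mask_true b x).mp hmx
    exact this.2
  -- `b` and `insert x s` share `t` points
  have hcard : t ≤ (b ∩ insert x s).card := by
    have hsub : insert x (s ∩ b) ⊆ b ∩ insert x s := by
      intro z hz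
      rcases Finset.mem_insert.mp hz with rfl | hz
      · exact Finset.mem_inter.mpr ⟨hxb, Finset.mem_insert_self _ _⟩
      · rw [Finset.mem_inter] at hz
        exact Finset.mem_inter.mpr ⟨hz.2, Finset.mem_insert_of_mem hz.1⟩
    have hx' : x ∉ s ∩ b := fun h => hxs (Finset.mem_inter.mp h).1
    have h3 : (s ∩ b).card + (s \ b).card = s.card := Finset.card_inter_add_card_sdiff s b
    have h4 : (s \ b).card = 1 := by rw [hy]; exact Finset.card_singleton y
    have h5 : (insert x (s ∩ b)).card = (s ∩ b).card + 1 := Finset.card_insert_of_notMem hx'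
    have h6 := Finset.card_le_card hsub
    omega
  have heq := block_eq_of_inter hB hb hc hcard
  -- then `s ⊆ b`, contradiction
  apply hne
  rw [mask_eq_zero, Finset.sdiff_eq_empty_iff_subset, heq]
  exact Finset.subset_insert x s

theorem search_complete (hv : v ≤ 12) (hB : IsSteinerSystem t (t + 1) B) :
    ∀ (rest chosen : List ℕ),
      (∀ T ∈ rest, ∃ s : Finset (Fin v), s.card = t ∧ mask s = T) →
      (∀ m ∈ chosen, ∃ b ∈ B, mask b = m) →
      ∃ L ∈ search v rest chosen, (∀ m ∈ L, ∃ b ∈ B, mask b = m) ∧ (∀ m ∈ chosen, m ∈ L) ∧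
        ∀ T ∈ rest, ∃ m ∈ L, T ^^^ (T &&& m) = 0 := by
  intro rest
  induction rest with
  | nil =>
    intro chosen _ hch
    exact ⟨chosen, by simp [search], hch, fun m hm => hm, by simp⟩
  | cons T rest ih =>
    intro chosen hrest hch
    have hrest' : ∀ T ∈ rest, ∃ s : Finset (Fin v), s.card = t ∧ mask s = T :=
      fun T' hT' => hrest T' (List.mem_cons_of_mem _ hT')
    obtain ⟨s, hs, rfl⟩ := hrest T List.mem_cons_self
    rw [search]
    cases hsc : scan (mask s) chosen with
    | none =>
      obtain ⟨L, hL, h1, h2, h3⟩ := ih chosen hrest' hch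
      refine ⟨L, hL, h1, h2, ?_⟩
      intro T' hT'
      rcases List.mem_cons.mp hT' with rfl | hT'
      · obtain ⟨b, hb, hb'⟩ := scan_none _ _ hsc
        exact ⟨b, h2 b hb, hb'⟩
      · exact h3 T' hT'
    | some f =>
      obtain ⟨x, hxB, hxf⟩ := scan_step hv hB chosen hch s hs f hsc
      have hch' : ∀ m ∈ (mask s ||| (1 <<< (x : ℕ))) :: chosen, ∃ b ∈ B, mask b = m := by
        intro m hm
        rcases List.mem_cons.mp hm with rfl | hm
        · exact ⟨insert x s, hxB, (mask_insert x s).symm⟩
        · exact hch m hm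
      obtain ⟨L, hL, h1, h2, h3⟩ := ih _ hrest' hch'
      refine ⟨L, ?_, h1, fun m hm => h2 m (List.mem_cons_of_mem _ hm), ?_⟩
      · show L ∈ (List.range v).flatMap _
        rw [List.mem_flatMap]
        refine ⟨(x : ℕ), List.mem_range.mpr x.2, ?_⟩
        rw [hxf]
        exact hL
      · intro T' hT'
        rcases List.mem_cons.mp hT' with rfl | hT'
        · refine ⟨mask s ||| (1 <<< (x : ℕ)), h2 _ List.mem_cons_self, ?_⟩
          rw [mask_insert, ← subset_iff_mask]
          exact Finset.subset_insert x s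
        · exact h3 T' hT'

/-- the search finds every Steiner system containing the chosen blocks -/
theorem exists_solution (hv : v ≤ 12) (hB : IsSteinerSystem t (t + 1) B) (tsets chosen : List ℕ)
    (hts : ∀ m < 2 ^ v, popc v m = t → m ∈ tsets)
    (hts' : ∀ m ∈ tsets, m < 2 ^ v ∧ popc v m = t)
    (hch : ∀ m ∈ chosen, ∃ b ∈ B, mask b = m) :
    ∃ L ∈ search v tsets chosen, ∀ b : Finset (Fin v), b ∈ B ↔ mask b ∈ L := by
  have hrest : ∀ T ∈ tsets, ∃ s : Finset (Fin v), s.card = t ∧ mask s = T := by
    intro T hT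
    obtain ⟨h1, h2⟩ := hts' T hT
    obtain ⟨s, rfl⟩ := exists_mask (v := v) T h1
    exact ⟨s, by rw [← popc_mask, h2], rfl⟩
  obtain ⟨L, hL, h1, _, h3⟩ := search_complete hv hB tsets chosen hrest hch
  refine ⟨L, hL, ?_⟩
  intro b
  constructor
  · intro hb
    have hcard : b.card = t + 1 := hB.1 b hb
    obtain ⟨s, hsb, hs⟩ := Finset.exists_subset_card_eq (s := b) (n := t) (by omega)
    have hsT : mask s ∈ tsets := hts _ (mask_lt s) (by rw [popc_mask, hs])
    obtain ⟨m, hm, hm'⟩ := h3 _ hsT
    obtain ⟨c, hc, rfl⟩ := h1 m hm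
    rw [← subset_iff_mask] at hm'
    obtain ⟨d, _, hd⟩ := hB.2 s hs
    have e1 : b = d := hd b ⟨hb, hsb⟩
    have e2 : c = d := hd c ⟨hc, hm'⟩
    rw [e1, ← e2]
    exact hm
  · intro hb
    obtain ⟨c, hc, hc'⟩ := h1 _ hb
    rw [← mask_injective hc']
    exact hc

end Steiner

end Cfsg.Agent.Lib.H3.StS
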