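import Mathlib
import Cfsg.Agent.Lib.H3.SteinerSearch2

set_option autoImplicit false

/-!
# Verified exhaustive search for Steiner systems `S(t, t+1, v)`, part 3: comparing the leaves with
a reference system
-/

namespace Cfsg.Agent.Lib.H3.StS

open Cfsg

variable {v : ℕ}

/-! ### general lemmas on set systems -/

theorem steiner_eq_of_subset {α : Type*} {t k : ℕ} {B B' : Set (Finset α)}
    (hB : IsSteinerSystem t k B) (hB' : IsSteinerSystem t k B') (htk : t ≤ k) (h : B ⊆ B') :
    B = B' := by
  apply Set.Subset.antisymm h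
  intro b' hb'
  have hc : b'.card = k := hB'.1 b' hb'
  obtain ⟨s, hsb, hs⟩ := Finset.exists_subset_card_eq (s := b') (n := t) (by omega)
  obtain ⟨b, ⟨hb, hsb2⟩, -⟩ := hB.2 s hs
  have : b = b' := (hB'.2 s hs).unique ⟨h hb, hsb2⟩ ⟨hb', hsb⟩
  rw [← this]; exact hb

theorem steiner_image {α β : Type*} [DecidableEq α] [DecidableEq β] (e : α ≃ β) {t k : ℕ}
    {B : Set (Finset α)} (hB : IsSteinerSystem t k B) :
    IsSteinerSystem t k ((fun b => b.image e) '' B) := by
  refine ⟨?_, ?_⟩
  · rintro _ ⟨b, hb, rfl⟩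
    rw [Finset.card_image_of_injective _ e.injective]
    exact hB.1 b hb
  · intro s hs
    have hs' : (s.image e.symm).card = t := by
      rw [Finset.card_image_of_injective _ e.symm.injective, hs]
    obtain ⟨b, ⟨hb, hsb⟩, huniq⟩ := hB.2 (s.image e.symm) hs'
    refine ⟨b.image e, ⟨⟨b, hb, rfl⟩, ?_⟩, ?_⟩
    · intro x hx
      rw [Finset.mem_image]
      exact ⟨e.symm x, hsb (Finset.mem_image_of_mem _ hx), by simp⟩
    · rintro _ ⟨⟨c, hc, rfl⟩, hsc⟩
      have : c = b := by
        apply huniq
        refine ⟨hc, ?_⟩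
        intro x hx
        rw [Finset.mem_image] at hx
        obtain ⟨y, hy, rfl⟩ := hx
        have := hsc hy
        rw [Finset.mem_image] at this
        obtain ⟨z, hz, hzy⟩ := this
        have : z = e.symm y := by rw [← hzy]; simp
        rw [← this]; exact hz
      rw [this]

theorem iso_symm {α β : Type*} [DecidableEq α] [DecidableEq β] {B : Set (Finset α)}
    {B' : Set (Finset β)} (h : SetSystemIso B B') : SetSystemIso B' B := by
  obtain ⟨e, he⟩ := h
  refine ⟨e.symm, ?_⟩
  rw [← he, Set.image_image]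
  have : (fun b : Finset α => (b.image e).image e.symm) = id := by
    funext b
    rw [Finset.image_image]
    simp
  rw [this, Set.image_id]

theorem iso_trans {α β γ : Type*} [DecidableEq α] [DecidableEq β] [DecidableEq γ]
    {B : Set (Finset α)} {B' : Set (Finset β)} {B'' : Set (Finset γ)}
    (h : SetSystemIso B B') (h' : SetSystemIso B' B'') : SetSystemIso B B'' := by
  obtain ⟨e, he⟩ := h
  obtain ⟨e', he'⟩ := h'
  refine ⟨e.trans e', ?_⟩
  rw [← he', ← he, Set.image_image]
  congr 1
  funext b
  rw [Finset.image_image]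
  rfl

theorem iso_image {α β : Type*} [DecidableEq α] [DecidableEq β] (e : α ≃ β) (B : Set (Finset α)) :
    SetSystemIso B ((fun b => b.image e) '' B) := ⟨e, rfl⟩

/-! ### permuting masks -/

/-- auxiliary function for `permMask` -/
def permMaskAux : List ℕ → ℕ → ℕ → ℕ
  | [], _, _ => 0
  | a :: as, i, m => (if m.testBit i then 1 <<< a else 0) ||| permMaskAux as (i + 1) m

/-- the image of the mask `m` under the map `i ↦ σ[i]` -/
def permMask (σ : List ℕ) (m : ℕ) : ℕ := permMaskAux σ 0 m

theorem testBit_permMaskAux (as : List ℕ) : ∀ (i m j : ℕ),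
    (permMaskAux as i m).testBit j = true ↔
      ∃ k, ∃ h : k < as.length, m.testBit (i + k) = true ∧ as[k] = j := by
  induction as with
  | nil =>
    intro i m j
    simp [permMaskAux]
  | cons a as ih =>
    intro i m j
    rw [permMaskAux, Nat.testBit_or, Bool.or_eq_true, ih]
    constructor
    · rintro (h | ⟨k, hk, h1, h2⟩)
      · by_cases hm : m.testBit i = true
        · rw [if_pos hm, Nat.one_shiftLeft, Nat.testBit_two_pow] at h
          have : a = j := of_decide_eq_true h
          exact ⟨0, by simp, by simpa using hm, by simpa using this⟩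
        · rw [if_neg hm, Nat.zero_testBit] at h
          exact absurd h (by decide)
      · refine ⟨k + 1, by simp; omega, ?_, ?_⟩
        · rw [← h1]; congr 1; omega
        · simpa using h2
    · rintro ⟨k, hk, h1, h2⟩
      cases k with
      | zero =>
        left
        have hm : m.testBit i = true := by simpa using h1
        rw [if_pos hm, Nat.one_shiftLeft, Nat.testBit_two_pow]
        have : a = j := by simpa using h2
        exact decide_eq_true this
      | succ k =>
        right
        refine ⟨k, by simpa using hk, ?_, ?_⟩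
        · rw [← h1]; congr 1; omega
        · simpa using h2

/-- the function `Fin v → Fin v` of a list of images -/
def listFun (σ : List ℕ) (hlen : σ.length = v) (hlt : ∀ a ∈ σ, a < v) (i : Fin v) : Fin v :=
  ⟨σ[(i : ℕ)]'(by rw [hlen]; exact i.2), hlt _ (List.getElem_mem _)⟩

theorem listFun_injective (σ : List ℕ) (hlen : σ.length = v) (hlt : ∀ a ∈ σ, a < v)
    (hnd : σ.Nodup) : Function.Injective (listFun σ hlen hlt) := by
  intro i j h
  have h1 : σ[(i : ℕ)]'(by rw [hlen]; exact i.2) = σ[(j : ℕ)]'(by rw [hlen]; exact j.2) :=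
    congrArg Fin.val h
  have := (List.Nodup.getElem_inj_iff hnd).mp h1
  exact Fin.ext this

/-- the permutation of a list of images -/
noncomputable def listPerm (σ : List ℕ) (hlen : σ.length = v) (hlt : ∀ a ∈ σ, a < v)
    (hnd : σ.Nodup) : Equiv.Perm (Fin v) :=
  Equiv.ofBijective (listFun σ hlen hlt)
    (Finite.injective_iff_bijective.mp (listFun_injective σ hlen hlt hnd))

theorem listPerm_apply (σ : List ℕ) (hlen : σ.length = v) (hlt : ∀ a ∈ σ, a < v)
    (hnd : σ.Nodup) (i : Fin v) : listPerm σ hlen hlt hnd i = listFun σ hlen hlt i := rfl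

theorem permMask_mask (σ : List ℕ) (hlen : σ.length = v) (hlt : ∀ a ∈ σ, a < v)
    (hnd : σ.Nodup) (s : Finset (Fin v)) :
    permMask σ (mask s) = mask (s.image (listPerm σ hlen hlt hnd)) := by
  apply eq_mask_of_testBit
  intro j
  rw [permMask, testBit_permMaskAux]
  constructor
  · rintro ⟨k, hk, h1, h2⟩
    rw [zero_add, testBit_mask_true] at h1
    obtain ⟨hkv, hks⟩ := h1
    have hj : j < v := by rw [← h2]; exact hlt _ (List.getElem_mem _)
    refine ⟨hj, ?_⟩
    rw [Finset.mem_image]
    refine ⟨⟨k, hkv⟩, hks, ?_⟩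
    apply Fin.ext
    rw [listPerm_apply]
    exact h2
  · rintro ⟨hj, h⟩
    rw [Finset.mem_image] at h
    obtain ⟨k, hks, hk⟩ := h
    refine ⟨(k : ℕ), by rw [hlen]; exact k.2, ?_, ?_⟩
    · rw [zero_add, testBit_mask_true]
      exact ⟨k.2, hks⟩
    · have := congrArg Fin.val hk
      rw [listPerm_apply] at this
      exact this

/-! ### the reference system and the checks -/

/-- the set system of a bitmap of masks -/
def blocksOf (v B0 : ℕ) : Set (Finset (Fin v)) := {b | B0.testBit (mask b) = true}

/-- check of a list of `t`-sets -/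
def tsetsOK (v t : ℕ) (tsets : List ℕ) : Bool :=
  ((List.range (2 ^ v)).all fun m => popc v m != t || tsets.contains m) &&
    tsets.all fun m => decide (m < 2 ^ v) && popc v m == t

theorem tsetsOK_sound {t : ℕ} {tsets : List ℕ} (h : tsetsOK v t tsets = true) :
    (∀ m < 2 ^ v, popc v m = t → m ∈ tsets) ∧ ∀ m ∈ tsets, m < 2 ^ v ∧ popc v m = t := by
  unfold tsetsOK at h
  rw [Bool.and_eq_true, List.all_eq_true, List.all_eq_true] at h
  refine ⟨?_, ?_⟩
  · intro m hm hp
    have := h.1 m (List.mem_range.mpr hm)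
    rw [Bool.or_eq_true] at this
    rcases this with h1 | h1
    · rw [bne_iff_ne] at h1
      exact absurd hp h1
    · exact List.contains_iff_mem.mp h1   
  · intro m hm
    have := h.2 m hm
    rw [Bool.and_eq_true, decide_eq_true_eq, beq_iff_eq] at this
    exact this

/-- check that the bitmap is a Steiner system -/
def steinerOK (v t B0 : ℕ) (tsets : List ℕ) : Bool :=
  ((List.range (2 ^ v)).all fun m => !B0.testBit m || popc v m == t + 1) &&
    tsets.all fun T =>
      ((List.range v).filter fun x => !T.testBit x && B0.testBit (T ||| (1 <<< x))).length == 1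

theorem exists_insert_of_card {α : Type*} [DecidableEq α] {t : ℕ} {s c : Finset α}
    (hs : s.card = t) (hc : c.card = t + 1) (hsc : s ⊆ c) : ∃ x, x ∉ s ∧ c = insert x s := by
  have hcard : (c \ s).card = 1 := by
    rw [Finset.card_sdiff_of_subset hsc, hc, hs]
    omega
  obtain ⟨x, hx⟩ := Finset.card_eq_one.mp hcard
  have hxm : x ∈ c \ s := by rw [hx]; exact Finset.mem_singleton_self x
  rw [Finset.mem_sdiff] at hxm
  refine ⟨x, hxm.2, ?_⟩
  ext y
  rw [Finset.mem_insert]
  constructor
  · intro hy
    by_cases hys : y ∈ s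
    · exact Or.inr hys
    · left
      have : y ∈ c \ s := Finset.mem_sdiff.mpr ⟨hy, hys⟩
      rw [hx] at this
      exact Finset.mem_singleton.mp this
  · rintro (rfl | hy)
    · exact hxm.1
    · exact hsc hy

theorem steinerOK_sound {t B0 : ℕ} {tsets : List ℕ} (hts : tsetsOK v t tsets = true)
    (h : steinerOK v t B0 tsets = true) : IsSteinerSystem t (t + 1) (blocksOf v B0) := by
  unfold steinerOK at h
  rw [Bool.and_eq_true, List.all_eq_true, List.all_eq_true] at h
  obtain ⟨h1, h2⟩ := h
  have hcard : ∀ b ∈ blocksOf v B0, b.card = t + 1 := by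
    intro b hb
    have := h1 (mask b) (List.mem_range.mpr (mask_lt b))
    rw [Bool.or_eq_true] at this
    rcases this with h3 | h3
    · have hb' : B0.testBit (mask b) = true := hb
      rw [hb'] at h3
      exact absurd h3 (by decide)
    · rw [beq_iff_eq, popc_mask] at h3
      exact h3
  refine ⟨hcard, ?_⟩
  intro s hs
  have hsT : mask s ∈ tsets := (tsetsOK_sound hts).1 _ (mask_lt s) (by rw [popc_mask, hs])
  have hlen := h2 _ hsT
  rw [beq_iff_eq] at hlen
  obtain ⟨x₀, hx₀⟩ := List.length_eq_one_iff.mp hlen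
  have hmem : ∀ x, x ∈ (List.range v).filter
      (fun x => !(mask s).testBit x && B0.testBit (mask s ||| (1 <<< x))) ↔ x = x₀ := by
    intro x
    rw [hx₀]
    exact List.mem_singleton
  have hx₀' := (hmem x₀).mpr rfl
  rw [List.mem_filter, List.mem_range, Bool.and_eq_true] at hx₀'
  obtain ⟨hx₀v, hx₀s, hx₀B⟩ := hx₀'
  refine ⟨insert ⟨x₀, hx₀v⟩ s, ⟨?_, Finset.subset_insert _ _⟩, ?_⟩
  · show B0.testBit (mask (insert ⟨x₀, hx₀v⟩ s)) = true
    rw [← mask_insert]
    exact hx₀B
  · rintro b ⟨hb, hsb⟩
    obtain ⟨x, hxs, rfl⟩ := exists_insert_of_card hs (hcard b hb) hsb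
    have hx : (x : ℕ) ∈ (List.range v).filter
        (fun x => !(mask s).testBit x && B0.testBit (mask s ||| (1 <<< x))) := by
      rw [List.mem_filter, List.mem_range, Bool.and_eq_true]
      refine ⟨x.2, ?_, ?_⟩
      · rw [testBit_mask_fin]
        simp [hxs]
      · rw [mask_insert]
        exact hb
    have := (hmem _).mp hx
    congr 1
    exact Fin.ext this

/-- check of one leaf against the reference bitmap -/
def leafOK (v B0 : ℕ) (L σ : List ℕ) : Bool :=
  decide (σ.length = v) && (σ.all fun a => decide (a < v)) && decide σ.Nodup &&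
    L.all fun m => B0.testBit (permMask σ m)

/-- check of all leaves -/
def allLeaves (v B0 : ℕ) : List (List ℕ) → List (List ℕ) → Bool
  | [], _ => true
  | _ :: _, [] => false
  | L :: Ls, σ :: σs => leafOK v B0 L σ && allLeaves v B0 Ls σs

theorem allLeaves_sound (B0 : ℕ) : ∀ (Ls σs : List (List ℕ)), allLeaves v B0 Ls σs = true →
    ∀ L ∈ Ls, ∃ σ, leafOK v B0 L σ = true := by
  intro Ls
  induction Ls with
  | nil => intro σs _ L hL; simp at hL
  | cons L Ls ih =>
    intro σs h L' hL'
    cases σs with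
    | nil => simp [allLeaves] at h
    | cons σ σs =>
      rw [allLeaves, Bool.and_eq_true] at h
      rcases List.mem_cons.mp hL' with rfl | hL'
      · exact ⟨σ, h.1⟩
      · exact ih σs h.2 L' hL'

theorem iso_of_leafOK {t B0 : ℕ} {L σ : List ℕ} (ht : t ≤ t + 1)
    (hB0 : IsSteinerSystem t (t + 1) (blocksOf v B0))
    {B : Set (Finset (Fin v))} (hB : IsSteinerSystem t (t + 1) B)
    (hL : ∀ b : Finset (Fin v), b ∈ B ↔ mask b ∈ L) (h : leafOK v B0 L σ = true) :
    SetSystemIso B (blocksOf v B0) := by
  unfold leafOK at h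
  rw [Bool.and_eq_true, Bool.and_eq_true, Bool.and_eq_true, decide_eq_true_eq, List.all_eq_true,
    decide_eq_true_eq, List.all_eq_true] at h
  obtain ⟨⟨⟨hlen, hlt⟩, hnd⟩, hall⟩ := h
  have hlt' : ∀ a ∈ σ, a < v := fun a ha => of_decide_eq_true (hlt a ha)
  refine ⟨listPerm σ hlen hlt' hnd, ?_⟩
  symm
  apply (steiner_eq_of_subset (steiner_image _ hB) hB0 ht ?_).symm
  rintro _ ⟨b, hb, rfl⟩
  show B0.testBit (mask (b.image (listPerm σ hlen hlt' hnd))) = true
  rw [← permMask_mask]
  exact hall _ ((hL b).mp hb)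

/-- the main theorem on `Fin v` -/
theorem iso_of_check {t : ℕ} (hv : v ≤ 12) (B0 : ℕ) (tsets chosen : List ℕ)
    (perms : List (List ℕ)) (hts : tsetsOK v t tsets = true)
    (hst : steinerOK v t B0 tsets = true)
    (hchk : allLeaves v B0 (search v tsets chosen) perms = true)
    {B : Set (Finset (Fin v))} (hB : IsSteinerSystem t (t + 1) B)
    (hch : ∀ m ∈ chosen, ∃ b ∈ B, mask b = m) :
    SetSystemIso B (blocksOf v B0) := by
  obtain ⟨h1, h2⟩ := tsetsOK_sound hts
  obtain ⟨L, hL, hBL⟩ := exists_solution hv hB tsets chosen h1 h2 hch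
  obtain ⟨σ, hσ⟩ := allLeaves_sound B0 _ _ hchk L hL
  exact iso_of_leafOK (Nat.le_succ t) (steinerOK_sound hts hst) hB hBL hσ

/-- the main theorem on an arbitrary type -/
theorem iso_std {t : ℕ} (hv : v ≤ 12) (B0 : ℕ) (tsets : List ℕ) (first : Finset (Fin v))
    (hfirst : first.card = t + 1)
    (perms : List (List ℕ)) (hts : tsetsOK v t tsets = true)
    (hst : steinerOK v t B0 tsets = true)
    (hchk : allLeaves v B0 (search v tsets [mask first]) perms = true)
    {α : Type*} [Fintype α] [DecidableEq α] (hα : Fintype.card α = v) (htv : t ≤ v)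
    {B : Set (Finset α)} (hB : IsSteinerSystem t (t + 1) B) :
    SetSystemIso B (blocksOf v B0) := by
  classical
  let e₀ : α ≃ Fin v := Fintype.equivFinOfCardEq hα
  have hB₁ := steiner_image e₀ hB
  set B₁ : Set (Finset (Fin v)) := (fun b => b.image e₀) '' B with hB₁def
  -- a block of `B₁`
  obtain ⟨s, -, hs⟩ := Finset.exists_subset_card_eq (s := (Finset.univ : Finset (Fin v))) (n := t)
    (by rw [Finset.card_univ, Fintype.card_fin]; exact htv)
  obtain ⟨c, ⟨hc, -⟩, -⟩ := hB₁.2 s hs
  have hcc : c.card = first.card := by rw [hfirst]; exact hB₁.1 c hc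
  let ε : {x // x ∈ c} ≃ {x // x ∈ first} := Finset.equivOfCardEq hcc
  let π : Equiv.Perm (Fin v) := ε.extendSubtype
  have hπ : c.image π = first := by
    apply Finset.eq_of_subset_of_card_le
    · intro y hy
      rw [Finset.mem_image] at hy
      obtain ⟨x, hx, rfl⟩ := hy
      have : π x = ε ⟨x, hx⟩ := Equiv.extendSubtype_apply_of_mem ε x hx
      rw [this]
      exact (ε ⟨x, hx⟩).2
    · rw [Finset.card_image_of_injective _ π.injective, hcc]
  have hB₂ := steiner_image π hB₁
  have hfirstB : first ∈ (fun b => b.image π) '' B₁ := ⟨c, hc, hπ⟩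
  have h3 : SetSystemIso ((fun b => b.image π) '' B₁) (blocksOf v B0) :=
    iso_of_check hv B0 tsets [mask first] perms hts hst hchk hB₂ (by
      intro m hm
      rw [List.mem_singleton] at hm
      exact ⟨first, hfirstB, hm.symm⟩)
  exact iso_trans (iso_trans (iso_image e₀ B) (iso_image π B₁)) h3

end Cfsg.Agent.Lib.H3.StS
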