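import Mathlib
import Cfsg.Agent.Lib.H3.SteinerSearch3

set_option autoImplicit false

/-!
# Verified exhaustive search for Steiner systems `S(t, t+1, v)`, part 4: splitting the search and
normalising by transpositions
-/

namespace Cfsg.Agent.Lib.H3.StS

open Cfsg

variable {v : ℕ}

/-- the search stopped after `d` branchings: the list of open states -/
def searchD (v : ℕ) : ℕ → List ℕ → List ℕ → List (List ℕ × List ℕ)
  | _, [], chosen => [([], chosen)]
  | d, T :: rest, chosen =>
    match scan T chosen with
    | none => searchD v d rest chosen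
    | some f =>
      match d with
      | 0 => [(T :: rest, chosen)]
      | d + 1 => (List.range v).flatMap fun x =>
          if (T ||| f).testBit x then [] else searchD v d rest ((T ||| (1 <<< x)) :: chosen)

theorem search_eq_flatMap : ∀ (rest : List ℕ) (d : ℕ) (chosen : List ℕ),
    search v rest chosen = (searchD v d rest chosen).flatMap fun st => search v st.1 st.2 := by
  intro rest
  induction rest with
  | nil =>
    intro d chosen
    simp [search, searchD]
  | cons T rest ih =>
    intro d chosen
    rw [search, searchD]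
    cases hs : scan T chosen with
    | none => exact ih d chosen
    | some f =>
      cases d with
      | zero =>
        simp only [List.flatMap_cons, List.flatMap_nil, List.append_nil]
        rw [search, hs]
      | succ d =>
        simp only
        rw [List.flatMap_assoc]
        apply List.flatMap_congr
        intro x _
        by_cases hx : (T ||| f).testBit x = true
        · rw [if_pos hx, if_pos hx]; rfl
        · rw [if_neg hx, if_neg hx]
          exact ih d _

/-- all leaves below a state are isomorphic to the reference system -/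
def Good (v B0 : ℕ) (rest chosen : List ℕ) : Prop :=
  ∀ L ∈ search v rest chosen, ∃ σ, leafOK v B0 L σ = true

theorem good_of_allLeaves {B0 : ℕ} {rest chosen : List ℕ} (perms : List (List ℕ))
    (h : allLeaves v B0 (search v rest chosen) perms = true) : Good v B0 rest chosen :=
  allLeaves_sound B0 _ _ h

theorem good_of_parts {B0 : ℕ} {rest chosen : List ℕ} (d : ℕ)
    (h : ∀ st ∈ searchD v d rest chosen, Good v B0 st.1 st.2) : Good v B0 rest chosen := by
  intro L hL
  rw [search_eq_flatMap rest d chosen, List.mem_flatMap] at hL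
  obtain ⟨st, hst, hL'⟩ := hL
  exact h st hst L hL'

/-- the main theorem on `Fin v`, with `Good` -/
theorem iso_of_good {t : ℕ} (hv : v ≤ 12) (B0 : ℕ) (tsets chosen : List ℕ)
    (hts : tsetsOK v t tsets = true) (hst : steinerOK v t B0 tsets = true)
    (hgood : Good v B0 tsets chosen)
    {B : Set (Finset (Fin v))} (hB : IsSteinerSystem t (t + 1) B)
    (hch : ∀ m ∈ chosen, ∃ b ∈ B, mask b = m) :
    SetSystemIso B (blocksOf v B0) := by
  obtain ⟨h1, h2⟩ := tsetsOK_sound hts
  obtain ⟨L, hL, hBL⟩ := exists_solution hv hB tsets chosen h1 h2 hch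
  obtain ⟨σ, hσ⟩ := hgood L hL
  exact iso_of_leafOK (Nat.le_succ t) (steinerOK_sound hts hst) hB hBL hσ

/-! ### normalisation by a transposition -/

theorem image_swap_eq {α : Type*} [DecidableEq α] (x y : α) (b : Finset α) (h : x ∈ b ↔ y ∈ b) :
    b.image (Equiv.swap x y) = b := by
  apply Finset.eq_of_subset_of_card_le
  · intro z hz
    rw [Finset.mem_image] at hz
    obtain ⟨w, hw, rfl⟩ := hz
    by_cases h1 : w = x
    · subst h1
      rw [Equiv.swap_apply_left]
      exact h.mp hw
    · by_cases h2 : w = y
      · subst h2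
        rw [Equiv.swap_apply_right]
        exact h.mpr hw
      · rw [Equiv.swap_apply_of_ne_of_ne h1 h2]
        exact hw
  · rw [Finset.card_image_of_injective _ (Equiv.swap x y).injective]

theorem image_swap_insert {α : Type*} [DecidableEq α] (x y : α) (s : Finset α) (hx : x ∉ s)
    (hy : y ∉ s) : (insert x s).image (Equiv.swap x y) = insert y s := by
  rw [Finset.image_insert, Equiv.swap_apply_left, image_swap_eq x y s (by simp [hx, hy])]

theorem normalize_step {t : ℕ} (hv : v ≤ 12) {B : Set (Finset (Fin v))}
    (hB : IsSteinerSystem t (t + 1) B) (chosen : List ℕ)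
    (hch : ∀ m ∈ chosen, ∃ b ∈ B, mask b = m) (s : Finset (Fin v)) (hs : s.card = t) (f : ℕ)
    (hf : scan (mask s) chosen = some f) (x₀ : Fin v) (hx₀ : (mask s).testBit x₀ = false)
    (hsym : ∀ x : ℕ, x < v → (mask s ||| f).testBit x = false →
      ∀ m ∈ chosen, m.testBit x = m.testBit x₀) :
    ∃ B' : Set (Finset (Fin v)), SetSystemIso B B' ∧ IsSteinerSystem t (t + 1) B' ∧
      ∀ m ∈ mask (insert x₀ s) :: chosen, ∃ b ∈ B', mask b = m := by
  obtain ⟨x, hxB, hxf⟩ := scan_step hv hB chosen hch s hs f hf
  by_cases hxx : x = x₀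
  · subst hxx
    refine ⟨B, ⟨Equiv.refl _, by simp⟩, hB, ?_⟩
    intro m hm
    rcases List.mem_cons.mp hm with rfl | hm
    · exact ⟨_, hxB, rfl⟩
    · exact hch m hm
  · have hxs : x ∉ s := by
      intro h
      have h1 : (mask s).testBit x = true := (testBit_mask_true s x).mpr ⟨x.2, h⟩
      rw [Nat.testBit_or, h1, Bool.true_or] at hxf
      exact absurd hxf (by decide)
    have hx₀s : x₀ ∉ s := by
      intro h
      have h1 : (mask s).testBit x₀ = true := (testBit_mask_true s x₀).mpr ⟨x₀.2, h⟩
      rw [h1] at hx₀
      exact absurd hx₀ (by decide)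
    refine ⟨(fun b => b.image (Equiv.swap x x₀)) '' B, iso_image _ B, steiner_image _ hB, ?_⟩
    intro m hm
    rcases List.mem_cons.mp hm with rfl | hm
    · refine ⟨_, ⟨_, hxB, rfl⟩, ?_⟩
      show mask ((insert x s).image (Equiv.swap x x₀)) = _
      rw [image_swap_insert x x₀ s hxs hx₀s]
    · obtain ⟨b, hb, rfl⟩ := hch m hm
      refine ⟨_, ⟨b, hb, rfl⟩, ?_⟩
      show mask (b.image (Equiv.swap x x₀)) = _
      rw [image_swap_eq]
      have := hsym x x.2 hxf _ hm
      rw [testBit_mask_fin, testBit_mask_fin] at this
      constructor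
      · intro h
        have h1 : decide (x ∈ b) = true := decide_eq_true h
        rw [this] at h1
        exact of_decide_eq_true h1
      · intro h
        have h1 : decide (x₀ ∈ b) = true := decide_eq_true h
        rw [← this] at h1
        exact of_decide_eq_true h1

/-- a block of the image of `B` under a suitable bijection is `first` -/
theorem exists_first {t : ℕ} (first : Finset (Fin v)) (hfirst : first.card = t + 1)
    {α : Type*} [Fintype α] [DecidableEq α] (hα : Fintype.card α = v) (htv : t ≤ v)
    {B : Set (Finset α)} (hB : IsSteinerSystem t (t + 1) B) :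
    ∃ B' : Set (Finset (Fin v)), SetSystemIso B B' ∧ IsSteinerSystem t (t + 1) B' ∧
      first ∈ B' := by
  classical
  let e₀ : α ≃ Fin v := Fintype.equivFinOfCardEq hα
  have hB₁ := steiner_image e₀ hB
  set B₁ : Set (Finset (Fin v)) := (fun b => b.image e₀) '' B with hB₁def
  obtain ⟨s, -, hs⟩ := Finset.exists_subset_card_eq (s := (Finset.univ : Finset (Fin v))) (n := t)
    (by rw [Finset.card_univ, Fintype.card_fin]; exact htv)
  obtain ⟨c, ⟨hc, -⟩, -⟩ := hB₁.2 s hs
  have hcc : c.card = first.card := by rw [hfirst]; exact hB₁.1 c hc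
  let ε : {x // x ∈ c} ≃ {x // x ∈ first} := Finset.equivOfCardEq hcc
  let π : Equiv.Perm (Fin v) := ε.extendSubtype
  have hπ : c.image π = first := by
    apply Finset.eq_of_subset_of_card_le
    · intro y hy
      rw [Finset.mem_image] at hy
      obtain ⟨x, hx, rfl⟩ := hy
      have : π x = ε ⟨x, hx⟩ := Equiv.extendSubtype_apply_of_mem ε x hx
      rw [this]
      exact (ε ⟨x, hx⟩).2
    · rw [Finset.card_image_of_injective _ π.injective, hcc]
  exact ⟨(fun b => b.image π) '' B₁, iso_trans (iso_image e₀ B) (iso_image π B₁),
    steiner_image π hB₁, ⟨c, hc, hπ⟩⟩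

end Cfsg.Agent.Lib.H3.StS
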