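import Mathlib
import Cfsg.Agent.Lib.H3.SteinerSearch4

set_option autoImplicit false

/-! # Automorphism groups of set systems: generalities -/

namespace Cfsg.Agent.Lib.H3.StS

open Cfsg
open scoped Pointwise

section Aut

variable {α : Type*} [DecidableEq α]

theorem smul_finset_eq (τ : Equiv.Perm α) (b : Finset α) : τ • b = b.image τ := rfl

theorem smul_set_eq (τ : Equiv.Perm α) (B : Set (Finset α)) :
    τ • B = (fun b : Finset α => b.image τ) '' B := rfl

theorem aut_image_mem {B : Set (Finset α)} {τ : Equiv.Perm α} (hτ : τ ∈ setSystemAut B)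
    {b : Finset α} (hb : b ∈ B) : b.image τ ∈ B := by
  have h : τ • B = B := MulAction.mem_stabilizer_iff.mp hτ
  have h1 : τ • b ∈ τ • B := Set.smul_mem_smul_set hb
  rw [h] at h1
  exact h1

theorem mem_aut_of_forall {t k : ℕ} (htk : t ≤ k) {B : Set (Finset α)}
    (hB : IsSteinerSystem t k B) {τ : Equiv.Perm α} (h : ∀ b ∈ B, b.image τ ∈ B) :
    τ ∈ setSystemAut B := by
  show τ ∈ MulAction.stabilizer (Equiv.Perm α) B
  rw [MulAction.mem_stabilizer_iff, smul_set_eq]
  exact steiner_eq_of_subset (steiner_image τ hB) hB htk (by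
    rintro _ ⟨b, hb, rfl⟩
    exact h b hb)

theorem image_fix (τ : α → α) (s : Finset α) (h : ∀ y ∈ s, τ y = y) : s.image τ = s := by
  conv_rhs => rw [← Finset.image_id (s := s)]
  exact Finset.image_congr (fun y hy => h y hy)

/-- an automorphism fixing `t` points of a block fixes the last point -/
theorem fix_of_block {t : ℕ} {B : Set (Finset α)} (hB : IsSteinerSystem t (t + 1) B)
    {τ : Equiv.Perm α} (hτ : τ ∈ setSystemAut B) (s : Finset α) (hs : s.card = t)
    (hfix : ∀ y ∈ s, τ y = y) (x : α) (hx : x ∉ s) (hb : insert x s ∈ B) : τ x = x := by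
  have h1 : (insert x s).image τ ∈ B := aut_image_mem hτ hb
  rw [Finset.image_insert, image_fix τ s hfix] at h1
  obtain ⟨c, _, hc⟩ := hB.2 s hs
  have e1 : insert (τ x) s = c := hc _ ⟨h1, Finset.subset_insert _ _⟩
  have e2 : insert x s = c := hc _ ⟨hb, Finset.subset_insert _ _⟩
  have h3 : τ x ∈ insert x s := by rw [e2, ← e1]; exact Finset.mem_insert_self _ _
  rcases Finset.mem_insert.mp h3 with h | h
  · exact h
  · exfalso
    have h4 : τ (τ x) = τ x := hfix _ h
    have h5 : τ x = x := τ.injective h4
    rw [h5] at h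
    exact hx h

/-- the image of a block `S ∪ {a, d}` under an automorphism fixing `S` pointwise -/
theorem image_pair_mem {B : Set (Finset α)} {τ : Equiv.Perm α} (hτ : τ ∈ setSystemAut B)
    (S : Finset α) (hfix : ∀ y ∈ S, τ y = y) (a d : α) (hb : insert a (insert d S) ∈ B) :
    insert (τ a) (insert (τ d) S) ∈ B := by
  have h1 := aut_image_mem hτ hb
  rwa [Finset.image_insert, Finset.image_insert, image_fix τ S hfix] at h1

end Aut

section Transport

variable {α β : Type*} [DecidableEq α] [DecidableEq β] (e : α ≃ β) {B : Set (Finset α)}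
  {B' : Set (Finset β)} (he : (fun b : Finset α => b.image e) '' B = B')

include he

theorem permCongr_mem_iff (σ : Equiv.Perm α) :
    e.permCongr σ ∈ setSystemAut B' ↔ σ ∈ setSystemAut B := by
  show e.permCongr σ ∈ MulAction.stabilizer (Equiv.Perm β) B' ↔
    σ ∈ MulAction.stabilizer (Equiv.Perm α) B
  rw [MulAction.mem_stabilizer_iff, MulAction.mem_stabilizer_iff, smul_set_eq, smul_set_eq]
  have h1 : (fun b' : Finset β => b'.image (e.permCongr σ)) '' B' =
      (fun b : Finset α => b.image e) '' ((fun b : Finset α => b.image σ) '' B) := by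
    rw [← he, Set.image_image, Set.image_image]
    apply Set.image_congr
    intro b _
    rw [Finset.image_image, Finset.image_image]
    apply Finset.image_congr
    intro y _
    simp [Equiv.permCongr_apply]
  rw [h1]
  constructor
  · intro h
    rw [← he] at h
    exact (Set.image_injective.mpr (Finset.image_injective e.injective)) h
  · intro h
    rw [h, he]

/-- the isomorphism of automorphism groups induced by an isomorphism of set systems -/
noncomputable def autEquiv : setSystemAut B ≃* setSystemAut B' where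
  toFun σ := ⟨e.permCongr σ, (permCongr_mem_iff e he σ).mpr σ.2⟩
  invFun τ := ⟨e.permCongr.symm τ, (permCongr_mem_iff e he _).mp (by
    rw [Equiv.apply_symm_apply]; exact τ.2)⟩
  left_inv σ := by
    apply Subtype.ext
    exact e.permCongr.symm_apply_apply σ
  right_inv τ := by
    apply Subtype.ext
    exact e.permCongr.apply_symm_apply τ
  map_mul' σ τ := by
    apply Subtype.ext
    exact e.permCongr_mul σ τ

theorem autEquiv_apply (σ : setSystemAut B) (x : α) :
    ((autEquiv e he σ : setSystemAut B') : Equiv.Perm β) (e x) = e ((σ : Equiv.Perm α) x) := by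
  show e.permCongr σ (e x) = _
  simp [Equiv.permCongr_apply]

theorem transport_simple (h : IsSimpleGroup (setSystemAut B')) : IsSimpleGroup (setSystemAut B) :=
  (autEquiv e he).isSimpleGroup

theorem transport_card : Nat.card (setSystemAut B) = Nat.card (setSystemAut B') :=
  Nat.card_congr (autEquiv e he).toEquiv

theorem transport_pretransitive (n : ℕ)
    (h : MulAction.IsMultiplyPretransitive (setSystemAut B') β n) :
    MulAction.IsMultiplyPretransitive (setSystemAut B) α n := by
  constructor
  intro x y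
  obtain ⟨k, hk⟩ := h.exists_smul_eq (x.trans e.toEmbedding) (y.trans e.toEmbedding)
  obtain ⟨σ, rfl⟩ := (autEquiv e he).surjective k
  refine ⟨σ, ?_⟩
  ext i
  have h1 := congrArg (fun f : Fin n ↪ β => f i) hk
  have h2 : ((autEquiv e he σ : setSystemAut B') : Equiv.Perm β) (e (x i)) = e (y i) := h1
  rw [autEquiv_apply] at h2
  exact e.injective h2

theorem transport_sharp (n : ℕ)
    (h : ∀ x : Fin n ↪ β, MulAction.stabilizer (setSystemAut B') x = ⊥) :
    ∀ x : Fin n ↪ α, MulAction.stabilizer (setSystemAut B) x = ⊥ := by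
  intro x
  rw [eq_bot_iff]
  intro σ hσ
  rw [Subgroup.mem_bot]
  have hσ' : σ • x = x := MulAction.mem_stabilizer_iff.mp hσ
  have h1 : autEquiv e he σ ∈ MulAction.stabilizer (setSystemAut B') (x.trans e.toEmbedding) := by
    rw [MulAction.mem_stabilizer_iff]
    ext i
    show ((autEquiv e he σ : setSystemAut B') : Equiv.Perm β) (e (x i)) = e (x i)
    rw [autEquiv_apply]
    congr 1
    exact congrArg (fun f : Fin n ↪ α => f i) hσ'
  rw [h, Subgroup.mem_bot] at h1
  exact (autEquiv e he).injective (by rw [h1, map_one])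

end Transport

/-- the centre of a 2-transitive permutation group on at least three points is trivial -/
theorem center_eq_bot_of_two_pretransitive {α : Type*} (K : Subgroup (Equiv.Perm α))
    (h2 : MulAction.IsMultiplyPretransitive K α 2) (h3 : ∀ a b : α, ∃ c, c ≠ a ∧ c ≠ b) :
    Subgroup.center K = ⊥ := by
  rw [eq_bot_iff]
  intro z hz
  rw [Subgroup.mem_bot]
  apply Subtype.ext
  apply Equiv.ext
  intro a
  show (z : Equiv.Perm α) a = a
  by_contra hne
  obtain ⟨c, hca, hcb⟩ := h3 a ((z : Equiv.Perm α) a)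
  have h2' : ∀ {a b c d : α} (_ : a ≠ b) (_ : c ≠ d), ∃ g : K, g • a = c ∧ g • b = d :=
    MulAction.is_two_pretransitive_iff.mp h2
  obtain ⟨g, hga, hgb⟩ := @h2' a ((z : Equiv.Perm α) a) a c (Ne.symm hne) (Ne.symm hca)
  have hcomm : g * z = z * g := (Subgroup.mem_center_iff.mp hz g)
  have h4 : ((g * z : K) : Equiv.Perm α) a = ((z * g : K) : Equiv.Perm α) a := by rw [hcomm]
  have hga' : (g : Equiv.Perm α) a = a := hga
  have hgb' : (g : Equiv.Perm α) ((z : Equiv.Perm α) a) = c := hgb
  rw [Subgroup.coe_mul, Subgroup.coe_mul, Equiv.Perm.mul_apply, Equiv.Perm.mul_apply, hga',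
    hgb'] at h4
  exact hcb h4

end Cfsg.Agent.Lib.H3.StS

namespace Cfsg.Agent.Lib.H3.StS

open Cfsg

variable {v : ℕ}

theorem permMask_ofFn (g : Fin v → Fin v) (s : Finset (Fin v)) :
    permMask (List.ofFn fun i : Fin v => ((g i : Fin v) : ℕ)) (mask s) = mask (s.image g) := by
  apply eq_mask_of_testBit
  intro j
  rw [permMask, testBit_permMaskAux]
  constructor
  · rintro ⟨k, hk, h1, h2⟩
    rw [zero_add, testBit_mask_true] at h1
    obtain ⟨hkv, hks⟩ := h1
    rw [List.getElem_ofFn] at h2
    have hj : j < v := by rw [← h2]; exact (g _).2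
    refine ⟨hj, ?_⟩
    rw [Finset.mem_image]
    exact ⟨⟨k, hkv⟩, hks, Fin.ext h2⟩
  · rintro ⟨hj, h⟩
    rw [Finset.mem_image] at h
    obtain ⟨k, hks, hk⟩ := h
    refine ⟨(k : ℕ), by rw [List.length_ofFn]; exact k.2, ?_, ?_⟩
    · rw [zero_add, testBit_mask_true]
      exact ⟨k.2, hks⟩
    · rw [List.getElem_ofFn]
      exact congrArg Fin.val hk

/-- invariance of a bitmap system under a map, from a check on masks -/
theorem image_mem_blocksOf (B0 : ℕ) (g : Fin v → Fin v)
    (hchk : ∀ m < 2 ^ v, B0.testBit m = true →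
      B0.testBit (permMask (List.ofFn fun i : Fin v => ((g i : Fin v) : ℕ)) m) = true)
    (b : Finset (Fin v)) (hb : b ∈ blocksOf v B0) : b.image g ∈ blocksOf v B0 := by
  show B0.testBit (mask (b.image g)) = true
  rw [← permMask_ofFn]
  exact hchk _ (mask_lt b) hb

/-- generation by elements of order `p` -/
theorem closure_pow_eq_top {G : Type*} [Group G] (H : Subgroup G) (T : Set G) (p : ℕ)
    (hT : ∀ x ∈ T, x ^ p = 1) (hH : H = Subgroup.closure T) :
    Subgroup.closure {x : H | x ^ p = 1} = ⊤ := by
  rw [eq_top_iff]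
  rintro ⟨x, hx⟩ _
  have hx' : x ∈ Subgroup.closure T := by rw [← hH]; exact hx
  have key : ∀ y (_ : y ∈ Subgroup.closure T),
      ∀ hyH : y ∈ H, (⟨y, hyH⟩ : H) ∈ Subgroup.closure {z : H | z ^ p = 1} := by
    intro y hy
    induction hy using Subgroup.closure_induction with
    | mem z hz =>
      intro hzH
      apply Subgroup.subset_closure
      show (⟨z, hzH⟩ : H) ^ p = 1
      apply Subtype.ext
      exact hT z hz
    | one => intro _; exact Subgroup.one_mem _
    | mul a b ha hb iha ihb =>
      intro _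
      have haH : a ∈ H := by rw [hH]; exact ha
      have hbH : b ∈ H := by rw [hH]; exact hb
      exact Subgroup.mul_mem _ (iha haH) (ihb hbH)
    | inv a ha iha =>
      intro _
      have haH : a ∈ H := by rw [hH]; exact ha
      exact Subgroup.inv_mem _ (iha haH)
  exact key x hx' hx

end Cfsg.Agent.Lib.H3.StS
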