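/-
helper3 library: a verified Schreier–Sims certificate checker for permutation groups on `Fin n`
generated by an explicit list of permutations.  All computations are done on words (lists of letter
indices) evaluated through lookup tables of natural numbers, so that the certificate can be checked
by kernel computation.
-/
import Mathlib

set_option autoImplicit false

namespace Cfsg.Agent.Lib.H3.SS

variable {n : ℕ}

/-! ### Letters and words -/

/-- The letters: `j < k` is the `j`-th generator, `k ≤ j < 2k` the inverse of the `(j-k)`-th generator;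
everything else is the identity. -/
def letter (G0 : List (Equiv.Perm (Fin n))) (j : ℕ) : Equiv.Perm (Fin n) :=
  if j < G0.length then G0.getD j 1 else (G0.getD (j - G0.length) 1)⁻¹

/-- the index of the inverse letter -/
def invL (k j : ℕ) : ℕ := if j < k then j + k else if j < 2 * k then j - k else j

theorem letter_invL (G0 : List (Equiv.Perm (Fin n))) (j : ℕ) :
    letter G0 (invL G0.length j) = (letter G0 j)⁻¹ := by
  unfold invL letter
  by_cases h1 : j < G0.length
  · rw [if_pos h1, if_pos h1, if_neg (by omega)]
    congr 2
    omega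
  · rw [if_neg h1, if_neg h1]
    by_cases h2 : j < 2 * G0.length
    · rw [if_pos h2, if_pos (by omega), inv_inv]
    · rw [if_neg h2, if_neg h1]
      have h3 : G0.getD (j - G0.length) 1 = 1 := List.getD_eq_default _ _ (by omega)
      rw [h3, inv_one, inv_one]

/-- the permutation of a word -/
def wp (G0 : List (Equiv.Perm (Fin n))) (w : List ℕ) : Equiv.Perm (Fin n) :=
  (w.map (letter G0)).prod

/-- the inverse word -/
def invW (k : ℕ) (w : List ℕ) : List ℕ := (w.map (invL k)).reverse

@[simp] theorem wp_nil (G0 : List (Equiv.Perm (Fin n))) : wp G0 [] = 1 := rfl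

theorem wp_cons (G0 : List (Equiv.Perm (Fin n))) (j : ℕ) (w : List ℕ) :
    wp G0 (j :: w) = letter G0 j * wp G0 w := by
  unfold wp
  rw [List.map_cons, List.prod_cons]

theorem wp_append (G0 : List (Equiv.Perm (Fin n))) (w1 w2 : List ℕ) :
    wp G0 (w1 ++ w2) = wp G0 w1 * wp G0 w2 := by
  unfold wp
  rw [List.map_append, List.prod_append]

theorem wp_invW (G0 : List (Equiv.Perm (Fin n))) (w : List ℕ) :
    wp G0 (invW G0.length w) = (wp G0 w)⁻¹ := by
  induction w with
  | nil => simp [invW]
  | cons j w ih =>
    have : invW G0.length (j :: w) = invW G0.length w ++ [invL G0.length j] := by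
      unfold invW
      rw [List.map_cons, List.reverse_cons]
    rw [this, wp_append, ih, wp_cons, wp_cons, wp_nil, mul_one, letter_invL, mul_inv_rev]

/-! ### Tables -/

/-- one step of table lookup -/
def step (tabs : List (List ℕ)) (j y : ℕ) : ℕ := (tabs.getD j []).getD y y

/-- evaluation of a word at a point through the tables -/
def ev (tabs : List (List ℕ)) (w : List ℕ) (x : ℕ) : ℕ := w.foldr (step tabs) x

/-- the tables describe the letters -/
def TabOK (G0 : List (Equiv.Perm (Fin n))) (tabs : List (List ℕ)) : Prop :=
  tabs.length = 2 * G0.length ∧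
    ∀ j < 2 * G0.length, ∀ x : Fin n, ((letter G0 j) x).val = step tabs j x.val

instance (G0 : List (Equiv.Perm (Fin n))) (tabs : List (List ℕ)) : Decidable (TabOK G0 tabs) := by
  unfold TabOK
  infer_instance

theorem letter_eq_step {G0 : List (Equiv.Perm (Fin n))} {tabs : List (List ℕ)} (h : TabOK G0 tabs)
    (j : ℕ) (x : Fin n) : ((letter G0 j) x).val = step tabs j x.val := by
  by_cases hj : j < 2 * G0.length
  · exact h.2 j hj x
  · have h1 : letter G0 j = 1 := by
      unfold letter
      rw [if_neg (by omega), List.getD_eq_default _ _ (by omega), inv_one]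
    have h2 : tabs.getD j [] = [] := List.getD_eq_default _ _ (by have := h.1; omega)
    rw [h1]
    unfold step
    rw [h2]
    simp

theorem ev_eq {G0 : List (Equiv.Perm (Fin n))} {tabs : List (List ℕ)} (h : TabOK G0 tabs)
    (w : List ℕ) (x : Fin n) : ((wp G0 w) x).val = ev tabs w x.val := by
  induction w with
  | nil => rfl
  | cons j w ih =>
    rw [wp_cons, Equiv.Perm.mul_apply, letter_eq_step h, ih]
    rfl

theorem ev_append (tabs : List (List ℕ)) (w1 w2 : List ℕ) (x : ℕ) :
    ev tabs (w1 ++ w2) x = ev tabs w1 (ev tabs w2 x) := by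
  unfold ev
  rw [List.foldr_append]

/-! ### Levels and chains -/

/-- A level of a stabilizer chain: base point, generating words, meta-words for the transversal,
the flattened transversal words and the images of the base point. -/
structure Level where
  b : ℕ
  gens : List (List ℕ)
  Tm : List (List ℕ)
  T : List (List ℕ)
  imgs : List ℕ

/-- flattening of a meta-word over `gens`: the index `j < |gens|` stands for `gens[j]`,
`|gens| + j` for its inverse -/
def flat (k : ℕ) (gens : List (List ℕ)) (m : List ℕ) : List ℕ :=
  m.flatMap (fun j => if j < gens.length then gens.getD j [] else invW k (gens.getD (j - gens.length) []))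

/-- the subgroup generated by the words of a level -/
def Kl (G0 : List (Equiv.Perm (Fin n))) (l : Level) : Subgroup (Equiv.Perm (Fin n)) :=
  Subgroup.closure {g | ∃ w ∈ l.gens, wp G0 w = g}

/-- the group of a chain: that of its first level -/
def Kc (G0 : List (Equiv.Perm (Fin n))) : List Level → Subgroup (Equiv.Perm (Fin n))
  | [] => ⊥
  | l :: _ => Kl G0 l

theorem wp_getD_mem (G0 : List (Equiv.Perm (Fin n))) (l : Level) (j : ℕ) :
    wp G0 (l.gens.getD j []) ∈ Kl G0 l := by
  by_cases h : j < l.gens.length
  · rw [List.getD_eq_getElem _ _ h]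
    exact Subgroup.subset_closure ⟨_, List.getElem_mem _, rfl⟩
  · rw [List.getD_eq_default _ _ (not_lt.1 h), wp_nil]
    exact Subgroup.one_mem _

theorem wp_flat_mem (G0 : List (Equiv.Perm (Fin n))) (l : Level) (m : List ℕ) :
    wp G0 (flat G0.length l.gens m) ∈ Kl G0 l := by
  induction m with
  | nil => exact Subgroup.one_mem _
  | cons j m ih =>
    unfold flat at ih ⊢
    rw [List.flatMap_cons, wp_append]
    refine Subgroup.mul_mem _ ?_ ih
    split_ifs
    · exact wp_getD_mem G0 l j
    · rw [wp_invW]
      exact Subgroup.inv_mem _ (wp_getD_mem G0 l _)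

/-- the set of products of transversal elements along a chain -/
def prodSet (G0 : List (Equiv.Perm (Fin n))) : List Level → Set (Equiv.Perm (Fin n))
  | [] => {1}
  | l :: rest => {g | ∃ u ∈ l.T, ∃ h ∈ prodSet G0 rest, g = wp G0 u * h}

/-- sifting a word through a chain -/
def siftW (n k : ℕ) (tabs : List (List ℕ)) : List Level → List ℕ → Bool
  | [], w => (List.range n).all fun x => ev tabs w x == x
  | l :: rest, w =>
    (l.T.zip l.imgs).any fun p => p.2 == ev tabs w l.b && siftW n k tabs rest (invW k p.1 ++ w)

theorem siftW_sound {G0 : List (Equiv.Perm (Fin n))} {tabs : List (List ℕ)} (h : TabOK G0 tabs) :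
    ∀ (c : List Level) (w : List ℕ), siftW n G0.length tabs c w = true → wp G0 w ∈ prodSet G0 c
  | [], w, hw => by
    unfold siftW at hw
    rw [List.all_eq_true] at hw
    show wp G0 w = 1
    ext x
    rw [ev_eq h]
    have := hw x.val (List.mem_range.2 x.isLt)
    rw [beq_iff_eq] at this
    rw [this]
    rfl
  | l :: rest, w, hw => by
    unfold siftW at hw
    rw [List.any_eq_true] at hw
    obtain ⟨p, hp, hp2⟩ := hw
    rw [Bool.and_eq_true] at hp2
    have h1 := siftW_sound h rest _ hp2.2
    rw [wp_append, wp_invW] at h1
    refine ⟨p.1, (List.of_mem_zip hp).1, _, h1, ?_⟩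
    rw [mul_inv_cancel_left]

/-- Boolean test that a list has no duplicates. -/
def nodupB : List ℕ → Bool
  | [] => true
  | a :: l => !(l.contains a) && nodupB l

theorem nodupB_sound : ∀ {l : List ℕ}, nodupB l = true → l.Nodup
  | [], _ => List.nodup_nil
  | a :: l, h => by
    unfold nodupB at h
    rw [Bool.and_eq_true, Bool.not_eq_true', List.contains_eq_mem, decide_eq_false_iff_not] at h
    exact List.nodup_cons.2 ⟨h.1, nodupB_sound h.2⟩

/-- the check of one level against the rest of the chain -/
def levelCheck (n k : ℕ) (tabs : List (List ℕ)) (l : Level) (rest : List Level) : Bool :=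
  decide (l.b < n) &&
  (l.T == l.Tm.map (flat k l.gens)) &&
  (l.imgs == l.T.map (fun u => ev tabs u l.b)) &&
  (l.T.head? == some []) &&
  nodupB l.imgs &&
  (match rest with
    | [] => true
    | l' :: _ => l'.gens.all (fun w => l.gens.contains w && ev tabs w l.b == l.b)) &&
  l.gens.all (fun s => l.T.all (fun u =>
    (l.T.zip l.imgs).any (fun p => p.2 == ev tabs (s ++ u) l.b &&
      siftW n k tabs rest (invW k p.1 ++ (s ++ u)))))

/-- the check of a whole chain -/
def chainCheck (n k : ℕ) (tabs : List (List ℕ)) : List Level → Bool
  | [] => true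
  | l :: rest => levelCheck n k tabs l rest && chainCheck n k tabs rest

end Cfsg.Agent.Lib.H3.SS
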