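/-
helper3 library: soundness of the Schreier–Sims certificate checker of `SchreierSims.lean`:
the group of a checked chain is the product of its transversals; order, point stabilizer, orbits.
-/
import Cfsg.Agent.Lib.H3.SchreierSims

set_option autoImplicit false

namespace Cfsg.Agent.Lib.H3.SS

variable {n : ℕ}

/-- in a finite group, a set containing `1` and stable under left multiplication by the elements of `S`
contains the subgroup generated by `S` -/
theorem closure_subset_of_mul_mem {Γ : Type*} [Group Γ] [Finite Γ] (S A : Set Γ) (h1 : (1 : Γ) ∈ A)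
    (hS : ∀ s ∈ S, ∀ a ∈ A, s * a ∈ A) : (Subgroup.closure S : Set Γ) ⊆ A := by
  have key : ∀ g ∈ Subgroup.closure S, ∀ a ∈ A, g * a ∈ A := by
    intro g hg
    induction hg using Subgroup.closure_induction with
    | mem s hs => exact hS s hs
    | one => intro a ha; rwa [one_mul]
    | mul x y _ _ hx hy => intro a ha; rw [mul_assoc]; exact hx _ (hy a ha)
    | inv x _ hx =>
      have hpow : ∀ m : ℕ, ∀ a ∈ A, x ^ m * a ∈ A := by
        intro m
        induction m with
        | zero => intro a ha; rwa [pow_zero, one_mul]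
        | succ m ih => intro a ha; rw [pow_succ, mul_assoc]; exact ih _ (hx a ha)
      have hinv : x ^ (orderOf x - 1) = x⁻¹ := by
        apply eq_inv_of_mul_eq_one_left
        rw [← pow_succ, Nat.sub_add_cancel (orderOf_pos x), pow_orderOf_eq_one]
      rw [← hinv]
      exact hpow _
  intro g hg
  have := key g hg 1 h1
  rwa [mul_one] at this

/-- the facts checked by `levelCheck` -/
structure LevelOK (n k : ℕ) (tabs : List (List ℕ)) (l : Level) (rest : List Level) : Prop where
  hb : l.b < n
  hT : l.T = l.Tm.map (flat k l.gens)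
  himgs : l.imgs = l.T.map (fun u => ev tabs u l.b)
  hhead : l.T.head? = some []
  hnd : l.imgs.Nodup
  hrest : ∀ l' ∈ rest.head?, ∀ w ∈ l'.gens, w ∈ l.gens ∧ ev tabs w l.b = l.b
  hsch : ∀ s ∈ l.gens, ∀ u ∈ l.T, ∃ p ∈ l.T.zip l.imgs,
    siftW n k tabs rest (invW k p.1 ++ (s ++ u)) = true

theorem levelOK_of_check {k : ℕ} {tabs : List (List ℕ)} {l : Level} {rest : List Level}
    (h : levelCheck n k tabs l rest = true) : LevelOK n k tabs l rest := by
  unfold levelCheck at h
  simp only [Bool.and_eq_true, decide_eq_true_eq, beq_iff_eq, List.all_eq_true, List.any_eq_true] at h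
  obtain ⟨⟨⟨⟨⟨⟨h1, h2⟩, h3⟩, h4⟩, h5⟩, h6⟩, h7⟩ := h
  refine ⟨h1, h2, h3, h4, nodupB_sound h5, ?_, ?_⟩
  · intro l' hl' w hw
    cases rest with
    | nil => simp at hl'
    | cons l'' r =>
      simp only [List.head?_cons, Option.mem_def, Option.some.injEq] at hl'
      subst hl'
      simp only [List.all_eq_true, Bool.and_eq_true, List.contains_eq_mem, decide_eq_true_eq,
        beq_iff_eq] at h6
      exact h6 w hw
  · intro s hs u hu
    obtain ⟨p, hp, hp2⟩ := h7 s hs u hu
    exact ⟨p, hp, hp2.2⟩

variable {G0 : List (Equiv.Perm (Fin n))} {tabs : List (List ℕ)}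

theorem mem_T_wp_mem {l : Level} {rest : List Level} (hl : LevelOK n G0.length tabs l rest)
    {u : List ℕ} (hu : u ∈ l.T) : wp G0 u ∈ Kl G0 l := by
  rw [hl.hT, List.mem_map] at hu
  obtain ⟨m, _, rfl⟩ := hu
  exact wp_flat_mem G0 l m

theorem Kc_rest_le {l : Level} {rest : List Level} (hl : LevelOK n G0.length tabs l rest) :
    Kc G0 rest ≤ Kl G0 l := by
  cases rest with
  | nil => exact bot_le
  | cons l' r =>
    show Kl G0 l' ≤ Kl G0 l
    unfold Kl
    apply Subgroup.closure_mono
    rintro g ⟨w, hw, rfl⟩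
    exact ⟨w, (hl.hrest l' (by simp) w hw).1, rfl⟩

theorem Kc_rest_fix (htab : TabOK G0 tabs) {l : Level} {rest : List Level}
    (hl : LevelOK n G0.length tabs l rest) {g : Equiv.Perm (Fin n)} (hg : g ∈ Kc G0 rest) :
    g ⟨l.b, hl.hb⟩ = ⟨l.b, hl.hb⟩ := by
  cases rest with
  | nil =>
    have : g = 1 := Subgroup.mem_bot.1 hg
    rw [this]; rfl
  | cons l' r =>
    have hle : Kl G0 l' ≤ MulAction.stabilizer (Equiv.Perm (Fin n)) (⟨l.b, hl.hb⟩ : Fin n) := by
      unfold Kl
      rw [Subgroup.closure_le]
      rintro g ⟨w, hw, rfl⟩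
      show wp G0 w • (⟨l.b, hl.hb⟩ : Fin n) = ⟨l.b, hl.hb⟩
      rw [Equiv.Perm.smul_def]
      apply Fin.ext
      rw [ev_eq htab]
      exact (hl.hrest l' (by simp) w hw).2
    exact hle hg

theorem chain_main (htab : TabOK G0 tabs) :
    ∀ c : List Level, chainCheck n G0.length tabs c = true →
      SetLike.coe (Kc G0 c) = prodSet G0 c
  | [], _ => by
    show SetLike.coe (⊥ : Subgroup (Equiv.Perm (Fin n))) = {1}
    exact Subgroup.coe_bot
  | l :: rest, h => by
    unfold chainCheck at h
    rw [Bool.and_eq_true] at h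
    have hl := levelOK_of_check h.1
    have ih := chain_main htab rest h.2
    apply Set.Subset.antisymm
    · show SetLike.coe (Kl G0 l) ⊆ _
      unfold Kl
      apply closure_subset_of_mul_mem
      · refine ⟨[], ?_, 1, ?_, ?_⟩
        · have := hl.hhead
          cases hT : l.T with
          | nil => rw [hT] at this; simp at this
          | cons a t => rw [hT] at this; simp at this; subst this; simp
        · rw [← ih]; exact Subgroup.one_mem _
        · simp
      · rintro s ⟨w0, hw0, rfl⟩ a ⟨u, hu, hh, hhh, rfl⟩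
        obtain ⟨p, hp, hp2⟩ := hl.hsch w0 hw0 u hu
        have h1 := siftW_sound htab rest _ hp2
        rw [← ih, wp_append, wp_append, wp_invW] at h1
        rw [← ih] at hhh
        refine ⟨p.1, (List.of_mem_zip hp).1,
          (wp G0 p.1)⁻¹ * (wp G0 w0 * wp G0 u) * hh, ?_, ?_⟩
        · rw [← ih]
          exact Subgroup.mul_mem _ h1 hhh
        · group
    · rintro g ⟨u, hu, hh, hhh, rfl⟩
      rw [← ih] at hhh
      exact Subgroup.mul_mem _ (mem_T_wp_mem hl hu) (Kc_rest_le hl hhh)

/-- distinct transversal words have distinct images -/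
theorem T_inj {l : Level} {rest : List Level} (hl : LevelOK n G0.length tabs l rest)
    {u u' : List ℕ} (hu : u ∈ l.T) (hu' : u' ∈ l.T) (h : ev tabs u l.b = ev tabs u' l.b) : u = u' := by
  have hnd := hl.hnd
  rw [hl.himgs] at hnd
  exact List.inj_on_of_nodup_map hnd hu hu' h

theorem nil_mem_T {l : Level} {rest : List Level} (hl : LevelOK n G0.length tabs l rest) :
    [] ∈ l.T := by
  have := hl.hhead
  cases hT : l.T with
  | nil => rw [hT] at this; simp at this
  | cons a t => rw [hT] at this; simp at this; subst this; simp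

/-- the stabilizer of the base point in the group of a chain is the group of the rest of the chain -/
theorem mem_Kc_rest_of_fix (htab : TabOK G0 tabs) {l : Level} {rest : List Level}
    (h : chainCheck n G0.length tabs (l :: rest) = true) {g : Equiv.Perm (Fin n)}
    (hg : g ∈ Kc G0 (l :: rest)) (x : Fin n) (hx : x.val = l.b) (hgx : g x = x) :
    g ∈ Kc G0 rest := by
  have hmain := chain_main htab _ h
  unfold chainCheck at h
  rw [Bool.and_eq_true] at h
  have hl := levelOK_of_check h.1
  have ih := chain_main htab rest h.2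
  have hg' : g ∈ SetLike.coe (Kc G0 (l :: rest)) := hg
  rw [hmain] at hg'
  obtain ⟨u, hu, k, hk, rfl⟩ := hg'
  rw [← ih] at hk
  have hxb : x = ⟨l.b, hl.hb⟩ := Fin.ext hx
  rw [hxb, Equiv.Perm.mul_apply, Kc_rest_fix htab hl hk] at hgx
  have h1 : ev tabs u l.b = ev tabs [] l.b := by
    have := congrArg Fin.val hgx
    rw [ev_eq htab] at this
    exact this
  have h2 := T_inj hl hu (nil_mem_T hl) h1
  subst h2
  rw [wp_nil, one_mul]
  exact hk

/-- the order of the group of a chain -/
theorem card_Kc (htab : TabOK G0 tabs) :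
    ∀ c : List Level, chainCheck n G0.length tabs c = true →
      Nat.card (Kc G0 c) = (c.map (fun l => l.T.length)).prod
  | [], _ => by
    show Nat.card (⊥ : Subgroup (Equiv.Perm (Fin n))) = _
    simp
  | l :: rest, h => by
    have hmain := chain_main htab _ h
    have h' := h
    unfold chainCheck at h'
    rw [Bool.and_eq_true] at h'
    have hl := levelOK_of_check h'.1
    have ih := chain_main htab rest h'.2
    have ihc := card_Kc htab rest h'.2
    rw [List.map_cons, List.prod_cons, ← ihc]
    let φ : Fin l.T.length × Kc G0 rest → Kc G0 (l :: rest) := fun p =>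
      ⟨wp G0 (l.T.get p.1) * (p.2 : Equiv.Perm (Fin n)), by
        show _ ∈ SetLike.coe (Kc G0 (l :: rest))
        rw [hmain]
        refine ⟨_, List.get_mem _ _, _, ?_, rfl⟩
        rw [← ih]
        exact p.2.2⟩
    have hφ : Function.Bijective φ := by
      constructor
      · rintro ⟨i, k1⟩ ⟨j, k2⟩ hij
        have hij' : wp G0 (l.T.get i) * (k1 : Equiv.Perm (Fin n)) = wp G0 (l.T.get j) * k2 :=
          congrArg Subtype.val hij
        have h1 := congrArg (fun g : Equiv.Perm (Fin n) => (g ⟨l.b, hl.hb⟩).val) hij'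
        simp only [Equiv.Perm.mul_apply] at h1
        rw [Kc_rest_fix htab hl k1.2, Kc_rest_fix htab hl k2.2, ev_eq htab, ev_eq htab] at h1
        have h2 := T_inj hl (List.get_mem _ _) (List.get_mem _ _) h1
        have hnd : l.T.Nodup := by
          have := hl.hnd
          rw [hl.himgs] at this
          exact List.Nodup.of_map _ this
        have h3 : i = j := (List.Nodup.get_inj_iff hnd).1 h2
        subst h3
        have h4 : (k1 : Equiv.Perm (Fin n)) = k2 := mul_left_cancel hij'
        rw [Prod.mk.injEq]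
        exact ⟨rfl, Subtype.ext h4⟩
      · rintro ⟨g, hg⟩
        have hg' : g ∈ SetLike.coe (Kc G0 (l :: rest)) := hg
        rw [hmain] at hg'
        obtain ⟨u, hu, k, hk, rfl⟩ := hg'
        rw [← ih] at hk
        obtain ⟨i, hi⟩ := List.get_of_mem hu
        refine ⟨(i, ⟨k, hk⟩), ?_⟩
        apply Subtype.ext
        show wp G0 (l.T.get i) * k = wp G0 u * k
        rw [hi]
    rw [← Nat.card_congr (Equiv.ofBijective φ hφ), Nat.card_prod, Nat.card_fin]

/-- every listed image is in the orbit of the base point -/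
theorem exists_of_mem_imgs (htab : TabOK G0 tabs) {l : Level} {rest : List Level}
    (hl : LevelOK n G0.length tabs l rest) {z : ℕ} (hz : z ∈ l.imgs) :
    ∃ g ∈ Kl G0 l, (g ⟨l.b, hl.hb⟩).val = z := by
  rw [hl.himgs, List.mem_map] at hz
  obtain ⟨u, hu, rfl⟩ := hz
  exact ⟨wp G0 u, mem_T_wp_mem hl hu, ev_eq htab u _⟩

end Cfsg.Agent.Lib.H3.SS
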