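/-
helper3 library: multiple transitivity and sharpness from a checked Schreier–Sims chain whose
orbits are as large as possible.
-/
import Cfsg.Agent.Lib.H3.SchreierSims2

set_option autoImplicit false

namespace Cfsg.Agent.Lib.H3.SS

variable {n : ℕ}

theorem perm_inv_apply {α : Type*} (g : Equiv.Perm α) (x : α) : g⁻¹ (g x) = x := g.symm_apply_apply x

theorem perm_apply_inv {α : Type*} (g : Equiv.Perm α) (x : α) : g (g⁻¹ x) = x := g.apply_symm_apply x

/-- the action of a permutation of `Fin n` on natural numbers -/
def act (g : Equiv.Perm (Fin n)) (x : ℕ) : ℕ := if h : x < n then (g ⟨x, h⟩).val else x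

theorem act_val (g : Equiv.Perm (Fin n)) (x : Fin n) : act g x.val = (g x).val := by
  unfold act
  rw [dif_pos x.isLt]

theorem act_lt_iff (g : Equiv.Perm (Fin n)) (x : ℕ) : act g x < n ↔ x < n := by
  unfold act
  by_cases h : x < n
  · rw [dif_pos h]
    exact ⟨fun _ => h, fun _ => Fin.isLt _⟩
  · rw [dif_neg h]

theorem act_mul (g h : Equiv.Perm (Fin n)) (x : ℕ) : act (g * h) x = act g (act h x) := by
  by_cases hx : x < n
  · have : x = (⟨x, hx⟩ : Fin n).val := rfl
    rw [this, act_val, act_val, act_val, Equiv.Perm.mul_apply]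
  · unfold act
    rw [dif_neg hx, dif_neg hx, dif_neg hx]

/-- every point outside the earlier base points is in the orbit of the base point, at each level -/
def fullCheck (n : ℕ) : List ℕ → List Level → Bool
  | _, [] => true
  | F, l :: rest =>
    ((List.range n).all fun x => F.contains x || l.imgs.contains x) && fullCheck n (l.b :: F) rest

variable {G0 : List (Equiv.Perm (Fin n))} {tabs : List (List ℕ)}

theorem exists_map (htab : TabOK G0 tabs) :
    ∀ (c : List Level) (F : List ℕ), chainCheck n G0.length tabs c = true → fullCheck n F c = true →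
      (∀ g ∈ Kc G0 c, ∀ x : Fin n, x.val ∈ F → g x = x) →
      ∀ y : List (Fin n), y.length = c.length → y.Nodup → (∀ x ∈ y, x.val ∉ F) →
        ∃ g ∈ Kc G0 c, c.map (fun l => act g l.b) = y.map Fin.val
  | [], F, _, _, _, y, hlen, _, _ => by
    have : y = [] := List.length_eq_zero_iff.1 hlen
    subst this
    exact ⟨1, Subgroup.one_mem _, rfl⟩
  | l :: rest, F, hc, hf, hF, y, hlen, hnd, hyF => by
    have hc' := hc
    unfold chainCheck at hc'
    rw [Bool.and_eq_true] at hc'
    have hl := levelOK_of_check hc'.1
    unfold fullCheck at hf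
    rw [Bool.and_eq_true, List.all_eq_true] at hf
    cases y with
    | nil => simp at hlen
    | cons y0 y' =>
      rw [List.nodup_cons] at hnd
      have hy0 : y0.val ∈ l.imgs := by
        have := hf.1 y0.val (List.mem_range.2 y0.isLt)
        rw [Bool.or_eq_true, List.contains_eq_mem, List.contains_eq_mem, decide_eq_true_eq,
          decide_eq_true_eq] at this
        rcases this with h | h
        · exact absurd h (hyF y0 (List.mem_cons_self))
        · exact h
      obtain ⟨g0, hg0, hg0b⟩ := exists_of_mem_imgs htab hl hy0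
      have hg0b' : g0 ⟨l.b, hl.hb⟩ = y0 := Fin.ext hg0b
      have hrestF : ∀ g ∈ Kc G0 rest, ∀ x : Fin n, x.val ∈ l.b :: F → g x = x := by
        intro g hg x hx
        rw [List.mem_cons] at hx
        rcases hx with hx | hx
        · have : x = ⟨l.b, hl.hb⟩ := Fin.ext hx
          rw [this]
          exact Kc_rest_fix htab hl hg
        · exact hF g (Kc_rest_le hl hg) x hx
      have h1 : (y'.map (⇑g0⁻¹)).length = rest.length := by
        rw [List.length_map]
        simpa using hlen
      have h2 : (y'.map (⇑g0⁻¹)).Nodup := List.Nodup.map (Equiv.injective _) hnd.2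
      have h3 : ∀ x ∈ y'.map (⇑g0⁻¹), x.val ∉ l.b :: F := by
        intro x hx
        rw [List.mem_map] at hx
        obtain ⟨x', hx', rfl⟩ := hx
        rw [List.mem_cons, not_or]
        constructor
        · intro hb
          have : g0⁻¹ x' = ⟨l.b, hl.hb⟩ := Fin.ext hb
          have h4 : x' = y0 := by
            rw [← hg0b', ← this, perm_apply_inv]
          rw [h4] at hx'
          exact hnd.1 hx'
        · intro hxF
          have h4 := hF g0 hg0 _ hxF
          rw [perm_apply_inv] at h4
          rw [← h4] at hxF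
          exact hyF x' (List.mem_cons_of_mem _ hx') hxF
      obtain ⟨k, hk, hk2⟩ := exists_map htab rest (l.b :: F) hc'.2 hf.2 hrestF _ h1 h2 h3
      refine ⟨g0 * k, Subgroup.mul_mem _ hg0 (Kc_rest_le hl hk), ?_⟩
      rw [List.map_cons, List.map_cons]
      congr 1
      · rw [act_mul]
        have : l.b = (⟨l.b, hl.hb⟩ : Fin n).val := rfl
        rw [this, act_val, Kc_rest_fix htab hl hk, act_val, hg0b']
      · have h5 : rest.map (fun l' => act (g0 * k) l'.b) =
            (rest.map (fun l' => act k l'.b)).map (act g0) := by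
          rw [List.map_map]
          apply List.map_congr_left
          intro l' _
          exact act_mul g0 k l'.b
        rw [h5, hk2, List.map_map, List.map_map]
        apply List.map_congr_left
        intro x _
        show act g0 ((g0⁻¹ x).val) = x.val
        rw [act_val, perm_apply_inv]

/-- an element of the group of a chain fixing all base points is trivial -/
theorem eq_one_of_fix (htab : TabOK G0 tabs) :
    ∀ (c : List Level), chainCheck n G0.length tabs c = true → ∀ g ∈ Kc G0 c,
      (∀ l ∈ c, act g l.b = l.b) → g = 1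
  | [], _, g, hg, _ => Subgroup.mem_bot.1 hg
  | l :: rest, hc, g, hg, hfix => by
    have hc' := hc
    unfold chainCheck at hc'
    rw [Bool.and_eq_true] at hc'
    have hl := levelOK_of_check hc'.1
    have h1 := hfix l (List.mem_cons_self)
    have h2 : g ⟨l.b, hl.hb⟩ = ⟨l.b, hl.hb⟩ := by
      apply Fin.ext
      rw [← act_val]
      exact h1
    have h3 := mem_Kc_rest_of_fix htab hc hg ⟨l.b, hl.hb⟩ rfl h2
    exact eq_one_of_fix htab rest hc'.2 g h3 (fun l' hl' => hfix l' (List.mem_cons_of_mem _ hl'))

/-- the base points as a tuple: any injective tuple is the image of the base tuple -/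
theorem exists_map_emb (htab : TabOK G0 tabs) (c : List Level)
    (hc : chainCheck n G0.length tabs c = true) (hf : fullCheck n [] c = true)
    (y : Fin c.length ↪ Fin n) :
    ∃ g ∈ Kc G0 c, ∀ i : Fin c.length, act g (c.get i).b = (y i).val := by
  obtain ⟨g, hg, hg2⟩ := exists_map htab c [] hc hf (fun _ _ _ hx => by simp at hx)
    (List.ofFn y) (by simp) (List.nodup_ofFn.2 y.injective) (fun _ _ => by simp)
  refine ⟨g, hg, fun i => ?_⟩
  have h1 := congrArg (fun L : List ℕ => L[i.val]?) hg2
  simp only [List.getElem?_map, List.getElem?_ofFn] at h1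
  rw [List.getElem?_eq_getElem i.isLt, dif_pos i.isLt] at h1
  simpa using h1

theorem isMultiplyPretransitive (htab : TabOK G0 tabs) (c : List Level)
    (hc : chainCheck n G0.length tabs c = true) (hf : fullCheck n [] c = true) :
    MulAction.IsMultiplyPretransitive (Kc G0 c) (Fin n) c.length := by
  refine ⟨fun x y => ?_⟩
  obtain ⟨gx, hgx, hx⟩ := exists_map_emb htab c hc hf x
  obtain ⟨gy, hgy, hy⟩ := exists_map_emb htab c hc hf y
  refine ⟨⟨gy * gx⁻¹, Subgroup.mul_mem _ hgy (Subgroup.inv_mem _ hgx)⟩, ?_⟩
  ext i
  have hb : (c.get i).b < n := by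
    rw [← act_lt_iff gx, hx i]
    exact Fin.isLt _
  have h1 : gx ⟨(c.get i).b, hb⟩ = x i := by
    apply Fin.ext
    rw [← act_val]
    exact hx i
  have h2 : gy ⟨(c.get i).b, hb⟩ = y i := by
    apply Fin.ext
    rw [← act_val]
    exact hy i
  show ((gy * gx⁻¹) (x i)).val = (y i).val
  rw [← h1, Equiv.Perm.mul_apply, perm_inv_apply, h2]

theorem stabilizer_eq_bot (htab : TabOK G0 tabs) (c : List Level)
    (hc : chainCheck n G0.length tabs c = true) (hf : fullCheck n [] c = true)
    (y : Fin c.length ↪ Fin n) : MulAction.stabilizer (Kc G0 c) y = ⊥ := by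
  rw [Subgroup.eq_bot_iff_forall]
  rintro ⟨h, hh⟩ hst
  rw [MulAction.mem_stabilizer_iff] at hst
  obtain ⟨gy, hgy, hy⟩ := exists_map_emb htab c hc hf y
  have key : gy⁻¹ * h * gy = 1 := by
    apply eq_one_of_fix htab c hc _
      (Subgroup.mul_mem _ (Subgroup.mul_mem _ (Subgroup.inv_mem _ hgy) hh) hgy)
    intro l hl
    obtain ⟨i, rfl⟩ := List.get_of_mem hl
    have hb : (c.get i).b < n := by
      rw [← act_lt_iff gy, hy i]
      exact Fin.isLt _
    have h2 : gy ⟨(c.get i).b, hb⟩ = y i := by
      apply Fin.ext
      rw [← act_val]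
      exact hy i
    have h3 : h (y i) = y i := by
      have := congrArg (fun e : Fin c.length ↪ Fin n => e i) hst
      exact this
    have : (c.get i).b = (⟨(c.get i).b, hb⟩ : Fin n).val := rfl
    rw [this, act_val, Equiv.Perm.mul_apply, Equiv.Perm.mul_apply, h2, h3, ← h2,
      perm_inv_apply]
  apply Subtype.ext
  show h = 1
  have : h = gy * (gy⁻¹ * h * gy) * gy⁻¹ := by group
  rw [this, key, mul_one, mul_inv_cancel]

end Cfsg.Agent.Lib.H3.SS
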