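import Mathlib
import Cfsg.Agent.S3362
import Cfsg.Agent.Lib.H3.SteinerUnique
import Cfsg.Agent.Lib.H3.SteinerAut
import Cfsg.Agent.Lib.H3.SimpleP
import Cfsg.Prelude.Def_Sporadic

set_option autoImplicit false
set_option maxRecDepth 1000000

/-! # The automorphism group of the reference `S(5, 6, 12)` is `M₁₂` -/

namespace Cfsg.Agent.Lib.H3.StS

open Cfsg Cfsg.Agent.S3362 Cfsg.Agent.Lib.H3.SS

/-- `M₁₂` as generated by the eight permutations of S3362 -/
def K12 : Subgroup (Equiv.Perm (Fin 12)) := Subgroup.closure {gs, gt, gu, gv, gw, gx1, gx2, gx3}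

theorem gen_mem12 (g : Equiv.Perm (Fin 12))
    (hchk : ∀ m < 2 ^ 12, St12.B0.testBit m = true →
      St12.B0.testBit (permMask (List.ofFn fun i : Fin 12 => ((g i : Fin 12) : ℕ)) m) = true) :
    g ∈ setSystemAut std12 :=
  mem_aut_of_forall (by norm_num) std12_steiner (image_mem_blocksOf St12.B0 g hchk)

theorem gs_mem12 : gs ∈ setSystemAut std12 := gen_mem12 gs (by decide +kernel)
theorem gt_mem12 : gt ∈ setSystemAut std12 := gen_mem12 gt (by decide +kernel)
theorem gu_mem12 : gu ∈ setSystemAut std12 := gen_mem12 gu (by decide +kernel)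
theorem gv_mem12 : gv ∈ setSystemAut std12 := gen_mem12 gv (by decide +kernel)
theorem gw_mem12 : gw ∈ setSystemAut std12 := gen_mem12 gw (by decide +kernel)
theorem gx1_mem12 : gx1 ∈ setSystemAut std12 := gen_mem12 gx1 (by decide +kernel)
theorem gx2_mem12 : gx2 ∈ setSystemAut std12 := gen_mem12 gx2 (by decide +kernel)
theorem gx3_mem12 : gx3 ∈ setSystemAut std12 := gen_mem12 gx3 (by decide +kernel)

theorem K12_le : K12 ≤ setSystemAut std12 := by
  unfold K12
  rw [Subgroup.closure_le]
  intro g hg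
  simp only [Set.mem_insert_iff, Set.mem_singleton_iff] at hg
  rcases hg with rfl | rfl | rfl | rfl | rfl | rfl | rfl | rfl
  · exact gs_mem12
  · exact gt_mem12
  · exact gu_mem12
  · exact gv_mem12
  · exact gw_mem12
  · exact gx1_mem12
  · exact gx2_mem12
  · exact gx3_mem12

theorem mem_std12 (b : Finset (Fin 12)) : b ∈ std12 ↔ St12.B0.testBit (mask b) = true := Iff.rfl

theorem pair12_a : ∀ a d : Fin 12,
    St12.B0.testBit (mask (insert a (insert d ({0, 1, 3, 4} : Finset (Fin 12))))) = true →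
    St12.B0.testBit (mask (insert a (insert d ({0, 2, 3, 5} : Finset (Fin 12))))) = true →
    (a = 6 ∧ d = 7) ∨ (a = 7 ∧ d = 6) := by decide +kernel

theorem pair12_b : ∀ a d : Fin 12,
    St12.B0.testBit (mask (insert a (insert d ({0, 1, 3, 5} : Finset (Fin 12))))) = true →
    St12.B0.testBit (mask (insert a (insert d ({0, 2, 4, 5} : Finset (Fin 12))))) = true →
    (a = 6 ∧ d = 8) ∨ (a = 8 ∧ d = 6) := by decide +kernel

/-- an automorphism of the reference system fixing five points is trivial -/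
theorem rigid12 (τ : Equiv.Perm (Fin 12)) (hτ : τ ∈ setSystemAut std12) (h0 : τ 0 = 0)
    (h1 : τ 1 = 1) (h2 : τ 2 = 2) (h3 : τ 3 = 3) (h4 : τ 4 = 4) : τ = 1 := by
  have hB := std12_steiner
  have h5 : τ 5 = 5 := fix_of_block hB hτ {0, 1, 2, 3, 4} (by decide) (by
    intro y hy
    simp only [Finset.mem_insert, Finset.mem_singleton] at hy
    rcases hy with rfl | rfl | rfl | rfl | rfl <;> assumption) 5 (by decide)
    ((mem_std12 _).mpr (by decide +kernel))
  have hfix : ∀ S : Finset (Fin 12), S ⊆ {0, 1, 2, 3, 4, 5} → ∀ y ∈ S, τ y = y := by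
    intro S hS y hy
    have := hS hy
    simp only [Finset.mem_insert, Finset.mem_singleton] at this
    rcases this with rfl | rfl | rfl | rfl | rfl | rfl <;> assumption
  -- the pair {6, 7}
  have p1 := image_pair_mem hτ ({0, 1, 3, 4} : Finset (Fin 12)) (hfix _ (by decide)) 6 7
    ((mem_std12 _).mpr (by decide +kernel))
  have p2 := image_pair_mem hτ ({0, 2, 3, 5} : Finset (Fin 12)) (hfix _ (by decide)) 6 7
    ((mem_std12 _).mpr (by decide +kernel))
  have q1 := pair12_a (τ 6) (τ 7) p1 p2
  -- the pair {6, 8}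
  have p3 := image_pair_mem hτ ({0, 1, 3, 5} : Finset (Fin 12)) (hfix _ (by decide)) 6 8
    ((mem_std12 _).mpr (by decide +kernel))
  have p4 := image_pair_mem hτ ({0, 2, 4, 5} : Finset (Fin 12)) (hfix _ (by decide)) 6 8
    ((mem_std12 _).mpr (by decide +kernel))
  have q2 := pair12_b (τ 6) (τ 8) p3 p4
  have h6 : τ 6 = 6 := by
    rcases q1 with ⟨h, _⟩ | ⟨h, _⟩
    · exact h
    · rcases q2 with ⟨h', _⟩ | ⟨h', _⟩
      · exact h'
      · rw [h] at h'
        exact absurd h' (by decide)
  have hfix6 : ∀ S : Finset (Fin 12), S ⊆ {0, 1, 2, 3, 4, 5, 6} → ∀ y ∈ S, τ y = y := by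
    intro S hS y hy
    have := hS hy
    simp only [Finset.mem_insert, Finset.mem_singleton] at this
    rcases this with rfl | rfl | rfl | rfl | rfl | rfl | rfl <;> assumption
  have h7 : τ 7 = 7 := fix_of_block hB hτ {0, 1, 3, 4, 6} (by decide) (hfix6 _ (by decide)) 7
    (by decide) ((mem_std12 _).mpr (by decide +kernel))
  have h8 : τ 8 = 8 := fix_of_block hB hτ {0, 1, 3, 5, 6} (by decide) (hfix6 _ (by decide)) 8
    (by decide) ((mem_std12 _).mpr (by decide +kernel))
  have h9 : τ 9 = 9 := fix_of_block hB hτ {0, 1, 2, 3, 6} (by decide) (hfix6 _ (by decide)) 9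
    (by decide) ((mem_std12 _).mpr (by decide +kernel))
  have h10 : τ 10 = 10 := fix_of_block hB hτ {0, 1, 2, 5, 6} (by decide) (hfix6 _ (by decide)) 10
    (by decide) ((mem_std12 _).mpr (by decide +kernel))
  have h11 : τ 11 = 11 := fix_of_block hB hτ {0, 1, 2, 4, 6} (by decide) (hfix6 _ (by decide)) 11
    (by decide) ((mem_std12 _).mpr (by decide +kernel))
  apply Equiv.ext
  intro i
  fin_cases i <;> assumption

/-- the base embedding -/
def base5 : Fin 5 ↪ Fin 12 := Fin.castLEEmb (by norm_num)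

theorem aut12_le : setSystemAut std12 ≤ K12 := by
  intro σ hσ
  have hpre : MulAction.IsMultiplyPretransitive K12 (Fin 12) 5 := core.1
  obtain ⟨k, hk⟩ := hpre.exists_smul_eq base5 (σ • base5)
  have hk' : ∀ i : Fin 5, (k : Equiv.Perm (Fin 12)) (base5 i) = σ (base5 i) := by
    intro i
    exact congrArg (fun f : Fin 5 ↪ Fin 12 => f i) hk
  have hτ : (k : Equiv.Perm (Fin 12))⁻¹ * σ ∈ setSystemAut std12 :=
    Subgroup.mul_mem _ (Subgroup.inv_mem _ (K12_le k.2)) hσ
  have hfix : ∀ i : Fin 5, ((k : Equiv.Perm (Fin 12))⁻¹ * σ) (base5 i) = base5 i := by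
    intro i
    rw [Equiv.Perm.mul_apply, ← hk' i]
    exact perm_inv_apply _ _
  have h1 := rigid12 _ hτ (hfix 0) (hfix 1) (hfix 2) (hfix 3) (hfix 4)
  have h2 : σ = (k : Equiv.Perm (Fin 12)) := by
    have := congrArg (fun x => (k : Equiv.Perm (Fin 12)) * x) h1
    simpa using this
  rw [h2]
  exact k.2

theorem aut12_eq : setSystemAut std12 = K12 := le_antisymm aut12_le K12_le

/-! ### simplicity -/

/-- an element of order 11 -/
def a12 : Equiv.Perm (Fin 12) := wp G0 [4, 0, 5, 6]

/-- another element of order 11 -/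
def b12 : Equiv.Perm (Fin 12) := wp G0 [0, 5, 6, 7, 2]

theorem a12_pow : a12 ^ 11 = 1 := by decide +kernel

theorem b12_pow : b12 ^ 11 = 1 := by decide +kernel

theorem wp_mem_closure {n : ℕ} (G : List (Equiv.Perm (Fin n))) (S : Set (Equiv.Perm (Fin n)))
    (h : ∀ g ∈ G, g ∈ Subgroup.closure S) (w : List ℕ) : wp G w ∈ Subgroup.closure S := by
  have hl : ∀ j, letter G j ∈ Subgroup.closure S := by
    intro j
    have hg : ∀ i, G.getD i 1 ∈ Subgroup.closure S := by
      intro i
      by_cases hi : i < G.length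
      · rw [List.getD_eq_getElem _ _ hi]
        exact h _ (List.getElem_mem hi)
      · rw [List.getD_eq_default _ _ (by omega)]
        exact Subgroup.one_mem _
    unfold letter
    split_ifs
    · exact hg j
    · exact Subgroup.inv_mem _ (hg _)
  induction w with
  | nil => exact Subgroup.one_mem _
  | cons j w ih => rw [wp_cons]; exact Subgroup.mul_mem _ (hl j) ih

theorem K12_eq_closure : K12 = Subgroup.closure {a12, b12} := by
  apply le_antisymm
  · unfold K12
    rw [Subgroup.closure_le]
    have hG : ∀ g ∈ [a12, b12], g ∈ Subgroup.closure ({a12, b12} : Set (Equiv.Perm (Fin 12))) := by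
      intro g hg
      simp only [List.mem_cons, List.not_mem_nil, or_false] at hg
      rcases hg with rfl | rfl
      · exact Subgroup.subset_closure (Set.mem_insert _ _)
      · exact Subgroup.subset_closure (Set.mem_insert_of_mem _ rfl)
    intro g hg
    simp only [Set.mem_insert_iff, Set.mem_singleton_iff] at hg
    rcases hg with rfl | rfl | rfl | rfl | rfl | rfl | rfl | rfl
    · have : gs = wp [a12, b12] [1, 2, 3, 2, 2, 3, 3, 3, 0] := by decide +kernel
      rw [this]; exact wp_mem_closure _ _ hG _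
    · have : gt = wp [a12, b12] [3, 0, 3, 3, 2, 2, 1, 1] := by decide +kernel
      rw [this]; exact wp_mem_closure _ _ hG _
    · have : gu = wp [a12, b12] [1, 1, 2, 2, 3, 0, 1] := by decide +kernel
      rw [this]; exact wp_mem_closure _ _ hG _
    · have : gv = wp [a12, b12] [2, 3, 3, 2, 1, 0, 1] := by decide +kernel
      rw [this]; exact wp_mem_closure _ _ hG _
    · have : gw = wp [a12, b12] [2, 2, 3, 2, 1, 0, 3, 0, 0] := by decide +kernel
      rw [this]; exact wp_mem_closure _ _ hG _
    · have : gx1 = wp [a12, b12] [1, 1, 0, 3, 3, 0, 3, 3, 2, 2] := by decide +kernel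
      rw [this]; exact wp_mem_closure _ _ hG _
    · have : gx2 = wp [a12, b12] [1, 2, 3, 2, 1, 0, 1, 1, 0, 0, 0] := by decide +kernel
      rw [this]; exact wp_mem_closure _ _ hG _
    · have : gx3 = wp [a12, b12] [3, 3, 0, 3, 3, 2, 2, 1, 1, 0] := by decide +kernel
      rw [this]; exact wp_mem_closure _ _ hG _
  · rw [Subgroup.closure_le]
    have hG : ∀ g ∈ G0, g ∈ Subgroup.closure
        ({gs, gt, gu, gv, gw, gx1, gx2, gx3} : Set (Equiv.Perm (Fin 12))) := by
      intro g hg
      apply Subgroup.subset_closure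
      simp only [G0, List.mem_cons, List.not_mem_nil, or_false] at hg
      simp only [Set.mem_insert_iff, Set.mem_singleton_iff]
      exact hg
    intro g hg
    simp only [Set.mem_insert_iff, Set.mem_singleton_iff] at hg
    rcases hg with rfl | rfl
    · exact wp_mem_closure _ _ hG _
    · exact wp_mem_closure _ _ hG _

theorem card_K12 : Nat.card K12 = 95040 := core.2.2.1

theorem arith11_12 : ∀ r : ℕ, r.Prime → r ≠ 11 → ∀ a j : ℕ, r ^ a ∣ 95040 → j < a →
    ¬ 11 ∣ r ^ (a - j) - 1 := by
  intro r hr hr11 a j hdvd hja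
  have ha : 1 ≤ a := by omega
  have hrd : r ∣ 95040 := (dvd_pow_self r (by omega)).trans hdvd
  have hfac : (95040 : ℕ) = 2 ^ 6 * 3 ^ 3 * 5 * 11 := by norm_num
  have hcases : r = 2 ∨ r = 3 ∨ r = 5 := by
    rw [hfac] at hrd
    rcases (Nat.Prime.dvd_mul hr).mp hrd with h | h
    · rcases (Nat.Prime.dvd_mul hr).mp h with h | h
      · rcases (Nat.Prime.dvd_mul hr).mp h with h | h
        · left; exact (Nat.prime_dvd_prime_iff_eq hr (by norm_num)).mp (hr.dvd_of_dvd_pow h)
        · right; left; exact (Nat.prime_dvd_prime_iff_eq hr (by norm_num)).mp (hr.dvd_of_dvd_pow h)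
      · right; right; exact (Nat.prime_dvd_prime_iff_eq hr (by norm_num)).mp h
    · exact absurd ((Nat.prime_dvd_prime_iff_eq hr (by norm_num)).mp h) hr11
  rcases hcases with rfl | rfl | rfl
  · have ha6 : a ≤ 6 := by
      by_contra hcon
      have : 2 ^ 7 ∣ 95040 := (pow_dvd_pow 2 (by omega : 7 ≤ a)).trans hdvd
      norm_num at this
    interval_cases a <;> interval_cases j <;> norm_num
  · have ha3 : a ≤ 3 := by
      by_contra hcon
      have : 3 ^ 4 ∣ 95040 := (pow_dvd_pow 3 (by omega : 4 ≤ a)).trans hdvd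
      norm_num at this
    interval_cases a <;> interval_cases j <;> norm_num
  · have ha1 : a ≤ 1 := by
      by_contra hcon
      have : 5 ^ 2 ∣ 95040 := (pow_dvd_pow 5 (by omega : 2 ≤ a)).trans hdvd
      norm_num at this
    interval_cases a <;> interval_cases j <;> norm_num

theorem simple_K12 : IsSimpleGroup K12 := by
  haveI : Fact (Nat.Prime 11) := ⟨by norm_num⟩
  haveI : Finite K12 := inferInstance
  apply SimpleP.isSimpleGroup_of_prime_generated 11
  · rw [card_K12]; norm_num
  · rw [card_K12]; norm_num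
  · apply closure_pow_eq_top K12 {a12, b12} 11 _ K12_eq_closure
    intro x hx
    simp only [Set.mem_insert_iff, Set.mem_singleton_iff] at hx
    rcases hx with rfl | rfl
    · exact a12_pow
    · exact b12_pow
  · apply center_eq_bot_of_two_pretransitive
    · haveI : MulAction.IsMultiplyPretransitive K12 (Fin 12) 5 := core.1
      exact MulAction.isMultiplyPretransitive_of_le (G := K12) (α := Fin 12) (m := 2) (n := 5)
        (by norm_num) (by rw [Nat.card_eq_fintype_card, Fintype.card_fin]; norm_num)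
    · decide
  · rw [card_K12]
    exact arith11_12

/-- the automorphism group of the reference `S(5, 6, 12)` -/
theorem aut12_facts : IsM12 (setSystemAut std12) ∧
    MulAction.IsMultiplyPretransitive (setSystemAut std12) (Fin 12) 5 ∧
    ∀ x : Fin 5 ↪ Fin 12, MulAction.stabilizer (setSystemAut std12) x = ⊥ := by
  rw [aut12_eq]
  exact ⟨⟨simple_K12, card_K12⟩, core.1, core.2.1⟩

end Cfsg.Agent.Lib.H3.StS
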