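import Mathlib
import Cfsg.Agent.Lib.H3.SchreierSims3
import Cfsg.Agent.Lib.H3.SteinerUnique
import Cfsg.Agent.Lib.H3.SteinerAut
import Cfsg.Agent.Lib.H3.M12Aut
import Cfsg.Agent.Lib.H3.SimpleP
import Cfsg.Prelude.Def_Sporadic

set_option autoImplicit false
set_option maxRecDepth 1000000

/-! # The automorphism group of the reference `S(4, 5, 11)` is `M₁₁` -/

namespace Cfsg.Agent.Lib.H3.StS

namespace M11

open Cfsg Cfsg.Agent.Lib.H3.SS

def hs : Equiv.Perm (Fin 11) := Equiv.swap (2 : Fin 11) 10 * Equiv.swap (2 : Fin 11) 9 * Equiv.swap (3 : Fin 11) 5 * Equiv.swap (3 : Fin 11) 4 * Equiv.swap (6 : Fin 11) 8 * Equiv.swap (6 : Fin 11) 7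

def ht : Equiv.Perm (Fin 11) := Equiv.swap (2 : Fin 11) 8 * Equiv.swap (2 : Fin 11) 5 * Equiv.swap (3 : Fin 11) 9 * Equiv.swap (3 : Fin 11) 6 * Equiv.swap (4 : Fin 11) 10 * Equiv.swap (4 : Fin 11) 7

def hu : Equiv.Perm (Fin 11) := Equiv.swap (2 : Fin 11) 8 * Equiv.swap (2 : Fin 11) 7 * Equiv.swap (2 : Fin 11) 10 * Equiv.swap (4 : Fin 11) 9 * Equiv.swap (4 : Fin 11) 5 * Equiv.swap (4 : Fin 11) 6

def hv : Equiv.Perm (Fin 11) := Equiv.swap (2 : Fin 11) 5 * Equiv.swap (2 : Fin 11) 7 * Equiv.swap (2 : Fin 11) 4 * Equiv.swap (6 : Fin 11) 8 * Equiv.swap (6 : Fin 11) 9 * Equiv.swap (6 : Fin 11) 10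

def hw : Equiv.Perm (Fin 11) := Equiv.swap (2 : Fin 11) 6 * Equiv.swap (2 : Fin 11) 7 * Equiv.swap (2 : Fin 11) 9 * Equiv.swap (4 : Fin 11) 8 * Equiv.swap (4 : Fin 11) 5 * Equiv.swap (4 : Fin 11) 10

def hx1 : Equiv.Perm (Fin 11) := Equiv.swap (0 : Fin 11) 3 * Equiv.swap (2 : Fin 11) 9 * Equiv.swap (6 : Fin 11) 7 * Equiv.swap (8 : Fin 11) 10

def hx2 : Equiv.Perm (Fin 11) := Equiv.swap (0 : Fin 11) 1 * Equiv.swap (2 : Fin 11) 8 * Equiv.swap (6 : Fin 11) 9 * Equiv.swap (7 : Fin 11) 10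



def H0 : List (Equiv.Perm (Fin 11)) := [hs, ht, hu, hv, hw, hx1, hx2]



def tabs11 : List (List ℕ) := [[0, 1, 9, 4, 5, 3, 7, 8, 6, 10, 2], [0, 1, 5, 6, 7, 8, 9, 10, 2, 3, 4], [0, 1, 10, 3, 6, 9, 5, 8, 2, 4, 7], [0, 1, 4, 3, 7, 2, 10, 5, 6, 8, 9], [0, 1, 9, 3, 10, 8, 2, 6, 4, 7, 5], [3, 1, 9, 0, 4, 5, 7, 6, 10, 2, 8], [1, 0, 8, 3, 4, 5, 9, 10, 2, 6, 7], [0, 1, 10, 5, 3, 4, 8, 6, 7, 2, 9], [0, 1, 8, 9, 10, 2, 3, 4, 5, 6, 7], [0, 1, 8, 3, 9, 6, 4, 10, 7, 5, 2], [0, 1, 5, 3, 2, 7, 8, 4, 9, 10, 6], [0, 1, 6, 3, 8, 10, 7, 9, 5, 2, 4], [3, 1, 9, 0, 4, 5, 7, 6, 10, 2, 8], [1, 0, 8, 3, 4, 5, 9, 10, 2, 6, 7]]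

def mv1 : Level :=
  { b := 1, gens := [[0], [1], [2], [3], [4], [5], [6]],
    Tm := [[], [6], [5, 6], [0, 5, 6], [1, 5, 6], [0, 0, 5, 6], [1, 0, 5, 6], [4, 0, 5, 6], [1, 1, 5, 6], [4, 1, 5, 6], [1, 0, 0, 5, 6]],
    T := [[], [6], [5, 6], [0, 5, 6], [1, 5, 6], [0, 0, 5, 6], [1, 0, 5, 6], [4, 0, 5, 6], [1, 1, 5, 6], [4, 1, 5, 6], [1, 0, 0, 5, 6]],
    imgs := [1, 0, 3, 4, 6, 5, 7, 10, 9, 2, 8] }

def mv2 : Level :=
  { b := 0, gens := [[0], [1], [2], [3], [4], [5]],
    Tm := [[], [5], [0, 5], [1, 5], [0, 0, 5], [1, 0, 5], [4, 0, 5], [1, 1, 5], [4, 1, 5], [1, 0, 0, 5]],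
    T := [[], [5], [0, 5], [1, 5], [0, 0, 5], [1, 0, 5], [4, 0, 5], [1, 1, 5], [4, 1, 5], [1, 0, 0, 5]],
    imgs := [0, 3, 4, 6, 5, 7, 10, 9, 2, 8] }

def mv3 : Level :=
  { b := 3, gens := [[0], [1], [2], [3], [4]],
    Tm := [[], [0], [1], [0, 0], [1, 0], [4, 0], [1, 1], [4, 1], [1, 0, 0]],
    T := [[], [0], [1], [0, 0], [1, 0], [4, 0], [1, 1], [4, 1], [1, 0, 0]],
    imgs := [3, 4, 6, 5, 7, 10, 9, 2, 8] }

def mv4 : Level :=
  { b := 4, gens := [[2], [3], [4]],
    Tm := [[], [0], [1], [2], [0, 0], [2, 0], [0, 1], [1, 2]],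
    T := [[], [2], [3], [4], [2, 2], [4, 2], [2, 3], [3, 4]],
    imgs := [4, 6, 7, 10, 5, 2, 8, 9] }

def chain11 : List Level := [mv1, mv2, mv3, mv4]

theorem tabOK : TabOK H0 tabs11 := by decide +kernel

theorem chainOK : chainCheck 11 H0.length tabs11 chain11 = true := by decide +kernel

theorem fullOK : fullCheck 11 [] chain11 = true := by decide +kernel

theorem Kc_chain : Kc H0 chain11 = Subgroup.closure {hs, ht, hu, hv, hw, hx1, hx2} := by
  show Subgroup.closure _ = _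
  congr 1
  ext g
  simp only [Set.mem_setOf_eq, mv1, List.mem_cons, List.not_mem_nil, or_false, Set.mem_insert_iff,
    Set.mem_singleton_iff]
  constructor
  · rintro ⟨w, hw, rfl⟩
    rcases hw with rfl | rfl | rfl | rfl | rfl | rfl | rfl <;> simp [wp, letter, H0]
  · intro hg
    rcases hg with rfl | rfl | rfl | rfl | rfl | rfl | rfl
    · exact ⟨[0], by simp, by simp [wp, letter, H0]⟩
    · exact ⟨[1], by simp, by simp [wp, letter, H0]⟩
    · exact ⟨[2], by simp, by simp [wp, letter, H0]⟩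
    · exact ⟨[3], by simp, by simp [wp, letter, H0]⟩
    · exact ⟨[4], by simp, by simp [wp, letter, H0]⟩
    · exact ⟨[5], by simp, by simp [wp, letter, H0]⟩
    · exact ⟨[6], by simp, by simp [wp, letter, H0]⟩

/-- `M₁₁` as generated by seven permutations of eleven points -/
def K11 : Subgroup (Equiv.Perm (Fin 11)) := Subgroup.closure {hs, ht, hu, hv, hw, hx1, hx2}

theorem core11 : MulAction.IsMultiplyPretransitive K11 (Fin 11) 4 ∧
    (∀ y : Fin 4 ↪ Fin 11, MulAction.stabilizer K11 y = ⊥) ∧ Nat.card K11 = 7920 := by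
  unfold K11
  rw [← Kc_chain]
  refine ⟨isMultiplyPretransitive tabOK chain11 chainOK fullOK,
    stabilizer_eq_bot tabOK chain11 chainOK fullOK, ?_⟩
  rw [card_Kc tabOK chain11 chainOK]
  rfl

theorem gen_mem11 (g : Equiv.Perm (Fin 11))
    (hchk : ∀ m < 2 ^ 11, St11.B0.testBit m = true →
      St11.B0.testBit (permMask (List.ofFn fun i : Fin 11 => ((g i : Fin 11) : ℕ)) m) = true) :
    g ∈ setSystemAut std11 :=
  mem_aut_of_forall (by norm_num) std11_steiner (image_mem_blocksOf St11.B0 g hchk)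

theorem hs_mem11 : hs ∈ setSystemAut std11 := gen_mem11 hs (by decide +kernel)
theorem ht_mem11 : ht ∈ setSystemAut std11 := gen_mem11 ht (by decide +kernel)
theorem hu_mem11 : hu ∈ setSystemAut std11 := gen_mem11 hu (by decide +kernel)
theorem hv_mem11 : hv ∈ setSystemAut std11 := gen_mem11 hv (by decide +kernel)
theorem hw_mem11 : hw ∈ setSystemAut std11 := gen_mem11 hw (by decide +kernel)
theorem hx1_mem11 : hx1 ∈ setSystemAut std11 := gen_mem11 hx1 (by decide +kernel)
theorem hx2_mem11 : hx2 ∈ setSystemAut std11 := gen_mem11 hx2 (by decide +kernel)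

theorem K11_le : K11 ≤ setSystemAut std11 := by
  unfold K11
  rw [Subgroup.closure_le]
  intro g hg
  simp only [Set.mem_insert_iff, Set.mem_singleton_iff] at hg
  rcases hg with rfl | rfl | rfl | rfl | rfl | rfl | rfl
  · exact hs_mem11
  · exact ht_mem11
  · exact hu_mem11
  · exact hv_mem11
  · exact hw_mem11
  · exact hx1_mem11
  · exact hx2_mem11

theorem mem_std11 (b : Finset (Fin 11)) : b ∈ std11 ↔ St11.B0.testBit (mask b) = true := Iff.rfl

theorem pair11_a : ∀ a d : Fin 11,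
    St11.B0.testBit (mask (insert a (insert d ({0, 1, 4} : Finset (Fin 11))))) = true →
    St11.B0.testBit (mask (insert a (insert d ({1, 3, 5} : Finset (Fin 11))))) = true →
    (a = 2 ∧ d = 6) ∨ (a = 6 ∧ d = 2) := by decide +kernel

theorem pair11_b : ∀ a d : Fin 11,
    St11.B0.testBit (mask (insert a (insert d ({0, 1, 3} : Finset (Fin 11))))) = true →
    St11.B0.testBit (mask (insert a (insert d ({0, 4, 5} : Finset (Fin 11))))) = true →
    (a = 2 ∧ d = 7) ∨ (a = 7 ∧ d = 2) := by decide +kernel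

/-- an automorphism of the reference system fixing four points is trivial -/
theorem rigid11 (τ : Equiv.Perm (Fin 11)) (hτ : τ ∈ setSystemAut std11) (h0 : τ 0 = 0)
    (h1 : τ 1 = 1) (h3 : τ 3 = 3) (h4 : τ 4 = 4) : τ = 1 := by
  have hB := std11_steiner
  have h5 : τ 5 = 5 := fix_of_block hB hτ {0, 1, 3, 4} (by decide) (by
    intro y hy
    simp only [Finset.mem_insert, Finset.mem_singleton] at hy
    rcases hy with rfl | rfl | rfl | rfl <;> assumption) 5 (by decide)
    ((mem_std11 _).mpr (by decide +kernel))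
  have hfix : ∀ S : Finset (Fin 11), S ⊆ {0, 1, 3, 4, 5} → ∀ y ∈ S, τ y = y := by
    intro S hS y hy
    have := hS hy
    simp only [Finset.mem_insert, Finset.mem_singleton] at this
    rcases this with rfl | rfl | rfl | rfl | rfl <;> assumption
  -- the pair {2, 6}
  have p1 := image_pair_mem hτ ({0, 1, 4} : Finset (Fin 11)) (hfix _ (by decide)) 2 6
    ((mem_std11 _).mpr (by decide +kernel))
  have p2 := image_pair_mem hτ ({1, 3, 5} : Finset (Fin 11)) (hfix _ (by decide)) 2 6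
    ((mem_std11 _).mpr (by decide +kernel))
  have q1 := pair11_a (τ 2) (τ 6) p1 p2
  -- the pair {2, 7}
  have p3 := image_pair_mem hτ ({0, 1, 3} : Finset (Fin 11)) (hfix _ (by decide)) 2 7
    ((mem_std11 _).mpr (by decide +kernel))
  have p4 := image_pair_mem hτ ({0, 4, 5} : Finset (Fin 11)) (hfix _ (by decide)) 2 7
    ((mem_std11 _).mpr (by decide +kernel))
  have q2 := pair11_b (τ 2) (τ 7) p3 p4
  have h2 : τ 2 = 2 := by
    rcases q1 with ⟨h, _⟩ | ⟨h, _⟩
    · exact h
    · rcases q2 with ⟨h', _⟩ | ⟨h', _⟩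
      · exact h'
      · rw [h] at h'
        exact absurd h' (by decide)
  have hfix2 : ∀ S : Finset (Fin 11), S ⊆ {0, 1, 2, 3, 4, 5} → ∀ y ∈ S, τ y = y := by
    intro S hS y hy
    have := hS hy
    simp only [Finset.mem_insert, Finset.mem_singleton] at this
    rcases this with rfl | rfl | rfl | rfl | rfl | rfl <;> assumption
  have h6 : τ 6 = 6 := fix_of_block hB hτ {0, 1, 4, 2} (by decide) (hfix2 _ (by decide)) 6
    (by decide) ((mem_std11 _).mpr (by decide +kernel))
  have h7 : τ 7 = 7 := fix_of_block hB hτ {0, 1, 3, 2} (by decide) (hfix2 _ (by decide)) 7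
    (by decide) ((mem_std11 _).mpr (by decide +kernel))
  have h8 : τ 8 = 8 := fix_of_block hB hτ {0, 1, 5, 2} (by decide) (hfix2 _ (by decide)) 8
    (by decide) ((mem_std11 _).mpr (by decide +kernel))
  have h9 : τ 9 = 9 := fix_of_block hB hτ {0, 3, 4, 2} (by decide) (hfix2 _ (by decide)) 9
    (by decide) ((mem_std11 _).mpr (by decide +kernel))
  have h10 : τ 10 = 10 := fix_of_block hB hτ {0, 3, 5, 2} (by decide) (hfix2 _ (by decide)) 10
    (by decide) ((mem_std11 _).mpr (by decide +kernel))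
  apply Equiv.ext
  intro i
  fin_cases i <;> assumption

/-- the base embedding `(0, 1, 3, 4)` -/
def base4 : Fin 4 ↪ Fin 11 := ⟨![0, 1, 3, 4], by decide⟩

theorem aut11_le : setSystemAut std11 ≤ K11 := by
  intro σ hσ
  have hpre : MulAction.IsMultiplyPretransitive K11 (Fin 11) 4 := core11.1
  obtain ⟨k, hk⟩ := hpre.exists_smul_eq base4 (σ • base4)
  have hk' : ∀ i : Fin 4, (k : Equiv.Perm (Fin 11)) (base4 i) = σ (base4 i) := by
    intro i
    exact congrArg (fun f : Fin 4 ↪ Fin 11 => f i) hk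
  have hτ : (k : Equiv.Perm (Fin 11))⁻¹ * σ ∈ setSystemAut std11 :=
    Subgroup.mul_mem _ (Subgroup.inv_mem _ (K11_le k.2)) hσ
  have hfix : ∀ i : Fin 4, ((k : Equiv.Perm (Fin 11))⁻¹ * σ) (base4 i) = base4 i := by
    intro i
    rw [Equiv.Perm.mul_apply, ← hk' i]
    exact perm_inv_apply _ _
  have h1 := rigid11 _ hτ (hfix 0) (hfix 1) (hfix 2) (hfix 3)
  have h2 : σ = (k : Equiv.Perm (Fin 11)) := by
    have := congrArg (fun x => (k : Equiv.Perm (Fin 11)) * x) h1
    simpa using this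
  rw [h2]
  exact k.2

theorem aut11_eq : setSystemAut std11 = K11 := le_antisymm aut11_le K11_le

/-! ### simplicity -/

/-- an element of order 11 -/
def a11 : Equiv.Perm (Fin 11) := wp H0 [1, 5, 6, 4]

/-- another element of order 11 -/
def b11 : Equiv.Perm (Fin 11) := wp H0 [0, 5, 6, 2, 0]

theorem a11_pow : a11 ^ 11 = 1 := by decide +kernel

theorem b11_pow : b11 ^ 11 = 1 := by decide +kernel

theorem K11_eq_closure : K11 = Subgroup.closure {a11, b11} := by
  apply le_antisymm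
  · unfold K11
    rw [Subgroup.closure_le]
    have hG : ∀ g ∈ [a11, b11], g ∈ Subgroup.closure ({a11, b11} : Set (Equiv.Perm (Fin 11))) := by
      intro g hg
      simp only [List.mem_cons, List.not_mem_nil, or_false] at hg
      rcases hg with rfl | rfl
      · exact Subgroup.subset_closure (Set.mem_insert _ _)
      · exact Subgroup.subset_closure (Set.mem_insert_of_mem _ rfl)
    intro g hg
    simp only [Set.mem_insert_iff, Set.mem_singleton_iff] at hg
    rcases hg with rfl | rfl | rfl | rfl | rfl | rfl | rfl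
    · have : hs = wp [a11, b11] [2, 1, 2, 2, 2, 1, 1] := by decide +kernel
      rw [this]; exact wp_mem_closure _ _ hG _
    · have : ht = wp [a11, b11] [3, 2, 2, 3, 2, 2, 3] := by decide +kernel
      rw [this]; exact wp_mem_closure _ _ hG _
    · have : hu = wp [a11, b11] [2, 3, 3, 0, 3, 2, 3] := by decide +kernel
      rw [this]; exact wp_mem_closure _ _ hG _
    · have : hv = wp [a11, b11] [1, 0, 0, 3, 2] := by decide +kernel
      rw [this]; exact wp_mem_closure _ _ hG _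
    · have : hw = wp [a11, b11] [2, 2, 1, 1, 2] := by decide +kernel
      rw [this]; exact wp_mem_closure _ _ hG _
    · have : hx1 = wp [a11, b11] [0, 0, 0, 1, 0, 0, 1] := by decide +kernel
      rw [this]; exact wp_mem_closure _ _ hG _
    · have : hx2 = wp [a11, b11] [1, 0, 1, 1, 2, 1, 0, 3] := by decide +kernel
      rw [this]; exact wp_mem_closure _ _ hG _
  · rw [Subgroup.closure_le]
    have hG : ∀ g ∈ H0, g ∈ Subgroup.closure
        ({hs, ht, hu, hv, hw, hx1, hx2} : Set (Equiv.Perm (Fin 11))) := by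
      intro g hg
      apply Subgroup.subset_closure
      simp only [H0, List.mem_cons, List.not_mem_nil, or_false] at hg
      simp only [Set.mem_insert_iff, Set.mem_singleton_iff]
      exact hg
    intro g hg
    simp only [Set.mem_insert_iff, Set.mem_singleton_iff] at hg
    rcases hg with rfl | rfl
    · exact wp_mem_closure _ _ hG _
    · exact wp_mem_closure _ _ hG _

theorem card_K11 : Nat.card K11 = 7920 := core11.2.2

theorem arith11_11 : ∀ r : ℕ, r.Prime → r ≠ 11 → ∀ a j : ℕ, r ^ a ∣ 7920 → j < a →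
    ¬ 11 ∣ r ^ (a - j) - 1 := by
  intro r hr hr11 a j hdvd hja
  have ha : 1 ≤ a := by omega
  have hrd : r ∣ 7920 := (dvd_pow_self r (by omega)).trans hdvd
  have hfac : (7920 : ℕ) = 2 ^ 4 * 3 ^ 2 * 5 * 11 := by norm_num
  have hcases : r = 2 ∨ r = 3 ∨ r = 5 := by
    rw [hfac] at hrd
    rcases (Nat.Prime.dvd_mul hr).mp hrd with h | h
    · rcases (Nat.Prime.dvd_mul hr).mp h with h | h
      · rcases (Nat.Prime.dvd_mul hr).mp h with h | h
        · left; exact (Nat.prime_dvd_prime_iff_eq hr (by norm_num)).mp (hr.dvd_of_dvd_pow h)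
        · right; left; exact (Nat.prime_dvd_prime_iff_eq hr (by norm_num)).mp (hr.dvd_of_dvd_pow h)
      · right; right; exact (Nat.prime_dvd_prime_iff_eq hr (by norm_num)).mp h
    · exact absurd ((Nat.prime_dvd_prime_iff_eq hr (by norm_num)).mp h) hr11
  rcases hcases with rfl | rfl | rfl
  · have ha6 : a ≤ 4 := by
      by_contra hcon
      have : 2 ^ 5 ∣ 7920 := (pow_dvd_pow 2 (by omega : 5 ≤ a)).trans hdvd
      norm_num at this
    interval_cases a <;> interval_cases j <;> norm_num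
  · have ha3 : a ≤ 2 := by
      by_contra hcon
      have : 3 ^ 3 ∣ 7920 := (pow_dvd_pow 3 (by omega : 3 ≤ a)).trans hdvd
      norm_num at this
    interval_cases a <;> interval_cases j <;> norm_num
  · have ha1 : a ≤ 1 := by
      by_contra hcon
      have : 5 ^ 2 ∣ 7920 := (pow_dvd_pow 5 (by omega : 2 ≤ a)).trans hdvd
      norm_num at this
    interval_cases a <;> interval_cases j <;> norm_num

theorem simple_K11 : IsSimpleGroup K11 := by
  haveI : Fact (Nat.Prime 11) := ⟨by norm_num⟩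
  haveI : Finite K11 := inferInstance
  apply SimpleP.isSimpleGroup_of_prime_generated 11
  · rw [card_K11]; norm_num
  · rw [card_K11]; norm_num
  · apply closure_pow_eq_top K11 {a11, b11} 11 _ K11_eq_closure
    intro x hx
    simp only [Set.mem_insert_iff, Set.mem_singleton_iff] at hx
    rcases hx with rfl | rfl
    · exact a11_pow
    · exact b11_pow
  · apply center_eq_bot_of_two_pretransitive
    · haveI : MulAction.IsMultiplyPretransitive K11 (Fin 11) 4 := core11.1
      exact MulAction.isMultiplyPretransitive_of_le (G := K11) (α := Fin 11) (m := 2) (n := 4)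
        (by norm_num) (by rw [Nat.card_eq_fintype_card, Fintype.card_fin]; norm_num)
    · decide
  · rw [card_K11]
    exact arith11_11

end M11

/-- the automorphism group of the reference `S(4, 5, 11)` -/
theorem aut11_facts : IsM11 (setSystemAut std11) ∧
    MulAction.IsMultiplyPretransitive (setSystemAut std11) (Fin 11) 4 ∧
    ∀ x : Fin 4 ↪ Fin 11, MulAction.stabilizer (setSystemAut std11) x = ⊥ := by
  rw [M11.aut11_eq]
  exact ⟨⟨M11.simple_K11, M11.card_K11⟩, M11.core11.1, M11.core11.2.1⟩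

end Cfsg.Agent.Lib.H3.StS
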