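import Mathlib
import Cfsg.Agent.Lib.H5.Ord.SylPrime2

set_option autoImplicit false

/-! # S0976 task T10 (helper3): pairs of conjugates of an involution of a dihedral normalizer
with a prescribed product. -/

namespace Cfsg.Agent.Lib.H5.BrVal

open scoped Classical

section
variable {G : Type*} [Group G] [Fintype G]

/-- the number of `b` with `b s b⁻¹ = g s g⁻¹` is `|C_G(s)|`. -/
theorem T10_card_conj_eq (s g : G) :
    (Finset.univ.filter fun b : G => b * s * b⁻¹ = g * s * g⁻¹).card =
      Nat.card (Subgroup.centralizer ({s} : Set G)) := by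
  rw [← Fintype.card_subtype, ← Nat.card_eq_fintype_card]
  refine Nat.card_congr
    { toFun := fun b => ⟨g⁻¹ * b.1, ?_⟩
      invFun := fun c => ⟨g * c.1, ?_⟩
      left_inv := ?_
      right_inv := ?_ }
  · rw [Subgroup.mem_centralizer_singleton_iff]
    have h := b.2
    have h2 := congrArg (fun y => g⁻¹ * y * b.1) h
    simp only [mul_assoc, inv_mul_cancel, mul_one, inv_mul_cancel_left] at h2
    simpa [mul_assoc] using h2
  · have h := Subgroup.mem_centralizer_singleton_iff.mp c.2
    have : g * c.1 * s * (g * c.1)⁻¹ = g * (c.1 * s * c.1⁻¹) * g⁻¹ := by simp [mul_assoc]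
    rw [this, h]
    simp [mul_assoc]
  · intro b; ext; simp
  · intro c; ext; simp

/-- the number of `b` with `b s b⁻¹ = y` is `0` or `|C_G(s)|`. -/
theorem T10_card_conj (s y : G) :
    (Finset.univ.filter fun b : G => b * s * b⁻¹ = y).card =
      if (∃ g : G, g * s * g⁻¹ = y) then Nat.card (Subgroup.centralizer ({s} : Set G)) else 0 := by
  split_ifs with h
  · obtain ⟨g, rfl⟩ := h
    exact T10_card_conj_eq s g
  · rw [Finset.card_eq_zero, Finset.filter_eq_empty_iff]
    intro b _ hb
    exact h ⟨b, hb⟩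

/-- **T10** the number of pairs `(a, b)` with `s^a s^b = k`, for an involution `s` of the dihedral
group `N_G(K)` of order `2p`, `k ∈ K \ {1}`. -/
theorem card_pairs_dihedral {p : ℕ} [Fact p.Prime] (hp2 : p ≠ 2) (K : Subgroup G)
    (hK : Nat.card K = p) (hC : Subgroup.centralizer (K : Set G) = K)
    (hN : Nat.card (Subgroup.normalizer (K : Set G)) = 2 * p)
    {s : G} (hsN : s ∈ Subgroup.normalizer (K : Set G)) (hs : orderOf s = 2)
    {k : G} (hk : k ∈ K) (hk1 : k ≠ 1) :
    (∑ a : G, ∑ b : G, if (a * s * a⁻¹) * (b * s * b⁻¹) = k then (1 : ℂ) else 0) =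
      ((Nat.card (Subgroup.centralizer ({s} : Set G)) : ℂ)) ^ 2 * p := by
  have hpp : p.Prime := Fact.out
  have hpodd : Odd p := hpp.odd_of_ne_two hp2
  set c : ℕ := Nat.card (Subgroup.centralizer ({s} : Set G)) with hc
  have hss : s * s = 1 := by
    have := pow_orderOf_eq_one s
    rwa [hs, pow_two] at this
  have hsinv : s⁻¹ = s := inv_eq_of_mul_eq_one_left hss
  -- `s ∉ K`
  have hordK : ∀ x ∈ K, orderOf x ∣ p := by
    intro x hx
    have := orderOf_dvd_natCard (⟨x, hx⟩ : K)
    rwa [Subgroup.orderOf_mk, hK] at this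
  have hsK : s ∉ K := by
    intro h
    have := hordK s h
    rw [hs] at this
    exact hp2 ((Nat.prime_dvd_prime_iff_eq Nat.prime_two hpp).mp this).symm
  have hsC : s ∉ Subgroup.centralizer (K : Set G) := by rw [hC]; exact hsK
  -- `s` inverts `K`
  have hinv : ∀ x ∈ K, s * x * s = x⁻¹ := by
    intro x hx
    have := Cfsg.Agent.Lib.H5.SylPrime.conj_eq_inv_of_not_mem_centralizer K hK hsN
      (by rw [hss]; exact one_mem _) hsC x hx
    rwa [hsinv] at this
  -- `K` is abelian
  have hKc : ∀ a ∈ K, ∀ b ∈ K, a * b = b * a := by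
    intro a ha b hb
    have h1 : a ∈ Subgroup.centralizer (K : Set G) := by rw [hC]; exact ha
    exact (Subgroup.mem_centralizer_iff.mp h1 b hb).symm
  -- conjugates of `s` are involutions, not in `K`
  have hconj_sq : ∀ a : G, (a * s * a⁻¹) * (a * s * a⁻¹) = 1 := by
    intro a
    have : a * s * a⁻¹ * (a * s * a⁻¹) = a * (s * s) * a⁻¹ := by simp [mul_assoc]
    rw [this, hss]; simp
  have hconj_ne : ∀ a : G, a * s * a⁻¹ ≠ 1 := by
    intro a h
    have h2 := congrArg (fun y => a⁻¹ * y * a) h
    simp only [mul_assoc, inv_mul_cancel, mul_one, inv_mul_cancel_left] at h2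
    rw [h2, orderOf_one] at hs
    norm_num at hs
  have hconj_notK : ∀ a : G, a * s * a⁻¹ ∉ K := by
    intro a h
    have h1 := hordK _ h
    have h2 : orderOf (a * s * a⁻¹) = 2 :=
      orderOf_eq_prime (by rw [pow_two]; exact hconj_sq a) (hconj_ne a)
    rw [h2] at h1
    exact hp2 ((Nat.prime_dvd_prime_iff_eq Nat.prime_two hpp).mp h1).symm
  -- `K` has index 2 in its normalizer
  have hKN : K ≤ Subgroup.normalizer (K : Set G) := Subgroup.le_normalizer
  have hidx : (K.subgroupOf (Subgroup.normalizer (K : Set G))).index = 2 := by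
    have h1 := Subgroup.card_mul_index (K.subgroupOf (Subgroup.normalizer (K : Set G)))
    rw [Nat.card_congr (Subgroup.subgroupOfEquivOfLe hKN).toEquiv, hK, hN] at h1
    have hp0 : 0 < p := hpp.pos
    have : p * (K.subgroupOf (Subgroup.normalizer (K : Set G))).index = p * 2 := by
      rw [h1]; ring
    exact Nat.eq_of_mul_eq_mul_left hp0 this
  -- elements of the normalizer outside `K` lie in `sK`
  have hcoset : ∀ x ∈ Subgroup.normalizer (K : Set G), x ∉ K → s * x ∈ K := by
    intro x hxN hxK
    have := Subgroup.mul_mem_iff_of_index_two hidx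
      (a := (⟨s, hsN⟩ : Subgroup.normalizer (K : Set G))) (b := ⟨x, hxN⟩)
    have h2 : ((⟨s, hsN⟩ : Subgroup.normalizer (K : Set G)) * ⟨x, hxN⟩) ∈
        K.subgroupOf (Subgroup.normalizer (K : Set G)) := by
      rw [this]
      simp only [Subgroup.mem_subgroupOf]
      exact ⟨fun h => absurd h hsK, fun h => absurd h hxK⟩
    simpa [Subgroup.mem_subgroupOf] using h2
  -- every element of `sK` is conjugate to `s`
  have hsqsurj : ∀ y ∈ K, ∃ x ∈ K, x * x = y := by
    intro y hy
    obtain ⟨m, hm⟩ := hpodd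
    refine ⟨y ^ (m + 1), K.pow_mem hy _, ?_⟩
    have hyp : y ^ p = 1 := orderOf_dvd_iff_pow_eq_one.mp (hordK y hy)
    rw [← pow_add, show m + 1 + (m + 1) = p + 1 by omega, pow_succ, hyp, one_mul]
  have hB : ∀ y : G, s * y ∈ K → ∃ g : G, g * s * g⁻¹ = y := by
    intro y hy
    obtain ⟨x, hxK, hx⟩ := hsqsurj _ hy
    refine ⟨x⁻¹, ?_⟩
    -- x⁻¹ s x = s (s x⁻¹ s) x = s x x = s (s y) = y
    have h1 := hinv x⁻¹ (K.inv_mem hxK)
    rw [inv_inv] at h1
    have : x⁻¹ * s * x⁻¹⁻¹ = s * (s * x⁻¹ * s) * x := by
      rw [inv_inv]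
      have : s * (s * x⁻¹ * s) * x = (s * s) * x⁻¹ * s * x := by simp [mul_assoc]
      rw [this, hss, one_mul]
    rw [this, h1, mul_assoc, hx, ← mul_assoc, hss, one_mul]
  -- characterization of the conjugates of `s` in the normalizer
  have hCiff : ∀ a : G, a * s * a⁻¹ ∈ Subgroup.normalizer (K : Set G) ↔ s * (a * s * a⁻¹) ∈ K := by
    intro a
    constructor
    · intro h
      exact hcoset _ h (hconj_notK a)
    · intro h
      have : a * s * a⁻¹ = s * (s * (a * s * a⁻¹)) := by rw [← mul_assoc, hss, one_mul]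
      rw [this]
      exact Subgroup.mul_mem _ hsN (hKN h)
  -- if `x y = k` with `x`, `y` conjugates of `s` then `x` normalizes `K`
  have hzp : K = Subgroup.zpowers k := by
    have hk' : (⟨k, hk⟩ : K) ≠ 1 := fun h => hk1 (congrArg Subtype.val h)
    have := zpowers_eq_top_of_prime_card (G := K) hK hk'
    apply le_antisymm
    · intro x hx
      have hx' : (⟨x, hx⟩ : K) ∈ Subgroup.zpowers (⟨k, hk⟩ : K) := by rw [this]; trivial
      obtain ⟨n, hn⟩ := Subgroup.mem_zpowers_iff.mp hx'
      refine Subgroup.mem_zpowers_iff.mpr ⟨n, ?_⟩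
      have := congrArg Subtype.val hn
      simpa using this
    · rw [Subgroup.zpowers_le]; exact hk
  have hD : ∀ a b : G, (a * s * a⁻¹) * (b * s * b⁻¹) = k →
      a * s * a⁻¹ ∈ Subgroup.normalizer (K : Set G) := by
    intro a b hab
    set x := a * s * a⁻¹ with hx
    set y := b * s * b⁻¹ with hy
    have hxx : x * x = 1 := hconj_sq a
    have hyy : y * y = 1 := hconj_sq b
    have hxinv : x⁻¹ = x := inv_eq_of_mul_eq_one_left hxx
    have hkinv : x * k * x⁻¹ = k⁻¹ := by
      rw [hxinv, ← hab]
      have : x * (x * y) * x = (x * x) * y * x := by simp [mul_assoc]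
      rw [this, hxx, one_mul]
      symm
      apply inv_eq_of_mul_eq_one_left
      have : y * x * (x * y) = y * (x * x) * y := by simp [mul_assoc]
      rw [this, hxx, mul_one, hyy]
    -- x normalizes zpowers k
    rw [Subgroup.mem_normalizer_iff]
    have hfwd : ∀ h ∈ K, x * h * x⁻¹ ∈ K := by
      intro h hh
      rw [hzp] at hh ⊢
      obtain ⟨n, rfl⟩ := Subgroup.mem_zpowers_iff.mp hh
      have : x * k ^ n * x⁻¹ = (x * k * x⁻¹) ^ n := by
        rw [← conj_zpow] 
      rw [this, hkinv]
      exact Subgroup.zpow_mem _ (Subgroup.inv_mem _ (Subgroup.mem_zpowers k)) n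
    intro h
    constructor
    · exact hfwd h
    · intro hh
      have := hfwd _ hh
      rw [hxinv] at this
      have e : x * (x * h * x) * x = h := by
        have : x * (x * h * x) * x = (x * x) * h * (x * x) := by simp [mul_assoc]
        rw [this, hxx, one_mul, mul_one]
      rwa [e] at this
  -- now count
  have hinner : ∀ a : G,
      (∑ b : G, if (a * s * a⁻¹) * (b * s * b⁻¹) = k then (1 : ℂ) else 0) =
        if s * (a * s * a⁻¹) ∈ K then (c : ℂ) else 0 := by
    intro a
    rw [Finset.sum_boole]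
    have hxx : (a * s * a⁻¹) * (a * s * a⁻¹) = 1 := hconj_sq a
    have hxinv : (a * s * a⁻¹)⁻¹ = a * s * a⁻¹ := inv_eq_of_mul_eq_one_left hxx
    have hfilt : (Finset.univ.filter fun b : G => (a * s * a⁻¹) * (b * s * b⁻¹) = k) =
        Finset.univ.filter fun b : G => b * s * b⁻¹ = (a * s * a⁻¹) * k := by
      apply Finset.filter_congr
      intro b _
      constructor
      · intro h
        rw [← h, ← mul_assoc, hxx, one_mul]
      · intro h
        rw [h, ← mul_assoc, hxx, one_mul]
    rw [hfilt, T10_card_conj]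
    by_cases hmem : s * (a * s * a⁻¹) ∈ K
    · rw [if_pos hmem, if_pos]
      apply hB
      rw [← mul_assoc]
      exact K.mul_mem hmem hk
    · rw [if_neg hmem, if_neg]
      · simp
      · rintro ⟨g, hg⟩
        apply hmem
        rw [← hCiff]
        apply hD a g
        rw [hg, ← mul_assoc, hxx, one_mul]
  simp_rw [hinner]
  rw [← Finset.sum_filter, Finset.sum_const, nsmul_eq_mul]
  -- count of `a` with `s * (a s a⁻¹) ∈ K`
  have hcount : (Finset.univ.filter fun a : G => s * (a * s * a⁻¹) ∈ K).card = p * c := by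
    have h1 : (Finset.univ.filter fun a : G => s * (a * s * a⁻¹) ∈ K).card =
        ∑ y ∈ Finset.univ.filter (fun y : G => s * y ∈ K),
          (Finset.univ.filter fun a : G => a * s * a⁻¹ = y).card := by
      rw [Finset.card_eq_sum_card_fiberwise (f := fun a => a * s * a⁻¹)
        (t := Finset.univ.filter (fun y : G => s * y ∈ K))]
      · apply Finset.sum_congr rfl
        intro y hy
        congr 1
        ext a
        simp only [Finset.mem_filter, Finset.mem_univ, true_and]
        constructor
        · rintro ⟨_, h⟩; exact h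
        · intro h; refine ⟨?_, h⟩
          rw [h]; exact (Finset.mem_filter.mp hy).2
      · intro a ha
        simp only [Finset.coe_filter, Finset.mem_univ, true_and, Set.mem_ofPred_eq] at ha ⊢
        exact ha
    rw [h1]
    have h2 : ∀ y ∈ Finset.univ.filter (fun y : G => s * y ∈ K),
        (Finset.univ.filter fun a : G => a * s * a⁻¹ = y).card = c := by
      intro y hy
      rw [T10_card_conj, if_pos (hB y (Finset.mem_filter.mp hy).2)]
    rw [Finset.sum_congr rfl h2, Finset.sum_const, smul_eq_mul]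
    congr 1
    -- the coset `sK` has `p` elements
    rw [← hK, Nat.card_eq_fintype_card, ← Fintype.card_subtype]
    refine Fintype.card_congr
      { toFun := fun y => ⟨s * y.1, y.2⟩
        invFun := fun x => ⟨s * x.1, by rw [← mul_assoc, hss, one_mul]; exact x.2⟩
        left_inv := ?_
        right_inv := ?_ }
    · intro y; ext; simp [← mul_assoc, hss]
    · intro x; ext; simp [← mul_assoc, hss]
  rw [hcount]
  push_cast
  ring

end

end Cfsg.Agent.Lib.H5.BrVal
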