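import Mathlib
import Cfsg.Prelude.Def_KGroupFacts
import Cfsg.Agent.Lib.H16.SZ8Defs
import Cfsg.Agent.Lib.H2.SzMult4
import Cfsg.Agent.Lib.H18.SchurCover2

set_option autoImplicit false
set_option linter.unusedSimpArgs false
set_option linter.unusedSectionVars false

/-!
# S2112, piece MULTB: helper2's `stem_ker_eq_bot` (Lib/H2/SzMult2-4) with `2 ≤ m` replaced by `1 ≤ m`
and the conclusion of `stepB` as a hypothesis
-/

namespace Cfsg.Agent.Lib.H3.SZ8

open scoped commutatorElement IsMulCommutative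
open Matrix Cfsg Projectivization MulAction
open Cfsg.Agent.Lib.H16.SZ8 Cfsg.Agent.Lib.H2.Sz Cfsg.Agent.Lib.H2.Stem

universe u

section U

variable {F : Type*} [Field F] {m : ℕ} [Fintype F] (h : Fld F m)
  {Γ : Type*} [Group Γ] (σ : Γ →* Sz F m) (hσ : Function.Surjective σ)
  (hK : σ.ker ≤ Subgroup.center Γ)

include hK

/-- consequence of `hB`: every lift of a translation commutes with every lift of a central
translation -/
theorem lift_commB (hm : 1 ≤ m) (hF : Fintype.card F = 2 ^ (2 * m + 1))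
    (hB : ∀ x y : F, cc σ hσ (tt h x 0) (t0 h y) = 1) {γ z : Γ} {a c y : F}
    (hγ : σ γ = tt h a c) (hz : σ z = t0 h y) : γ * z = z * γ := by
  have e1 : ⁅γ, z⁆ = cc σ hσ (tt h a c) (t0 h y) := cc_spec σ hσ hK hγ hz
  have hc1 : cc σ hσ (t0 h c) (t0 h y) ∈ Subgroup.center Γ :=
    cc_central σ hσ hK (t0_comm h _ _)
  have hsplit : tt h a c = tt h a 0 * t0 h c := by
    rw [t0_eq_tt, tt_mul]
    congr 1 <;> simp
  rw [hsplit, cc_mul_left σ hσ hK hc1, stepA h σ hσ hK hm hF,
    hB, mul_one] at e1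
  exact commutatorElement_eq_one_iff_mul_comm.1 e1

/-- the commutator of lifts of `T x 0`, `T x' 0`, as an element of the centre of the lifted Sylow
subgroup -/
noncomputable def CCB (hm : 1 ≤ m) (hF : Fintype.card F = 2 ^ (2 * m + 1))
    (hB : ∀ x y : F, cc σ hσ (tt h x 0) (t0 h y) = 1) (x x' : F) :
    Subgroup.center ((TS h).comap σ) :=
  ⟨⟨cc σ hσ (tt h x 0) (tt h x' 0), by
    rw [Subgroup.mem_comap, map_cc, comm_tt_tt]
    exact (mem_TS_iff' h).2 ⟨_, _, rfl⟩⟩, by
    rw [Subgroup.mem_center_iff]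
    intro γ
    apply Subtype.ext
    obtain ⟨a, c, hac⟩ := (mem_TS_iff' h).1 (Subgroup.mem_comap.1 γ.2)
    have hz : σ (cc σ hσ (tt h x 0) (tt h x' 0)) = t0 h (Lmap h x' x) := by
      rw [map_cc, comm_tt_tt]
    exact lift_commB h σ hσ hK hm hF hB hac hz⟩

theorem coe_CCB (hm : 1 ≤ m) (hF : Fintype.card F = 2 ^ (2 * m + 1))
    (hB : ∀ x y : F, cc σ hσ (tt h x 0) (t0 h y) = 1) (x x' : F) :
    (((CCB h σ hσ hK hm hF hB x x' : Subgroup.center ((TS h).comap σ)) : (TS h).comap σ) : Γ) =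
      cc σ hσ (tt h x 0) (tt h x' 0) := rfl

theorem cc_tt_splitB (hm : 1 ≤ m) (hF : Fintype.card F = 2 ^ (2 * m + 1))
    (hB : ∀ x y : F, cc σ hσ (tt h x 0) (t0 h y) = 1) (a c a' c' : F) :
    cc σ hσ (tt h a c) (tt h a' c') = cc σ hσ (tt h a 0) (tt h a' 0) := by
  set s := Function.surjInv hσ with hs
  have hsplit : ∀ a c : F, tt h a c = tt h a 0 * t0 h c := by
    intro a c
    rw [t0_eq_tt, tt_mul]
    congr 1 <;> simp
  have e1 : ⁅s (tt h a 0) * s (t0 h c), s (tt h a' 0) * s (t0 h c')⁆ =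
      cc σ hσ (tt h a c) (tt h a' c') := by
    apply cc_spec σ hσ hK
    · rw [map_mul, hs, Function.surjInv_eq hσ, Function.surjInv_eq hσ, ← hsplit]
    · rw [map_mul, hs, Function.surjInv_eq hσ, Function.surjInv_eq hσ, ← hsplit]
  rw [← e1]
  -- `s (t0 c)`, `s (t0 c')` commute with everything in sight
  have hcomm : ∀ (γ : Γ) (a₁ c₁ y : F), σ γ = tt h a₁ c₁ → γ * s (t0 h y) = s (t0 h y) * γ :=
    fun γ a₁ c₁ y hγ => lift_commB h σ hσ hK hm hF hB hγ (Function.surjInv_eq hσ _)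
  have h1 : ⁅s (t0 h c), s (tt h a' 0) * s (t0 h c')⁆ = 1 := by
    rw [commutatorElement_eq_one_iff_mul_comm]
    refine (hcomm _ (a' + 0) (0 + c' + θ m a' * 0) c ?_).symm
    rw [map_mul, hs, Function.surjInv_eq hσ, Function.surjInv_eq hσ, t0_eq_tt, tt_mul]
  have h2 : ⁅s (tt h a 0), s (t0 h c')⁆ = 1 := by
    rw [commutatorElement_eq_one_iff_mul_comm]
    exact hcomm _ a 0 c' (Function.surjInv_eq hσ _)
  rw [comm_mul_left, h1, mul_one, mul_inv_cancel, one_mul, comm_mul_right, h2, mul_one,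
    mul_inv_cancel, mul_one]
  rfl

theorem CCB_add_left (hm : 1 ≤ m) (hF : Fintype.card F = 2 ^ (2 * m + 1))
    (hB : ∀ x y : F, cc σ hσ (tt h x 0) (t0 h y) = 1) (x x'' x' : F) :
    CCB h σ hσ hK hm hF hB (x + x'') x' =
      CCB h σ hσ hK hm hF hB x x' * CCB h σ hσ hK hm hF hB x'' x' := by
  apply Subtype.ext
  apply Subtype.ext
  rw [Subgroup.coe_mul, Subgroup.coe_mul, coe_CCB, coe_CCB, coe_CCB]
  set s := Function.surjInv hσ with hs
  have e1 : ⁅s (tt h x 0) * s (tt h x'' (θ m x * x'')), s (tt h x' 0)⁆ =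
      cc σ hσ (tt h (x + x'') 0) (tt h x' 0) := by
    apply cc_spec σ hσ hK
    · rw [map_mul, hs, Function.surjInv_eq hσ, Function.surjInv_eq hσ, tt_mul]
      congr 1
      have h2 := h.two
      linear_combination (θ m x * x'') * h2
    · exact Function.surjInv_eq hσ _
  rw [← e1, comm_mul_left]
  have e2 : ⁅s (tt h x'' (θ m x * x'')), s (tt h x' 0)⁆ = cc σ hσ (tt h x'' 0) (tt h x' 0) := by
    rw [← cc_tt_splitB h σ hσ hK hm hF hB x'' (θ m x * x'') x' 0]
    rfl
  rw [e2]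
  -- `cc (tt x'' 0) (tt x' 0)` commutes with `s (tt x 0)`
  have e3 : s (tt h x 0) * cc σ hσ (tt h x'' 0) (tt h x' 0) =
      cc σ hσ (tt h x'' 0) (tt h x' 0) * s (tt h x 0) := by
    apply lift_commB h σ hσ hK hm hF hB (Function.surjInv_eq hσ _) (y := Lmap h x' x'')
    rw [map_cc, comm_tt_tt]
  rw [e3, mul_inv_cancel_right]
  -- commute the two factors
  have e4 : cc σ hσ (tt h x'' 0) (tt h x' 0) * cc σ hσ (tt h x 0) (tt h x' 0) =
      cc σ hσ (tt h x 0) (tt h x' 0) * cc σ hσ (tt h x'' 0) (tt h x' 0) := by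
    apply lift_commB h σ hσ hK hm hF hB (a := 0) (c := Lmap h x' x'') (y := Lmap h x' x)
    · rw [map_cc, comm_tt_tt, t0_eq_tt]
    · rw [map_cc, comm_tt_tt]
  exact e4

theorem CCB_add_right (hm : 1 ≤ m) (hF : Fintype.card F = 2 ^ (2 * m + 1))
    (hB : ∀ x y : F, cc σ hσ (tt h x 0) (t0 h y) = 1) (x x' x'' : F) :
    CCB h σ hσ hK hm hF hB x (x' + x'') =
      CCB h σ hσ hK hm hF hB x x' * CCB h σ hσ hK hm hF hB x x'' := by
  apply Subtype.ext
  apply Subtype.ext
  rw [Subgroup.coe_mul, Subgroup.coe_mul, coe_CCB, coe_CCB, coe_CCB]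
  set s := Function.surjInv hσ with hs
  have e1 : ⁅s (tt h x 0), s (tt h x' 0) * s (tt h x'' (θ m x' * x''))⁆ =
      cc σ hσ (tt h x 0) (tt h (x' + x'') 0) := by
    apply cc_spec σ hσ hK
    · exact Function.surjInv_eq hσ _
    · rw [map_mul, hs, Function.surjInv_eq hσ, Function.surjInv_eq hσ, tt_mul]
      congr 1
      have h2 := h.two
      linear_combination (θ m x' * x'') * h2
  rw [← e1, comm_mul_right]
  have e2 : ⁅s (tt h x 0), s (tt h x'' (θ m x' * x''))⁆ = cc σ hσ (tt h x 0) (tt h x'' 0) := by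
    rw [← cc_tt_splitB h σ hσ hK hm hF hB x 0 x'' (θ m x' * x'')]
    rfl
  rw [e2]
  have e3 : s (tt h x' 0) * cc σ hσ (tt h x 0) (tt h x'' 0) =
      cc σ hσ (tt h x 0) (tt h x'' 0) * s (tt h x' 0) := by
    apply lift_commB h σ hσ hK hm hF hB (Function.surjInv_eq hσ _) (y := Lmap h x'' x)
    rw [map_cc, comm_tt_tt]
  rw [e3, mul_inv_cancel_right]
  rfl

/-- elements of the commutator subgroup of the lifted Sylow 2-subgroup which are central in `Γ`
are killed by `q - 1` -/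
theorem pow_eq_one_of_mem_commutatorB (hm : 1 ≤ m) (hF : Fintype.card F = 2 ^ (2 * m + 1))
    (hB : ∀ x y : F, cc σ hσ (tt h x 0) (t0 h y) = 1)
    {w : Γ} (hw : w ∈ ⁅(TS h).comap σ, (TS h).comap σ⁆) (hwc : w ∈ Subgroup.center Γ) :
    w ^ (Fintype.card F - 1) = 1 := by
  classical
  have hm1 : 1 ≤ m := hm
  set H : Subgroup Γ := (TS h).comap σ with hH
  set s := Function.surjInv hσ with hs
  -- lifts of the torus normalise `H`
  have hδ : ∀ (k : Fˣ), ∀ γ ∈ H, s (dd h k) * γ * (s (dd h k))⁻¹ ∈ H := by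
    intro k γ hγ
    rw [hH, Subgroup.mem_comap, map_mul, map_mul, map_inv, hs, Function.surjInv_eq hσ]
    exact conj_dd_mem_TS h hm1 hF k hγ
  have hδ' : ∀ (k : Fˣ), ∀ γ ∈ H, (s (dd h k))⁻¹ * γ * s (dd h k) ∈ H := by
    intro k γ hγ
    rw [hH, Subgroup.mem_comap, map_mul, map_mul, map_inv, hs, Function.surjInv_eq hσ]
    have := conj_dd_mem_TS h hm1 hF k⁻¹ hγ
    rwa [← dd_inv, inv_inv] at this
  let ψ : Fˣ → (Subgroup.center H →* Subgroup.center H) := fun k =>
    conjA (s (dd h k)) (hδ k) (hδ' k)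
  let N : Subgroup.center H →* Subgroup.center H := ∏ k : Fˣ, ψ k
  have hN : ∀ a, N a = ∏ k : Fˣ, ψ k a := fun a => MonoidHom.finsetProd_apply _ _ _
  -- equivariance
  have hψC : ∀ (k : Fˣ) (x x' : F), ψ k (CCB h σ hσ hK hm hF hB x x') =
      CCB h σ hσ hK hm hF hB ((k : F) * x) ((k : F) * x') := by
    intro k x x'
    apply Subtype.ext
    apply Subtype.ext
    show s (dd h k) * cc σ hσ (tt h x 0) (tt h x' 0) * (s (dd h k))⁻¹ =
      cc σ hσ (tt h ((k : F) * x) 0) (tt h ((k : F) * x') 0)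
    rw [conj_cc σ hσ hK, hs, Function.surjInv_eq hσ, conj_dd_tt h hm1 hF, conj_dd_tt h hm1 hF,
      mul_zero]
  -- the invariant biadditive form
  let b : F → F → Additive (Subgroup.center H) := fun x x' =>
    ∑ k : Fˣ, Additive.ofMul (CCB h σ hσ hK hm hF hB ((k : F) * x) ((k : F) * x'))
  have hb : ∀ x x', b x x' = 0 := by
    apply biadd_inv_eq_zero h hm1 hF b
    · intro x x'' x'
      show ∑ k : Fˣ, Additive.ofMul (CCB h σ hσ hK hm hF hB ((k : F) * (x + x'')) ((k : F) * x')) =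
        ∑ k : Fˣ, Additive.ofMul (CCB h σ hσ hK hm hF hB ((k : F) * x) ((k : F) * x')) +
        ∑ k : Fˣ, Additive.ofMul (CCB h σ hσ hK hm hF hB ((k : F) * x'') ((k : F) * x'))
      rw [← Finset.sum_add_distrib]
      refine Finset.sum_congr rfl fun k _ => ?_
      rw [mul_add, CCB_add_left]
      rfl
    · intro x x' x''
      show ∑ k : Fˣ, Additive.ofMul (CCB h σ hσ hK hm hF hB ((k : F) * x) ((k : F) * (x' + x''))) =
        ∑ k : Fˣ, Additive.ofMul (CCB h σ hσ hK hm hF hB ((k : F) * x) ((k : F) * x')) +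
        ∑ k : Fˣ, Additive.ofMul (CCB h σ hσ hK hm hF hB ((k : F) * x) ((k : F) * x''))
      rw [← Finset.sum_add_distrib]
      refine Finset.sum_congr rfl fun k _ => ?_
      rw [mul_add, CCB_add_right]
      rfl
    · intro l hl x x'
      show ∑ k : Fˣ, Additive.ofMul
          (CCB h σ hσ hK hm hF hB ((k : F) * (l * x)) ((k : F) * (l * x'))) =
        ∑ k : Fˣ, Additive.ofMul (CCB h σ hσ hK hm hF hB ((k : F) * x) ((k : F) * x'))
      rw [← Equiv.sum_comp (Equiv.mulRight (Units.mk0 l hl))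
        (fun k : Fˣ => Additive.ofMul (CCB h σ hσ hK hm hF hB ((k : F) * x) ((k : F) * x')))]
      refine Finset.sum_congr rfl fun k _ => ?_
      rw [Equiv.coe_mulRight, Units.val_mul, Units.val_mk0, mul_assoc, mul_assoc]
  -- `N` kills the values of `CCB`
  have hNC : ∀ x x', N (CCB h σ hσ hK hm hF hB x x') = 1 := by
    intro x x'
    rw [hN]
    have h1 := hb x x'
    have h2 : Additive.toMul (b x x') =
        ∏ k : Fˣ, CCB h σ hσ hK hm hF hB ((k : F) * x) ((k : F) * x') := by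
      show Additive.toMul (∑ k : Fˣ, Additive.ofMul
        (CCB h σ hσ hK hm hF hB ((k : F) * x) ((k : F) * x'))) = _
      rw [toMul_sum]
      rfl
    rw [h1] at h2
    rw [Finset.prod_congr rfl (fun k _ => hψC k x x'), ← h2]
    rfl
  -- every commutator of elements of `H` is a value of `CCB`
  have hcomm : ∀ γ γ' : H, ∃ a : Subgroup.center H, (a : H) = ⁅γ, γ'⁆ ∧ N a = 1 := by
    intro γ γ'
    obtain ⟨a, c, hac⟩ := (mem_TS_iff' h).1 (Subgroup.mem_comap.1 γ.2)
    obtain ⟨a', c', hac'⟩ := (mem_TS_iff' h).1 (Subgroup.mem_comap.1 γ'.2)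
    refine ⟨CCB h σ hσ hK hm hF hB a a', ?_, hNC a a'⟩
    apply Subtype.ext
    rw [coe_CCB, ← cc_tt_splitB h σ hσ hK hm hF hB a c a' c']
    exact (cc_spec σ hσ hK hac hac').symm
  -- hence `N` kills (the image of) the commutator subgroup
  have hcl : ∀ w' ∈ commutator H, ∃ a : Subgroup.center H, (a : H) = w' ∧ N a = 1 := by
    intro w' hw'
    rw [commutator_eq_closure] at hw'
    induction hw' using Subgroup.closure_induction with
    | mem x hx =>
      obtain ⟨γ, γ', rfl⟩ := hx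
      exact hcomm γ γ'
    | one => exact ⟨1, rfl, map_one N⟩
    | mul x y _ _ hx hy =>
      obtain ⟨a, ha, hNa⟩ := hx
      obtain ⟨a', ha', hNa'⟩ := hy
      exact ⟨a * a', by rw [Subgroup.coe_mul, ha, ha'], by rw [map_mul, hNa, hNa', one_mul]⟩
    | inv x _ hx =>
      obtain ⟨a, ha, hNa⟩ := hx
      exact ⟨a⁻¹, by rw [Subgroup.coe_inv, ha], by rw [map_inv, hNa, inv_one]⟩
  -- apply to `w`
  rw [← Subgroup.map_subtype_commutator] at hw
  obtain ⟨w', hw', rfl⟩ := hw
  obtain ⟨a, ha, hNa⟩ := hcl w' hw'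
  have hψa : ∀ k : Fˣ, ψ k a = a := by
    intro k
    apply Subtype.ext
    apply Subtype.ext
    show s (dd h k) * ((a : H) : Γ) * (s (dd h k))⁻¹ = ((a : H) : Γ)
    rw [ha]
    rw [Subgroup.mem_center_iff] at hwc
    have := hwc (s (dd h k))
    simp only [Subgroup.coe_subtype] at this
    rw [this, mul_inv_cancel_right]
  rw [hN, Finset.prod_congr rfl (fun k _ => hψa k), Finset.prod_const, Finset.card_univ,
    Fintype.card_units] at hNa
  have := congrArg (fun z : Subgroup.center H => ((z : H) : Γ)) hNa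
  simp only [Subgroup.coe_pow, Subgroup.coe_one] at this
  rw [ha] at this
  exact this

/-- **MULTB**: helper2's theorem `stem_ker_eq_bot` (Lib/H2/SzMult2-4) with `2 ≤ m` replaced by `1 ≤ m` and
the conclusion of `stepB` as a hypothesis. -/
theorem stem_ker_eq_bot_of_stepB [Finite Γ] (hm : 1 ≤ m) (hF : Fintype.card F = 2 ^ (2 * m + 1))
    (hK' : σ.ker ≤ commutator Γ)
    (hB : ∀ x y : F, cc σ hσ (tt h x 0) (t0 h y) = 1) : σ.ker = ⊥ := by
  have hm1 : 1 ≤ m := hm
  rw [eq_bot_iff]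
  intro z hz
  rw [Subgroup.mem_bot]
  by_contra hne
  have hzc := hK hz
  have hz' := hK' hz
  have hord : orderOf z ≠ 1 := fun h1 => hne (orderOf_eq_one_iff.1 h1)
  obtain ⟨p, hp, hpz⟩ := Nat.exists_prime_and_dvd hord
  have : Fact p.Prime := ⟨hp⟩
  by_cases hp2 : p = 2
  · -- the prime 2
    subst hp2
    set H : Subgroup Γ := (TS h).comap σ with hH
    have h1 := pow_index_mem_commutator H hzc hz'
    have h2 := pow_eq_one_of_mem_commutatorB h σ hσ hK hm hF hB h1 (Subgroup.pow_mem _ hzc _)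
    rw [← pow_mul] at h2
    have h3 : orderOf z ∣ H.index * (Fintype.card F - 1) := orderOf_dvd_of_pow_eq_one h2
    have h4 : H.index = (TS h).index := Subgroup.index_comap_of_surjective _ hσ
    have h5 : ¬ 2 ∣ (TS h).index := (sylowTS h hm1 hF).not_dvd_index
    have h6 : ¬ 2 ∣ Fintype.card F - 1 := by
      rw [hF]
      have : 2 ∣ 2 ^ (2 * m + 1) := dvd_pow_self 2 (by omega)
      have hpos : 0 < 2 ^ (2 * m + 1) := by positivity
      omega
    rw [h4] at h3
    exact (Nat.Prime.dvd_mul Nat.prime_two).not.2 (not_or.2 ⟨h5, h6⟩) (hpz.trans h3)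
  · -- odd primes
    obtain ⟨S⟩ : Nonempty (Sylow p (Sz F m)) := inferInstance
    have hcyc : IsCyclic S := Cfsg.Agent.S0331.result hm1 hF hp2 S
    set H : Subgroup Γ := (S : Subgroup (Sz F m)).comap σ with hH
    have hab : ∀ a ∈ H, ∀ b ∈ H, a * b = b * a := by
      intro a ha b hb
      have hker : (σ.subgroupComap (S : Subgroup (Sz F m))).ker ≤ Subgroup.center H := by
        intro x hx
        rw [Subgroup.mem_center_iff]
        intro g
        apply Subtype.ext
        have hx' : (x : Γ) ∈ σ.ker := by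
          rw [MonoidHom.mem_ker] at hx ⊢
          exact congrArg Subtype.val hx
        have := hK hx'
        rw [Subgroup.mem_center_iff] at this
        exact this g
      have hcm := (σ.subgroupComap (S : Subgroup (Sz F m))).isMulCommutative_of_isCyclic_of_ker_le_center
        hker
      have := hcm.is_comm.comm (⟨a, ha⟩ : H) ⟨b, hb⟩
      exact congrArg Subtype.val this
    have h1 := pow_index_eq_one H hab hzc hz'
    have h3 : orderOf z ∣ H.index := orderOf_dvd_of_pow_eq_one h1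
    have h4 : H.index = (S : Subgroup (Sz F m)).index := Subgroup.index_comap_of_surjective _ hσ
    rw [h4] at h3
    exact S.not_dvd_index (hpz.trans h3)

end U

end Cfsg.Agent.Lib.H3.SZ8
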