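import Mathlib
import Cfsg.Prelude.Def_GeometricClasses
import Cfsg.Agent.Lib.Lead.AschDefs
import Cfsg.Agent.Lib.H3.AschU1
import Cfsg.Agent.Lib.H3.AschU67
import Cfsg.Agent.Lib.H3.AschM7B1

/-!
# S5630 project, phase 2, P2-F4 (helper3): the dimension of a class-6 member is a power of `r`
-/

set_option autoImplicit false

namespace Cfsg.Agent.Lib.H3.AschP2

open Cfsg Cfsg.Geo Cfsg.Agent.Lib.Lead.Asch Cfsg.Agent.Lib.H3.Asch
open scoped MatrixGroups Matrix

variable {F : Type*} [Field F] [Fintype F] {n : ℕ}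

/-- For an absolutely irreducible group the scalars of `R` are the centre of `R`. -/
theorem card_scalars_subgroupOf_eq_card_center (R : Subgroup (GL (Fin n) F))
    (h : ActsAbsolutelyIrreducibly (matrixSet R)) :
    Nat.card ((scalars (Fin n) F).subgroupOf R) = Nat.card (Subgroup.center R) := by
  have heq : (scalars (Fin n) F).subgroupOf R = Subgroup.center R := by
    ext x
    rw [Subgroup.mem_subgroupOf, Subgroup.mem_center_iff]
    constructor
    · intro hx g
      apply Subtype.ext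
      rw [Subgroup.coe_mul, Subgroup.coe_mul]
      exact (scalar_comm' hx (g : GL (Fin n) F)).symm
    · intro hx
      apply mem_scalars_of_absIrr_of_commute R h
      intro y hy
      have := hx ⟨y, hy⟩
      have h2 := congrArg Subtype.val this
      rw [Subgroup.coe_mul, Subgroup.coe_mul] at h2
      exact h2.symm
  rw [heq]

/-- `n² = r^(2m)` gives `n = r^m`. -/
theorem eq_pow_of_sq_eq_pow {n r m : ℕ} (h : n ^ 2 = r ^ (2 * m)) : n = r ^ m := by
  have h2 : n ^ 2 = (r ^ m) ^ 2 := by rw [h, ← pow_mul, mul_comm]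
  exact Nat.pow_left_injective (by norm_num : 2 ≠ 0) h2

/-- **P2-F4**. -/
theorem c6_dim (hn : 3 ≤ n) (r : ℕ) (R : Subgroup (GL (Fin n) F)) (hR : IsLinearSymplecticTypeData r R)
    (hcl2 : ∀ x ∈ R, ∀ y ∈ R, x * y * x⁻¹ * y⁻¹ ∈ scalars (Fin n) F) : ∃ k : ℕ, 1 ≤ k ∧ n = r ^ k := by
  have hspan := span_eq_top_of_absIrr R hR.absIrred
  have hcard := card_eq_of_span_eq_top (by omega : 0 < n) R hcl2 hspan
  rw [card_scalars_subgroupOf_eq_card_center R hR.absIrred] at hcard
  have hr : r.Prime := hR.symplecticType.prime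
  obtain ⟨p, e, _, _, hcases⟩ := hR.field
  rcases hcases with ⟨_, _, hZ, m, hm, hRc⟩ | ⟨hr2, _, hZ, _, m, hRc⟩ | ⟨_, _, hι, _⟩
  · refine ⟨m, hm, ?_⟩
    rw [hZ, hRc, pow_add, pow_one] at hcard
    have := Nat.eq_of_mul_eq_mul_left hr.pos hcard
    exact eq_pow_of_sq_eq_pow this.symm
  · subst hr2
    rw [hZ, hRc, pow_add] at hcard
    have h4 : n ^ 2 = 2 ^ (2 * m) := by
      have : 4 * 2 ^ (2 * m) = 4 * n ^ 2 := by
        have e4 : (2 : ℕ) ^ 2 = 4 := by norm_num
        rw [e4] at hcard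
        exact hcard
      exact (Nat.eq_of_mul_eq_mul_left (by norm_num) this).symm
    have hnm := eq_pow_of_sq_eq_pow h4
    refine ⟨m, ?_, hnm⟩
    rcases Nat.eq_zero_or_pos m with h0 | h0
    · subst h0
      rw [pow_zero] at hnm
      omega
    · exact h0
  · exfalso
    rw [Fintype.card_fin] at hι
    omega

end Cfsg.Agent.Lib.H3.AschP2
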