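import Mathlib

set_option autoImplicit false

/-!
# A concrete field with four elements
-/

namespace Cfsg.Agent.Lib.H3.F4

/-- the field with four elements: `0, 1, ω, ω² = ω + 1` -/
inductive F4 : Type
  | z | o | w | w2
  deriving DecidableEq

namespace F4

instance : Fintype F4 := ⟨⟨[z, o, w, w2], by decide⟩, fun x => by cases x <;> decide⟩

/-- addition -/
def add : F4 → F4 → F4
  | z, y => y
  | x, z => x
  | o, o => z
  | o, w => w2
  | o, w2 => w
  | w, o => w2
  | w, w => z
  | w, w2 => o
  | w2, o => w
  | w2, w => o
  | w2, w2 => z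

/-- multiplication -/
def mul : F4 → F4 → F4
  | z, _ => z
  | _, z => z
  | o, y => y
  | x, o => x
  | w, w => w2
  | w, w2 => o
  | w2, w => o
  | w2, w2 => w

/-- inversion -/
def inv : F4 → F4
  | z => z
  | o => o
  | w => w2
  | w2 => w

instance : Zero F4 := ⟨z⟩
instance : One F4 := ⟨o⟩
instance : Add F4 := ⟨add⟩
instance : Mul F4 := ⟨mul⟩
instance : Neg F4 := ⟨id⟩
instance : Inv F4 := ⟨inv⟩

instance : Field F4 where
  nsmul := nsmulRec
  zsmul := zsmulRec
  npow := npowRec
  add_assoc := by intro a b c; cases a <;> cases b <;> cases c <;> rfl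
  zero_add := by intro a; cases a <;> rfl
  add_zero := by intro a; cases a <;> rfl
  add_comm := by intro a b; cases a <;> cases b <;> rfl
  neg_add_cancel := by intro a; cases a <;> rfl
  left_distrib := by intro a b c; cases a <;> cases b <;> cases c <;> rfl
  right_distrib := by intro a b c; cases a <;> cases b <;> cases c <;> rfl
  zero_mul := by intro a; cases a <;> rfl
  mul_zero := by intro a; cases a <;> rfl
  mul_assoc := by intro a b c; cases a <;> cases b <;> cases c <;> rfl
  one_mul := by intro a; cases a <;> rfl
  mul_one := by intro a; cases a <;> rfl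
  mul_comm := by intro a b; cases a <;> cases b <;> rfl
  exists_pair_ne := ⟨z, o, by decide⟩
  mul_inv_cancel := by intro a ha; cases a <;> first | rfl | exact absurd rfl ha
  inv_zero := rfl
  nnqsmul := _
  qsmul := _

theorem card_eq : Fintype.card F4 = 4 := rfl

theorem w_root : (w : F4) ^ 2 + w + 1 = 0 := by decide

/-- low bit: the coefficient of `1` -/
def lo : F4 → Bool
  | z => false
  | o => true
  | w => false
  | w2 => true

/-- high bit: the coefficient of `ω` -/
def hi : F4 → Bool
  | z => false
  | o => false
  | w => true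
  | w2 => true

theorem lo_add (x y : F4) : lo (x + y) = xor (lo x) (lo y) := by cases x <;> cases y <;> rfl
theorem hi_add (x y : F4) : hi (x + y) = xor (hi x) (hi y) := by cases x <;> cases y <;> rfl

theorem ext_bits {x y : F4} (h1 : lo x = lo y) (h2 : hi x = hi y) : x = y := by
  cases x <;> cases y <;> simp_all [lo, hi]

theorem eq_bits (x : F4) : x = (if lo x then 1 else 0) + (if hi x then w else 0) := by
  cases x <;> decide

end F4

end Cfsg.Agent.Lib.H3.F4
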