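import Cfsg.Prelude.Def_SolvableStructure
import Mathlib

set_option autoImplicit false
open Cfsg

namespace Cfsg.Agent.Lib.H3

variable {G : Type*} [Group G]

/-- Subgroups reachable from `⊥` by a chain of `G`-normal subgroups with cyclic steps. -/
inductive SSReach : Subgroup G → Prop
  | bot : SSReach ⊥
  | step (K : Subgroup G) (g : G) : SSReach K → (K ⊔ Subgroup.zpowers g).Normal →
      SSReach (K ⊔ Subgroup.zpowers g)

theorem SSReach.normal {K : Subgroup G} (h : SSReach K) : K.Normal := by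
  cases h with
  | bot => exact Subgroup.normal_bot
  | step K g _ hn => exact hn

theorem ssReach_of_chain (n : ℕ) (H : Fin (n + 1) → Subgroup G) (h0 : H 0 = ⊥)
    (hn : ∀ i, (H i).Normal)
    (hs : ∀ i : Fin n, ∃ g : G, H i.succ = H i.castSucc ⊔ Subgroup.zpowers g) (i : Fin (n + 1)) :
    SSReach (H i) := by
  induction i using Fin.induction with
  | zero => rw [h0]; exact SSReach.bot
  | succ i ih =>
    obtain ⟨g, hg⟩ := hs i
    have := hn i.succ
    rw [hg] at this ⊢
    exact SSReach.step _ g ih this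

theorem chain_of_ssReach {K : Subgroup G} (h : SSReach K) :
    ∃ (n : ℕ) (H : Fin (n + 1) → Subgroup G), H 0 = ⊥ ∧ H (Fin.last n) = K ∧ (∀ i, (H i).Normal) ∧
      ∀ i : Fin n, ∃ g : G, H i.succ = H i.castSucc ⊔ Subgroup.zpowers g := by
  induction h with
  | bot =>
    exact ⟨0, fun _ => ⊥, rfl, rfl, fun _ => Subgroup.normal_bot, fun i => i.elim0⟩
  | step K g hK hn ih =>
    obtain ⟨n, H, h0, hl, hnorm, hs⟩ := ih
    refine ⟨n + 1, Fin.snoc (α := fun _ => Subgroup G) H (K ⊔ Subgroup.zpowers g), ?_, ?_, ?_, ?_⟩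
    · have : (0 : Fin (n + 2)) = Fin.castSucc (0 : Fin (n + 1)) := rfl
      rw [this, Fin.snoc_castSucc]; exact h0
    · rw [Fin.snoc_last]
    · intro i
      induction i using Fin.lastCases with
      | last => rw [Fin.snoc_last]; exact hn
      | cast i => rw [Fin.snoc_castSucc]; exact hnorm i
    · intro i
      induction i using Fin.lastCases with
      | last =>
        refine ⟨g, ?_⟩
        have h1 : (Fin.last n).succ = Fin.last (n + 1) := rfl
        rw [h1, Fin.snoc_last, Fin.snoc_castSucc, hl]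
      | cast i =>
        obtain ⟨g', hg'⟩ := hs i
        refine ⟨g', ?_⟩
        have h1 : (Fin.castSucc i).succ = Fin.castSucc i.succ := rfl
        rw [h1, Fin.snoc_castSucc, Fin.snoc_castSucc, hg']

theorem isSupersolvable_iff : IsSupersolvable G ↔ SSReach (⊤ : Subgroup G) := by
  constructor
  · rintro ⟨n, H, h0, hl, hn, hs⟩
    rw [← hl]
    exact ssReach_of_chain n H h0 hn hs _
  · intro h
    obtain ⟨n, H, h0, hl, hn, hs⟩ := chain_of_ssReach h
    exact ⟨n, H, h0, hl, hn, hs⟩

variable {G' : Type*} [Group G']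

theorem SSReach.map {K : Subgroup G} (h : SSReach K) (f : G →* G') (hf : Function.Surjective f) :
    SSReach (K.map f) := by
  induction h with
  | bot => rw [Subgroup.map_bot]; exact SSReach.bot
  | step K g hK hn ih =>
    have := hn.map f hf
    rw [Subgroup.map_sup, MonoidHom.map_zpowers] at this ⊢
    exact SSReach.step _ _ ih this

/-- Extension: if the kernel of a surjection is reachable, preimages of reachable subgroups are
reachable. -/
theorem SSReach.comap (f : G →* G') (hf : Function.Surjective f) (hker : SSReach f.ker)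
    {K : Subgroup G'} (h : SSReach K) : SSReach (K.comap f) := by
  induction h with
  | bot => rw [MonoidHom.comap_bot]; exact hker
  | step K g hK hn ih =>
    obtain ⟨g0, rfl⟩ := hf g
    have h1 : (K ⊔ Subgroup.zpowers (f g0)).comap f = K.comap f ⊔ Subgroup.zpowers g0 := by
      rw [← Subgroup.comap_sup_eq f _ _ hf, ← MonoidHom.map_zpowers, Subgroup.comap_map_eq,
        sup_comm (Subgroup.zpowers g0), ← sup_assoc, sup_eq_left.2 (Subgroup.ker_le_comap f K)]
    have := hn.comap f
    rw [h1] at this ⊢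
    exact SSReach.step _ _ ih this

/-- Key step: intersecting a cyclic step over a normal subgroup with an arbitrary subgroup
again gives a cyclic step. -/
theorem exists_inf_sup_zpowers (K : Subgroup G) [hK : K.Normal] (g : G) (U : Subgroup G) :
    ∃ u ∈ U, u ∈ K ⊔ Subgroup.zpowers g ∧
      (K ⊔ Subgroup.zpowers g) ⊓ U = (K ⊓ U) ⊔ Subgroup.zpowers u := by
  -- membership in K via the quotient
  have hmk : ∀ x : G, x ∈ K ↔ (QuotientGroup.mk' K x) = 1 := fun x =>
    (QuotientGroup.eq_one_iff x).symm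
  have hk1 : ∀ k ∈ K, QuotientGroup.mk' K k = 1 := fun k hk => (hmk k).1 hk
  let J : AddSubgroup ℤ :=
    { carrier := {j | ∃ k ∈ K, k * g ^ j ∈ U}
      zero_mem' := ⟨1, K.one_mem, by simp [U.one_mem]⟩
      add_mem' := by
        rintro a b ⟨k1, hk1', h1⟩ ⟨k2, hk2', h2⟩
        refine ⟨k1 * (g ^ a * k2 * (g ^ a)⁻¹), K.mul_mem hk1' (hK.conj_mem _ hk2' _), ?_⟩
        have : k1 * (g ^ a * k2 * (g ^ a)⁻¹) * g ^ (a + b) = (k1 * g ^ a) * (k2 * g ^ b) := by
          rw [zpow_add]; group
        rw [this]; exact U.mul_mem h1 h2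
      neg_mem' := by
        rintro a ⟨k1, hk1', h1⟩
        refine ⟨(g ^ a)⁻¹ * k1⁻¹ * (g ^ a)⁻¹⁻¹, hK.conj_mem _ (K.inv_mem hk1') _, ?_⟩
        have : (g ^ a)⁻¹ * k1⁻¹ * (g ^ a)⁻¹⁻¹ * g ^ (-a) = (k1 * g ^ a)⁻¹ := by
          rw [zpow_neg]; group
        rw [this]; exact U.inv_mem h1 }
  obtain ⟨d, hd⟩ := Int.subgroup_cyclic J
  have hdJ : d ∈ J := by rw [hd]; exact AddSubgroup.subset_closure rfl
  obtain ⟨k0, hk0, hu0⟩ := hdJ
  refine ⟨k0 * g ^ d, hu0, ?_, ?_⟩
  · exact Subgroup.mul_mem_sup hk0 (Subgroup.zpow_mem_zpowers g d)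
  apply le_antisymm
  · rintro x ⟨hxL, hxU⟩
    obtain ⟨k, hk, z, hz, rfl⟩ := Subgroup.mem_sup_of_normal_left.1 hxL
    obtain ⟨j, rfl⟩ := Subgroup.mem_zpowers_iff.1 hz
    have hjJ : j ∈ J := ⟨k, hk, hxU⟩
    rw [hd, ← AddSubgroup.zmultiples_eq_closure] at hjJ
    obtain ⟨m, hm⟩ := AddSubgroup.mem_zmultiples_iff.1 hjJ
    -- x = (x * (u^m)⁻¹) * u^m
    have hx : k * g ^ j = (k * g ^ j * ((k0 * g ^ d) ^ m)⁻¹) * (k0 * g ^ d) ^ m := by group
    rw [hx]
    refine Subgroup.mul_mem_sup ⟨?_, ?_⟩ (Subgroup.zpow_mem_zpowers _ m)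
    · show k * g ^ j * ((k0 * g ^ d) ^ m)⁻¹ ∈ K
      rw [hmk]
      simp only [map_mul, map_inv, map_zpow, hk1 k hk, hk1 k0 hk0, one_mul]
      rw [← zpow_mul, ← hm, smul_eq_mul, mul_comm, mul_inv_cancel]
    · exact U.mul_mem hxU (U.inv_mem (U.zpow_mem hu0 m))
  · refine sup_le (inf_le_inf_right U le_sup_left) ?_
    rw [Subgroup.zpowers_le]
    exact ⟨Subgroup.mul_mem_sup hk0 (Subgroup.zpow_mem_zpowers g d), hu0⟩

theorem SSReach.subgroupOf {K : Subgroup G} (h : SSReach K) (U : Subgroup G) :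
    SSReach (K.subgroupOf U) := by
  induction h with
  | bot => rw [Subgroup.bot_subgroupOf]; exact SSReach.bot
  | step K g hK hn ih =>
    have := hK.normal
    obtain ⟨u, hu, -, he⟩ := exists_inf_sup_zpowers K g U
    have h1 : (K ⊔ Subgroup.zpowers g).subgroupOf U
        = K.subgroupOf U ⊔ Subgroup.zpowers (⟨u, hu⟩ : U) := by
      rw [← Subgroup.inf_subgroupOf_right, he,
        Subgroup.subgroupOf_sup inf_le_right (by rwa [Subgroup.zpowers_le]),
        Subgroup.inf_subgroupOf_right]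
      congr 1
      have : Subgroup.zpowers u = (Subgroup.zpowers (⟨u, hu⟩ : U)).map U.subtype := by
        rw [MonoidHom.map_zpowers]; rfl
      rw [this, Subgroup.subgroupOf, Subgroup.comap_map_eq_self_of_injective U.subtype_injective]
    have := hn.subgroupOf U
    rw [h1] at this ⊢
    exact SSReach.step _ _ ih this

theorem map_inl_eq_prod_bot (K : Subgroup G) : K.map (MonoidHom.inl G G') = K.prod ⊥ := by
  ext ⟨a, b⟩
  simp only [Subgroup.mem_map, MonoidHom.inl_apply, Prod.mk.injEq, Subgroup.mem_prod,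
    Subgroup.mem_bot]
  constructor
  · rintro ⟨x, hx, rfl, rfl⟩; exact ⟨hx, rfl⟩
  · rintro ⟨ha, rfl⟩; exact ⟨a, ha, rfl, rfl⟩

theorem SSReach.map_inl {K : Subgroup G} (h : SSReach K) :
    SSReach (K.map (MonoidHom.inl G G')) := by
  induction h with
  | bot => rw [Subgroup.map_bot]; exact SSReach.bot
  | step K g hK hn ih =>
    have : ((K ⊔ Subgroup.zpowers g).map (MonoidHom.inl G G')).Normal := by
      rw [map_inl_eq_prod_bot]; infer_instance
    rw [Subgroup.map_sup, MonoidHom.map_zpowers] at this ⊢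
    exact SSReach.step _ _ ih this

theorem SSReach.prod_top (hG : SSReach (⊤ : Subgroup G)) (hG' : SSReach (⊤ : Subgroup G')) :
    SSReach (⊤ : Subgroup (G × G')) := by
  have h1 : SSReach (MonoidHom.snd G G').ker := by
    have := hG.map_inl (G' := G')
    rw [map_inl_eq_prod_bot, Subgroup.top_prod, MonoidHom.comap_bot] at this
    exact this
  have := SSReach.comap (MonoidHom.snd G G') Prod.snd_surjective h1 hG'
  rwa [Subgroup.comap_top] at this

end Cfsg.Agent.Lib.H3
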