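import Mathlib
import Cfsg.Prelude.Def_SolvableStructure
import Cfsg.Prelude.Def_Solvable
import Cfsg.Agent.Lib.L0.SFDefs
import Cfsg.Agent.Lib.H3.Supersolvable
import Cfsg.Agent.Lib.H26.SFA
import Cfsg.Agent.Lib.H22.SFC1

/-!
# S4130-C2 + S4130-C3 (lead's farm-out), CORE versions with solvability as a hypothesis

* `card_prime_of_minimal_normal_of_isSolvable` : a minimal normal subgroup has prime order.
* `isSupersolvable_of_isSolvable`.
The exact-signature versions (using B6 `SFClass.isSolvable`) are in `Lib/H3/SFC2.lean`.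
-/

set_option autoImplicit false

namespace Cfsg.Agent.Lib.H3.SF

open Cfsg.Agent.Lib.L0.SF

/-- A minimal normal subgroup of a finite solvable group is elementary abelian. -/
theorem elemAbelian_of_minimal_normal {G : Type*} [Group G] [Finite G] (hsol : Group.IsSolvable G)
    (U : Subgroup G) [hUn : U.Normal] (hU : U ≠ ⊥)
    (hmin : ∀ V : Subgroup G, V.Normal → V ≤ U → V = ⊥ ∨ V = U) :
    (∀ a ∈ U, ∀ b ∈ U, a * b = b * a) ∧ ∃ r : ℕ, r.Prime ∧ ∀ a ∈ U, a ^ r = 1 := by
  have := hsol
  have : Nontrivial ↥U := (Subgroup.nontrivial_iff_ne_bot U).2 hU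
  have hlt : _root_.commutator ↥U < ⊤ := Group.IsSolvable.commutator_lt_top_of_nontrivial ↥U
  have hcomm : ⁅U, U⁆ = ⊥ := by
    have hn : (⁅U, U⁆ : Subgroup G).Normal := inferInstance
    rcases hmin ⁅U, U⁆ hn (Subgroup.commutator_le_right U U) with h | h
    · exact h
    · exfalso
      have h1 : (_root_.commutator ↥U).map U.subtype = (⊤ : Subgroup ↥U).map U.subtype := by
        rw [Subgroup.map_subtype_commutator, h, ← MonoidHom.range_eq_map, Subgroup.range_subtype]
      have h2 := Subgroup.map_injective U.subtype_injective h1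
      exact hlt.ne h2
  have hab : ∀ a ∈ U, ∀ b ∈ U, a * b = b * a := by
    intro a ha b hb
    have h1 := Subgroup.commutator_mem_commutator ha hb
    rw [hcomm, Subgroup.mem_bot] at h1
    exact commutatorElement_eq_one_iff_mul_comm.1 h1
  refine ⟨hab, ?_⟩
  have hc1 : Nat.card ↥U ≠ 1 := by
    intro h; exact hU (Subgroup.eq_bot_of_card_eq _ h)
  obtain ⟨r, hr, hrdvd⟩ := Nat.exists_prime_and_dvd hc1
  have : Fact r.Prime := ⟨hr⟩
  obtain ⟨x, hx⟩ := exists_prime_orderOf_dvd_card' (G := ↥U) r hrdvd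
  let Ω : Subgroup G :=
    { carrier := {u | u ∈ U ∧ u ^ r = 1}
      one_mem' := ⟨U.one_mem, one_pow r⟩
      mul_mem' := fun {a b} ha hb =>
        ⟨U.mul_mem ha.1 hb.1, by
          have hc : Commute a b := hab a ha.1 b hb.1
          rw [hc.mul_pow, ha.2, hb.2, one_mul]⟩
      inv_mem' := fun {a} ha => ⟨U.inv_mem ha.1, by rw [inv_pow, ha.2, inv_one]⟩ }
  have hΩn : Ω.Normal := ⟨fun u hu g =>
    ⟨hUn.conj_mem u hu.1 g, by rw [conj_pow, hu.2, mul_one, mul_inv_cancel]⟩⟩
  have hΩU : Ω ≤ U := fun u hu => hu.1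
  have hxΩ : (x : G) ∈ Ω := ⟨x.2, by
    have := pow_orderOf_eq_one x
    rw [hx] at this
    have h2 := congrArg Subtype.val this
    simpa using h2⟩
  have hx1 : (x : G) ≠ 1 := by
    intro h
    have : x = 1 := Subtype.ext h
    rw [this, orderOf_one] at hx
    exact hr.one_lt.ne hx
  rcases hmin Ω hΩn hΩU with h | h
  · exfalso
    rw [h, Subgroup.mem_bot] at hxΩ
    exact hx1 hxΩ
  · refine ⟨r, hr, fun a ha => ?_⟩
    rw [← h] at ha
    exact ha.2

/-- **S4130-C2**, core.  A minimal normal subgroup has prime order. -/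
theorem card_prime_of_minimal_normal_of_isSolvable {G : Type*} [Group G] [Finite G]
    (hsol : Group.IsSolvable G) (h : SFClass G)
    (U : Subgroup G) [U.Normal] (hU : U ≠ ⊥)
    (hmin : ∀ V : Subgroup G, V.Normal → V ≤ U → V = ⊥ ∨ V = U) : (Nat.card U).Prime := by
  obtain ⟨hab, r, hr, hexp⟩ :=
    elemAbelian_of_minimal_normal hsol U hU hmin
  have : Fact r.Prime := ⟨hr⟩
  have hP : IsPGroup r U := by
    intro g
    refine ⟨1, ?_⟩
    rw [pow_one]
    apply Subtype.ext
    rw [Subgroup.coe_pow, Subgroup.coe_one]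
    exact hexp g.1 g.2
  obtain ⟨V, hVn, hVU, hVc⟩ := Cfsg.Agent.Lib.H22.SF.exists_normal_card_prime_of_relIndex_dvd U hU hab hexp
    (fun g => Cfsg.Agent.Lib.H26.SF.SFClass.relIndex_dvd_prime h U hP g)
  rcases hmin V hVn hVU with hV | hV
  · exfalso
    rw [hV, Subgroup.card_bot] at hVc
    exact hr.one_lt.ne hVc
  · rw [← hV, hVc]; exact hr

theorem isSupersolvable_aux.{u} : ∀ n : ℕ, ∀ (G : Type u) [Group G] [Finite G], Nat.card G = n →
    Group.IsSolvable G → SFClass G → Cfsg.IsSupersolvable G := by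
  intro n
  induction n using Nat.strong_induction_on with
  | _ n ih =>
    intro G _ _ hn hsol h
    rw [Cfsg.Agent.Lib.H3.isSupersolvable_iff]
    by_cases htriv : Subsingleton G
    · have hb : (⊤ : Subgroup G) = ⊥ := Subsingleton.elim _ _
      rw [hb]; exact Cfsg.Agent.Lib.H3.SSReach.bot
    · rw [not_subsingleton_iff_nontrivial] at htriv
      -- a minimal normal subgroup
      have hne : ({N : Subgroup G | N.Normal ∧ N ≠ ⊥} : Set (Subgroup G)).Nonempty :=
        ⟨⊤, inferInstance, top_ne_bot⟩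
      obtain ⟨U, ⟨hUn, hU⟩, hUmin⟩ := wellFounded_lt.has_min _ hne
      have := hUn
      have hmin : ∀ V : Subgroup G, V.Normal → V ≤ U → V = ⊥ ∨ V = U := by
        intro V hVn hVU
        by_cases hV : V = ⊥
        · exact Or.inl hV
        · right
          by_contra hne'
          exact hUmin V ⟨hVn, hV⟩ (lt_of_le_of_ne hVU hne')
      have hprime := card_prime_of_minimal_normal_of_isSolvable hsol h U hU hmin
      have : Fact (Nat.card ↥U).Prime := ⟨hprime⟩
      have : IsCyclic ↥U := isCyclic_of_prime_card rfl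
      obtain ⟨u, hu⟩ := IsCyclic.exists_generator (α := ↥U)
      have hUz : ⊥ ⊔ Subgroup.zpowers (u : G) = U := by
        rw [bot_sup_eq]
        apply le_antisymm
        · rw [Subgroup.zpowers_le]; exact u.2
        · intro x hx
          obtain ⟨k, hk⟩ := Subgroup.mem_zpowers_iff.1 (hu ⟨x, hx⟩)
          refine Subgroup.mem_zpowers_iff.2 ⟨k, ?_⟩
          have := congrArg Subtype.val hk
          simpa using this
      have hUreach : Cfsg.Agent.Lib.H3.SSReach U := by
        have := Cfsg.Agent.Lib.H3.SSReach.step ⊥ (u : G) Cfsg.Agent.Lib.H3.SSReach.bot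
          (by rw [hUz]; exact hUn)
        rwa [hUz] at this
      -- the quotient
      have hcard : Nat.card (G ⧸ U) < n := by
        have h1 := Subgroup.card_eq_card_quotient_mul_card_subgroup U
        rw [hn] at h1
        have h2 : 1 < Nat.card ↥U := hprime.one_lt
        have h3 : 0 < Nat.card (G ⧸ U) := Nat.card_pos
        rw [h1]
        nlinarith
      have hqsol : Group.IsSolvable (G ⧸ U) := by
        have := hsol
        exact inferInstance
      have hq := ih _ hcard (G ⧸ U) rfl hqsol (Cfsg.Agent.Lib.H26.SF.SFClass.quotient h U)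
      rw [Cfsg.Agent.Lib.H3.isSupersolvable_iff] at hq
      have := Cfsg.Agent.Lib.H3.SSReach.comap (QuotientGroup.mk' U) (QuotientGroup.mk'_surjective U)
        (by rw [QuotientGroup.ker_mk']; exact hUreach) hq
      rwa [Subgroup.comap_top] at this

/-- **S4130-C3**, core. -/
theorem isSupersolvable_of_isSolvable {G : Type*} [Group G] [Finite G] (hsol : Group.IsSolvable G)
    (h : SFClass G) : Cfsg.IsSupersolvable G :=
  isSupersolvable_aux _ G rfl hsol h

end Cfsg.Agent.Lib.H3.SF
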