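import Mathlib
import Cfsg.Prelude.Def_SolvableStructure
import Cfsg.Prelude.Def_Solvable
import Cfsg.Agent.Lib.L0.SFDefs
import Cfsg.Agent.Lib.H3.SFC2Core
import Cfsg.Agent.Lib.H1.SFB56

/-!
# S4130-C2 + S4130-C3 (lead's farm-out): squarefree class sizes ⟹ supersolvable (exact signatures)

* `SFClass.card_prime_of_minimal_normal` : a minimal normal subgroup has prime order.
* `SFClass.isSupersolvable`.
Proofs: `Lib/H3/SFC2Core` + helper1's B6 (`SFClass.isSolvable`).
-/

set_option autoImplicit false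

namespace Cfsg.Agent.Lib.H3.SF

open Cfsg.Agent.Lib.L0.SF

/-- **S4130-C2**.  A minimal normal subgroup has prime order. -/
theorem SFClass.card_prime_of_minimal_normal {G : Type*} [Group G] [Finite G] (h : SFClass G)
    (U : Subgroup G) [U.Normal] (hU : U ≠ ⊥)
    (hmin : ∀ V : Subgroup G, V.Normal → V ≤ U → V = ⊥ ∨ V = U) : (Nat.card U).Prime :=
  card_prime_of_minimal_normal_of_isSolvable (Cfsg.Agent.Lib.H1.SF.SFClass.isSolvable h) h U hU hmin

/-- **S4130-C3**. -/
theorem SFClass.isSupersolvable {G : Type*} [Group G] [Finite G] (h : SFClass G) :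
    Cfsg.IsSupersolvable G :=
  isSupersolvable_of_isSolvable (Cfsg.Agent.Lib.H1.SF.SFClass.isSolvable h) h

end Cfsg.Agent.Lib.H3.SF
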