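import Mathlib
import Cfsg.Agent.Lib.H3.J1Data

set_option autoImplicit false
set_option maxRecDepth 100000

/-! # Kernel evaluation of the `J₁` certificate -/

namespace Cfsg.Agent.Lib.H3.J1

open Cfsg.Agent.Lib.H3.DC Cfsg.Agent.Lib.H3

theorem LM_check1 : LM.check1 ModP.model = true := by decide +kernel
theorem LM_check2_0 : LM.check2 ModP.model 0 = true := by decide +kernel
theorem LM_check2_1 : LM.check2 ModP.model 1 = true := by decide +kernel
theorem LM_check3 : LM.check3 = true := by decide +kernel
theorem LM_check4 : LM.check4 = true := by decide +kernel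

theorem DD_chk1 : DD.chk1 ModP.model = true := by decide +kernel
theorem DD_chk2 : DD.chk2 ModP.model = true := by decide +kernel
theorem DD_chk3 : DD.chk3 ModP.model = true := by decide +kernel
theorem DD_chk4 : DD.chk4 ModP.model = true := by decide +kernel
theorem DD_chk5 : DD.chk5 ModP.model = true := by decide +kernel
theorem DD_chk6 : DD.chk6 ModP.model = true := by decide +kernel

end Cfsg.Agent.Lib.H3.J1
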