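import Mathlib
import Cfsg.Agent.Lib.H3.J1Data

set_option autoImplicit false
set_option maxRecDepth 100000

/-! # Kernel evaluation of the `J₁` certificate, part 2 -/

namespace Cfsg.Agent.Lib.H3.J1

open Cfsg.Agent.Lib.H3.DC Cfsg.Agent.Lib.H3

theorem DD_chk7 : (allLt 19 fun i => allLt 68 fun j => DD.chk7 ModP.model i j) = true := by
  decide +kernel

theorem OO_check1 : OO.check1 aE = true := by decide +kernel
theorem OO_check2_0 : OO.check2 ModP.model 0 = true := by decide +kernel
theorem OO_check2_1 : OO.check2 ModP.model 1 = true := by decide +kernel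
theorem OO_check2_2 : OO.check2 ModP.model 2 = true := by decide +kernel
theorem OO_check3 : OO.check3 = true := by decide +kernel

theorem DD_chkC : DD.chkC ModP.model [ModP.oneE] = true := by decide +kernel

end Cfsg.Agent.Lib.H3.J1
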