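import Mathlib
import Cfsg.Prelude.Def_Spor_J1
import Cfsg.Prelude.Def_Sporadic
import Cfsg.Agent.Lib.H3.J1Check
import Cfsg.Agent.Lib.H3.J1Check2
import Cfsg.Agent.Lib.H3.SimpleP

set_option autoImplicit false
set_option maxRecDepth 100000

/-! # `J₁ = ⟨X, Y⟩ ≤ GL₇(11)` is simple of order `175560` -/

namespace Cfsg.Agent.Lib.H3.J1

open Cfsg.Agent.Lib.H3.DC Cfsg.Agent.Lib.H3 Cfsg.Spor Matrix

abbrev GG := GL (Fin 7) (ZMod 11)

/-- the letters -/
def letter (c : ℕ) : GG :=
  if c = 0 then jankoX else if c = 1 then jankoY else if c = 2 then jankoX⁻¹ else jankoY⁻¹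

/-- the codes of the letters -/
def lcode (c : ℕ) : List ℕ :=
  cond (Nat.beq c 0) xE (cond (Nat.beq c 1) yE (cond (Nat.beq c 2) xiE yiE))

/-- the element spelled by a word -/
def wp (l : List ℕ) : GG := (l.map letter).prod

/-- the code of a word -/
def codeW : List ℕ → List ℕ
  | [] => ModP.oneE
  | c :: cs => ModP.mulE (lcode c) (codeW cs)

theorem code_x : ModP.codeM (jankoX : Matrix (Fin 7) (Fin 7) (ZMod 11)) = xE := by decide +kernel
theorem code_y : ModP.codeM (jankoY : Matrix (Fin 7) (Fin 7) (ZMod 11)) = yE := by decide +kernel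
theorem code_xi : ModP.codeM ((jankoX⁻¹ : GG) : Matrix (Fin 7) (Fin 7) (ZMod 11)) = xiE := by
  decide +kernel
theorem code_yi : ModP.codeM ((jankoY⁻¹ : GG) : Matrix (Fin 7) (Fin 7) (ZMod 11)) = yiE := by
  decide +kernel

theorem code_letter (c : ℕ) : ModP.model.code (letter c) = lcode c := by
  unfold letter lcode
  by_cases h0 : c = 0
  · subst h0; exact code_x
  · by_cases h1 : c = 1
    · subst h1; exact code_y
    · by_cases h2 : c = 2
      · subst h2; exact code_xi
      · have e0 : Nat.beq c 0 = false := by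
          cases hb : Nat.beq c 0
          · rfl
          · exact absurd (Nat.eq_of_beq_eq_true hb) h0
        have e1 : Nat.beq c 1 = false := by
          cases hb : Nat.beq c 1
          · rfl
          · exact absurd (Nat.eq_of_beq_eq_true hb) h1
        have e2 : Nat.beq c 2 = false := by
          cases hb : Nat.beq c 2
          · rfl
          · exact absurd (Nat.eq_of_beq_eq_true hb) h2
        rw [if_neg h0, if_neg h1, if_neg h2, e0, e1, e2]
        exact code_yi

theorem code_wp (l : List ℕ) : ModP.model.code (wp l) = codeW l := by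
  induction l with
  | nil => exact ModP.model.code_one
  | cons c cs ih =>
    have : wp (c :: cs) = letter c * wp cs := by simp [wp]
    rw [this, ModP.model.code_mul, code_letter, ih]
    rfl

theorem codeW_g0 : codeW wG0 = g0E := by decide +kernel
theorem codeW_h : codeW wH = hE := by decide +kernel
theorem codeW_t : codeW wT = tE := by decide +kernel
theorem codeW_w : codeW wW = wE := by decide +kernel

/-- the base vector -/
def alpha : ModP.V7 := ![0, 2, 2, 8, 0, 0, 1]

theorem enc_alpha : ModP.enc alpha = aE := by decide +kernel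

/-- generators of `M` -/
def gs (k : ℕ) : GG := if k = 0 then wp wG0 else wp wH

theorem gs_zero : gs 0 = wp wG0 := if_pos rfl
theorem gs_one : gs 1 = wp wH := if_neg (by decide)

theorem valid : DCData.Valid ModP.model DD gs (wp wT) (wp wW) alpha where
  hgs := by
    intro k hk
    have hk' : k < 2 := hk
    interval_cases k
    · rw [gs_zero, code_wp, codeW_g0]; rfl
    · rw [gs_one, code_wp, codeW_h]; rfl
  ht := by rw [code_wp, codeW_t]; rfl
  hw := by rw [code_wp, codeW_w]; rfl
  hα := enc_alpha
  hL1 := LM_check1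
  hL2 := by
    intro k hk
    have hk' : k < 2 := hk
    interval_cases k
    · exact LM_check2_0
    · exact LM_check2_1
  hL3 := LM_check3
  hL4 := LM_check4
  h1 := DD_chk1
  h2 := DD_chk2
  h3 := DD_chk3
  h4 := DD_chk4
  h5 := DD_chk5
  h6 := DD_chk6
  h7 := by
    intro i hi j hj
    exact (allLt_iff _ _).mp ((allLt_iff _ _).mp DD_chk7 i hi) j hj

/-- the subgroup `⟨X, Y⟩` -/
abbrev JJ : Subgroup GG := Subgroup.closure {jankoX, jankoY}

theorem letter_mem (c : ℕ) : letter c ∈ JJ := by
  unfold letter
  split_ifs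
  · exact Subgroup.subset_closure (by simp)
  · exact Subgroup.subset_closure (by simp)
  · exact Subgroup.inv_mem _ (Subgroup.subset_closure (by simp))
  · exact Subgroup.inv_mem _ (Subgroup.subset_closure (by simp))

theorem wp_mem (l : List ℕ) : wp l ∈ JJ := by
  induction l with
  | nil => exact Subgroup.one_mem _
  | cons c cs ih =>
    have : wp (c :: cs) = letter c * wp cs := by simp [wp]
    rw [this]
    exact Subgroup.mul_mem _ (letter_mem c) ih

/-- the group `⟨M, t⟩` of the certificate -/
abbrev HJ : Subgroup GG := DCData.HH DD gs (wp wT)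

theorem HJ_le_JJ : HJ ≤ JJ := by
  unfold HJ DCData.HH
  rw [Subgroup.closure_le]
  rintro g (hg | hg)
  · have : DCData.MM DD gs ≤ JJ := by
      unfold DCData.MM
      rw [Subgroup.closure_le]
      rintro g ⟨k, _, rfl⟩
      unfold gs
      split_ifs
      · exact wp_mem _
      · exact wp_mem _
    exact this hg
  · rw [Set.mem_singleton_iff] at hg
    rw [hg]; exact wp_mem _

theorem x_dec : ModP.model.code jankoX =
    ModP.model.mulE (ModP.model.mulE (DD.L.elt decX.2.1) (DD.uE decX.1)) (DD.L.elt decX.2.2) := by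
  show ModP.codeM (jankoX : Matrix (Fin 7) (Fin 7) (ZMod 11)) = _
  rw [code_x]
  decide +kernel

theorem y_dec : ModP.model.code jankoY =
    ModP.model.mulE (ModP.model.mulE (DD.L.elt decY.2.1) (DD.uE decY.1)) (DD.L.elt decY.2.2) := by
  show ModP.codeM (jankoY : Matrix (Fin 7) (Fin 7) (ZMod 11)) = _
  rw [code_y]
  decide +kernel

theorem JJ_le_HJ : JJ ≤ HJ := by
  rw [Subgroup.closure_le]
  intro g hg
  rcases hg with rfl | hg
  · exact valid.mem_HH_of_code _ decX.1 decX.2.1 decX.2.2 (by decide) (by decide) (by decide) x_dec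
  · rw [Set.mem_singleton_iff] at hg
    rw [hg]
    exact valid.mem_HH_of_code _ decY.1 decY.2.1 decY.2.2 (by decide) (by decide) (by decide) y_dec

theorem JJ_eq_HJ : JJ = HJ := le_antisymm JJ_le_HJ HJ_le_JJ

/-- generators for the orbit computation -/
def gs3 (k : ℕ) : GG := if k = 0 then wp wG0 else if k = 1 then wp wH else wp wT

theorem gs3_zero : gs3 0 = wp wG0 := if_pos rfl
theorem gs3_one : gs3 1 = wp wH := by unfold gs3; rw [if_neg (by decide), if_pos rfl]
theorem gs3_two : gs3 2 = wp wT := by unfold gs3; rw [if_neg (by decide), if_neg (by decide)]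

theorem HJ_eq_closure3 : HJ = Subgroup.closure (ListedOrbit.genSet OO gs3) := by
  apply le_antisymm
  · unfold HJ DCData.HH
    rw [Subgroup.closure_le]
    rintro g (hg | hg)
    · have : DCData.MM DD gs ≤ Subgroup.closure (ListedOrbit.genSet OO gs3) := by
        unfold DCData.MM
        rw [Subgroup.closure_le]
        rintro g ⟨k, hk, rfl⟩
        have hk' : k < 2 := hk
        apply Subgroup.subset_closure
        interval_cases k
        · exact ⟨0, Nat.zero_lt_succ _, by rw [gs_zero, gs3_zero]⟩
        · exact ⟨1, Nat.succ_lt_succ (Nat.zero_lt_succ _), by rw [gs_one, gs3_one]⟩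
      exact this hg
    · rw [Set.mem_singleton_iff] at hg
      rw [hg]
      exact Subgroup.subset_closure ⟨2, Nat.lt_succ_self _, gs3_two.symm⟩
  · rw [Subgroup.closure_le]
    rintro g ⟨k, hk, rfl⟩
    have hk' : k < 3 := hk
    interval_cases k
    · rw [gs3_zero, ← gs_zero]; exact valid.MM_le_HH (valid.gs_mem_MM 0 (Nat.zero_lt_succ _))
    · rw [gs3_one, ← gs_one]
      exact valid.MM_le_HH (valid.gs_mem_MM 1 (Nat.succ_lt_succ (Nat.zero_lt_succ _)))
    · rw [gs3_two]; exact valid.t_mem_HH

theorem card_orbit : Nat.card (MulAction.orbit HJ alpha) = 3080 := by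
  have := ListedOrbit.card_orbit ModP.model OO gs3 alpha (by
      intro k hk
      have hk' : k < 3 := hk
      interval_cases k
      · rw [gs3_zero, code_wp, codeW_g0]; rfl
      · rw [gs3_one, code_wp, codeW_h]; rfl
      · rw [gs3_two, code_wp, codeW_t]; rfl)
    (by
      show OO.check1 (ModP.enc alpha) = true
      rw [enc_alpha]; exact OO_check1)
    (by
      intro k hk
      have hk' : k < 3 := hk
      interval_cases k
      · exact OO_check2_0
      · exact OO_check2_1
      · exact OO_check2_2)
    OO_check3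
  rw [HJ_eq_closure3]
  exact this

theorem card_JJ : Nat.card JJ = 175560 := by
  rw [JJ_eq_HJ, valid.card_HH, card_orbit]
  rfl

theorem wp_append (l1 l2 : List ℕ) : wp (l1 ++ l2) = wp l1 * wp l2 := by
  simp [wp]

theorem wp_pow (l : List ℕ) (n : ℕ) : wp l ^ n = wp (List.flatten (List.replicate n l)) := by
  induction n with
  | zero => simp [wp]
  | succ n ih => rw [pow_succ', ih, List.replicate_succ, List.flatten_cons, wp_append]

theorem pow_g0 : wp wG0 ^ 19 = 1 := by
  apply ModP.model.code_inj
  rw [wp_pow, code_wp, ModP.model.code_one]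
  decide +kernel

theorem pow_t : wp wT ^ 19 = 1 := by
  apply ModP.model.code_inj
  rw [wp_pow, code_wp, ModP.model.code_one]
  decide +kernel

theorem pow_ht : wp (wH ++ wT) ^ 19 = 1 := by
  apply ModP.model.code_inj
  rw [wp_pow, code_wp, ModP.model.code_one]
  decide +kernel

theorem arith19 : ∀ r : ℕ, r.Prime → r ≠ 19 → ∀ a j : ℕ, r ^ a ∣ 175560 → j < a →
    ¬ 19 ∣ r ^ (a - j) - 1 := by
  intro r hr hr19 a j hdvd hja
  have ha : 1 ≤ a := by omega
  have hrd : r ∣ 175560 := (dvd_pow_self r (by omega)).trans hdvd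
  have h175 : (175560 : ℕ) = 2 ^ 3 * 3 * 5 * 7 * 11 * 19 := by norm_num
  have hcases : r = 2 ∨ r = 3 ∨ r = 5 ∨ r = 7 ∨ r = 11 := by
    rw [h175] at hrd
    rcases (Nat.Prime.dvd_mul hr).mp hrd with h | h
    · rcases (Nat.Prime.dvd_mul hr).mp h with h | h
      · rcases (Nat.Prime.dvd_mul hr).mp h with h | h
        · rcases (Nat.Prime.dvd_mul hr).mp h with h | h
          · rcases (Nat.Prime.dvd_mul hr).mp h with h | h
            · left; exact (Nat.prime_dvd_prime_iff_eq hr (by norm_num)).mp (hr.dvd_of_dvd_pow h)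
            · right; left; exact (Nat.prime_dvd_prime_iff_eq hr (by norm_num)).mp h
          · right; right; left; exact (Nat.prime_dvd_prime_iff_eq hr (by norm_num)).mp h
        · right; right; right; left; exact (Nat.prime_dvd_prime_iff_eq hr (by norm_num)).mp h
      · right; right; right; right; exact (Nat.prime_dvd_prime_iff_eq hr (by norm_num)).mp h
    · exact absurd ((Nat.prime_dvd_prime_iff_eq hr (by norm_num)).mp h) hr19
  rcases hcases with rfl | rfl | rfl | rfl | rfl
  · have ha3 : a ≤ 3 := by
      by_contra hcon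
      have : 2 ^ 4 ∣ 175560 := (pow_dvd_pow 2 (by omega : 4 ≤ a)).trans hdvd
      norm_num at this
    interval_cases a <;> interval_cases j <;> norm_num
  · have ha1 : a ≤ 1 := by
      by_contra hcon
      have : 3 ^ 2 ∣ 175560 := (pow_dvd_pow 3 (by omega : 2 ≤ a)).trans hdvd
      norm_num at this
    interval_cases a <;> interval_cases j <;> norm_num
  · have ha1 : a ≤ 1 := by
      by_contra hcon
      have : 5 ^ 2 ∣ 175560 := (pow_dvd_pow 5 (by omega : 2 ≤ a)).trans hdvd
      norm_num at this
    interval_cases a <;> interval_cases j <;> norm_num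
  · have ha1 : a ≤ 1 := by
      by_contra hcon
      have : 7 ^ 2 ∣ 175560 := (pow_dvd_pow 7 (by omega : 2 ≤ a)).trans hdvd
      norm_num at this
    interval_cases a <;> interval_cases j <;> norm_num
  · have ha1 : a ≤ 1 := by
      by_contra hcon
      have : 11 ^ 2 ∣ 175560 := (pow_dvd_pow 11 (by omega : 2 ≤ a)).trans hdvd
      norm_num at this
    interval_cases a <;> interval_cases j <;> norm_num

theorem JJ_eq_closure19 :
    JJ = Subgroup.closure {wp wG0, wp wT, wp (wH ++ wT)} := by
  apply le_antisymm
  · rw [JJ_eq_HJ]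
    unfold HJ DCData.HH
    rw [Subgroup.closure_le]
    have ht : wp wT ∈ Subgroup.closure {wp wG0, wp wT, wp (wH ++ wT)} :=
      Subgroup.subset_closure (by simp)
    have hg0 : wp wG0 ∈ Subgroup.closure {wp wG0, wp wT, wp (wH ++ wT)} :=
      Subgroup.subset_closure (by simp)
    have hh : wp wH ∈ Subgroup.closure {wp wG0, wp wT, wp (wH ++ wT)} := by
      have h1 : wp (wH ++ wT) ∈ Subgroup.closure {wp wG0, wp wT, wp (wH ++ wT)} :=
        Subgroup.subset_closure (by simp)
      have : wp wH = wp (wH ++ wT) * (wp wT)⁻¹ := by rw [wp_append]; group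
      rw [this]
      exact Subgroup.mul_mem _ h1 (Subgroup.inv_mem _ ht)
    rintro g (hg | hg)
    · have : DCData.MM DD gs ≤ Subgroup.closure {wp wG0, wp wT, wp (wH ++ wT)} := by
        unfold DCData.MM
        rw [Subgroup.closure_le]
        rintro g ⟨k, hk, rfl⟩
        have hk' : k < 2 := hk
        interval_cases k
        · rw [gs_zero]; exact hg0
        · rw [gs_one]; exact hh
      exact this hg
    · rw [Set.mem_singleton_iff] at hg
      rw [hg]; exact ht
  · rw [Subgroup.closure_le]
    rintro g (rfl | rfl | hg)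
    · exact wp_mem _
    · exact wp_mem _
    · rw [Set.mem_singleton_iff] at hg
      rw [hg]; exact wp_mem _

theorem simple_JJ : IsSimpleGroup JJ := by
  haveI : Fact (Nat.Prime 19) := ⟨by norm_num⟩
  apply SimpleP.isSimpleGroup_of_prime_generated 19
  · rw [card_JJ]; norm_num
  · rw [card_JJ]; norm_num
  · -- generated by elements of order dividing 19
    rw [eq_top_iff]
    rintro ⟨x, hx⟩ _
    have hx' : x ∈ Subgroup.closure {wp wG0, wp wT, wp (wH ++ wT)} := by
      rw [← JJ_eq_closure19]; exact hx
    have key : ∀ y (hy : y ∈ Subgroup.closure {wp wG0, wp wT, wp (wH ++ wT)}),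
        ∀ hyJ : y ∈ JJ, (⟨y, hyJ⟩ : JJ) ∈ Subgroup.closure {z : JJ | z ^ 19 = 1} := by
      intro y hy
      induction hy using Subgroup.closure_induction with
      | mem z hz =>
        intro hzJ
        apply Subgroup.subset_closure
        show (⟨z, hzJ⟩ : JJ) ^ 19 = 1
        apply Subtype.ext
        show z ^ 19 = 1
        rcases hz with rfl | rfl | hz
        · exact pow_g0
        · exact pow_t
        · rw [Set.mem_singleton_iff] at hz
          rw [hz]; exact pow_ht
      | one => intro _; exact Subgroup.one_mem _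
      | mul a b ha hb iha ihb =>
        intro _
        have haJ : a ∈ JJ := by rw [JJ_eq_closure19]; exact ha
        have hbJ : b ∈ JJ := by rw [JJ_eq_closure19]; exact hb
        exact Subgroup.mul_mem _ (iha haJ) (ihb hbJ)
      | inv a ha iha =>
        intro _
        have haJ : a ∈ JJ := by rw [JJ_eq_closure19]; exact ha
        exact Subgroup.inv_mem _ (iha haJ)
    exact key x hx' hx
  · -- the centre is trivial
    rw [eq_bot_iff]
    rintro ⟨z, hz⟩ hzc
    rw [Subgroup.mem_center_iff] at hzc
    have hzH : z ∈ HJ := by rw [← JJ_eq_HJ]; exact hz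
    have hcen := valid.central [ModP.oneE] DD_chkC z hzH (by
      intro g hg
      have hgJ : g ∈ JJ := by rw [JJ_eq_HJ]; exact hg
      have := hzc ⟨g, hgJ⟩
      exact (congrArg Subtype.val this).symm)
    rw [List.mem_singleton] at hcen
    have : z = 1 := ModP.model.code_inj (by rw [hcen, ModP.model.code_one]; rfl)
    rw [Subgroup.mem_bot]
    exact Subtype.ext this
  · rw [card_JJ]; exact arith19

end Cfsg.Agent.Lib.H3.J1
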