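/-
helper3 library: sharply k-transitive actions, general facts
(order formula, faithfulness, bound on fixed points, passage to a point stabilizer).
-/
import Mathlib

set_option autoImplicit false

namespace Cfsg.Agent.Lib.H3.SharpK

open MulAction

variable {G : Type*} [Group G] {Ω : Type*} [MulAction G Ω]

/-- a sharply `k`-transitive action (with at least `k` points) is faithful -/
theorem eq_one_of_forall_smul {k : ℕ} (hsharp : ∀ x : Fin k ↪ Ω, stabilizer G x = ⊥)
    (hne : Nonempty (Fin k ↪ Ω)) {g : G} (hg : ∀ ω : Ω, g • ω = ω) : g = 1 := by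
  obtain ⟨x⟩ := hne
  have : g ∈ stabilizer G x := by
    rw [mem_stabilizer_iff]
    ext i
    exact hg (x i)
  rw [hsharp] at this
  exact Subgroup.mem_bot.1 this

theorem nonempty_emb [Finite Ω] {k : ℕ} (hk : k ≤ Nat.card Ω) : Nonempty (Fin k ↪ Ω) := by
  haveI := Fintype.ofFinite Ω
  rw [Nat.card_eq_fintype_card] at hk
  exact Function.Embedding.nonempty_of_card_le (by simpa using hk)

/-- the orbit map of a sharply `k`-transitive action is a bijection onto the `k`-embeddings -/
noncomputable def orbitEquiv {k : ℕ} (hk : IsMultiplyPretransitive G Ω k)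
    (hsharp : ∀ x : Fin k ↪ Ω, stabilizer G x = ⊥) (x0 : Fin k ↪ Ω) : G ≃ (Fin k ↪ Ω) :=
  Equiv.ofBijective (fun g => g • x0) ⟨by
    intro g h hgh
    have hgh' : g • x0 = h • x0 := hgh
    have : h⁻¹ * g ∈ stabilizer G x0 := by
      rw [mem_stabilizer_iff, mul_smul, hgh', inv_smul_smul]
    rw [hsharp] at this
    exact (inv_mul_eq_one.1 (Subgroup.mem_bot.1 this)).symm, by
    intro y
    exact hk.exists_smul_eq x0 y⟩

theorem finite_of_sharp [Finite Ω] {k : ℕ} (hk : IsMultiplyPretransitive G Ω k)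
    (hsharp : ∀ x : Fin k ↪ Ω, stabilizer G x = ⊥) (hne : Nonempty (Fin k ↪ Ω)) : Finite G := by
  obtain ⟨x0⟩ := hne
  exact Finite.of_equiv _ (orbitEquiv hk hsharp x0).symm

theorem card_eq [Finite Ω] {k : ℕ} (hk : IsMultiplyPretransitive G Ω k)
    (hsharp : ∀ x : Fin k ↪ Ω, stabilizer G x = ⊥) (hne : Nonempty (Fin k ↪ Ω)) :
    Nat.card G = (Nat.card Ω).descFactorial k := by
  obtain ⟨x0⟩ := hne
  haveI := Fintype.ofFinite Ω
  rw [Nat.card_congr (orbitEquiv hk hsharp x0), Nat.card_eq_fintype_card,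
    Fintype.card_embedding_eq, Fintype.card_fin, Nat.card_eq_fintype_card]

/-- a non-identity element of a sharply `k`-transitive group fixes fewer than `k` points -/
theorem card_lt_of_fixed {k : ℕ} (hsharp : ∀ x : Fin k ↪ Ω, stabilizer G x = ⊥) {g : G}
    (hg : g ≠ 1) (s : Finset Ω) (hs : ∀ ω ∈ s, g • ω = ω) : s.card < k := by
  by_contra hcon
  rw [not_lt] at hcon
  have hcard : Fintype.card (Fin k) ≤ Fintype.card s := by simpa using hcon
  obtain ⟨e⟩ := Function.Embedding.nonempty_of_card_le hcard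
  let x : Fin k ↪ Ω := e.trans (Function.Embedding.subtype _)
  have : g ∈ stabilizer G x := by
    rw [mem_stabilizer_iff]
    ext i
    exact hs _ (e i).2
  rw [hsharp] at this
  exact hg (Subgroup.mem_bot.1 this)

/-- passage to a point stabilizer: transitivity -/
theorem stabilizer_pretransitive [Finite Ω] {k : ℕ} (hk : IsMultiplyPretransitive G Ω (k + 1))
    (hn : k + 1 ≤ Nat.card Ω) (a : Ω) :
    IsMultiplyPretransitive (stabilizer G a) (SubMulAction.ofStabilizer G a) k := by
  haveI := hk
  haveI h1 : IsMultiplyPretransitive G Ω 1 :=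
    isMultiplyPretransitive_of_le (n := k + 1) (by omega) hn
  haveI : IsPretransitive G Ω := is_one_pretransitive_iff.1 h1
  exact SubMulAction.ofStabilizer.isMultiplyPretransitive.1 hk

/-- passage to a point stabilizer: sharpness -/
theorem stabilizer_sharp {k : ℕ} (hsharp : ∀ x : Fin (k + 1) ↪ Ω, stabilizer G x = ⊥) (a : Ω)
    (x : Fin k ↪ SubMulAction.ofStabilizer G a) : stabilizer (stabilizer G a) x = ⊥ := by
  rw [Subgroup.eq_bot_iff_forall]
  intro h hh
  rw [mem_stabilizer_iff] at hh
  have : h.1 ∈ stabilizer G (SubMulAction.ofStabilizer.snoc x) := by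
    rw [mem_stabilizer_iff]
    ext i
    rcases Fin.eq_castSucc_or_eq_last i with ⟨j, rfl⟩ | rfl
    · rw [Function.Embedding.smul_apply, SubMulAction.ofStabilizer.snoc_castSucc]
      have := congrArg (fun y : Fin k ↪ SubMulAction.ofStabilizer G a => ((y j : _) : Ω)) hh
      exact this
    · rw [Function.Embedding.smul_apply, SubMulAction.ofStabilizer.snoc_last]
      exact h.2
  rw [hsharp] at this
  exact Subtype.ext (Subgroup.mem_bot.1 this)

theorem card_ofStabilizer [Finite Ω] (a : Ω) :
    Nat.card (SubMulAction.ofStabilizer G a) + 1 = Nat.card Ω :=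
  SubMulAction.nat_card_ofStabilizer_add_one_eq G a

end Cfsg.Agent.Lib.H3.SharpK
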