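/-
helper3 library: a finite group acting faithfully and transitively on a set of prime size `p`,
with `|G| = p * m`, `p ∤ m`: elements of order `p` are fixed point free, Sylow `p`-subgroups are
self-centralizing, `n_p * d = m` for some `d ∣ p - 1`, and `n_p = m` forces `m = 1`.
-/
import Mathlib
import Cfsg.Agent.Lib.H5.SimpleTools
import Cfsg.Agent.Lib.H5.OrderCount

set_option autoImplicit false

namespace Cfsg.Agent.Lib.H3.SharpK

open MulAction

variable {G : Type*} [Group G] {Ω : Type*} [MulAction G Ω]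

theorem zpow_smul_of_smul {g : G} {ω : Ω} (h : g • ω = ω) (n : ℤ) : g ^ n • ω = ω := by
  have : g ∈ stabilizer G ω := mem_stabilizer_iff.2 h
  exact mem_stabilizer_iff.1 ((stabilizer G ω).zpow_mem this n)

theorem pow_smul_of_smul {g : G} {ω : Ω} (h : g • ω = ω) (n : ℕ) : g ^ n • ω = ω := by
  have : g ∈ stabilizer G ω := mem_stabilizer_iff.2 h
  exact mem_stabilizer_iff.1 ((stabilizer G ω).pow_mem this n)

/-- an element of prime order `p` acting on `p` points with a fixed point acts trivially -/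
theorem forall_smul_of_orderOf_eq [Finite Ω] {p : ℕ} [hp : Fact p.Prime] (hΩ : Nat.card Ω = p)
    {g : G} (hg : orderOf g = p) {ω0 : Ω} (h0 : g • ω0 = ω0) (ω : Ω) : g • ω = ω := by
  classical
  haveI := Fintype.ofFinite Ω
  have hP : IsPGroup p (Subgroup.zpowers g) := by
    apply IsPGroup.of_card (n := 1)
    rw [Nat.card_zpowers, hg, pow_one]
  have hmod := hP.card_modEq_card_fixedPoints Ω
  rw [hΩ] at hmod
  have hdvd : p ∣ Nat.card (fixedPoints (Subgroup.zpowers g) Ω) := by
    have := hmod.symm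
    rw [Nat.ModEq, Nat.mod_self] at this
    exact Nat.dvd_of_mod_eq_zero this
  have hmem : ∀ ω' : Ω, g • ω' = ω' → ω' ∈ fixedPoints (Subgroup.zpowers g) Ω := by
    intro ω' h' x
    obtain ⟨y, hy⟩ := x
    obtain ⟨n, rfl⟩ := Subgroup.mem_zpowers_iff.1 hy
    exact zpow_smul_of_smul h' n
  have hpos : 0 < Nat.card (fixedPoints (Subgroup.zpowers g) Ω) := by
    rw [Nat.card_pos_iff]
    exact ⟨⟨⟨ω0, hmem ω0 h0⟩⟩, inferInstance⟩
  have hle : p ≤ Nat.card (fixedPoints (Subgroup.zpowers g) Ω) := Nat.le_of_dvd hpos hdvd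
  have huniv : (fixedPoints (Subgroup.zpowers g) Ω) = Set.univ := by
    rw [Set.eq_univ_iff_ncard, hΩ]
    apply le_antisymm
    · rw [← hΩ, ← Set.ncard_univ]
      exact Set.ncard_le_ncard (Set.subset_univ _)
    · rw [← Nat.card_coe_set_eq]
      exact hle
  have : ω ∈ fixedPoints (Subgroup.zpowers g) Ω := by rw [huniv]; trivial
  exact this ⟨g, Subgroup.mem_zpowers g⟩

section PrimeDeg

variable [Finite Ω] {p : ℕ} [hp : Fact p.Prime]

theorem smul_ne_of_orderOf_eq (hfaith : ∀ g : G, (∀ ω : Ω, g • ω = ω) → g = 1)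
    (hΩ : Nat.card Ω = p) {g : G} (hg : orderOf g = p) (ω : Ω) : g • ω ≠ ω := by
  intro h
  have := hfaith g (forall_smul_of_orderOf_eq hΩ hg h)
  rw [this, orderOf_one] at hg
  exact hp.out.one_lt.ne hg

/-- the cyclic group generated by an element of order `p` is transitive -/
theorem exists_pow_smul_eq (hfaith : ∀ g : G, (∀ ω : Ω, g • ω = ω) → g = 1)
    (hΩ : Nat.card Ω = p) {g : G} (hg : orderOf g = p) (ω0 ω : Ω) : ∃ i : ℕ, g ^ i • ω0 = ω := by
  classical
  haveI := Fintype.ofFinite Ω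
  have key : ∀ i j : ℕ, i < j → j < p → g ^ i • ω0 ≠ g ^ j • ω0 := by
    intro i j hij hjp h
    have h1 : g ^ (j - i) • ω0 = ω0 := by
      have e : g ^ j = g ^ i * g ^ (j - i) := by rw [← pow_add]; congr 1; omega
      rw [e, mul_smul] at h
      exact (smul_left_cancel _ h).symm
    have hcop : (orderOf g).Coprime (j - i) := by
      rw [hg, Nat.Prime.coprime_iff_not_dvd hp.out]
      exact Nat.not_dvd_of_pos_of_lt (by omega) (by omega)
    have hord : orderOf (g ^ (j - i)) = p := by rw [hcop.orderOf_pow, hg]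
    exact smul_ne_of_orderOf_eq hfaith hΩ hord ω0 h1
  let f : Fin p → Ω := fun i => g ^ (i : ℕ) • ω0
  have hinj : Function.Injective f := by
    intro i j hij
    by_contra hne
    rcases lt_or_gt_of_ne (fun h => hne (Fin.ext h)) with h | h
    · exact key i j h j.2 hij
    · exact key j i h i.2 hij.symm
  have hbij : Function.Bijective f := by
    rw [Fintype.bijective_iff_injective_and_card]
    refine ⟨hinj, ?_⟩
    rw [Fintype.card_fin, ← Nat.card_eq_fintype_card, hΩ]
  obtain ⟨i, hi⟩ := hbij.2 ω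
  exact ⟨i, hi⟩

/-- an element commuting with an element of order `p` is one of its powers -/
theorem mem_zpowers_of_commute (hfaith : ∀ g : G, (∀ ω : Ω, g • ω = ω) → g = 1)
    (hΩ : Nat.card Ω = p) {g : G} (hg : orderOf g = p) {c : G} (hc : Commute c g) :
    c ∈ Subgroup.zpowers g := by
  have hne : Nonempty Ω := by
    rw [← Nat.card_pos_iff.trans ⟨fun h => h.1, fun h => ⟨h, inferInstance⟩⟩, hΩ]
    exact hp.out.pos
  obtain ⟨ω0⟩ := hne
  obtain ⟨i, hi⟩ := exists_pow_smul_eq hfaith hΩ hg ω0 (c • ω0)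
  have h0 : ((g ^ i)⁻¹ * c) • ω0 = ω0 := by
    rw [mul_smul, ← hi, inv_smul_smul]
  have hcomm : Commute ((g ^ i)⁻¹ * c) g :=
    ((Commute.refl g).pow_left i).inv_left.mul_left hc
  have hall : ∀ ω : Ω, ((g ^ i)⁻¹ * c) • ω = ω := by
    intro ω
    obtain ⟨j, hj⟩ := exists_pow_smul_eq hfaith hΩ hg ω0 ω
    rw [← hj, ← mul_smul, (hcomm.pow_right j).eq, mul_smul, h0]
  have h1 := hfaith _ hall
  have : c = g ^ i := by
    rw [inv_mul_eq_one] at h1
    exact h1.symm
  rw [this]
  exact Subgroup.pow_mem _ (Subgroup.mem_zpowers g) i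

variable [Finite G] {m : ℕ}

theorem exists_dvd_sylow (hfaith : ∀ g : G, (∀ ω : Ω, g • ω = ω) → g = 1)
    (hΩ : Nat.card Ω = p) (hG : Nat.card G = p * m) (hpm : ¬ p ∣ m) :
    ∃ d, d ∣ p - 1 ∧ Nat.card (Sylow p G) * d = m := by
  have P : Sylow p G := default
  obtain ⟨hP, hidx⟩ := Cfsg.Agent.Lib.H5.sylow_card_and_index P (k := 1)
    (by rw [hG, pow_one]) hpm
  rw [pow_one] at hP
  have hnt : Nontrivial (P : Subgroup G) := by
    rw [← Finite.one_lt_card_iff_nontrivial, hP]
    exact hp.out.one_lt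
  obtain ⟨⟨g, hgP⟩, hg1⟩ := exists_ne (1 : (P : Subgroup G))
  have hg1' : g ≠ 1 := fun h => hg1 (Subtype.ext h)
  have hg : orderOf g = p :=
    Cfsg.Agent.Lib.H5.orderOf_eq_of_mem_of_card_prime _ hP g hgP hg1'
  have hz : Subgroup.zpowers g = (P : Subgroup G) :=
    Cfsg.Agent.Lib.H5.zpowers_eq_sylow_of_mem P hP g hg hgP
  have hC : Subgroup.centralizer ((P : Subgroup G) : Set G) = (P : Subgroup G) := by
    apply le_antisymm
    · intro c hc
      rw [← hz]
      apply mem_zpowers_of_commute hfaith hΩ hg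
      exact (hc g hgP).symm
    · rw [← hz]
      intro x hx y hy
      obtain ⟨a, rfl⟩ := Subgroup.mem_zpowers_iff.1 hx
      obtain ⟨b, rfl⟩ := Subgroup.mem_zpowers_iff.1 hy
      exact (Commute.zpow_zpow_self g b a).eq
  have hd := Cfsg.Agent.Lib.H5.relIndex_centralizer_normalizer_dvd_of_card_prime
    (P : Subgroup G) hP
  rw [hC] at hd
  refine ⟨_, hd, ?_⟩
  have h1 := Subgroup.relIndex_mul_relIndex ⊥ (P : Subgroup G)
    (Subgroup.normalizer ((P : Subgroup G) : Set G)) bot_le Subgroup.le_normalizer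
  rw [Subgroup.relIndex_bot_left, Subgroup.relIndex_bot_left, hP] at h1
  have h2 := Cfsg.Agent.Lib.H5.card_normalizer_mul_card_sylow P
  rw [← h1, hG] at h2
  have h3 : p * ((P : Subgroup G).relIndex (Subgroup.normalizer ((P : Subgroup G) : Set G)) *
      Nat.card (Sylow p G)) = p * m := by rw [← h2]; ring
  have := Nat.eq_of_mul_eq_mul_left hp.out.pos h3
  rw [← this]; ring

theorem eq_one_of_card_sylow_eq [IsPretransitive G Ω]
    (hfaith : ∀ g : G, (∀ ω : Ω, g • ω = ω) → g = 1)
    (hΩ : Nat.card Ω = p) (hG : Nat.card G = p * m) (hpm : ¬ p ∣ m)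
    (hn : Nat.card (Sylow p G) = m) : m = 1 := by
  classical
  have hP : ∀ Q : Sylow p G, Nat.card (Q : Subgroup G) = p := by
    intro Q
    have := (Cfsg.Agent.Lib.H5.sylow_card_and_index Q (k := 1) (by rw [hG, pow_one]) hpm).1
    rwa [pow_one] at this
  have hcount := Cfsg.Agent.Lib.H5.card_orderOf_eq_prime hP
  rw [hn] at hcount
  have hne : Nonempty Ω := by
    rw [← Nat.card_pos_iff.trans ⟨fun h => h.1, fun h => ⟨h, inferInstance⟩⟩, hΩ]
    exact hp.out.pos
  obtain ⟨ω0⟩ := hne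
  have hstab : ∀ ω : Ω, Nat.card (stabilizer G ω) = m := by
    intro ω
    have h1 := index_stabilizer_of_transitive G ω
    have h2 := (stabilizer G ω).card_mul_index
    rw [h1, hΩ, hG, mul_comm] at h2
    exact Nat.eq_of_mul_eq_mul_left hp.out.pos h2
  set A : Set G := {g : G | orderOf g ≠ p} with hA
  have hAcard : A.ncard = m := by
    have h1 : A = {g : G | orderOf g = p}ᶜ := by ext g; simp [hA]
    have h2 : ({g : G | orderOf g = p} : Set G).ncard = m * (p - 1) := by
      rw [← hcount, ← Nat.card_coe_set_eq]; rfl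
    have h3 := Set.ncard_add_ncard_compl ({g : G | orderOf g = p} : Set G)
    rw [← h1, h2, hG] at h3
    have hp1 : 1 ≤ p := hp.out.pos
    have : m * (p - 1) + m = p * m := by
      calc m * (p - 1) + m = m * (p - 1 + 1) := by ring
        _ = p * m := by rw [Nat.sub_add_cancel hp1, mul_comm]
    omega
  have hsub : ∀ ω : Ω, ((stabilizer G ω : Subgroup G) : Set G) ⊆ A := by
    intro ω g hg hord
    exact smul_ne_of_orderOf_eq hfaith hΩ hord ω (mem_stabilizer_iff.1 hg)
  have heq : ∀ ω : Ω, ((stabilizer G ω : Subgroup G) : Set G) = A := by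
    intro ω
    apply Set.eq_of_subset_of_ncard_le (hsub ω) _ (Set.toFinite _)
    rw [hAcard, ← hstab ω, ← Nat.card_coe_set_eq]
    rfl
  have hbot : stabilizer G ω0 = ⊥ := by
    rw [Subgroup.eq_bot_iff_forall]
    intro g hg
    apply hfaith
    intro ω
    have : g ∈ ((stabilizer G ω : Subgroup G) : Set G) := by
      rw [heq ω, ← heq ω0]; exact hg
    exact mem_stabilizer_iff.1 this
  have := hstab ω0
  rw [hbot, Subgroup.card_bot] at this
  exact this.symm

end PrimeDeg

end Cfsg.Agent.Lib.H3.SharpK
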