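/-
helper3 library: no sharply 4-transitive group of degree 7, no sharply 6-transitive group of
degree 13 (Sylow arithmetic on the regular cyclic Sylow subgroup).
-/
import Mathlib
import Cfsg.Agent.Lib.H3.SharpK1
import Cfsg.Agent.Lib.H3.SharpK2

set_option autoImplicit false

namespace Cfsg.Agent.Lib.H3.SharpK

open MulAction

variable {G : Type*} [Group G] {Ω : Type*} [MulAction G Ω]

theorem isPretransitive_of_multiply [Finite Ω] {k : ℕ} (hk : IsMultiplyPretransitive G Ω k)
    (h1 : 1 ≤ k) (hn : k ≤ Nat.card Ω) : IsPretransitive G Ω := by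
  haveI := hk
  haveI h1 : IsMultiplyPretransitive G Ω 1 := isMultiplyPretransitive_of_le (n := k) h1 hn
  exact is_one_pretransitive_iff.1 h1

theorem not_sharp4_card7 [Finite Ω] (h4 : IsMultiplyPretransitive G Ω 4)
    (hsharp : ∀ x : Fin 4 ↪ Ω, stabilizer G x = ⊥) (hΩ : Nat.card Ω = 7) : False := by
  have hne : Nonempty (Fin 4 ↪ Ω) := nonempty_emb (by omega)
  haveI : Finite G := finite_of_sharp h4 hsharp hne
  have hG : Nat.card G = 7 * 120 := by
    rw [card_eq h4 hsharp hne, hΩ]; rfl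
  have hfaith : ∀ g : G, (∀ ω : Ω, g • ω = ω) → g = 1 :=
    fun g hg => eq_one_of_forall_smul hsharp hne hg
  haveI : IsPretransitive G Ω := isPretransitive_of_multiply h4 (by omega) (by omega)
  haveI : Fact (Nat.Prime 7) := ⟨by norm_num⟩
  obtain ⟨d, hd, hnd⟩ := exists_dvd_sylow (p := 7) hfaith hΩ hG (by norm_num)
  have hmod : Nat.card (Sylow 7 G) % 7 = 1 := card_sylow_modEq_one 7 G
  have hd6 : d ≤ 6 := Nat.le_of_dvd (by norm_num) hd
  have hn : Nat.card (Sylow 7 G) = 120 := by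
    interval_cases d <;> omega
  have := eq_one_of_card_sylow_eq (p := 7) hfaith hΩ hG (by norm_num) hn
  omega

theorem not_sharp6_card13 [Finite Ω] (h6 : IsMultiplyPretransitive G Ω 6)
    (hsharp : ∀ x : Fin 6 ↪ Ω, stabilizer G x = ⊥) (hΩ : Nat.card Ω = 13) : False := by
  have hne : Nonempty (Fin 6 ↪ Ω) := nonempty_emb (by omega)
  haveI : Finite G := finite_of_sharp h6 hsharp hne
  have hG : Nat.card G = 13 * 95040 := by
    rw [card_eq h6 hsharp hne, hΩ]; rfl
  have hfaith : ∀ g : G, (∀ ω : Ω, g • ω = ω) → g = 1 :=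
    fun g hg => eq_one_of_forall_smul hsharp hne hg
  haveI : Fact (Nat.Prime 13) := ⟨by norm_num⟩
  obtain ⟨d, hd, hnd⟩ := exists_dvd_sylow (p := 13) hfaith hΩ hG (by norm_num)
  have hmod : Nat.card (Sylow 13 G) % 13 = 1 := card_sylow_modEq_one 13 G
  have hd6 : d ≤ 12 := Nat.le_of_dvd (by norm_num) hd
  interval_cases d <;> omega

end Cfsg.Agent.Lib.H3.SharpK
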