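/-
helper3 library: no sharply 4-transitive group of degree 9 (refinement of Tits' argument:
the centralizer of the involution `t = (p1 p2)(p3 p4)...` intersected with the stabilizer of `p1`
has order 4 but acts faithfully on the three fixed points of `t`).
-/
import Mathlib
import Cfsg.Agent.S0708
import Cfsg.Agent.Lib.H3.SharpK1

set_option autoImplicit false

namespace Cfsg.Agent.Lib.H3.SharpK

open MulAction Cfsg.Agent.S0708

variable {G : Type*} [Group G] {Ω : Type*} [MulAction G Ω]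

/-- the fixed points of `t`, as a set acted on by `C(t) ⊓ G_{p}` -/
def fixSMA (t : G) (p : Ω) :
    SubMulAction (↥(Subgroup.centralizer {t} ⊓ stabilizer G p : Subgroup G)) Ω where
  carrier := {ω | t • ω = ω}
  smul_mem' := by
    intro g ω hω
    have hg : t * g.1 = g.1 * t :=
      Subgroup.mem_centralizer_iff.1 g.2.1 t (Set.mem_singleton t)
    show t • (g.1 • ω) = g.1 • ω
    rw [← mul_smul, hg, mul_smul]
    exact congrArg (g.1 • ·) hω

theorem not_sharp4_card9 [Finite Ω] (h4 : IsMultiplyPretransitive G Ω 4)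
    (hsharp : ∀ x : Fin 4 ↪ Ω, stabilizer G x = ⊥) (hΩ : Nat.card Ω = 9) : False := by
  classical
  have hne : Nonempty (Fin 4 ↪ Ω) := nonempty_emb (by omega)
  obtain ⟨x0⟩ := hne
  have hx : ∀ i j : Fin 4, i ≠ j → x0 i ≠ x0 j := fun i j hij h => hij (x0.injective h)
  have h12 : x0 0 ≠ x0 1 := hx 0 1 (by decide)
  have h13 : x0 0 ≠ x0 2 := hx 0 2 (by decide)
  have h14 : x0 0 ≠ x0 3 := hx 0 3 (by decide)
  have h23 : x0 1 ≠ x0 2 := hx 1 2 (by decide)
  have h24 : x0 1 ≠ x0 3 := hx 1 3 (by decide)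
  have h34 : x0 2 ≠ x0 3 := hx 2 3 (by decide)
  obtain ⟨t, t1, t2, t3, t4⟩ := exists_map4 h4 h12 h13 h14 h23 h24 h34
    h12.symm h24 h23 h14 h13 h34.symm
  have tts := tt_smul hsharp h12 h13 h14 h23 h24 h34 t1 t2 t3 t4
  have t_ne : t ≠ 1 := by
    intro h
    rw [h, one_smul] at t1
    exact h12 t1
  set p1 := x0 0 with hp1
  set p2 := x0 1 with hp2
  set p3 := x0 2 with hp3
  set p4 := x0 3 with hp4
  set F : Set Ω := {ω : Ω | t • ω = ω} with hFdef
  set M : Set Ω := {ω : Ω | t • ω ≠ ω} with hMdef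
  obtain ⟨hFfin, hF3⟩ := fix_le_three hsharp t_ne
  have hF3' : F.ncard ≤ 3 := hF3
  have hFfin' : F.Finite := hFfin
  have hMc : M = Fᶜ := by ext ω; simp [hFdef, hMdef]
  have hFM : F.ncard + M.ncard = 9 := by
    rw [hMc, Set.ncard_add_ncard_compl, hΩ]
  -- parity
  haveI : Fintype Ω := Fintype.ofFinite Ω
  haveI : Fact (Nat.Prime 2) := ⟨Nat.prime_two⟩
  let fe : Function.End Ω := fun ω => t • ω
  have hfe : fe ^ 2 ^ 1 = 1 := by
    rw [pow_one, pow_two]
    funext ω
    exact tts ω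
  have hpar := Equiv.Perm.card_fixedPoints_modEq (p := 2) (n := 1) hfe
  have hfixcard : Fintype.card (Function.fixedPoints fe) = F.ncard := by
    rw [← Nat.card_eq_fintype_card, ← Nat.card_coe_set_eq]
    rfl
  rw [hfixcard, ← Nat.card_eq_fintype_card, hΩ] at hpar
  have hpar' : F.ncard % 2 = 1 := by
    have : 9 % 2 = F.ncard % 2 := hpar
    omega
  have hp1F : t • p1 ≠ p1 := by rw [t1]; exact h12.symm
  have hp2F : t • p2 ≠ p2 := by rw [t2]; exact h12
  have hp3F : t • p3 ≠ p3 := by rw [t3]; exact h34.symm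
  have hp4F : t • p4 ≠ p4 := by rw [t4]; exact h34
  -- `F` has exactly three elements
  have hF : F.ncard = 3 := by
    by_contra hcon
    have hF1 : F.ncard = 1 := by omega
    have hsub : M ⊆ {p1, p2, p3, p4} := by
      intro η hη
      by_contra hnot
      simp only [Set.mem_insert_iff, Set.mem_singleton_iff, not_or] at hnot
      obtain ⟨e1, e2, he1, he2, he⟩ := two_fixed_of_moved h4 hsharp h12 h13 h14 h23 h24 h34
        t1 t2 t3 t4 hη hnot.1 hnot.2.1 hnot.2.2.1 hnot.2.2.2
      have : 1 < F.ncard := (Set.one_lt_ncard_iff hFfin).2 ⟨e1, e2, he1, he2, he⟩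
      omega
    have hfin4 : ({p1, p2, p3, p4} : Set Ω).Finite := by simp
    have hc4 : ({p1, p2, p3, p4} : Set Ω).ncard ≤ 4 := by
      calc ({p1, p2, p3, p4} : Set Ω).ncard
          ≤ ({p2, p3, p4} : Set Ω).ncard + 1 := Set.ncard_insert_le _ _
        _ ≤ (({p3, p4} : Set Ω).ncard + 1) + 1 := by
            have := Set.ncard_insert_le p2 ({p3, p4} : Set Ω)
            omega
        _ ≤ 4 := by
            have := Set.ncard_pair h34
            omega
    have hM4 : M.ncard ≤ 4 := (Set.ncard_le_ncard hsub hfin4).trans hc4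
    omega
  have hM6 : M.ncard = 6 := by omega
  -- the set `M'`
  set M' : Set Ω := {ω : Ω | t • ω ≠ ω ∧ ω ≠ p1 ∧ ω ≠ p2} with hM'
  have hM'card : M'.ncard = 4 := by
    have hunion : M = M' ∪ {p1, p2} := by
      ext ω
      simp only [hMdef, hM', Set.mem_setOf_eq, Set.mem_union, Set.mem_insert_iff,
        Set.mem_singleton_iff]
      constructor
      · intro h
        by_cases h1 : ω = p1
        · exact Or.inr (Or.inl h1)
        by_cases h2 : ω = p2
        · exact Or.inr (Or.inr h2)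
        exact Or.inl ⟨h, h1, h2⟩
      · rintro (h | h | h)
        · exact h.1
        · rw [h]; exact hp1F
        · rw [h]; exact hp2F
    have hdisj : Disjoint M' ({p1, p2} : Set Ω) := by
      rw [Set.disjoint_left]
      intro ω hω h
      simp only [Set.mem_insert_iff, Set.mem_singleton_iff] at h
      rcases h with h | h
      · exact hω.2.1 h
      · exact hω.2.2 h
    have := Set.ncard_union_eq hdisj (Set.toFinite _) (Set.toFinite _)
    rw [← hunion, Set.ncard_pair h12, hM6] at this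
    omega
  -- the subgroup `D0`
  set D0 : Subgroup G := Subgroup.centralizer {t} ⊓ stabilizer G p1 with hD0
  have hcomm : ∀ g ∈ D0, t * g = g * t := fun g hg =>
    Subgroup.mem_centralizer_iff.1 hg.1 t (Set.mem_singleton t)
  have hfix1 : ∀ g ∈ D0, g • p1 = p1 := fun g hg => mem_stabilizer_iff.1 hg.2
  have hfix2 : ∀ g ∈ D0, g • p2 = p2 := by
    intro g hg
    rw [← t1, ← mul_smul, ← hcomm g hg, mul_smul, hfix1 g hg]
  have hg4 : ∀ g ∈ D0, g • p4 = t • g • p3 := by
    intro g hg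
    rw [← t3, ← mul_smul, ← mul_smul, hcomm g hg]
  have hD0card : Nat.card D0 = 4 := by
    rw [← hM'card, ← Nat.card_coe_set_eq]
    apply Nat.card_congr
    refine Equiv.ofBijective (fun g : D0 => (⟨g.1 • p3, ?_, ?_, ?_⟩ : M')) ⟨?_, ?_⟩
    · show t • g.1 • p3 ≠ g.1 • p3
      rw [← hg4 g.1 g.2]
      intro h
      exact h34 (smul_left_cancel _ h).symm
    · intro h
      rw [← hfix1 g.1 g.2] at h
      exact h13 (smul_left_cancel _ h).symm
    · intro h
      rw [← hfix2 g.1 g.2] at h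
      exact h23 (smul_left_cancel _ h).symm
    · intro g g' hgg'
      have h3 : g.1 • p3 = g'.1 • p3 := congrArg (fun x : M' => (x : Ω)) hgg'
      apply Subtype.ext
      apply eq_of_agree4 hsharp h12 h13 h14 h23 h24 h34
      · rw [hfix1 g.1 g.2, hfix1 g'.1 g'.2]
      · rw [hfix2 g.1 g.2, hfix2 g'.1 g'.2]
      · exact h3
      · rw [hg4 g.1 g.2, hg4 g'.1 g'.2, h3]
    · rintro ⟨η, hη⟩
      obtain ⟨g, hg1, hg2, hg3⟩ := lemmaA h4 hsharp h12 h13 h14 h23 h24 h34 t1 t2 t3 t4
        (ω := p1) (η := η) hp1F hη.1 hη.2.1 (by rw [t1]; exact hη.2.2)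
      refine ⟨⟨g, ?_, mem_stabilizer_iff.2 hg2⟩, Subtype.ext hg3⟩
      show g ∈ Subgroup.centralizer _
      rw [Subgroup.mem_centralizer_iff]
      intro h hh
      rw [Set.mem_singleton_iff.1 hh]
      exact hg1.symm
  -- `D0` acts faithfully on `F`
  obtain ⟨e1, e2, he1, he2, he⟩ := (Set.one_lt_ncard_iff hFfin).1 (by omega : 1 < F.ncard)
  have hinj : Function.Injective (MulAction.toPermHom D0 (fixSMA t p1)) := by
    rw [injective_iff_map_eq_one]
    intro g hg
    have hact : ∀ e : Ω, t • e = e → g.1 • e = e := by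
      intro e hte
      have := congrArg (fun σ : Equiv.Perm (fixSMA t p1) => ((σ ⟨e, hte⟩ : fixSMA t p1) : Ω)) hg
      exact this
    have n1 : p1 ≠ e1 := fun h => hp1F (h ▸ he1)
    have n2 : p1 ≠ e2 := fun h => hp1F (h ▸ he2)
    have n3 : p2 ≠ e1 := fun h => hp2F (h ▸ he1)
    have n4 : p2 ≠ e2 := fun h => hp2F (h ▸ he2)
    apply Subtype.ext
    exact eq_one_of_fix4 hsharp h12 n1 n2 n3 n4 he (hfix1 g.1 g.2) (hfix2 g.1 g.2)
      (hact e1 he1) (hact e2 he2)
  have hdvd := Subgroup.card_dvd_of_injective _ hinj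
  have hcardF : Nat.card (fixSMA t p1) = 3 := by
    rw [← hF, ← Nat.card_coe_set_eq]
    rfl
  rw [hD0card, Nat.card_perm, hcardF] at hdvd
  norm_num at hdvd

end Cfsg.Agent.Lib.H3.SharpK
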