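/-
helper3 library: Jordan's theorem on the degrees of sharply k-transitive groups, k ≥ 4.
-/
import Mathlib
import Cfsg.Agent.S0708
import Cfsg.Agent.Lib.H3.SharpK1
import Cfsg.Agent.Lib.H3.SharpK3
import Cfsg.Agent.Lib.H3.SharpK4

set_option autoImplicit false

namespace Cfsg.Agent.Lib.H3.SharpK

open MulAction

universe u v

theorem sharp4_card {G : Type u} [Group G] {Ω : Type v} [MulAction G Ω] [Finite Ω]
    (h4 : IsMultiplyPretransitive G Ω 4)
    (hsharp : ∀ x : Fin 4 ↪ Ω, stabilizer G x = ⊥) (hn : 4 ≤ Nat.card Ω) :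
    Nat.card Ω = 4 ∨ Nat.card Ω = 5 ∨ Nat.card Ω = 6 ∨ Nat.card Ω = 11 := by
  have hne : Nonempty (Fin 4 ↪ Ω) := nonempty_emb hn
  obtain ⟨_, h11, heven⟩ := Cfsg.Agent.S0708.result h4 hsharp hne
  have h7 := not_sharp4_card7 h4 hsharp
  have h9 := not_sharp4_card9 h4 hsharp
  obtain ⟨n, hnn⟩ : ∃ n, Nat.card Ω = n := ⟨_, rfl⟩
  rw [hnn] at hn h11 heven h7 h9 ⊢
  interval_cases n
  · omega
  · omega
  · omega
  · exact (h7 rfl).elim
  · have := heven (by decide); omega
  · exact (h9 rfl).elim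
  · have := heven (by decide); omega
  · omega

theorem sharp5_card {G : Type u} [Group G] {Ω : Type v} [MulAction G Ω] [Finite Ω]
    (h5 : IsMultiplyPretransitive G Ω 5)
    (hsharp : ∀ x : Fin 5 ↪ Ω, stabilizer G x = ⊥) (hn : 5 ≤ Nat.card Ω) :
    Nat.card Ω = 5 ∨ Nat.card Ω = 6 ∨ Nat.card Ω = 7 ∨ Nat.card Ω = 12 := by
  have hne : Nonempty Ω := by
    rw [← Nat.card_pos_iff.trans ⟨fun h => h.1, fun h => ⟨h, inferInstance⟩⟩]
    omega
  obtain ⟨a⟩ := hne
  have h4' := stabilizer_pretransitive (k := 4) h5 hn a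
  have hs' := stabilizer_sharp (k := 4) hsharp a
  have hc := card_ofStabilizer (G := G) a
  have := sharp4_card h4' hs' (by omega)
  omega

theorem sharpk_card : ∀ (k : ℕ), 6 ≤ k → ∀ {G : Type u} [Group G] {Ω : Type v} [MulAction G Ω]
    [Finite Ω], IsMultiplyPretransitive G Ω k → (∀ x : Fin k ↪ Ω, stabilizer G x = ⊥) →
    k ≤ Nat.card Ω → Nat.card Ω = k ∨ Nat.card Ω = k + 1 ∨ Nat.card Ω = k + 2 := by
  intro k hk
  induction k, hk using Nat.le_induction with
  | base =>
    intro G _ Ω _ _ h6 hsharp hn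
    have hne : Nonempty Ω := by
      rw [← Nat.card_pos_iff.trans ⟨fun h => h.1, fun h => ⟨h, inferInstance⟩⟩]
      omega
    obtain ⟨a⟩ := hne
    have h5' := stabilizer_pretransitive (k := 5) h6 hn a
    have hs' := stabilizer_sharp (k := 5) hsharp a
    have hc := card_ofStabilizer (G := G) a
    have := sharp5_card h5' hs' (by omega)
    have h13 := not_sharp6_card13 h6 hsharp
    by_cases h : Nat.card Ω = 13
    · exact (h13 h).elim
    · omega
  | succ k hk ih =>
    intro G _ Ω _ _ hk1 hsharp hn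
    have hne : Nonempty Ω := by
      rw [← Nat.card_pos_iff.trans ⟨fun h => h.1, fun h => ⟨h, inferInstance⟩⟩]
      omega
    obtain ⟨a⟩ := hne
    have hk' := stabilizer_pretransitive (k := k) hk1 hn a
    have hs' := stabilizer_sharp (k := k) hsharp a
    have hc := card_ofStabilizer (G := G) a
    have := ih hk' hs' (by omega)
    omega

end Cfsg.Agent.Lib.H3.SharpK
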