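/-
helper3 library: recognition of `PSL₂(p)` from a doubly transitive action on `p + 1` points.
Part 1: the abstract set-up (a group acting on `Option (ZMod p)` with a translation), the
two-point stabilizer acts by multiplications, Bruhat decomposition, structure equation.
-/
import Mathlib

set_option autoImplicit false

namespace Cfsg.Agent.Lib.H3.Zas

variable {p : ℕ}

/-- translation by `c` on the projective line `Option (ZMod p)` (`none` is the point at infinity) -/
def shiftO (c : ZMod p) : Option (ZMod p) → Option (ZMod p)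
  | none => none
  | some x => some (x + c)

/-- multiplication by `a` on the projective line -/
def scaleO (a : ZMod p) : Option (ZMod p) → Option (ZMod p)
  | none => none
  | some x => some (a * x)

@[simp] theorem shiftO_none (c : ZMod p) : shiftO c none = none := rfl
@[simp] theorem shiftO_some (c x : ZMod p) : shiftO c (some x) = some (x + c) := rfl
@[simp] theorem scaleO_none (a : ZMod p) : scaleO a none = none := rfl
@[simp] theorem scaleO_some (a x : ZMod p) : scaleO a (some x) = some (a * x) := rfl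

theorem shiftO_shiftO (c d : ZMod p) (y : Option (ZMod p)) :
    shiftO c (shiftO d y) = shiftO (d + c) y := by
  cases y with
  | none => rfl
  | some x => simp [add_assoc]

theorem shiftO_zero (y : Option (ZMod p)) : shiftO (0 : ZMod p) y = y := by
  cases y with
  | none => rfl
  | some x => simp

theorem scaleO_scaleO (a b : ZMod p) (y : Option (ZMod p)) :
    scaleO a (scaleO b y) = scaleO (a * b) y := by
  cases y with
  | none => rfl
  | some x => simp [mul_assoc]

/-- The set-up: a faithful transitive action on `p + 1` points labelled by the projective line,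
with an element `u` acting as `x ↦ x + 1` whose powers are normalized by the stabilizer of `∞`. -/
structure Setup (G : Type*) [Group G] (Ω : Type*) [MulAction G Ω] (p : ℕ) where
  E : Ω ≃ Option (ZMod p)
  u : G
  hu : ∀ ω, E (u • ω) = shiftO 1 (E ω)
  faithful : ∀ g : G, (∀ ω : Ω, g • ω = ω) → g = 1
  hnorm : ∀ g : G, g • E.symm none = E.symm none → ∃ k : ℕ, g * u * g⁻¹ = u ^ k
  trans : ∀ ω ω' : Ω, ∃ g : G, g • ω = ω'
  card : 2 * Nat.card G = p * (p ^ 2 - 1)

namespace Setup

variable {G : Type*} [Group G] {Ω : Type*} [MulAction G Ω] (S : Setup G Ω p)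

/-- the point at infinity -/
def inf : Ω := S.E.symm none

/-- the finite points -/
def pt (x : ZMod p) : Ω := S.E.symm (some x)

@[simp] theorem E_inf : S.E S.inf = none := S.E.apply_symm_apply _
@[simp] theorem E_pt (x : ZMod p) : S.E (S.pt x) = some x := S.E.apply_symm_apply _

theorem pt_injective : Function.Injective S.pt := by
  intro x y h
  have := congrArg S.E h
  simpa using this

theorem pt_ne_inf (x : ZMod p) : S.pt x ≠ S.inf := by
  intro h
  have := congrArg S.E h
  simp at this

theorem eq_inf_or_pt (ω : Ω) : ω = S.inf ∨ ∃ x, ω = S.pt x := by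
  cases h : S.E ω with
  | none => left; rw [← S.E.symm_apply_apply ω, h]; rfl
  | some x => right; exact ⟨x, by rw [← S.E.symm_apply_apply ω, h]; rfl⟩

theorem hu_pow (i : ℕ) (ω : Ω) : S.E (S.u ^ i • ω) = shiftO (i : ZMod p) (S.E ω) := by
  induction i with
  | zero => rw [pow_zero, one_smul, Nat.cast_zero, shiftO_zero]
  | succ i ih =>
    rw [pow_succ', mul_smul, S.hu, ih, shiftO_shiftO, Nat.cast_succ]

theorem u_pow_smul_inf (i : ℕ) : S.u ^ i • S.inf = S.inf := by
  apply S.E.injective
  rw [S.hu_pow, E_inf]; rfl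

theorem u_pow_smul_pt (i : ℕ) (x : ZMod p) : S.u ^ i • S.pt x = S.pt (x + i) := by
  apply S.E.injective
  rw [S.hu_pow, E_pt, E_pt]; rfl

theorem u_smul_inf : S.u • S.inf = S.inf := by
  have := S.u_pow_smul_inf 1
  rwa [pow_one] at this

theorem pt_eq_u_pow [NeZero p] (x : ZMod p) : S.pt x = S.u ^ x.val • S.pt 0 := by
  rw [S.u_pow_smul_pt, zero_add, ZMod.natCast_zmod_val]

/-- conjugation of powers of `u` by an element normalizing `⟨u⟩` -/
theorem conj_u_pow {g : G} {k : ℕ} (hk : g * S.u * g⁻¹ = S.u ^ k) (i : ℕ) :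
    g * S.u ^ i * g⁻¹ = S.u ^ (k * i) := by
  rw [pow_mul, ← hk, conj_pow]

/-- an element fixing `∞` and `0` acts as a multiplication -/
theorem exists_scale [Fact p.Prime] {g : G} (h1 : g • S.inf = S.inf) (h2 : g • S.pt 0 = S.pt 0) :
    ∃ a : ZMod p, a ≠ 0 ∧ ∀ y, S.E (g • S.E.symm y) = scaleO a y := by
  haveI : NeZero p := ⟨(Fact.out : p.Prime).ne_zero⟩
  obtain ⟨k, hk⟩ := S.hnorm g h1
  have key : ∀ x : ZMod p, g • S.pt x = S.pt ((k : ZMod p) * x) := by
    intro x
    rw [S.pt_eq_u_pow x, ← mul_smul]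
    have : g * S.u ^ x.val = S.u ^ (k * x.val) * g := by
      rw [← S.conj_u_pow hk x.val]; group
    rw [this, mul_smul, h2, S.u_pow_smul_pt, zero_add, Nat.cast_mul, ZMod.natCast_zmod_val]
  refine ⟨(k : ZMod p), ?_, ?_⟩
  · intro hk0
    have h3 := key 1
    rw [hk0, zero_mul, ← h2] at h3
    have h4 := S.pt_injective (smul_left_cancel g h3)
    exact one_ne_zero h4
  · intro y
    cases y with
    | none =>
      show S.E (g • S.inf) = none
      rw [h1, E_inf]
    | some x =>
      show S.E (g • S.pt x) = some ((k : ZMod p) * x)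
      rw [key, E_pt]

/-- the scaling factor is unique -/
theorem scale_unique [Fact p.Prime] {g : G} {a a' : ZMod p}
    (ha : ∀ y, S.E (g • S.E.symm y) = scaleO a y) (ha' : ∀ y, S.E (g • S.E.symm y) = scaleO a' y) :
    a = a' := by
  have h1 := ha (some 1)
  rw [ha' (some 1)] at h1
  simpa using h1.symm

/-- decomposition of the stabilizer of `∞` -/
theorem exists_decomp [Fact p.Prime] {g : G} (h1 : g • S.inf = S.inf) :
    ∃ (b : ℕ) (h : G), h • S.inf = S.inf ∧ h • S.pt 0 = S.pt 0 ∧ g = S.u ^ b * h := by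
  haveI : NeZero p := ⟨(Fact.out : p.Prime).ne_zero⟩
  rcases S.eq_inf_or_pt (g • S.pt 0) with h | ⟨x, hx⟩
  · have h' : g • S.pt 0 = g • S.inf := h.trans h1.symm
    exact absurd (smul_left_cancel g h') (S.pt_ne_inf 0)
  · refine ⟨x.val, (S.u ^ x.val)⁻¹ * g, ?_, ?_, by group⟩
    · rw [mul_smul, h1, inv_smul_eq_iff, S.u_pow_smul_inf]
    · rw [mul_smul, hx, inv_smul_eq_iff, ← S.pt_eq_u_pow]

/-- an element swapping `∞` and `0` -/
theorem exists_swap [Fact p.Prime] : ∃ t : G, t • S.inf = S.pt 0 ∧ t • S.pt 0 = S.inf := by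
  haveI : NeZero p := ⟨(Fact.out : p.Prime).ne_zero⟩
  obtain ⟨g, hg⟩ := S.trans (S.pt 0) S.inf
  rcases S.eq_inf_or_pt (g • S.inf) with h | ⟨x, hx⟩
  · have h' : g • S.inf = g • S.pt 0 := h.trans hg.symm
    exact absurd (smul_left_cancel g h').symm (S.pt_ne_inf 0)
  · refine ⟨(S.u ^ x.val)⁻¹ * g, ?_, ?_⟩
    · rw [mul_smul, hx, inv_smul_eq_iff, ← S.pt_eq_u_pow]
    · rw [mul_smul, hg, inv_smul_eq_iff, S.u_pow_smul_inf]

/-- Bruhat decomposition -/
theorem bruhat [Fact p.Prime] {t : G} (ht : t • S.inf = S.pt 0) (g : G) :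
    g • S.inf = S.inf ∨ ∃ (b : ℕ) (n : G), n • S.inf = S.inf ∧ g = S.u ^ b * t * n := by
  haveI : NeZero p := ⟨(Fact.out : p.Prime).ne_zero⟩
  rcases S.eq_inf_or_pt (g • S.inf) with h | ⟨x, hx⟩
  · exact Or.inl h
  · refine Or.inr ⟨x.val, t⁻¹ * (S.u ^ x.val)⁻¹ * g, ?_, by group⟩
    rw [mul_smul, mul_smul, hx, inv_smul_eq_iff, inv_smul_eq_iff, ht, ← S.pt_eq_u_pow]

end Setup

end Cfsg.Agent.Lib.H3.Zas
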