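/-
helper3 library: recognition of `PSL₂(p)`, part 2: the two-point stabilizer `H`, its order,
the multiplier character `chi`, and its image (the `(p-1)/2`-th roots of unity).
-/
import Cfsg.Agent.Lib.H3.Zas1

set_option autoImplicit false

namespace Cfsg.Agent.Lib.H3.Zas

namespace Setup

variable {p : ℕ} {G : Type*} [Group G] {Ω : Type*} [MulAction G Ω] (S : Setup G Ω p)

/-- the two-point stabilizer -/
def H : Subgroup G := MulAction.stabilizer G S.inf ⊓ MulAction.stabilizer G (S.pt 0)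

theorem mem_H {g : G} : g ∈ S.H ↔ g • S.inf = S.inf ∧ g • S.pt 0 = S.pt 0 := by
  unfold H
  rw [Subgroup.mem_inf, MulAction.mem_stabilizer_iff, MulAction.mem_stabilizer_iff]

open Classical in
/-- the multiplier of an element of `H` (and `1` outside `H`) -/
noncomputable def chi [Fact p.Prime] (g : G) : ZMod p :=
  if h : g • S.inf = S.inf ∧ g • S.pt 0 = S.pt 0 then Classical.choose (S.exists_scale h.1 h.2) else 1

variable [Fact p.Prime]

theorem chi_spec {g : G} (hg : g ∈ S.H) :
    S.chi g ≠ 0 ∧ ∀ y, S.E (g • S.E.symm y) = scaleO (S.chi g) y := by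
  have h := S.mem_H.1 hg
  unfold chi
  rw [dif_pos h]
  exact Classical.choose_spec (S.exists_scale h.1 h.2)

theorem chi_ne_zero {g : G} (hg : g ∈ S.H) : S.chi g ≠ 0 := (S.chi_spec hg).1

theorem E_smul {g : G} (hg : g ∈ S.H) (ω : Ω) : S.E (g • ω) = scaleO (S.chi g) (S.E ω) := by
  have := (S.chi_spec hg).2 (S.E ω)
  rwa [S.E.symm_apply_apply] at this

theorem chi_eq {g : G} (hg : g ∈ S.H) {a : ZMod p}
    (ha : ∀ y, S.E (g • S.E.symm y) = scaleO a y) : S.chi g = a :=
  S.scale_unique (S.chi_spec hg).2 ha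

theorem chi_mul {g g' : G} (hg : g ∈ S.H) (hg' : g' ∈ S.H) :
    S.chi (g * g') = S.chi g * S.chi g' := by
  apply S.chi_eq (S.H.mul_mem hg hg')
  intro y
  rw [mul_smul, S.E_smul hg, (S.chi_spec hg').2, scaleO_scaleO]

theorem chi_one : S.chi (1 : G) = 1 := by
  apply S.chi_eq (S.H.one_mem)
  intro y
  rw [one_smul, S.E.apply_symm_apply]
  cases y with
  | none => rfl
  | some x => simp

theorem chi_pow {g : G} (hg : g ∈ S.H) (i : ℕ) : S.chi (g ^ i) = S.chi g ^ i := by
  induction i with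
  | zero => rw [pow_zero, pow_zero, S.chi_one]
  | succ i ih => rw [pow_succ, pow_succ, S.chi_mul (S.H.pow_mem hg i) hg, ih]

theorem chi_injOn {g g' : G} (hg : g ∈ S.H) (hg' : g' ∈ S.H) (h : S.chi g = S.chi g') : g = g' := by
  have h1 : g'⁻¹ * g = 1 := by
    apply S.faithful
    intro ω
    rw [mul_smul, inv_smul_eq_iff]
    apply S.E.injective
    rw [S.E_smul hg, S.E_smul hg', h]
  exact (inv_mul_eq_one.1 h1).symm

omit [Fact p.Prime] in
theorem isPretransitive (S : Setup G Ω p) : MulAction.IsPretransitive G Ω := ⟨S.trans⟩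

theorem card_Omega (S : Setup G Ω p) : Nat.card Ω = p + 1 := by
  haveI : NeZero p := ⟨(Fact.out : p.Prime).ne_zero⟩
  rw [Nat.card_congr S.E, Nat.card_eq_fintype_card, Fintype.card_option, ZMod.card]

/-- the order of the stabilizer of `∞` -/
theorem card_N [Finite G] : (p + 1) * Nat.card (MulAction.stabilizer G S.inf) = Nat.card G := by
  haveI := S.isPretransitive
  rw [← S.card_Omega, ← MulAction.index_stabilizer_of_transitive G S.inf]
  exact Subgroup.index_mul_card _

theorem u_pow_mem_N (i : ℕ) : S.u ^ i ∈ MulAction.stabilizer G S.inf :=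
  MulAction.mem_stabilizer_iff.2 (S.u_pow_smul_inf i)

/-- the orbit of `0` under the stabilizer of `∞` is the affine line -/
noncomputable def orbitEquiv :
    ZMod p ≃ MulAction.orbit (MulAction.stabilizer G S.inf) (S.pt 0) := by
  haveI : NeZero p := ⟨(Fact.out : p.Prime).ne_zero⟩
  refine Equiv.ofBijective (fun x => ⟨S.pt x, ⟨⟨S.u ^ x.val, S.u_pow_mem_N _⟩, ?_⟩⟩) ⟨?_, ?_⟩
  · show S.u ^ x.val • S.pt 0 = S.pt x
    rw [← S.pt_eq_u_pow]
  · intro x y hxy
    exact S.pt_injective (congrArg Subtype.val hxy)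
  · rintro ⟨ω, ⟨⟨n, hn⟩, rfl⟩⟩
    rw [MulAction.mem_stabilizer_iff] at hn
    rcases S.eq_inf_or_pt (n • S.pt 0) with h | ⟨x, hx⟩
    · have h' : n • S.pt 0 = n • S.inf := h.trans hn.symm
      exact absurd (smul_left_cancel n h') (S.pt_ne_inf 0)
    · exact ⟨x, Subtype.ext hx.symm⟩

/-- the stabilizer of `0` in the stabilizer of `∞` is `H` -/
def stabEquiv :
    MulAction.stabilizer (MulAction.stabilizer G S.inf) (S.pt 0) ≃ S.H where
  toFun n := ⟨n.1.1, S.mem_H.2 ⟨MulAction.mem_stabilizer_iff.1 n.1.2,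
    MulAction.mem_stabilizer_iff.1 n.2⟩⟩
  invFun h := ⟨⟨h.1, MulAction.mem_stabilizer_iff.2 (S.mem_H.1 h.2).1⟩,
    MulAction.mem_stabilizer_iff.2 (S.mem_H.1 h.2).2⟩
  left_inv _ := rfl
  right_inv _ := rfl

theorem card_N' [Finite G] : p * Nat.card S.H = Nat.card (MulAction.stabilizer G S.inf) := by
  haveI : NeZero p := ⟨(Fact.out : p.Prime).ne_zero⟩
  have h1 := Subgroup.index_mul_card
    (MulAction.stabilizer (MulAction.stabilizer G S.inf) (S.pt 0))
  rw [MulAction.index_stabilizer, ← Nat.card_coe_set_eq, ← Nat.card_congr S.orbitEquiv,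
    Nat.card_congr S.stabEquiv, Nat.card_eq_fintype_card, ZMod.card] at h1
  exact h1

theorem card_H [Finite G] : 2 * Nat.card S.H = p - 1 := by
  have h1 := S.card_N
  have h2 := S.card_N'
  have h3 := S.card
  have hp : 2 ≤ p := (Fact.out : p.Prime).two_le
  obtain ⟨q, rfl⟩ : ∃ q, p = q + 1 := ⟨p - 1, by omega⟩
  have h4 : (q + 1) ^ 2 - 1 = q * (q + 2) := by
    apply Nat.sub_eq_of_eq_add
    ring
  rw [h4, ← h1, ← h2] at h3
  have h5 : (q + 1) * (q + 1 + 1) * (2 * Nat.card S.H) = (q + 1) * (q + 1 + 1) * q := by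
    nlinarith [h3]
  have h6 := Nat.eq_of_mul_eq_mul_left (by positivity) h5
  rw [h6]
  omega

theorem chi_pow_card [Finite G] {g : G} (hg : g ∈ S.H) : S.chi g ^ Nat.card S.H = 1 := by
  rw [← S.chi_pow hg]
  have : (⟨g, hg⟩ : S.H) ^ Nat.card S.H = 1 := pow_card_eq_one'
  have h2 : g ^ Nat.card S.H = 1 := congrArg Subtype.val this
  rw [h2, S.chi_one]

theorem card_H_pos [Finite G] : 0 < Nat.card S.H := Nat.card_pos

/-- every `|H|`-th root of unity is the multiplier of an element of `H` -/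
theorem exists_of_pow_eq_one [Finite G] {a : ZMod p} (ha : a ^ Nat.card S.H = 1) :
    ∃ g ∈ S.H, S.chi g = a := by
  classical
  haveI : Fintype S.H := Fintype.ofFinite _
  set m := Nat.card S.H with hm
  have hmpos : 0 < m := S.card_H_pos
  let img : Finset (ZMod p) := Finset.univ.image (fun h : S.H => S.chi h.1)
  have himg : img.card = m := by
    rw [Finset.card_image_of_injective, Finset.card_univ, hm, Nat.card_eq_fintype_card]
    intro h h' hh
    exact Subtype.ext (S.chi_injOn h.2 h'.2 hh)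
  have hsub : img ⊆ Polynomial.nthRootsFinset m (1 : ZMod p) := by
    intro x hx
    rw [Finset.mem_image] at hx
    obtain ⟨h, _, rfl⟩ := hx
    rw [Polynomial.mem_nthRootsFinset hmpos]
    exact S.chi_pow_card h.2
  have hcard : (Polynomial.nthRootsFinset m (1 : ZMod p)).card ≤ img.card := by
    rw [himg, Polynomial.nthRootsFinset_def]
    exact le_trans (Multiset.toFinset_card_le _) (Polynomial.card_nthRoots m 1)
  have heq := Finset.eq_of_subset_of_card_le hsub hcard
  have : a ∈ img := by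
    rw [heq, Polynomial.mem_nthRootsFinset hmpos]
    exact ha
  rw [Finset.mem_image] at this
  obtain ⟨h, _, hh⟩ := this
  exact ⟨h.1, h.2, hh⟩

end Setup

end Cfsg.Agent.Lib.H3.Zas
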