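/-
helper3 library: recognition of `PSL₂(p)`, part 3: the swap `t`, the induced map `f` on the
nonzero elements, its compatibility with `H` and the structure equation for `t u t`.
-/
import Cfsg.Agent.Lib.H3.Zas2

set_option autoImplicit false

namespace Cfsg.Agent.Lib.H3.Zas

variable {p : ℕ}

/-- the permutation of the line swapping `∞` and `0` built from a map `f` of the nonzero elements -/
def tauO (f : ZMod p → ZMod p) : Option (ZMod p) → Option (ZMod p)
  | none => some 0
  | some x => if x = 0 then none else some (f x)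

theorem tauO_none (f : ZMod p → ZMod p) : tauO f none = some 0 := rfl

theorem tauO_some (f : ZMod p → ZMod p) (x : ZMod p) :
    tauO f (some x) = if x = 0 then none else some (f x) := rfl

/-- the structure equation `t u t = u^{f(1)} t u^b h_a` -/
def Eqn (F : ZMod p → ZMod p) (b a : ZMod p) : Prop :=
  ∀ x : Option (ZMod p),
    tauO F (shiftO 1 (tauO F x)) = shiftO (F 1) (tauO F (shiftO b (scaleO a x)))

theorem tauO_congr {f F : ZMod p → ZMod p} (h : ∀ x, x ≠ 0 → f x = F x) (y : Option (ZMod p)) :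
    tauO f y = tauO F y := by
  cases y with
  | none => rfl
  | some x =>
    rw [tauO_some, tauO_some]
    by_cases hx : x = 0
    · simp [hx]
    · simp [hx, h x hx]

theorem Eqn_congr {f F : ZMod p → ZMod p} (h : ∀ x, x ≠ 0 → f x = F x) (h1 : (1 : ZMod p) ≠ 0)
    {b a : ZMod p} (he : Eqn f b a) : Eqn F b a := by
  intro x
  have := he x
  rw [tauO_congr h, tauO_congr h, tauO_congr h, h 1 h1] at this
  exact this

namespace Setup

variable {G : Type*} [Group G] {Ω : Type*} [MulAction G Ω] (S : Setup G Ω p)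

/-- the permutation of the line induced by a group element -/
def perm (g : G) (y : Option (ZMod p)) : Option (ZMod p) := S.E (g • S.E.symm y)

theorem E_smul' (g : G) (ω : Ω) : S.E (g • ω) = S.perm g (S.E ω) := by
  unfold perm
  rw [S.E.symm_apply_apply]

theorem perm_mul (g g' : G) (y : Option (ZMod p)) : S.perm (g * g') y = S.perm g (S.perm g' y) := by
  unfold perm
  rw [mul_smul, S.E.symm_apply_apply]

theorem perm_injective (g : G) : Function.Injective (S.perm g) := by
  intro y y' h
  unfold perm at h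
  exact S.E.symm.injective (smul_left_cancel g (S.E.injective h))

theorem perm_u_pow (i : ℕ) (y : Option (ZMod p)) : S.perm (S.u ^ i) y = shiftO (i : ZMod p) y := by
  unfold perm
  rw [S.hu_pow, S.E.apply_symm_apply]

theorem perm_u (y : Option (ZMod p)) : S.perm S.u y = shiftO 1 y := by
  have := S.perm_u_pow 1 y
  rwa [pow_one, Nat.cast_one] at this

variable [Fact p.Prime]

theorem perm_of_mem_H {g : G} (hg : g ∈ S.H) (y : Option (ZMod p)) :
    S.perm g y = scaleO (S.chi g) y := (S.chi_spec hg).2 y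

/-- the map of the nonzero elements induced by `t` -/
def fOf (t : G) (x : ZMod p) : ZMod p := (S.perm t (some x)).getD 0

theorem perm_swap {t : G} (h1 : t • S.inf = S.pt 0) (h2 : t • S.pt 0 = S.inf)
    (y : Option (ZMod p)) : S.perm t y = tauO (S.fOf t) y := by
  have hn : S.perm t none = some 0 := by
    show S.E (t • S.inf) = some 0
    rw [h1, E_pt]
  have h0 : S.perm t (some 0) = none := by
    show S.E (t • S.pt 0) = none
    rw [h2, E_inf]
  cases y with
  | none => exact hn
  | some x =>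
    rw [tauO_some]
    by_cases hx : x = 0
    · rw [if_pos hx, hx, h0]
    · rw [if_neg hx]
      cases h : S.perm t (some x) with
      | none =>
        rw [← h0] at h
        have := S.perm_injective t h
        simp at this
        exact absurd this hx
      | some z =>
        unfold fOf
        rw [h]
        rfl

theorem fOf_ne_zero {t : G} (h1 : t • S.inf = S.pt 0) (h2 : t • S.pt 0 = S.inf) {x : ZMod p}
    (hx : x ≠ 0) : S.fOf t x ≠ 0 := by
  intro hz
  have h3 := S.perm_swap h1 h2 (some x)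
  have h4 := S.perm_swap h1 h2 none
  rw [tauO_some, if_neg hx, hz] at h3
  rw [tauO_none] at h4
  rw [← h4] at h3
  have := S.perm_injective t h3
  simp at this

theorem conj_mem_H {t : G} (h1 : t • S.inf = S.pt 0) (h2 : t • S.pt 0 = S.inf) {h : G}
    (hh : h ∈ S.H) : t * h * t⁻¹ ∈ S.H := by
  have hh' := S.mem_H.1 hh
  rw [S.mem_H]
  constructor
  · rw [mul_smul, mul_smul, inv_smul_eq_iff.2 h2.symm, hh'.2, h2]
  · rw [mul_smul, mul_smul, inv_smul_eq_iff.2 h1.symm, hh'.1, h1]

/-- compatibility of `f` with the multiplications of `H` -/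
theorem fOf_scale [Finite G] {t : G} (h1 : t • S.inf = S.pt 0) (h2 : t • S.pt 0 = S.inf)
    {a : ZMod p} (ha : a ^ Nat.card S.H = 1) :
    ∃ a' : ZMod p, a' ^ Nat.card S.H = 1 ∧ ∀ x, x ≠ 0 → S.fOf t (a * x) = a' * S.fOf t x := by
  obtain ⟨h, hh, rfl⟩ := S.exists_of_pow_eq_one ha
  have hc := S.conj_mem_H h1 h2 hh
  refine ⟨S.chi (t * h * t⁻¹), S.chi_pow_card hc, ?_⟩
  intro x hx
  have ha0 : S.chi h ≠ 0 := S.chi_ne_zero hh
  have e1 : S.perm (t * h) (some x) = S.perm (t * h * t⁻¹ * t) (some x) := by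
    congr 1; group
  rw [S.perm_mul, S.perm_mul (t * h * t⁻¹), S.perm_of_mem_H hh, S.perm_of_mem_H hc,
    S.perm_swap h1 h2, S.perm_swap h1 h2] at e1
  simp only [scaleO_some, tauO_some] at e1
  rw [if_neg (mul_ne_zero ha0 hx), if_neg hx] at e1
  simpa using e1

/-- the structure equation -/
theorem exists_eqn [Finite G] {t : G} (h1 : t • S.inf = S.pt 0) (h2 : t • S.pt 0 = S.inf) :
    ∃ b a : ZMod p, a ^ Nat.card S.H = 1 ∧ Eqn (S.fOf t) b a := by
  haveI : NeZero p := ⟨(Fact.out : p.Prime).ne_zero⟩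
  set k := (S.fOf t 1).val with hk
  have h11 : (1 : ZMod p) ≠ 0 := one_ne_zero
  have ht1 : t • S.pt 1 = S.pt (S.fOf t 1) := by
    apply S.E.injective
    rw [S.E_smul', E_pt, E_pt, S.perm_swap h1 h2, tauO_some, if_neg h11]
  have hn : (t⁻¹ * (S.u ^ k)⁻¹ * (t * S.u * t)) • S.inf = S.inf := by
    rw [mul_smul, mul_smul, mul_smul, mul_smul, h1, inv_smul_eq_iff, inv_smul_eq_iff, h1]
    have : S.u • S.pt 0 = S.pt 1 := by
      have := S.u_pow_smul_pt 1 0
      rwa [pow_one, zero_add, Nat.cast_one] at this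
    rw [this, ht1, S.pt_eq_u_pow (S.fOf t 1)]
  obtain ⟨b, h, hh1, hh2, hdec⟩ := S.exists_decomp hn
  have hh : h ∈ S.H := S.mem_H.2 ⟨hh1, hh2⟩
  refine ⟨(b : ZMod p), S.chi h, S.chi_pow_card hh, ?_⟩
  intro y
  have hg : t * S.u * t = S.u ^ k * t * S.u ^ b * h := by
    have : t * S.u * t = S.u ^ k * t * (t⁻¹ * (S.u ^ k)⁻¹ * (t * S.u * t)) := by group
    rw [this, hdec]
    group
  have e1 := congrArg (fun g => S.perm g y) hg
  simp only [S.perm_mul, S.perm_u, S.perm_u_pow, S.perm_of_mem_H hh, S.perm_swap h1 h2] at e1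
  rw [hk, ZMod.natCast_zmod_val] at e1
  exact e1

end Setup

end Cfsg.Agent.Lib.H3.Zas
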