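/-
helper3 library: recognition of `PSL₂(p)`, part 4: reduction of the determination of `f`
to a finite check on tables (powers of a generator of the squares, discrete logarithms).
-/
import Cfsg.Agent.Lib.H3.Zas3

set_option autoImplicit false

namespace Cfsg.Agent.Lib.H3.Zas

variable {p : ℕ}

/-- the candidate map attached to the parameters `j, r1, r2` -/
def Ff (m : ℕ) (powT : List (ZMod p)) (dlT : List ℕ) (sqT : List Bool) (j : ℕ) (r1 r2 : ZMod p)
    (x : ZMod p) : ZMod p :=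
  powT.getD ((j * dlT.getD x.val 0) % m) 0 * (if sqT.getD x.val false then r1 else r2)

/-- the conclusion: `f x = r1 / x` with `-r1` a square -/
def Concl (m : ℕ) (F : ZMod p → ZMod p) (r1 : ZMod p) : Prop :=
  (∀ x : ZMod p, x ≠ 0 → x * F x = r1) ∧ (-r1) ^ m = 1

instance [NeZero p] (F : ZMod p → ZMod p) (b a : ZMod p) : Decidable (Eqn F b a) := by
  unfold Eqn; infer_instance

instance [NeZero p] (m : ℕ) (F : ZMod p → ZMod p) (r1 : ZMod p) : Decidable (Concl m F r1) := by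
  unfold Concl; infer_instance

/-- the finite check -/
def Key (m : ℕ) (powT : List (ZMod p)) (dlT : List ℕ) (sqT : List Bool) : Prop :=
  ∀ j < m, ∀ r1 r2 b : ZMod p, r1 ≠ 0 → r2 ≠ 0 → Ff m powT dlT sqT j r1 r2 b = -r1 → ∀ k < m,
    Eqn (Ff m powT dlT sqT j r1 r2) b (powT.getD k 0) → Concl m (Ff m powT dlT sqT j r1 r2) r1

/-- tables for the prime `p`, with their verified properties -/
structure Tables (p : ℕ) where
  m : ℕ
  a0 : ZMod p
  n0 : ZMod p
  powT : List (ZMod p)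
  dlT : List ℕ
  sqT : List Bool
  hm : 0 < m
  hn0 : n0 ≠ 0
  hpow : ∀ i < m, powT.getD i 0 = a0 ^ i
  ha0 : a0 ^ m = 1
  hdl : ∀ x : ZMod p, x ≠ 0 → dlT.getD x.val 0 < m ∧
      x = a0 ^ (dlT.getD x.val 0) * (if sqT.getD x.val false then 1 else n0)
  hroots : ∀ a : ZMod p, a ^ m = 1 → ∃ k < m, a = a0 ^ k
  key : Key m powT dlT sqT

namespace Tables

variable (T : Tables p) [Fact p.Prime]

theorem a0_ne_zero : T.a0 ≠ 0 := by
  intro h
  have := T.ha0
  rw [h, zero_pow (Nat.pos_iff_ne_zero.1 T.hm)] at this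
  exact zero_ne_one this

theorem a0_pow_mod (k : ℕ) : T.a0 ^ k = T.a0 ^ (k % T.m) := by
  conv_lhs => rw [← Nat.mod_add_div k T.m]
  rw [pow_add, pow_mul, T.ha0, one_pow, mul_one]

theorem main {f : ZMod p → ZMod p} (hf0 : ∀ x, x ≠ 0 → f x ≠ 0)
    (hscale : ∀ a : ZMod p, a ^ T.m = 1 →
      ∃ a' : ZMod p, a' ^ T.m = 1 ∧ ∀ x, x ≠ 0 → f (a * x) = a' * f x)
    (heqn : ∃ b a : ZMod p, a ^ T.m = 1 ∧ Eqn f b a) :
    ∃ e : ZMod p, e ^ T.m = 1 ∧ ∀ x, x ≠ 0 → x * f x = -e := by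
  have h11 : (1 : ZMod p) ≠ 0 := one_ne_zero
  obtain ⟨a0', ha0', hsc⟩ := hscale T.a0 T.ha0
  obtain ⟨j, hj, rfl⟩ := T.hroots a0' ha0'
  have hind : ∀ (i : ℕ) (x : ZMod p), x ≠ 0 → f (T.a0 ^ i * x) = (T.a0 ^ j) ^ i * f x := by
    intro i
    induction i with
    | zero => intro x _; simp
    | succ i ih =>
      intro x hx
      rw [pow_succ', mul_assoc, hsc _ (mul_ne_zero (pow_ne_zero _ T.a0_ne_zero) hx), ih x hx,
        pow_succ']
      ring
  have hF : ∀ x, x ≠ 0 → f x = Ff T.m T.powT T.dlT T.sqT j (f 1) (f T.n0) x := by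
    intro x hx
    obtain ⟨hd, hxe⟩ := T.hdl x hx
    unfold Ff
    rw [T.hpow _ (Nat.mod_lt _ T.hm), ← T.a0_pow_mod, pow_mul]
    by_cases hs : T.sqT.getD x.val false = true
    · rw [if_pos hs] at hxe ⊢
      conv_lhs => rw [hxe]
      exact hind _ 1 h11
    · rw [if_neg hs] at hxe ⊢
      conv_lhs => rw [hxe]
      exact hind _ T.n0 T.hn0
  obtain ⟨b, a, ha, he⟩ := heqn
  obtain ⟨k, hk, rfl⟩ := T.hroots a ha
  rw [← T.hpow k hk] at he
  have he' := Eqn_congr hF h11 he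
  have hb : Ff T.m T.powT T.dlT T.sqT j (f 1) (f T.n0) b = -(f 1) := by
    have h0 := he' (some 0)
    rw [tauO_some, if_pos rfl, shiftO_none, tauO_none, scaleO_some, mul_zero, shiftO_some,
      zero_add, tauO_some] at h0
    by_cases hb0 : b = 0
    · rw [if_pos hb0] at h0
      simp at h0
    · rw [if_neg hb0, shiftO_some, Option.some.injEq] at h0
      rw [← hF 1 h11] at h0
      exact eq_neg_of_add_eq_zero_left h0.symm
  have hc := T.key j hj (f 1) (f T.n0) b (hf0 1 h11) (hf0 _ T.hn0) hb k hk he'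
  refine ⟨-(f 1), hc.2, ?_⟩
  intro x hx
  rw [hF x hx, hc.1 x hx, neg_neg]

end Tables

end Cfsg.Agent.Lib.H3.Zas
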