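/-
helper3 library: recognition of `PSL₂(p)`, part 5: a group acting faithfully on the projective line
through elements of the image of `PSL₂` in `PGL₂`, and of the same order as `PSL₂`, is `PSL₂`.
-/
import Cfsg.Agent.Lib.H4.S3T.PGL
import Cfsg.Agent.Lib.H2.PSLCard

set_option autoImplicit false

namespace Cfsg.Agent.Lib.H3.Zas

open Matrix Projectivization Cfsg.Agent.Lib.H2.ProjLine Cfsg.Agent.Lib.H4.S3T
open scoped LinearAlgebra.Projectivization MatrixGroups

variable {F : Type*} [Field F]

set_option backward.isDefEq.respectTransparency.types false in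
/-- an element of `PGL₂` whose determinant is a square comes from `PSL₂` -/
theorem mem_range_toPGL (g : GL (Fin 2) F) (r : Fˣ) (hr : r ^ 2 * g.det = 1) :
    ProjGenLinGroup.mk g ∈ (Matrix.ProjectiveSpecialLinearGroup.toPGL (n := Fin 2) (R := F)).range := by
  simp only [Units.ext_iff, Units.val_mul, Units.val_pow_eq_pow_val,
    GeneralLinearGroup.val_det_apply, Units.val_one] at hr
  have hdet : (r.1 • g.1).det = 1 := by
    rw [Matrix.det_smul, Fintype.card_fin]
    exact hr
  refine ⟨QuotientGroup.mk (⟨r.1 • g.1, hdet⟩ : Matrix.SpecialLinearGroup (Fin 2) F), ?_⟩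
  simp only [Matrix.ProjectiveSpecialLinearGroup.toPGL_mk, ProjGenLinGroup.mk_eq_mk_iff]
  refine ⟨r⁻¹, Units.ext ?_⟩
  simp only [Units.val_mul, Matrix.SpecialLinearGroup.coe_GL_coe_matrix,
    GeneralLinearGroup.coe_scalar]
  simp [← Matrix.mul_smul, ← Matrix.diagonal_smul, Pi.smul_def, smul_eq_mul]

variable {G : Type*} [Group G] {X : Type*} [MulAction G X]

/-- a group acting faithfully on the projective line through `PSL₂` and of the order of `PSL₂` is `PSL₂` -/
theorem nonempty_mulEquiv_PSL_of_compat [Finite G] [Fintype F] (L : X ≃ ℙ F (Fin 2 → F))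
    (hfaith : ∀ g : G, (∀ x : X, g • x = x) → g = 1)
    (hc : ∀ g : G, ∃ γ ∈ (Matrix.ProjectiveSpecialLinearGroup.toPGL (n := Fin 2) (R := F)).range,
      Compat L g γ)
    (hcard : Nat.card G = Nat.card (Matrix.ProjectiveSpecialLinearGroup (Fin 2) F)) :
    Nonempty (G ≃* Matrix.ProjectiveSpecialLinearGroup (Fin 2) F) := by
  classical
  choose φ hφr hφ using hc
  have key : ∀ (g : G) (γ : PGL(Fin 2, F)), Compat L g γ → φ g = γ := by
    intro g γ hγ
    apply PGL_ext3
    · rw [← L.apply_symm_apply (std F 0), hφ g, hγ]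
    · rw [← L.apply_symm_apply (std F 1), hφ g, hγ]
    · rw [← L.apply_symm_apply (std F 2), hφ g, hγ]
  have hmul : ∀ g g', φ (g * g') = φ g * φ g' := fun g g' => key _ _ ((hφ g).mul (hφ g'))
  let Φ : G →* PGL(Fin 2, F) := MonoidHom.mk' φ hmul
  have hinj : Function.Injective Φ := by
    rw [injective_iff_map_eq_one]
    intro g hg
    apply hfaith
    intro x
    have := hφ g x
    have hg' : φ g = 1 := hg
    rw [hg', one_smul] at this
    exact (L.injective this).symm
  let ι := Matrix.ProjectiveSpecialLinearGroup.toPGL (n := Fin 2) (R := F)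
  have hιinj : Function.Injective ι := Matrix.ProjectiveSpecialLinearGroup.toPGL_injective
  have hle : Φ.range ≤ ι.range := by
    rintro _ ⟨g, rfl⟩
    exact hφr g
  haveI : Finite (Matrix.ProjectiveSpecialLinearGroup (Fin 2) F) := by
    unfold Matrix.ProjectiveSpecialLinearGroup
    infer_instance
  have hc1 : Nat.card Φ.range = Nat.card G :=
    (Nat.card_congr (MonoidHom.ofInjective hinj).toEquiv).symm
  have hc2 : Nat.card ι.range = Nat.card (Matrix.ProjectiveSpecialLinearGroup (Fin 2) F) :=
    (Nat.card_congr (MonoidHom.ofInjective hιinj).toEquiv).symm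
  have heq : Φ.range = ι.range := by
    apply Subgroup.eq_of_le_of_card_ge hle
    rw [hc1, hc2, hcard]
  exact ⟨(MonoidHom.ofInjective hinj).trans
    ((MulEquiv.subgroupCongr heq).trans (MonoidHom.ofInjective hιinj).symm)⟩

end Cfsg.Agent.Lib.H3.Zas
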