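/-
helper3 library: recognition of `PSL₂(p)`, part 6: from the set-up and the tables to the isomorphism.
-/
import Cfsg.Agent.Lib.H3.Zas4
import Cfsg.Agent.Lib.H3.Zas5

set_option autoImplicit false

namespace Cfsg.Agent.Lib.H3.Zas

open Matrix Projectivization Cfsg.Agent.Lib.H2.ProjLine Cfsg.Agent.Lib.H4.S3T
open scoped LinearAlgebra.Projectivization MatrixGroups

section mats

variable {F : Type*} [Field F]

theorem det_affM (a b : F) (ha : a ≠ 0) : ((affM a b ha).det : F) = a := by
  rw [GeneralLinearGroup.val_det_apply]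
  simp [affM, Matrix.det_fin_two_of]

theorem det_swapM : ((swapM : GL (Fin 2) F).det : F) = -1 := by
  rw [GeneralLinearGroup.val_det_apply]
  simp [swapM, Matrix.det_fin_two_of]

theorem affM_mem_range {a s : F} (ha : a ≠ 0) (b : F) (hs : a = s * s) :
    ProjGenLinGroup.mk (affM a b ha) ∈
      (Matrix.ProjectiveSpecialLinearGroup.toPGL (n := Fin 2) (R := F)).range := by
  have hs0 : s ≠ 0 := by
    intro h; rw [h, mul_zero] at hs; exact ha hs
  apply mem_range_toPGL _ (Units.mk0 s hs0)⁻¹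
  apply Units.ext
  rw [Units.val_mul, Units.val_pow_eq_pow_val, Units.val_inv_eq_inv_val, Units.val_mk0, det_affM,
    Units.val_one, hs]
  field_simp

theorem affM_swapM_mem_range {a s : F} (ha : a ≠ 0) (hs : -a = s * s) :
    ProjGenLinGroup.mk (affM a 0 ha * swapM) ∈
      (Matrix.ProjectiveSpecialLinearGroup.toPGL (n := Fin 2) (R := F)).range := by
  have hs0 : s ≠ 0 := by
    intro h; rw [h, mul_zero, neg_eq_zero] at hs; exact ha hs
  apply mem_range_toPGL _ (Units.mk0 s hs0)⁻¹
  apply Units.ext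
  rw [Units.val_mul, Units.val_pow_eq_pow_val, Units.val_inv_eq_inv_val, Units.val_mk0, map_mul,
    Units.val_mul, det_affM, det_swapM, Units.val_one]
  have : a = -(s * s) := by rw [← hs, neg_neg]
  rw [this]
  field_simp

end mats

variable {p : ℕ} [Fact p.Prime] {G : Type*} [Group G] {Ω : Type*} [MulAction G Ω]
variable {F : Type*} [Field F]

/-- the labelling of the projective line over `F` by `Option (ZMod p)` -/
noncomputable def lab (ψ : ZMod p ≃+* F) (y : Option (ZMod p)) : ℙ F (Fin 2 → F) :=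
  pt (y.map ψ)

theorem lab_bijective (ψ : ZMod p ≃+* F) : Function.Bijective (lab ψ) := by
  constructor
  · intro y y' h
    have := pt_injective h
    exact Option.map_injective ψ.injective this
  · intro P
    obtain ⟨z, rfl⟩ := pt_surjective P
    refine ⟨z.map ψ.symm, ?_⟩
    unfold lab
    rw [Option.map_map]
    congr 1
    cases z with
    | none => rfl
    | some x => simp

theorem lab_shift (ψ : ZMod p ≃+* F) (y : Option (ZMod p)) :
    (ProjGenLinGroup.mk (affM (1 : F) 1 one_ne_zero) : PGL(Fin 2, F)) • lab ψ y =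
      lab ψ (shiftO 1 y) := by
  cases y with
  | none => exact affM_smul_none _ _ _
  | some x =>
    show _ • pt (some (ψ x)) = pt (some (ψ (x + 1)))
    rw [affM_smul_some, one_mul, map_add, map_one]

theorem lab_scale (ψ : ZMod p ≃+* F) {a : ZMod p} (ha : ψ a ≠ 0) (y : Option (ZMod p)) :
    (ProjGenLinGroup.mk (affM (ψ a) 0 ha) : PGL(Fin 2, F)) • lab ψ y = lab ψ (scaleO a y) := by
  cases y with
  | none => exact affM_smul_none _ _ _
  | some x =>
    show _ • pt (some (ψ x)) = pt (some (ψ (a * x)))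
    rw [affM_smul_some, add_zero, map_mul]

theorem lab_tau (ψ : ZMod p ≃+* F) {e : ZMod p} (he : ψ (-e) ≠ 0) {f : ZMod p → ZMod p}
    (hf : ∀ x, x ≠ 0 → x * f x = -e) (y : Option (ZMod p)) :
    (ProjGenLinGroup.mk (affM (ψ (-e)) 0 he * swapM) : PGL(Fin 2, F)) • lab ψ y =
      lab ψ (tauO f y) := by
  rw [map_mul, mul_smul]
  cases y with
  | none =>
    show _ • _ • pt none = pt (some (ψ 0))
    rw [swapM_smul_none, affM_smul_some, mul_zero, add_zero, map_zero]
  | some x =>
    rw [tauO_some]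
    by_cases hx : x = 0
    · rw [if_pos hx, hx]
      show _ • _ • pt (some (ψ 0)) = pt none
      rw [map_zero, swapM_smul_zero, affM_smul_none]
    · rw [if_neg hx]
      show _ • _ • pt (some (ψ x)) = pt (some (ψ (f x)))
      have hψx : ψ x ≠ 0 := by
        intro h
        exact hx (by rwa [map_eq_zero_iff ψ ψ.injective] at h)
      rw [swapM_smul_some hψx, affM_smul_some, add_zero]
      congr 2
      have := congrArg ψ (hf x hx)
      rw [map_mul] at this
      rw [← this]
      field_simp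

namespace Setup

variable (S : Setup G Ω p)

/-- the labelling of `Ω` by the projective line over `F` -/
noncomputable def Lab (ψ : ZMod p ≃+* F) : Ω ≃ ℙ F (Fin 2 → F) :=
  S.E.trans (Equiv.ofBijective (lab ψ) (lab_bijective ψ))

theorem Lab_apply (ψ : ZMod p ≃+* F) (ω : Ω) : S.Lab ψ ω = lab ψ (S.E ω) := rfl

theorem compat_of_perm (ψ : ZMod p ≃+* F) {g : G} {γ : PGL(Fin 2, F)}
    (h : ∀ y, γ • lab ψ y = lab ψ (S.perm g y)) : Compat (S.Lab ψ) g γ := by
  intro ω
  rw [Lab_apply, Lab_apply, h, S.E_smul']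

/-- `g` acts as an element of `PSL₂` -/
def Good (ψ : ZMod p ≃+* F) (g : G) : Prop :=
  ∃ γ ∈ (Matrix.ProjectiveSpecialLinearGroup.toPGL (n := Fin 2) (R := F)).range,
    Compat (S.Lab ψ) g γ

theorem Good.mul {ψ : ZMod p ≃+* F} {g g' : G} (h : S.Good ψ g) (h' : S.Good ψ g') :
    S.Good ψ (g * g') := by
  obtain ⟨γ, hγ, hc⟩ := h
  obtain ⟨γ', hγ', hc'⟩ := h'
  exact ⟨γ * γ', Subgroup.mul_mem _ hγ hγ', hc.mul hc'⟩

theorem Good.one (ψ : ZMod p ≃+* F) : S.Good ψ (1 : G) :=
  ⟨1, Subgroup.one_mem _, fun ω => by rw [one_smul, one_smul]⟩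

theorem Good.pow {ψ : ZMod p ≃+* F} {g : G} (h : S.Good ψ g) (i : ℕ) : S.Good ψ (g ^ i) := by
  induction i with
  | zero => rw [pow_zero]; exact Good.one S ψ
  | succ i ih => rw [pow_succ]; exact Good.mul S ih h

theorem good_u (ψ : ZMod p ≃+* F) : S.Good ψ S.u := by
  refine ⟨_, affM_mem_range (s := 1) one_ne_zero 1 (by ring), S.compat_of_perm ψ ?_⟩
  intro y
  rw [lab_shift, S.perm_u]

end Setup

end Cfsg.Agent.Lib.H3.Zas
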