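/-
helper3 library: recognition of `PSL₂(p)`, part 7: the main theorem for a set-up with tables.
-/
import Cfsg.Agent.Lib.H3.Zas6

set_option autoImplicit false

namespace Cfsg.Agent.Lib.H3.Zas

open Matrix Projectivization Cfsg.Agent.Lib.H2.ProjLine Cfsg.Agent.Lib.H4.S3T
open scoped LinearAlgebra.Projectivization MatrixGroups

variable {p : ℕ} [Fact p.Prime] {G : Type*} [Group G] {Ω : Type*} [MulAction G Ω]
variable {F : Type*} [Field F]

namespace Setup

variable (S : Setup G Ω p)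

theorem isSquare_of_pow [Finite G] (hp2 : p ≠ 2) {a : ZMod p} (ha : a ^ Nat.card S.H = 1) :
    IsSquare a := by
  have hm := S.card_H
  have hpos := S.card_H_pos
  have ha0 : a ≠ 0 := by
    intro h
    rw [h, zero_pow (Nat.pos_iff_ne_zero.1 hpos)] at ha
    exact zero_ne_one ha
  rw [ZMod.euler_criterion p ha0]
  have hodd : p % 2 = 1 := (Fact.out : p.Prime).eq_two_or_odd.resolve_left hp2
  have : p / 2 = Nat.card S.H := by omega
  rw [this]
  exact ha

theorem good_of_mem_H [Finite G] (hp2 : p ≠ 2) (ψ : ZMod p ≃+* F) {h : G} (hh : h ∈ S.H) :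
    S.Good ψ h := by
  obtain ⟨s, hs⟩ := S.isSquare_of_pow hp2 (S.chi_pow_card hh)
  have hψ : ψ (S.chi h) ≠ 0 := by
    intro h0
    exact S.chi_ne_zero hh (by rwa [map_eq_zero_iff ψ ψ.injective] at h0)
  refine ⟨_, affM_mem_range (s := ψ s) hψ 0 (by rw [hs, map_mul]), S.compat_of_perm ψ ?_⟩
  intro y
  rw [lab_scale, S.perm_of_mem_H hh]

theorem good_of_fix [Finite G] (hp2 : p ≠ 2) (ψ : ZMod p ≃+* F) {g : G}
    (hg : g • S.inf = S.inf) : S.Good ψ g := by
  obtain ⟨b, h, h1, h2, rfl⟩ := S.exists_decomp hg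
  exact Good.mul S (Good.pow S (S.good_u ψ) b) (S.good_of_mem_H hp2 ψ (S.mem_H.2 ⟨h1, h2⟩))

/-- the main theorem: a set-up with verified tables is `PSL₂(p)` -/
theorem nonempty_mulEquiv_PSL [Finite G] [Fintype F] (S : Setup G Ω p) (T : Tables p) (hT : 2 * T.m = p - 1)
    (hp2 : p ≠ 2) (hF : Fintype.card F = p) :
    Nonempty (G ≃* Matrix.ProjectiveSpecialLinearGroup (Fin 2) F) := by
  have hp : p.Prime := Fact.out
  have hm : T.m = Nat.card S.H := by
    have := S.card_H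
    omega
  obtain ⟨t, h1, h2⟩ := S.exists_swap
  obtain ⟨e, he, hfe⟩ := T.main (f := S.fOf t) (fun x hx => S.fOf_ne_zero h1 h2 hx)
    (fun a ha => by
      rw [hm] at ha ⊢
      exact S.fOf_scale h1 h2 ha)
    (by
      rw [hm]
      exact S.exists_eqn h1 h2)
  rw [hm] at he
  have he0 : e ≠ 0 := by
    intro h
    rw [h, zero_pow (Nat.pos_iff_ne_zero.1 S.card_H_pos)] at he
    exact zero_ne_one he
  obtain ⟨s, hs⟩ := S.isSquare_of_pow hp2 he
  let ψ : ZMod p ≃+* F := ZMod.ringEquivOfPrime F hp hF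
  have hψe : ψ (-e) ≠ 0 := by
    intro h0
    rw [map_eq_zero_iff ψ ψ.injective, neg_eq_zero] at h0
    exact he0 h0
  have good_t : S.Good ψ t := by
    refine ⟨_, affM_swapM_mem_range (s := ψ s) hψe (by rw [← map_neg, neg_neg, hs, map_mul]),
      S.compat_of_perm ψ ?_⟩
    intro y
    rw [lab_tau ψ hψe hfe, S.perm_swap h1 h2]
  have hgood : ∀ g : G, S.Good ψ g := by
    intro g
    rcases S.bruhat h1 g with hg | ⟨b, n, hn, rfl⟩
    · exact S.good_of_fix hp2 ψ hg
    · exact Good.mul S (Good.mul S (Good.pow S (S.good_u ψ) b) good_t) (S.good_of_fix hp2 ψ hn)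
  apply nonempty_mulEquiv_PSL_of_compat (S.Lab ψ) S.faithful hgood
  have hc := Cfsg.Agent.Lib.H2.card_PSL2_mul (F := F)
  rw [hF] at hc
  have hodd : p % 2 = 1 := hp.eq_two_or_odd.resolve_left hp2
  have hgcd : Nat.gcd 2 (p - 1) = 2 := by
    apply Nat.gcd_eq_left
    omega
  rw [hgcd, ← S.card] at hc
  omega

end Setup

end Cfsg.Agent.Lib.H3.Zas
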