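/-
helper3 library: recognition of `PSL₂(p)`, part 8: a simple group of order `p (p² - 1) / 2` acting on
its Sylow `p`-subgroups gives a set-up.
-/
import Cfsg.Agent.Lib.H3.Zas7
import Cfsg.Agent.Lib.H5.SimpleTools

set_option autoImplicit false

namespace Cfsg.Agent.Lib.H3.Zas

/-- Sylow arithmetic: a divisor `n ≠ 1` of `(p² - 1) / 2` with `n ≡ 1 mod p` is `p + 1` -/
theorem sylow_count {p n d : ℕ} (hp : 3 ≤ p) (hn1 : n % p = 1) (hn : n ≠ 1)
    (hnd : 2 * (n * d) + 1 = p * p) : n = p + 1 := by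
  obtain ⟨q, hq⟩ : ∃ q, n = p * q + 1 := ⟨n / p, by rw [← hn1]; exact (Nat.div_add_mod n p).symm⟩
  have hq1 : 1 ≤ q := by
    rcases Nat.eq_zero_or_pos q with h | h
    · rw [h, mul_zero, zero_add] at hq; exact absurd hq hn
    · exact h
  subst hq
  have hdvd : p ∣ 2 * d + 1 := by
    have h : p * (2 * q * d) + (2 * d + 1) = p * p := by rw [← hnd]; ring
    exact (Nat.dvd_add_right (dvd_mul_right p _)).1 (h ▸ dvd_mul_right p p)
  obtain ⟨c, hc⟩ := hdvd
  have hc1 : 1 ≤ c := by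
    rcases Nat.eq_zero_or_pos c with h | h
    · rw [h, mul_zero] at hc; omega
    · exact h
  have h2 : p + q = p * q * c + c := by
    have h3 : p * (p * q * c + c) = p * (p + q) := by
      have : p * (p * q * c + c) = (p * q + 1) * (p * c) := by ring
      rw [this, ← hc]
      nlinarith [hnd]
    exact (Nat.eq_of_mul_eq_mul_left (by omega) h3).symm
  have hc2 : c = 1 := by
    by_contra hne
    have hc2 : 2 ≤ c := by omega
    nlinarith [Nat.mul_le_mul hp hq1, Nat.mul_le_mul (le_refl p) hq1, Nat.mul_le_mul hp (le_refl q)]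
  subst hc2
  have : q = 1 := by
    by_contra hne
    have hq2 : 2 ≤ q := by omega
    nlinarith
  subst this
  ring

variable {G : Type*} [Group G] {p : ℕ} [Fact p.Prime]

section

variable [Finite G] [IsSimpleGroup G]

theorem card_eq_mul (hp2 : p ≠ 2) (h : 2 * Nat.card G = p * (p ^ 2 - 1)) :
    ∃ k, Nat.card G = p ^ 1 * k ∧ ¬ p ∣ k ∧ 2 * k + 1 = p * p := by
  have hp : p.Prime := Fact.out
  have hodd : p % 2 = 1 := hp.eq_two_or_odd.resolve_left hp2
  have hpp : 1 ≤ p * p := Nat.mul_pos hp.pos hp.pos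
  have hdvd : p ∣ Nat.card G := by
    have : p ∣ 2 * Nat.card G := h ▸ dvd_mul_right p _
    rcases (Nat.Prime.dvd_mul hp).1 this with h2 | h2
    · exact absurd ((Nat.prime_dvd_prime_iff_eq hp Nat.prime_two).1 h2) hp2
    · exact h2
  obtain ⟨k, hk⟩ := hdvd
  have h2k : 2 * k = p ^ 2 - 1 := by
    have : p * (2 * k) = p * (p ^ 2 - 1) := by rw [← h, hk]; ring
    exact Nat.eq_of_mul_eq_mul_left hp.pos this
  have h2k' : 2 * k + 1 = p * p := by
    rw [h2k, pow_two]; omega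
  refine ⟨k, by rw [hk, pow_one], ?_, h2k'⟩
  intro hpk
  have : p ∣ 2 * k + 1 := h2k' ▸ dvd_mul_right p p
  have h1 : p ∣ 1 := (Nat.dvd_add_right (Dvd.dvd.mul_left hpk 2)).1 this
  exact hp.one_lt.ne' (Nat.dvd_one.1 h1)

theorem card_sylow_eq (hp5 : 5 ≤ p) (h : 2 * Nat.card G = p * (p ^ 2 - 1)) (P : Sylow p G) :
    Nat.card (P : Subgroup G) = p ∧ Nat.card (Sylow p G) = p + 1 := by
  have hp : p.Prime := Fact.out
  have hp2 : p ≠ 2 := by omega
  obtain ⟨k, hk, hpk, h2k⟩ := card_eq_mul hp2 h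
  obtain ⟨hc, hi⟩ := Cfsg.Agent.Lib.H5.sylow_card_and_index P hk hpk
  rw [pow_one] at hc
  refine ⟨hc, ?_⟩
  have hdvd : Nat.card (Sylow p G) ∣ k := hi ▸ Sylow.card_dvd_index P
  obtain ⟨d, hd⟩ := hdvd
  have hmod := card_sylow_modEq_one p G
  rw [Nat.ModEq, Nat.mod_eq_of_lt hp.one_lt] at hmod
  have hk2 : 2 ≤ k := by nlinarith
  have hnp : ¬ IsPGroup p G := by
    obtain ⟨q, hq, hqk⟩ := Nat.exists_prime_and_dvd (show k ≠ 1 by omega)
    apply Cfsg.Agent.Lib.H5.not_isPGroup_of_prime_dvd hq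
    · rintro rfl; exact hpk hqk
    · rw [hk]; exact Dvd.dvd.mul_left hqk _
  have hne := Cfsg.Agent.Lib.H5.card_sylow_ne_one_of_simple (G := G) (p := p)
    (by rw [hk, pow_one]; exact dvd_mul_right p k) hnp
  apply sylow_count (by omega) hmod hne (d := d)
  rw [← hd]; exact h2k

end

end Cfsg.Agent.Lib.H3.Zas
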