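/-
helper3 library: recognition of `PSL₂(p)`, part 9: the set-up attached to a simple group of order
`p (p² - 1) / 2` (action on the Sylow `p`-subgroups), and the recognition theorem.
-/
import Cfsg.Agent.Lib.H3.Zas8

set_option autoImplicit false

namespace Cfsg.Agent.Lib.H3.Zas

open Subgroup

variable {G : Type*} [Group G] {p : ℕ} [Fact p.Prime]

theorem zpowers_eq_of_card_prime [Finite G] {P : Subgroup G} (hP : Nat.card P = p) {v : G}
    (hv : v ∈ P) (hv1 : v ≠ 1) : zpowers v = P := by
  have hp : p.Prime := Fact.out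
  have hdvd : orderOf v ∣ p := hP ▸ Subgroup.orderOf_dvd_natCard P hv
  have hord : orderOf v = p := by
    rcases (Nat.dvd_prime hp).1 hdvd with h | h
    · exact absurd (orderOf_eq_one_iff.1 h) hv1
    · exact h
  apply Subgroup.eq_of_le_of_card_ge (zpowers_le.2 hv)
  rw [Nat.card_zpowers, hord, hP]

theorem sylow_eq_of_fix [Finite G] {P Q : Sylow p G} (hP : Nat.card (P : Subgroup G) = p) {v : G}
    (hv : v ∈ (P : Subgroup G)) (hv1 : v ≠ 1) (hfix : v • Q = Q) : Q = P := by
  have h1 : v ∈ (P : Subgroup G) ⊓ normalizer ((Q : Subgroup G) : Set G) :=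
    ⟨hv, Sylow.smul_eq_iff_mem_normalizer.1 hfix⟩
  have h1' : v ∈ (P : Subgroup G) ⊓ (Q : Subgroup G) := by
    rw [← P.2.inf_normalizer_sylow Q]; exact h1
  have h2 : (P : Subgroup G) ≤ Q := by
    rw [← zpowers_eq_of_card_prime hP hv hv1]
    exact zpowers_le.2 h1'.2
  exact (Sylow.ext (P.3 Q.2 h2)).symm ▸ rfl

variable [Finite G] [IsSimpleGroup G]

theorem exists_setup (hp5 : 5 ≤ p) (h : 2 * Nat.card G = p * (p ^ 2 - 1)) :
    Nonempty (Setup G (Sylow p G) p) := by
  classical
  have hp : p.Prime := Fact.out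
  haveI : NeZero p := ⟨hp.ne_zero⟩
  let P : Sylow p G := default
  obtain ⟨hPc, hn⟩ := card_sylow_eq hp5 h P
  -- a generator
  obtain ⟨u, huP, hu1⟩ : ∃ u ∈ (P : Subgroup G), u ≠ 1 := by
    by_contra hcon
    have hbot : (P : Subgroup G) = ⊥ := by
      rw [Subgroup.eq_bot_iff_forall]
      intro x hx
      by_contra hx1
      exact hcon ⟨x, hx, hx1⟩
    rw [hbot, Subgroup.card_bot] at hPc
    omega
  have hzp : zpowers u = (P : Subgroup G) := zpowers_eq_of_card_prime hPc huP hu1
  have hord : orderOf u = p := by rw [← Nat.card_zpowers, hzp, hPc]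
  have hupowP : ∀ k : ℕ, u ^ k ∈ (P : Subgroup G) := fun k => Subgroup.pow_mem _ huP k
  have hfixP : ∀ v ∈ (P : Subgroup G), v • P = P := fun v hv =>
    Sylow.smul_eq_iff_mem_normalizer.2 (Subgroup.le_normalizer hv)
  -- another Sylow subgroup
  obtain ⟨Q0, hQ0⟩ : ∃ Q0 : Sylow p G, Q0 ≠ P := by
    by_contra hcon
    have hsub : Subsingleton (Sylow p G) :=
      ⟨fun a b => by
        have ha : a = P := by by_contra ha; exact hcon ⟨a, ha⟩
        have hb : b = P := by by_contra hb; exact hcon ⟨b, hb⟩
        rw [ha, hb]⟩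
    have := Nat.card_unique (α := Sylow p G)
    omega
  -- the labelling
  let e : Option (ZMod p) → Sylow p G := fun y =>
    match y with
    | none => P
    | some i => u ^ i.val • Q0
  have upow_cast : ∀ k : ℕ, u ^ ((k : ZMod p).val) = u ^ k := by
    intro k
    rw [ZMod.val_natCast, ← hord, pow_mod_orderOf]
  have hinj : Function.Injective e := by
    intro y y' hyy
    cases y with
    | none =>
      cases y' with
      | none => rfl
      | some j =>
        exfalso
        have h1 : P = u ^ j.val • Q0 := hyy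
        have h2 : Q0 = (u ^ j.val)⁻¹ • P := by rw [h1, inv_smul_smul]
        rw [hfixP _ (Subgroup.inv_mem _ (hupowP _))] at h2
        exact hQ0 h2
    | some i =>
      cases y' with
      | none =>
        exfalso
        have h1 : u ^ i.val • Q0 = P := hyy
        have h2 : Q0 = (u ^ i.val)⁻¹ • P := by rw [← h1, inv_smul_smul]
        rw [hfixP _ (Subgroup.inv_mem _ (hupowP _))] at h2
        exact hQ0 h2
      | some j =>
        have h1 : u ^ i.val • Q0 = u ^ j.val • Q0 := hyy
        have h2 : ((u ^ j.val)⁻¹ * u ^ i.val) • Q0 = Q0 := by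
          rw [mul_smul, h1, inv_smul_smul]
        have h3 : (u ^ j.val)⁻¹ * u ^ i.val = 1 := by
          by_contra hne
          exact hQ0 (sylow_eq_of_fix hPc
            (Subgroup.mul_mem _ (Subgroup.inv_mem _ (hupowP _)) (hupowP _)) hne h2)
        have h4 : u ^ i.val = u ^ j.val := by
          have := congrArg (fun x => u ^ j.val * x) h3
          simpa using this
        have h5 : i.val = j.val :=
          pow_injOn_Iio_orderOf (x := u) (by rw [Set.mem_Iio, hord]; exact ZMod.val_lt i)
            (by rw [Set.mem_Iio, hord]; exact ZMod.val_lt j) h4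
        rw [ZMod.val_injective p h5]
  have hbij : Function.Bijective e := by
    apply hinj.bijective_of_nat_card_le
    rw [hn, Nat.card_eq_fintype_card, Fintype.card_option, ZMod.card]
  let E : Sylow p G ≃ Option (ZMod p) := (Equiv.ofBijective e hbij).symm
  have hE : ∀ y, E.symm y = e y := fun y => rfl
  have hEe : ∀ y, E (e y) = y := fun y => by
    rw [← hE, Equiv.apply_symm_apply]
  have hue : ∀ y, u • e y = e (shiftO 1 y) := by
    intro y
    cases y with
    | none => exact hfixP u huP
    | some i =>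
      show u • u ^ i.val • Q0 = u ^ (i + 1).val • Q0
      rw [← mul_smul, ← pow_succ']
      congr 1
      have : (i + 1 : ZMod p) = ((i.val + 1 : ℕ) : ZMod p) := by
        rw [Nat.cast_add, ZMod.natCast_zmod_val, Nat.cast_one]
      rw [this, upow_cast]
  refine ⟨{
    E := E
    u := u
    hu := ?_
    faithful := ?_
    hnorm := ?_
    trans := fun ω ω' => MulAction.exists_smul_eq G ω ω'
    card := h }⟩
  · intro ω
    obtain ⟨y, rfl⟩ := hbij.2 ω
    rw [hue, hEe, hEe]
  · intro g hg
    have hker : (MulAction.toPermHom G (Sylow p G)).ker = ⊥ := by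
      rcases ((MulAction.toPermHom G (Sylow p G)).normal_ker.eq_bot_or_eq_top) with hk | hk
      · exact hk
      · exfalso
        have hu' : u ∈ (MulAction.toPermHom G (Sylow p G)).ker := by rw [hk]; trivial
        rw [MonoidHom.mem_ker] at hu'
        have h1 : u • Q0 = Q0 := by
          have := congrArg (fun σ : Equiv.Perm (Sylow p G) => σ Q0) hu'
          simpa using this
        exact hQ0 (sylow_eq_of_fix hPc huP hu1 h1)
    have hgk : g ∈ (MulAction.toPermHom G (Sylow p G)).ker := by
      rw [MonoidHom.mem_ker]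
      ext ω
      simp [hg ω]
    rw [hker] at hgk
    exact Subgroup.mem_bot.1 hgk
  · intro g hg
    have hg' : g • P = P := hg
    have h1 : g ∈ normalizer ((P : Subgroup G) : Set G) := Sylow.smul_eq_iff_mem_normalizer.1 hg'
    have h2 : g * u * g⁻¹ ∈ (P : Subgroup G) := (Subgroup.mem_normalizer_iff.1 h1 u).1 huP
    rw [← hzp] at h2
    have h3 := mem_powers_iff_mem_zpowers.2 h2
    obtain ⟨k, hk⟩ := (Submonoid.mem_powers_iff _ _).1 h3
    exact ⟨k, hk.symm⟩

/-- **Recognition of `PSL₂(p)`**: a simple group of order `p (p² - 1) / 2`, for a prime `p ≥ 5` with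
verified tables, is `PSL₂(F)` for every field `F` of order `p`. -/
theorem nonempty_mulEquiv_PSL_of_simple (hp5 : 5 ≤ p) (h : 2 * Nat.card G = p * (p ^ 2 - 1))
    (T : Tables p) (hT : 2 * T.m = p - 1) {F : Type*} [Field F] [Fintype F]
    (hF : Fintype.card F = p) :
    Nonempty (G ≃* Matrix.ProjectiveSpecialLinearGroup (Fin 2) F) := by
  obtain ⟨S⟩ := exists_setup hp5 h
  exact Setup.nonempty_mulEquiv_PSL S T hT (by omega) hF

end Cfsg.Agent.Lib.H3.Zas
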