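/-
helper3 library: recognition of `PSL₂(p)`, part 10: variant of the reduction with an extra constraint
(existence of an element of order four outside the stabilizer of `∞`), needed for `p = 7` where the
structure equation alone also admits the solutions coming from `AΓL₁(8)`.
-/
import Cfsg.Agent.Lib.H3.Zas9

set_option autoImplicit false

namespace Cfsg.Agent.Lib.H3.Zas

open Matrix Projectivization Cfsg.Agent.Lib.H2.ProjLine Cfsg.Agent.Lib.H4.S3T
open scoped LinearAlgebra.Projectivization MatrixGroups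

variable {p : ℕ}

/-- the permutation of the line induced by `u^b t u^b' h_a` -/
def piO (F : ZMod p → ZMod p) (b b' a : ZMod p) (y : Option (ZMod p)) : Option (ZMod p) :=
  shiftO b (tauO F (shiftO b' (scaleO a y)))

/-- there is an element of order four in the big cell -/
def Extra (m : ℕ) (powT : List (ZMod p)) (F : ZMod p → ZMod p) : Prop :=
  ∃ b b' : ZMod p, ∃ k < m,
    (∃ y, piO F b b' (powT.getD k 0) (piO F b b' (powT.getD k 0) y) ≠ y) ∧
    ∀ y, piO F b b' (powT.getD k 0) (piO F b b' (powT.getD k 0)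
      (piO F b b' (powT.getD k 0) (piO F b b' (powT.getD k 0) y))) = y

instance [NeZero p] (m : ℕ) (powT : List (ZMod p)) (F : ZMod p → ZMod p) :
    Decidable (Extra m powT F) := by
  unfold Extra; infer_instance

theorem piO_congr {f F : ZMod p → ZMod p} (h : ∀ x, x ≠ 0 → f x = F x) (b b' a : ZMod p)
    (y : Option (ZMod p)) : piO f b b' a y = piO F b b' a y := by
  unfold piO
  rw [tauO_congr h]

theorem Extra_congr {f F : ZMod p → ZMod p} (h : ∀ x, x ≠ 0 → f x = F x) {m : ℕ}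
    {powT : List (ZMod p)} (hX : Extra m powT f) : Extra m powT F := by
  obtain ⟨b, b', k, hk, ⟨y, hy⟩, h4⟩ := hX
  refine ⟨b, b', k, hk, ⟨y, ?_⟩, fun y => ?_⟩
  · rw [← piO_congr h, ← piO_congr h]; exact hy
  · rw [← piO_congr h, ← piO_congr h, ← piO_congr h, ← piO_congr h]; exact h4 y

/-- the finite check with the extra constraint -/
def KeyX (m : ℕ) (powT : List (ZMod p)) (dlT : List ℕ) (sqT : List Bool) : Prop :=
  ∀ j < m, ∀ r1 r2 b : ZMod p, r1 ≠ 0 → r2 ≠ 0 → Ff m powT dlT sqT j r1 r2 b = -r1 → ∀ k < m,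
    Eqn (Ff m powT dlT sqT j r1 r2) b (powT.getD k 0) →
    Extra m powT (Ff m powT dlT sqT j r1 r2) → Concl m (Ff m powT dlT sqT j r1 r2) r1

/-- tables for the prime `p`, with the check under the extra constraint -/
structure TablesX (p : ℕ) where
  m : ℕ
  a0 : ZMod p
  n0 : ZMod p
  powT : List (ZMod p)
  dlT : List ℕ
  sqT : List Bool
  hm : 0 < m
  hn0 : n0 ≠ 0
  hpow : ∀ i < m, powT.getD i 0 = a0 ^ i
  ha0 : a0 ^ m = 1
  hdl : ∀ x : ZMod p, x ≠ 0 → dlT.getD x.val 0 < m ∧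
      x = a0 ^ (dlT.getD x.val 0) * (if sqT.getD x.val false then 1 else n0)
  hroots : ∀ a : ZMod p, a ^ m = 1 → ∃ k < m, a = a0 ^ k
  key : KeyX m powT dlT sqT

namespace TablesX

variable (T : TablesX p) [Fact p.Prime]

theorem a0_ne_zero : T.a0 ≠ 0 := by
  intro h
  have := T.ha0
  rw [h, zero_pow (Nat.pos_iff_ne_zero.1 T.hm)] at this
  exact zero_ne_one this

theorem a0_pow_mod (k : ℕ) : T.a0 ^ k = T.a0 ^ (k % T.m) := by
  conv_lhs => rw [← Nat.mod_add_div k T.m]
  rw [pow_add, pow_mul, T.ha0, one_pow, mul_one]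

theorem main {f : ZMod p → ZMod p} (hf0 : ∀ x, x ≠ 0 → f x ≠ 0)
    (hscale : ∀ a : ZMod p, a ^ T.m = 1 →
      ∃ a' : ZMod p, a' ^ T.m = 1 ∧ ∀ x, x ≠ 0 → f (a * x) = a' * f x)
    (heqn : ∃ b a : ZMod p, a ^ T.m = 1 ∧ Eqn f b a)
    (hX : ∃ b b' a : ZMod p, a ^ T.m = 1 ∧ (∃ y, piO f b b' a (piO f b b' a y) ≠ y) ∧
      ∀ y, piO f b b' a (piO f b b' a (piO f b b' a (piO f b b' a y))) = y) :
    ∃ e : ZMod p, e ^ T.m = 1 ∧ ∀ x, x ≠ 0 → x * f x = -e := by
  have h11 : (1 : ZMod p) ≠ 0 := one_ne_zero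
  obtain ⟨a0', ha0', hsc⟩ := hscale T.a0 T.ha0
  obtain ⟨j, hj, rfl⟩ := T.hroots a0' ha0'
  have hind : ∀ (i : ℕ) (x : ZMod p), x ≠ 0 → f (T.a0 ^ i * x) = (T.a0 ^ j) ^ i * f x := by
    intro i
    induction i with
    | zero => intro x _; simp
    | succ i ih =>
      intro x hx
      rw [pow_succ', mul_assoc, hsc _ (mul_ne_zero (pow_ne_zero _ T.a0_ne_zero) hx), ih x hx,
        pow_succ']
      ring
  have hF : ∀ x, x ≠ 0 → f x = Ff T.m T.powT T.dlT T.sqT j (f 1) (f T.n0) x := by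
    intro x hx
    obtain ⟨hd, hxe⟩ := T.hdl x hx
    unfold Ff
    rw [T.hpow _ (Nat.mod_lt _ T.hm), ← T.a0_pow_mod, pow_mul]
    by_cases hs : T.sqT.getD x.val false = true
    · rw [if_pos hs] at hxe ⊢
      conv_lhs => rw [hxe]
      exact hind _ 1 h11
    · rw [if_neg hs] at hxe ⊢
      conv_lhs => rw [hxe]
      exact hind _ T.n0 T.hn0
  obtain ⟨b, a, ha, he⟩ := heqn
  obtain ⟨k, hk, rfl⟩ := T.hroots a ha
  rw [← T.hpow k hk] at he
  have he' := Eqn_congr hF h11 he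
  have hb : Ff T.m T.powT T.dlT T.sqT j (f 1) (f T.n0) b = -(f 1) := by
    have h0 := he' (some 0)
    rw [tauO_some, if_pos rfl, shiftO_none, tauO_none, scaleO_some, mul_zero, shiftO_some,
      zero_add, tauO_some] at h0
    by_cases hb0 : b = 0
    · rw [if_pos hb0] at h0
      simp at h0
    · rw [if_neg hb0, shiftO_some, Option.some.injEq] at h0
      rw [← hF 1 h11] at h0
      exact eq_neg_of_add_eq_zero_left h0.symm
  have hX' : Extra T.m T.powT (Ff T.m T.powT T.dlT T.sqT j (f 1) (f T.n0)) := by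
    obtain ⟨c, c', a, ha, h2, h4⟩ := hX
    obtain ⟨k', hk', rfl⟩ := T.hroots a ha
    rw [← T.hpow k' hk'] at h2 h4
    exact Extra_congr hF ⟨c, c', k', hk', h2, h4⟩
  have hc := T.key j hj (f 1) (f T.n0) b (hf0 1 h11) (hf0 _ T.hn0) hb k hk he' hX'
  refine ⟨-(f 1), hc.2, ?_⟩
  intro x hx
  rw [hF x hx, hc.1 x hx, neg_neg]

end TablesX

variable [Fact p.Prime] {G : Type*} [Group G] {Ω : Type*} [MulAction G Ω]
variable {F : Type*} [Field F]

namespace Setup

/-- an element of order four gives the extra constraint -/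
theorem exists_extra [Finite G] (S : Setup G Ω p) {t : G} (h1 : t • S.inf = S.pt 0)
    (h2 : t • S.pt 0 = S.inf) {g : G} (hg4 : g ^ 4 = 1) (hg2 : g ^ 2 ≠ 1)
    (hgN : g • S.inf ≠ S.inf) :
    ∃ b b' a : ZMod p, a ^ Nat.card S.H = 1 ∧
      (∃ y, piO (S.fOf t) b b' a (piO (S.fOf t) b b' a y) ≠ y) ∧
      ∀ y, piO (S.fOf t) b b' a (piO (S.fOf t) b b' a (piO (S.fOf t) b b' a
        (piO (S.fOf t) b b' a y))) = y := by
  rcases S.bruhat h1 g with hg | ⟨b, n, hn, rfl⟩
  · exact absurd hg hgN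
  obtain ⟨b', h, hh1, hh2, rfl⟩ := S.exists_decomp hn
  have hh : h ∈ S.H := S.mem_H.2 ⟨hh1, hh2⟩
  set g := S.u ^ b * t * (S.u ^ b' * h) with hg
  have hperm : ∀ y, S.perm g y = piO (S.fOf t) (b : ZMod p) (b' : ZMod p) (S.chi h) y := by
    intro y
    rw [hg, S.perm_mul, S.perm_mul, S.perm_mul, S.perm_u_pow, S.perm_u_pow, S.perm_of_mem_H hh,
      S.perm_swap h1 h2]
    rfl
  refine ⟨b, b', S.chi h, S.chi_pow_card hh, ?_, ?_⟩
  · by_contra hcon
    apply hg2
    apply S.faithful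
    intro ω
    have h3 : S.perm g (S.perm g (S.E ω)) = S.E ω := by
      by_contra h3
      exact hcon ⟨S.E ω, by rw [← hperm, ← hperm]; exact h3⟩
    apply S.E.injective
    rw [pow_two, mul_smul, S.E_smul', S.E_smul', h3]
  · intro y
    rw [← hperm, ← hperm, ← hperm, ← hperm, ← S.perm_mul, ← S.perm_mul, ← S.perm_mul]
    have : g * g * g * g = 1 := by rw [← hg4, pow_succ, pow_succ, pow_succ, pow_one]
    rw [this]
    unfold perm
    rw [one_smul, S.E.apply_symm_apply]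

/-- the main theorem with the extra constraint -/
theorem nonempty_mulEquiv_PSL_X [Finite G] [Fintype F] (S : Setup G Ω p) (T : TablesX p)
    (hT : 2 * T.m = p - 1) (hp2 : p ≠ 2) (hF : Fintype.card F = p)
    {g : G} (hg4 : g ^ 4 = 1) (hg2 : g ^ 2 ≠ 1) (hgN : g • S.inf ≠ S.inf) :
    Nonempty (G ≃* Matrix.ProjectiveSpecialLinearGroup (Fin 2) F) := by
  have hp : p.Prime := Fact.out
  have hm : T.m = Nat.card S.H := by
    have := S.card_H
    omega
  obtain ⟨t, h1, h2⟩ := S.exists_swap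
  obtain ⟨e, he, hfe⟩ := T.main (f := S.fOf t) (fun x hx => S.fOf_ne_zero h1 h2 hx)
    (fun a ha => by
      rw [hm] at ha ⊢
      exact S.fOf_scale h1 h2 ha)
    (by
      rw [hm]
      exact S.exists_eqn h1 h2)
    (by
      rw [hm]
      exact S.exists_extra h1 h2 hg4 hg2 hgN)
  rw [hm] at he
  have he0 : e ≠ 0 := by
    intro h
    rw [h, zero_pow (Nat.pos_iff_ne_zero.1 S.card_H_pos)] at he
    exact zero_ne_one he
  obtain ⟨s, hs⟩ := S.isSquare_of_pow hp2 he
  let ψ : ZMod p ≃+* F := ZMod.ringEquivOfPrime F hp hF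
  have hψe : ψ (-e) ≠ 0 := by
    intro h0
    rw [map_eq_zero_iff ψ ψ.injective, neg_eq_zero] at h0
    exact he0 h0
  have good_t : S.Good ψ t := by
    refine ⟨_, affM_swapM_mem_range (s := ψ s) hψe (by rw [← map_neg, neg_neg, hs, map_mul]),
      S.compat_of_perm ψ ?_⟩
    intro y
    rw [lab_tau ψ hψe hfe, S.perm_swap h1 h2]
  have hgood : ∀ g : G, S.Good ψ g := by
    intro g
    rcases S.bruhat h1 g with hg | ⟨b, n, hn, rfl⟩
    · exact S.good_of_fix hp2 ψ hg
    · exact Good.mul S (Good.mul S (Good.pow S (S.good_u ψ) b) good_t) (S.good_of_fix hp2 ψ hn)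
  apply nonempty_mulEquiv_PSL_of_compat (S.Lab ψ) S.faithful hgood
  have hc := Cfsg.Agent.Lib.H2.card_PSL2_mul (F := F)
  rw [hF] at hc
  have hodd : p % 2 = 1 := hp.eq_two_or_odd.resolve_left hp2
  have hgcd : Nat.gcd 2 (p - 1) = 2 := by
    apply Nat.gcd_eq_left
    omega
  rw [hgcd, ← S.card] at hc
  omega

end Setup

end Cfsg.Agent.Lib.H3.Zas
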