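/-
helper3 library: tables for the recognition of `PSL₂(7)` (generator of the squares `2`, non-square `3`),
with the extra order-four constraint, checked by kernel computation.
-/
import Cfsg.Agent.Lib.H3.Zas10

set_option autoImplicit false

namespace Cfsg.Agent.Lib.H3.Zas

set_option synthInstance.maxHeartbeats 0 in
set_option synthInstance.maxSize 4096 in
set_option maxHeartbeats 0 in
/-- the tables for `p = 7` -/
def tablesX7 : TablesX 7 where
  m := 3
  a0 := 2
  n0 := 3
  powT := [1, 2, 4]
  dlT := [0, 0, 1, 0, 2, 2, 1]
  sqT := [false, true, true, false, true, false, false]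
  hm := by decide
  hn0 := by decide
  hpow := by decide +kernel
  ha0 := by decide +kernel
  hdl := by decide +kernel
  hroots := by decide +kernel
  key := by
    unfold KeyX
    decide +kernel

end Cfsg.Agent.Lib.H3.Zas
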