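import Mathlib

/-!
# S3702, piece ARITH (helper3): the arithmetic finish `arith648`

Pure integer arithmetic: from the two harmonic relations `(A)`, `(B)`, the square bounds and
`g = 648 n`, `n ≡ 1 (mod 27)`, conclude `g = 648`.  Bounds by `nlinarith`, then a finite check
(`29103` pairs) by `decide +kernel`.
-/

set_option autoImplicit false

namespace Cfsg.Agent.Lib.H3.L648

/-- the finite check for one pair `(σ, t1)`: if `g = 243 t1 (σ - 2 t1) / (2 σ - 3 t1)` satisfies all the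
side conditions then `g = 648` -/
def arithChk (s t1 : ℤ) : Bool :=
  (2 * s - 3 * t1 == 0) ||
  !((243 * t1 * (s - 2 * t1)) % (2 * s - 3 * t1) == 0) ||
  !(decide (0 < (243 * t1 * (s - 2 * t1)) / (2 * s - 3 * t1))) ||
  !(((243 * t1 * (s - 2 * t1)) / (2 * s - 3 * t1)) % 648 == 0) ||
  !(((243 * t1 * (s - 2 * t1)) / (2 * s - 3 * t1)) / 648 % 27 == 1) ||
  !(decide ((s - 2 * t1) ^ 2 + 2 * t1 ^ 2 ≤ (243 * t1 * (s - 2 * t1)) / (2 * s - 3 * t1))) ||
  ((243 * t1 * (s - 2 * t1)) / (2 * s - 3 * t1) == 648)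

theorem arithChk_all :
    (List.range 109).all (fun i => (List.range 267).all
      (fun j => arithChk ((i : ℤ) - 54) ((j : ℤ) - 133))) = true := by
  decide +kernel

theorem arithChk_of_bounds (s t1 : ℤ) (hs1 : -54 ≤ s) (hs2 : s ≤ 54) (ht1 : -133 ≤ t1)
    (ht2 : t1 ≤ 133) : arithChk s t1 = true := by
  have h := arithChk_all
  rw [List.all_eq_true] at h
  have hi : (s + 54).toNat ∈ List.range 109 := by
    rw [List.mem_range]; omega
  have h2 := h _ hi
  rw [List.all_eq_true] at h2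
  have hj : (t1 + 133).toNat ∈ List.range 267 := by
    rw [List.mem_range]; omega
  have h3 := h2 _ hj
  have e1 : (((s + 54).toNat : ℕ) : ℤ) - 54 = s := by omega
  have e2 : (((t1 + 133).toNat : ℕ) : ℤ) - 133 = t1 := by omega
  rw [e1, e2] at h3
  exact h3

/-- the arithmetic finish -/
theorem arith648 (g : ℕ) (f0 f1 t0 t1 : ℤ) (hf0 : f0 ≠ 0) (hf1 : f1 ≠ 0) (ht0 : t0 ≠ 0)
    (ht1 : t1 ≠ 0) (hg : 0 < g)
    (hA : (g : ℤ) * (f0 + f1) = 108 * f0 * f1) (hA' : f0 ^ 2 + f1 ^ 2 ≤ (g : ℤ))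
    (hB : (g : ℤ) * (t1 + 2 * t0) = 243 * t0 * t1) (hB' : t0 ^ 2 + 2 * t1 ^ 2 ≤ (g : ℤ))
    (hs : f0 + f1 = t0 + 2 * t1) (hdvd : 648 ∣ g) (hmod : g / 648 % 27 = 1) : g = 648 := by
  have hgz : (0 : ℤ) < (g : ℤ) := by exact_mod_cast hg
  obtain ⟨s, hsdef⟩ : ∃ s : ℤ, s = f0 + f1 := ⟨_, rfl⟩
  -- |σ| ≤ 54
  have hs_le : s ≤ 54 := by
    have h1 : (g : ℤ) * s ≤ 54 * (g : ℤ) := by
      rw [hsdef, hA]; nlinarith [sq_nonneg (f0 - f1)]
    by_contra hcon
    rw [not_le] at hcon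
    nlinarith
  have hs_ge : -54 ≤ s := by
    have h1 : -(54 * (g : ℤ)) ≤ (g : ℤ) * s := by
      rw [hsdef, hA]; nlinarith [sq_nonneg (f0 + f1)]
    by_contra hcon
    rw [not_le] at hcon
    nlinarith
  -- t0 = σ - 2 t1
  have ht0e : t0 = s - 2 * t1 := by rw [hsdef, hs]; ring
  have hB2 : (g : ℤ) * (2 * s - 3 * t1) = 243 * t1 * (s - 2 * t1) := by
    have : (g : ℤ) * (2 * s - 3 * t1) = (g : ℤ) * (t1 + 2 * t0) := by rw [ht0e]; ring
    rw [this, hB, ht0e]; ring
  have hB2' : s - 2 * t1 ≠ 0 := by rw [← ht0e]; exact ht0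
  have hB3 : (s - 2 * t1) ^ 2 + 2 * t1 ^ 2 ≤ (g : ℤ) := by rw [← ht0e]; exact hB'
  -- |t1| ≤ 133
  have ht1_le : t1 ≤ 133 := by
    by_contra hcon
    rw [not_le] at hcon
    -- a = 2 t1 - s > 0, d = 3 t1 - 2 s > 0, g d = 243 t1 a, g ≥ a²
    obtain ⟨a, ha⟩ : ∃ a : ℤ, a = 2 * t1 - s := ⟨_, rfl⟩
    obtain ⟨d, hd⟩ : ∃ d : ℤ, d = 3 * t1 - 2 * s := ⟨_, rfl⟩
    have ha1 : 2 * t1 - 54 ≤ a := by rw [ha]; linarith
    have hd1 : 3 * t1 - 108 ≤ d := by rw [hd]; linarith
    have hapos : 0 < a := by linarith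
    have hdpos : 0 < d := by linarith
    have hgd : (g : ℤ) * d = 243 * t1 * a := by
      rw [hd, ha]; linarith [hB2]
    have hga : a ^ 2 ≤ (g : ℤ) := by
      have : (s - 2 * t1) ^ 2 = a ^ 2 := by rw [ha]; ring
      nlinarith [sq_nonneg t1]
    have h1 : a ^ 2 * d ≤ 243 * t1 * a := by
      rw [← hgd]; exact mul_le_mul_of_nonneg_right hga hdpos.le
    have h2 : a * d ≤ 243 * t1 := by
      by_contra hc
      rw [not_le] at hc
      nlinarith
    have h3 : (2 * t1 - 54) * (3 * t1 - 108) ≤ a * d := by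
      have hx : 0 ≤ 2 * t1 - 54 := by linarith
      have hy : 0 ≤ 3 * t1 - 108 := by linarith
      exact mul_le_mul ha1 hd1 hy hapos.le
    nlinarith
  have ht1_ge : -133 ≤ t1 := by
    by_contra hcon
    rw [not_le] at hcon
    -- den > 0 but num < 0
    have hden : 0 < 2 * s - 3 * t1 := by linarith
    have ht0pos : 0 < s - 2 * t1 := by linarith
    have hneg : 243 * t1 * (s - 2 * t1) < 0 := by
      have : t1 < 0 := by linarith
      nlinarith
    have hpos : 0 < (g : ℤ) * (2 * s - 3 * t1) := mul_pos hgz hden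
    rw [hB2] at hpos
    linarith
  -- finite check
  have hchk := arithChk_of_bounds s t1 hs_ge hs_le ht1_ge ht1_le
  have hnum : 243 * t1 * (s - 2 * t1) ≠ 0 := by
    apply mul_ne_zero (mul_ne_zero (by norm_num) ht1) hB2'
  have hden : 2 * s - 3 * t1 ≠ 0 := by
    intro h0
    rw [h0, mul_zero] at hB2
    exact hnum hB2.symm
  have hdiv : 243 * t1 * (s - 2 * t1) / (2 * s - 3 * t1) = (g : ℤ) :=
    Int.ediv_eq_of_eq_mul_left hden hB2.symm
  have hemod : 243 * t1 * (s - 2 * t1) % (2 * s - 3 * t1) = 0 :=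
    Int.emod_eq_zero_of_dvd ⟨(g : ℤ), by rw [← hB2]; ring⟩
  have h648 : (g : ℤ) % 648 = 0 := by omega
  have h27 : (g : ℤ) / 648 % 27 = 1 := by omega
  unfold arithChk at hchk
  rw [hdiv, hemod] at hchk
  simp only [Bool.or_eq_true, Bool.not_eq_true', beq_iff_eq, decide_eq_false_iff_not,
    beq_eq_false_iff_ne] at hchk
  rcases hchk with hchk | hchk
  · rcases hchk with hchk | hchk
    · rcases hchk with hchk | hchk
      · rcases hchk with hchk | hchk
        · rcases hchk with hchk | hchk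
          · rcases hchk with hchk | hchk
            · exact absurd hchk hden
            · exact absurd rfl hchk
          · exact absurd hgz hchk
        · exact absurd h648 hchk
      · exact absurd h27 hchk
    · exact absurd hB3 hchk
  · exact_mod_cast hchk

end Cfsg.Agent.Lib.H3.L648
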