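import Mathlib
import Cfsg.Agent.Lib.H7.T648Defs
import Cfsg.Agent.Lib.H7.T648Model
import Cfsg.Agent.Lib.H18.L648Defs
import Cfsg.Agent.Lib.H18.LatEnum
import Cfsg.Agent.Lib.H3.L648ARITH

/-!
# S3702, piece SHAPE2 (helper3): the natural shape gives `g = 648`
-/

set_option autoImplicit false

namespace Cfsg.Agent.Lib.H3.L648

open Cfsg Cfsg.Agent.Lib.H7.T648 Cfsg.Agent.Lib.H18 Cfsg.Agent.Lib.H18.L648
  Cfsg.Agent.Lib.H18.LatEnum

/-- `ceSum` through the list of integer coefficients -/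
theorem ceSum_eq (cols : List (List ℤ)) (D : List ℤ) (τ1 τ2 τ3 : ℕ) :
    ceSum cols D τ1 τ2 τ3 =
      (List.zipWith (fun (k : ℤ) (d : ℤ) => (k : ℚ) / (d : ℚ))
        (cols.map (fun c => vJ τ1 c * vJ τ2 c * vJ τ3 c)) D).sum := by
  unfold ceSum
  have hb : (do let a ← D; pure ((a : ℤ) : ℚ)) = List.map (fun a : ℤ => (a : ℚ)) D := by
    induction D with
    | nil => rfl
    | cons a D ih => simpa using ih
  rw [hb, List.zipWith_map_left, List.zipWith_map_right]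

theorem coef2_112 : shape2.map (fun c => vJ 1 c * vJ 1 c * vJ 2 c) =
    [0, 0, 32, 0, -1, 0, -8, -27, -27, -32, 32, 0, 0] := by decide +kernel

theorem coef2_122 : shape2.map (fun c => vJ 1 c * vJ 2 c * vJ 2 c) =
    [0, 0, -16, 0, -1, 0, -8, -27, -27, 16, -16, 0, 0] := by decide +kernel

theorem coef2_322 : shape2.map (fun c => vJ 3 c * vJ 2 c * vJ 2 c) =
    [27, 27, -4, 0, -1, 0, -8, -27, -27, 4, -4, 0, 0] := by decide +kernel

theorem list13 (D : List ℤ) (h : D.length = 13) :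
    ∃ d0 d1 d2 d3 d4 d5 d6 d7 d8 d9 d10 d11 d12 : ℤ,
      D = [d0, d1, d2, d3, d4, d5, d6, d7, d8, d9, d10, d11, d12] := by
  match D, h with
  | [d0, d1, d2, d3, d4, d5, d6, d7, d8, d9, d10, d11, d12], _ =>
    exact ⟨_, _, _, _, _, _, _, _, _, _, _, _, _, rfl⟩

theorem inv_neg_cast (a b : ℤ) (h : a + b = 0) : (1 : ℚ) / (a : ℚ) = -((1 : ℚ) / (b : ℚ)) := by
  have : a = -b := by linarith
  rw [this]
  push_cast
  rw [one_div, one_div, inv_neg]

theorem shape2_card (g : ℕ) (D : List ℤ) (h : ShapeOK shape2 g D) (hdvd : 648 ∣ g)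
    (hmod : g / 648 % 27 = 1) : g = 648 := by
  obtain ⟨hlen, hne, hdeg, hsq, hce⟩ := h
  have hlen' : D.length = 13 := by rw [hlen]; rfl
  obtain ⟨d0, d1, d2, d3, d4, d5, d6, d7, d8, d9, d10, d11, d12, rfl⟩ := list13 D hlen'
  have n0 : d0 ≠ 0 := hne d0 (by simp)
  have n1 : d1 ≠ 0 := hne d1 (by simp)
  have n2 : d2 ≠ 0 := hne d2 (by simp)
  have n10 : d10 ≠ 0 := hne d10 (by simp)
  have e1 := hdeg 1
  have e6 := hdeg 6
  have e7 := hdeg 7
  have e8 := hdeg 8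
  have a1 : a0 1 = 0 := by decide
  have a6 : a0 6 = -1 := by decide
  have a7 : a0 7 = -1 := by decide
  have a8 : a0 8 = 0 := by decide
  rw [a1] at e1
  rw [a6] at e6
  rw [a7] at e7
  rw [a8] at e8
  simp [LatEnum.dot, shape2] at e1 e6 e7 e8
  have c112 := hce ((1, 1, 2), 32) (by simp [tripleData])
  have c122 := hce ((1, 2, 2), 16) (by simp [tripleData])
  have c322 := hce ((3, 2, 2), 24) (by simp [tripleData])
  simp only [] at c112 c122 c322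
  rw [ceSum_eq, coef2_112] at c112
  rw [ceSum_eq, coef2_122] at c122
  rw [ceSum_eq, coef2_322] at c322
  simp only [List.zipWith_cons_cons, List.zipWith_nil_right, List.sum_cons, List.sum_nil]
    at c112 c122 c322
  have hgpos : 0 < g := by omega
  have hg0 : (g : ℚ) ≠ 0 := by exact_mod_cast hgpos.ne'
  have q0 : (d0 : ℚ) ≠ 0 := by exact_mod_cast n0
  have q1 : (d1 : ℚ) ≠ 0 := by exact_mod_cast n1
  have q2 : (d2 : ℚ) ≠ 0 := by exact_mod_cast n2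
  have q10 : (d10 : ℚ) ≠ 0 := by exact_mod_cast n10
  have h9 : ((d9 : ℤ) : ℚ)⁻¹ = -((d10 : ℤ) : ℚ)⁻¹ := by
    have : d9 = -d10 := by linarith
    rw [this]
    push_cast
    rw [inv_neg]
  simp only [div_eq_mul_inv] at c112 c122 c322
  push_cast at c112 c122 c322
  rw [h9] at c112 c122 c322
  have Sθ : ((d2 : ℤ) : ℚ)⁻¹ + 2 * ((d10 : ℤ) : ℚ)⁻¹ = 243 * (g : ℚ)⁻¹ := by linarith
  have Sφ : ((d0 : ℤ) : ℚ)⁻¹ + ((d1 : ℤ) : ℚ)⁻¹ = 108 * (g : ℚ)⁻¹ := by linarith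
  have hAq : (g : ℚ) * ((d0 : ℚ) + (d1 : ℚ)) = 108 * (d0 : ℚ) * (d1 : ℚ) := by
    have e : (g : ℚ) * ((d0 : ℚ) + (d1 : ℚ)) =
        (g : ℚ) * (d0 : ℚ) * (d1 : ℚ) * (((d0 : ℤ) : ℚ)⁻¹ + ((d1 : ℤ) : ℚ)⁻¹) := by
      field_simp
      ring
    rw [e, Sφ]
    field_simp
  have hBq : (g : ℚ) * ((d10 : ℚ) + 2 * (d2 : ℚ)) = 243 * (d2 : ℚ) * (d10 : ℚ) := by
    have e : (g : ℚ) * ((d10 : ℚ) + 2 * (d2 : ℚ)) =
        (g : ℚ) * (d2 : ℚ) * (d10 : ℚ) * (((d2 : ℤ) : ℚ)⁻¹ + 2 * ((d10 : ℤ) : ℚ)⁻¹) := by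
      field_simp
    rw [e, Sθ]
    field_simp
  have hA : (g : ℤ) * (d0 + d1) = 108 * d0 * d1 := by exact_mod_cast hAq
  have hB : (g : ℤ) * (d10 + 2 * d2) = 243 * d2 * d10 := by exact_mod_cast hBq
  have hs : d0 + d1 = d2 + 2 * d10 := by linarith
  simp only [List.map_cons, List.map_nil, List.sum_cons, List.sum_nil] at hsq
  have hd9 : d9 * d9 = d10 * d10 := by
    have : d9 = -d10 := by linarith
    rw [this]; ring
  have hA' : d0 ^ 2 + d1 ^ 2 ≤ (g : ℤ) := by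
    nlinarith [mul_self_nonneg d2, mul_self_nonneg d3, mul_self_nonneg d4, mul_self_nonneg d5,
      mul_self_nonneg d6, mul_self_nonneg d7, mul_self_nonneg d8, mul_self_nonneg d9,
      mul_self_nonneg d10, mul_self_nonneg d11, mul_self_nonneg d12]
  have hB' : d2 ^ 2 + 2 * d10 ^ 2 ≤ (g : ℤ) := by
    nlinarith [mul_self_nonneg d0, mul_self_nonneg d1, mul_self_nonneg d3, mul_self_nonneg d4,
      mul_self_nonneg d5, mul_self_nonneg d6, mul_self_nonneg d7, mul_self_nonneg d8,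
      mul_self_nonneg d11, mul_self_nonneg d12]
  exact arith648 g d0 d1 d2 d10 n0 n1 n2 n10 hgpos hA hA' hB hB' hs hdvd hmod

end Cfsg.Agent.Lib.H3.L648
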