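import Mathlib
import Cfsg.Agent.Lib.H21.AD.Defs

/-!
# S4892 piece (POWSUM): `y ↦ y ^ k` (`k` prime to `|G|`) permutes the `p`-regular elements of a
subgroup, so the `p`-regular sum is unchanged (blueprint `tools/blueprints/S4892.md`)
-/

set_option autoImplicit false

namespace Cfsg.Agent.Lib.H3.NT

open Cfsg.Agent.Lib.H21.AD

variable {G : Type*} [Group G] [Finite G]

/-- for `k` prime to `|G|`: `g ^ k ∈ J ↔ g ∈ J` -/
theorem pow_mem_iff_of_coprime (J : Subgroup G) (k : ℕ) (hk : k.Coprime (Nat.card G)) (g : G) :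
    g ^ k ∈ J ↔ g ∈ J := by
  constructor
  · intro h
    have h1 : (powCoprime (G := G) (n := k) hk.symm).symm (g ^ k) = g :=
      (powCoprime (G := G) (n := k) hk.symm).symm_apply_apply g
    have h2 : (powCoprime (G := G) (n := k) hk.symm).symm (g ^ k)
        = (g ^ k) ^ (Nat.card G).gcdB k := rfl
    rw [← h1, h2]
    exact J.zpow_mem h _
  · intro h
    exact J.pow_mem h k

/-- for `k` prime to `|G|`: `orderOf (g ^ k) = orderOf g` -/
theorem orderOf_pow_of_coprime (k : ℕ) (hk : k.Coprime (Nat.card G)) (g : G) :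
    orderOf (g ^ k) = orderOf g := by
  apply Nat.Coprime.orderOf_pow
  exact Nat.Coprime.coprime_dvd_left (orderOf_dvd_natCard g) hk.symm

theorem sSum_pow (p : ℕ) (J : Subgroup G) (f : G → ℂ) (k : ℕ) (hk : k.Coprime (Nat.card G)) :
    sSum p J (fun g => f (g ^ k)) = sSum p J f := by
  classical
  unfold sSum
  rw [← finsum_comp_equiv (powCoprime (G := G) (n := k) hk.symm)
    (f := fun g : G => if g ∈ J ∧ ¬ p ∣ orderOf g then f g else 0)]
  refine finsum_congr fun g => ?_
  have h1 : (powCoprime (G := G) (n := k) hk.symm) g = g ^ k := rfl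
  rw [h1]
  by_cases hg : g ∈ J ∧ ¬ p ∣ orderOf g
  · have hg' : g ^ k ∈ J ∧ ¬ p ∣ orderOf (g ^ k) := by
      rw [pow_mem_iff_of_coprime J k hk g, orderOf_pow_of_coprime k hk g]
      exact hg
    rw [if_pos hg, if_pos hg']
  · have hg' : ¬ (g ^ k ∈ J ∧ ¬ p ∣ orderOf (g ^ k)) := by
      rw [pow_mem_iff_of_coprime J k hk g, orderOf_pow_of_coprime k hk g]
      exact hg
    rw [if_neg hg, if_neg hg']

end Cfsg.Agent.Lib.H3.NT
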