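import Mathlib
import Cfsg.Agent.Lib.H19.SGTDefs

/-!
# S3795 (Gross, `p = 2`), piece L2F: `level_two_faithful` (helper3)

Adaptation of `SG.sg_core_aux` / `SG.min_case` / `SG.lam_count` to `p = 2` under the spectral
hypothesis `(T - 1)(T ^ (P/2) + 1) = 0`, `P = 2 ^ a`, `a ≥ 2`.
-/

set_option autoImplicit false
set_option linter.unusedSectionVars false
set_option linter.unusedVariables false
set_option linter.style.haveILetI false
set_option maxHeartbeats 1000000

namespace Cfsg.Agent.Lib.H3.SGT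

open Module Cfsg Cfsg.Agent.Lib.H19.SG Cfsg.Agent.Lib.H19.SGT Cfsg.Agent.Lib.H19.ModRep
  Cfsg.Agent.Lib.H1 Cfsg.Agent.Lib.H1.QuadMul Cfsg.Agent.Lib.H19.Ward

universe u uk uY

section linear

variable {k : Type uk} [Field k]

/-- the statement of `extra_two` (piece L1 of the farm-out; only the count is needed) for the
submodules of `Y` and the groups in `Type u`; `level_two_faithful_of` / `level_two_of` below are
parametric in it -/
def L1Stmt (k : Type uk) [Field k] (Y : Type uY) [AddCommGroup Y] [Module k Y] : Prop :=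
  ∀ (Wl : Submodule k Y) (E : Type u) [Group E] [Finite E], Nontrivial Wl →
    (Nat.card E : k) ≠ 0 → ∀ (ρ : Representation k E Wl) (φ : MulAut E) (T : Module.End k Wl)
    (P : ℕ), 0 < P → (P : k) ≠ 0 → Tw ρ φ T P → ∀ (R : Subgroup E) (Λ : E → k), XHyp ρ R Λ →
    (∀ x, φ x ∈ R ↔ x ∈ R) →
    (∀ i, 0 < i → i < P → ∀ x : E, (φ ^ i) x * x⁻¹ ∈ R → x ∈ R) →
    R ≠ ⊤ → (∀ w, T w = w → w = 0) → Nat.card (E ⧸ R) = (P - 1) ^ 2

/-- `-1` is not an eigenvalue of `T`. -/
theorem l2f_no_neg {Y : Type uY} [AddCommGroup Y] [Module k Y] {a : ℕ} (ha : 2 ≤ a)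
    (h2k : (2 : k) ≠ 0) {T : Module.End k Y}
    (hspec : (T - 1) * (T ^ 2 ^ (a - 1) + 1) = 0) : ∀ w, T w = -w → w = 0 := by
  intro w hw
  have hpow : ∀ m : ℕ, (T ^ m) w = (-1 : k) ^ m • w := by
    intro m
    induction m with
    | zero => simp
    | succ m ih =>
      rw [pow_succ', Module.End.mul_apply, ih, map_smul, hw, pow_succ', mul_smul, neg_one_smul,
        smul_neg]
  have heven : Even (2 ^ (a - 1)) := Nat.even_pow.mpr ⟨even_two, by omega⟩
  have h1 : (T ^ 2 ^ (a - 1)) w = w := by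
    rw [hpow, heven.neg_one_pow, one_smul]
  have h2 := congrArg (fun f : Module.End k Y => f w) hspec
  simp only [Module.End.mul_apply, LinearMap.add_apply, LinearMap.sub_apply,
    Module.End.one_apply, LinearMap.zero_apply, h1, map_add, hw] at h2
  have h3 : (4 : k) • w = 0 := by
    have e : (4 : k) • w = -(-w - w + (-w - w)) := by
      have : (4 : k) = 1 + 1 + 1 + 1 := by norm_num
      rw [this]
      simp only [add_smul, one_smul]
      abel
    rw [e, h2, neg_zero]
  have h4 : (4 : k) ≠ 0 := by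
    have : (4 : k) = 2 * 2 := by norm_num
    rw [this]
    exact mul_ne_zero h2k h2k
  exact (smul_eq_zero.mp h3).resolve_left h4

/-- `-T` is again a twisted operator. -/
theorem l2f_neg_tw {Y : Type uY} [AddCommGroup Y] [Module k Y] {G : Type u} [Group G]
    {ρ : Representation k G Y} {φ : MulAut G} {T : Module.End k Y} {P : ℕ} (hP : Even P)
    (h : Tw ρ φ T P) : Tw ρ φ (-T) P where
  hT := by rw [hP.neg_pow, h.hT]
  hφ := h.hφ
  htw := by
    intro x
    rw [neg_mul, h.htw, mul_neg]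

/-- the minimal configuration for `p = 2` under the spectral hypothesis -/
theorem l2f_min_case {Y : Type uY} [AddCommGroup Y] [Module k Y] [IsAlgClosed k]
    [FiniteDimensional k Y] (hL1 : L1Stmt.{u, uk, uY} k Y) {G : Type u} [Group G] [Finite G]
    {u a : ℕ} [Fact u.Prime] (hu2 : u ≠ 2) (ha : 2 ≤ a) (h2k : (2 : k) ≠ 0) (hk : (Nat.card G : k) ≠ 0)
    {ρ : Representation k G Y} {φ : MulAut G} {T : Module.End k Y} (h : Tw ρ φ T (2 ^ a))
    (hM : MinHyp φ (φ ^ (2 ^ (a - 1))) 2 u)
    (hfaith : ∀ x, ρ x = 1 → x = 1)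
    (hspec : (T - 1) * (T ^ 2 ^ (a - 1) + 1) = 0) : ∃ m : ℕ, u ^ m = 2 ^ a - 1 := by
  classical
  have hp : Nat.Prime 2 := Nat.prime_two
  have hq : u.Prime := Fact.out
  have han : 0 < a := by omega
  have hPpos : 0 < 2 ^ a := pow_pos hp.pos a
  have hPeven : Even (2 ^ a) := Nat.even_pow.mpr ⟨even_two, by omega⟩
  obtain ⟨ψ, hψdef⟩ : ∃ ψ : MulAut G, ψ = φ ^ (2 ^ (a - 1)) := ⟨_, rfl⟩
  have hM' := hM
  rw [← hψdef] at hM
  -- the fixed point free operator `-T`
  obtain ⟨Tn, hTndef⟩ : ∃ Tn : Module.End k Y, Tn = -T := ⟨_, rfl⟩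
  have hTwn : Tw ρ φ Tn (2 ^ a) := by
    rw [hTndef]
    exact l2f_neg_tw hPeven h
  have hfpf : ∀ w, Tn w = w → w = 0 := by
    intro w hw
    apply l2f_no_neg ha h2k hspec
    rw [hTndef, LinearMap.neg_apply] at hw
    exact neg_eq_iff_eq_neg.mp hw
  -- powers of `φ` have `ψ` among their powers
  have hpowψ : ∀ i, 0 < i → i < 2 ^ a → ∃ m : ℕ, (φ ^ i) ^ m = ψ := by
    intro i hi0 hi
    rw [hψdef]
    exact exists_pow_eq_psi hp han h.hφ hi0 hi
  by_cases hab : Subgroup.center G = ⊤
  · -- the abelian case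
    exfalso
    have hab' : ∀ x y : G, x * y = y * x := by
      intro x y
      have : y ∈ Subgroup.center G := by rw [hab]; exact Subgroup.mem_top y
      exact Subgroup.mem_center_iff.mp this x
    have hfree : ∀ i, 0 < i → i < 2 ^ a → ∀ x : G, (φ ^ i) x = x → x = 1 := by
      intro i hi0 hi x hx
      obtain ⟨m, hm⟩ := hpowψ i hi0 hi
      apply hM.eq_one_of_fix hab'
      rw [← hm]
      have : ∀ m : ℕ, ((φ ^ i) ^ m) x = x := by
        intro m
        induction m with
        | zero => simp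
        | succ m ih => rw [pow_succ, MulAut.mul_apply, hx, ih]
      exact this m
    obtain ⟨x, hx⟩ := hM.hψ
    apply hx
    have := hfaith x (frob_kill hk hPpos hTwn hfree hfpf x)
    rw [this, map_one]
  -- the nonabelian case
  obtain ⟨Z, hZdef⟩ : ∃ Z : Subgroup G, Z = Subgroup.center G := ⟨_, rfl⟩
  have hna : Z ≠ ⊤ := by rw [hZdef]; exact hab
  have hcz : ∀ z ∈ Z, ∀ g : G, g * z = z * g := by
    intro z hz g
    rw [hZdef] at hz
    exact Subgroup.mem_center_iff.mp hz g
  have hZinv : ∀ x, φ x ∈ Z ↔ x ∈ Z := by rw [hZdef]; exact MinHyp.center_inv φ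
  have hcomZ : ∀ x y : G, x * y * x⁻¹ * y⁻¹ ∈ Z := by
    intro x y
    rw [hZdef]
    exact hM.commutator_mem_center x y
  have hψZ : ∀ z ∈ Z, ψ z = z := hM.hmin Z hZinv hna
  have hssZ : ∀ b : Z, Module.End.IsSemisimple (ρ (b : G)) := fun b => isSemisimple_apply hk ρ b
  have hcommZ' : ∀ b b' : Z, Commute (ρ (b : G)) (ρ (b' : G)) := by
    intro b b'
    show ρ (b : G) * ρ (b' : G) = ρ (b' : G) * ρ (b : G)
    rw [← map_mul, ← map_mul, hcz b b.2 b']
  have hcommZ : ∀ b ∈ Z, ∀ b' ∈ Z, Commute (ρ b) (ρ b') := by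
    intro b hb b' _
    show ρ b * ρ b' = ρ b' * ρ b
    rw [← map_mul, ← map_mul, hcz b hb b']
  -- (B1) a weight which is nontrivial on a commutator
  obtain ⟨lam, hW, x₀, y₀, hc₀⟩ : ∃ lam : G → k, wtS ρ Z lam ≠ ⊥ ∧
      ∃ x y : G, lam (x * y * x⁻¹ * y⁻¹) ≠ 1 := by
    by_contra hcon
    push Not at hcon
    apply hab
    rw [eq_top_iff]
    intro y _
    rw [Subgroup.mem_center_iff]
    intro x
    have h1 : ρ (x * y * x⁻¹ * y⁻¹) = 1 := by
      apply ext_of_wtF hssZ hcommZ'
      intro χ' m hm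
      rw [Module.End.one_apply]
      by_cases hm0 : m = 0
      · rw [hm0, map_zero]
      rw [← wtS_ext0] at hm
      have hne : wtS ρ Z (ext0 χ') ≠ ⊥ := by
        intro hbot
        rw [hbot, Submodule.mem_bot] at hm
        exact hm0 hm
      rw [mem_wtS.mp hm _ (hcomZ x y), hcon _ hne x y, one_smul]
    have h2 := hfaith _ h1
    calc x * y = (x * y * x⁻¹ * y⁻¹) * (y * x) := by group
      _ = y * x := by rw [h2, one_mul]
  -- the weight space
  obtain ⟨Wl, hWldef⟩ : ∃ Wl : Submodule k Y, Wl = wtS ρ Z lam := ⟨_, rfl⟩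
  rw [← hWldef] at hW
  have hlam : ∀ z ∈ Z, ∀ w ∈ Wl, ρ z w = lam z • w := by
    intro z hz w hw
    rw [hWldef, mem_wtS] at hw
    exact hw z hz
  have hWinv : Cfsg.Agent.Lib.H19.ModRep.Inv ρ Wl := by
    intro x w hw
    rw [hWldef, mem_wtS]
    intro z hz
    have h1 : ρ z (ρ x w) = ρ x (ρ z w) := by
      rw [← Module.End.mul_apply, ← Module.End.mul_apply, ← map_mul, ← map_mul, hcz z hz x]
    rw [h1, hlam z hz w hw, map_smul]
  obtain ⟨w₀, hw₀, hw₀0⟩ := Submodule.exists_mem_ne_zero_of_ne_bot hW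
  -- (B2) the stabilizer
  have hex : ∃ i, ∀ b ∈ Z, lam ((φ ^ (2 ^ i)) b) = lam b := by
    refine ⟨a - 1, fun b hb => ?_⟩
    rw [← hψdef, hψZ b hb]
  obtain ⟨j, hjdef⟩ : ∃ j, j = Nat.find hex := ⟨_, rfl⟩
  have hstab : ∀ b ∈ Z, lam ((φ ^ (2 ^ j)) b) = lam b := by
    rw [hjdef]
    exact Nat.find_spec hex
  have hmin : ∀ l < j, ∃ b ∈ Z, lam ((φ ^ (2 ^ l)) b) ≠ lam b := by
    intro l hl
    rw [hjdef] at hl
    have := Nat.find_min hex hl
    push Not at this
    exact this
  have hja : j ≤ a - 1 := by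
    rw [hjdef]
    exact Nat.find_min' hex (fun b hb => by rw [← hψdef, hψZ b hb])
  rcases Nat.eq_zero_or_pos j with hj0 | hjpos
  · -- `j = 0`: the extraspecial count
    rw [hj0, pow_zero, pow_one] at hstab
    have hstab' : ∀ b ∈ Z, lam (φ⁻¹ b) = lam b := by
      intro b hb
      have h1 : φ⁻¹ b ∈ Z := by
        rw [← hZinv, MulAut.apply_inv_self]
        exact hb
      have h2 := hstab _ h1
      rw [MulAut.apply_inv_self] at h2
      exact h2.symm
    have hTmaps : ∀ w ∈ Wl, Tn w ∈ Wl := by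
      intro w hw
      rw [hWldef] at hw ⊢
      have h1 := pow_mem_wtS hTwn hZinv hw 1
      rw [mem_wtS] at h1 ⊢
      intro b hb
      have h2 := h1 b hb
      rw [pow_one, pow_one] at h2
      rw [h2, hstab' b hb]
    obtain ⟨ρl, hρldef⟩ : ∃ ρl : Representation k G Wl, ρl = Cfsg.Agent.Lib.H19.ModRep.sub ρ Wl hWinv := ⟨_, rfl⟩
    have hρl : ∀ (x : G) (w : Wl), ((ρl x w : Wl) : Y) = ρ x (w : Y) := by
      intro x w
      rw [hρldef]
      rfl
    obtain ⟨Tl, hTldef⟩ : ∃ Tl : Module.End k Wl, Tl = Tn.restrict hTmaps := ⟨_, rfl⟩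
    have hTl : ∀ w : Wl, ((Tl w : Wl) : Y) = Tn (w : Y) := by
      intro w
      rw [hTldef]
      rfl
    have hTlpow : ∀ (m : ℕ) (w : Wl), (((Tl ^ m) w : Wl) : Y) = (Tn ^ m) (w : Y) := by
      intro m w
      rw [hTldef]
      exact restrict_pow_coe hTmaps m w
    have hTwl : Tw ρl φ Tl (2 ^ a) :=
      { hT := by
          apply LinearMap.ext
          intro w
          apply Subtype.ext
          rw [hTlpow, hTwn.hT]
          rfl
        hφ := hTwn.hφ
        htw := by
          intro x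
          apply LinearMap.ext
          intro w
          apply Subtype.ext
          rw [Module.End.mul_apply, Module.End.mul_apply, hTl, hρl, hρl, hTl]
          have := congrArg (fun f : Module.End k Y => f (w : Y)) (hTwn.htw x)
          simpa using this }
    have hTlfpf : ∀ w : Wl, Tl w = w → w = 0 := by
      intro w hw
      apply Subtype.ext
      apply hfpf
      rw [← hTl, hw]
    haveI : Nontrivial Wl := Submodule.nontrivial_iff_ne_bot.mpr hW
    have hρlZ : ∀ z ∈ Z, ρl z = lam z • (1 : Module.End k Wl) := by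
      intro z hz
      apply LinearMap.ext
      intro w
      apply Subtype.ext
      rw [hρl, hlam z hz _ w.2]
      rfl
    have hrel : ∀ v x : G, ρl v * ρl x = lam (v * x * v⁻¹ * x⁻¹) • (ρl x * ρl v) := by
      intro v x
      have h2 : ρl v * ρl x = ρl (v * x * v⁻¹ * x⁻¹) * (ρl x * ρl v) := by
        rw [← map_mul, ← map_mul, ← map_mul]
        congr 1
        group
      rw [h2, hρlZ _ (hcomZ v x), smul_mul_assoc, one_mul]
    -- the radical
    let R : Subgroup G :=
      { carrier := {x | ∀ v : G, ρl v * ρl x = ρl x * ρl v}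
        one_mem' := by
          intro v
          rw [map_one, mul_one, one_mul]
        mul_mem' := by
          intro x y hx hy v
          rw [map_mul, ← mul_assoc, hx v, mul_assoc, hy v, mul_assoc]
        inv_mem' := by
          intro x hx v
          have h1 := hx v
          calc ρl v * ρl x⁻¹ = ρl x⁻¹ * (ρl x * ρl v) * ρl x⁻¹ := by
                rw [← mul_assoc, apply_inv_mul, one_mul]
            _ = ρl x⁻¹ * (ρl v * ρl x) * ρl x⁻¹ := by rw [h1]
            _ = ρl x⁻¹ * ρl v := by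
                rw [mul_assoc, mul_assoc, apply_mul_inv, mul_one] }
    have hRmem : ∀ x, x ∈ R ↔ ∀ v : G, ρl v * ρl x = ρl x * ρl v := fun x => Iff.rfl
    have hRchar : ∀ x, x ∈ R ↔ ∀ v : G, lam (v * x * v⁻¹ * x⁻¹) = 1 := by
      intro x
      rw [hRmem]
      constructor
      · intro hx v
        have h1 := hrel v x
        rw [hx v] at h1
        have hne0 : ρl x * ρl v ≠ 0 := by
          rw [← map_mul]
          exact apply_ne_zero ρl _
        have h2 : (1 : k) • (ρl x * ρl v) = lam (v * x * v⁻¹ * x⁻¹) • (ρl x * ρl v) := by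
          rw [one_smul]
          exact h1
        exact (smul_left_injective k hne0 h2).symm
      · intro hx v
        rw [hrel v x, hx v, one_smul]
    have hZR : Z ≤ R := by
      intro z hz
      rw [hRmem]
      intro v
      rw [hρlZ z hz, mul_smul_comm, mul_one, smul_mul_assoc, one_mul]
    haveI hRn : R.Normal := by
      constructor
      intro x hx g
      have e : g * x * g⁻¹ = (g * x * g⁻¹ * x⁻¹) * x := by group
      rw [e]
      exact R.mul_mem (hZR (hcomZ g x)) hx
    have hRφ : ∀ x, φ x ∈ R ↔ x ∈ R := by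
      intro x
      rw [hRchar, hRchar]
      constructor
      · intro hx v
        have h1 := hx (φ v)
        rw [← map_inv, ← map_inv, ← map_mul, ← map_mul, ← map_mul, hstab _ (hcomZ v x)] at h1
        exact h1
      · intro hx v
        have h1 := hx (φ⁻¹ v)
        have h2 := hstab _ (hcomZ (φ⁻¹ v) x)
        rw [map_mul, map_mul, map_mul, map_inv, map_inv, MulAut.apply_inv_self] at h2
        rw [h2]
        exact h1
    have hRne : R ≠ ⊤ := by
      intro htop
      apply hc₀
      have : y₀ ∈ R := by rw [htop]; exact Subgroup.mem_top y₀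
      exact (hRchar y₀).mp this x₀
    have hRZ : R ≤ Z := by
      rw [hZdef]
      exact hM.le_center R hRφ hRne
    have hX : XHyp ρl Z lam :=
      { hΛ := hρlZ
        hQR := hcomZ
        hnd := by
          intro x hx
          exact hRZ ((hRchar x).mpr hx) }
    haveI : Z.Normal := by rw [hZdef]; infer_instance
    have hfreeZ : ∀ i, 0 < i → i < 2 ^ a → ∀ x : G, (φ ^ i) x * x⁻¹ ∈ Z → x ∈ Z := by
      intro i hi0 hi x hx
      obtain ⟨m, hm⟩ := hpowψ i hi0 hi
      have hZi : ∀ y, (φ ^ i) y ∈ Z ↔ y ∈ Z := fun y => pow_mem_iff hZinv i y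
      have h1 := pow_fix_mod hZi hx m
      rw [hm] at h1
      rw [hZdef] at h1 ⊢
      exact hM.mem_center_of_fix hab h1
    have hPk : ((2 ^ a : ℕ) : k) ≠ 0 := by
      rw [Nat.cast_pow]
      exact pow_ne_zero a (by exact_mod_cast h2k)
    have hcount := hL1 Wl G inferInstance hk ρl φ Tl (2 ^ a) hPpos hPk hTwl Z lam hX hZinv hfreeZ
      hna hTlfpf
    obtain ⟨f, hf⟩ := hM.hq.index Z
    have h1 : Nat.card (G ⧸ Z) = u ^ f := hf
    rw [h1] at hcount
    have hdvd : 2 ^ a - 1 ∣ u ^ f := ⟨2 ^ a - 1, by rw [hcount, sq]⟩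
    obtain ⟨m, -, hm⟩ := (Nat.dvd_prime_pow hq).mp hdvd
    exact ⟨m, hm.symm⟩
  · -- `j ≥ 1`: `T ^ (P / 2) = -1` on the weight space
    exfalso
    have hjeven : Even (2 ^ j) := Nat.even_pow.mpr ⟨even_two, by omega⟩
    have hTnj : Tn ^ (2 ^ j) = T ^ (2 ^ j) := by rw [hTndef, hjeven.neg_pow]
    have hfw : ∀ w ∈ Wl, (T ^ (2 ^ j)) w = w → w = 0 := by
      rw [hWldef, ← hTnj]
      exact fpf_on_weight hk hTwn hZinv hcommZ lam hp hstab hmin hfpf
    have hψinvZ : ∀ b ∈ Z, ψ⁻¹ b = b := by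
      intro b hb
      have h1 := hψZ b hb
      conv_lhs => rw [← h1]
      exact MulAut.inv_apply_self G ψ b
    have hTm : ∀ w ∈ Wl, (T ^ 2 ^ (a - 1)) w ∈ Wl := by
      intro w hw
      rw [hWldef] at hw ⊢
      have h1 := pow_mem_wtS h hZinv hw (2 ^ (a - 1))
      rw [mem_wtS] at h1 ⊢
      intro b hb
      rw [h1 b hb, ← hψdef, hψinvZ b hb]
    have hprod : (T ^ 2 ^ j - 1) * (T ^ 2 ^ (a - 1) + 1) = 0 := by
      rw [← geom_sum_mul T (2 ^ j), mul_assoc, hspec, mul_zero]
    have hneg : ∀ w ∈ Wl, (T ^ 2 ^ (a - 1)) w = -w := by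
      intro w hw
      have hv : (T ^ 2 ^ (a - 1)) w + w ∈ Wl := Wl.add_mem (hTm w hw) hw
      have h1 := congrArg (fun f : Module.End k Y => f w) hprod
      simp only [Module.End.mul_apply, LinearMap.add_apply, LinearMap.sub_apply,
        Module.End.one_apply, LinearMap.zero_apply] at h1
      have h2 := hfw _ hv (sub_eq_zero.mp h1)
      exact eq_neg_of_add_eq_zero_left h2
    have hρψ : ∀ (x : G), ∀ w ∈ Wl, ρ (ψ x) w = ρ x w := by
      intro x w hw
      have h1 := congrArg (fun f : Module.End k Y => f w) (h.pow_tw (2 ^ (a - 1)) x)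
      simp only [Module.End.mul_apply] at h1
      rw [hneg _ (hWinv x w hw), hneg w hw, ← hψdef, map_neg] at h1
      exact (neg_injective h1).symm
    let K : Subgroup G :=
      { carrier := {g | ∀ w ∈ Wl, ρ g w = w}
        one_mem' := by
          intro w _
          rw [map_one, Module.End.one_apply]
        mul_mem' := by
          intro x y hx hy w hw
          rw [map_mul, Module.End.mul_apply, hy w hw, hx w hw]
        inv_mem' := by
          intro x hx w hw
          have h1 := hx w hw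
          conv_lhs => rw [← h1]
          rw [← Module.End.mul_apply, ← map_mul, inv_mul_cancel, map_one, Module.End.one_apply] }
    have hKtop : MinHyp.comm ψ ≤ K := by
      unfold MinHyp.comm
      rw [Subgroup.closure_le]
      rintro _ ⟨x, rfl⟩
      intro w hw
      rw [map_mul, Module.End.mul_apply, hρψ x w hw, ← Module.End.mul_apply, ← map_mul,
        inv_mul_cancel, map_one, Module.End.one_apply]
    rw [hM.comm_eq_top] at hKtop
    apply hc₀
    have h1 : ρ (x₀ * y₀ * x₀⁻¹ * y₀⁻¹) w₀ = w₀ := hKtop (Subgroup.mem_top _) w₀ hw₀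
    rw [hlam _ (hcomZ x₀ y₀) w₀ hw₀] at h1
    have h2 : lam (x₀ * y₀ * x₀⁻¹ * y₀⁻¹) • w₀ = (1 : k) • w₀ := by rw [one_smul]; exact h1
    exact smul_left_injective k hw₀0 h2

theorem l2f_aux {Y : Type uY} [AddCommGroup Y] [Module k Y] [IsAlgClosed k]
    [FiniteDimensional k Y] (hL1 : L1Stmt.{u, uk, uY} k Y) {u a : ℕ} [Fact u.Prime]
    (hu2 : u ≠ 2) (ha : 2 ≤ a) (h2k : (2 : k) ≠ 0) (huk : (u : k) ≠ 0)
    (T : Module.End k Y) (hspec : (T - 1) * (T ^ 2 ^ (a - 1) + 1) = 0) :
    ∀ (N : ℕ) (G : Type u) [Group G] [Finite G], Nat.card G ≤ N → IsPGroup u G →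
      ∀ (ρ : Representation k G Y) (φ : MulAut G), Tw ρ φ T (2 ^ a) →
        (∀ x, ρ x = 1 → x = 1) →
        (∀ x : G, (φ ^ 2 ^ (a - 1)) x = x) ∨ ∃ m : ℕ, u ^ m = 2 ^ a - 1 := by
  intro N
  induction N with
  | zero =>
    intro G _ _ hcard
    exfalso
    have := Nat.card_pos (α := G)
    omega
  | succ N ih =>
    intro G _ _ hcard hG ρ φ h hfaith
    by_cases hall : ∀ x : G, (φ ^ 2 ^ (a - 1)) x = x
    · exact Or.inl hall
    right
    push Not at hall
    obtain ⟨x₀, hx₀⟩ := hall
    by_cases hex : ∃ H : Subgroup G, (∀ x, φ x ∈ H ↔ x ∈ H) ∧ H ≠ ⊤ ∧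
        ∃ x ∈ H, (φ ^ (2 ^ (a - 1))) x ≠ x
    · obtain ⟨H, hH, hHne, x, hx, hψx⟩ := hex
      have hlt : Nat.card H < Nat.card G := by
        apply lt_of_le_of_ne (Subgroup.card_le_card_group H)
        intro heq
        exact hHne (H.eq_top_of_card_eq heq)
      have hHq : IsPGroup u H := hG.to_subgroup H
      have hTwH : Tw (ρ.comp H.subtype) (restrictAut φ H hH) T (2 ^ a) :=
        { hT := h.hT
          hφ := by
            apply MulEquiv.ext
            intro y
            apply Subtype.ext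
            rw [restrictAut_pow_coe, h.hφ]
            rfl
          htw := by
            intro y
            exact h.htw (y : G) }
      rcases ih H (by omega) hHq (ρ.comp H.subtype) (restrictAut φ H hH) hTwH
        (by
          intro y hy
          apply Subtype.ext
          exact hfaith (y : G) hy) with h1 | h1
      · exfalso
        apply hψx
        have h2 := congrArg Subtype.val (h1 ⟨x, hx⟩)
        rw [restrictAut_pow_coe] at h2
        exact h2
      · exact h1
    · push Not at hex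
      have han : 0 < a := by omega
      have hM : MinHyp φ (φ ^ (2 ^ (a - 1))) 2 u :=
        { hq := hG
          hpq := fun e => hu2 e.symm
          hcomm := by
            intro x
            have h1 : φ * φ ^ (2 ^ (a - 1)) = φ ^ (2 ^ (a - 1)) * φ :=
              ((Commute.refl φ).pow_right _).eq
            have h2 := congrArg (fun f : MulAut G => f x) h1
            simpa [MulAut.mul_apply] using h2
          hψp := by
            rw [← pow_mul, ← pow_succ, Nat.sub_add_cancel han, h.hφ]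
          hψ := ⟨x₀, hx₀⟩
          hmin := by
            intro H hH hHne x hx
            exact hex H hH hHne x hx }
      have hk : (Nat.card G : k) ≠ 0 := by
        obtain ⟨b, hb⟩ := IsPGroup.iff_card.mp hG
        rw [hb, Nat.cast_pow]
        exact pow_ne_zero b huk
      exact l2f_min_case hL1 hu2 ha h2k hk h hM hfaith hspec

/-- **L2F** (faithful form), parametric in the statement of `extra_two`. -/
theorem level_two_faithful_of {Y : Type uY} [AddCommGroup Y] [Module k Y] [IsAlgClosed k]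
    [FiniteDimensional k Y] (hL1 : L1Stmt.{u, uk, uY} k Y) {G : Type u} [Group G] [Finite G]
    {u a : ℕ} [Fact u.Prime]
    (hu2 : u ≠ 2) (ha : 2 ≤ a) (hG : IsPGroup u G) (h2k : (2 : k) ≠ 0) (huk : (u : k) ≠ 0)
    {ρ : Representation k G Y} {φ : MulAut G} {T : Module.End k Y} (h : Tw ρ φ T (2 ^ a))
    (hfaith : ∀ x, ρ x = 1 → x = 1)
    (hspec : (T - 1) * (T ^ 2 ^ (a - 1) + 1) = 0) :
    (∀ x : G, (φ ^ 2 ^ (a - 1)) x = x) ∨ ∃ m : ℕ, u ^ m = 2 ^ a - 1 :=
  l2f_aux hL1 hu2 ha h2k huk T hspec (Nat.card G) G le_rfl hG ρ φ h hfaith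

/-- **L2** (general form; reduce to `level_two_faithful_of` on `G ⧸ ker ρ`), parametric in the
statement of `extra_two`. -/
theorem level_two_of {Y : Type uY} [AddCommGroup Y] [Module k Y] [IsAlgClosed k]
    [FiniteDimensional k Y] (hL1 : L1Stmt.{u, uk, uY} k Y) {G : Type u} [Group G] [Finite G]
    {u a : ℕ} [Fact u.Prime]
    (hu2 : u ≠ 2) (ha : 2 ≤ a) (hG : IsPGroup u G) (h2k : (2 : k) ≠ 0) (huk : (u : k) ≠ 0)
    {ρ : Representation k G Y} {φ : MulAut G} {T : Module.End k Y} (h : Tw ρ φ T (2 ^ a))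
    (hspec : (T - 1) * (T ^ 2 ^ (a - 1) + 1) = 0) :
    (∀ x : G, ρ ((φ ^ 2 ^ (a - 1)) x) = ρ x) ∨ ∃ m : ℕ, u ^ m = 2 ^ a - 1 := by
  classical
  have hPpos : 0 < 2 ^ a := pow_pos (by norm_num) a
  obtain ⟨K, hKdef⟩ : ∃ K : Subgroup G, K = MonoidHom.ker ρ := ⟨_, rfl⟩
  have hKmem : ∀ x, x ∈ K ↔ ρ x = 1 := by
    intro x
    rw [hKdef, MonoidHom.mem_ker]
  haveI hKn : K.Normal := by rw [hKdef]; infer_instance
  have hKφ : ∀ x, φ x ∈ K ↔ x ∈ K := by
    intro x
    rw [hKmem, hKmem]
    constructor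
    · intro hx
      have h1 := h.htw x
      rw [hx, one_mul] at h1
      -- `T * ρ x = T`
      have h2 := congrArg (fun f : Module.End k Y => T ^ (2 ^ a - 1) * f) h1
      simp only [← mul_assoc, h.pow_pred_mul hPpos, one_mul] at h2
      exact h2
    · intro hx
      have h1 := h.htw x
      rw [hx, mul_one] at h1
      have h2 := congrArg (fun f : Module.End k Y => f * T ^ (2 ^ a - 1)) h1
      simp only [mul_assoc, h.mul_pow_pred hPpos, mul_one] at h2
      exact h2.symm
  have hmap : K.map φ.toMonoidHom = K := by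
    ext x
    constructor
    · rintro ⟨x₀, hx₀, rfl⟩
      exact (hKφ x₀).mpr hx₀
    · intro hx
      refine ⟨φ⁻¹ x, ?_, MulAut.apply_inv_self G φ x⟩
      show φ⁻¹ x ∈ K
      rw [← hKφ, MulAut.apply_inv_self]
      exact hx
  obtain ⟨φq, hφqdef⟩ : ∃ φq : MulAut (G ⧸ K), φq = QuotientGroup.congr K K φ hmap := ⟨_, rfl⟩
  have hφq : ∀ x : G, φq (QuotientGroup.mk x) = QuotientGroup.mk (φ x) := by
    intro x
    rw [hφqdef]
    rfl
  have hφqpow : ∀ (i : ℕ) (x : G),
      (φq ^ i) (QuotientGroup.mk x) = QuotientGroup.mk ((φ ^ i) x) := by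
    intro i
    induction i with
    | zero => intro x; simp
    | succ i ih =>
      intro x
      rw [pow_succ', MulAut.mul_apply, ih, hφq, pow_succ', MulAut.mul_apply]
  -- the induced representation
  have hKle : K ≤ MonoidHom.ker ρ := by rw [hKdef]
  obtain ⟨ρq, hρqdef⟩ : ∃ ρq : Representation k (G ⧸ K) Y, ρq = QuotientGroup.lift K ρ hKle :=
    ⟨_, rfl⟩
  have hρq : ∀ x : G, ρq (QuotientGroup.mk x) = ρ x := by
    intro x
    rw [hρqdef]
    rfl
  have hTwq : Tw ρq φq T (2 ^ a) :=
    { hT := h.hT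
      hφ := by
        apply MulEquiv.ext
        intro xq
        induction xq using QuotientGroup.induction_on with
        | H x => rw [hφqpow, h.hφ]; rfl
      htw := by
        intro xq
        induction xq using QuotientGroup.induction_on with
        | H x => rw [hφq, hρq, hρq, h.htw] }
  have hfaithq : ∀ xq : G ⧸ K, ρq xq = 1 → xq = 1 := by
    intro xq
    induction xq using QuotientGroup.induction_on with
    | H x =>
      intro hx
      rw [hρq] at hx
      exact (QuotientGroup.eq_one_iff x).mpr ((hKmem x).mpr hx)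
  have hGq : IsPGroup u (G ⧸ K) := hG.to_quotient K
  rcases level_two_faithful_of hL1 hu2 ha hGq h2k huk hTwq hfaithq hspec with h1 | h1
  · left
    intro x
    have h2 := h1 (QuotientGroup.mk x)
    rw [hφqpow] at h2
    rw [← hρq, h2, hρq]
  · exact Or.inr h1

end linear

end Cfsg.Agent.Lib.H3.SGT
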