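import Mathlib
import Cfsg.Agent.Lib.H19.SGTDefs
import Cfsg.Agent.Lib.H3.SGTL2F
import Cfsg.Agent.Lib.H19.SGT3

/-!
# S3795 (Gross, `p = 2`), pieces L2F + L2: `level_two_faithful`, `level_two` (helper3)

Exact signatures of `tools/blueprints/S3795_sigs.lean`; the proofs are in `SGTL2F.lean`
(`level_two_faithful_of`, `level_two_of`, parametric in the statement of `extra_two`).
-/

set_option autoImplicit false
set_option linter.unusedSectionVars false
set_option linter.unusedVariables false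

namespace Cfsg.Agent.Lib.H3.SGT

open Module Cfsg Cfsg.Agent.Lib.H19.SG Cfsg.Agent.Lib.H19.SGT Cfsg.Agent.Lib.H19.ModRep
  Cfsg.Agent.Lib.H1 Cfsg.Agent.Lib.H1.QuadMul

universe u uΓ

section linear

variable {k : Type*} [Field k] {W : Type*} [AddCommGroup W] [Module k W]

/-- the statement of `extra_two` in the form used by `level_two_faithful_of` -/
theorem l1Stmt_of_extra_two [IsAlgClosed k] {Y : Type*} [AddCommGroup Y] [Module k Y]
    [FiniteDimensional k Y] : L1Stmt.{u} k Y := by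
  intro Wl E _ _ hnt hk ρ φ T P hP hPk h R Λ hX hφR hfree hne hfpf
  have := hnt
  exact (Cfsg.Agent.Lib.H19.SGT.extra_two hk hP hPk h hX hφR hfree hne hfpf).1

/-- **L2F** (faithful form). -/
theorem level_two_faithful {Y : Type*} [AddCommGroup Y] [Module k Y] [IsAlgClosed k]
    [FiniteDimensional k Y] {G : Type u} [Group G] [Finite G] {u a : ℕ} [Fact u.Prime]
    (hu2 : u ≠ 2) (ha : 2 ≤ a) (hG : IsPGroup u G) (h2k : (2 : k) ≠ 0) (huk : (u : k) ≠ 0)
    {ρ : Representation k G Y} {φ : MulAut G} {T : Module.End k Y} (h : Tw ρ φ T (2 ^ a))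
    (hfaith : ∀ x, ρ x = 1 → x = 1)
    (hspec : (T - 1) * (T ^ 2 ^ (a - 1) + 1) = 0) :
    (∀ x : G, (φ ^ 2 ^ (a - 1)) x = x) ∨ ∃ m : ℕ, u ^ m = 2 ^ a - 1 :=
  level_two_faithful_of l1Stmt_of_extra_two hu2 ha hG h2k huk h hfaith hspec

/-- **L2** (general form). -/
theorem level_two {Y : Type*} [AddCommGroup Y] [Module k Y] [IsAlgClosed k]
    [FiniteDimensional k Y] {G : Type u} [Group G] [Finite G] {u a : ℕ} [Fact u.Prime]
    (hu2 : u ≠ 2) (ha : 2 ≤ a) (hG : IsPGroup u G) (h2k : (2 : k) ≠ 0) (huk : (u : k) ≠ 0)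
    {ρ : Representation k G Y} {φ : MulAut G} {T : Module.End k Y} (h : Tw ρ φ T (2 ^ a))
    (hspec : (T - 1) * (T ^ 2 ^ (a - 1) + 1) = 0) :
    (∀ x : G, ρ ((φ ^ 2 ^ (a - 1)) x) = ρ x) ∨ ∃ m : ℕ, u ^ m = 2 ^ a - 1 :=
  level_two_of l1Stmt_of_extra_two hu2 ha hG h2k huk h hspec

end linear

end Cfsg.Agent.Lib.H3.SGT
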