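import Mathlib

/-! S3626 piece SDP (architect helper4): generalities on semidirect products. -/

set_option autoImplicit false

namespace Cfsg.Agent.Lib.H3.RS

/-- SDP-a: if `N` is commutative and `φ g` fixes only `1`, then `⟨n, g⟩` has the order of `g`. -/
theorem sdp_orderOf_of_fixedfree {N G : Type*} [Group N] [Group G] (φ : G →* MulAut N)
    (hN : ∀ a b : N, a * b = b * a) (g : G) (hg : ∀ n : N, φ g n = n → n = 1) (n : N) :
    orderOf (⟨n, g⟩ : N ⋊[φ] G) = orderOf g := by
  set y : N ⋊[φ] G := ⟨n, g⟩ with hy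
  have hr : SemidirectProduct.rightHom y = g := rfl
  have key : ∀ k : ℕ, g ^ k = 1 → y ^ k = 1 := by
    intro k hk
    have h1 : (y ^ k).right = 1 := by
      have : SemidirectProduct.rightHom (y ^ k) = g ^ k := by rw [map_pow, hr]
      rw [← hk]; exact this
    have hc : y * y ^ k = y ^ k * y := (pow_mul_comm' y k).symm
    have hl := congrArg SemidirectProduct.left hc
    rw [SemidirectProduct.mul_left, SemidirectProduct.mul_left, h1, map_one] at hl
    have hl' : n * (φ g) (y ^ k).left = (y ^ k).left * n := hl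
    rw [hN (y ^ k).left n] at hl'
    have hu : (y ^ k).left = 1 := hg _ (mul_left_cancel hl')
    exact SemidirectProduct.ext hu h1
  apply Nat.dvd_antisymm
  · exact orderOf_dvd_of_pow_eq_one (key _ (pow_orderOf_eq_one g))
  · have := orderOf_map_dvd (SemidirectProduct.rightHom : N ⋊[φ] G →* G) y
    rwa [hr] at this

/-- SDP-b: if `N` has exponent dividing `p` and `g ^ k = 1`, then `⟨n, g⟩ ^ (k * p) = 1`. -/
theorem sdp_pow_eq_one {N G : Type*} [Group N] [Group G] (φ : G →* MulAut N) (p k : ℕ)
    (hp : ∀ n : N, n ^ p = 1) (n : N) (g : G) (hg : g ^ k = 1) :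
    (⟨n, g⟩ : N ⋊[φ] G) ^ (k * p) = 1 := by
  set y : N ⋊[φ] G := ⟨n, g⟩ with hy
  have hr : SemidirectProduct.rightHom y = g := rfl
  have h1 : (y ^ k).right = 1 := by
    have : SemidirectProduct.rightHom (y ^ k) = g ^ k := by rw [map_pow, hr]
    rw [← hg]; exact this
  have h2 : y ^ k = SemidirectProduct.inl (y ^ k).left := by
    apply SemidirectProduct.ext
    · simp
    · simpa using h1
  rw [pow_mul, h2, ← map_pow, hp, map_one]

end Cfsg.Agent.Lib.H3.RS
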