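import Mathlib

set_option autoImplicit false

/-!
# Double coset closure criterion

`G` a group acting on `P`, `M` a finite subgroup fixing `α`, `t : G`.  If the union `X` of the
double cosets `M u_j M` is mapped into itself by `t` (checked on few representatives, using a
subgroup `K` of `M` with `t K t⁻¹ ≤ M` covering `M` by cosets `K a_i`), then `X` contains
`⟨M, t⟩` and the stabilizer of `α` in `⟨M, t⟩` is `M`.
-/

namespace Cfsg.Agent.Lib.H3.DC

open Subgroup

variable {G : Type*} [Group G] {P : Type*} [MulAction G P]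

/-- the union of the double cosets `M u_j M` -/
def dcSet {ι : Type*} (M : Subgroup G) (u : ι → G) : Set G :=
  {g | ∃ j, ∃ m1 ∈ M, ∃ m2 ∈ M, g = m1 * u j * m2}

theorem closure_le_dcSet {ι κ : Type*} (M : Subgroup G) (t : G) (ht : IsOfFinOrder t)
    (u : ι → G) (a : κ → G)
    (h0 : ∃ j0, u j0 = 1)
    (hcov : ∀ m ∈ M, ∃ i, ∃ k ∈ M, m = k * a i ∧ t * k * t⁻¹ ∈ M)
    (hiv : ∀ i j, t * a i * u j ∈ dcSet M u) :
    ∀ g ∈ Subgroup.closure ((M : Set G) ∪ {t}), g ∈ dcSet M u := by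
  classical
  -- `Y` : elements mapping `X` into `X` by left multiplication
  have hMX : ∀ m ∈ M, ∀ x ∈ dcSet M u, m * x ∈ dcSet M u := by
    rintro m hm x ⟨j, m1, hm1, m2, hm2, rfl⟩
    exact ⟨j, m * m1, M.mul_mem hm hm1, m2, hm2, by group⟩
  have htX : ∀ x ∈ dcSet M u, t * x ∈ dcSet M u := by
    rintro x ⟨j, m1, hm1, m2, hm2, rfl⟩
    obtain ⟨i, k, hk, rfl, hk'⟩ := hcov m1 hm1
    obtain ⟨j', n1, hn1, n2, hn2, he⟩ := hiv i j
    refine ⟨j', (t * k * t⁻¹) * n1, M.mul_mem hk' hn1, n2 * m2, M.mul_mem hn2 hm2, ?_⟩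
    have : t * (k * a i * u j * m2) = (t * k * t⁻¹) * (t * a i * u j) * m2 := by group
    rw [this, he]; group
  -- inverse of `t`
  have htinvX : ∀ x ∈ dcSet M u, t⁻¹ * x ∈ dcSet M u := by
    intro x hx
    obtain ⟨n, hn, hn1⟩ := ht.exists_pow_eq_one
    have hpow : ∀ k : ℕ, t ^ k * x ∈ dcSet M u := by
      intro k
      induction k with
      | zero => simpa using hx
      | succ k ih => rw [pow_succ', mul_assoc]; exact htX _ ih
    have : t⁻¹ = t ^ (n - 1) := by
      have h2 : t ^ (n - 1) * t = 1 := by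
        rw [← pow_succ, Nat.sub_add_cancel hn, hn1]
      exact (eq_inv_of_mul_eq_one_left h2).symm ▸ rfl
    rw [this]; exact hpow _
  have h1X : (1 : G) ∈ dcSet M u := by
    obtain ⟨j0, hj0⟩ := h0
    exact ⟨j0, 1, M.one_mem, 1, M.one_mem, by simp [hj0]⟩
  -- the subgroup of elements preserving `X` in both directions
  let Y : Subgroup G :=
    { carrier := {g | (∀ x ∈ dcSet M u, g * x ∈ dcSet M u) ∧ (∀ x ∈ dcSet M u, g⁻¹ * x ∈ dcSet M u)}
      mul_mem' := by
        rintro y z ⟨hy1, hy2⟩ ⟨hz1, hz2⟩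
        refine ⟨fun x hx => ?_, fun x hx => ?_⟩
        · rw [mul_assoc]; exact hy1 _ (hz1 _ hx)
        · rw [mul_inv_rev, mul_assoc]; exact hz2 _ (hy2 _ hx)
      one_mem' := ⟨fun x hx => by simpa using hx, fun x hx => by simpa using hx⟩
      inv_mem' := by
        rintro y ⟨hy1, hy2⟩
        exact ⟨hy2, fun x hx => by simpa using hy1 x hx⟩ }
  have hle : Subgroup.closure ((M : Set G) ∪ {t}) ≤ Y := by
    rw [Subgroup.closure_le]
    rintro y (hy | hy)
    · exact ⟨hMX y hy, hMX y⁻¹ (M.inv_mem hy)⟩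
    · rw [Set.mem_singleton_iff] at hy; subst hy; exact ⟨htX, htinvX⟩
  intro g hg
  simpa using (hle hg).1 1 h1X

theorem mem_of_dcSet_of_fix {ι : Type*} (M : Subgroup G) (u : ι → G) (α : P)
    (hfix : ∀ m ∈ M, m • α = α) (hne : ∀ j, u j • α = α → u j = 1) :
    ∀ g ∈ dcSet M u, g • α = α → g ∈ M := by
  rintro g ⟨j, m1, hm1, m2, hm2, rfl⟩ hg
  have h1 : u j • α = α := by
    have : m1 • (u j • α) = α := by
      have := hg
      rw [mul_smul, mul_smul, hfix m2 hm2] at this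
      exact this
    have h2 : m1⁻¹ • (m1 • (u j • α)) = m1⁻¹ • α := by rw [this]
    rw [inv_smul_smul] at h2
    rw [h2, hfix _ (M.inv_mem hm1)]
  rw [hne j h1, mul_one]
  exact M.mul_mem hm1 hm2

theorem cover_of_orbit {κ : Type*} (M : Subgroup G) (t : G) (β : P) (a : κ → G)
    (ha : ∀ i, a i ∈ M)
    (hB : ∀ m ∈ M, ∃ i, m⁻¹ • β = (a i)⁻¹ • β)
    (hK : ∀ k ∈ M, k • β = β → t * k * t⁻¹ ∈ M) :
    ∀ m ∈ M, ∃ i, ∃ k ∈ M, m = k * a i ∧ t * k * t⁻¹ ∈ M := by
  intro m hm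
  obtain ⟨i, hi⟩ := hB m hm
  have hk : m * (a i)⁻¹ ∈ M := M.mul_mem hm (M.inv_mem (ha i))
  refine ⟨i, m * (a i)⁻¹, hk, by group, hK _ hk ?_⟩
  rw [mul_smul, ← hi, smul_inv_smul]

/-- the stabilizer of `α` in `H = ⟨M, t⟩` is `M`, hence `|H| = |H α| |M|` -/
theorem card_closure_eq {ι κ : Type*} (M : Subgroup G) [Finite M] (t : G) (ht : IsOfFinOrder t)
    (u : ι → G) (a : κ → G) (α : P)
    (h0 : ∃ j0, u j0 = 1)
    (hcov : ∀ m ∈ M, ∃ i, ∃ k ∈ M, m = k * a i ∧ t * k * t⁻¹ ∈ M)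
    (hiv : ∀ i j, t * a i * u j ∈ dcSet M u)
    (hfix : ∀ m ∈ M, m • α = α) (hne : ∀ j, u j • α = α → u j = 1) :
    Nat.card (Subgroup.closure ((M : Set G) ∪ {t})) =
      Nat.card (MulAction.orbit (Subgroup.closure ((M : Set G) ∪ {t})) α) * Nat.card M := by
  classical
  set H := Subgroup.closure ((M : Set G) ∪ {t}) with hH
  have hMH : M ≤ H := fun m hm => Subgroup.subset_closure (Or.inl hm)
  have hstab : ∀ g ∈ H, g • α = α → g ∈ M := fun g hg hga =>
    mem_of_dcSet_of_fix M u α hfix hne g (closure_le_dcSet M t ht u a h0 hcov hiv g hg) hga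
  -- the stabilizer of `α` in `H` is equivalent to `M`
  have e : MulAction.stabilizer H α ≃ M :=
    { toFun := fun g => ⟨(g : H), hstab _ (g : H).2 (by
          have := g.2
          rw [MulAction.mem_stabilizer_iff] at this
          exact this)⟩
      invFun := fun m => ⟨⟨(m : G), hMH m.2⟩, by
          rw [MulAction.mem_stabilizer_iff]
          exact hfix _ m.2⟩
      left_inv := fun g => by ext; rfl
      right_inv := fun m => by ext; rfl }
  rw [← Nat.card_congr (MulAction.orbitProdStabilizerEquivGroup H α), Nat.card_prod, Nat.card_congr e]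

end Cfsg.Agent.Lib.H3.DC
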