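import Mathlib
import Cfsg.Agent.Lib.H3.DC1

set_option autoImplicit false

/-!
# Computational models of finite groups and listed subgroups

A `Model` encodes elements of a group `G` acting on `P` by lists of naturals (codes) with
computable multiplication and action on point codes.  `ListedData` is a certificate that the
subgroup generated by given elements consists exactly of `n` listed elements.
All functions are written for fast kernel evaluation (strict `force`).
-/

namespace Cfsg.Agent.Lib.H3.DC

/-- evaluate `n` before continuing with `k n` -/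
def force {β : Type} (n : ℕ) (k : ℕ → β) : β :=
  Nat.rec (motive := fun _ => β) (k 0) (fun m _ => k (Nat.succ m)) n

@[simp] theorem force_eq {β : Type} (n : ℕ) (k : ℕ → β) : force n k = k n := by
  cases n <;> rfl

/-- `∀ i < n, f i` as a strict loop -/
def allLt : ℕ → (ℕ → Bool) → Bool
  | 0, _ => true
  | n + 1, f => cond (f n) (allLt n f) false

theorem allLt_iff (n : ℕ) (f : ℕ → Bool) : allLt n f = true ↔ ∀ i < n, f i = true := by
  induction n with
  | zero => simp [allLt]
  | succ n ih =>
    rw [allLt]
    constructor
    · intro h i hi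
      cases hf : f n
      · rw [hf] at h; exact absurd h (by simp)
      · rw [hf] at h
        rcases Nat.lt_succ_iff_lt_or_eq.mp hi with h1 | h1
        · exact ih.mp h i h1
        · rw [h1]; exact hf
    · intro h
      rw [h n (Nat.lt_succ_self n)]
      exact ih.mpr fun i hi => h i (Nat.lt_succ_of_lt hi)

theorem lt_of_blt {a b : ℕ} (h : Nat.blt a b = true) : a < b := Nat.le_of_ble_eq_true h

/-- equality test on codes -/
def beqL : List ℕ → List ℕ → Bool
  | [], [] => true
  | a :: as, b :: bs => cond (Nat.beq a b) (beqL as bs) false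
  | _, _ => false

theorem eq_of_beqL : ∀ (a b : List ℕ), beqL a b = true → a = b
  | [], [], _ => rfl
  | [], _ :: _, h => by simp [beqL] at h
  | _ :: _, [], h => by simp [beqL] at h
  | a :: as, b :: bs, h => by
    rw [beqL] at h
    cases hab : Nat.beq a b
    · rw [hab] at h; exact absurd h (by simp)
    · rw [hab] at h
      rw [Nat.eq_of_beq_eq_true hab, eq_of_beqL as bs h]

theorem beqL_refl : ∀ a : List ℕ, beqL a a = true
  | [] => rfl
  | a :: as => by rw [beqL, Nat.beq_refl]; exact beqL_refl as

/-- perfect binary trees for indexed storage -/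
inductive BT (α : Type) where
  | leaf : α → BT α
  | node : BT α → BT α → BT α

/-- `t.get h i`: the leaf number `i`, where the left subtree of `t` has `h` leaves -/
def BT.get {α : Type} : BT α → ℕ → ℕ → α
  | .leaf a, _, _ => a
  | .node l r, h, i =>
    force (Nat.div h 2) fun h' =>
      cond (Nat.ble h i) (force (Nat.sub i h) fun i' => r.get h' i') (l.get h' i)

/-- the `k`-th 16-bit field of a packed natural -/
def fld (v k : ℕ) : ℕ := Nat.mod (Nat.shiftRight v (Nat.mul 16 k)) 65536

/-- auxiliary function for `keyF` -/
def keyAux : List ℕ → ℕ → ℕ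
  | [], a => a
  | x :: xs, a => force (Nat.add (Nat.mul a 1180591620717411303424) x) fun a' => keyAux xs a'

/-- a key for lists of naturals below `2 ^ 70` -/
def keyF (l : List ℕ) : ℕ := keyAux l 0

/-- a computational model of a group action -/
structure Model (G : Type) [Group G] (P : Type) [MulAction G P] where
  code : G → List ℕ
  enc : P → ℕ
  mulE : List ℕ → List ℕ → List ℕ
  actE : List ℕ → ℕ → ℕ
  oneE : List ℕ
  code_inj : Function.Injective code
  enc_inj : Function.Injective enc
  code_one : code 1 = oneE
  code_mul : ∀ g h, code (g * h) = mulE (code g) (code h)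
  enc_smul : ∀ g p, enc (g • p) = actE (code g) (enc p)

section closure

variable {G : Type*} [Group G]

/-- a set containing `1` and stable under left multiplication by generators of finite order
contains the generated subgroup -/
theorem closure_subset_of_mul_mem {S : Set G} {L : Set G}
    (hfin : ∀ s ∈ S, IsOfFinOrder s) (h1 : (1 : G) ∈ L)
    (hS : ∀ s ∈ S, ∀ x ∈ L, s * x ∈ L) : ∀ g ∈ Subgroup.closure S, g ∈ L := by
  have hinv : ∀ s ∈ S, ∀ x ∈ L, s⁻¹ * x ∈ L := by
    intro s hs x hx
    obtain ⟨n, hn, hn1⟩ := (hfin s hs).exists_pow_eq_one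
    have hpow : ∀ k : ℕ, s ^ k * x ∈ L := by
      intro k
      induction k with
      | zero => simpa using hx
      | succ k ih => rw [pow_succ', mul_assoc]; exact hS s hs _ ih
    have : s⁻¹ = s ^ (n - 1) := by
      have h2 : s ^ (n - 1) * s = 1 := by
        rw [← pow_succ, Nat.sub_add_cancel hn, hn1]
      exact (eq_inv_of_mul_eq_one_left h2).symm ▸ rfl
    rw [this]; exact hpow _
  intro g hg
  have key : ∀ x ∈ L, g * x ∈ L := by
    induction hg using Subgroup.closure_induction_left with
    | one => intro x hx; simpa using hx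
    | mul_left s hs y _ ih => intro x hx; rw [mul_assoc]; exact hS s hs _ (ih x hx)
    | inv_mul_cancel s hs y _ ih => intro x hx; rw [mul_assoc]; exact hinv s hs _ (ih x hx)
  simpa using key 1 h1

end closure

/-- certificate data for a listed subgroup -/
structure Listed where
  n : ℕ
  ng : ℕ
  gen : ℕ → List ℕ
  elt : ℕ → List ℕ
  keyF : List ℕ → ℕ
  tab : ℕ → ℕ → ℕ
  i1 : ℕ
  dep : ℕ → ℕ
  par : ℕ → ℕ
  pg : ℕ → ℕ

namespace Listed

variable {G : Type} [Group G] {P : Type} [MulAction G P]

/-- the identity is listed -/
def check1 (M : Model G P) (L : Listed) : Bool :=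
  Nat.blt L.i1 L.n && beqL (L.elt L.i1) M.oneE

/-- the Cayley table of generator `k` -/
def check2 (M : Model G P) (L : Listed) (k : ℕ) : Bool :=
  allLt L.n fun i =>
    Nat.blt (L.tab k i) L.n && beqL (M.mulE (L.gen k) (L.elt i)) (L.elt (L.tab k i))

/-- the keys are strictly increasing -/
def check3 (L : Listed) : Bool :=
  allLt (L.n - 1) fun i => Nat.blt (L.keyF (L.elt i)) (L.keyF (L.elt (i + 1)))

/-- every element is reachable from the identity -/
def check4 (L : Listed) : Bool :=
  allLt L.n fun i =>
    Nat.beq i L.i1 ||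
      (Nat.blt (L.par i) L.n && Nat.blt (L.pg i) L.ng && Nat.blt (L.dep (L.par i)) (L.dep i) &&
        Nat.beq (L.tab (L.pg i) (L.par i)) i)

theorem key_lt (L : Listed) (h3 : L.check3 = true) :
    ∀ i j, i < j → j < L.n → L.keyF (L.elt i) < L.keyF (L.elt j) := by
  have h := (allLt_iff _ _).mp h3
  intro i j hij hj
  induction j with
  | zero => exact absurd hij (Nat.not_lt_zero _)
  | succ j ih =>
    have hstep : L.keyF (L.elt j) < L.keyF (L.elt (j + 1)) := by
      have := h j (by omega)
      exact lt_of_blt this
    rcases Nat.lt_succ_iff_lt_or_eq.mp hij with h1 | h1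
    · exact lt_trans (ih h1 (by omega)) hstep
    · rw [h1]; exact hstep

theorem elt_injOn (L : Listed) (h3 : L.check3 = true) :
    ∀ i j, i < L.n → j < L.n → L.elt i = L.elt j → i = j := by
  intro i j hi hj he
  by_contra hne
  rcases Nat.lt_or_gt_of_ne hne with h | h
  · have := key_lt L h3 i j h hj; rw [he] at this; exact lt_irrefl _ this
  · have := key_lt L h3 j i h hi; rw [he] at this; exact lt_irrefl _ this

variable (M : Model G P) (L : Listed) (gs : ℕ → G)

/-- the set of generators -/
def genSet (L : Listed) (gs : ℕ → G) : Set G := {g | ∃ k, k < L.ng ∧ g = gs k}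

theorem exists_of_lt (hgs : ∀ k < L.ng, M.code (gs k) = L.gen k)
    (h1 : L.check1 M = true) (h2 : ∀ k < L.ng, L.check2 M k = true) (h4 : L.check4 = true) :
    ∀ i < L.n, ∃ g ∈ Subgroup.closure (genSet L gs), M.code g = L.elt i := by
  have h4' := (allLt_iff _ _).mp h4
  have key : ∀ d i, i < L.n → L.dep i ≤ d →
      ∃ g ∈ Subgroup.closure (genSet L gs), M.code g = L.elt i := by
    intro d
    induction d with
    | zero =>
      intro i hi hd
      have := h4' i hi
      rw [Bool.or_eq_true] at this
      rcases this with h | h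
      · have hi1 : i = L.i1 := Nat.eq_of_beq_eq_true h
        refine ⟨1, Subgroup.one_mem _, ?_⟩
        rw [M.code_one, hi1]
        have := h1
        rw [check1, Bool.and_eq_true] at this
        exact (eq_of_beqL _ _ this.2).symm
      · simp only [Bool.and_eq_true] at h
        have : L.dep (L.par i) < L.dep i := lt_of_blt h.1.2
        omega
    | succ d ih =>
      intro i hi hd
      have := h4' i hi
      rw [Bool.or_eq_true] at this
      rcases this with h | h
      · have hi1 : i = L.i1 := Nat.eq_of_beq_eq_true h
        refine ⟨1, Subgroup.one_mem _, ?_⟩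
        rw [M.code_one, hi1]
        have := h1
        rw [check1, Bool.and_eq_true] at this
        exact (eq_of_beqL _ _ this.2).symm
      · simp only [Bool.and_eq_true] at h
        obtain ⟨⟨⟨hp, hg⟩, hdep⟩, htab⟩ := h
        have hp' : L.par i < L.n := lt_of_blt hp
        have hg' : L.pg i < L.ng := lt_of_blt hg
        have hdep' : L.dep (L.par i) < L.dep i :=
          lt_of_blt hdep
        have htab' : L.tab (L.pg i) (L.par i) = i := Nat.eq_of_beq_eq_true htab
        obtain ⟨g, hg1, hg2⟩ := ih (L.par i) hp' (by omega)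
        refine ⟨gs (L.pg i) * g, Subgroup.mul_mem _ (Subgroup.subset_closure ⟨_, hg', rfl⟩) hg1, ?_⟩
        rw [M.code_mul, hgs _ hg', hg2]
        have := (allLt_iff _ _).mp (h2 _ hg') (L.par i) hp'
        rw [Bool.and_eq_true] at this
        rw [eq_of_beqL _ _ this.2, htab']
  intro i hi
  exact key (L.dep i) i hi le_rfl

theorem exists_of_mem [Finite G] (hgs : ∀ k < L.ng, M.code (gs k) = L.gen k)
    (h1 : L.check1 M = true) (h2 : ∀ k < L.ng, L.check2 M k = true) :
    ∀ g ∈ Subgroup.closure (genSet L gs), ∃ i < L.n, M.code g = L.elt i := by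
  apply closure_subset_of_mul_mem (L := {g | ∃ i < L.n, M.code g = L.elt i})
  · intro s _; exact isOfFinOrder_of_finite s
  · have := h1
    rw [check1, Bool.and_eq_true] at this
    exact ⟨L.i1, lt_of_blt this.1, by
      rw [M.code_one]; exact (eq_of_beqL _ _ this.2).symm⟩
  · rintro s ⟨k, hk, rfl⟩ x ⟨i, hi, hx⟩
    have := (allLt_iff _ _).mp (h2 k hk) i hi
    rw [Bool.and_eq_true] at this
    refine ⟨L.tab k i, lt_of_blt this.1, ?_⟩
    rw [M.code_mul, hgs k hk, hx]
    exact eq_of_beqL _ _ this.2

theorem card_closure [Finite G] (hgs : ∀ k < L.ng, M.code (gs k) = L.gen k)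
    (h1 : L.check1 M = true) (h2 : ∀ k < L.ng, L.check2 M k = true) (h3 : L.check3 = true)
    (h4 : L.check4 = true) :
    Nat.card (Subgroup.closure (genSet L gs)) = L.n := by
  classical
  have ha := exists_of_lt M L gs hgs h1 h2 h4
  have hb := exists_of_mem M L gs hgs h1 h2
  let f : Fin L.n → Subgroup.closure (genSet L gs) := fun i =>
    ⟨(ha i i.2).choose, (ha i i.2).choose_spec.1⟩
  have hf : ∀ i : Fin L.n, M.code (f i : G) = L.elt i := fun i => (ha i i.2).choose_spec.2
  have hbij : Function.Bijective f := by
    constructor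
    · intro i j hij
      have : L.elt i = L.elt j := by rw [← hf i, ← hf j, hij]
      exact Fin.ext (elt_injOn L h3 i j i.2 j.2 this)
    · intro g
      obtain ⟨i, hi, hgi⟩ := hb g g.2
      refine ⟨⟨i, hi⟩, Subtype.ext (M.code_inj ?_)⟩
      rw [hf ⟨i, hi⟩, hgi]
  rw [← Nat.card_congr (Equiv.ofBijective f hbij), Nat.card_fin]

end Listed

end Cfsg.Agent.Lib.H3.DC
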