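import Mathlib
import Cfsg.Prelude.Def_Spor_J3
import Cfsg.Agent.Lib.H3.DC2
import Cfsg.Agent.Lib.H3.F4a

set_option autoImplicit false

/-!
# The computational model of `GL₉(𝔽₄)` acting on `𝔽₄⁹`

A vector is packed into 18 bits (two bits per coordinate), a matrix is the list of the 18 images
of the `𝔽₂`-basis `e_p, ω e_p`.
-/

namespace Cfsg.Agent.Lib.H3.F4

open Cfsg.Agent.Lib.H3.DC Cfsg.Spor Matrix

/-- little-endian bits to a natural number -/
def ofBits : List Bool → ℕ
  | [] => 0
  | b :: bs => Nat.bit b (ofBits bs)

theorem bit_inj' {a b : Bool} {m n : ℕ} (h : Nat.bit a m = Nat.bit b n) : a = b ∧ m = n := by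
  have h1 := congrArg (· % 2) h
  have h2 := congrArg (· / 2) h
  simp only [Nat.bit_mod_two, Nat.bit_div_two] at h1 h2
  refine ⟨?_, h2⟩
  cases a <;> cases b <;> simp_all

theorem ofBits_inj : ∀ (l1 l2 : List Bool), l1.length = l2.length → ofBits l1 = ofBits l2 → l1 = l2
  | [], [], _, _ => rfl
  | [], _ :: _, h, _ => by simp at h
  | _ :: _, [], h, _ => by simp at h
  | a :: as, b :: bs, h, he => by
    obtain ⟨h1, h2⟩ := bit_inj' he
    rw [h1, ofBits_inj as bs (by simpa using h) h2]

theorem ofBits_xor : ∀ (l1 l2 : List Bool), l1.length = l2.length →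
    ofBits (List.zipWith xor l1 l2) = ofBits l1 ^^^ ofBits l2
  | [], [], _ => rfl
  | [], _ :: _, h => by simp at h
  | _ :: _, [], h => by simp at h
  | a :: as, b :: bs, h => by
    simp only [List.zipWith_cons_cons, ofBits]
    rw [Nat.xor_bit, ofBits_xor as bs (by simpa using h)]

/-- xor of the selected entries -/
def xorSel : List ℕ → ℕ → ℕ → ℕ
  | [], _, acc => acc
  | c :: cs, v, acc =>
      force (Nat.shiftRight v 1) fun v' =>
      cond (Nat.beq (Nat.land v 1) 1)
        (force (Nat.xor acc c) fun acc' => xorSel cs v' acc')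
        (xorSel cs v' acc)

/-- specification of `xorSel` -/
def selXor : List ℕ → List Bool → ℕ
  | c :: cs, b :: bs => (if b then c else 0) ^^^ selXor cs bs
  | _, _ => 0

theorem xorSel_spec : ∀ (cs : List ℕ) (bs : List Bool) (acc : ℕ), cs.length = bs.length →
    xorSel cs (ofBits bs) acc = acc ^^^ selXor cs bs
  | [], [], acc, _ => by simp [xorSel, selXor]
  | [], _ :: _, _, h => by simp at h
  | _ :: _, [], _, h => by simp at h
  | c :: cs, b :: bs, acc, h => by
    have h1 : Nat.shiftRight (Nat.bit b (ofBits bs)) 1 = ofBits bs := by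
      show (Nat.bit b (ofBits bs)) >>> 1 = _
      rw [Nat.shiftRight_one, Nat.bit_div_two]
    have h2 : Nat.land (Nat.bit b (ofBits bs)) 1 = b.toNat := by
      show (Nat.bit b (ofBits bs)) &&& 1 = _
      rw [Nat.and_one_is_mod, Nat.bit_mod_two]
    have hl : cs.length = bs.length := by simpa using h
    simp only [xorSel, ofBits, force_eq, h1, h2, selXor]
    cases b
    · simp only [Bool.toNat_false, Bool.false_eq_true, if_false]
      rw [show Nat.beq 0 1 = false from rfl, cond_false, xorSel_spec cs bs acc hl]
      simp
    · simp only [Bool.toNat_true, if_true]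
      rw [show Nat.beq 1 1 = true from rfl, cond_true, xorSel_spec cs bs _ hl]
      show (acc ^^^ c) ^^^ selXor cs bs = acc ^^^ (c ^^^ selXor cs bs)
      rw [Nat.xor_assoc]

abbrev V := F9 → F4

/-- the index set in the order `3x + y` -/
def pts : List F9 := [(0, 0), (0, 1), (0, 2), (1, 0), (1, 1), (1, 2), (2, 0), (2, 1), (2, 2)]

theorem mem_pts (p : F9) : p ∈ pts := by
  revert p; decide

theorem pts_nodup : pts.Nodup := by decide

theorem sum_eq_pts {M : Type*} [AddCommMonoid M] (f : F9 → M) :
    ∑ p, f p = (pts.map f).sum := by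
  have : (Finset.univ : Finset F9) = pts.toFinset := by
    ext p; simp [mem_pts]
  rw [this, List.sum_toFinset _ pts_nodup]

/-- the bits of a vector on a list of indices -/
def bitsOn (v : V) (l : List F9) : List Bool := l.flatMap fun p => [F4.lo (v p), F4.hi (v p)]

theorem bitsOn_length (v : V) (l : List F9) : (bitsOn v l).length = 2 * l.length := by
  induction l with
  | nil => rfl
  | cons p l ih => simp only [bitsOn, List.flatMap_cons, List.length_append, List.length_cons,
      List.length_nil] at ih ⊢; omega

/-- the code of a vector -/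
def enc (v : V) : ℕ := ofBits (bitsOn v pts)

theorem bitsOn_add (u v : V) (l : List F9) :
    bitsOn (u + v) l = List.zipWith xor (bitsOn u l) (bitsOn v l) := by
  induction l with
  | nil => rfl
  | cons p l ih =>
    simp only [bitsOn, List.flatMap_cons] at ih ⊢
    rw [ih]
    simp [F4.lo_add, F4.hi_add]

theorem enc_add (u v : V) : enc (u + v) = enc u ^^^ enc v := by
  rw [enc, bitsOn_add, ofBits_xor _ _ (by rw [bitsOn_length, bitsOn_length])]
  rfl

theorem bitsOn_zero (l : List F9) : ofBits (bitsOn 0 l) = 0 := by
  induction l with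
  | nil => rfl
  | cons p l ih =>
    simp only [bitsOn, List.flatMap_cons, List.cons_append, List.nil_append, ofBits] at ih ⊢
    rw [ih]
    rfl

theorem enc_zero : enc 0 = 0 := bitsOn_zero pts

theorem bitsOn_inj (u v : V) (l : List F9) (h : bitsOn u l = bitsOn v l) :
    ∀ p ∈ l, u p = v p := by
  induction l with
  | nil => intro p hp; simp at hp
  | cons q l ih =>
    simp only [bitsOn, List.flatMap_cons, List.cons_append, List.nil_append, List.cons.injEq] at h ih
    intro p hp
    rcases List.mem_cons.mp hp with rfl | hp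
    · exact F4.ext_bits h.1 h.2.1
    · exact ih h.2.2 p hp

theorem enc_inj : Function.Injective enc := by
  intro u v h
  have h1 := ofBits_inj _ _ (by rw [bitsOn_length, bitsOn_length]) h
  funext p
  exact bitsOn_inj u v pts h1 p (mem_pts p)

/-- column `p` of a matrix -/
def col (A : Matrix F9 F9 F4) (p : F9) : V := fun i => A i p

/-- the code of a matrix on a list of indices -/
def codeOn (A : Matrix F9 F9 F4) (l : List F9) : List ℕ :=
  l.flatMap fun p => [enc (col A p), enc (F4.w • col A p)]

/-- the code of a matrix -/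
def codeM (A : Matrix F9 F9 F4) : List ℕ := codeOn A pts

/-- the action on codes -/
def actE (cols : List ℕ) (x : ℕ) : ℕ := xorSel cols x 0

theorem enc_list_sum (l : List V) : enc l.sum = (l.map enc).foldr (· ^^^ ·) 0 := by
  induction l with
  | nil => exact enc_zero
  | cons v l ih => rw [List.sum_cons, enc_add, ih]; rfl

theorem smul_split (x : F4) (c : V) :
    x • c = (if F4.lo x then c else 0) + (if F4.hi x then F4.w • c else 0) := by
  cases x with
  | z => have : (F4.z : F4) = 0 := rfl
         simp [F4.lo, F4.hi, this]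
  | o => have : (F4.o : F4) = 1 := rfl
         simp [F4.lo, F4.hi, this]
  | w => simp [F4.lo, F4.hi]
  | w2 =>
    have : (F4.w2 : F4) = 1 + F4.w := by decide
    simp only [F4.lo, F4.hi, if_true]
    rw [this, add_smul, one_smul]

theorem enc_ite (b : Bool) (c : V) : enc (if b then c else 0) = if b then enc c else 0 := by
  cases b
  · simp [enc_zero]
  · simp

theorem selXor_eq (A : Matrix F9 F9 F4) (v : V) (l : List F9) :
    selXor (codeOn A l) (bitsOn v l) = ((l.map fun p => v p • col A p).map enc).foldr (· ^^^ ·) 0 := by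
  induction l with
  | nil => rfl
  | cons p l ih =>
    simp only [codeOn, bitsOn, List.flatMap_cons, List.cons_append, List.nil_append, selXor,
      List.map_cons, List.foldr_cons] at ih ⊢
    rw [ih, smul_split (v p) (col A p), enc_add, enc_ite, enc_ite, Nat.xor_assoc]

theorem mulVec_eq_list (A : Matrix F9 F9 F4) (v : V) :
    A *ᵥ v = (pts.map fun p => v p • col A p).sum := by
  rw [← sum_eq_pts]
  funext i
  simp only [Matrix.mulVec, dotProduct, Finset.sum_apply, Pi.smul_apply, smul_eq_mul, col]
  exact Finset.sum_congr rfl fun p _ => mul_comm _ _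

theorem codeOn_length (A : Matrix F9 F9 F4) (l : List F9) : (codeOn A l).length = 2 * l.length := by
  induction l with
  | nil => rfl
  | cons p l ih => simp only [codeOn, List.flatMap_cons, List.length_append, List.length_cons,
      List.length_nil] at ih ⊢; omega

theorem enc_mulVec (A : Matrix F9 F9 F4) (v : V) : enc (A *ᵥ v) = actE (codeM A) (enc v) := by
  have h : actE (codeM A) (enc v) = 0 ^^^ selXor (codeOn A pts) (bitsOn v pts) :=
    xorSel_spec _ _ _ (by rw [codeM, codeOn_length, bitsOn_length])
  rw [h, selXor_eq, mulVec_eq_list, enc_list_sum]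
  simp

/-- map with forced values -/
def mapF (f : ℕ → ℕ) : List ℕ → List ℕ
  | [] => []
  | b :: bs => force (f b) fun r => r :: mapF f bs

theorem mapF_eq (f : ℕ → ℕ) (l : List ℕ) : mapF f l = l.map f := by
  induction l with
  | nil => rfl
  | cons b bs ih => simp [mapF, ih]

/-- product of matrix codes -/
def mulE (A B : List ℕ) : List ℕ := mapF (actE A) B

theorem codeOn_inj (A B : Matrix F9 F9 F4) (l : List F9) (h : codeOn A l = codeOn B l) :
    ∀ p ∈ l, col A p = col B p := by
  induction l with
  | nil => intro p hp; simp at hp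
  | cons q l ih =>
    simp only [codeOn, List.flatMap_cons, List.cons_append, List.nil_append, List.cons.injEq] at h ih
    intro p hp
    rcases List.mem_cons.mp hp with rfl | hp
    · exact enc_inj h.1
    · exact ih h.2.2 p hp

theorem codeM_inj : Function.Injective codeM := by
  intro A B h
  ext i p
  exact congrFun (codeOn_inj A B pts h p (mem_pts p)) i

theorem col_mul (A B : Matrix F9 F9 F4) (p : F9) : col (A * B) p = A *ᵥ col B p := by
  funext i
  simp [col, Matrix.mul_apply, Matrix.mulVec, dotProduct]

theorem codeOn_mul (A B : Matrix F9 F9 F4) (l : List F9) :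
    codeOn (A * B) l = (codeOn B l).map (actE (codeM A)) := by
  induction l with
  | nil => rfl
  | cons p l ih =>
    simp only [codeOn, List.flatMap_cons, List.cons_append, List.nil_append, List.map_cons] at ih ⊢
    rw [ih, col_mul, enc_mulVec, ← Matrix.mulVec_smul, enc_mulVec]

theorem codeM_mul (A B : Matrix F9 F9 F4) : codeM (A * B) = mulE (codeM A) (codeM B) := by
  rw [mulE, mapF_eq]
  exact codeOn_mul A B pts

end Cfsg.Agent.Lib.H3.F4
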