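import Mathlib
import Cfsg.Agent.Lib.H3.F4b

set_option autoImplicit false

/-!
# The model of `GL₉(𝔽₄)` on `𝔽₄⁹`
-/

namespace Cfsg.Agent.Lib.H3.F4

open Cfsg.Agent.Lib.H3.DC Cfsg.Spor Matrix

/-- code of the identity matrix -/
def oneE : List ℕ := [1, 2, 4, 8, 16, 32, 64, 128, 256, 512, 1024, 2048, 4096, 8192, 16384, 32768,
  65536, 131072]

theorem codeM_one : codeM 1 = oneE := by decide +kernel

abbrev GG := GL F9 F4

/-- the model of `GL₉(𝔽₄)` on `𝔽₄⁹` -/
def model : Model GG V where
  code g := codeM (g : Matrix F9 F9 F4)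
  enc := enc
  mulE := mulE
  actE := actE
  oneE := oneE
  code_inj := fun g h hgh => Units.ext (codeM_inj hgh)
  enc_inj := enc_inj
  code_one := codeM_one
  code_mul := fun g h => codeM_mul _ _
  enc_smul := fun g v => enc_mulVec _ _

/-- a matrix with a right inverse on the level of codes is a unit -/
theorem mul_eq_one_of_code (A B : Matrix F9 F9 F4) (h : mulE (codeM A) (codeM B) = oneE) :
    A * B = 1 := by
  apply codeM_inj
  rw [codeM_mul, h, codeM_one]

end Cfsg.Agent.Lib.H3.F4
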