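import Mathlib
import Cfsg.Agent.Lib.H3.F4c

set_option autoImplicit false

/-!
# The Hermitian form on `𝔽₄⁹` and the number of isotropic vectors
-/

namespace Cfsg.Agent.Lib.H3.F4

open Cfsg.Spor Matrix

/-- the Hermitian form `∑ u_p v_p²` -/
def herm (u v : V) : F4 := ∑ p, u p * (v p) ^ 2

/-- the norm `∑ v_p³` -/
def nrm (v : V) : F4 := ∑ p, (v p) ^ 3

theorem nrm_eq_herm (v : V) : nrm v = herm v v := by
  unfold nrm herm
  exact Finset.sum_congr rfl fun p _ => by ring

/-- squaring as an additive map -/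
def sqHom : F4 →+ F4 where
  toFun x := x ^ 2
  map_zero' := by decide
  map_add' := by decide

theorem sq_sum {ι : Type*} (s : Finset ι) (f : ι → F4) : (∑ i ∈ s, f i) ^ 2 = ∑ i ∈ s, (f i) ^ 2 :=
  map_sum sqHom f s

/-- a matrix is unitary if `∑_p A_{pi} A_{pj}² = δ_{ij}` -/
def IsUnitary (A : Matrix F9 F9 F4) : Prop :=
  ∀ i j, ∑ p, A p i * (A p j) ^ 2 = if i = j then 1 else 0

instance (A : Matrix F9 F9 F4) : Decidable (IsUnitary A) := by
  unfold IsUnitary; infer_instance

theorem herm_mulVec (A : Matrix F9 F9 F4) (hA : IsUnitary A) (u v : V) :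
    herm (A *ᵥ u) (A *ᵥ v) = herm u v := by
  unfold herm
  simp only [Matrix.mulVec, dotProduct]
  calc ∑ p, (∑ i, A p i * u i) * (∑ j, A p j * v j) ^ 2
      = ∑ p, ∑ i, ∑ j, (A p i * u i) * ((A p j) ^ 2 * (v j) ^ 2) := by
        refine Finset.sum_congr rfl fun p _ => ?_
        rw [sq_sum, Finset.sum_mul_sum]
        refine Finset.sum_congr rfl fun i _ => Finset.sum_congr rfl fun j _ => ?_
        rw [mul_pow]
    _ = ∑ i, ∑ j, (u i * (v j) ^ 2) * ∑ p, A p i * (A p j) ^ 2 := by
        rw [Finset.sum_comm]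
        refine Finset.sum_congr rfl fun i _ => ?_
        rw [Finset.sum_comm]
        refine Finset.sum_congr rfl fun j _ => ?_
        rw [Finset.mul_sum]
        refine Finset.sum_congr rfl fun p _ => ?_
        ring
    _ = ∑ i, u i * (v i) ^ 2 := by
        refine Finset.sum_congr rfl fun i _ => ?_
        simp only [hA i]
        simp

theorem nrm_mulVec (A : Matrix F9 F9 F4) (hA : IsUnitary A) (v : V) : nrm (A *ᵥ v) = nrm v := by
  rw [nrm_eq_herm, nrm_eq_herm, herm_mulVec A hA]

/-! ### Counting isotropic vectors -/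

/-- the sign of an element -/
def eps (x : F4) : ℤ := if x = 0 then 1 else -1

theorem eps_cube (x : F4) : eps (x ^ 3) = eps x := by revert x; decide

theorem cube_mem (x : F4) : x ^ 3 = 0 ∨ x ^ 3 = 1 := by revert x; decide

theorem eps_add {a b : F4} (ha : a = 0 ∨ a = 1) (hb : b = 0 ∨ b = 1) :
    eps (a + b) = eps a * eps b ∧ (a + b = 0 ∨ a + b = 1) := by
  rcases ha with rfl | rfl <;> rcases hb with rfl | rfl <;> decide

theorem prod_eps (v : V) (s : Finset F9) :
    ∏ p ∈ s, eps (v p) = eps (∑ p ∈ s, (v p) ^ 3) ∧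
      ((∑ p ∈ s, (v p) ^ 3) = 0 ∨ (∑ p ∈ s, (v p) ^ 3) = 1) := by
  classical
  induction s using Finset.induction_on with
  | empty => simp [eps]
  | insert a s ha ih =>
    rw [Finset.prod_insert ha, Finset.sum_insert ha]
    obtain ⟨h1, h2⟩ := eps_add (cube_mem (v a)) ih.2
    refine ⟨?_, h2⟩
    rw [h1, ih.1, eps_cube]

theorem prod_eps_univ (v : V) : ∏ p, eps (v p) = eps (nrm v) := (prod_eps v Finset.univ).1

theorem sum_eps : ∑ x : F4, eps x = -2 := by decide

theorem sum_prod_eps : ∑ v : V, ∏ p, eps (v p) = -512 := by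
  have h := Finset.prod_univ_sum (fun _ : F9 => (Finset.univ : Finset F4)) (fun _ x => eps x)
  rw [Fintype.piFinset_univ] at h
  rw [← h]
  simp only [sum_eps, Finset.prod_const, Finset.card_univ]
  decide

theorem card_V : Fintype.card V = 262144 := by
  rw [Fintype.card_fun, F4.card_eq]
  decide

section Generic

variable {α : Type*} [Fintype α]

theorem card_of_sign_sum (p : α → Prop) [DecidablePred p] (s : ℤ) (n : ℕ)
    (hs : ∑ a, (if p a then (1 : ℤ) else -1) = s) (hn : Fintype.card α = n) :
    2 * (Nat.card {a // p a} : ℤ) = n + s := by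
  have h2 : ∑ a, (if p a then (1 : ℤ) else -1) =
      ((Finset.univ.filter p).card : ℤ) - ((Finset.univ.filter fun a => ¬ p a).card : ℤ) := by
    rw [← Finset.sum_filter_add_sum_filter_not Finset.univ p]
    have e1 : ∑ a ∈ Finset.univ.filter p, (if p a then (1 : ℤ) else -1) =
        ((Finset.univ.filter p).card : ℤ) := by
      rw [Finset.sum_congr rfl (g := fun _ => (1 : ℤ))]
      · simp
      · intro a ha
        rw [Finset.mem_filter] at ha
        rw [if_pos ha.2]
    have e2 : ∑ a ∈ Finset.univ.filter (fun a => ¬ p a), (if p a then (1 : ℤ) else -1) =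
        -((Finset.univ.filter fun a => ¬ p a).card : ℤ) := by
      rw [Finset.sum_congr rfl (g := fun _ => (-1 : ℤ))]
      · simp
      · intro a ha
        rw [Finset.mem_filter] at ha
        rw [if_neg ha.2]
    rw [e1, e2]; ring
  have h3 : (Finset.univ.filter p).card + (Finset.univ.filter fun a => ¬ p a).card = n := by
    rw [Finset.card_filter_add_card_filter_not, Finset.card_univ, hn]
  have h4 : Nat.card {a // p a} = (Finset.univ.filter p).card := by
    rw [Nat.card_eq_fintype_card, Fintype.card_subtype]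
  rw [h4]
  rw [hs] at h2
  omega

theorem card_ne_and (p : α → Prop) (a0 : α) (h0 : p a0) :
    Nat.card {a // a ≠ a0 ∧ p a} + 1 = Nat.card {a // p a} := by
  classical
  have h1 : Nat.card {a // a ≠ a0 ∧ p a} = ({a | p a} \ {a0} : Set α).ncard := by
    rw [← Nat.card_coe_set_eq]
    apply Nat.card_congr
    exact Equiv.subtypeEquivRight fun a => by
      simp only [Set.mem_diff, Set.mem_setOf_eq, Set.mem_singleton_iff]
      tauto
  have h2 : Nat.card {a // p a} = ({a | p a} : Set α).ncard := by
    rw [← Nat.card_coe_set_eq]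
    rfl
  rw [h1, h2]
  exact Set.ncard_diff_singleton_add_one (by exact h0) (Set.toFinite _)

end Generic

/-- the number of isotropic vectors (including `0`) -/
theorem card_iso : Nat.card {v : V // nrm v = 0} = 130816 := by
  have h1 : ∑ v : V, (if nrm v = 0 then (1 : ℤ) else -1) = -512 := by
    rw [← sum_prod_eps]
    exact Finset.sum_congr rfl fun v _ => (prod_eps_univ v).symm
  have := card_of_sign_sum (fun v : V => nrm v = 0) (-512) 262144 h1 card_V
  omega

/-- the number of nonzero isotropic vectors -/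
theorem card_iso_ne_zero : Nat.card {v : V // v ≠ 0 ∧ nrm v = 0} = 130815 := by
  have h0 : nrm (0 : V) = 0 := by simp [nrm]
  have := card_ne_and (fun v : V => nrm v = 0) 0 h0
  rw [card_iso] at this
  omega

end Cfsg.Agent.Lib.H3.F4
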