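import Mathlib
import Cfsg.Agent.Lib.H3.J3Data

set_option autoImplicit false
set_option maxRecDepth 100000

/-! # Kernel evaluation of the `3·J₃` certificate, part 1 -/

namespace Cfsg.Agent.Lib.H3.J3

open Cfsg.Agent.Lib.H3.DC Cfsg.Agent.Lib.H3

theorem LM_check1 : LM.check1 F4.model = true := by decide +kernel
theorem LM_check2_0 : LM.check2 F4.model 0 = true := by decide +kernel
theorem LM_check2_1 : LM.check2 F4.model 1 = true := by decide +kernel
theorem LM_check3 : LM.check3 = true := by decide +kernel
theorem LM_check4 : LM.check4 = true := by decide +kernel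

end Cfsg.Agent.Lib.H3.J3
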