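import Mathlib
import Cfsg.Agent.Lib.H3.J3Data

set_option autoImplicit false
set_option maxRecDepth 100000

/-! # Kernel evaluation of the `3·J₃` certificate, part 3.2 -/

namespace Cfsg.Agent.Lib.H3.J3

open Cfsg.Agent.Lib.H3.DC Cfsg.Agent.Lib.H3

theorem DD_chk7_12 : (allLt 147 fun j => DD.chk7 F4.model 12 j) = true := by
  decide +kernel

theorem DD_chk7_13 : (allLt 147 fun j => DD.chk7 F4.model 13 j) = true := by
  decide +kernel

theorem DD_chk7_14 : (allLt 147 fun j => DD.chk7 F4.model 14 j) = true := by
  decide +kernel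

theorem DD_chk7_15 : (allLt 147 fun j => DD.chk7 F4.model 15 j) = true := by
  decide +kernel

theorem DD_chk7_16 : (allLt 147 fun j => DD.chk7 F4.model 16 j) = true := by
  decide +kernel

theorem DD_chk7_17 : (allLt 147 fun j => DD.chk7 F4.model 17 j) = true := by
  decide +kernel

end Cfsg.Agent.Lib.H3.J3
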