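import Mathlib
import Cfsg.Agent.Lib.H3.J3Data

set_option autoImplicit false
set_option maxRecDepth 100000

/-! # The letters: some generators of `3·J₃` as elements of `GL₉(𝔽₄)` -/

namespace Cfsg.Agent.Lib.H3.J3

open Cfsg.Agent.Lib.H3.DC Cfsg.Agent.Lib.H3.F4 Cfsg.Spor Matrix

/-- powers of codes -/
def powE (c : List ℕ) : ℕ → List ℕ
  | 0 => oneE
  | n + 1 => mulE c (powE c n)

theorem codeM_pow (A : Matrix F9 F9 F4) (n : ℕ) : codeM (A ^ n) = powE (codeM A) n := by
  induction n with
  | zero => rw [pow_zero, codeM_one]; rfl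
  | succ n ih => rw [pow_succ', codeM_mul, ih]; rfl

/-- a unit from a matrix of finite order -/
def unitOfPow (A : Matrix F9 F9 F4) (n : ℕ) (h : A ^ (n + 1) = 1) : GG :=
  ⟨A, A ^ n, by rw [← pow_succ', h], by rw [← pow_succ, h]⟩

theorem unitOfPow_val (A : Matrix F9 F9 F4) (n : ℕ) (h : A ^ (n + 1) = 1) :
    ((unitOfPow A n h : GG) : Matrix F9 F9 F4) = A := rfl

theorem unitOfPow_inv (A : Matrix F9 F9 F4) (n : ℕ) (h : A ^ (n + 1) = 1) :
    (((unitOfPow A n h)⁻¹ : GG) : Matrix F9 F9 F4) = A ^ n := rfl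

abbrev mD : Matrix F9 F9 F4 := j3D F4 F4.w (1, 0)
abbrev mB : Matrix F9 F9 F4 := j3B F4 (1, 1)
abbrev mC : Matrix F9 F9 F4 := j3C F4 (1, 0)

theorem code_mD : codeM mD = dE := by decide +kernel
theorem code_mB : codeM mB = bE := by decide +kernel
theorem code_mC : codeM mC = cE := by decide +kernel

theorem pow_of_code (A : Matrix F9 F9 F4) (c : List ℕ) (n : ℕ) (hc : codeM A = c)
    (h : powE c n = oneE) : A ^ n = 1 := by
  apply codeM_inj
  rw [codeM_pow, hc, h, codeM_one]

theorem mD_pow : mD ^ (8 + 1) = 1 := pow_of_code mD dE 9 code_mD (by decide +kernel)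
theorem mB_pow : mB ^ (7 + 1) = 1 := pow_of_code mB bE 8 code_mB (by decide +kernel)
theorem mC_pow : mC ^ (1 + 1) = 1 := pow_of_code mC cE 2 code_mC (by decide +kernel)

/-- the letters as units -/
def gD : GG := unitOfPow mD 8 mD_pow
def gB : GG := unitOfPow mB 7 mB_pow
def gC : GG := unitOfPow mC 1 mC_pow

theorem code_gD : model.code gD = dE := code_mD
theorem code_gB : model.code gB = bE := code_mB
theorem code_gC : model.code gC = cE := code_mC

theorem code_gDi : model.code gD⁻¹ = diE := by
  show codeM (mD ^ 8) = diE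
  rw [codeM_pow, code_mD]
  decide +kernel

theorem code_gBi : model.code gB⁻¹ = biE := by
  show codeM (mB ^ 7) = biE
  rw [codeM_pow, code_mB]
  decide +kernel

/-- the letters -/
def letter (c : ℕ) : GG :=
  if c = 0 then gD else if c = 1 then gB else if c = 2 then gC else if c = 3 then gD⁻¹ else gB⁻¹

/-- the codes of the letters -/
def lcode (c : ℕ) : List ℕ :=
  cond (Nat.beq c 0) dE (cond (Nat.beq c 1) bE (cond (Nat.beq c 2) cE (cond (Nat.beq c 3) diE biE)))

theorem beq_false_of_ne {a b : ℕ} (h : a ≠ b) : Nat.beq a b = false := by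
  cases hb : Nat.beq a b
  · rfl
  · exact absurd (Nat.eq_of_beq_eq_true hb) h

theorem code_letter (c : ℕ) : model.code (letter c) = lcode c := by
  unfold letter lcode
  by_cases h0 : c = 0
  · subst h0; exact code_gD
  · by_cases h1 : c = 1
    · subst h1; exact code_gB
    · by_cases h2 : c = 2
      · subst h2; exact code_gC
      · by_cases h3 : c = 3
        · subst h3; exact code_gDi
        · rw [if_neg h0, if_neg h1, if_neg h2, if_neg h3, beq_false_of_ne h0, beq_false_of_ne h1,
            beq_false_of_ne h2, beq_false_of_ne h3]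
          exact code_gBi

/-- the element spelled by a word -/
def wp (l : List ℕ) : GG := (l.map letter).prod

/-- the code of a word -/
def codeW : List ℕ → List ℕ
  | [] => oneE
  | c :: cs => mulE (lcode c) (codeW cs)

theorem wp_cons (c : ℕ) (cs : List ℕ) : wp (c :: cs) = letter c * wp cs := by simp [wp]

theorem wp_append (l1 l2 : List ℕ) : wp (l1 ++ l2) = wp l1 * wp l2 := by simp [wp]

theorem code_wp (l : List ℕ) : model.code (wp l) = codeW l := by
  induction l with
  | nil => exact model.code_one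
  | cons c cs ih =>
    rw [wp_cons, model.code_mul, code_letter, ih]
    rfl

/-- `3·J₃` over the concrete field -/
abbrev TJ : Subgroup GG := threeJ3 F4 F4.w

theorem gD_mem : gD ∈ TJ := by
  apply Subgroup.subset_closure
  show mD ∈ j3Gens F4 F4.w
  exact Or.inl (Or.inl (Or.inr ⟨_, rfl⟩))

theorem gB_mem : gB ∈ TJ := by
  apply Subgroup.subset_closure
  show mB ∈ j3Gens F4 F4.w
  exact Or.inl (Or.inr ⟨(1, 1), by decide, rfl⟩)

theorem gC_mem : gC ∈ TJ := by
  apply Subgroup.subset_closure
  show mC ∈ j3Gens F4 F4.w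
  exact Or.inr ⟨(1, 0), by decide, rfl⟩

theorem letter_mem (c : ℕ) : letter c ∈ TJ := by
  unfold letter
  split_ifs
  · exact gD_mem
  · exact gB_mem
  · exact gC_mem
  · exact Subgroup.inv_mem _ gD_mem
  · exact Subgroup.inv_mem _ gB_mem

theorem wp_mem (l : List ℕ) : wp l ∈ TJ := by
  induction l with
  | nil => exact Subgroup.one_mem _
  | cons c cs ih => rw [wp_cons]; exact Subgroup.mul_mem _ (letter_mem c) ih

end Cfsg.Agent.Lib.H3.J3
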