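import Mathlib
import Cfsg.Agent.Lib.H3.J3Letters
import Cfsg.Agent.Lib.H3.J3Check1
import Cfsg.Agent.Lib.H3.J3Check2
import Cfsg.Agent.Lib.H3.J3Check30
import Cfsg.Agent.Lib.H3.J3Check31
import Cfsg.Agent.Lib.H3.J3Check32
import Cfsg.Agent.Lib.H3.J3Check33

set_option autoImplicit false
set_option maxRecDepth 100000

/-! # `3·J₃ = ⟨M, t⟩`: validity of the double coset certificate -/

namespace Cfsg.Agent.Lib.H3.J3

open Cfsg.Agent.Lib.H3.DC Cfsg.Agent.Lib.H3.F4 Cfsg.Spor Matrix

theorem codeW_s1 : codeW wS1 = s1E := by decide +kernel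
theorem codeW_s2 : codeW wS2 = s2E := by decide +kernel
theorem codeW_t : codeW wT = tE := by decide +kernel
theorem codeW_w : codeW wW = wE := by decide +kernel

/-- the base vector `e₁ + e₋₁` -/
def alpha : V := fun p => if p = (1, 0) ∨ p = (2, 0) then 1 else 0

theorem enc_alpha : enc alpha = aE := by decide +kernel

/-- generators of `M` -/
def gs (k : ℕ) : GG := if k = 0 then wp wS1 else wp wS2

theorem gs_zero : gs 0 = wp wS1 := if_pos rfl
theorem gs_one : gs 1 = wp wS2 := if_neg (by decide)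

theorem chk7_all : ∀ i < 24, ∀ j < 147, DD.chk7 model i j = true := by
  intro i hi j hj
  have h : ∀ i < 24, (allLt 147 fun j => DD.chk7 model i j) = true := by
    intro i hi
    interval_cases i
    · exact DD_chk7_0
    · exact DD_chk7_1
    · exact DD_chk7_2
    · exact DD_chk7_3
    · exact DD_chk7_4
    · exact DD_chk7_5
    · exact DD_chk7_6
    · exact DD_chk7_7
    · exact DD_chk7_8
    · exact DD_chk7_9
    · exact DD_chk7_10
    · exact DD_chk7_11
    · exact DD_chk7_12
    · exact DD_chk7_13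
    · exact DD_chk7_14
    · exact DD_chk7_15
    · exact DD_chk7_16
    · exact DD_chk7_17
    · exact DD_chk7_18
    · exact DD_chk7_19
    · exact DD_chk7_20
    · exact DD_chk7_21
    · exact DD_chk7_22
    · exact DD_chk7_23
  exact (allLt_iff _ _).mp (h i hi) j hj

theorem valid : DCData.Valid model DD gs (wp wT) (wp wW) alpha where
  hgs := by
    intro k hk
    have hk' : k < 2 := hk
    interval_cases k
    · rw [gs_zero, code_wp, codeW_s1]; rfl
    · rw [gs_one, code_wp, codeW_s2]; rfl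
  ht := by rw [code_wp, codeW_t]; rfl
  hw := by rw [code_wp, codeW_w]; rfl
  hα := enc_alpha
  hL1 := LM_check1
  hL2 := by
    intro k hk
    have hk' : k < 2 := hk
    interval_cases k
    · exact LM_check2_0
    · exact LM_check2_1
  hL3 := LM_check3
  hL4 := LM_check4
  h1 := DD_chk1
  h2 := DD_chk2
  h3 := DD_chk3
  h4 := DD_chk4
  h5 := DD_chk5
  h6 := DD_chk6
  h7 := chk7_all

/-- the group `⟨M, t⟩` of the certificate -/
abbrev HJ : Subgroup GG := DCData.HH DD gs (wp wT)

theorem MM_le_TJ : DCData.MM DD gs ≤ TJ := by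
  unfold DCData.MM
  rw [Subgroup.closure_le]
  rintro g ⟨k, _, rfl⟩
  unfold gs
  split_ifs
  · exact wp_mem _
  · exact wp_mem _

theorem HJ_le_TJ : HJ ≤ TJ := by
  unfold HJ DCData.HH
  rw [Subgroup.closure_le]
  rintro g (hg | hg)
  · exact MM_le_TJ hg
  · rw [Set.mem_singleton_iff] at hg
    rw [hg]; exact wp_mem _

/-- the index `3x + y` of `(x, y)` -/
def idx9 (Z : F9) : ℕ := Z.1.val * 3 + Z.2.val

/-- check of a decomposition `m₁ u_j m₂` -/
def decOK (c : List ℕ) (packed : ℕ) : Bool :=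
  Nat.blt (fld packed 0) DD.r && Nat.blt (fld packed 1) DD.L.n && Nat.blt (fld packed 2) DD.L.n &&
    beqL c (mulE (mulE (DD.L.elt (fld packed 1)) (DD.uE (fld packed 0))) (DD.L.elt (fld packed 2)))

theorem mem_of_decOK (g : GG) (packed : ℕ) (h : decOK (model.code g) packed = true) : g ∈ HJ := by
  simp only [decOK, Bool.and_eq_true] at h
  obtain ⟨⟨⟨h1, h2⟩, h3⟩, h4⟩ := h
  exact valid.mem_HH_of_code g _ _ _ (lt_of_blt h1) (lt_of_blt h2) (lt_of_blt h3)
    (eq_of_beqL _ _ h4)

theorem decA_ok : ∀ Z : F9, decOK (codeM (j3A F4 F4.w Z)) (decA.getD (idx9 Z) 0) = true := by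
  decide +kernel
theorem decE_ok : ∀ Z : F9, decOK (codeM (j3E F4 F4.w Z)) (decE.getD (idx9 Z) 0) = true := by
  decide +kernel
theorem decD_ok : ∀ Z : F9, decOK (codeM (j3D F4 F4.w Z)) (decD.getD (idx9 Z) 0) = true := by
  decide +kernel
theorem decB_ok : ∀ Z : F9, Z ≠ 0 → decOK (codeM (j3B F4 Z)) (decB.getD (idx9 Z) 0) = true := by
  decide +kernel
theorem decC_ok : ∀ Z : F9, Z ≠ 0 → decOK (codeM (j3C F4 Z)) (decC.getD (idx9 Z) 0) = true := by
  decide +kernel

theorem TJ_le_HJ : TJ ≤ HJ := by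
  unfold TJ threeJ3
  rw [Subgroup.closure_le]
  intro g hg
  have hg' : (g : Matrix F9 F9 F4) ∈ j3Gens F4 F4.w := hg
  rcases hg' with (((⟨Z, hZ⟩ | ⟨Z, hZ⟩) | ⟨Z, hZ⟩) | ⟨Z, hZ0, hZ⟩) | ⟨Z, hZ0, hZ⟩
  · exact mem_of_decOK g _ (by show decOK (codeM (g : Matrix F9 F9 F4)) _ = true
                               rw [← hZ]; exact decA_ok Z)
  · exact mem_of_decOK g _ (by show decOK (codeM (g : Matrix F9 F9 F4)) _ = true
                               rw [← hZ]; exact decE_ok Z)
  · exact mem_of_decOK g _ (by show decOK (codeM (g : Matrix F9 F9 F4)) _ = true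
                               rw [← hZ]; exact decD_ok Z)
  · exact mem_of_decOK g _ (by show decOK (codeM (g : Matrix F9 F9 F4)) _ = true
                               rw [hZ]; exact decB_ok Z hZ0)
  · exact mem_of_decOK g _ (by show decOK (codeM (g : Matrix F9 F9 F4)) _ = true
                               rw [hZ]; exact decC_ok Z hZ0)

theorem TJ_eq_HJ : TJ = HJ := le_antisymm TJ_le_HJ HJ_le_TJ

end Cfsg.Agent.Lib.H3.J3
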