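import Mathlib
import Cfsg.Agent.Lib.H3.J3Main1
import Cfsg.Agent.Lib.H3.J3PData
import Cfsg.Agent.Lib.H3.F4Herm

set_option autoImplicit false
set_option maxRecDepth 100000

/-! # The order of `3·J₃` -/

namespace Cfsg.Agent.Lib.H3.J3

open Cfsg.Agent.Lib.H3.DC Cfsg.Agent.Lib.H3.F4 Cfsg.Spor Matrix

theorem uni_mD : IsUnitary mD := by decide +kernel
theorem uni_mB : IsUnitary mB := by decide +kernel
theorem uni_mC : IsUnitary mC := by decide +kernel

theorem smul_def (g : GG) (v : V) : g • v = (g : Matrix F9 F9 F4) *ᵥ v := rfl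

/-- the subgroup of elements preserving the Hermitian form -/
def Uni : Subgroup GG where
  carrier := {g | ∀ u v : V, herm ((g : Matrix F9 F9 F4) *ᵥ u) ((g : Matrix F9 F9 F4) *ᵥ v) = herm u v}
  mul_mem' := by
    intro a b ha hb u v
    rw [Units.val_mul, ← Matrix.mulVec_mulVec, ← Matrix.mulVec_mulVec, ha, hb]
  one_mem' := by
    intro u v
    simp
  inv_mem' := by
    intro a ha u v
    have h := ha ((↑(a⁻¹) : Matrix F9 F9 F4) *ᵥ u) ((↑(a⁻¹) : Matrix F9 F9 F4) *ᵥ v)
    rw [Matrix.mulVec_mulVec, Matrix.mulVec_mulVec, ← Units.val_mul, mul_inv_cancel, Units.val_one,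
      Matrix.one_mulVec, Matrix.one_mulVec] at h
    exact h.symm

theorem gD_uni : gD ∈ Uni := fun u v => herm_mulVec mD uni_mD u v
theorem gB_uni : gB ∈ Uni := fun u v => herm_mulVec mB uni_mB u v
theorem gC_uni : gC ∈ Uni := fun u v => herm_mulVec mC uni_mC u v

theorem letter_uni (c : ℕ) : letter c ∈ Uni := by
  unfold letter
  split_ifs
  · exact gD_uni
  · exact gB_uni
  · exact gC_uni
  · exact Subgroup.inv_mem _ gD_uni
  · exact Subgroup.inv_mem _ gB_uni

theorem wp_uni (l : List ℕ) : wp l ∈ Uni := by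
  induction l with
  | nil => exact Subgroup.one_mem _
  | cons c cs ih => rw [wp_cons]; exact Subgroup.mul_mem _ (letter_uni c) ih

theorem HJ_le_Uni : HJ ≤ Uni := by
  unfold HJ DCData.HH
  rw [Subgroup.closure_le]
  rintro g (hg | hg)
  · have : DCData.MM DD gs ≤ Uni := by
      unfold DCData.MM
      rw [Subgroup.closure_le]
      rintro g ⟨k, _, rfl⟩
      unfold gs
      split_ifs
      · exact wp_uni _
      · exact wp_uni _
    exact this hg
  · rw [Set.mem_singleton_iff] at hg
    rw [hg]; exact wp_uni _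

theorem nrm_alpha : nrm alpha = 0 := by decide +kernel

theorem alpha_ne : alpha ≠ 0 := by
  intro h
  have := congrFun h (1, 0)
  revert this
  decide

theorem nrm_smul (g : GG) (hg : g ∈ HJ) (v : V) : nrm (g • v) = nrm v := by
  rw [nrm_eq_herm, nrm_eq_herm, smul_def]
  exact HJ_le_Uni hg v v

instance : Finite GG := inferInstance

theorem card_orbit_le : Nat.card (MulAction.orbit HJ alpha) ≤ 130815 := by
  rw [← card_iso_ne_zero]
  apply Nat.card_le_card_of_injective
    (fun x : MulAction.orbit HJ alpha => (⟨x.1, by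
      obtain ⟨g, hg⟩ := x.2
      have hx : (x : V) = (g : GG) • alpha := hg.symm
      refine ⟨?_, ?_⟩
      · intro h0
        apply alpha_ne
        have : (g : GG)⁻¹ • ((g : GG) • alpha) = (g : GG)⁻¹ • (0 : V) := by rw [← hx, h0]
        rw [inv_smul_smul] at this
        rw [this, smul_def, Matrix.mulVec_zero]
      · rw [hx, nrm_smul _ g.2, nrm_alpha]⟩ : {v : V // v ≠ 0 ∧ nrm v = 0}))
  intro x y hxy
  apply Subtype.ext
  exact congrArg (fun z : {v : V // v ≠ 0 ∧ nrm v = 0} => z.1) hxy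

/-- the letter `D_{(0,1)}` -/
abbrev mD' : Matrix F9 F9 F4 := j3D F4 F4.w (0, 1)

theorem code_mD' : codeM mD' = d01E := by decide +kernel

theorem mD'_pow : mD' ^ (8 + 1) = 1 := pow_of_code mD' d01E 9 code_mD' (by decide +kernel)

def gD' : GG := unitOfPow mD' 8 mD'_pow

theorem gD'_mem : gD' ∈ TJ := by
  apply Subgroup.subset_closure
  show mD' ∈ j3Gens F4 F4.w
  exact Or.inl (Or.inl (Or.inr ⟨_, rfl⟩))

/-- generators of the `3`-subgroup -/
def gsP (k : ℕ) : GG := if k = 0 then gD else gD'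

theorem gsP_zero : gsP 0 = gD := if_pos rfl
theorem gsP_one : gsP 1 = gD' := if_neg (by decide)

theorem d10E_eq : d10E = dE := by decide

/-- the `3`-subgroup -/
def PP : Subgroup GG := Subgroup.closure (Listed.genSet LP gsP)

theorem card_PP : Nat.card PP = 729 := by
  have := Listed.card_closure model LP gsP (by
      intro k hk
      have hk' : k < 2 := hk
      interval_cases k
      · rw [gsP_zero, code_gD]; exact d10E_eq.symm
      · rw [gsP_one]; exact code_mD')
    LP_check1 (by
      intro k hk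
      have hk' : k < 2 := hk
      interval_cases k
      · exact LP_check2_0
      · exact LP_check2_1) LP_check3 LP_check4
  exact this

theorem PP_le : PP ≤ TJ := by
  unfold PP
  rw [Subgroup.closure_le]
  rintro g ⟨k, hk, rfl⟩
  have hk' : k < 2 := hk
  interval_cases k
  · rw [gsP_zero]; exact gD_mem
  · rw [gsP_one]; exact gD'_mem

theorem wp_pow (l : List ℕ) (n : ℕ) : wp l ^ n = wp (List.flatten (List.replicate n l)) := by
  induction n with
  | zero => simp [wp]
  | succ n ih => rw [pow_succ', ih, List.replicate_succ, List.flatten_cons, wp_append]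

theorem wp_pow_eq_one (l : List ℕ) (n : ℕ)
    (h : codeW (List.flatten (List.replicate n l)) = oneE) : wp l ^ n = 1 := by
  apply model.code_inj
  rw [wp_pow, code_wp, model.code_one]
  exact h

theorem wp_ne_one (l : List ℕ) (h : codeW l ≠ oneE) : wp l ≠ 1 := by
  intro h1
  apply h
  rw [← code_wp, h1, model.code_one]
  rfl

instance fact5 : Fact (Nat.Prime 5) := ⟨by norm_num⟩
instance fact17 : Fact (Nat.Prime 17) := ⟨by norm_num⟩
instance fact19 : Fact (Nat.Prime 19) := ⟨by norm_num⟩

theorem order_w5 : orderOf (wp w5) = 5 :=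
  orderOf_eq_prime (wp_pow_eq_one w5 5 (by decide +kernel)) (wp_ne_one w5 (by decide +kernel))

theorem order_w17 : orderOf (wp w17) = 17 :=
  orderOf_eq_prime (wp_pow_eq_one w17 17 (by decide +kernel)) (wp_ne_one w17 (by decide +kernel))

theorem order_t : orderOf (wp wT) = 19 :=
  orderOf_eq_prime (wp_pow_eq_one wT 19 (by decide +kernel)) (wp_ne_one wT (by decide +kernel))

theorem orderOf_dvd_card_of_mem {G : Type*} [Group G] (H : Subgroup G) [Finite H] (g : G)
    (hg : g ∈ H) : orderOf g ∣ Nat.card H := by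
  have : orderOf (⟨g, hg⟩ : H) = orderOf g := Subgroup.orderOf_mk g hg
  rw [← this]
  exact orderOf_dvd_natCard _

theorem card_arith (n o : ℕ) (h1 : n = o * 1152) (h2 : o ≤ 130815) (h3 : 729 ∣ n) (h5 : 5 ∣ n)
    (h17 : 17 ∣ n) (h19 : 19 ∣ n) (hpos : 0 < n) : n = 150698880 := by
  have h128 : 128 ∣ n := ⟨o * 9, by rw [h1]; ring⟩
  have c1 : Nat.Coprime 128 729 := by norm_num
  have d1 : 128 * 729 ∣ n := c1.mul_dvd_of_dvd_of_dvd h128 h3
  have c2 : Nat.Coprime (128 * 729) 5 := by norm_num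
  have d2 : 128 * 729 * 5 ∣ n := c2.mul_dvd_of_dvd_of_dvd d1 h5
  have c3 : Nat.Coprime (128 * 729 * 5) 17 := by norm_num
  have d3 : 128 * 729 * 5 * 17 ∣ n := c3.mul_dvd_of_dvd_of_dvd d2 h17
  have c4 : Nat.Coprime (128 * 729 * 5 * 17) 19 := by norm_num
  have d4 : 128 * 729 * 5 * 17 * 19 ∣ n := c4.mul_dvd_of_dvd_of_dvd d3 h19
  have hle : 128 * 729 * 5 * 17 * 19 ≤ n := Nat.le_of_dvd hpos d4
  have hle' : 150698880 ≤ n := by
    have e : 128 * 729 * 5 * 17 * 19 = 150698880 := by norm_num
    rw [e] at hle; exact hle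
  have hge : n ≤ 150698880 := by
    rw [h1]
    calc o * 1152 ≤ 130815 * 1152 := Nat.mul_le_mul_right _ h2
      _ = 150698880 := by norm_num
  exact le_antisymm hge hle'

theorem card_TJ : Nat.card TJ = 150698880 := by
  have h1 : Nat.card TJ = Nat.card (MulAction.orbit HJ alpha) * 1152 := by
    rw [TJ_eq_HJ]; exact valid.card_HH
  have h2 := card_orbit_le
  have h3 : 729 ∣ Nat.card TJ := by
    rw [← card_PP]; exact Subgroup.card_dvd_of_le PP_le
  have h5 : 5 ∣ Nat.card TJ := by
    rw [← order_w5]; exact orderOf_dvd_card_of_mem TJ _ (wp_mem _)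
  have h17 : 17 ∣ Nat.card TJ := by
    rw [← order_w17]; exact orderOf_dvd_card_of_mem TJ _ (wp_mem _)
  have h19 : 19 ∣ Nat.card TJ := by
    rw [← order_t]; exact orderOf_dvd_card_of_mem TJ _ (wp_mem _)
  have hpos : 0 < Nat.card TJ := Nat.card_pos
  exact card_arith _ _ h1 h2 h3 h5 h17 h19 hpos

end Cfsg.Agent.Lib.H3.J3
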