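import Mathlib
import Cfsg.Agent.Lib.H3.J3Main2
import Cfsg.Agent.Lib.H3.SimpleP

set_option autoImplicit false
set_option maxRecDepth 100000

/-! # The centre of `3·J₃` and the simplicity of `J₃` -/

namespace Cfsg.Agent.Lib.H3.J3

open Cfsg.Agent.Lib.H3.DC Cfsg.Agent.Lib.H3.F4 Cfsg.Spor Matrix

/-- the scalar matrix `ω` -/
abbrev mOm : Matrix F9 F9 F4 := F4.w • (1 : Matrix F9 F9 F4)

theorem code_mOm : codeM mOm = omE := by decide +kernel

theorem mOm_pow : mOm ^ (2 + 1) = 1 := pow_of_code mOm omE 3 code_mOm (by decide +kernel)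

/-- the scalar `ω` as a unit -/
def gOm : GG := unitOfPow mOm 2 mOm_pow

theorem code_gOm : model.code gOm = omE := code_mOm

theorem gOm_mem_HJ : gOm ∈ HJ :=
  mem_of_decOK gOm (decOm.getD 0 0) (by
    show decOK (codeM mOm) _ = true
    rw [code_mOm]; decide +kernel)

theorem gOm_mem : gOm ∈ TJ := by rw [TJ_eq_HJ]; exact gOm_mem_HJ

theorem gOm_comm (g : GG) : gOm * g = g * gOm := by
  apply Units.ext
  show mOm * (g : Matrix F9 F9 F4) = (g : Matrix F9 F9 F4) * mOm
  rw [smul_mul_assoc, one_mul, mul_smul_comm, mul_one]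

theorem code_gOm2 : model.code (gOm ^ 2) = om2E := by
  rw [pow_two, model.code_mul, code_gOm]
  decide +kernel

theorem gOm_cube : gOm ^ 3 = 1 := by
  apply Units.ext
  rw [Units.val_pow_eq_pow_val]
  exact mOm_pow

theorem gOm_ne_one : gOm ≠ 1 := by
  intro h
  have := congrArg model.code h
  rw [code_gOm, model.code_one] at this
  revert this
  decide

theorem central_cases (z : GG) (hz : z ∈ HJ) (hc : ∀ g ∈ HJ, z * g = g * z) :
    z = 1 ∨ z = gOm ∨ z = gOm ^ 2 := by
  have := valid.central [oneE, omE, om2E] DD_chkC z hz hc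
  simp only [List.mem_cons, List.not_mem_nil, or_false] at this
  rcases this with h | h | h
  · left; apply model.code_inj; rw [h, model.code_one]; rfl
  · right; left; apply model.code_inj; rw [h, code_gOm]
  · right; right; apply model.code_inj; rw [h, code_gOm2]

/-- the scalar as an element of `3·J₃` -/
def zT : TJ := ⟨gOm, gOm_mem⟩

theorem zT_cube : zT ^ 3 = 1 := Subtype.ext gOm_cube

theorem zT_ne_one : zT ≠ 1 := fun h => gOm_ne_one (congrArg Subtype.val h)

theorem orderOf_zT : orderOf zT = 3 := by
  haveI : Fact (Nat.Prime 3) := ⟨by norm_num⟩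
  exact orderOf_eq_prime zT_cube zT_ne_one

theorem center_eq : Subgroup.center TJ = Subgroup.zpowers zT := by
  apply le_antisymm
  · intro x hx
    rw [Subgroup.mem_center_iff] at hx
    have hxH : (x : GG) ∈ HJ := by rw [← TJ_eq_HJ]; exact x.2
    have h := central_cases (x : GG) hxH (by
      intro g hg
      have hgT : g ∈ TJ := by rw [TJ_eq_HJ]; exact hg
      have := hx ⟨g, hgT⟩
      exact (congrArg Subtype.val this).symm)
    rcases h with h | h | h
    · have : x = 1 := Subtype.ext h
      rw [this]; exact Subgroup.one_mem _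
    · have : x = zT := Subtype.ext h
      rw [this]; exact Subgroup.mem_zpowers _
    · have : x = zT ^ 2 := Subtype.ext h
      rw [this]; exact Subgroup.pow_mem _ (Subgroup.mem_zpowers _) 2
  · rw [Subgroup.zpowers_le, Subgroup.mem_center_iff]
    intro g
    apply Subtype.ext
    exact (gOm_comm (g : GG)).symm

theorem card_center : Nat.card (Subgroup.center TJ) = 3 := by
  rw [center_eq, Nat.card_zpowers, orderOf_zT]

instance : Finite TJ := Nat.finite_of_card_ne_zero (by rw [card_TJ]; norm_num)

theorem card_quot : Nat.card (TJ ⧸ Subgroup.center TJ) = 50232960 := by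
  have h := Subgroup.card_eq_card_quotient_mul_card_subgroup (Subgroup.center TJ)
  rw [card_TJ, card_center] at h
  omega

/-! ### generation by elements of order 19 -/

theorem closure_pow_eq_top {G : Type*} [Group G] (H : Subgroup G) (T : Set G) (p : ℕ)
    (hT : ∀ x ∈ T, x ^ p = 1) (hH : H = Subgroup.closure T) :
    Subgroup.closure {x : H | x ^ p = 1} = ⊤ := by
  rw [eq_top_iff]
  rintro ⟨x, hx⟩ _
  have hx' : x ∈ Subgroup.closure T := by rw [← hH]; exact hx
  have key : ∀ y (_ : y ∈ Subgroup.closure T),
      ∀ hyH : y ∈ H, (⟨y, hyH⟩ : H) ∈ Subgroup.closure {z : H | z ^ p = 1} := by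
    intro y hy
    induction hy using Subgroup.closure_induction with
    | mem z hz =>
      intro hzH
      apply Subgroup.subset_closure
      show (⟨z, hzH⟩ : H) ^ p = 1
      apply Subtype.ext
      exact hT z hz
    | one => intro _; exact Subgroup.one_mem _
    | mul a b ha hb iha ihb =>
      intro _
      have haH : a ∈ H := by rw [hH]; exact ha
      have hbH : b ∈ H := by rw [hH]; exact hb
      exact Subgroup.mul_mem _ (iha haH) (ihb hbH)
    | inv a ha iha =>
      intro _
      have haH : a ∈ H := by rw [hH]; exact ha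
      exact Subgroup.inv_mem _ (iha haH)
  exact key x hx' hx

/-- the generators of order 19 -/
def T19 : Set GG := {wp wT, wp wT1a, wp wT1b, wp wT2a, wp wT2b}

theorem T19_pow : ∀ x ∈ T19, x ^ 19 = 1 := by
  rintro x (rfl | rfl | rfl | rfl | hx)
  · exact wp_pow_eq_one wT 19 (by decide +kernel)
  · exact wp_pow_eq_one wT1a 19 (by decide +kernel)
  · exact wp_pow_eq_one wT1b 19 (by decide +kernel)
  · exact wp_pow_eq_one wT2a 19 (by decide +kernel)
  · rw [Set.mem_singleton_iff] at hx
    rw [hx]; exact wp_pow_eq_one wT2b 19 (by decide +kernel)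

theorem s1_eq : wp wS1 = wp wT1a * wp wT1b := by
  apply model.code_inj
  rw [← wp_append, code_wp, code_wp]
  decide +kernel

theorem s2_eq : wp wS2 = wp wT2a * wp wT2b := by
  apply model.code_inj
  rw [← wp_append, code_wp, code_wp]
  decide +kernel

theorem TJ_eq_closure19 : TJ = Subgroup.closure T19 := by
  apply le_antisymm
  · rw [TJ_eq_HJ]
    unfold HJ DCData.HH
    rw [Subgroup.closure_le]
    rintro g (hg | hg)
    · have : DCData.MM DD gs ≤ Subgroup.closure T19 := by
        unfold DCData.MM
        rw [Subgroup.closure_le]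
        rintro g ⟨k, hk, rfl⟩
        have hk' : k < 2 := hk
        interval_cases k
        · rw [gs_zero, s1_eq]
          exact Subgroup.mul_mem _ (Subgroup.subset_closure (by simp [T19]))
            (Subgroup.subset_closure (by simp [T19]))
        · rw [gs_one, s2_eq]
          exact Subgroup.mul_mem _ (Subgroup.subset_closure (by simp [T19]))
            (Subgroup.subset_closure (by simp [T19]))
      exact this hg
    · rw [Set.mem_singleton_iff] at hg
      rw [hg]; exact Subgroup.subset_closure (by simp [T19])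
  · rw [Subgroup.closure_le]
    rintro g (rfl | rfl | rfl | rfl | hg)
    · exact wp_mem _
    · exact wp_mem _
    · exact wp_mem _
    · exact wp_mem _
    · rw [Set.mem_singleton_iff] at hg
      rw [hg]; exact wp_mem _

theorem gen19 : Subgroup.closure {x : TJ | x ^ 19 = 1} = ⊤ :=
  closure_pow_eq_top TJ T19 19 T19_pow TJ_eq_closure19

theorem arith19 : ∀ r : ℕ, r.Prime → r ≠ 19 → ∀ a j : ℕ, r ^ a ∣ 50232960 → j < a →
    ¬ 19 ∣ r ^ (a - j) - 1 := by
  intro r hr hr19 a j hdvd hja
  have ha : 1 ≤ a := by omega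
  have hrd : r ∣ 50232960 := (dvd_pow_self r (by omega)).trans hdvd
  have hfac : (50232960 : ℕ) = 2 ^ 7 * 3 ^ 5 * 5 * 17 * 19 := by norm_num
  have hcases : r = 2 ∨ r = 3 ∨ r = 5 ∨ r = 17 := by
    rw [hfac] at hrd
    rcases (Nat.Prime.dvd_mul hr).mp hrd with h | h
    · rcases (Nat.Prime.dvd_mul hr).mp h with h | h
      · rcases (Nat.Prime.dvd_mul hr).mp h with h | h
        · rcases (Nat.Prime.dvd_mul hr).mp h with h | h
          · left; exact (Nat.prime_dvd_prime_iff_eq hr (by norm_num)).mp (hr.dvd_of_dvd_pow h)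
          · right; left; exact (Nat.prime_dvd_prime_iff_eq hr (by norm_num)).mp (hr.dvd_of_dvd_pow h)
        · right; right; left; exact (Nat.prime_dvd_prime_iff_eq hr (by norm_num)).mp h
      · right; right; right; exact (Nat.prime_dvd_prime_iff_eq hr (by norm_num)).mp h
    · exact absurd ((Nat.prime_dvd_prime_iff_eq hr (by norm_num)).mp h) hr19
  rcases hcases with rfl | rfl | rfl | rfl
  · have ha7 : a ≤ 7 := by
      by_contra hcon
      have : 2 ^ 8 ∣ 50232960 := (pow_dvd_pow 2 (by omega : 8 ≤ a)).trans hdvd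
      norm_num at this
    interval_cases a <;> interval_cases j <;> norm_num
  · have ha5 : a ≤ 5 := by
      by_contra hcon
      have : 3 ^ 6 ∣ 50232960 := (pow_dvd_pow 3 (by omega : 6 ≤ a)).trans hdvd
      norm_num at this
    interval_cases a <;> interval_cases j <;> norm_num
  · have ha1 : a ≤ 1 := by
      by_contra hcon
      have : 5 ^ 2 ∣ 50232960 := (pow_dvd_pow 5 (by omega : 2 ≤ a)).trans hdvd
      norm_num at this
    interval_cases a <;> interval_cases j <;> norm_num
  · have ha1 : a ≤ 1 := by
      by_contra hcon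
      have : 17 ^ 2 ∣ 50232960 := (pow_dvd_pow 17 (by omega : 2 ≤ a)).trans hdvd
      norm_num at this
    interval_cases a <;> interval_cases j <;> norm_num

theorem simple_quot : IsSimpleGroup (TJ ⧸ Subgroup.center TJ) := by
  apply SimpleP.isSimpleGroup_of_prime_generated 19
  · rw [card_quot]; norm_num
  · rw [card_quot]; norm_num
  · exact SimpleP.closure_quotient_eq_top (Subgroup.center TJ) 19 gen19
  · exact SimpleP.center_quotient_eq_bot 19 gen19 (by rw [card_center]; norm_num)
  · rw [card_quot]; exact arith19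

end Cfsg.Agent.Lib.H3.J3
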