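import Mathlib
import Cfsg.Prelude.Def_Spor_J3
import Cfsg.Agent.Lib.H3.F4a
import Cfsg.Agent.Lib.H3.CenterIso

set_option autoImplicit false

/-! # Independence of `3·J₃` of the choice of the field with four elements -/

namespace Cfsg.Agent.Lib.H3.J3T

open Cfsg.Spor Cfsg.Agent.Lib.H3.F4 Matrix

section Maps

variable {K L : Type*} [Field K] [Field L] (ψ : K →+* L) (ω₁ : K) (ω₂ : L) (hω : ψ ω₁ = ω₂)

include hω

theorem map_omegaPow (n : ZMod 3) : ψ (omegaPow K ω₁ n) = omegaPow L ω₂ n := by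
  unfold omegaPow
  rw [map_pow, hω]

theorem map_j3A (Z : F9) : (j3A K ω₁ Z).map ψ = j3A L ω₂ Z := by
  unfold j3A
  rw [Matrix.diagonal_map (map_zero ψ)]
  congr 1
  funext z
  exact map_omegaPow ψ ω₁ ω₂ hω _

theorem map_j3E (Z : F9) : (j3E K ω₁ Z).map ψ = j3E L ω₂ Z := by
  unfold j3E
  rw [Matrix.diagonal_map (map_zero ψ)]
  congr 1
  funext z
  exact map_omegaPow ψ ω₁ ω₂ hω _

theorem map_j3Lam (Z z : F9) : ψ (j3Lam K ω₁ Z z) = j3Lam L ω₂ Z z := by
  unfold j3Lam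
  split_ifs
  · exact map_one ψ
  · exact hω
  · rw [map_pow, hω]
  · exact map_one ψ

theorem map_j3D (Z : F9) : (j3D K ω₁ Z).map ψ = j3D L ω₂ Z := by
  ext a b
  simp only [j3D, Matrix.map_apply, Matrix.of_apply]
  split_ifs
  · exact map_j3Lam ψ ω₁ ω₂ hω Z b
  · exact map_zero ψ

omit hω in
theorem map_j3B (Z : F9) : (j3B K Z).map ψ = j3B L Z := by
  ext a b
  simp only [j3B, Matrix.map_apply, Matrix.of_apply]
  split_ifs
  · exact map_one ψ
  · exact map_zero ψ

omit hω in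
theorem map_j3C (Z : F9) : (j3C K Z).map ψ = j3C L Z := by
  ext a b
  simp only [j3C, Matrix.map_apply, Matrix.of_apply]
  split_ifs
  · exact map_one ψ
  · exact map_zero ψ
  · exact map_one ψ
  · exact map_zero ψ

theorem map_j3Gens (M : Matrix F9 F9 K) (hM : M ∈ j3Gens K ω₁) : M.map ψ ∈ j3Gens L ω₂ := by
  rcases hM with (((⟨Z, rfl⟩ | ⟨Z, rfl⟩) | ⟨Z, rfl⟩) | ⟨Z, hZ0, rfl⟩) | ⟨Z, hZ0, rfl⟩
  · exact Or.inl (Or.inl (Or.inl (Or.inl ⟨Z, (map_j3A ψ ω₁ ω₂ hω Z).symm⟩)))
  · exact Or.inl (Or.inl (Or.inl (Or.inr ⟨Z, (map_j3E ψ ω₁ ω₂ hω Z).symm⟩)))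
  · exact Or.inl (Or.inl (Or.inr ⟨Z, (map_j3D ψ ω₁ ω₂ hω Z).symm⟩))
  · exact Or.inl (Or.inr ⟨Z, hZ0, map_j3B ψ Z⟩)
  · exact Or.inr ⟨Z, hZ0, map_j3C ψ Z⟩

end Maps

section Equiv

variable {K L : Type*} [Field K] [Field L] (φ : K ≃+* L) (ω₁ : K) (ω₂ : L) (hω : φ ω₁ = ω₂)

/-- the induced isomorphism of general linear groups -/
def glEquiv : GL F9 K ≃* GL F9 L := Units.mapEquiv (RingEquiv.mapMatrix φ).toMulEquiv

theorem glEquiv_val (g : GL F9 K) :
    ((glEquiv φ g : GL F9 L) : Matrix F9 F9 L) = (g : Matrix F9 F9 K).map φ := rfl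

theorem glEquiv_symm_val (g : GL F9 L) :
    (((glEquiv φ).symm g : GL F9 K) : Matrix F9 F9 K) = (g : Matrix F9 F9 L).map φ.symm := rfl

include hω

theorem map_threeJ3 : (threeJ3 K ω₁).map (glEquiv φ).toMonoidHom = threeJ3 L ω₂ := by
  unfold threeJ3
  rw [MonoidHom.map_closure]
  congr 1
  ext g
  constructor
  · rintro ⟨h, hh, rfl⟩
    show ((glEquiv φ h : GL F9 L) : Matrix F9 F9 L) ∈ j3Gens L ω₂
    rw [glEquiv_val]
    exact map_j3Gens (φ : K →+* L) ω₁ ω₂ hω _ hh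
  · intro hg
    refine ⟨(glEquiv φ).symm g, ?_, by simp⟩
    show (((glEquiv φ).symm g : GL F9 K) : Matrix F9 F9 K) ∈ j3Gens K ω₁
    rw [glEquiv_symm_val]
    have hω' : (φ.symm : L →+* K) ω₂ = ω₁ := by
      rw [← hω]; exact φ.symm_apply_apply ω₁
    exact map_j3Gens (φ.symm : L →+* K) ω₂ ω₁ hω' _ hg

/-- the isomorphism `3·J₃(K, ω₁) ≃* 3·J₃(L, ω₂)` -/
noncomputable def threeJ3Equiv : threeJ3 K ω₁ ≃* threeJ3 L ω₂ :=
  ((glEquiv φ).subgroupMap (threeJ3 K ω₁)).trans
    (MulEquiv.subgroupCongr (map_threeJ3 φ ω₁ ω₂ hω))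

end Equiv

section Field4

variable (F : Type) [Field F] [Fintype F] (hF : Fintype.card F = 4) (ω : F) (hω : ω ^ 2 + ω + 1 = 0)

include hF in
theorem two_eq_zero : (2 : F) = 0 := by
  have h4 : ((Fintype.card F : ℕ) : F) = 0 := Nat.cast_card_eq_zero F
  rw [hF] at h4
  have : (2 : F) ^ 2 = 0 := by
    have e : ((4 : ℕ) : F) = (2 : F) ^ 2 := by norm_num
    rw [← e]; exact h4
  exact pow_eq_zero_iff (by norm_num) |>.mp this

/-- the map `F4 → F` -/
def toF : F4 → F
  | .z => 0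
  | .o => 1
  | .w => ω
  | .w2 => ω + 1

include hF in
theorem toF_add (a b : F4) : toF F ω (a + b) = toF F ω a + toF F ω b := by
  have h2 := two_eq_zero F hF
  cases a <;> cases b
  · show (0 : F) = (0 : F) + (0 : F)
    linear_combination (0 + 0 * ω : F) * h2
  · show (1 : F) = (0 : F) + (1 : F)
    linear_combination (0 + 0 * ω : F) * h2
  · show ω = (0 : F) + ω
    linear_combination (0 + 0 * ω : F) * h2
  · show (ω + 1) = (0 : F) + (ω + 1)
    linear_combination (0 + 0 * ω : F) * h2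
  · show (1 : F) = (1 : F) + (0 : F)
    linear_combination (0 + 0 * ω : F) * h2
  · show (0 : F) = (1 : F) + (1 : F)
    linear_combination (-1 + 0 * ω : F) * h2
  · show (ω + 1) = (1 : F) + ω
    linear_combination (0 + 0 * ω : F) * h2
  · show ω = (1 : F) + (ω + 1)
    linear_combination (-1 + 0 * ω : F) * h2
  · show ω = ω + (0 : F)
    linear_combination (0 + 0 * ω : F) * h2
  · show (ω + 1) = ω + (1 : F)
    linear_combination (0 + 0 * ω : F) * h2
  · show (0 : F) = ω + ω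
    linear_combination (0 + -1 * ω : F) * h2
  · show (1 : F) = ω + (ω + 1)
    linear_combination (0 + -1 * ω : F) * h2
  · show (ω + 1) = (ω + 1) + (0 : F)
    linear_combination (0 + 0 * ω : F) * h2
  · show ω = (ω + 1) + (1 : F)
    linear_combination (-1 + 0 * ω : F) * h2
  · show (1 : F) = (ω + 1) + ω
    linear_combination (0 + -1 * ω : F) * h2
  · show (0 : F) = (ω + 1) + (ω + 1)
    linear_combination (-1 + -1 * ω : F) * h2

include hF hω in
theorem toF_mul (a b : F4) : toF F ω (a * b) = toF F ω a * toF F ω b := by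
  have h2 := two_eq_zero F hF
  cases a <;> cases b
  · show (0 : F) = (0 : F) * (0 : F)
    linear_combination (0 : F) * hω + (0 + 0 * ω : F) * h2
  · show (0 : F) = (0 : F) * (1 : F)
    linear_combination (0 : F) * hω + (0 + 0 * ω : F) * h2
  · show (0 : F) = (0 : F) * ω
    linear_combination (0 : F) * hω + (0 + 0 * ω : F) * h2
  · show (0 : F) = (0 : F) * (ω + 1)
    linear_combination (0 : F) * hω + (0 + 0 * ω : F) * h2
  · show (0 : F) = (1 : F) * (0 : F)
    linear_combination (0 : F) * hω + (0 + 0 * ω : F) * h2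
  · show (1 : F) = (1 : F) * (1 : F)
    linear_combination (0 : F) * hω + (0 + 0 * ω : F) * h2
  · show ω = (1 : F) * ω
    linear_combination (0 : F) * hω + (0 + 0 * ω : F) * h2
  · show (ω + 1) = (1 : F) * (ω + 1)
    linear_combination (0 : F) * hω + (0 + 0 * ω : F) * h2
  · show (0 : F) = ω * (0 : F)
    linear_combination (0 : F) * hω + (0 + 0 * ω : F) * h2
  · show ω = ω * (1 : F)
    linear_combination (0 : F) * hω + (0 + 0 * ω : F) * h2
  · show (ω + 1) = ω * ω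
    linear_combination (-1 : F) * hω + (1 + 1 * ω : F) * h2
  · show (1 : F) = ω * (ω + 1)
    linear_combination (-1 : F) * hω + (1 + 0 * ω : F) * h2
  · show (0 : F) = (ω + 1) * (0 : F)
    linear_combination (0 : F) * hω + (0 + 0 * ω : F) * h2
  · show (ω + 1) = (ω + 1) * (1 : F)
    linear_combination (0 : F) * hω + (0 + 0 * ω : F) * h2
  · show (1 : F) = (ω + 1) * ω
    linear_combination (-1 : F) * hω + (1 + 0 * ω : F) * h2
  · show ω = (ω + 1) * (ω + 1)
    linear_combination (-1 : F) * hω + (0 + 0 * ω : F) * h2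

/-- the ring homomorphism `F4 →+* F` -/
def toFHom : F4 →+* F where
  toFun := toF F ω
  map_one' := rfl
  map_mul' := toF_mul F hF ω hω
  map_zero' := rfl
  map_add' := toF_add F hF ω

/-- the ring isomorphism `F4 ≃+* F` -/
noncomputable def toFEquiv : F4 ≃+* F :=
  RingEquiv.ofBijective (toFHom F hF ω hω) (by
    rw [Fintype.bijective_iff_injective_and_card]
    exact ⟨(toFHom F hF ω hω).injective, by rw [F4.card_eq, hF]⟩)

theorem toFEquiv_w : toFEquiv F hF ω hω F4.w = ω := rfl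

/-- `3·J₃` over `F` is isomorphic to `3·J₃` over the concrete field -/
noncomputable def equivConcrete : threeJ3 F4 F4.w ≃* threeJ3 F ω :=
  threeJ3Equiv (toFEquiv F hF ω hω) F4.w ω (toFEquiv_w F hF ω hω)

end Field4

end Cfsg.Agent.Lib.H3.J3T
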