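import Mathlib
import Cfsg.Agent.Lib.H3.J3Transport

set_option autoImplicit false

/-! # `3·J₃` over an arbitrary field with four elements (universe polymorphic version) -/

namespace Cfsg.Agent.Lib.H3.J3TU

open Cfsg.Spor Cfsg.Agent.Lib.H3.F4 Cfsg.Agent.Lib.H3.J3T Matrix

section Field4

variable (F : Type*) [Field F] [Fintype F] (hF : Fintype.card F = 4) (ω : F) (hω : ω ^ 2 + ω + 1 = 0)

include hF in
theorem two_eq_zero : (2 : F) = 0 := by
  have h4 : ((Fintype.card F : ℕ) : F) = 0 := Nat.cast_card_eq_zero F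
  rw [hF] at h4
  have : (2 : F) ^ 2 = 0 := by
    have e : ((4 : ℕ) : F) = (2 : F) ^ 2 := by norm_num
    rw [← e]; exact h4
  exact pow_eq_zero_iff (by norm_num) |>.mp this

/-- the map `F4 → F` -/
def toF : F4 → F
  | .z => 0
  | .o => 1
  | .w => ω
  | .w2 => ω + 1

include hF in
theorem toF_add (a b : F4) : toF F ω (a + b) = toF F ω a + toF F ω b := by
  have h2 := two_eq_zero F hF
  cases a <;> cases b
  · show (0 : F) = (0 : F) + (0 : F)
    linear_combination (0 + 0 * ω : F) * h2
  · show (1 : F) = (0 : F) + (1 : F)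
    linear_combination (0 + 0 * ω : F) * h2
  · show ω = (0 : F) + ω
    linear_combination (0 + 0 * ω : F) * h2
  · show (ω + 1) = (0 : F) + (ω + 1)
    linear_combination (0 + 0 * ω : F) * h2
  · show (1 : F) = (1 : F) + (0 : F)
    linear_combination (0 + 0 * ω : F) * h2
  · show (0 : F) = (1 : F) + (1 : F)
    linear_combination (-1 + 0 * ω : F) * h2
  · show (ω + 1) = (1 : F) + ω
    linear_combination (0 + 0 * ω : F) * h2
  · show ω = (1 : F) + (ω + 1)
    linear_combination (-1 + 0 * ω : F) * h2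
  · show ω = ω + (0 : F)
    linear_combination (0 + 0 * ω : F) * h2
  · show (ω + 1) = ω + (1 : F)
    linear_combination (0 + 0 * ω : F) * h2
  · show (0 : F) = ω + ω
    linear_combination (0 + -1 * ω : F) * h2
  · show (1 : F) = ω + (ω + 1)
    linear_combination (0 + -1 * ω : F) * h2
  · show (ω + 1) = (ω + 1) + (0 : F)
    linear_combination (0 + 0 * ω : F) * h2
  · show ω = (ω + 1) + (1 : F)
    linear_combination (-1 + 0 * ω : F) * h2
  · show (1 : F) = (ω + 1) + ω
    linear_combination (0 + -1 * ω : F) * h2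
  · show (0 : F) = (ω + 1) + (ω + 1)
    linear_combination (-1 + -1 * ω : F) * h2

include hF hω in
theorem toF_mul (a b : F4) : toF F ω (a * b) = toF F ω a * toF F ω b := by
  have h2 := two_eq_zero F hF
  cases a <;> cases b
  · show (0 : F) = (0 : F) * (0 : F)
    linear_combination (0 : F) * hω + (0 + 0 * ω : F) * h2
  · show (0 : F) = (0 : F) * (1 : F)
    linear_combination (0 : F) * hω + (0 + 0 * ω : F) * h2
  · show (0 : F) = (0 : F) * ω
    linear_combination (0 : F) * hω + (0 + 0 * ω : F) * h2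
  · show (0 : F) = (0 : F) * (ω + 1)
    linear_combination (0 : F) * hω + (0 + 0 * ω : F) * h2
  · show (0 : F) = (1 : F) * (0 : F)
    linear_combination (0 : F) * hω + (0 + 0 * ω : F) * h2
  · show (1 : F) = (1 : F) * (1 : F)
    linear_combination (0 : F) * hω + (0 + 0 * ω : F) * h2
  · show ω = (1 : F) * ω
    linear_combination (0 : F) * hω + (0 + 0 * ω : F) * h2
  · show (ω + 1) = (1 : F) * (ω + 1)
    linear_combination (0 : F) * hω + (0 + 0 * ω : F) * h2
  · show (0 : F) = ω * (0 : F)
    linear_combination (0 : F) * hω + (0 + 0 * ω : F) * h2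
  · show ω = ω * (1 : F)
    linear_combination (0 : F) * hω + (0 + 0 * ω : F) * h2
  · show (ω + 1) = ω * ω
    linear_combination (-1 : F) * hω + (1 + 1 * ω : F) * h2
  · show (1 : F) = ω * (ω + 1)
    linear_combination (-1 : F) * hω + (1 + 0 * ω : F) * h2
  · show (0 : F) = (ω + 1) * (0 : F)
    linear_combination (0 : F) * hω + (0 + 0 * ω : F) * h2
  · show (ω + 1) = (ω + 1) * (1 : F)
    linear_combination (0 : F) * hω + (0 + 0 * ω : F) * h2
  · show (1 : F) = (ω + 1) * ω
    linear_combination (-1 : F) * hω + (1 + 0 * ω : F) * h2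
  · show ω = (ω + 1) * (ω + 1)
    linear_combination (-1 : F) * hω + (0 + 0 * ω : F) * h2

/-- the ring homomorphism `F4 →+* F` -/
def toFHom : F4 →+* F where
  toFun := toF F ω
  map_one' := rfl
  map_mul' := toF_mul F hF ω hω
  map_zero' := rfl
  map_add' := toF_add F hF ω

/-- the ring isomorphism `F4 ≃+* F` -/
noncomputable def toFEquiv : F4 ≃+* F :=
  RingEquiv.ofBijective (toFHom F hF ω hω) (by
    rw [Fintype.bijective_iff_injective_and_card]
    exact ⟨(toFHom F hF ω hω).injective, by rw [F4.card_eq, hF]⟩)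

theorem toFEquiv_w : toFEquiv F hF ω hω F4.w = ω := rfl

/-- `3·J₃` over `F` is isomorphic to `3·J₃` over the concrete field -/
noncomputable def equivConcrete : threeJ3 F4 F4.w ≃* threeJ3 F ω :=
  threeJ3Equiv (toFEquiv F hF ω hω) F4.w ω (toFEquiv_w F hF ω hω)

end Field4

end Cfsg.Agent.Lib.H3.J3TU
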