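/-
helper3: piece EO2-F2-K2 of helper26's farm-out (tools/blueprints/EO2F2_sigs.lean): from the quadratic extension
`A` (degree `2 r`, `r` odd) of the self-adjoint field subalgebra `K` to the degree-2 subfield
`K₂ = {x ∈ A | x ^ (q ^ 2) = x}` of unitary kind.
-/
import Cfsg.Agent.Lib.H26.AschEO2F2c

set_option autoImplicit false
set_option maxHeartbeats 400000

namespace Cfsg.Agent.Lib.H3.EOP2

open Cfsg Cfsg.Geo Module
open scoped MatrixGroups Matrix

/-- the Frobenius-fixed subalgebra of degree `r` (any divisor of the degree) inside a finite commutative division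
subalgebra (copy of helper4's `exists_frobenius_fixed_subalgebra` with `r` given) -/
theorem f2k2_frobenius_fixed {F A : Type*} [Field F] [Fintype F] [Ring A] [Algebra F A]
    [Nontrivial A] (Z : Subalgebra F A) [Finite Z]
    (hcomm : ∀ x ∈ Z, ∀ y ∈ Z, x * y = y * x)
    (hinv : ∀ x ∈ Z, x ≠ 0 → ∃ y ∈ Z, x * y = 1)
    (r : ℕ) (hr : 0 < r) (hspos : 0 < finrank F Z) (hrs : r ∣ finrank F Z) :
    ∃ K : Subalgebra F A,
      (∀ x, x ∈ K ↔ x ∈ Z ∧ x ^ (Fintype.card F ^ r) = x) ∧ finrank F K = r := by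
  classical
  have hfield : IsField Z := by
    refine ⟨⟨0, 1, zero_ne_one⟩, ?_, ?_⟩
    · rintro ⟨x, hx⟩ ⟨y, hy⟩
      exact Subtype.ext (hcomm x hx y hy)
    · rintro ⟨x, hx⟩ hx0
      have hx0' : x ≠ 0 := fun h => hx0 (Subtype.ext h)
      obtain ⟨y, hy, hxy⟩ := hinv x hx hx0'
      exact ⟨⟨y, hy⟩, Subtype.ext hxy⟩
  let _ : Field Z := hfield.toField
  set s := finrank F Z with hs
  let φ : Z ≃ₐ[F] Z := FiniteField.frobeniusAlgEquivOfAlgebraic F Z
  have hφord : orderOf φ = s := FiniteField.orderOf_frobeniusAlgEquivOfAlgebraic F Z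
  let Hs : Subgroup (Z ≃ₐ[F] Z) := Subgroup.zpowers (φ ^ r)
  have hcardH : Nat.card Hs = s / r := by
    rw [Nat.card_zpowers, orderOf_pow, hφord, Nat.gcd_eq_right hrs]
  let K₀ : IntermediateField F Z := IntermediateField.fixedField Hs
  have h1 : finrank K₀ Z = s / r := by
    rw [IntermediateField.finrank_fixedField_eq_card, hcardH]
  have h2 : finrank F K₀ * finrank K₀ Z = s := Module.finrank_mul_finrank F K₀ Z
  have hK₀ : finrank F K₀ = r := by
    rw [h1] at h2
    obtain ⟨c, hc⟩ := hrs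
    have hcpos : 0 < c := by
      rcases Nat.eq_zero_or_pos c with h | h
      · rw [h, mul_zero] at hc; omega
      · exact h
    rw [hc, Nat.mul_div_cancel_left c hr] at h2
    have : finrank F K₀ * c = r * c := h2
    exact Nat.eq_of_mul_eq_mul_right hcpos this
  have hmem : ∀ x : Z, x ∈ K₀ ↔ x ^ (Fintype.card F ^ r) = x := by
    intro x
    have hφr : (φ ^ r) x = x ^ (Fintype.card F ^ r) := by
      rw [AlgEquiv.coe_pow]
      have := FiniteField.coe_frobeniusAlgEquivOfAlgebraic_iterate F Z r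
      exact congrFun this x
    rw [IntermediateField.mem_fixedField_iff]
    constructor
    · intro h
      rw [← hφr]
      exact h (φ ^ r) (Subgroup.mem_zpowers _)
    · intro h g hg
      obtain ⟨k, rfl⟩ := Subgroup.mem_zpowers_iff.mp hg
      have hfix : (φ ^ r) x = x := by rw [hφr, h]
      have : ∀ k : ℕ, ((φ ^ r) ^ k) x = x := by
        intro k
        induction k with
        | zero => simp
        | succ k ih => rw [pow_succ, AlgEquiv.mul_apply, hfix, ih]
      have hinvfix : ((φ ^ r)⁻¹) x = x := by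
        conv_lhs => rw [← hfix]
        rw [← AlgEquiv.mul_apply, inv_mul_cancel, AlgEquiv.one_apply]
      have hinv' : ∀ k : ℕ, (((φ ^ r)⁻¹) ^ k) x = x := by
        intro k
        induction k with
        | zero => simp
        | succ k ih => rw [pow_succ, AlgEquiv.mul_apply, hinvfix, ih]
      cases k with
      | ofNat k => simpa using this k
      | negSucc k =>
        rw [zpow_negSucc, ← inv_pow]
        exact hinv' (k + 1)
  refine ⟨K₀.toSubalgebra.map Z.val, ?_, ?_⟩
  · intro x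
    rw [Subalgebra.mem_map]
    constructor
    · rintro ⟨y, hy, rfl⟩
      refine ⟨y.2, ?_⟩
      have := (hmem y).mp hy
      have h3 := congrArg (Subtype.val) this
      simpa using h3
    · rintro ⟨hxZ, hx⟩
      refine ⟨⟨x, hxZ⟩, (hmem ⟨x, hxZ⟩).mpr ?_, rfl⟩
      apply Subtype.ext
      simpa using hx
  · rw [← hK₀]
    have e : K₀.toSubalgebra ≃ₗ[F] (K₀.toSubalgebra.map Z.val) :=
      (Subalgebra.equivMapOfInjective K₀.toSubalgebra Z.val Subtype.val_injective).toLinearEquiv
    exact e.symm.finrank_eq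

/-- in a field extension of the finite field `F`, the elements with `m ^ |F| = m` are the scalars -/
theorem f2k2_scalar_of_pow_card {F E : Type*} [Field F] [Fintype F] [Field E] [Algebra F E] (m : E)
    (hm : m ^ Fintype.card F = m) : ∃ c : F, algebraMap F E c = m := by
  classical
  set q := Fintype.card F with hq
  have hq1 : 1 < q := Fintype.one_lt_card
  set p : Polynomial E := Polynomial.X ^ q - Polynomial.X with hp
  have hp0 : p ≠ 0 := FiniteField.X_pow_card_sub_X_ne_zero E hq1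
  have hdeg : p.natDegree = q := FiniteField.X_pow_card_sub_X_natDegree_eq E hq1
  set S : Finset E := Finset.univ.image (algebraMap F E) with hS
  have hScard : S.card = q := by
    rw [hS, Finset.card_image_of_injective _ (algebraMap F E).injective, Finset.card_univ]
  have hroot : ∀ x : E, x ∈ p.roots.toFinset ↔ x ^ q = x := by
    intro x
    rw [Multiset.mem_toFinset, Polynomial.mem_roots hp0, Polynomial.IsRoot.def, hp]
    simp only [Polynomial.eval_sub, Polynomial.eval_pow, Polynomial.eval_X]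
    exact sub_eq_zero
  have hsub : S ⊆ p.roots.toFinset := by
    intro x hx
    rw [hS, Finset.mem_image] at hx
    obtain ⟨c, -, rfl⟩ := hx
    rw [hroot, ← map_pow, FiniteField.pow_card]
  have hle : p.roots.toFinset.card ≤ S.card := by
    rw [hScard]
    calc p.roots.toFinset.card ≤ Multiset.card p.roots := Multiset.toFinset_card_le _
      _ ≤ p.natDegree := Polynomial.card_roots' p
      _ = q := hdeg
  have heq := Finset.eq_of_subset_of_card_le hsub hle
  have hmS : m ∈ S := by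
    rw [heq, hroot]
    exact hm
  rw [hS, Finset.mem_image] at hmS
  obtain ⟨c, -, hc⟩ := hmS
  exact ⟨c, hc⟩

variable {F : Type*} [Field F] {n : ℕ}

/-- adjoints for a non-degenerate form are unique -/
theorem f2k2_adj_unique (Q : (Fin n → F) → F) (hQ : IsNondegenerateQuadraticForm Q)
    {x x' x'' : Matrix (Fin n) (Fin n) F}
    (h1 : ∀ u w : Fin n → F, QuadraticMap.polar Q (x *ᵥ u) w = QuadraticMap.polar Q u (x' *ᵥ w))
    (h2 : ∀ u w : Fin n → F, QuadraticMap.polar Q (x *ᵥ u) w = QuadraticMap.polar Q u (x'' *ᵥ w)) :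
    x' = x'' := by
  apply Matrix.mulVec_injective
  funext w
  by_contra hne
  have hd : x' *ᵥ w - x'' *ᵥ w ≠ 0 := sub_ne_zero.2 hne
  obtain ⟨⟨u, hu⟩, -⟩ := hQ.nondegenerate _ hd
  apply hu
  have hb := hQ.polar_bilinear
  have : x' *ᵥ w - x'' *ᵥ w = x' *ᵥ w + (-1 : F) • (x'' *ᵥ w) := by
    rw [neg_one_smul, sub_eq_add_neg]
  rw [this, hb.add_right, hb.smul_right, ← h1, ← h2]
  ring

/-- adjoints of powers -/
theorem f2k2_adj_pow (Q : (Fin n → F) → F) {x x' : Matrix (Fin n) (Fin n) F}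
    (h1 : ∀ u w : Fin n → F, QuadraticMap.polar Q (x *ᵥ u) w = QuadraticMap.polar Q u (x' *ᵥ w))
    (k : ℕ) (u w : Fin n → F) :
    QuadraticMap.polar Q ((x ^ k) *ᵥ u) w = QuadraticMap.polar Q u ((x' ^ k) *ᵥ w) := by
  induction k generalizing u w with
  | zero => simp
  | succ k ih =>
    rw [pow_succ, ← Matrix.mulVec_mulVec, ih, h1, Matrix.mulVec_mulVec, ← pow_succ']

/-- **EO2-F2-K2**. -/
theorem f2_exists_quadratic_subfield [Fintype F] [Nonempty (Fin n)] (r : ℕ) (hr : Odd r)
    (K A : Subalgebra F (Matrix (Fin n) (Fin n) F)) (hK : IsFieldSubalgebra r K)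
    (hA : IsFieldSubalgebra (2 * r) A) (Q : (Fin n → F) → F) (hQ : IsNondegenerateQuadraticForm Q)
    (hadj : ∀ x ∈ A, ∃ x' ∈ A, (∀ u w : Fin n → F,
        QuadraticMap.polar Q (x *ᵥ u) w = QuadraticMap.polar Q u (x' *ᵥ w)) ∧ x + x' ∈ K ∧ x * x' ∈ K ∧
        ∀ c : F, x * x' = c • (1 : Matrix (Fin n) (Fin n) F) → ∀ v : Fin n → F, Q (x *ᵥ v) = c * Q v) :
    ∃ K₂ : Subalgebra F (Matrix (Fin n) (Fin n) F), IsFieldSubalgebra 2 K₂ ∧
      IsAdjointClosedFor (QuadraticMap.polar Q) K₂ ∧ ¬ IsSelfAdjointFor (QuadraticMap.polar Q) K₂ ∧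
      (∀ k ∈ K₂, ∃ c : F, ∀ v : Fin n → F, Q (k *ᵥ v) = c * Q v) ∧
      subalgebraNormalizer A ≤ subalgebraNormalizer K₂ := by
  classical
  set q := Fintype.card F with hq
  have hr0 : 0 < r := hr.pos
  have : Finite ↥A := Subtype.finite
  obtain ⟨K₂, hmem, hfr⟩ := f2k2_frobenius_fixed A hA.comm hA.inv 2 (by norm_num)
    (by rw [hA.finrank_eq]; omega) (by rw [hA.finrank_eq]; exact dvd_mul_right 2 r)
  rw [← hq] at hmem
  -- the star operation on `K₂`
  have hstar : ∀ x ∈ K₂, ∃ x' ∈ K₂, (∀ u w : Fin n → F,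
        QuadraticMap.polar Q (x *ᵥ u) w = QuadraticMap.polar Q u (x' *ᵥ w)) ∧ x + x' ∈ K ∧ x * x' ∈ K ∧
        ∀ c : F, x * x' = c • (1 : Matrix (Fin n) (Fin n) F) → ∀ v : Fin n → F, Q (x *ᵥ v) = c * Q v := by
    intro x hx
    obtain ⟨hxA, hxq⟩ := (hmem x).1 hx
    obtain ⟨x', hx'A, hx'adj, h3, h4, h5⟩ := hadj x hxA
    refine ⟨x', (hmem x').2 ⟨hx'A, ?_⟩, hx'adj, h3, h4, h5⟩
    have hp := f2k2_adj_pow Q hx'adj (q ^ 2)
    rw [hxq] at hp
    exact f2k2_adj_unique Q hQ hp hx'adj
  -- `K ∩ K₂` consists of scalars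
  have hKK₂ : ∀ m ∈ K, m ∈ K₂ → ∃ c : F, m = c • (1 : Matrix (Fin n) (Fin n) F) := by
    intro m hmK hmK₂
    obtain ⟨-, hmq⟩ := (hmem m).1 hmK₂
    let _ : Field ↥K := (Cfsg.Agent.Lib.H5.OP2.isField_of_isFieldSubalgebra r K hK).toField
    have : Finite ↥K := Subtype.finite
    have : Fintype ↥K := Fintype.ofFinite _
    have hcardK : Fintype.card ↥K = q ^ r := by
      rw [Module.card_eq_pow_finrank (K := F) (V := ↥K), hK.finrank_eq]
    have hmr : m ^ (q ^ r) = m := by
      have := FiniteField.pow_card (⟨m, hmK⟩ : ↥K)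
      rw [hcardK] at this
      have h3 := congrArg Subtype.val this
      simpa using h3
    obtain ⟨j, hj⟩ := hr
    have heven : ∀ i : ℕ, m ^ (q ^ (2 * i)) = m := by
      intro i
      induction i with
      | zero => simp
      | succ i ih =>
        have : q ^ (2 * (i + 1)) = q ^ (2 * i) * q ^ 2 := by rw [← pow_add]; ring_nf
        rw [this, pow_mul, ih, hmq]
    have hm1 : m ^ q = m := by
      have h6 : q ^ r = q ^ (2 * j) * q := by rw [hj, pow_succ]
      rw [h6, pow_mul, heven j] at hmr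
      exact hmr
    have hm2 : (⟨m, hmK⟩ : ↥K) ^ Fintype.card F = ⟨m, hmK⟩ := by
      apply Subtype.ext
      rw [SubmonoidClass.coe_pow]
      exact hm1
    obtain ⟨c, hc⟩ := f2k2_scalar_of_pow_card (F := F) (E := ↥K) ⟨m, hmK⟩ hm2
    refine ⟨c, ?_⟩
    have h7 : ((algebraMap F ↥K c : ↥K) : Matrix (Fin n) (Fin n) F) = m := congrArg Subtype.val hc
    rw [← h7, Subalgebra.coe_algebraMap, Algebra.algebraMap_eq_smul_one]
  refine ⟨K₂, ⟨?_, ?_, hfr⟩, ?_, ?_, ?_, ?_⟩
  · -- commutative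
    intro x hx y hy
    exact hA.comm x ((hmem x).1 hx).1 y ((hmem y).1 hy).1
  · -- inverses
    intro x hx hx0
    obtain ⟨hxA, hxq⟩ := (hmem x).1 hx
    obtain ⟨y, hyA, hxy⟩ := hA.inv x hxA hx0
    refine ⟨y, (hmem y).2 ⟨hyA, ?_⟩, hxy⟩
    have hc : Commute x y := hA.comm x hxA y hyA
    have h1 : x * y ^ (q ^ 2) = 1 := by
      have := hc.mul_pow (q ^ 2)
      rw [hxy, one_pow, hxq] at this
      exact this.symm
    have hyx : y * x = 1 := by rw [← hc.eq]; exact hxy
    calc y ^ (q ^ 2) = (y * x) * y ^ (q ^ 2) := by rw [hyx, one_mul]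
      _ = y * (x * y ^ (q ^ 2)) := by rw [mul_assoc]
      _ = y := by rw [h1, mul_one]
  · -- adjoint closed
    intro x hx
    obtain ⟨x', hx', hadj', -⟩ := hstar x hx
    exact ⟨x', hx', hadj'⟩
  · -- not self-adjoint
    intro hsa
    have hscal : ∀ x ∈ K₂, x ∈ (⊥ : Subalgebra F (Matrix (Fin n) (Fin n) F)) := by
      intro x hx
      obtain ⟨hxA, hxq⟩ := (hmem x).1 hx
      obtain ⟨x', hx', hadj', h3, h4, -⟩ := hstar x hx
      have hxx : x' = x := f2k2_adj_unique Q hQ hadj' (hsa x hx)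
      rw [hxx] at h3 h4
      obtain ⟨c, hc⟩ := hKK₂ _ h3 (K₂.add_mem hx hx)
      obtain ⟨d, hd⟩ := hKK₂ _ h4 (K₂.mul_mem hx hx)
      rw [Algebra.mem_bot]
      by_cases h2 : (2 : F) = 0
      · obtain ⟨e, he⟩ := (Cfsg.Agent.Lib.H26.EOP2.f2_sq_bijective (E := F) h2).2 d
        simp only at he
        set y : Matrix (Fin n) (Fin n) F := x - e • 1 with hy
        have hyA : y ∈ A := A.sub_mem hxA (A.smul_mem A.one_mem e)
        have hyy : y * y = 0 := by
          have h8 : y * y = x * x - (2 * e) • x + (e * e) • (1 : Matrix (Fin n) (Fin n) F) := by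
            rw [hy]
            simp only [sub_mul, mul_sub, Matrix.smul_mul, Matrix.mul_smul, Matrix.one_mul, Matrix.mul_one,
              smul_smul]
            rw [two_mul, add_smul]
            abel
          rw [h8, hd, h2, zero_mul, zero_smul, sub_zero, he, ← add_smul]
          have : d + d = 0 := by rw [← two_mul, h2, zero_mul]
          rw [this, zero_smul]
        have hy0 : y = 0 := by
          by_contra hne
          obtain ⟨z, -, hz⟩ := hA.inv y hyA hne
          apply hne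
          calc y = y * (y * z) := by rw [hz, mul_one]
            _ = (y * y) * z := by rw [mul_assoc]
            _ = 0 := by rw [hyy, zero_mul]
        refine ⟨e, ?_⟩
        rw [Algebra.algebraMap_eq_smul_one]
        exact (sub_eq_zero.1 hy0).symm
      · refine ⟨2⁻¹ * c, ?_⟩
        rw [Algebra.algebraMap_eq_smul_one, mul_smul, ← hc, ← two_smul F x, smul_smul,
          inv_mul_cancel₀ h2, one_smul]
    have hle : K₂ ≤ ⊥ := hscal
    have hbot : K₂ = ⊥ := le_bot_iff.1 hle
    rw [hbot, Subalgebra.finrank_bot] at hfr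
    omega
  · -- similarity
    intro x hx
    obtain ⟨x', hx', -, -, h4, h5⟩ := hstar x hx
    obtain ⟨c, hc⟩ := hKK₂ _ h4 (K₂.mul_mem hx hx')
    exact ⟨c, h5 c hc⟩
  · -- normaliser
    intro g hg k
    have hgA : ∀ k : Matrix (Fin n) (Fin n) F,
        k ∈ A ↔ (g : Matrix (Fin n) (Fin n) F) * k * ((g⁻¹ : GL (Fin n) F) : Matrix (Fin n) (Fin n) F) ∈ A := hg
    rw [hmem, hmem, ← hgA k, Units.conj_pow]
    constructor
    · rintro ⟨h1, h2⟩
      exact ⟨h1, by rw [h2]⟩
    · rintro ⟨h1, h2⟩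
      refine ⟨h1, ?_⟩
      have h3 := congrArg (fun z => ((g⁻¹ : GL (Fin n) F) : Matrix (Fin n) (Fin n) F) * z *
        (g : Matrix (Fin n) (Fin n) F)) h2
      simp only [mul_assoc, Units.inv_mul, mul_one] at h3
      simp only [← mul_assoc, Units.inv_mul, one_mul] at h3
      exact h3

end Cfsg.Agent.Lib.H3.EOP2
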