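import Cfsg.Agent.Lib.H3.Supersolvable3
import Mathlib

/-!
helper3 library: supersolvable groups V — normal subgroup of order the largest prime, chief series
with non-increasing primes.
-/

set_option autoImplicit false
open Cfsg

namespace Cfsg.Agent.Lib.H3

variable {G : Type*} [Group G]

/-- A group of order `p * q` with `q < p` primes has a characteristic subgroup of order `p`;
here in the form needed: a normal subgroup `K` of order `p * q` of `G` contains a normal subgroup
of `G` of order `p`. -/
theorem exists_normal_card_prime_of_card_mul [Finite G] (K : Subgroup G) [hKn : K.Normal]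
    (p q : ℕ) [hp : Fact p.Prime] (hq : q.Prime) (hqp : q < p) (hK : Nat.card K = p * q) :
    ∃ N : Subgroup G, N.Normal ∧ Nat.card N = p := by
  have hpp := hp.out
  obtain ⟨P⟩ := (inferInstance : Nonempty (Sylow p K))
  have hfac : (Nat.card K).factorization p = 1 := by
    rw [hK, Nat.factorization_mul hpp.ne_zero hq.ne_zero]
    simp only [Finsupp.coe_add, Pi.add_apply]
    rw [Nat.Prime.factorization_self hpp, Nat.factorization_eq_zero_of_not_dvd, add_zero]
    intro h
    have := (Nat.prime_dvd_prime_iff_eq hpp hq).1 h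
    omega
  have hPcard : Nat.card P = p := by
    rw [Sylow.card_eq_multiplicity P, hfac, pow_one]
  have hPidx : (P : Subgroup K).index = q := by
    have h1 := Subgroup.index_mul_card (P : Subgroup K)
    rw [hPcard, hK, mul_comm p q] at h1
    exact Nat.eq_of_mul_eq_mul_right hpp.pos h1
  have hn1 : Nat.card (Sylow p K) = 1 := by
    have h1 := card_sylow_modEq_one p K
    have h2 := Sylow.card_dvd_index P
    rw [hPidx] at h2
    have h3 : Nat.card (Sylow p K) ≤ q := Nat.le_of_dvd hq.pos h2
    have h4 : Nat.card (Sylow p K) < p := lt_of_le_of_lt h3 hqp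
    have h5 := Nat.mod_eq_of_lt h4
    have h6 : Nat.card (Sylow p K) % p = 1 % p := h1
    rw [h5, Nat.mod_eq_of_lt hpp.one_lt] at h6
    exact h6
  have hPn : (P : Subgroup K).Normal := by
    rw [← Subgroup.normalizer_eq_top_iff, ← Subgroup.index_eq_one]
    have := Sylow.card_eq_index_normalizer P
    rw [hn1] at this
    exact this.symm
  have hPc : (P : Subgroup K).Characteristic := Sylow.characteristic_of_normal P hPn
  refine ⟨(P : Subgroup K).map K.subtype, normal_map_subtype_of_char K (P : Subgroup K), ?_⟩
  rw [Subgroup.card_subtype]; exact hPcard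

/-- A finite supersolvable group has a normal subgroup whose order is the largest prime
dividing the group order. -/
theorem exists_normal_card_eq_largest_prime.{u} :
    ∀ (n : ℕ) (G : Type u) [Group G] [Finite G], Nat.card G = n → SSReach (⊤ : Subgroup G) →
      ∀ (p : ℕ), p.Prime → p ∣ Nat.card G → (∀ q : ℕ, q.Prime → q ∣ Nat.card G → q ≤ p) →
      ∃ N : Subgroup G, N.Normal ∧ Nat.card N = p := by
  intro n
  induction n using Nat.strong_induction_on with
  | _ n ih =>
  intro G _ _ hcard hss p hp hdvd hmax
  have hnt : Nontrivial G := by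
    rw [← Finite.one_lt_card_iff_nontrivial]
    exact lt_of_lt_of_le hp.one_lt (Nat.le_of_dvd Nat.card_pos hdvd)
  obtain ⟨M, hMn, hMp⟩ := exists_normal_prime_card_of_ssReach hss
  set q := Nat.card M with hq
  by_cases hqp : q = p
  · exact ⟨M, hMn, hqp⟩
  have hGM : Nat.card G = Nat.card (G ⧸ M) * q := Subgroup.card_eq_card_quotient_mul_card_subgroup M
  have hqd : q ∣ Nat.card G := Subgroup.card_subgroup_dvd_card M
  have hqltp : q < p := lt_of_le_of_ne (hmax q hMp hqd) hqp
  have hQlt : Nat.card (G ⧸ M) < n := by
    rw [← hcard, hGM]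
    exact lt_mul_of_one_lt_right Nat.card_pos hMp.one_lt
  have hQss : SSReach (⊤ : Subgroup (G ⧸ M)) := by
    have := hss.map (QuotientGroup.mk' M) (QuotientGroup.mk'_surjective M)
    rwa [Subgroup.map_top_of_surjective _ (QuotientGroup.mk'_surjective M)] at this
  have hpQ : p ∣ Nat.card (G ⧸ M) := by
    rw [hGM] at hdvd
    rcases (Nat.Prime.dvd_mul hp).1 hdvd with h1 | h1
    · exact h1
    · exact absurd ((Nat.prime_dvd_prime_iff_eq hp hMp).1 h1).symm hqp
  have hmaxQ : ∀ r : ℕ, r.Prime → r ∣ Nat.card (G ⧸ M) → r ≤ p := by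
    intro r hr hrd
    exact hmax r hr (hGM ▸ Dvd.dvd.mul_right hrd q)
  obtain ⟨Kb, hKbn, hKbc⟩ := ih _ hQlt (G ⧸ M) rfl hQss p hp hpQ hmaxQ
  have hKn : (Kb.comap (QuotientGroup.mk' M)).Normal := hKbn.comap _
  have hKc : Nat.card (Kb.comap (QuotientGroup.mk' M)) = p * q := by
    rw [card_comap_mk', hKbc]
  have : Fact p.Prime := ⟨hp⟩
  exact exists_normal_card_prime_of_card_mul _ p q hMp hqltp hKc

/-- `PChain b K`: `K` is reachable from `⊥` by a chain of normal subgroups of `G` whose steps have
prime indices that do not increase going up and are all at least `b`. -/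
inductive PChain : ℕ → Subgroup G → Prop
  | bot (b : ℕ) : PChain b ⊥
  | step (b r : ℕ) (K L : Subgroup G) : PChain r K → K ≤ L → L.Normal → K.relIndex L = r →
      r.Prime → b ≤ r → PChain b L

theorem PChain.normal {b : ℕ} {K : Subgroup G} (h : PChain b K) : K.Normal := by
  cases h with
  | bot => exact Subgroup.normal_bot
  | step b r K L _ _ hn _ _ _ => exact hn

theorem PChain.exists_chain {b : ℕ} {K : Subgroup G} (h : PChain b K) :
    ∃ (n : ℕ) (H : Fin (n + 1) → Subgroup G), H 0 = ⊥ ∧ H (Fin.last n) = K ∧
      (∀ i, (H i).Normal) ∧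
      (∀ i : Fin n, H i.castSucc ≤ H i.succ ∧ ((H i.castSucc).relIndex (H i.succ)).Prime) ∧
      (∀ i j : Fin n, i ≤ j →
        (H j.castSucc).relIndex (H j.succ) ≤ (H i.castSucc).relIndex (H i.succ)) ∧
      (∀ i : Fin n, b ≤ (H i.castSucc).relIndex (H i.succ)) := by
  induction h with
  | bot b =>
    exact ⟨0, fun _ => ⊥, rfl, rfl, fun _ => Subgroup.normal_bot, fun i => i.elim0,
      fun i => i.elim0, fun i => i.elim0⟩
  | step b r K L hK hKL hLn hidx hr hbr ih =>
    obtain ⟨n, H, h0, hl, hnorm, hs, hmono, hbd⟩ := ih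
    set H' : Fin (n + 2) → Subgroup G := Fin.snoc (α := fun _ => Subgroup G) H L with hH'
    have e1 : ∀ i : Fin (n + 1), H' i.castSucc = H i := fun i => by
      rw [hH', Fin.snoc_castSucc]
    have e2 : H' (Fin.last (n + 1)) = L := by rw [hH', Fin.snoc_last]
    -- step indices
    have eold : ∀ i : Fin n, (H' i.castSucc.castSucc).relIndex (H' i.castSucc.succ) =
        (H i.castSucc).relIndex (H i.succ) := by
      intro i
      have h1 : (Fin.castSucc i).succ = Fin.castSucc i.succ := rfl
      rw [h1, e1, e1]
    have enew : (H' (Fin.last n).castSucc).relIndex (H' (Fin.last n).succ) = r := by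
      have h1 : (Fin.last n).succ = Fin.last (n + 1) := rfl
      rw [h1, e1, e2, hl, hidx]
    refine ⟨n + 1, H', ?_, e2, ?_, ?_, ?_, ?_⟩
    · have : (0 : Fin (n + 2)) = Fin.castSucc (0 : Fin (n + 1)) := rfl
      rw [this, e1]; exact h0
    · intro i
      induction i using Fin.lastCases with
      | last => rw [e2]; exact hLn
      | cast i => rw [e1]; exact hnorm i
    · intro i
      induction i using Fin.lastCases with
      | last =>
        refine ⟨?_, by rw [enew]; exact hr⟩
        have h1 : (Fin.last n).succ = Fin.last (n + 1) := rfl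
        rw [h1, e1, e2, hl]; exact hKL
      | cast i =>
        have h1 : (Fin.castSucc i).succ = Fin.castSucc i.succ := rfl
        refine ⟨?_, by rw [eold]; exact (hs i).2⟩
        rw [h1, e1, e1]; exact (hs i).1
    · intro i j hij
      induction j using Fin.lastCases with
      | last =>
        rw [enew]
        induction i using Fin.lastCases with
        | last => rw [enew]
        | cast i => rw [eold]; exact hbd i
      | cast j =>
        induction i using Fin.lastCases with
        | last =>
          exfalso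
          have h1 : (Fin.last n : Fin (n+1)).val ≤ (Fin.castSucc j).val := hij
          simp at h1
          omega
        | cast i =>
          rw [eold, eold]
          exact hmono i j (by simpa using hij)
    · intro i
      induction i using Fin.lastCases with
      | last => rw [enew]; exact hbr
      | cast i => rw [eold]; exact hbr.trans (hbd i)

theorem PChain.comap_mk' [Finite G] (N : Subgroup G) [hN : N.Normal] (p : ℕ) (hp : p.Prime)
    (hNp : Nat.card N = p) (hmax : ∀ r : ℕ, r.Prime → r ∣ Nat.card (G ⧸ N) → r ≤ p)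
    {b : ℕ} {K : Subgroup (G ⧸ N)} (h : PChain b K) (hb : b ≤ p) :
    PChain b (K.comap (QuotientGroup.mk' N)) := by
  induction h with
  | bot b =>
    rw [MonoidHom.comap_bot, QuotientGroup.ker_mk']
    refine PChain.step b p ⊥ N (PChain.bot p) bot_le hN ?_ hp hb
    rw [Subgroup.relIndex_bot_left, hNp]
  | step b r K L hK hKL hLn hidx hr hbr ih =>
    have hrp : r ≤ p := by
      apply hmax r hr
      rw [← hidx]
      exact (Subgroup.relIndex_dvd_card K L).trans (Subgroup.card_subgroup_dvd_card L)
    refine PChain.step b r _ _ (ih hrp) (Subgroup.comap_mono hKL) (hLn.comap _) ?_ hr hbr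
    rw [Subgroup.relIndex_comap,
      Subgroup.map_comap_eq_self_of_surjective (QuotientGroup.mk'_surjective N), hidx]

theorem pchain_top_of_ssReach.{u} :
    ∀ (n : ℕ) (G : Type u) [Group G] [Finite G], Nat.card G = n → SSReach (⊤ : Subgroup G) →
      PChain 0 (⊤ : Subgroup G) := by
  intro n
  induction n using Nat.strong_induction_on with
  | _ n ih =>
  intro G _ _ hcard hss
  rcases subsingleton_or_nontrivial G with hsub | hnt
  · have : (⊤ : Subgroup G) = ⊥ := Subsingleton.elim _ _
    rw [this]; exact PChain.bot 0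
  have h1 : 1 < Nat.card G := Finite.one_lt_card_iff_nontrivial.2 hnt
  have hne := Nat.nonempty_primeFactors.2 h1
  set p := (Nat.card G).primeFactors.max' hne with hpdef
  have hpm := Finset.max'_mem _ hne
  rw [← hpdef, Nat.mem_primeFactors] at hpm
  obtain ⟨hp, hpd, -⟩ := hpm
  have hmax : ∀ q : ℕ, q.Prime → q ∣ Nat.card G → q ≤ p := by
    intro q hq hqd
    exact Finset.le_max' _ q (Nat.mem_primeFactors.2 ⟨hq, hqd, Nat.card_pos.ne'⟩)
  obtain ⟨N, hNn, hNp⟩ := exists_normal_card_eq_largest_prime _ G rfl hss p hp hpd hmax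
  have hGN : Nat.card G = Nat.card (G ⧸ N) * p := by
    rw [← hNp]; exact Subgroup.card_eq_card_quotient_mul_card_subgroup N
  have hQlt : Nat.card (G ⧸ N) < n := by
    rw [← hcard, hGN]
    exact lt_mul_of_one_lt_right Nat.card_pos hp.one_lt
  have hQss : SSReach (⊤ : Subgroup (G ⧸ N)) := by
    have := hss.map (QuotientGroup.mk' N) (QuotientGroup.mk'_surjective N)
    rwa [Subgroup.map_top_of_surjective _ (QuotientGroup.mk'_surjective N)] at this
  have hQ := ih _ hQlt (G ⧸ N) rfl hQss
  have hmaxQ : ∀ r : ℕ, r.Prime → r ∣ Nat.card (G ⧸ N) → r ≤ p := by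
    intro r hr hrd
    exact hmax r hr (hGN ▸ Dvd.dvd.mul_right hrd p)
  have := PChain.comap_mk' N p hp hNp hmaxQ hQ (Nat.zero_le p)
  rwa [Subgroup.comap_top] at this

end Cfsg.Agent.Lib.H3
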