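import Cfsg.Agent.Lib.H3.Supersolvable2
import Mathlib

/-!
helper3 library: supersolvable groups III — normal subgroups of prime order, converse of Lagrange.
-/

set_option autoImplicit false
open Cfsg

namespace Cfsg.Agent.Lib.H3

variable {G : Type*} [Group G]

theorem SSReach.exists_normal_zpowers {K : Subgroup G} (h : SSReach K) (hK : K ≠ ⊥) :
    ∃ c : G, c ≠ 1 ∧ (Subgroup.zpowers c).Normal ∧ Subgroup.zpowers c ≤ K := by
  induction h with
  | bot => exact absurd rfl hK
  | step K g hKr hn ih =>
    by_cases hb : K = ⊥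
    · subst hb
      rw [bot_sup_eq] at hn hK ⊢
      refine ⟨g, ?_, hn, le_rfl⟩
      rintro rfl
      exact hK (by simp)
    · obtain ⟨c, hc, hcn, hle⟩ := ih hb
      exact ⟨c, hc, hcn, hle.trans le_sup_left⟩

/-- A nontrivial finite supersolvable group has a normal subgroup of prime order. -/
theorem exists_normal_prime_card_of_ssReach [Finite G] [Nontrivial G]
    (h : SSReach (⊤ : Subgroup G)) :
    ∃ N : Subgroup G, N.Normal ∧ (Nat.card N).Prime := by
  obtain ⟨c, hc, hcn, -⟩ := h.exists_normal_zpowers top_ne_bot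
  have ho : orderOf c ≠ 1 := fun h1 => hc (orderOf_eq_one_iff.1 h1)
  have ho0 : orderOf c ≠ 0 := (orderOf_pos c).ne'
  have hp := Nat.minFac_prime ho
  refine ⟨Subgroup.zpowers (c ^ (orderOf c / (orderOf c).minFac)), ?_, ?_⟩
  · refine normal_of_le_normal_zpowers hcn ?_
    rw [Subgroup.zpowers_le]
    exact Subgroup.pow_mem _ (Subgroup.mem_zpowers c) _
  · rw [Nat.card_zpowers, orderOf_pow_orderOf_div ho0 (Nat.minFac_dvd _)]
    exact hp

/-- Order of a preimage under a quotient map. -/
theorem card_comap_mk' [Finite G] (N : Subgroup G) [N.Normal] (H : Subgroup (G ⧸ N)) :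
    Nat.card (H.comap (QuotientGroup.mk' N)) = Nat.card H * Nat.card N := by
  have h1 := Subgroup.index_comap_of_surjective H (QuotientGroup.mk'_surjective N)
  have h2 := Subgroup.index_mul_card (H.comap (QuotientGroup.mk' N))
  have h3 := Subgroup.index_mul_card H
  have h4 := Subgroup.card_eq_card_quotient_mul_card_subgroup N
  rw [h1] at h2
  rw [h4, ← h3, mul_assoc] at h2
  have hpos : 0 < H.index := Nat.pos_of_ne_zero Subgroup.index_ne_zero_of_finite
  exact Nat.eq_of_mul_eq_mul_left hpos h2

theorem hasSubgroupOfEveryOrder_of_ssReach.{u} :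
    ∀ (n : ℕ) (G : Type u) [Group G] [Finite G], Nat.card G = n → SSReach (⊤ : Subgroup G) →
      HasSubgroupOfEveryOrder G := by
  intro n
  induction n using Nat.strong_induction_on with
  | _ n ih =>
  intro G _ _ hcard hss d hd
  rcases subsingleton_or_nontrivial G with hsub | hnt
  · refine ⟨⊥, ?_⟩
    rw [Subgroup.card_bot]
    rw [Nat.card_of_subsingleton (1 : G)] at hd
    exact (Nat.dvd_one.1 hd).symm
  obtain ⟨N, hNn, hNp⟩ := exists_normal_prime_card_of_ssReach hss
  set p := Nat.card N with hp
  have hGN : Nat.card G = Nat.card (G ⧸ N) * p := Subgroup.card_eq_card_quotient_mul_card_subgroup N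
  have hQpos : 0 < Nat.card (G ⧸ N) := Nat.card_pos
  have hQlt : Nat.card (G ⧸ N) < n := by
    rw [← hcard, hGN]
    exact lt_mul_of_one_lt_right hQpos hNp.one_lt
  have hQss : SSReach (⊤ : Subgroup (G ⧸ N)) := by
    have := hss.map (QuotientGroup.mk' N) (QuotientGroup.mk'_surjective N)
    rwa [Subgroup.map_top_of_surjective _ (QuotientGroup.mk'_surjective N)] at this
  have hQ := ih _ hQlt (G ⧸ N) rfl hQss
  by_cases hpd : p ∣ d
  · obtain ⟨e, rfl⟩ := hpd
    have he : e ∣ Nat.card (G ⧸ N) := by
      rw [hGN, mul_comm p e] at hd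
      exact Nat.dvd_of_mul_dvd_mul_right hNp.pos hd
    obtain ⟨Hb, hHb⟩ := hQ e he
    refine ⟨Hb.comap (QuotientGroup.mk' N), ?_⟩
    rw [card_comap_mk', hHb, mul_comm]
  · have hcop : Nat.Coprime d p := ((Nat.Prime.coprime_iff_not_dvd hNp).2 hpd).symm
    have hdQ : d ∣ Nat.card (G ⧸ N) := by
      rw [hGN] at hd
      exact hcop.dvd_of_dvd_mul_right hd
    obtain ⟨Hb, hHb⟩ := hQ d hdQ
    set H := Hb.comap (QuotientGroup.mk' N) with hH
    have hHcard : Nat.card H = d * p := by rw [card_comap_mk', hHb]
    by_cases htop : H = ⊤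
    · -- Schur–Zassenhaus
      have hidx : N.index = d := by
        have h1 := Subgroup.index_mul_card N
        rw [htop, Subgroup.card_top] at hHcard
        rw [hHcard] at h1
        exact Nat.eq_of_mul_eq_mul_right hNp.pos h1
      have hcop' : Nat.Coprime (Nat.card N) N.index := by rw [hidx]; exact hcop.symm
      obtain ⟨C, hC⟩ := Subgroup.exists_right_complement'_of_coprime hcop'
      refine ⟨C, ?_⟩
      have h1 := hC.card_mul_card
      rw [htop, Subgroup.card_top] at hHcard
      rw [hHcard, mul_comm] at h1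
      exact Nat.eq_of_mul_eq_mul_right hNp.pos h1
    · have hlt : Nat.card H < n := by
        rw [← hcard]
        exact lt_of_le_of_ne (Subgroup.card_le_card_group H)
          (fun h => htop (Subgroup.eq_top_of_card_eq H h))
      have hHss : SSReach (⊤ : Subgroup H) := by
        have := hss.subgroupOf H
        rwa [Subgroup.top_subgroupOf] at this
      obtain ⟨H', hH'⟩ := ih _ hlt H rfl hHss d (by rw [hHcard]; exact dvd_mul_right d p)
      exact ⟨H'.map H.subtype, by rw [Subgroup.card_subtype, hH']⟩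

end Cfsg.Agent.Lib.H3
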