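import Cfsg.Agent.Lib.H3.Supersolvable3
import Mathlib

/-!
helper3 library: supersolvable groups IV — cyclic groups, p-groups and groups of order 2p^n
are supersolvable.
-/

set_option autoImplicit false
open Cfsg

namespace Cfsg.Agent.Lib.H3

variable {G : Type*} [Group G]

/-- `S0528` in `SSReach` form. -/
theorem ssReach_top_of_normal_zpowers (z : G) (hn : (Subgroup.zpowers z).Normal)
    (hQ : SSReach (⊤ : Subgroup (G ⧸ Subgroup.zpowers z))) : SSReach (⊤ : Subgroup G) := by
  have hker : SSReach (QuotientGroup.mk' (Subgroup.zpowers z)).ker := by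
    rw [QuotientGroup.ker_mk']
    have h1 : (⊥ ⊔ Subgroup.zpowers z).Normal := by rw [bot_sup_eq]; exact hn
    have := SSReach.step ⊥ z SSReach.bot h1
    rwa [bot_sup_eq] at this
  have := SSReach.comap (QuotientGroup.mk' (Subgroup.zpowers z))
    (QuotientGroup.mk'_surjective _) hker hQ
  rwa [Subgroup.comap_top] at this

theorem ssReach_top_of_subsingleton [Subsingleton G] : SSReach (⊤ : Subgroup G) := by
  have : (⊤ : Subgroup G) = ⊥ := Subsingleton.elim _ _
  rw [this]; exact SSReach.bot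

theorem ssReach_top_of_isCyclic [IsCyclic G] : SSReach (⊤ : Subgroup G) := by
  obtain ⟨g, hg⟩ := IsCyclic.exists_generator (α := G)
  have htop : Subgroup.zpowers g = ⊤ := (Subgroup.eq_top_iff' _).2 hg
  have h1 : (⊥ ⊔ Subgroup.zpowers g).Normal := by rw [bot_sup_eq, htop]; infer_instance
  have := SSReach.step ⊥ g SSReach.bot h1
  rwa [bot_sup_eq, htop] at this

/-- Finite `p`-groups are supersolvable. -/
theorem ssReach_top_of_isPGroup.{u} (p : ℕ) [hp : Fact p.Prime] :
    ∀ (n : ℕ) (G : Type u) [Group G] [Finite G], Nat.card G = n → IsPGroup p G →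
      SSReach (⊤ : Subgroup G) := by
  intro n
  induction n using Nat.strong_induction_on with
  | _ n ih =>
  intro G _ _ hcard hG
  rcases subsingleton_or_nontrivial G with hsub | hnt
  · exact ssReach_top_of_subsingleton
  have := hG.center_nontrivial
  obtain ⟨⟨z, hzc⟩, hz1⟩ := exists_ne (1 : Subgroup.center G)
  have hz1' : z ≠ 1 := fun h => hz1 (Subtype.ext h)
  have hn : (Subgroup.zpowers z).Normal := by
    constructor
    intro y hy x
    have : x * y * x⁻¹ = y := by
      obtain ⟨k, rfl⟩ := Subgroup.mem_zpowers_iff.1 hy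
      have hc : Commute x (z ^ k) := ((Subgroup.mem_center_iff.1 hzc x).symm ▸ rfl : x * z = z * x) |> fun h => Commute.zpow_right h k
      rw [hc.eq, mul_inv_cancel_right]
    rwa [this]
  apply ssReach_top_of_normal_zpowers z hn
  refine ih _ ?_ (G ⧸ Subgroup.zpowers z) rfl (hG.to_quotient _)
  rw [← hcard, Subgroup.card_eq_card_quotient_mul_card_subgroup (Subgroup.zpowers z)]
  apply lt_mul_of_one_lt_right Nat.card_pos
  rw [Nat.card_zpowers]
  exact lt_of_le_of_ne (orderOf_pos z) (fun h => hz1' (orderOf_eq_one_iff.1 h.symm))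

/-- A group of order `2 p^(n+1)`, `p` odd, has a normal subgroup of order `p`. -/
theorem exists_normal_zpowers_of_card_two_mul_prime_pow [Finite G] (p n : ℕ) [hp : Fact p.Prime]
    (hp2 : p ≠ 2) (hG : Nat.card G = 2 * p ^ (n + 1)) :
    ∃ v : G, orderOf v = p ∧ (Subgroup.zpowers v).Normal := by
  have hpp := hp.out
  obtain ⟨P, hPcard⟩ := Sylow.exists_subgroup_card_pow_prime p
    (show p ^ (n + 1) ∣ Nat.card G by rw [hG]; exact dvd_mul_left _ _)
  have hPidx : P.index = 2 := by
    have h1 := Subgroup.index_mul_card P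
    rw [hPcard, hG] at h1
    exact Nat.eq_of_mul_eq_mul_right (pow_pos hpp.pos _) h1
  have hPn : P.Normal := Subgroup.normal_of_index_eq_two hPidx
  have hPp : IsPGroup p P := IsPGroup.of_card hPcard
  have : Nontrivial P := by
    rw [← Finite.one_lt_card_iff_nontrivial, hPcard]
    exact Nat.one_lt_pow (Nat.succ_ne_zero n) hpp.one_lt
  have := hPp.center_nontrivial
  -- element of order p in the center of P
  have hcz : p ∣ Nat.card (Subgroup.center P) := by
    obtain ⟨k, hk⟩ := (hPp.to_subgroup (Subgroup.center P)).exists_card_eq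
    rw [hk]
    have : k ≠ 0 := by
      rintro rfl
      rw [pow_zero] at hk
      exact (Finite.one_lt_card_iff_nontrivial.2 (inferInstance : Nontrivial (Subgroup.center P))).ne' hk
    exact dvd_pow_self p this
  obtain ⟨⟨c, hcc⟩, hco⟩ := exists_prime_orderOf_dvd_card' p hcz
  have hco' : orderOf (c : G) = p := by
    rw [← hco]
    rw [← Subgroup.orderOf_coe (⟨c, hcc⟩ : Subgroup.center P)]
    exact Subgroup.orderOf_coe c
  -- involution
  have : Fact (Nat.Prime 2) := ⟨Nat.prime_two⟩
  obtain ⟨t, ht⟩ := exists_prime_orderOf_dvd_card' (G := G) 2 (by rw [hG]; exact dvd_mul_right _ _)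
  have ht2 : t * t = 1 := by rw [← pow_two, ← ht, pow_orderOf_eq_one]
  have htinv : t⁻¹ = t := inv_eq_of_mul_eq_one_left ht2
  have htP : t ∉ P := by
    intro h
    have h1 : orderOf (⟨t, h⟩ : P) ∣ Nat.card P := orderOf_dvd_natCard _
    rw [Subgroup.orderOf_mk, ht, hPcard] at h1
    exact hp2 ((Nat.prime_dvd_prime_iff_eq Nat.prime_two hpp).1 (Nat.prime_two.dvd_of_dvd_pow h1)).symm
  -- the central subgroup Z of P, as elements of G commuting with P
  have hcomm : ∀ y ∈ P, y * (c : G) = c * y := by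
    intro y hy
    have := Subgroup.mem_center_iff.1 hcc ⟨y, hy⟩
    exact congrArg Subtype.val this
  set z1 : G := (c : G) with hz1
  set z2 : G := t * z1 * t⁻¹ with hz2
  have hz2P : z2 ∈ P := hPn.conj_mem _ c.2 t
  have hcomm2 : ∀ y ∈ P, y * z2 = z2 * y := by
    intro y hy
    have h1 := hcomm (t⁻¹ * y * t) (by simpa using hPn.conj_mem y hy t⁻¹)
    rw [hz2]
    calc y * (t * z1 * t⁻¹) = t * ((t⁻¹ * y * t) * z1) * t⁻¹ := by group
      _ = t * (z1 * (t⁻¹ * y * t)) * t⁻¹ := by rw [h1]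
      _ = t * z1 * t⁻¹ * y := by group
  have h12 : z1 * z2 = z2 * z1 := hcomm2 z1 c.2
  have htz2 : t * z2 * t⁻¹ = z1 := by
    rw [hz2, htinv]
    calc t * (t * z1 * t) * t = (t * t) * z1 * (t * t) := by group
      _ = z1 := by rw [ht2, one_mul, mul_one]
  have hz1p : z1 ^ p = 1 := by rw [← hco', pow_orderOf_eq_one]
  have hz2p : z2 ^ p = 1 := by rw [hz2, conj_pow, hz1p, mul_one, mul_inv_cancel]
  -- choose v
  obtain ⟨v, hvP, hvc, hvp, hv1, hvt⟩ : ∃ v : G, v ∈ P ∧ (∀ y ∈ P, y * v = v * y) ∧ v ^ p = 1 ∧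
      v ≠ 1 ∧ t * v * t⁻¹ ∈ Subgroup.zpowers v := by
    by_cases hw : z1 * z2 = 1
    · refine ⟨z1, c.2, hcomm, hz1p, ?_, ?_⟩
      · intro h
        rw [h, orderOf_one] at hco'
        exact hpp.one_lt.ne hco'
      · have : t * z1 * t⁻¹ = z1⁻¹ := (eq_inv_of_mul_eq_one_right hw)
        rw [this]
        exact Subgroup.inv_mem _ (Subgroup.mem_zpowers z1)
    · refine ⟨z1 * z2, P.mul_mem c.2 hz2P, ?_, ?_, hw, ?_⟩
      · intro y hy
        rw [← mul_assoc, hcomm y hy, mul_assoc, hcomm2 y hy, ← mul_assoc]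
      · rw [(show Commute z1 z2 from h12).mul_pow, hz1p, hz2p, mul_one]
      · have : t * (z1 * z2) * t⁻¹ = z1 * z2 := by
          calc t * (z1 * z2) * t⁻¹ = (t * z1 * t⁻¹) * (t * z2 * t⁻¹) := by group
            _ = z2 * z1 := by rw [htz2]
            _ = z1 * z2 := h12.symm
        rw [this]
        exact Subgroup.mem_zpowers _
  have hvo : orderOf v = p := by
    have := orderOf_dvd_of_pow_eq_one hvp
    rcases (Nat.dvd_prime hpp).1 this with h | h
    · exact absurd (orderOf_eq_one_iff.1 h) hv1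
    · exact h
  refine ⟨v, hvo, ?_⟩
  -- P ⊔ ⟨t⟩ = ⊤
  have htop : P ⊔ Subgroup.zpowers t = ⊤ := by
    have hle : P ≤ P ⊔ Subgroup.zpowers t := le_sup_left
    have h1 := Subgroup.relIndex_mul_index hle
    rw [hPidx] at h1
    have h2 : (P ⊔ Subgroup.zpowers t).index ∣ 2 := Dvd.intro_left _ h1
    rcases (Nat.dvd_prime Nat.prime_two).1 h2 with h3 | h3
    · exact Subgroup.index_eq_one.1 h3
    · rw [h3] at h1
      have h4 : P.relIndex (P ⊔ Subgroup.zpowers t) = 1 := by omega
      have h5 := Subgroup.relIndex_eq_one.1 h4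
      exact absurd (h5 (Subgroup.mem_sup_right (Subgroup.mem_zpowers t))) htP
  have hconj : ∀ x : G, x * v * x⁻¹ ∈ Subgroup.zpowers v := by
    intro x
    have hx : x ∈ P ⊔ Subgroup.zpowers t := by rw [htop]; trivial
    obtain ⟨y, hy, s, hs, rfl⟩ := Subgroup.mem_sup_of_normal_left.1 hx
    have hs' : s = 1 ∨ s = t := by
      obtain ⟨k, rfl⟩ := Subgroup.mem_zpowers_iff.1 hs
      rw [← zpow_mod_orderOf, ht]
      have h2 : ((2 : ℕ) : ℤ) = 2 := rfl
      rw [h2]
      rcases Int.emod_two_eq_zero_or_one k with h | h <;> rw [h] <;> simp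
    have hyconj : ∀ u ∈ Subgroup.zpowers v, y * u * y⁻¹ = u := by
      intro u hu
      obtain ⟨k, rfl⟩ := Subgroup.mem_zpowers_iff.1 hu
      have hc : Commute y (v ^ k) := Commute.zpow_right (hvc y hy) k
      rw [hc.eq, mul_inv_cancel_right]
    rcases hs' with rfl | rfl
    · rw [mul_one, hyconj v (Subgroup.mem_zpowers v)]
      exact Subgroup.mem_zpowers v
    · have : y * s * v * (y * s)⁻¹ = y * (s * v * s⁻¹) * y⁻¹ := by group
      rw [this, hyconj _ hvt]
      exact hvt
  constructor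
  intro u hu x
  obtain ⟨k, rfl⟩ := Subgroup.mem_zpowers_iff.1 hu
  rw [← conj_zpow]
  exact Subgroup.zpow_mem _ (hconj x) k

/-- Groups of order `2 p^n`, `p` an odd prime, are supersolvable. -/
theorem ssReach_top_of_card_two_mul_prime_pow.{u} (p : ℕ) [hp : Fact p.Prime] (hp2 : p ≠ 2) :
    ∀ (n : ℕ) (G : Type u) [Group G] [Finite G], Nat.card G = 2 * p ^ n →
      SSReach (⊤ : Subgroup G) := by
  intro n
  induction n with
  | zero =>
    intro G _ _ hG
    rw [pow_zero, mul_one] at hG
    have : Fact (Nat.Prime 2) := ⟨Nat.prime_two⟩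
    have : IsCyclic G := isCyclic_of_prime_card hG
    exact ssReach_top_of_isCyclic
  | succ n ih =>
    intro G _ _ hG
    obtain ⟨v, hvo, hvn⟩ := exists_normal_zpowers_of_card_two_mul_prime_pow p n hp2 hG
    apply ssReach_top_of_normal_zpowers v hvn
    apply ih
    have h1 := Subgroup.card_eq_card_quotient_mul_card_subgroup (Subgroup.zpowers v)
    rw [Nat.card_zpowers, hvo, hG, pow_succ, ← mul_assoc] at h1
    exact (Nat.eq_of_mul_eq_mul_right hp.out.pos h1).symm

end Cfsg.Agent.Lib.H3
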