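import Mathlib
set_option autoImplicit false
namespace Cfsg.Agent.Lib.H3.Diag

variable {Γ : Type*} [Group Γ] {ι : Type*} [Fintype ι] [DecidableEq ι]

/-- conjugation by `g`, restricted to `L`. -/
def cj (L : Subgroup Γ) (g : Γ) : ↥L →* Γ := (MulAut.conj g).toMonoidHom.comp L.subtype

@[simp] theorem cj_apply (L : Subgroup Γ) (g : Γ) (l : ↥L) : cj L g l = g * l * g⁻¹ := rfl

/-- the conjugates of `L` by the `g i` commute pairwise. -/
abbrev PC (L : Subgroup Γ) (g : ι → Γ) : Prop :=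
  Pairwise fun i j => ∀ x y : ↥L, Commute (cj L (g i) x) (cj L (g j) y)

/-- the product of the conjugation maps. -/
noncomputable def pi (L : Subgroup Γ) (g : ι → Γ) (h : PC L g) : (ι → ↥L) →* Γ :=
  MonoidHom.noncommPiCoprod (fun i => cj L (g i)) h

/-- the diagonal `l ↦ ∏ i, g i * l * (g i)⁻¹`. -/
noncomputable def diag (L : Subgroup Γ) (g : ι → Γ) (h : PC L g) : ↥L →* Γ :=
  (pi L g h).comp (Pi.constMonoidHom ι ↥L)

theorem pi_mulSingle (L : Subgroup Γ) (g : ι → Γ) (h : PC L g) (i : ι) (l : ↥L) :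
    pi L g h (Pi.mulSingle i l) = g i * l * (g i)⁻¹ := by
  unfold pi
  rw [MonoidHom.noncommPiCoprod_mulSingle]
  rfl

/-- if `u` commutes with all conjugates except the `i₀`-th, then `pi f` acts on `u` as its `i₀`-th
component. -/
theorem pi_conj_apply (L : Subgroup Γ) (g : ι → Γ) (h : PC L g) (i₀ : ι) (u : Γ)
    (hu : ∀ i, i ≠ i₀ → ∀ l : ↥L, Commute (g i * l * (g i)⁻¹) u) (f : ι → ↥L) :
    pi L g h f * u * (pi L g h f)⁻¹ =
      (g i₀ * f i₀ * (g i₀)⁻¹) * u * (g i₀ * f i₀ * (g i₀)⁻¹)⁻¹ := by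
  have hf : f = Pi.mulSingle i₀ (f i₀) * Function.update f i₀ 1 := by
    funext i
    by_cases hi : i = i₀
    · subst hi
      simp
    · simp [hi]
  have hr : Commute (pi L g h (Function.update f i₀ 1)) u := by
    unfold pi
    rw [MonoidHom.noncommPiCoprod_apply]
    apply Commute.symm
    apply Finset.noncommProd_commute
    intro i _
    by_cases hi : i = i₀
    · subst hi
      simp
    · simp only [Function.update_of_ne hi]
      exact (hu i hi (f i)).symm
  have h1 : pi L g h f = (g i₀ * f i₀ * (g i₀)⁻¹) * pi L g h (Function.update f i₀ 1) := by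
    conv_lhs => rw [hf]
    rw [map_mul, pi_mulSingle]
  rw [h1]
  set r := pi L g h (Function.update f i₀ 1) with hr'
  set a := g i₀ * f i₀ * (g i₀)⁻¹ with ha
  have : r * u * r⁻¹ = u := by
    rw [hr.eq]; group
  calc a * r * u * (a * r)⁻¹ = a * (r * u * r⁻¹) * a⁻¹ := by group
    _ = a * u * a⁻¹ := by rw [this]

theorem diag_conj_apply (L : Subgroup Γ) (g : ι → Γ) (h : PC L g) (i₀ : ι) (u : Γ)
    (hu : ∀ i, i ≠ i₀ → ∀ l : ↥L, Commute (g i * l * (g i)⁻¹) u) (l : ↥L) :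
    diag L g h l * u * (diag L g h l)⁻¹ =
      (g i₀ * l * (g i₀)⁻¹) * u * (g i₀ * l * (g i₀)⁻¹)⁻¹ := by
  unfold diag
  rw [MonoidHom.comp_apply]
  exact pi_conj_apply L g h i₀ u hu _

/-- reindexing. -/
theorem pi_reindex (L : Subgroup Γ) (g : ι → Γ) (h : PC L g) (σ : Equiv.Perm ι)
    (h' : PC L (g ∘ σ)) (f : ι → ↥L) :
    pi L (g ∘ σ) h' (f ∘ σ) = pi L g h f := by
  let R : (ι → ↥L) →* (ι → ↥L) :=
    { toFun := fun f => f ∘ σ
      map_one' := rfl
      map_mul' := fun _ _ => rfl }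
  have key : (pi L (g ∘ σ) h').comp R = pi L g h := by
    apply MonoidHom.pi_ext
    intro i l
    rw [MonoidHom.comp_apply, pi_mulSingle]
    have : R (Pi.mulSingle i l) = Pi.mulSingle (σ.symm i) l := by
      funext k
      show (Pi.mulSingle i l : ι → ↥L) (σ k) = _
      by_cases hk : k = σ.symm i
      · subst hk
        simp
      · have : σ k ≠ i := by
          intro h0
          apply hk
          rw [← h0]; simp
        simp [hk, this]
    rw [this, pi_mulSingle]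
    simp
  have := congrArg (fun F : (ι → ↥L) →* Γ => F f) key
  exact this

/-- invariance of the diagonal under an element permuting the conjugates. -/
theorem diag_conj_eq (L : Subgroup Γ) (g : ι → Γ) (h : PC L g) (s : Γ) (σ : Equiv.Perm ι)
    (hσ : ∀ i, ∀ l : ↥L, s * (g i * l * (g i)⁻¹) * s⁻¹ = g (σ i) * l * (g (σ i))⁻¹) (l : ↥L) :
    s * diag L g h l * s⁻¹ = diag L g h l := by
  have h' : PC L (g ∘ σ) := by
    intro i j hij x y
    exact h (σ.injective.ne hij) x y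
  have e1 : s * diag L g h l * s⁻¹ = diag L (g ∘ σ) h' l := by
    unfold diag pi
    rw [MonoidHom.comp_apply, MonoidHom.comp_apply, MonoidHom.noncommPiCoprod_apply,
      MonoidHom.noncommPiCoprod_apply]
    have := Finset.map_noncommProd (Finset.univ : Finset ι)
      (fun i => cj L (g i) ((Pi.constMonoidHom ι ↥L) l i))
      (Pairwise.set_pairwise (fun ⦃i j⦄ a ↦ h a _ _) _) (MulAut.conj s).toMonoidHom
    simp only [MulEquiv.coe_toMonoidHom, MulAut.conj_apply] at this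
    rw [this]
    apply Finset.noncommProd_congr rfl
    intro i _
    exact hσ i l
  rw [e1]
  have := pi_reindex L g h σ h' (fun _ => l)
  exact this

theorem pi_mem (L : Subgroup Γ) (g : ι → Γ) (h : PC L g) (M : Subgroup Γ)
    (hM : ∀ i, ∀ l : ↥L, g i * l * (g i)⁻¹ ∈ M) (f : ι → ↥L) : pi L g h f ∈ M := by
  unfold pi
  rw [MonoidHom.noncommPiCoprod_apply]
  apply Finset.noncommProd_induction
  · intro a b ha hb; exact M.mul_mem ha hb
  · exact M.one_mem
  · intro i _; exact hM i (f i)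

theorem diag_mem (L : Subgroup Γ) (g : ι → Γ) (h : PC L g) (M : Subgroup Γ)
    (hM : ∀ i, ∀ l : ↥L, g i * l * (g i)⁻¹ ∈ M) (l : ↥L) : diag L g h l ∈ M :=
  pi_mem L g h M hM _

/-- conjugating the `W`-diagonal by the `E`-diagonal. -/
theorem diag_conj_diag (E W : Subgroup Γ) (g : ι → Γ) (hE : PC E g) (hW : PC W g)
    (hEW : E ≤ Subgroup.normalizer (W : Set Γ))
    (hcross : ∀ i j, i ≠ j → ∀ e : ↥E, ∀ w : ↥W,
      Commute (g i * e * (g i)⁻¹) (g j * w * (g j)⁻¹))
    (e : ↥E) (w : ↥W) :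
    diag E g hE e * diag W g hW w * (diag E g hE e)⁻¹ =
      diag W g hW ⟨e * w * (e : Γ)⁻¹, (Subgroup.mem_normalizer_iff.1 (hEW e.2) w).1 w.2⟩ := by
  set d := diag E g hE e with hd
  have e1 : d * diag W g hW w * d⁻¹ = (MulAut.conj d).toMonoidHom (diag W g hW w) := by
    simp [MulAut.conj_apply]
  rw [e1]
  unfold diag pi
  rw [MonoidHom.comp_apply, MonoidHom.comp_apply, MonoidHom.noncommPiCoprod_apply,
    MonoidHom.noncommPiCoprod_apply, Finset.map_noncommProd]
  apply Finset.noncommProd_congr rfl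
  intro i _
  simp only [MulEquiv.coe_toMonoidHom, MulAut.conj_apply, Pi.constMonoidHom_apply,
    Function.const_apply, cj_apply]
  rw [hd, diag_conj_apply E g hE i (g i * w * (g i)⁻¹) (fun j hj l => hcross j i hj l w) e]
  group

/-- an element of the kernel of the `W`-diagonal commutes with `E`. -/
theorem diag_eq_one (E W : Subgroup Γ) (g : ι → Γ) (hW : PC W g)
    (hcross : ∀ i j, i ≠ j → ∀ e : ↥E, ∀ w : ↥W,
      Commute (g i * e * (g i)⁻¹) (g j * w * (g j)⁻¹))
    (i₀ : ι) (w : ↥W) (h1 : diag W g hW w = 1) (e : ↥E) : Commute (w : Γ) (e : Γ) := by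
  have h2 := diag_conj_apply W g hW i₀ (g i₀ * e * (g i₀)⁻¹)
    (fun i hi l => (hcross i₀ i (Ne.symm hi) e l).symm) w
  rw [h1] at h2
  have h3 : (e : Γ) = w * e * (w : Γ)⁻¹ := by
    have : g i₀ * e * (g i₀)⁻¹ = g i₀ * (w * e * (w : Γ)⁻¹) * (g i₀)⁻¹ := by
      calc g i₀ * e * (g i₀)⁻¹ = 1 * (g i₀ * e * (g i₀)⁻¹) * 1⁻¹ := by group
        _ = _ := h2
        _ = _ := by group
    have h4 := congrArg (fun z => (g i₀)⁻¹ * z * g i₀) this
    beta_reduce at h4
    calc (e : Γ) = (g i₀)⁻¹ * (g i₀ * e * (g i₀)⁻¹) * g i₀ := by group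
      _ = (g i₀)⁻¹ * (g i₀ * (w * e * (w : Γ)⁻¹) * (g i₀)⁻¹) * g i₀ := h4
      _ = _ := by group
  show (w : Γ) * e = e * w
  calc (w : Γ) * e = (w * e * (w : Γ)⁻¹) * w := by group
    _ = e * w := by rw [← h3]

end Cfsg.Agent.Lib.H3.Diag
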