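import Mathlib
set_option autoImplicit false
namespace Cfsg.Agent.Lib.H3.Diag

variable {Γ : Type*} [Group Γ]

/-- the conjugation action of `Y ≤ N(W)` on `W`. -/
def conjAction (Y W : Subgroup Γ) (hYW : Y ≤ Subgroup.normalizer (W : Set Γ)) :
    MulAction ↥Y ↥W where
  smul y w := ⟨y * w * (y : Γ)⁻¹, (Subgroup.mem_normalizer_iff.1 (hYW y.2) w).1 w.2⟩
  one_smul w := by
    apply Subtype.ext
    show ((1 : ↥Y) : Γ) * w * ((1 : ↥Y) : Γ)⁻¹ = w
    simp
  mul_smul y z w := by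
    apply Subtype.ext
    show ((y * z : ↥Y) : Γ) * w * ((y * z : ↥Y) : Γ)⁻¹ = y * (z * w * (z : Γ)⁻¹) * (y : Γ)⁻¹
    rw [Subgroup.coe_mul]; group

/-- a `q`-group acting on a group of order `p²`, with `q ∤ p (p² - 1)`, acts trivially. -/
theorem le_centralizer_of_card_sq [Finite Γ] {p q : ℕ} [hp : Fact p.Prime] [hq : Fact q.Prime]
    {Y W : Subgroup Γ} (hYW : Y ≤ Subgroup.normalizer (W : Set Γ)) (hY : IsPGroup q Y)
    (hW : Nat.card W = p ^ 2) (hqp : ¬ q ∣ p * (p ^ 2 - 1)) :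
    Y ≤ Subgroup.centralizer (W : Set Γ) := by
  letI := conjAction Y W hYW
  have hsmul : ∀ (y : ↥Y) (w : ↥W), ((y • w : ↥W) : Γ) = y * w * (y : Γ)⁻¹ := fun _ _ => rfl
  have hmod := hY.card_modEq_card_fixedPoints ↥W
  set F := W ⊓ Subgroup.centralizer (Y : Set Γ) with hF
  have hcardF : Nat.card (MulAction.fixedPoints ↥Y ↥W) = Nat.card F := by
    apply Nat.card_congr
    refine ⟨fun w => ⟨(w : ↥W), ⟨(w : ↥W).2, ?_⟩⟩, fun f => ⟨⟨f, f.2.1⟩, ?_⟩, ?_, ?_⟩
    · show ((w : ↥W) : Γ) ∈ Subgroup.centralizer (Y : Set Γ)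
      rw [Subgroup.mem_centralizer_iff]
      intro y hy
      have := w.2 ⟨y, hy⟩
      have h2 := congrArg Subtype.val this
      rw [hsmul] at h2
      simp only at h2
      calc y * ((w : ↥W) : Γ) = (y * ((w : ↥W) : Γ) * y⁻¹) * y := by group
        _ = ((w : ↥W) : Γ) * y := by rw [h2]
    · intro y
      apply Subtype.ext
      rw [hsmul]
      simp only
      have := Subgroup.mem_centralizer_iff.1 f.2.2 y y.2
      calc (y : Γ) * f * (y : Γ)⁻¹ = ((y : Γ) * f) * (y : Γ)⁻¹ := by group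
        _ = (f * (y : Γ)) * (y : Γ)⁻¹ := by rw [this]
        _ = f := by group
    · intro w; rfl
    · intro f; rfl
  rw [hcardF, hW] at hmod
  have hdvd : Nat.card F ∣ p ^ 2 := by
    rw [← hW]; exact Subgroup.card_dvd_of_le inf_le_left
  obtain ⟨k, hk, hFk⟩ := (Nat.dvd_prime_pow hp.out).1 hdvd
  have hk2 : k = 2 := by
    by_contra hne
    apply hqp
    have hp1 : 1 ≤ p := hp.out.one_lt.le
    interval_cases k
    · rw [hFk, pow_zero] at hmod
      have h1 : q ∣ p ^ 2 - 1 := (Nat.modEq_iff_dvd' (Nat.one_le_pow _ _ hp.out.pos)).1 hmod.symm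
      exact Dvd.dvd.mul_left h1 p
    · rw [hFk, pow_one] at hmod
      have h1 : q ∣ p ^ 2 - p :=
        (Nat.modEq_iff_dvd' (by nlinarith)).1 hmod.symm
      have h2 : p ^ 2 - p ∣ p * (p ^ 2 - 1) := by
        have e1 : p ^ 2 - p = p * (p - 1) := by
          rw [Nat.mul_sub, mul_one, sq]
        have e2 : p ^ 2 - 1 = (p - 1) * (p + 1) := by
          have : p ^ 2 - 1 = p ^ 2 - 1 ^ 2 := by norm_num
          rw [this, Nat.sq_sub_sq, mul_comm]
        rw [e1, e2]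
        exact Dvd.intro (p + 1) (by ring)
      exact h1.trans h2
    · exact absurd rfl hne
  have hFW : F = W := by
    apply Subgroup.eq_of_le_of_card_ge inf_le_left
    rw [hW, hFk, hk2]
  rw [Subgroup.le_centralizer_iff]
  rw [← hFW]
  exact inf_le_right

end Cfsg.Agent.Lib.H3.Diag
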