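import Mathlib
import Cfsg.Agent.Lib.H3.OffenderE10
import Cfsg.Agent.Lib.H3.Diag1
import Cfsg.Agent.Lib.H3.Diag2
set_option autoImplicit false
open scoped commutatorElement
namespace Cfsg.Agent.Lib.H3

variable {G : Type*} [Group G]

namespace FFS
variable {p : ℕ} [Fact p.Prime] {V H Q : Subgroup G}

theorem conj_isBestOffender' (h : FFS p V H Q) [Finite G] {B : Subgroup G} (hBH : B ≤ H)
    (hB : Cfsg.IsBestOffenderOn p V B) {z : G} (hzV : z ∈ Subgroup.normalizer (V : Set G)) :
    Cfsg.IsBestOffenderOn p V (B.map (MulAut.conj z).toMonoidHom) := by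
  have hzV' : z⁻¹ ∈ Subgroup.normalizer (V : Set G) := Subgroup.inv_mem _ hzV
  refine ⟨?_, ?_, ?_⟩
  · intro D hD
    have hD₀ : D.map (MulAut.conj z⁻¹).toMonoidHom ≤ B := by
      rw [← map_conj_map_conj_inv B z]
      exact Subgroup.map_mono hD
    have h1 := hB.1 _ hD₀
    rw [card_map_conj', card_inf_centralizer_map_conj hzV'] at h1
    rw [card_map_conj', card_inf_centralizer_map_conj hzV]
    exact h1
  · have h1 : ⁅B, B⁆ = ⊥ := by
      rw [Subgroup.commutator_eq_bot_iff_le_centralizer]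
      intro b hb
      rw [Subgroup.mem_centralizer_iff]
      intro c hc
      exact h.bo_comm hBH hB c hc b hb
    rw [← Subgroup.map_commutator, h1, Subgroup.map_bot]
    exact bot_le
  · rintro _ ⟨b, hb, rfl⟩
    simp only [MulEquiv.coe_toMonoidHom, MulAut.conj_apply]
    rw [conj_pow, h.bo_pow hBH hB b hb]
    simp

end FFS

theorem map_conj_le_of_mem_normalizer {H B : Subgroup G} (hBH : B ≤ H) {z : G}
    (hz : z ∈ Subgroup.normalizer (H : Set G)) : B.map (MulAut.conj z).toMonoidHom ≤ H := by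
  rintro _ ⟨y, hy, rfl⟩
  simp only [MulEquiv.coe_toMonoidHom, MulAut.conj_apply]
  exact (Subgroup.mem_normalizer_iff.1 hz y).1 (hBH hy)

namespace MO
variable {p : ℕ} [Fact p.Prime] {V H Q A : Subgroup G}

theorem conj' [Finite G] (m : MO p V H A) (h : FFS p V H Q) {z : G}
    (hzV : z ∈ Subgroup.normalizer (V : Set G)) (hzH : z ∈ Subgroup.normalizer (H : Set G)) :
    MO p V H (A.map (MulAut.conj z).toMonoidHom) :=
  ⟨map_conj_le_of_mem_normalizer m.le hzH, h.conj_isBestOffender' m.le m.bo hzV,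
    by rw [card_map_conj', m.card]⟩

end MO

namespace FFS
variable {p : ℕ} [Fact p.Prime] {V H Q : Subgroup G}

/-- `E_A` is the normal closure of `A` in `H`. -/
theorem E_eq_iSup (h : FFS p V H Q) [Finite G]
    (hS3 : H = ⨆ A : {A : Subgroup G // A ≤ H ∧ Cfsg.IsBestOffenderOn p V A}, (A : Subgroup G))
    {A : Subgroup G} (m : MO p V H A) :
    ⁅Q, A⁆ ⊔ A = ⨆ x : ↥H, A.map (MulAut.conj (x : G)).toMonoidHom := by
  apply le_antisymm
  · have hA : A ≤ ⨆ x : ↥H, A.map (MulAut.conj (x : G)).toMonoidHom := by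
      refine le_trans ?_ (le_iSup (fun x : ↥H => A.map (MulAut.conj (x : G)).toMonoidHom) 1)
      intro a ha
      exact ⟨a, ha, by simp⟩
    refine sup_le ?_ hA
    rw [Subgroup.commutator_le]
    intro q hq a ha
    rw [commutatorElement_def]
    have h1 : q * a * q⁻¹ ∈ ⨆ x : ↥H, A.map (MulAut.conj (x : G)).toMonoidHom := by
      refine (le_iSup (fun x : ↥H => A.map (MulAut.conj (x : G)).toMonoidHom)
        ⟨q, h.hQH hq⟩) ?_
      exact ⟨a, ha, by simp [MulAut.conj_apply]⟩
    exact Subgroup.mul_mem _ h1 (Subgroup.inv_mem _ (hA ha))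
  · apply iSup_le
    intro x
    have hx := h.H_le_normalizer_E hS3 m x.2
    exact map_conj_le_of_mem_normalizer le_sup_right hx

theorem map_conj_map_conj (B : Subgroup G) (z x : G) :
    (B.map (MulAut.conj x).toMonoidHom).map (MulAut.conj z).toMonoidHom =
      B.map (MulAut.conj (z * x)).toMonoidHom := by
  rw [Subgroup.map_map]
  congr 1
  ext g
  simp [MulAut.conj_apply, mul_assoc]

/-- conjugation by an element normalizing `V` and `H` permutes the `E_A`. -/
theorem E_conj' (h : FFS p V H Q) [Finite G]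
    (hS3 : H = ⨆ A : {A : Subgroup G // A ≤ H ∧ Cfsg.IsBestOffenderOn p V A}, (A : Subgroup G))
    {A : Subgroup G} (m : MO p V H A) {z : G}
    (hzV : z ∈ Subgroup.normalizer (V : Set G)) (hzH : z ∈ Subgroup.normalizer (H : Set G)) :
    ⁅Q, A.map (MulAut.conj z).toMonoidHom⁆ ⊔ A.map (MulAut.conj z).toMonoidHom =
      (⁅Q, A⁆ ⊔ A).map (MulAut.conj z).toMonoidHom := by
  have m' := m.conj' h hzV hzH
  rw [h.E_eq_iSup hS3 m', h.E_eq_iSup hS3 m, Subgroup.map_iSup]
  apply le_antisymm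
  · apply iSup_le
    intro x
    have hx : z⁻¹ * x * z ∈ H := by
      have := (Subgroup.mem_normalizer_iff.1 (Subgroup.inv_mem _ hzH) x).1 x.2
      simpa using this
    refine le_trans ?_ (le_iSup (fun x : ↥H =>
      (A.map (MulAut.conj (x : G)).toMonoidHom).map (MulAut.conj z).toMonoidHom) ⟨_, hx⟩)
    rw [map_conj_map_conj, map_conj_map_conj]
    apply le_of_eq
    congr 3
    group
  · apply iSup_le
    intro x
    have hx : z * x * z⁻¹ ∈ H := (Subgroup.mem_normalizer_iff.1 hzH x).1 x.2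
    refine le_trans ?_ (le_iSup (fun x : ↥H =>
      (A.map (MulAut.conj z).toMonoidHom).map (MulAut.conj (x : G)).toMonoidHom) ⟨_, hx⟩)
    rw [map_conj_map_conj, map_conj_map_conj]
    apply le_of_eq
    congr 3
    group

theorem W_conj' (h : FFS p V H Q) [Finite G]
    (hS3 : H = ⨆ A : {A : Subgroup G // A ≤ H ∧ Cfsg.IsBestOffenderOn p V A}, (A : Subgroup G))
    {A : Subgroup G} (m : MO p V H A) {z : G}
    (hzV : z ∈ Subgroup.normalizer (V : Set G)) (hzH : z ∈ Subgroup.normalizer (H : Set G)) :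
    ⁅V, ⁅Q, A.map (MulAut.conj z).toMonoidHom⁆ ⊔ A.map (MulAut.conj z).toMonoidHom⁆ =
      (⁅V, ⁅Q, A⁆ ⊔ A⁆).map (MulAut.conj z).toMonoidHom := by
  have hV' : V.map (MulAut.conj z).toMonoidHom = V :=
    Subgroup.mem_normalizer_iff_map_conj_eq.1 hzV
  rw [h.E_conj' hS3 m hzV hzH, Subgroup.map_commutator, hV']

end FFS
end Cfsg.Agent.Lib.H3
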