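import Cfsg.Agent.Lib.H3.Supersolvable5
import Cfsg.Agent.Lib.H3.HallSystem
import Cfsg.Agent.Lib.H3.Wielandt2
import Cfsg.Agent.Lib.H3.Thompson
import Cfsg.Agent.Lib.H1.CoprimeSylow
import Mathlib

/-!
helper3 library: supersolvable groups have a normal Sylow subgroup for the largest prime;
supersolvable Hall subgroups of the same order are conjugate.
-/

set_option autoImplicit false
open scoped Pointwise
open Cfsg

namespace Cfsg.Agent.Lib.H3

/-- A finite supersolvable group has a normal Sylow `p`-subgroup for the largest prime `p`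
dividing its order. -/
theorem exists_normal_sylow_largest_prime.{u} :
    ∀ (n : ℕ) (G : Type u) [Group G] [Finite G], Nat.card G = n → SSReach (⊤ : Subgroup G) →
      ∀ (p : ℕ), p.Prime → p ∣ Nat.card G → (∀ q : ℕ, q.Prime → q ∣ Nat.card G → q ≤ p) →
      ∃ P : Subgroup G, P.Normal ∧ Nat.card P = p ^ (Nat.card G).factorization p := by
  intro n
  induction n using Nat.strong_induction_on with
  | _ n ih =>
  intro G _ _ hcard hss p hp hdvd hmax
  obtain ⟨N, hNn, hNp⟩ := exists_normal_card_eq_largest_prime n G hcard hss p hp hdvd hmax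
  have hmul := Subgroup.card_eq_card_quotient_mul_card_subgroup N
  rw [hNp] at hmul
  have hQpos : 0 < Nat.card (G ⧸ N) := Nat.card_pos
  have hfac : (Nat.card G).factorization p = (Nat.card (G ⧸ N)).factorization p + 1 := by
    rw [hmul, Nat.factorization_mul hQpos.ne' hp.ne_zero, Finsupp.add_apply,
      hp.factorization_self]
  by_cases hpQ : p ∣ Nat.card (G ⧸ N)
  · have hlt : Nat.card (G ⧸ N) < n := by
      rw [← hcard, hmul]
      have := hp.two_le
      nlinarith
    have hssQ : SSReach (⊤ : Subgroup (G ⧸ N)) := by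
      have h1 := hss.map (QuotientGroup.mk' N) (QuotientGroup.mk'_surjective N)
      rwa [Subgroup.map_top_of_surjective _ (QuotientGroup.mk'_surjective N)] at h1
    have hmaxQ : ∀ q : ℕ, q.Prime → q ∣ Nat.card (G ⧸ N) → q ≤ p := by
      intro q hq hqd
      exact hmax q hq (hqd.trans (Dvd.intro _ hmul.symm))
    obtain ⟨Pb, hPbn, hPbc⟩ := ih _ hlt (G ⧸ N) rfl hssQ p hp hpQ hmaxQ
    refine ⟨Pb.comap (QuotientGroup.mk' N), hPbn.comap _, ?_⟩
    rw [card_comap_mk', hPbc, hNp, hfac, pow_succ]
  · refine ⟨N, hNn, ?_⟩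
    rw [hNp, hfac, Nat.factorization_eq_zero_of_not_dvd hpQ, zero_add, pow_one]


theorem ssReach_top_of_surjective {G G' : Type*} [Group G] [Group G'] (f : G →* G')
    (hf : Function.Surjective f) (h : SSReach (⊤ : Subgroup G)) : SSReach (⊤ : Subgroup G') := by
  have h1 := h.map f hf
  rwa [Subgroup.map_top_of_surjective _ hf] at h1

/-- conjugating a subgroup normalizing `P` gives a subgroup normalizing the conjugate of `P` -/
theorem conj_smul_le_normalizer_conj_smul {G : Type*} [Group G] {H P : Subgroup G}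
    (h : H ≤ Subgroup.normalizer (P : Set G)) (g : G) :
    MulAut.conj g • H ≤ Subgroup.normalizer ((MulAut.conj g • P : Subgroup G) : Set G) := by
  intro y hy
  rw [Subgroup.mem_pointwise_smul_iff_inv_smul_mem] at hy
  have hy' := h hy
  rw [Subgroup.mem_normalizer_iff] at hy' ⊢
  intro q
  rw [Subgroup.mem_pointwise_smul_iff_inv_smul_mem, Subgroup.mem_pointwise_smul_iff_inv_smul_mem,
    hy' ((MulAut.conj g)⁻¹ • q)]
  simp only [MulAut.smul_def, MulAut.inv_apply, MulAut.conj_symm_apply, mul_assoc, inv_inv,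
    mul_inv_rev, mul_inv_cancel_left]

/-- Supersolvable Hall subgroups of the same order are conjugate. -/
theorem ss_hall_conj.{u} :
    ∀ (n : ℕ) (G : Type u) [Group G] [Finite G], Nat.card G = n → ∀ (H K : Subgroup G),
      SSReach (⊤ : Subgroup H) → SSReach (⊤ : Subgroup K) → Nat.card H = Nat.card K →
      (Nat.card H).Coprime H.index → ∃ x : G, MulAut.conj x • H = K := by
  intro n
  induction n using Nat.strong_induction_on with
  | _ n ih =>
  intro G _ _ hn H K hssH hssK hcard hHall
  by_cases h1 : Nat.card H = 1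
  · refine ⟨1, ?_⟩
    have hH : H = ⊥ := Subgroup.card_eq_one.1 h1
    have hK : K = ⊥ := Subgroup.card_eq_one.1 (hcard ▸ h1)
    rw [hH, hK, Subgroup.smul_bot]
  -- the largest prime divisor of |H|
  have hHpos : 0 < Nat.card H := Nat.card_pos
  have hne : (Nat.card H).primeFactors.Nonempty := by
    rw [Nat.nonempty_primeFactors]
    omega
  set p := (Nat.card H).primeFactors.max' hne with hp_def
  have hpmem : p ∈ (Nat.card H).primeFactors := Finset.max'_mem _ hne
  have hp : p.Prime := Nat.prime_of_mem_primeFactors hpmem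
  have hpd : p ∣ Nat.card H := Nat.dvd_of_mem_primeFactors hpmem
  have hmax : ∀ q : ℕ, q.Prime → q ∣ Nat.card H → q ≤ p := by
    intro q hq hqd
    exact Finset.le_max' _ _ (Nat.mem_primeFactors.2 ⟨hq, hqd, hHpos.ne'⟩)
  have : Fact p.Prime := ⟨hp⟩
  obtain ⟨P0, hP0n, hP0c⟩ := exists_normal_sylow_largest_prime _ H rfl hssH p hp hpd hmax
  obtain ⟨Q0, hQ0n, hQ0c⟩ := exists_normal_sylow_largest_prime _ K rfl hssK p hp (hcard ▸ hpd)
    (by rw [← hcard]; exact hmax)
  rw [← hcard] at hQ0c
  set a := (Nat.card H).factorization p with ha_def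
  have ha1 : 1 ≤ a := (hp.dvd_iff_one_le_factorization hHpos.ne').1 hpd
  -- p does not divide the index
  have hpi : ¬ p ∣ H.index := by
    intro hd
    have := Nat.Coprime.eq_one_of_dvd (hHall.symm.coprime_dvd_left hd) hpd
    exact hp.one_lt.ne' this
  have hfacG : (Nat.card G).factorization p = a := by
    rw [← Subgroup.index_mul_card H, Nat.factorization_mul (Subgroup.index_ne_zero_of_finite)
      hHpos.ne', Finsupp.add_apply, Nat.factorization_eq_zero_of_not_dvd hpi, zero_add]
  set P : Subgroup G := P0.map H.subtype with hP_def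
  set Q : Subgroup G := Q0.map K.subtype with hQ_def
  have hPc : Nat.card P = p ^ a := by rw [hP_def, card_map_subtype, hP0c]
  have hQc : Nat.card Q = p ^ a := by rw [hQ_def, card_map_subtype, hQ0c]
  have hPH : P ≤ H := Subgroup.map_subtype_le P0
  have hQK : Q ≤ K := Subgroup.map_subtype_le Q0
  have hHP : H ≤ Subgroup.normalizer (P : Set G) := by
    have h2 := Subgroup.le_normalizer_map (H := P0) H.subtype
    rw [Subgroup.normalizer_eq_top_iff.2 hP0n, ← MonoidHom.range_eq_map, Subgroup.range_subtype]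
      at h2
    exact h2
  have hKQ : K ≤ Subgroup.normalizer (Q : Set G) := by
    have h2 := Subgroup.le_normalizer_map (H := Q0) K.subtype
    rw [Subgroup.normalizer_eq_top_iff.2 hQ0n, ← MonoidHom.range_eq_map, Subgroup.range_subtype]
      at h2
    exact h2
  -- Sylow conjugacy
  let PS : Sylow p G := Sylow.ofCard P (by rw [hPc, hfacG])
  let QS : Sylow p G := Sylow.ofCard Q (by rw [hQc, hfacG])
  obtain ⟨g, hg⟩ := MulAction.exists_smul_eq G PS QS
  have hgPQ : MulAut.conj g • P = Q := by
    have h2 := congrArg (fun S : Sylow p G => (S : Subgroup G)) hg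
    simpa [Sylow.coe_subgroup_smul, PS, QS] using h2
  set H₁ : Subgroup G := MulAut.conj g • H with hH₁_def
  have hQH₁ : Q ≤ H₁ := by
    rw [← hgPQ]
    exact Subgroup.pointwise_smul_le_pointwise_smul_iff.2 hPH
  have hH₁Q : H₁ ≤ Subgroup.normalizer (Q : Set G) := by
    rw [← hgPQ]
    exact conj_smul_le_normalizer_conj_smul hHP g
  have hH₁c : Nat.card H₁ = Nat.card H := card_conj_smul g H
  have hH₁i : H₁.index = H.index := index_conj_smul g H
  have hssH₁ : SSReach (⊤ : Subgroup H₁) :=
    ssReach_top_of_surjective (Subgroup.equivSMul (MulAut.conj g) H).toMonoidHom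
      (Subgroup.equivSMul (MulAut.conj g) H).surjective hssH
  suffices hsuff : ∃ x : G, MulAut.conj x • H₁ = K by
    obtain ⟨x, hx⟩ := hsuff
    refine ⟨x * g, ?_⟩
    rw [map_mul, mul_smul]
    exact hx
  have hcard₁ : Nat.card H₁ = Nat.card K := hH₁c.trans hcard
  have hHall₁ : (Nat.card H₁).Coprime H₁.index := by rw [hH₁c, hH₁i]; exact hHall
  have hQpos : 0 < Nat.card Q := Nat.card_pos
  have hQ2 : 2 ≤ Nat.card Q := by
    rw [hQc]
    calc 2 ≤ p := hp.two_le
      _ = p ^ 1 := (pow_one p).symm
      _ ≤ p ^ a := Nat.pow_le_pow_right hp.pos ha1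
  by_cases hQn : Subgroup.normalizer (Q : Set G) = ⊤
  · -- Q is normal in G: pass to the quotient
    have hQnorm : Q.Normal := Subgroup.normalizer_eq_top_iff.1 hQn
    set π := QuotientGroup.mk' Q with hπ_def
    have hπs : Function.Surjective π := QuotientGroup.mk'_surjective Q
    have hlt : Nat.card (G ⧸ Q) < n := by
      rw [← hn, Subgroup.card_eq_card_quotient_mul_card_subgroup Q]
      have : 0 < Nat.card (G ⧸ Q) := Nat.card_pos
      nlinarith
    have hcomapH : (H₁.map π).comap π = H₁ := by
      rw [Subgroup.comap_map_eq, QuotientGroup.ker_mk', sup_eq_left.2 hQH₁]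
    have hcomapK : (K.map π).comap π = K := by
      rw [Subgroup.comap_map_eq, QuotientGroup.ker_mk', sup_eq_left.2 hQK]
    have hcH : Nat.card (H₁.map π) * Nat.card Q = Nat.card H₁ := by
      rw [← card_comap_mk', hcomapH]
    have hcK : Nat.card (K.map π) * Nat.card Q = Nat.card K := by
      rw [← card_comap_mk', hcomapK]
    have hcardq : Nat.card (H₁.map π) = Nat.card (K.map π) := by
      have : Nat.card (H₁.map π) * Nat.card Q = Nat.card (K.map π) * Nat.card Q := by
        rw [hcH, hcK, hcard₁]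
      exact Nat.eq_of_mul_eq_mul_right hQpos this
    have hiq : (H₁.map π).index = H₁.index := by
      rw [← Subgroup.index_comap_of_surjective (H₁.map π) hπs, hcomapH]
    have hHallq : (Nat.card (H₁.map π)).Coprime (H₁.map π).index := by
      rw [hiq]
      exact hHall₁.coprime_dvd_left (Dvd.intro _ hcH)
    have hssHq : SSReach (⊤ : Subgroup (H₁.map π)) :=
      ssReach_top_of_surjective (π.subgroupMap H₁) (π.subgroupMap_surjective H₁) hssH₁
    have hssKq : SSReach (⊤ : Subgroup (K.map π)) :=
      ssReach_top_of_surjective (π.subgroupMap K) (π.subgroupMap_surjective K) hssK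
    obtain ⟨xb, hxb⟩ := ih _ hlt (G ⧸ Q) rfl (H₁.map π) (K.map π) hssHq hssKq hcardq hHallq
    obtain ⟨x, rfl⟩ := hπs xb
    refine ⟨x, ?_⟩
    apply Subgroup.eq_of_le_of_card_ge
    · intro y hy
      rw [Subgroup.mem_pointwise_smul_iff_inv_smul_mem] at hy
      have h2 : π y ∈ MulAut.conj (π x) • (H₁.map π) := by
        rw [Subgroup.mem_pointwise_smul_iff_inv_smul_mem]
        refine ⟨_, hy, ?_⟩
        simp [MulAut.smul_def]
      rw [hxb] at h2
      obtain ⟨k, hk, hkπ⟩ := h2
      have h3 : k⁻¹ * y ∈ Q := by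
        rw [← QuotientGroup.eq]
        exact hkπ
      have h4 : y = k * (k⁻¹ * y) := by group
      rw [h4]
      exact K.mul_mem hk (hQK h3)
    · rw [card_conj_smul, hcard₁]
  · -- Q is not normal: pass to the normalizer
    set N := Subgroup.normalizer (Q : Set G) with hN_def
    have hlt : Nat.card N < n := by
      rw [← hn]
      have hlt' : N < ⊤ := lt_top_iff_ne_top.2 hQn
      have hdvd := Subgroup.card_subgroup_dvd_card N
      have hle := Nat.le_of_dvd Nat.card_pos hdvd
      rcases hle.lt_or_eq with h | h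
      · exact h
      · exact absurd (Subgroup.card_eq_iff_eq_top N |>.1 h) hQn
    have hssH' : SSReach (⊤ : Subgroup (H₁.subgroupOf N)) :=
      ssReach_top_of_surjective (Subgroup.subgroupOfEquivOfLe hH₁Q).symm.toMonoidHom
        (Subgroup.subgroupOfEquivOfLe hH₁Q).symm.surjective hssH₁
    have hssK' : SSReach (⊤ : Subgroup (K.subgroupOf N)) :=
      ssReach_top_of_surjective (Subgroup.subgroupOfEquivOfLe hKQ).symm.toMonoidHom
        (Subgroup.subgroupOfEquivOfLe hKQ).symm.surjective hssK
    have hcard' : Nat.card (H₁.subgroupOf N) = Nat.card (K.subgroupOf N) := by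
      rw [card_subgroupOf_of_le hH₁Q, card_subgroupOf_of_le hKQ, hcard₁]
    have hHall' : (Nat.card (H₁.subgroupOf N)).Coprime (H₁.subgroupOf N).index := by
      rw [card_subgroupOf_of_le hH₁Q]
      exact hHall₁.coprime_dvd_right (Subgroup.relIndex_dvd_index_of_le hH₁Q)
    obtain ⟨x, hx⟩ := ih _ hlt N rfl (H₁.subgroupOf N) (K.subgroupOf N) hssH' hssK' hcard' hHall'
    refine ⟨(x : G), ?_⟩
    have h2 := congrArg (Subgroup.map N.subtype) hx
    rw [conj_smul_map_subtype, Subgroup.map_subgroupOf_eq_of_le hH₁Q,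
      Subgroup.map_subgroupOf_eq_of_le hKQ] at h2
    exact h2

end Cfsg.Agent.Lib.H3
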