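import Mathlib
import Cfsg.Agent.Lib.H3.PMinBNh

/-!
# S2937 (helper3): one more criterion -- a minimal parabolic subgroup fixed by every automorphism stabilizing `U`
(shape (C) of helper22: for the rank two groups in characteristic 2 outside the conclusion)
-/

set_option autoImplicit false

namespace Cfsg.Agent.Lib.H3.PMin

open Cfsg Subgroup Cfsg.Agent.Lib.H2.BN

section

variable {K : Type*} [Group K] {p : ℕ} {P : BNPair K} {T U : Subgroup K}

/-- **criterion**: some minimal parabolic subgroup `P_s` (rank at least two) is stabilized by every automorphism of `K`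
stabilizing `U` -/
theorem Spl.badAt_of_fixed [Finite K] (h : Spl p P T U) (s s' : K) (hs : s ∈ P.S) (hs' : s' ∈ P.S) (hne : s ≠ s')
    (hfix : ∀ φ : K ≃* K, U.map φ.toMonoidHom = U →
      (P.parabolic {s}).map φ.toMonoidHom = P.parabolic {s}) : BadAt p K U := by
  apply h.badAt_of_inv
  intro A _ hA
  refine ⟨P.parabolic {s}, B_le_parabolic _, parabolic_singleton_ne_B hs, ?_, fun φ hφ => hfix φ (hA φ hφ)⟩
  intro htop
  rw [← parabolic_S] at htop
  have := subset_of_parabolic_le (le_refl _) (Set.singleton_subset_iff.mpr hs) htop.ge hs'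
  exact hne (Set.mem_singleton_iff.mp this).symm

/-- elementwise form of the hypothesis of `Spl.badAt_of_fixed` -/
theorem map_eq_of_forall_mem_iff (φ : K ≃* K) (H : Subgroup K) (hφ : ∀ x, x ∈ H ↔ φ x ∈ H) :
    H.map φ.toMonoidHom = H := by
  ext y
  constructor
  · rintro ⟨x, hx, rfl⟩
    exact (hφ x).mp hx
  · intro hy
    refine ⟨φ.symm y, (hφ _).mpr (by simpa using hy), by simp⟩

theorem forall_mem_iff_of_map_eq (φ : K ≃* K) (H : Subgroup K) (hφ : H.map φ.toMonoidHom = H) (x : K) :
    x ∈ H ↔ φ x ∈ H := by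
  constructor
  · intro hx
    rw [← hφ]
    exact ⟨x, hx, rfl⟩
  · intro hx
    rw [← hφ] at hx
    obtain ⟨y, hy, hyx⟩ := hx
    have : y = x := φ.injective hyx
    exact this ▸ hy

end

end Cfsg.Agent.Lib.H3.PMin
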