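import Mathlib
import Cfsg.Agent.Lib.H3.T27CHAR1

/-!
# S3701 (helper7 blueprint), piece CHAR4: explicit values of `Sfun a`
-/

set_option autoImplicit false

namespace Cfsg.Agent.Lib.H3.T27

open Cfsg Cfsg.Agent.Lib.H7.K4 Cfsg.Agent.Lib.H3.H108 Cfsg.Agent.Lib.H7.T27
open scoped ComplexConjugate

theorem zeta_ne_one : ζ ≠ 1 := by
  intro h
  unfold ζ at h
  rw [Complex.exp_eq_one_iff] at h
  obtain ⟨n, hn⟩ := h
  have hpi : (2 * (Real.pi : ℂ) * Complex.I) ≠ 0 := by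
    simp [Real.pi_ne_zero, Complex.I_ne_zero]
  have h1 : (1 : ℂ) / 3 = n := by
    have : 2 * (Real.pi : ℂ) * Complex.I / 3 = (1 / 3) * (2 * Real.pi * Complex.I) := by ring
    rw [this] at hn
    exact mul_right_cancel₀ hpi hn
  have h2 : (1 : ℂ) = 3 * n := by rw [← h1]; norm_num
  have h3 : (1 : ℤ) = 3 * n := by exact_mod_cast h2
  omega

theorem zeta_sum : 1 + ζ + ζ ^ 2 = 0 := by
  have h : (ζ - 1) * (1 + ζ + ζ ^ 2) = 0 := by
    have := zeta_pow_three
    ring_nf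
    ring_nf at this
    rw [this]; ring
  rcases mul_eq_zero.1 h with h1 | h1
  · exact absurd (sub_eq_zero.1 h1) zeta_ne_one
  · exact h1

theorem zeta_cc (s : ZMod 3) : ζ ^ s.val + ζ ^ (-s).val = ((cc s : ℤ) : ℂ) := by
  have h2 := zeta_sum
  fin_cases s
  · show ζ ^ (0 : ZMod 3).val + ζ ^ (-(0 : ZMod 3)).val = ((cc 0 : ℤ) : ℂ)
    have e1 : (0 : ZMod 3).val = 0 := rfl
    have e2 : (-(0 : ZMod 3)).val = 0 := rfl
    have e3 : cc 0 = 2 := by decide
    rw [e1, e2, e3]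
    push_cast
    norm_num
  · show ζ ^ (1 : ZMod 3).val + ζ ^ (-(1 : ZMod 3)).val = ((cc 1 : ℤ) : ℂ)
    have e1 : (1 : ZMod 3).val = 1 := rfl
    have e2 : (-(1 : ZMod 3)).val = 2 := rfl
    have e3 : cc 1 = -1 := by decide
    rw [e1, e2, e3]
    push_cast
    linear_combination h2
  · show ζ ^ (2 : ZMod 3).val + ζ ^ (-(2 : ZMod 3)).val = ((cc 2 : ℤ) : ℂ)
    have e1 : (2 : ZMod 3).val = 2 := rfl
    have e2 : (-(2 : ZMod 3)).val = 1 := rfl
    have e3 : cc 2 = -1 := by decide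
    rw [e1, e2, e3]
    push_cast
    linear_combination h2

theorem zeta_pow_val_add (x y : ZMod 3) : ζ ^ (x + y).val = ζ ^ x.val * ζ ^ y.val := by
  rw [ZMod.val_add, ← pow_add]
  exact (pow_eq_pow_mod _ zeta_pow_three).symm

theorem sum_Ksgn (f : V → ℂ) :
    ∑ κ ∈ Ksgn, f κ = f (1, 1, 1) + f (1, 2, 2) + f (2, 1, 2) + f (2, 2, 1) := by
  unfold Ksgn
  rw [Finset.sum_insert (by decide), Finset.sum_insert (by decide), Finset.sum_insert (by decide),
    Finset.sum_singleton]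
  ring

/-- the value of `Sfun a` on the `T`-part, in terms of `t = lg3 s` -/
theorem Sfun_T (a : V) (s : ↥M3) (hs : (s : S333) ^ 3 = 1) :
    Sfun a s = ζ ^ (dot (act (1, 1, 1) a) (lg3 (s : S333))).val
      + ζ ^ (dot (act (1, 2, 2) a) (lg3 (s : S333))).val
      + ζ ^ (dot (act (2, 1, 2) a) (lg3 (s : S333))).val
      + ζ ^ (dot (act (2, 2, 1) a) (lg3 (s : S333))).val := by
  unfold Sfun
  rw [if_pos hs, sum_Ksgn]

theorem two_eq_neg_one : (2 : ZMod 3) = -1 := by decide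

/-- **CHAR4.** -/
theorem Sfun_values (s : ↥M3) (hs : (s : S333) ^ 3 = 1) :
    Sfun 0 s = 4 ∧
    Sfun e2 s = ((2 * cc (lg3 (s : S333)).2.1 : ℤ) : ℂ) ∧
    Sfun e3 s = ((2 * cc (lg3 (s : S333)).2.2 : ℤ) : ℂ) ∧
    Sfun (r 0) s = ((cc (lg3 (s : S333)).2.1 * cc (lg3 (s : S333)).2.2 : ℤ) : ℂ) ∧
    Sfun (r 1) s = ((cc (lg3 (s : S333)).1 * cc (lg3 (s : S333)).2.2 : ℤ) : ℂ) := by
  generalize ht : lg3 (s : S333) = t at *
  obtain ⟨t1, t2, t3⟩ := t
  have hT := fun a => Sfun_T a s hs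
  simp only [ht] at hT
  refine ⟨?_, ?_, ?_, ?_, ?_⟩
  · rw [hT]
    simp [act, dot]
    norm_num
  · rw [hT]
    have h1 : dot (act (1, 1, 1) e2) (t1, t2, t3) = t2 := by simp [act, dot, e2]
    have h2 : dot (act (1, 2, 2) e2) (t1, t2, t3) = -t2 := by
      simp [act, dot, e2, two_eq_neg_one]
    have h3 : dot (act (2, 1, 2) e2) (t1, t2, t3) = t2 := by simp [act, dot, e2]
    have h4 : dot (act (2, 2, 1) e2) (t1, t2, t3) = -t2 := by
      simp [act, dot, e2, two_eq_neg_one]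
    rw [h1, h2, h3, h4]
    have := zeta_cc t2
    push_cast
    linear_combination 2 * this
  · rw [hT]
    have h1 : dot (act (1, 1, 1) e3) (t1, t2, t3) = t3 := by simp [act, dot, e3]
    have h2 : dot (act (1, 2, 2) e3) (t1, t2, t3) = -t3 := by
      simp [act, dot, e3, two_eq_neg_one]
    have h3 : dot (act (2, 1, 2) e3) (t1, t2, t3) = -t3 := by
      simp [act, dot, e3, two_eq_neg_one]
    have h4 : dot (act (2, 2, 1) e3) (t1, t2, t3) = t3 := by simp [act, dot, e3]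
    rw [h1, h2, h3, h4]
    have := zeta_cc t3
    push_cast
    linear_combination 2 * this
  · rw [hT]
    have hr : r 0 = (0, 1, 1) := rfl
    rw [hr]
    have h1 : dot (act (1, 1, 1) (0, 1, 1)) (t1, t2, t3) = t2 + t3 := by simp [act, dot]
    have h2 : dot (act (1, 2, 2) (0, 1, 1)) (t1, t2, t3) = -t2 + -t3 := by
      simp [act, dot, two_eq_neg_one]
    have h3 : dot (act (2, 1, 2) (0, 1, 1)) (t1, t2, t3) = t2 + -t3 := by
      simp [act, dot, two_eq_neg_one]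
    have h4 : dot (act (2, 2, 1) (0, 1, 1)) (t1, t2, t3) = -t2 + t3 := by
      simp [act, dot, two_eq_neg_one]
    rw [h1, h2, h3, h4, zeta_pow_val_add, zeta_pow_val_add, zeta_pow_val_add, zeta_pow_val_add]
    have e2' := zeta_cc t2
    have e3' := zeta_cc t3
    push_cast
    rw [← e2', ← e3']
    ring
  · rw [hT]
    have hr : r 1 = (1, 0, 1) := rfl
    rw [hr]
    have h1 : dot (act (1, 1, 1) (1, 0, 1)) (t1, t2, t3) = t1 + t3 := by simp [act, dot]
    have h2 : dot (act (1, 2, 2) (1, 0, 1)) (t1, t2, t3) = t1 + -t3 := by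
      simp [act, dot, two_eq_neg_one]
    have h3 : dot (act (2, 1, 2) (1, 0, 1)) (t1, t2, t3) = -t1 + -t3 := by
      simp [act, dot, two_eq_neg_one]
    have h4 : dot (act (2, 2, 1) (1, 0, 1)) (t1, t2, t3) = -t1 + t3 := by
      simp [act, dot, two_eq_neg_one]
    rw [h1, h2, h3, h4, zeta_pow_val_add, zeta_pow_val_add, zeta_pow_val_add, zeta_pow_val_add]
    have e1' := zeta_cc t1
    have e3' := zeta_cc t3
    push_cast
    rw [← e1', ← e3']
    ring

end Cfsg.Agent.Lib.H3.T27
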