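import Mathlib
import Cfsg.Prelude.Def_Blocks
import Cfsg.Prelude.Def_Characters
import Cfsg.Agent.Lib.H23.GagDefs

/-!
# S4561, piece CARD (helper3): `|Tw H₀ p| = |H₀|^p p³` and `|Tw : Z*| = |H₀ : Z(H₀)|^p p²`
-/

set_option autoImplicit false

universe u

namespace Cfsg.Agent.Lib.H3.GAG

open Cfsg Cfsg.Agent.Lib.H23.Gag

theorem card_Cp (p : ℕ) : Nat.card (Cp p) = p := by
  rw [Nat.card_congr (Multiplicative.toAdd : Multiplicative (ZMod p) ≃ ZMod p), Nat.card_zmod]

/-- `phi` is onto (private copy for the count) -/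
theorem phi_surjective_aux {H₀ : Type u} [Group H₀] (p : ℕ) : Function.Surjective (Tw.phi H₀ p) := by
  rintro ⟨⟨F, s⟩, m⟩
  refine ⟨⟨fun t => Quotient.out (F t), s, Multiplicative.toAdd m, 0⟩, ?_⟩
  refine Prod.ext ?_ rfl
  apply RegularWreathProduct.ext
  · funext t
    exact Quotient.out_eq' (F t)
  · rfl

/-- the kernel of `phi` is `Z*` (private copy for the count) -/
theorem ker_phi_aux {H₀ : Type u} [Group H₀] (p : ℕ) : (Tw.phi H₀ p).ker = Tw.zstar H₀ p := by
  ext x
  rw [MonoidHom.mem_ker, Tw.mem_zstar]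
  constructor
  · intro h
    have h1 := congrArg Prod.fst h
    have h2 : Multiplicative.ofAdd x.v = 1 := congrArg Prod.snd h
    have h3 : (fun t => (x.f t : H₀ ⧸ Subgroup.center H₀)) = 1 := congrArg RegularWreathProduct.left h1
    have h4 : x.s = 1 := congrArg RegularWreathProduct.right h1
    refine ⟨h4, ?_, fun t => ?_⟩
    · exact h2
    · have := congrFun h3 t
      exact (QuotientGroup.eq_one_iff _).mp this
  · rintro ⟨h1, h2, h3⟩
    refine Prod.ext ?_ ?_
    · apply RegularWreathProduct.ext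
      · funext t
        exact (QuotientGroup.eq_one_iff _).mpr (h3 t)
      · exact h1
    · show Multiplicative.ofAdd x.v = 1
      rw [h2]
      rfl

section tw

variable {H₀ : Type u} [Group H₀] [Finite H₀] (p : ℕ) [Fact p.Prime]

/-- CARD. -/
theorem card_tw : Nat.card (Tw H₀ p) = (Nat.card H₀) ^ p * p ^ 3 := by
  rw [Nat.card_congr (Tw.equivProd (H₀ := H₀) (p := p)), Nat.card_prod, Nat.card_prod, Nat.card_prod,
    Nat.card_fun, card_Cp, Nat.card_zmod]
  ring

/-- IDX.  `|Tw : Z*| = |H₀ : Z(H₀)|^p p²`. -/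
theorem index_zstar : (Tw.zstar H₀ p).index = (Subgroup.center H₀).index ^ p * p ^ 2 := by
  rw [← ker_phi_aux p, Subgroup.index_ker, MonoidHom.range_eq_top.mpr (phi_surjective_aux p),
    Nat.card_congr (Subgroup.topEquiv (G := ((H₀ ⧸ Subgroup.center H₀) ≀ᵣ Cp p) × Multiplicative (ZMod p))).toEquiv,
    Nat.card_prod, RegularWreathProduct.card, card_Cp, Subgroup.index_eq_card]
  ring

end tw

end Cfsg.Agent.Lib.H3.GAG
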