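import Mathlib
import Cfsg.Prelude.Def_Blocks
import Cfsg.Prelude.Def_Characters
import Cfsg.Agent.Lib.H23.GagDefs

/-!
# S4561, piece EXP (helper3): elements of `Z*` have order dividing `lcm(|Z(H₀)|, p)`
-/

set_option autoImplicit false

universe u

namespace Cfsg.Agent.Lib.H3.GAG

open Cfsg Cfsg.Agent.Lib.H23.Gag

/-- powers of an element of `Z*` are computed componentwise -/
theorem zstar_pow_aux {H₀ : Type u} [Group H₀] (p : ℕ) (z : Tw H₀ p) (hz : z ∈ Tw.zstar H₀ p) (n : ℕ) :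
    (z ^ n).f = z.f ^ n ∧ (z ^ n).s = 1 ∧ (z ^ n).v = 0 ∧ (z ^ n).c = n • z.c := by
  obtain ⟨hs, hv, _⟩ := hz
  induction n with
  | zero => exact ⟨by rw [pow_zero, pow_zero]; rfl, rfl, rfl, by rw [pow_zero, zero_smul]; rfl⟩
  | succ n ih =>
    obtain ⟨h1, h2, h3, h4⟩ := ih
    rw [pow_succ]
    refine ⟨?_, ?_, ?_, ?_⟩
    · rw [Tw.mul_f, h1, h2, pow_succ]
      funext t
      simp
    · rw [Tw.mul_s, h2, hs, one_mul]
    · rw [Tw.mul_v, h3, hv, add_zero]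
    · rw [Tw.mul_c, h4, hv, mul_zero, add_zero, succ_nsmul]

section tw

variable {H₀ : Type u} [Group H₀] [Finite H₀] (p : ℕ) [Fact p.Prime]

/-- EXP.  Elements of `Z*` have order dividing `lcm(|Z(H₀)|, p)`. -/
theorem zstar_pow (z : Tw H₀ p) (hz : z ∈ Tw.zstar H₀ p) :
    z ^ (Nat.lcm (Nat.card (Subgroup.center H₀)) p) = 1 := by
  obtain ⟨h1, h2, h3, h4⟩ := zstar_pow_aux p z hz (Nat.lcm (Nat.card (Subgroup.center H₀)) p)
  apply Tw.ext
  · rw [h1]
    funext t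
    show z.f t ^ (Nat.lcm (Nat.card (Subgroup.center H₀)) p) = 1
    have hc : z.f t ∈ Subgroup.center H₀ := hz.2.2 t
    have h5 : (⟨z.f t, hc⟩ : ↥(Subgroup.center H₀)) ^ Nat.card (Subgroup.center H₀) = 1 := pow_card_eq_one'
    have h6 : z.f t ^ Nat.card (Subgroup.center H₀) = 1 := congrArg Subtype.val h5
    obtain ⟨k, hk⟩ := Nat.dvd_lcm_left (Nat.card (Subgroup.center H₀)) p
    rw [hk, pow_mul, h6, one_pow]
  · exact h2
  · exact h3
  · rw [h4]
    show _ = (0 : ZMod p)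
    obtain ⟨k, hk⟩ := Nat.dvd_lcm_right (Nat.card (Subgroup.center H₀)) p
    rw [hk, mul_smul]
    have : p • (k • z.c) = 0 := by
      rw [nsmul_eq_mul, ZMod.natCast_self, zero_mul]
    exact this

end tw

end Cfsg.Agent.Lib.H3.GAG
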