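import Mathlib

/-!
# S4561, piece KK (helper3): the Kaluzhnin–Krasner embedding `G ↪ M ≀ᵣ (G ⧸ M)`
-/

set_option autoImplicit false

namespace Cfsg.Agent.Lib.H3.GAG

open RegularWreathProduct

section

variable {G : Type*} [Group G] (M : Subgroup G) [M.Normal]

/-- the section `G ⧸ M → G` -/
noncomputable def kkS (q : G ⧸ M) : G := Quotient.out q

omit [M.Normal] in
theorem kkS_mk (q : G ⧸ M) : (QuotientGroup.mk (kkS M q) : G ⧸ M) = q := Quotient.out_eq' q

theorem kk_mem (g : G) (q : G ⧸ M) :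
    (kkS M q)⁻¹ * g * kkS M ((QuotientGroup.mk g : G ⧸ M)⁻¹ * q) ∈ M := by
  rw [← QuotientGroup.eq_one_iff]
  rw [QuotientGroup.mk_mul, QuotientGroup.mk_mul, QuotientGroup.mk_inv, kkS_mk, kkS_mk]
  group

/-- the Kaluzhnin–Krasner map -/
noncomputable def kkFun (g : G) : ↥M ≀ᵣ (G ⧸ M) :=
  ⟨fun q => ⟨(kkS M q)⁻¹ * g * kkS M ((QuotientGroup.mk g : G ⧸ M)⁻¹ * q), kk_mem M g q⟩, QuotientGroup.mk g⟩

/-- the Kaluzhnin–Krasner homomorphism -/
noncomputable def kkHom : G →* (↥M ≀ᵣ (G ⧸ M)) where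
  toFun := kkFun M
  map_one' := by
    apply RegularWreathProduct.ext
    · funext q
      apply Subtype.ext
      show (kkS M q)⁻¹ * 1 * kkS M ((QuotientGroup.mk (1 : G) : G ⧸ M)⁻¹ * q) = 1
      rw [QuotientGroup.mk_one, inv_one, one_mul, mul_one, inv_mul_cancel]
    · rfl
  map_mul' g h := by
    apply RegularWreathProduct.ext
    · funext q
      apply Subtype.ext
      show (kkS M q)⁻¹ * (g * h) * kkS M ((QuotientGroup.mk (g * h) : G ⧸ M)⁻¹ * q) =
        ((kkS M q)⁻¹ * g * kkS M ((QuotientGroup.mk g : G ⧸ M)⁻¹ * q)) *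
          ((kkS M ((QuotientGroup.mk g : G ⧸ M)⁻¹ * q))⁻¹ * h *
            kkS M ((QuotientGroup.mk h : G ⧸ M)⁻¹ * ((QuotientGroup.mk g : G ⧸ M)⁻¹ * q)))
      rw [QuotientGroup.mk_mul, mul_inv_rev, mul_assoc (QuotientGroup.mk h : G ⧸ M)⁻¹]
      group
    · rfl

theorem kkHom_injective : Function.Injective (kkHom M) := by
  rw [injective_iff_map_eq_one]
  intro g hg
  have h1 : (kkFun M g).left (1 : G ⧸ M) = 1 := by
    have : kkFun M g = 1 := hg
    rw [this]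
    rfl
  have h2 : (QuotientGroup.mk g : G ⧸ M) = 1 := by
    have : kkFun M g = 1 := hg
    exact congrArg RegularWreathProduct.right this
  have h3 := congrArg Subtype.val h1
  have h4 : (kkS M 1)⁻¹ * g * kkS M ((QuotientGroup.mk g : G ⧸ M)⁻¹ * 1) = 1 := h3
  rw [h2, inv_one, one_mul] at h4
  calc g = kkS M 1 * ((kkS M 1)⁻¹ * g * kkS M 1) * (kkS M 1)⁻¹ := by group
    _ = 1 := by rw [h4]; group

end

/-- KK (Kaluzhnin–Krasner).  `G` embeds in the regular wreath product `M ≀ᵣ (G ⧸ M)`. -/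
theorem kk_embed {G : Type*} [Group G] (M : Subgroup G) [M.Normal] :
    ∃ f : G →* (↥M ≀ᵣ (G ⧸ M)), Function.Injective f :=
  ⟨kkHom M, kkHom_injective M⟩

end Cfsg.Agent.Lib.H3.GAG
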