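import Mathlib

/-!
# S4561, piece WRMAP (helper3): functoriality of the regular wreath product
-/

set_option autoImplicit false

namespace Cfsg.Agent.Lib.H3.GAG

open RegularWreathProduct

/-- the map `A ≀ᵣ Q → B ≀ᵣ Q'` induced by a hom `f : A →* B` and an iso `e : Q ≃* Q'` -/
def wreathMap {A B Q Q' : Type*} [Group A] [Group B] [Group Q] [Group Q'] (f : A →* B) (e : Q ≃* Q') :
    (A ≀ᵣ Q) →* (B ≀ᵣ Q') where
  toFun x := ⟨f ∘ (x.left ∘ e.symm), e x.right⟩
  map_one' := by ext <;> simp
  map_mul' x y := by ext <;> simp

theorem wreathMap_injective {A B Q Q' : Type*} [Group A] [Group B] [Group Q] [Group Q'] (f : A →* B)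
    (hf : Function.Injective f) (e : Q ≃* Q') : Function.Injective (wreathMap f e) := by
  intro x y hxy
  have h1 : (f ∘ (x.left ∘ e.symm) : Q' → B) = f ∘ (y.left ∘ e.symm) := congrArg RegularWreathProduct.left hxy
  have h2 : e x.right = e y.right := congrArg RegularWreathProduct.right hxy
  apply RegularWreathProduct.ext
  · funext q
    have := congrFun h1 (e q)
    simp only [Function.comp_apply, MulEquiv.symm_apply_apply] at this
    exact hf this
  · exact e.injective h2

/-- WRMAP.  Functoriality of the regular wreath product for an injective hom in the bottom group and an iso on top. -/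
theorem wreath_map_injective {A B Q Q' : Type*} [Group A] [Group B] [Group Q] [Group Q']
    (f : A →* B) (hf : Function.Injective f) (e : Q ≃* Q') :
    ∃ F : (A ≀ᵣ Q) →* (B ≀ᵣ Q'), Function.Injective F :=
  ⟨wreathMap f e, wreathMap_injective f hf e⟩

end Cfsg.Agent.Lib.H3.GAG
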