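import Cfsg.Agent.Lib.H3.KW9
import Mathlib

/-!
helper3 library (Kegel–Wielandt, part 10): reduction of the Kegel–Wielandt theorem to the coprime
case via Kegel's lemma.
-/

set_option autoImplicit false
open scoped Pointwise

namespace Cfsg.Agent.Lib.H3.KW

universe u

namespace MC2

variable {G : Type u} [Group G] [Finite G] {A B : Subgroup G}

/-- In a minimal counterexample no prime divides both `|A|` and `|B|`. -/
theorem false_of_common_prime (mc : MC2 G) (w : NP A B) {p : ℕ} [hp : Fact p.Prime]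
    (hpA : p ∣ Nat.card A) (hpB : p ∣ Nat.card B) : False := by
  haveI := w.nilA
  haveI := w.nilB
  obtain ⟨P⟩ : Nonempty (Sylow p A) := inferInstance
  obtain ⟨Q⟩ : Nonempty (Sylow p B) := inferInstance
  have hApne : (P : Subgroup A).map A.subtype ≠ ⊥ := by
    intro h
    exact P.ne_bot_of_dvd_card hpA
      ((Subgroup.map_eq_bot_iff_of_injective _ A.subtype_injective).mp h)
  have hBpne : (Q : Subgroup B).map B.subtype ≠ ⊥ := by
    intro h
    exact Q.ne_bot_of_dvd_card hpB
      ((Subgroup.map_eq_bot_iff_of_injective _ B.subtype_injective).mp h)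
  have hApp : IsPGroup p ((P : Subgroup A).map A.subtype) := P.isPGroup'.map _
  have hBpp : IsPGroup p ((Q : Subgroup B).map B.subtype) := Q.isPGroup'.map _
  have hAnorm := le_normalizer_map_subtype (P : Subgroup A) inferInstance
  have hBnorm := le_normalizer_map_subtype (Q : Subgroup B) inferInstance
  haveI : Subsingleton (Sylow p A) := by
    haveI := Sylow.unique_of_normal P inferInstance
    infer_instance
  -- key: for every x, Ap * (x • Bp) is a p-subgroup
  have key : ∀ x : G, ∃ R : Subgroup G, IsPGroup p R ∧ (R : Set G) =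
      (((P : Subgroup A).map A.subtype : Subgroup G) : Set G) *
        ((MulAut.conj x • ((Q : Subgroup B).map B.subtype) : Subgroup G) : Set G) := by
    intro x
    obtain ⟨P', Q', R, hR⟩ :=
      Cfsg.Agent.S0560.result A (MulAut.conj x • B) (w.conj_right x).mul p
    refine ⟨R, R.isPGroup', ?_⟩
    rw [hR, map_sylow_conj w.nilB Q x Q', Subsingleton.elim P' P]
  -- the normal closure of `Ap`
  have hK₀n : (Subgroup.normalClosure
      ((((P : Subgroup A).map A.subtype : Subgroup G) : Set G))).Normal :=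
    Subgroup.normalClosure_normal
  have hApK : (P : Subgroup A).map A.subtype ≤ Subgroup.normalClosure
      ((((P : Subgroup A).map A.subtype : Subgroup G) : Set G)) := Subgroup.le_normalClosure
  generalize hK₀ : Subgroup.normalClosure
      ((((P : Subgroup A).map A.subtype : Subgroup G) : Set G)) = K₀ at hK₀n hApK
  have hK₀ne : K₀ ≠ ⊥ := by
    intro h
    apply hApne
    rw [← le_bot_iff, ← h]; exact hApK
  have hK₀idx : ¬ p ∣ K₀.index := mc.not_dvd_index_of_le w hK₀n hK₀ne P hApK
  have hBpK : (Q : Subgroup B).map B.subtype ≤ K₀ :=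
    le_of_normal_of_not_dvd_index hK₀n hK₀idx hBpp
  have hA'ne : ((P : Subgroup A).map A.subtype).subgroupOf K₀ ≠ ⊥ := by
    rw [Ne, Subgroup.subgroupOf_eq_bot, disjoint_iff, inf_eq_left.mpr hApK]; exact hApne
  have hB'ne : ((Q : Subgroup B).map B.subtype).subgroupOf K₀ ≠ ⊥ := by
    rw [Ne, Subgroup.subgroupOf_eq_bot, disjoint_iff, inf_eq_left.mpr hBpK]; exact hBpne
  have hconjmem : ∀ (x b : K₀), b ∈ MulAut.conj x • (((Q : Subgroup B).map B.subtype).subgroupOf K₀) ↔
      (b : G) ∈ MulAut.conj (x : G) • ((Q : Subgroup B).map B.subtype) := by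
    intro x b
    rw [Subgroup.mem_pointwise_smul_iff_inv_smul_mem, Subgroup.mem_pointwise_smul_iff_inv_smul_mem,
      Subgroup.mem_subgroupOf]
    simp [MulAut.smul_def, MulAut.conj_inv_apply]
  have hkegel : ∀ x : K₀, ∃ S : Subgroup K₀, S ≠ ⊤ ∧ (S : Set K₀) =
      ((((P : Subgroup A).map A.subtype).subgroupOf K₀ : Subgroup K₀) : Set K₀) *
      ((MulAut.conj x • (((Q : Subgroup B).map B.subtype).subgroupOf K₀) : Subgroup K₀) : Set K₀) := by
    intro x
    obtain ⟨R, hRp, hR⟩ := key x.1
    refine ⟨R.subgroupOf K₀, ?_, ?_⟩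
    · intro htop
      have hK₀R : K₀ ≤ R := Subgroup.subgroupOf_eq_top.mp htop
      exact mc.not_isPGroup_of_normal w hK₀n hK₀ne (hRp.to_le hK₀R)
    · ext k
      constructor
      · intro hk
        have hk' : k.1 ∈ (R : Set G) := Subgroup.mem_subgroupOf.mp hk
        rw [hR] at hk'
        obtain ⟨a, ha, b, hb, hab⟩ := hk'
        have haK : a ∈ K₀ := hApK ha
        have hbK : b ∈ K₀ := by
          have h1 : b = a⁻¹ * k.1 := by rw [← hab]; group
          rw [h1]; exact K₀.mul_mem (K₀.inv_mem haK) k.2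
        refine ⟨⟨a, haK⟩, Subgroup.mem_subgroupOf.mpr ha, ⟨b, hbK⟩, ?_, Subtype.ext hab⟩
        exact (hconjmem x ⟨b, hbK⟩).mpr hb
      · rintro ⟨a, ha, b, hb, rfl⟩
        apply Subgroup.mem_subgroupOf.mpr
        have h1 : ((a * b : K₀) : G) ∈ (R : Set G) := by
          rw [hR]
          exact ⟨a.1, Subgroup.mem_subgroupOf.mp ha, b.1, (hconjmem x b).mp hb, rfl⟩
        exact h1
  obtain ⟨N₂, hN₂n, hN₂top, hor⟩ := Cfsg.Agent.S0566.result _ _ hA'ne hB'ne hkegel
  apply hN₂top
  rw [eq_top_iff]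
  suffices h : K₀ ≤ N₂.map K₀.subtype by
    intro k _
    obtain ⟨y, hy, hyk⟩ := h k.2
    have : y = k := Subtype.ext hyk
    rwa [this] at hy
  have hcore : ∀ (V F : Subgroup G), V ≤ N₂.map K₀.subtype →
      F ≤ Subgroup.normalizer (V : Set G) → (∀ g : G, ∃ n ∈ K₀, ∃ f ∈ F, g = n * f) →
      V ≤ (N₂.map K₀.subtype).normalCore := by
    intro V F hV hF hmul v hv g
    obtain ⟨n, hn, f, hf, rfl⟩ := hmul g
    have h1 : f * v * f⁻¹ ∈ V := (Subgroup.mem_normalizer_iff.mp (hF hf) v).mp hv
    obtain ⟨y, hy, hyv⟩ := hV h1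
    have h2 : (⟨n, hn⟩ : K₀) * y * (⟨n, hn⟩ : K₀)⁻¹ ∈ N₂ := hN₂n.conj_mem y hy _
    refine ⟨_, h2, ?_⟩
    have hyv' : (y : G) = f * v * f⁻¹ := hyv
    simp only [Subgroup.subtype_apply, Subgroup.coe_mul, Subgroup.coe_inv, hyv']
    group
  rcases hor with h | h
  · have hV : (P : Subgroup A).map A.subtype ≤ N₂.map K₀.subtype := by
      intro a ha
      exact ⟨⟨a, hApK ha⟩, h (Subgroup.mem_subgroupOf.mpr ha), rfl⟩
    have h1 := hcore _ A hV hAnorm (mc.exists_mul_of_normal w hK₀n hK₀ne)
    exact hK₀.symm.le.trans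
      ((Subgroup.normalClosure_le_normal h1).trans (Subgroup.normalCore_le _))
  · have hV : (Q : Subgroup B).map B.subtype ≤ N₂.map K₀.subtype := by
      intro b hb
      exact ⟨⟨b, hBpK hb⟩, h (Subgroup.mem_subgroupOf.mpr hb), rfl⟩
    have h1 := hcore _ B hV hBnorm (mc.exists_mul_of_normal w.symm hK₀n hK₀ne)
    have hM'ne : (N₂.map K₀.subtype).normalCore ≠ ⊥ := by
      intro h2
      apply hBpne
      rw [← le_bot_iff, ← h2]; exact h1
    have hidx := mc.not_dvd_index_of_le w.symm (Subgroup.normalCore_normal _) hM'ne Q h1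
    have h2 : (P : Subgroup A).map A.subtype ≤ (N₂.map K₀.subtype).normalCore :=
      le_of_normal_of_not_dvd_index (Subgroup.normalCore_normal _) hidx hApp
    exact hK₀.symm.le.trans
      ((Subgroup.normalClosure_le_normal h2).trans (Subgroup.normalCore_le _))

end MC2

/-- **Kegel–Wielandt**: a finite group which is the product of two nilpotent subgroups is
solvable. -/
theorem solvable_of_np_aux : ∀ (n : ℕ) (G : Type u) [Group G] [Finite G], Nat.card G = n →
    ∀ A B : Subgroup G, NP A B → Group.IsSolvable G := by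
  intro n
  induction n using Nat.strong_induction_on with
  | _ n ih =>
    intro G _ _ hn A B w
    by_contra hns
    have mc : MC2 G :=
      ⟨fun H _ _ hlt A' B' w' => ih (Nat.card H) (hn ▸ hlt) H rfl A' B' w', hns⟩
    have hcop : (Nat.card A).Coprime (Nat.card B) := by
      apply Nat.coprime_of_dvd
      intro p hp hpA hpB
      haveI : Fact p.Prime := ⟨hp⟩
      exact mc.false_of_common_prime w hpA hpB
    exact hns (solvable_of_wp ⟨w.nilA, w.nilB, hcop, w.mul⟩)

theorem solvable_of_np {G : Type u} [Group G] [Finite G] {A B : Subgroup G} (w : NP A B) :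
    Group.IsSolvable G :=
  solvable_of_np_aux _ G rfl A B w

end Cfsg.Agent.Lib.H3.KW
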