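import Mathlib
import Cfsg.Agent.Lib.H26.EssDefs

/-!
# S5188-P3 (helper26's farm-out): type `(2,2)` forces `p ≤ 3`

`p_le_three_of_sq_sq` : an abelian group of order `p⁴` and exponent `p²` with `Ω₁ ≤ ℧₁` has no `EssAut`
group of automorphisms for `p ≥ 5` (the `(1+N)^p = 1 + pN` computation).
-/

set_option autoImplicit false

namespace Cfsg.Agent.Lib.H3.Ess

open Cfsg.Agent.Lib.H26.Ess

section core

variable {M : Type*} [AddCommGroup M]

/-- A nilpotent endomorphism strictly shrinks a non-trivial invariant subgroup. -/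
theorem map_ne_self (N : M →+ M) (H : AddSubgroup M) (k : ℕ) (hk : ∀ x ∈ H, (⇑N)^[k] x = 0)
    (hne : H ≠ ⊥) : H.map N ≠ H := by
  intro h
  apply hne
  have key : ∀ j : ℕ, ∀ x ∈ H, ∃ y ∈ H, (⇑N)^[j] y = x := by
    intro j
    induction j with
    | zero => intro x hx; exact ⟨x, hx, rfl⟩
    | succ j ih =>
      intro x hx
      rw [← h] at hx
      obtain ⟨z, hz, rfl⟩ := hx
      obtain ⟨y, hy, rfl⟩ := ih z hz
      exact ⟨y, hy, by rw [Function.iterate_succ_apply']⟩
  rw [eq_bot_iff]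
  intro x hx
  obtain ⟨y, hy, rfl⟩ := key k x hx
  rw [hk y hy]
  exact AddSubgroup.zero_mem _

/-- A nilpotent endomorphism of a group of order `p²` has square zero. -/
theorem sq_zero_of_card (p : ℕ) [Fact p.Prime] [Finite M] (N : M →+ M) (W : AddSubgroup M)
    (hWN : ∀ x ∈ W, N x ∈ W) (hcard : Nat.card W = p ^ 2) (k : ℕ)
    (hk : ∀ x ∈ W, (⇑N)^[k] x = 0) : ∀ x ∈ W, N (N x) = 0 := by
  have hp := (Fact.out : p.Prime)
  have h1 : W.map N ≤ W := by rintro _ ⟨x, hx, rfl⟩; exact hWN x hx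
  have h2 : (W.map N).map N ≤ W.map N := by
    rintro _ ⟨x, hx, rfl⟩; exact AddSubgroup.mem_map_of_mem N (h1 hx)
  have hWne : W ≠ ⊥ := by
    intro h
    rw [h, AddSubgroup.card_bot] at hcard
    have : 1 < p ^ 2 := Nat.one_lt_pow (by norm_num) hp.one_lt
    omega
  have hk1 : ∀ x ∈ W.map N, (⇑N)^[k] x = 0 := fun x hx => hk x (h1 hx)
  have hne1 : W.map N ≠ W := map_ne_self N W k hk hWne
  have hd1 : Nat.card (W.map N) ∣ p ^ 2 := hcard ▸ AddSubgroup.card_dvd_of_le h1
  obtain ⟨i, hi, hci⟩ := (Nat.dvd_prime_pow hp).1 hd1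
  have hi1 : i ≤ 1 := by
    by_contra hcon
    have : i = 2 := by omega
    subst this
    exact hne1 (AddSubgroup.eq_of_le_of_card_ge h1 (by rw [hci, hcard]))
  have hW2 : (W.map N).map N = ⊥ := by
    by_cases hb : W.map N = ⊥
    · rw [hb]; exact AddSubgroup.map_bot N
    · have hne2 : (W.map N).map N ≠ W.map N := map_ne_self N (W.map N) k hk1 hb
      have hd2 : Nat.card ((W.map N).map N) ∣ p ^ i := hci ▸ AddSubgroup.card_dvd_of_le h2
      obtain ⟨j, hj, hcj⟩ := (Nat.dvd_prime_pow hp).1 hd2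
      have hj0 : j = 0 := by
        by_contra hcon
        have hji : j = i := by omega
        exact hne2 (AddSubgroup.eq_of_le_of_card_ge h2 (by rw [hci, hcj, hji]))
      subst hj0
      exact AddSubgroup.eq_bot_of_card_eq _ (by simpa using hcj)
  intro x hx
  have hmem : N (N x) ∈ (W.map N).map N :=
    AddSubgroup.mem_map_of_mem N (AddSubgroup.mem_map_of_mem N hx)
  rw [hW2] at hmem
  exact AddSubgroup.mem_bot.1 hmem

/-- The binomial expansion of `u^p = ((u - 1) + 1)^p`, evaluated at a point. -/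
theorem binom_apply (u : M →+ M) (p : ℕ) (hu : ∀ x, (⇑u)^[p] x = x) :
    ∃ N : Module.End ℤ M, (∀ x, N x = u x - x) ∧
      ∀ x, ∑ m ∈ Finset.range (p + 1), (p.choose m) • ((N ^ m) x) = x := by
  let U : Module.End ℤ M := u.toIntLinearMap
  let N : Module.End ℤ M := U - 1
  have hUN : N + 1 = U := by simp [N]
  refine ⟨N, fun x => by simp [N, U], fun x => ?_⟩
  have h1 := (Commute.one_right N).add_pow p
  rw [hUN] at h1
  have h2 : (U ^ p) x = x := by
    rw [Module.End.pow_apply]; exact hu x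
  rw [h1, LinearMap.sum_apply] at h2
  refine Eq.trans (Finset.sum_congr rfl (fun m _ => ?_)) h2
  rw [one_pow, mul_one, Module.End.mul_apply, Module.End.natCast_apply, map_nsmul]

/-- The additive core of P3. -/
theorem core_add [Finite M] {p : ℕ} [Fact p.Prime] (hp5 : 5 ≤ p) (hcard : Nat.card M = p ^ 4)
    (h2 : ∀ x : M, (p ^ 2) • x = 0) (hroot : ∀ x : M, p • x = 0 → ∃ y, p • y = x)
    (u : M →+ M) (hu : ∀ x, (⇑u)^[p] x = x) (x : M) : p • u x = p • x := by
  have hp := (Fact.out : p.Prime)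
  obtain ⟨N, hN, hbin⟩ := binom_apply u p hu
  have hpp : ∀ y : M, p • (p • y) = 0 := by
    intro y; rw [← mul_nsmul, ← pow_two]; exact h2 y
  -- `W = Ω₁ = ℧₁`
  let φ : M →+ M := nsmulAddMonoidHom p
  have hWmem : ∀ y, y ∈ φ.ker ↔ p • y = 0 := fun y => by
    rw [AddMonoidHom.mem_ker]; rfl
  have hrange : φ.range = φ.ker := by
    ext y; constructor
    · rintro ⟨z, rfl⟩; rw [hWmem]; exact hpp z
    · intro hy; obtain ⟨z, hz⟩ := hroot y ((hWmem y).1 hy); exact ⟨z, hz⟩
  have hWcard : Nat.card φ.ker = p ^ 2 := by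
    have h := AddSubgroup.card_eq_card_quotient_mul_card_addSubgroup φ.ker
    have e : Nat.card (M ⧸ φ.ker) = Nat.card φ.range :=
      Nat.card_congr (QuotientAddGroup.quotientKerEquivRange φ).toEquiv
    rw [e, hrange, hcard] at h
    have h4 : p ^ 4 = p ^ 2 * p ^ 2 := by ring
    rw [h4] at h
    exact (Nat.mul_self_inj.1 h).symm
  have hNW : ∀ y ∈ φ.ker, N y ∈ φ.ker := by
    intro y hy
    rw [hWmem] at hy ⊢
    rw [← map_nsmul, hy, map_zero]
  -- middle binomial coefficients
  have hchoose : ∀ c : ℕ, c ≠ 0 → c < p → ∃ d, p.choose c = p * d := fun c hc0 hcp =>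
    hp.dvd_choose_self hc0 hcp
  have hNp : ∀ y ∈ φ.ker, (N ^ p) y = 0 := by
    intro y hy
    have hy0 : p • y = 0 := (hWmem y).1 hy
    have hb := hbin y
    rw [Finset.sum_eq_add_of_mem 0 p (by simp) (by simp) hp.pos.ne] at hb
    · simpa using hb
    · intro c hc hne
      obtain ⟨d, hd⟩ := hchoose c hne.1 (by
        have := Finset.mem_range.1 hc
        have := hne.2
        omega)
      rw [← map_nsmul, hd, mul_nsmul, hy0, smul_zero, map_zero]
  have hsq : ∀ y ∈ φ.ker, N (N y) = 0 := by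
    have := sq_zero_of_card p N.toAddMonoidHom φ.ker hNW hWcard p (by
      intro y hy
      have := hNp y hy
      rw [Module.End.pow_apply] at this
      exact this)
    exact this
  have hpx : ∀ y : M, p • y ∈ φ.ker := fun y => (hWmem _).2 (hpp y)
  have hpN2 : ∀ y : M, p • N (N y) = 0 := by
    intro y
    rw [← map_nsmul, ← map_nsmul]
    exact hsq _ (hpx y)
  have hN4 : ∀ y : M, N (N (N (N y))) = 0 := fun y => hsq _ ((hWmem _).2 (hpN2 y))
  -- the final computation
  have hb := hbin x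
  have h1p : (1 : ℕ) ≠ p := by omega
  rw [Finset.sum_eq_add_of_mem 0 1 (by simp) (by simp; omega) (by norm_num)] at hb
  · have hpN : p • N x = 0 := by simpa using hb
    rw [hN, nsmul_sub, sub_eq_zero] at hpN
    exact hpN
  · intro c hc hne
    have hcle : c ≤ p := by have := Finset.mem_range.1 hc; omega
    have hc2 : 2 ≤ c := by have := hne.1; have := hne.2; omega
    rcases Nat.lt_or_ge c p with hcp | hcp
    · obtain ⟨d, hd⟩ := hchoose c hne.1 hcp
      have hsplit : N ^ c = N ^ (c - 2) * N ^ 2 := by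
        rw [← pow_add]; congr 1; omega
      rw [hsplit, Module.End.mul_apply, ← map_nsmul, pow_two, Module.End.mul_apply, hd,
        mul_nsmul, hpN2, smul_zero, map_zero]
    · have hcp' : c = p := le_antisymm hcle hcp
      subst hcp'
      have hsplit : N ^ c = N ^ (c - 4) * (N * N * N * N) := by
        have : N * N * N * N = N ^ 4 := by
          rw [pow_succ, pow_succ, pow_succ, pow_one]
        rw [this, ← pow_add]; congr 1; omega
      rw [hsplit, Module.End.mul_apply]
      simp only [Module.End.mul_apply]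
      rw [hN4, map_zero, smul_zero]

end core

section wrapper

variable {G : Type*}

theorem iterate_toAdditive [CommGroup G] (u : MulAut G) (n : ℕ) (y : Additive G) :
    (⇑(MonoidHom.toAdditive u.toMonoidHom))^[n] y = Additive.ofMul ((u ^ n) (Additive.toMul y)) := by
  induction n with
  | zero => simp
  | succ n ih =>
    rw [Function.iterate_succ_apply', ih, pow_succ', MulAut.mul_apply]
    rfl

theorem p3_comm [CommGroup G] [Finite G] {p : ℕ} [Fact p.Prime]
    (hcard : Nat.card G = p ^ 4)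
    (h2 : ∀ x : G, x ^ (p ^ 2) = 1) (hroot : ∀ x : G, x ^ p = 1 → ∃ y : G, y ^ p = x)
    {A : Subgroup (MulAut G)} (hA : EssAut p A) : p = 2 ∨ p = 3 := by
  have hp := (Fact.out : p.Prime)
  by_contra hcon
  have hp5 : 5 ≤ p := by
    have h2' := hp.two_le
    have h4 : p ≠ 4 := by rintro rfl; norm_num at hp
    omega
  have hInn : ∀ β ∈ Cfsg.Inn G, β = 1 := by
    rintro _ ⟨g, rfl⟩
    ext x
    simp [MulAut.conj_apply]
  -- the pointwise stabiliser of `℧₁`
  let K : Subgroup (MulAut G) :=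
    { carrier := {β | ∀ x : G, β (x ^ p) = x ^ p}
      one_mem' := fun x => rfl
      mul_mem' := fun {a b} ha hb x => by rw [MulAut.mul_apply, hb x, ha x]
      inv_mem' := fun {a} ha x => by
        have h := ha x
        conv_lhs => rw [← h]
        exact MulAut.inv_apply_self _ _ _ }
  have hKmem : ∀ β : MulAut G, β ∈ K ↔ ∀ x : G, β (x ^ p) = x ^ p := fun β => Iff.rfl
  have hKpow : ∀ β ∈ K, β ^ p = 1 := by
    intro β hβ
    have hβ' := (hKmem β).1 hβ
    have hh : ∀ x : G, (β x / x) ^ p = 1 := fun x => by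
      rw [div_pow, ← map_pow, hβ' x, div_self']
    have key : ∀ x : G, ∀ n : ℕ, (β ^ n) x = x * (β x / x) ^ n := by
      intro x
      obtain ⟨y, hy⟩ := hroot (β x / x) (hh x)
      have hfix : β (β x / x) = β x / x := by rw [← hy]; exact hβ' y
      intro n
      induction n with
      | zero => simp
      | succ n ih =>
        rw [pow_succ', MulAut.mul_apply, ih, map_mul, map_pow, hfix, pow_succ]
        have hx : β x = x * (β x / x) := by rw [mul_div_cancel]
        rw [mul_comm ((β x / x) ^ n) (β x / x), ← mul_assoc, ← hx]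
    ext x
    rw [key x p, hh x, mul_one, MulAut.one_apply]
  have hKnormal : ∀ a : MulAut G, ∀ b ∈ K, a * b * a⁻¹ ∈ K := by
    intro a b hb
    rw [hKmem] at hb ⊢
    intro x
    rw [MulAut.mul_apply, MulAut.mul_apply, map_pow, hb, ← map_pow, MulAut.apply_inv_self]
  have hKA : ∀ β ∈ A, β ∈ K → β = 1 := by
    intro β hβA hβK
    have hle := hA.core_le (K ⊓ A) inf_le_right
      (fun a ha b hb => ⟨hKnormal a b hb.1, A.mul_mem (A.mul_mem ha hb.2) (A.inv_mem ha)⟩)
      (by
        intro g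
        refine ⟨1, ?_⟩
        apply Subtype.ext
        rw [pow_one, Subgroup.coe_pow, Subgroup.coe_one]
        exact hKpow g.1 g.2.1)
    exact hInn β (hle ⟨hβK, hβA⟩)
  obtain ⟨α, hαA, ⟨k, hk⟩, hαInn⟩ := hA.exists_pElt
  have hα1 : α ≠ 1 := by rintro rfl; exact hαInn (Subgroup.one_mem _)
  have hfind : ∀ k : ℕ, ∀ α ∈ A, α ^ (p ^ k) = 1 → α ≠ 1 → ∃ u ∈ A, u ≠ 1 ∧ u ^ p = 1 := by
    intro k
    induction k with
    | zero => intro α _ h1 h2; rw [pow_zero, pow_one] at h1; exact absurd h1 h2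
    | succ k ih =>
      intro α hαA h1 h2
      by_cases hαp : α ^ p = 1
      · exact ⟨α, hαA, h2, hαp⟩
      · exact ih (α ^ p) (A.pow_mem hαA p) (by rw [← pow_mul, ← pow_succ']; exact h1) hαp
  obtain ⟨u, huA, hu1, hup⟩ := hfind k α hαA hk hα1
  apply hu1
  apply hKA u huA
  rw [hKmem]
  intro x
  have hiter : ∀ y : Additive G, (⇑(MonoidHom.toAdditive u.toMonoidHom))^[p] y = y := by
    intro y
    rw [iterate_toAdditive, hup]
    rfl
  have hcore := core_add (M := Additive G) hp5 (by rw [← hcard]; rfl)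
    (fun y => h2 (Additive.toMul y)) (fun y hy => by
      obtain ⟨z, hz⟩ := hroot (Additive.toMul y) hy
      exact ⟨Additive.ofMul z, hz⟩)
    (MonoidHom.toAdditive u.toMonoidHom) hiter (Additive.ofMul x)
  have hcore' : (u x) ^ p = x ^ p := hcore
  rw [map_pow, hcore']

end wrapper

/-- **S5188-P3** (type (2,2), the `(1+N)^p = 1 + pN` computation).  -/
theorem p_le_three_of_sq_sq {G : Type*} [Group G] [Finite G] {p : ℕ} [Fact p.Prime]
    (hcomm : ∀ a b : G, a * b = b * a) (hcard : Nat.card G = p ^ 4)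
    (h2 : ∀ x : G, x ^ (p ^ 2) = 1) (hroot : ∀ x : G, x ^ p = 1 → ∃ y : G, y ^ p = x)
    {A : Subgroup (MulAut G)} (hA : EssAut p A) : p = 2 ∨ p = 3 := by
  let _ : CommGroup G := { ‹Group G› with mul_comm := hcomm }
  exact p3_comm hcard h2 hroot hA

end Cfsg.Agent.Lib.H3.Ess
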