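import Mathlib
import Cfsg.Agent.Lib.H26.EssDefs
import Cfsg.Agent.Lib.H16.ClassTwo

/-!
# S5188-P5a (helper26's farm-out): `|G| = p⁴`, `Z(G) ≅ C_p × C_p`, `p` odd

`exp_p_or_chain` : `G` has exponent `p`, or a chain of characteristic subgroups of orders `p, p², p³`
(`im π < Z < ker π` or `G' < Z < π⁻¹(G')`, `π : x ↦ x^p`).
-/

set_option autoImplicit false

namespace Cfsg.Agent.Lib.H3.Ess

open Cfsg.Agent.Lib.H26.Ess

/-- A subgroup of prime order lies in every subgroup containing one of its non-trivial elements. -/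
theorem le_of_card_prime {G : Type*} [Group G] [Finite G] {p : ℕ} (hp : p.Prime)
    {H K : Subgroup G} (hH : Nat.card H = p) {c : G} (hcH : c ∈ H) (hcK : c ∈ K) (hc : c ≠ 1) :
    H ≤ K := by
  have hd : Nat.card (H ⊓ K : Subgroup G) ∣ p := hH ▸ Subgroup.card_dvd_of_le inf_le_left
  rcases (Nat.dvd_prime hp).1 hd with h1 | h1
  · exfalso
    have hbot := Subgroup.eq_bot_of_card_eq _ h1
    have hmem : c ∈ H ⊓ K := ⟨hcH, hcK⟩
    rw [hbot, Subgroup.mem_bot] at hmem
    exact hc hmem
  · have hHK : H ⊓ K = H := Subgroup.eq_of_le_of_card_ge inf_le_left (by rw [h1, hH])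
    rw [← hHK]; exact inf_le_right

/-- **S5188-P5a** (`Z ≅ C_p × C_p`, `p` odd).  Exponent `p`, or chain `G' < Z < ker(x ↦ x^p)` resp.
`G' < Z < {x | x^p ∈ G'}`. -/
theorem exp_p_or_chain {G : Type*} [Group G] [Finite G] {p : ℕ} [Fact p.Prime] (hp : p ≠ 2)
    (hcard : Nat.card G = p ^ 4) (hZ : Nat.card (Subgroup.center G) = p ^ 2)
    (hZe : ∀ z ∈ Subgroup.center G, z ^ p = 1) : (∀ x : G, x ^ p = 1) ∨ HasCharChain p G := by
  have hpp := (Fact.out : p.Prime)
  have hodd : Odd p := hpp.eq_two_or_odd'.resolve_left hp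
  set Z := Subgroup.center G with hZdef
  have hq : Nat.card (G ⧸ Z) = p ^ 2 := by
    have h := Subgroup.card_eq_card_quotient_mul_card_subgroup Z
    rw [hcard, hZ] at h
    have h4 : p ^ 4 = p ^ 2 * p ^ 2 := by ring
    rw [h4] at h
    exact (Nat.eq_of_mul_eq_mul_right (pow_pos hpp.pos 2) h).symm
  have hqc : ∀ a b : G ⧸ Z, a * b = b * a :=
    (IsPGroup.isMulCommutative_of_card_eq_prime_sq hq).is_comm.comm
  have hcen : ∀ x y : G, (x * y)⁻¹ * (y * x) ∈ Z := by
    intro x y
    rw [← QuotientGroup.eq_one_iff]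
    simp only [QuotientGroup.mk_mul, QuotientGroup.mk_inv]
    rw [hqc (y : G ⧸ Z) x]; group
  have hcomm' : ∀ x g : G, x * g * x⁻¹ * g⁻¹ ∈ Z := by
    intro x g
    rw [← QuotientGroup.eq_one_iff]
    simp only [QuotientGroup.mk_mul, QuotientGroup.mk_inv]
    rw [hqc (x : G ⧸ Z) g]; group
  -- the commutator homomorphisms `g ↦ [x, g]`
  have hfmul : ∀ x g h : G,
      x * (g * h) * x⁻¹ * (g * h)⁻¹ = (x * g * x⁻¹ * g⁻¹) * (x * h * x⁻¹ * h⁻¹) := by
    intro x g h
    have hz := Subgroup.mem_center_iff.1 (hcomm' x h)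
    calc x * (g * h) * x⁻¹ * (g * h)⁻¹
        = x * g * x⁻¹ * ((x * h * x⁻¹ * h⁻¹) * g⁻¹) := by group
      _ = x * g * x⁻¹ * (g⁻¹ * (x * h * x⁻¹ * h⁻¹)) := by rw [← hz g⁻¹]
      _ = _ := by group
  let f : G → G →* G := fun x => MonoidHom.mk' (fun g => x * g * x⁻¹ * g⁻¹) (hfmul x)
  have hf : ∀ x g : G, f x g = x * g * x⁻¹ * g⁻¹ := fun x g => rfl
  have hker_mem : ∀ x g : G, g ∈ (f x).ker ↔ x * g = g * x := by
    intro x g
    rw [MonoidHom.mem_ker, hf]
    constructor
    · intro h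
      calc x * g = (x * g * x⁻¹ * g⁻¹) * g * x := by group
        _ = g * x := by rw [h, one_mul]
    · intro h
      rw [h]; group
  have hIcard : ∀ x : G, x ∉ Z → Nat.card (f x).range = p := by
    intro x hx
    have hZker : Z ≤ (f x).ker := fun z hz =>
      (hker_mem x z).2 (Subgroup.mem_center_iff.1 hz x)
    have hxker : x ∈ (f x).ker := (hker_mem x x).2 rfl
    have hmul : Nat.card (f x).range * Nat.card (f x).ker = p ^ 4 := by
      have h := Subgroup.card_eq_card_quotient_mul_card_subgroup (f x).ker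
      rw [Nat.card_congr (QuotientGroup.quotientKerEquivRange (f x)).toEquiv, hcard] at h
      exact h.symm
    have hd : Nat.card (f x).ker ∣ p ^ 4 := Dvd.intro_left _ hmul
    obtain ⟨i, hi, hci⟩ := (Nat.dvd_prime_pow hpp).1 hd
    have hi2 : 2 ≤ i := by
      have h2 : p ^ 2 ∣ p ^ i := by
        rw [← hZ, ← hci]; exact Subgroup.card_dvd_of_le hZker
      exact (Nat.pow_dvd_pow_iff_le_right hpp.one_lt).1 h2
    have hi2' : i ≠ 2 := by
      rintro rfl
      have hEq : Z = (f x).ker := Subgroup.eq_of_le_of_card_ge hZker (by rw [hci, hZ])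
      exact hx (hEq ▸ hxker)
    have hi4 : i ≠ 4 := by
      rintro rfl
      have htop : (f x).ker = ⊤ := Subgroup.eq_top_of_card_eq _ (by rw [hci, hcard])
      apply hx
      rw [Subgroup.mem_center_iff]
      intro g
      have hg : g ∈ (f x).ker := htop ▸ Subgroup.mem_top g
      exact ((hker_mem x g).1 hg).symm
    have hi3 : i = 3 := by omega
    rw [hci, hi3] at hmul
    have h43 : p ^ 4 = p * p ^ 3 := by ring
    rw [h43] at hmul
    exact Nat.eq_of_mul_eq_mul_right (pow_pos hpp.pos 3) hmul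
  -- a non-central element
  obtain ⟨x0, hx0⟩ : ∃ x0 : G, x0 ∉ Z := by
    by_contra hcon
    have hall : ∀ x : G, x ∈ Z := fun x => by
      by_contra hx; exact hcon ⟨x, hx⟩
    have htop : Z = ⊤ := by
      rw [eq_top_iff]; intro x _; exact hall x
    have h1 : Nat.card Z = Nat.card G := by
      rw [htop]; exact Subgroup.card_top
    rw [hZ, hcard] at h1
    have := Nat.pow_right_injective hpp.two_le h1
    omega
  have hnc : ∀ a : G, a ∉ Z → ∃ w : G, f a w ≠ 1 := by
    intro a ha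
    by_contra hcon
    apply ha
    rw [Subgroup.mem_center_iff]
    intro g
    have hg : f a g = 1 := by
      by_contra h; exact hcon ⟨g, h⟩
    exact ((hker_mem a g).1 ((MonoidHom.mem_ker).2 hg)).symm
  have hinv : ∀ u v : G, f u v = (f v u)⁻¹ := by
    intro u v
    rw [hf, hf]; group
  have hE1 : ∀ a g : G, f a g ∈ (f x0).range := by
    intro a g
    by_cases ha : a ∈ Z
    · have h1 : f a g = 1 := by
        rw [hf, ← Subgroup.mem_center_iff.1 ha g]; group
      rw [h1]; exact Subgroup.one_mem _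
    · obtain ⟨w, hw⟩ := hnc a ha
      obtain ⟨y, hy⟩ := hnc x0 hx0
      obtain ⟨b, hab, hxb⟩ : ∃ b : G, f a b ≠ 1 ∧ f x0 b ≠ 1 := by
        by_cases h1 : f x0 w = 1
        · by_cases h2 : f a y = 1
          · refine ⟨w * y, ?_, ?_⟩
            · rw [map_mul, h2, mul_one]; exact hw
            · rw [map_mul, h1, one_mul]; exact hy
          · exact ⟨y, h2, hy⟩
        · exact ⟨w, hw, h1⟩
      have hbZ : b ∉ Z := by
        intro hb
        apply hab
        rw [hf, Subgroup.mem_center_iff.1 hb a]; group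
      have h1 : (f a).range ≤ (f b).range :=
        le_of_card_prime hpp (hIcard a ha) ⟨b, rfl⟩
          (by rw [hinv a b]; exact Subgroup.inv_mem _ ⟨a, rfl⟩) hab
      have h2 : (f b).range ≤ (f x0).range :=
        le_of_card_prime hpp (hIcard b hbZ) ⟨x0, rfl⟩
          (by rw [hinv b x0]; exact Subgroup.inv_mem _ ⟨b, rfl⟩)
          (by rw [hinv b x0]; exact inv_ne_one.2 hxb)
      exact h2 (h1 ⟨g, rfl⟩)
  have hIZ : (f x0).range ≤ Z := by
    rintro _ ⟨g, rfl⟩; exact hcomm' x0 g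
  have hIchar : ∀ (α : MulAut G), ∀ y ∈ (f x0).range, α y ∈ (f x0).range := by
    rintro α _ ⟨g, rfl⟩
    have h1 : α (f x0 g) = f (α x0) (α g) := by
      rw [hf, hf]; simp only [map_mul, map_inv]
    rw [h1]; exact hE1 _ _
  -- the `p`-th power homomorphism
  have hpowZ : ∀ y : G, y ^ p ∈ Z := by
    intro y
    rw [Subgroup.mem_center_iff]
    intro x
    have hc := hcen x y
    have h := Cfsg.Agent.Lib.H16.pow_mul_comm_of_central (x := x) (y := y)
      (c := (x * y)⁻¹ * (y * x)) (by group) (Subgroup.mem_center_iff.1 hc y).symm p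
    rw [hZe _ hc, mul_one] at h
    exact h.symm
  have hpowmul : ∀ x y : G, (x * y) ^ p = x ^ p * y ^ p := by
    intro x y
    have hc := hcen x y
    exact Cfsg.Agent.Lib.H16.mul_pow_eq_of_central (c := (x * y)⁻¹ * (y * x)) (by group)
      (Subgroup.mem_center_iff.1 hc x).symm (Subgroup.mem_center_iff.1 hc y).symm hodd (hZe _ hc)
  let π : G →* G := MonoidHom.mk' (fun x => x ^ p) hpowmul
  have hπ : ∀ x : G, π x = x ^ p := fun x => rfl
  have hπZ : π.range ≤ Z := by
    rintro _ ⟨y, rfl⟩; exact hpowZ y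
  have hZπ : Z ≤ π.ker := fun z hz => (MonoidHom.mem_ker).2 (hZe z hz)
  have hπmul : Nat.card π.range * Nat.card π.ker = p ^ 4 := by
    have h := Subgroup.card_eq_card_quotient_mul_card_subgroup π.ker
    rw [Nat.card_congr (QuotientGroup.quotientKerEquivRange π).toEquiv, hcard] at h
    exact h.symm
  have hZchar : ∀ (α : MulAut G), ∀ z ∈ Z, α z ∈ Z := by
    intro α z hz
    rw [Subgroup.mem_center_iff]
    intro g
    have h := Subgroup.mem_center_iff.1 hz (α⁻¹ g)
    have h' := congrArg α h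
    rw [map_mul, map_mul, MulAut.apply_inv_self] at h'
    exact h'
  have hrchar : ∀ (α : MulAut G), ∀ y ∈ π.range, α y ∈ π.range := by
    rintro α _ ⟨y, rfl⟩
    exact ⟨α y, by rw [hπ, hπ, map_pow]⟩
  have hkchar : ∀ (α : MulAut G), ∀ y ∈ π.ker, α y ∈ π.ker := by
    intro α y hy
    rw [MonoidHom.mem_ker, hπ] at hy ⊢
    rw [← map_pow, hy, map_one]
  have hd : Nat.card π.range ∣ p ^ 2 := hZ ▸ Subgroup.card_dvd_of_le hπZ
  obtain ⟨i, hi, hci⟩ := (Nat.dvd_prime_pow hpp).1 hd
  have hi012 : i = 0 ∨ i = 1 ∨ i = 2 := by omega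
  rcases hi012 with rfl | rfl | rfl
  · -- exponent `p`
    left
    intro x
    have hbot : π.range = ⊥ := Subgroup.eq_bot_of_card_eq _ (by simpa using hci)
    have hx : π x ∈ π.range := ⟨x, rfl⟩
    rw [hbot, Subgroup.mem_bot] at hx
    exact hx
  · -- `im π < Z < ker π`
    right
    rw [pow_one] at hci
    have hk : Nat.card π.ker = p ^ 3 := by
      rw [hci] at hπmul
      have h43 : p ^ 4 = p * p ^ 3 := by ring
      rw [h43] at hπmul
      exact Nat.eq_of_mul_eq_mul_left hpp.pos hπmul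
    exact ⟨π.range, Z, π.ker, hπZ, hZπ, hci, hZ, hk, hrchar, hZchar, hkchar⟩
  · -- `G' < Z < π⁻¹(G')`
    right
    have hrZ : π.range = Z := Subgroup.eq_of_le_of_card_ge hπZ (by rw [hci, hZ])
    let π' : G →* Z := π.codRestrict Z (fun x => hpowZ x)
    have hπ'surj : Function.Surjective π' := by
      rintro ⟨z, hz⟩
      rw [← hrZ] at hz
      obtain ⟨y, hy⟩ := hz
      exact ⟨y, Subtype.ext hy⟩
    have hcomap : ((f x0).range.subgroupOf Z).comap π' = (f x0).range.comap π := by
      ext y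
      rw [Subgroup.mem_comap, Subgroup.mem_comap, Subgroup.mem_subgroupOf]
      rfl
    have hidx : ((f x0).range.comap π).index = p := by
      rw [← hcomap, Subgroup.index_comap_of_surjective _ hπ'surj]
      have h1 := Subgroup.card_mul_index ((f x0).range.subgroupOf Z)
      rw [Nat.card_congr (Subgroup.subgroupOfEquivOfLe hIZ).toEquiv, hIcard x0 hx0, hZ, pow_two] at h1
      exact Nat.eq_of_mul_eq_mul_left hpp.pos h1
    have hk : Nat.card ((f x0).range.comap π) = p ^ 3 := by
      have h1 := Subgroup.card_mul_index ((f x0).range.comap π)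
      rw [hidx, hcard] at h1
      have h43 : p ^ 4 = p ^ 3 * p := by ring
      rw [h43] at h1
      exact Nat.eq_of_mul_eq_mul_right hpp.pos h1
    refine ⟨(f x0).range, Z, (f x0).range.comap π, hIZ, ?_, hIcard x0 hx0, hZ, hk, hIchar, hZchar, ?_⟩
    · intro z hz
      rw [Subgroup.mem_comap, hπ, hZe z hz]
      exact Subgroup.one_mem _
    · intro α y hy
      rw [Subgroup.mem_comap, hπ] at hy ⊢
      rw [← map_pow]
      exact hIchar α _ hy

end Cfsg.Agent.Lib.H3.Ess
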