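/-
S3805 (helper7 blueprint, tools/blueprints/S3805.md), piece LOC1 (helper3): `isGenChar_loc`: the three class functions on `S₃ × S₃` are generalized characters (`ρ = (2 + sign) - fix`, `μ = 1 - fix`).
-/
import Mathlib
import Cfsg.Agent.Lib.H7.K4Defs
import Cfsg.Agent.Lib.H24.CharProd
import Cfsg.Agent.Lib.L0.CharOps
import Cfsg.Agent.Lib.H23.PermIrrA

set_option autoImplicit false

namespace Cfsg.Agent.Lib.H3.K4

open Cfsg Cfsg.Agent.Lib.H7.K4 Cfsg.Agent.Lib.L0 Cfsg.Agent.Lib.H24
open scoped ComplexConjugate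

/-- the sign character of `S₃`, complex valued -/
noncomputable def sgnC : S3 →* ℂˣ := (Units.map (Int.castRingHom ℂ).toMonoidHom).comp Equiv.Perm.sign

theorem sgnC_apply (a : S3) : ((sgnC a : ℂˣ) : ℂ) = (((Equiv.Perm.sign a : ℤˣ) : ℤ) : ℂ) := rfl

/-- `2 + sign` on `S₃` -/
noncomputable def chA : S3 → ℂ := fun a => 1 + 1 + ((sgnC a : ℂˣ) : ℂ)

/-- the permutation character of `S₃` on three points -/
noncomputable def chP : S3 → ℂ := fun a => Cfsg.Agent.Lib.H23.permChar (Fin 3) a

theorem isCharacter_chA : IsCharacter S3 chA := by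
  have h1 : IsCharacter S3 (1 : S3 → ℂ) := isCharacter_of_irr Cfsg.Agent.Lib.L0.isIrrCharacter_one
  have h2 : IsCharacter S3 (fun a => ((sgnC a : ℂˣ) : ℂ)) := isCharacter_of_irr (isIrrCharacter_of_hom sgnC)
  exact isCharacter_add (isCharacter_add h1 h1) h2

theorem isCharacter_chP : IsCharacter S3 chP :=
  Cfsg.Agent.Lib.H23.PermIrr.isCharacter_permChar (Fin 3)

theorem chP_apply (a : S3) : chP a = (((Finset.univ.filter (fun i : Fin 3 => a i = i)).card : ℤ) : ℂ) := by
  unfold chP Cfsg.Agent.Lib.H23.permChar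
  rw [Nat.card_eq_fintype_card, Fintype.card_subtype]
  push_cast
  congr 2

theorem rho_int : ∀ a : S3, rho a = 1 + 1 + ((Equiv.Perm.sign a : ℤˣ) : ℤ) -
    ((Finset.univ.filter (fun i : Fin 3 => a i = i)).card : ℤ) := by decide

theorem rho_eq (a : S3) : ((rho a : ℤ) : ℂ) = chA a - chP a := by
  rw [rho_int a, chP_apply]
  unfold chA
  rw [sgnC_apply]
  push_cast
  ring

theorem mu_eq (a : S3) : ((mu a : ℤ) : ℂ) = 1 - chP a := by
  rw [chP_apply]
  unfold mu
  push_cast
  ring

/-- **LOC1.** -/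
theorem isGenChar_loc :
    IsGeneralizedCharacter S33 (toC gam0) ∧ IsGeneralizedCharacter S33 (toC r0) ∧
      IsGeneralizedCharacter S33 (toC c0) := by
  have h1 : IsCharacter S3 (1 : S3 → ℂ) := isCharacter_of_irr Cfsg.Agent.Lib.L0.isIrrCharacter_one
  have hA := isCharacter_chA
  have hP := isCharacter_chP
  refine ⟨?_, ?_, ?_⟩
  · refine ⟨prodChar chA chA + prodChar chP chP, prodChar chA chP + prodChar chP chA,
      isCharacter_add (isCharacter_prodChar hA hA) (isCharacter_prodChar hP hP),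
      isCharacter_add (isCharacter_prodChar hA hP) (isCharacter_prodChar hP hA), ?_⟩
    funext s
    simp only [toC, gam0, Pi.sub_apply, Pi.add_apply, prodChar_apply]
    push_cast
    rw [rho_eq, rho_eq]
    ring
  · refine ⟨prodChar chA 1 + prodChar chP chP, prodChar chA chP + prodChar chP 1,
      isCharacter_add (isCharacter_prodChar hA h1) (isCharacter_prodChar hP hP),
      isCharacter_add (isCharacter_prodChar hA hP) (isCharacter_prodChar hP h1), ?_⟩
    funext s
    simp only [toC, r0, Pi.sub_apply, Pi.add_apply, prodChar_apply, Pi.one_apply]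
    push_cast
    rw [rho_eq, mu_eq]
    ring
  · refine ⟨prodChar 1 chA + prodChar chP chP, prodChar 1 chP + prodChar chP chA,
      isCharacter_add (isCharacter_prodChar h1 hA) (isCharacter_prodChar hP hP),
      isCharacter_add (isCharacter_prodChar h1 hP) (isCharacter_prodChar hP hA), ?_⟩
    funext s
    simp only [toC, c0, Pi.sub_apply, Pi.add_apply, prodChar_apply, Pi.one_apply]
    push_cast
    rw [rho_eq, mu_eq]
    ring

end Cfsg.Agent.Lib.H3.K4
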