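/-
S3805 (helper7 blueprint, tools/blueprints/S3805.md), piece LOC2 (helper3): `gram_loc`: the Gram matrix of `Γ₀, R₀, C₀` (integer sums by `decide`).
-/
import Mathlib
import Cfsg.Agent.Lib.H7.K4Defs

set_option autoImplicit false

namespace Cfsg.Agent.Lib.H3.K4

open Cfsg Cfsg.Agent.Lib.H7.K4
open scoped ComplexConjugate

theorem card_S33 : Nat.card S33 = 36 := by
  rw [Nat.card_eq_fintype_card]
  decide

theorem classInner_toC (f g : S33 → ℤ) :
    classInner (toC f) (toC g) = ((∑ s : S33, f s * g s : ℤ) : ℂ) / 36 := by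
  unfold classInner toC
  rw [card_S33]
  push_cast
  rw [div_eq_inv_mul]
  congr 1
  apply Finset.sum_congr rfl
  intro s _
  rw [map_intCast]

set_option maxRecDepth 100000 in
theorem sum_gam0_gam0 : ∑ s : S33, gam0 s * gam0 s = 324 := by decide

set_option maxRecDepth 100000 in
theorem sum_r0_r0 : ∑ s : S33, r0 s * r0 s = 108 := by decide

set_option maxRecDepth 100000 in
theorem sum_c0_c0 : ∑ s : S33, c0 s * c0 s = 108 := by decide

set_option maxRecDepth 100000 in
theorem sum_r0_c0 : ∑ s : S33, r0 s * c0 s = 36 := by decide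

set_option maxRecDepth 100000 in
theorem sum_gam0_r0 : ∑ s : S33, gam0 s * r0 s = 108 := by decide

set_option maxRecDepth 100000 in
theorem sum_gam0_c0 : ∑ s : S33, gam0 s * c0 s = 108 := by decide

/-- **LOC2.** -/
theorem gram_loc :
    classInner (toC gam0) (toC gam0) = 9 ∧ classInner (toC r0) (toC r0) = 3 ∧
    classInner (toC c0) (toC c0) = 3 ∧ classInner (toC r0) (toC c0) = 1 ∧
    classInner (toC gam0) (toC r0) = 3 ∧ classInner (toC gam0) (toC c0) = 3 := by
  refine ⟨?_, ?_, ?_, ?_, ?_, ?_⟩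
  · rw [classInner_toC, sum_gam0_gam0]; norm_num
  · rw [classInner_toC, sum_r0_r0]; norm_num
  · rw [classInner_toC, sum_c0_c0]; norm_num
  · rw [classInner_toC, sum_r0_c0]; norm_num
  · rw [classInner_toC, sum_gam0_r0]; norm_num
  · rw [classInner_toC, sum_gam0_c0]; norm_num

end Cfsg.Agent.Lib.H3.K4
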