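/-
S3805 (helper7 blueprint, tools/blueprints/S3805.md), piece LOC3 (helper3): `inner_loc`: inner products of `Γ₀, R₀, C₀` with a class function of `S₃ × S₃`.
-/
import Mathlib
import Cfsg.Agent.Lib.H7.K4Defs

set_option autoImplicit false

namespace Cfsg.Agent.Lib.H3.K4

open Cfsg Cfsg.Agent.Lib.H7.K4
open scoped ComplexConjugate

theorem card_S33' : Nat.card S33 = 36 := by
  rw [Nat.card_eq_fintype_card]
  decide

/-- a sum against a class function, for an integer function supported on two classes cut out by decidable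
predicates -/
theorem sum_two (f : S33 → ℤ) (F : S33 → ℂ) (hF : IsClassFunction S33 F) (r1 r2 : S33)
    (P1 P2 : S33 → Prop) [DecidablePred P1] [DecidablePred P2]
    (h1 : ∀ s, P1 s → ∃ t : S33, t * r1 * t⁻¹ = s) (h2 : ∀ s, P2 s → ∃ t : S33, t * r2 * t⁻¹ = s)
    (hd : ∀ s, ¬ (P1 s ∧ P2 s)) (h0 : ∀ s, f s ≠ 0 → P1 s ∨ P2 s) :
    ∑ s : S33, ((f s : ℤ) : ℂ) * conj (F s) =
      ((∑ s : S33, (if P1 s then f s else 0) : ℤ) : ℂ) * conj (F r1) +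
        ((∑ s : S33, (if P2 s then f s else 0) : ℤ) : ℂ) * conj (F r2) := by
  push_cast
  rw [Finset.sum_mul, Finset.sum_mul, ← Finset.sum_add_distrib]
  apply Finset.sum_congr rfl
  intro s _
  by_cases hp1 : P1 s
  · have hp2 : ¬ P2 s := fun h => hd s ⟨hp1, h⟩
    obtain ⟨t, ht⟩ := h1 s hp1
    rw [if_pos hp1, if_neg hp2, ← ht, hF r1 t]
    simp
  · by_cases hp2 : P2 s
    · obtain ⟨t, ht⟩ := h2 s hp2
      rw [if_neg hp1, if_pos hp2, ← ht, hF r2 t]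
      simp
    · have hf : f s = 0 := by
        by_contra hne
        rcases h0 s hne with h | h
        · exact hp1 h
        · exact hp2 h
      rw [if_neg hp1, if_neg hp2, hf]
      simp

set_option maxRecDepth 100000 in
theorem conj_zz : ∀ s : S33, (s.1 ^ 2 ≠ 1 ∧ s.2 ^ 2 ≠ 1) → ∃ t : S33, t * (c3, c3) * t⁻¹ = s := by decide

set_option maxRecDepth 100000 in
theorem conj_x1 : ∀ s : S33, (s.1 ^ 2 ≠ 1 ∧ s.2 = 1) → ∃ t : S33, t * (c3, 1) * t⁻¹ = s := by decide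

set_option maxRecDepth 100000 in
theorem conj_1y : ∀ s : S33, (s.1 = 1 ∧ s.2 ^ 2 ≠ 1) → ∃ t : S33, t * (1, c3) * t⁻¹ = s := by decide

set_option maxRecDepth 100000 in
theorem supp_gam0 : ∀ s : S33, gam0 s ≠ 0 → (s.1 ^ 2 ≠ 1 ∧ s.2 ^ 2 ≠ 1) ∨ False := by decide

set_option maxRecDepth 100000 in
theorem supp_r0 : ∀ s : S33, r0 s ≠ 0 → (s.1 ^ 2 ≠ 1 ∧ s.2 ^ 2 ≠ 1) ∨ (s.1 ^ 2 ≠ 1 ∧ s.2 = 1) := by decide

set_option maxRecDepth 100000 in
theorem supp_c0 : ∀ s : S33, c0 s ≠ 0 → (s.1 ^ 2 ≠ 1 ∧ s.2 ^ 2 ≠ 1) ∨ (s.1 = 1 ∧ s.2 ^ 2 ≠ 1) := by decide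

set_option maxRecDepth 100000 in
theorem sumz_gam0 : ∑ s : S33, (if (s.1 ^ 2 ≠ 1 ∧ s.2 ^ 2 ≠ 1) then gam0 s else 0) = 36 := by decide

set_option maxRecDepth 100000 in
theorem sumz_r0 : ∑ s : S33, (if (s.1 ^ 2 ≠ 1 ∧ s.2 ^ 2 ≠ 1) then r0 s else 0) = 12 := by decide

set_option maxRecDepth 100000 in
theorem sumx_r0 : ∑ s : S33, (if (s.1 ^ 2 ≠ 1 ∧ s.2 = 1) then r0 s else 0) = -12 := by decide

set_option maxRecDepth 100000 in
theorem sumz_c0 : ∑ s : S33, (if (s.1 ^ 2 ≠ 1 ∧ s.2 ^ 2 ≠ 1) then c0 s else 0) = 12 := by decide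

set_option maxRecDepth 100000 in
theorem sumy_c0 : ∑ s : S33, (if (s.1 = 1 ∧ s.2 ^ 2 ≠ 1) then c0 s else 0) = -12 := by decide

/-- **LOC3.** -/
theorem inner_loc (F : S33 → ℂ) (hF : IsClassFunction S33 F) :
    classInner (toC gam0) F = conj (F (c3, c3)) ∧
    classInner (toC r0) F = (conj (F (c3, c3)) - conj (F (c3, 1))) / 3 ∧
    classInner (toC c0) F = (conj (F (c3, c3)) - conj (F (1, c3))) / 3 := by
  refine ⟨?_, ?_, ?_⟩
  · unfold classInner toC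
    rw [card_S33', sum_two gam0 F hF (c3, c3) (c3, c3) (fun s => s.1 ^ 2 ≠ 1 ∧ s.2 ^ 2 ≠ 1) (fun _ => False)
      conj_zz (fun _ h => h.elim) (fun _ h => h.2) supp_gam0, sumz_gam0]
    simp
  · unfold classInner toC
    rw [card_S33', sum_two r0 F hF (c3, c3) (c3, 1) (fun s => s.1 ^ 2 ≠ 1 ∧ s.2 ^ 2 ≠ 1)
      (fun s => s.1 ^ 2 ≠ 1 ∧ s.2 = 1) conj_zz conj_x1
      (fun s h => h.1.2 (by rw [h.2.2]; simp)) supp_r0, sumz_r0, sumx_r0]
    push_cast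
    ring
  · unfold classInner toC
    rw [card_S33', sum_two c0 F hF (c3, c3) (1, c3) (fun s => s.1 ^ 2 ≠ 1 ∧ s.2 ^ 2 ≠ 1)
      (fun s => s.1 = 1 ∧ s.2 ^ 2 ≠ 1) conj_zz conj_1y
      (fun s h => h.1.1 (by rw [h.2.1]; simp)) supp_c0, sumz_c0, sumy_c0]
    push_cast
    ring

end Cfsg.Agent.Lib.H3.K4
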