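import Mathlib
import Cfsg.Agent.Lib.H3.DC2

set_option autoImplicit false

/-!
# Listed conjugates: a lower bound for the size of a conjugacy class, hence an upper bound
for the order of a centraliser
-/

namespace Cfsg.Agent.Lib.H3.DC

/-- if `z` has `n` distinct conjugates `g i * z * (g i)⁻¹` then `n * |C(z)| ≤ |G|` -/
theorem mul_card_centralizer_le {G : Type*} [Group G] [Finite G] (z : G) (n : ℕ) (g : Fin n → G)
    (hinj : ∀ i j, g i * z * (g i)⁻¹ = g j * z * (g j)⁻¹ → i = j) :
    n * Nat.card (Subgroup.centralizer ({z} : Set G)) ≤ Nat.card G := by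
  classical
  have : Function.Injective
      (fun p : Fin n × Subgroup.centralizer ({z} : Set G) => g p.1 * (p.2 : G)) := by
    rintro ⟨i, c⟩ ⟨j, d⟩ h
    simp only at h
    have hc : (c : G) * z = z * c := by
      have := c.2
      rw [Subgroup.mem_centralizer_iff] at this
      exact (this z rfl).symm
    have hd : (d : G) * z = z * d := by
      have := d.2
      rw [Subgroup.mem_centralizer_iff] at this
      exact (this z rfl).symm
    have h1 : g i * z * (g i)⁻¹ = g j * z * (g j)⁻¹ := by
      have e1 : g i = g j * d * (c : G)⁻¹ := by rw [← h]; group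
      have hci : (c : G)⁻¹ * z = z * (c : G)⁻¹ := by
        have : z = (c : G)⁻¹ * z * c := by rw [mul_assoc, ← hc, ← mul_assoc, inv_mul_cancel, one_mul]
        calc (c : G)⁻¹ * z = (c : G)⁻¹ * z * c * (c : G)⁻¹ := by group
          _ = z * (c : G)⁻¹ := by rw [← this]
      calc g i * z * (g i)⁻¹ = g j * d * ((c : G)⁻¹ * z) * c * (d : G)⁻¹ * (g j)⁻¹ := by
            rw [e1]; group
        _ = g j * (d * z) * ((c : G)⁻¹ * c) * (d : G)⁻¹ * (g j)⁻¹ := by rw [hci]; group
        _ = g j * z * (g j)⁻¹ := by rw [hd]; group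
    have hij := hinj i j h1
    subst hij
    have : (c : G) = d := mul_left_cancel h
    rw [Subtype.ext this]
  have h2 := Nat.card_le_card_of_injective _ this
  rwa [Nat.card_prod, Nat.card_fin] at h2

/-- certificate data for listed conjugates -/
structure ListedConj where
  n : ℕ
  ng : ℕ
  gen : ℕ → List ℕ
  geni : ℕ → List ℕ
  elt : ℕ → List ℕ
  i1 : ℕ
  dep : ℕ → ℕ
  par : ℕ → ℕ
  pg : ℕ → ℕ

namespace ListedConj

variable {G : Type} [Group G] {P : Type} [MulAction G P]

/-- the base element is listed -/
def check1 (L : ListedConj) (zE : List ℕ) : Bool :=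
  Nat.blt L.i1 L.n && beqL (L.elt L.i1) zE

/-- the keys are strictly increasing -/
def check3 (L : ListedConj) : Bool :=
  allLt (L.n - 1) fun i => Nat.blt (keyF (L.elt i)) (keyF (L.elt (i + 1)))

/-- every element is a conjugate of its parent -/
def check4 (M : Model G P) (L : ListedConj) : Bool :=
  allLt L.n fun i =>
    Nat.beq i L.i1 ||
      (Nat.blt (L.par i) L.n && Nat.blt (L.pg i) L.ng && Nat.blt (L.dep (L.par i)) (L.dep i) &&
        beqL (M.mulE (M.mulE (L.gen (L.pg i)) (L.elt (L.par i))) (L.geni (L.pg i))) (L.elt i))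

theorem key_lt (L : ListedConj) (h3 : L.check3 = true) :
    ∀ i j, i < j → j < L.n → keyF (L.elt i) < keyF (L.elt j) := by
  have h := (allLt_iff _ _).mp h3
  intro i j hij hj
  induction j with
  | zero => exact absurd hij (Nat.not_lt_zero _)
  | succ j ih =>
    have hstep : keyF (L.elt j) < keyF (L.elt (j + 1)) := by
      have := h j (by omega)
      exact lt_of_blt this
    rcases Nat.lt_succ_iff_lt_or_eq.mp hij with h1 | h1
    · exact lt_trans (ih h1 (by omega)) hstep
    · rw [h1]; exact hstep

theorem elt_injOn (L : ListedConj) (h3 : L.check3 = true) :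
    ∀ i j, i < L.n → j < L.n → L.elt i = L.elt j → i = j := by
  intro i j hi hj he
  by_contra hne
  rcases Nat.lt_or_gt_of_ne hne with h | h
  · have := key_lt L h3 i j h hj; rw [he] at this; exact lt_irrefl _ this
  · have := key_lt L h3 j i h hi; rw [he] at this; exact lt_irrefl _ this

variable (M : Model G P) (L : ListedConj) (gs : ℕ → G) (z : G) (zE : List ℕ)

/-- the set of generators -/
def genSet (L : ListedConj) (gs : ℕ → G) : Set G := {g | ∃ k, k < L.ng ∧ g = gs k}

theorem exists_of_lt (hgs : ∀ k < L.ng, M.code (gs k) = L.gen k)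
    (hgsi : ∀ k < L.ng, M.code (gs k)⁻¹ = L.geni k) (hz : M.code z = zE)
    (h1 : L.check1 zE = true) (h4 : L.check4 M = true) :
    ∀ i < L.n, ∃ g ∈ Subgroup.closure (genSet L gs), M.code (g * z * g⁻¹) = L.elt i := by
  have h4' := (allLt_iff _ _).mp h4
  have hbase : ∀ i, i = L.i1 →
      ∃ g ∈ Subgroup.closure (genSet L gs), M.code (g * z * g⁻¹) = L.elt i := by
    intro i hi1
    refine ⟨1, Subgroup.one_mem _, ?_⟩
    rw [one_mul, inv_one, mul_one, hz, hi1]
    have := h1
    rw [check1, Bool.and_eq_true] at this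
    exact (eq_of_beqL _ _ this.2).symm
  have key : ∀ d i, i < L.n → L.dep i ≤ d →
      ∃ g ∈ Subgroup.closure (genSet L gs), M.code (g * z * g⁻¹) = L.elt i := by
    intro d
    induction d with
    | zero =>
      intro i hi hd
      have := h4' i hi
      rw [Bool.or_eq_true] at this
      rcases this with h | h
      · exact hbase i (Nat.eq_of_beq_eq_true h)
      · simp only [Bool.and_eq_true] at h
        have : L.dep (L.par i) < L.dep i := lt_of_blt h.1.2
        omega
    | succ d ih =>
      intro i hi hd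
      have := h4' i hi
      rw [Bool.or_eq_true] at this
      rcases this with h | h
      · exact hbase i (Nat.eq_of_beq_eq_true h)
      · simp only [Bool.and_eq_true] at h
        obtain ⟨⟨⟨hp, hg⟩, hdep⟩, htab⟩ := h
        have hp' : L.par i < L.n := lt_of_blt hp
        have hg' : L.pg i < L.ng := lt_of_blt hg
        have hdep' : L.dep (L.par i) < L.dep i := lt_of_blt hdep
        obtain ⟨g, hg1, hg2⟩ := ih (L.par i) hp' (by omega)
        refine ⟨gs (L.pg i) * g, Subgroup.mul_mem _ (Subgroup.subset_closure ⟨_, hg', rfl⟩) hg1, ?_⟩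
        have e : gs (L.pg i) * g * z * (gs (L.pg i) * g)⁻¹ =
            gs (L.pg i) * (g * z * g⁻¹) * (gs (L.pg i))⁻¹ := by group
        rw [e, M.code_mul, M.code_mul, hgs _ hg', hgsi _ hg', hg2]
        exact eq_of_beqL _ _ htab
  intro i hi
  exact key (L.dep i) i hi le_rfl

end ListedConj

end Cfsg.Agent.Lib.H3.DC
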