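import Mathlib
import Cfsg.Agent.S3377
import Cfsg.Agent.Lib.H3.J1Main
import Cfsg.Agent.Lib.H3.J1CData

set_option autoImplicit false
set_option maxRecDepth 100000

/-! # The centraliser of an involution of `J₁` is `2 × A₅` -/

namespace Cfsg.Agent.Lib.H3.J1

open Cfsg.Agent.Lib.H3.DC Cfsg.Agent.Lib.H3 Cfsg.Spor

section Generic

variable {G : Type*} [Group G]

/-- elements `a`, `b` with `a³ = b⁵ = (ab)² = 1`, `ab ≠ 1` generate a copy of `A₅` -/
theorem closure_equiv_alt5 (a b : G) (ha : a ^ 3 = 1) (hb : b ^ 5 = 1) (hab : (a * b) ^ 2 = 1)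
    (hne : a * b ≠ 1) :
    Nonempty (Subgroup.closure ({a, b} : Set G) ≃* alternatingGroup (Fin 5)) := by
  obtain ⟨e⟩ := Cfsg.Agent.S3377.result
  obtain ⟨f, hf0, hf1⟩ : ∃ f : Fin 2 → G, f 0 = a ∧ f 1 = b := ⟨![a, b], rfl, rfl⟩
  have hf : ∀ r ∈ ({FreeGroup.of (0 : Fin 2) ^ 3, FreeGroup.of (1 : Fin 2) ^ 5,
      (FreeGroup.of (0 : Fin 2) * FreeGroup.of 1) ^ 2} : Set (FreeGroup (Fin 2))),
      FreeGroup.lift f r = 1 := by
    intro r hr
    rcases hr with rfl | rfl | rfl
    · simp only [map_pow, FreeGroup.lift_apply_of, hf0]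
      exact ha
    · simp only [map_pow, FreeGroup.lift_apply_of, hf1]
      exact hb
    · simp only [map_pow, map_mul, FreeGroup.lift_apply_of, hf0, hf1]
      exact hab
  obtain ⟨φ, hφ⟩ : ∃ φ : PresentedGroup ({FreeGroup.of (0 : Fin 2) ^ 3, FreeGroup.of (1 : Fin 2) ^ 5,
      (FreeGroup.of (0 : Fin 2) * FreeGroup.of 1) ^ 2} : Set (FreeGroup (Fin 2))) →* G,
      ∀ i, φ (PresentedGroup.of i) = f i :=
    ⟨PresentedGroup.toGroup hf, fun i => PresentedGroup.toGroup.of hf⟩
  obtain ⟨ψ, hψ⟩ : ∃ ψ : alternatingGroup (Fin 5) →* G, ψ = φ.comp e.symm.toMonoidHom := ⟨_, rfl⟩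
  have hker : ψ.ker = ⊥ := by
    rcases (MonoidHom.normal_ker ψ).eq_bot_or_eq_top with h | h
    · exact h
    · exfalso
      apply hne
      have h1 : ψ (e (PresentedGroup.of 0 * PresentedGroup.of 1)) = 1 := by
        rw [← MonoidHom.mem_ker, h]; trivial
      rw [hψ] at h1
      simp only [MonoidHom.coe_comp, MulEquiv.coe_toMonoidHom, Function.comp_apply,
        MulEquiv.symm_apply_apply, map_mul, hφ, hf0, hf1] at h1
      exact h1
  have hinj : Function.Injective ψ := (MonoidHom.ker_eq_bot_iff ψ).mp hker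
  have hrange : ψ.range = Subgroup.closure ({a, b} : Set G) := by
    have h1 : ψ.range = φ.range := by
      rw [hψ]
      ext x
      constructor
      · rintro ⟨y, rfl⟩
        exact ⟨e.symm y, rfl⟩
      · rintro ⟨y, rfl⟩
        exact ⟨e y, by simp⟩
    rw [h1, MonoidHom.range_eq_map, ← PresentedGroup.closure_range_of, MonoidHom.map_closure]
    congr 1
    ext x
    constructor
    · rintro ⟨_, ⟨i, rfl⟩, rfl⟩
      rw [hφ]
      fin_cases i
      · left; exact hf0
      · right; exact hf1
    · rintro (rfl | rfl)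
      · exact ⟨_, ⟨0, rfl⟩, by rw [hφ, hf0]⟩
      · exact ⟨_, ⟨1, rfl⟩, by rw [hφ, hf1]⟩
  rw [← hrange]
  exact ⟨(MonoidHom.ofInjective hinj).symm⟩

/-- a group of order two is `Multiplicative (ZMod 2)` -/
theorem nonempty_mulEquiv_zmod2 (H : Type*) [Group H] (h : Nat.card H = 2) :
    Nonempty (H ≃* Multiplicative (ZMod 2)) := by
  haveI : Fact (Nat.Prime 2) := ⟨Nat.prime_two⟩
  haveI : IsCyclic H := isCyclic_of_prime_card h
  have e := zmodCyclicMulEquiv (G := H) inferInstance
  rw [h] at e
  exact ⟨e.symm⟩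

/-- recognition of `2 × A₅` as a centraliser -/
theorem centralizer_equiv [Finite G] (z a b : G) (hz2 : z ^ 2 = 1) (hz1 : z ≠ 1)
    (ha : a ^ 3 = 1) (hb : b ^ 5 = 1) (hab : (a * b) ^ 2 = 1) (hne : a * b ≠ 1)
    (haz : a * z = z * a) (hbz : b * z = z * b)
    (hC : Nat.card (Subgroup.centralizer ({z} : Set G)) ≤ 120) :
    Nonempty (Subgroup.centralizer ({z} : Set G) ≃*
      Multiplicative (ZMod 2) × alternatingGroup (Fin 5)) := by
  classical
  obtain ⟨e⟩ := closure_equiv_alt5 a b ha hb hab hne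
  set K : Subgroup G := Subgroup.closure ({a, b} : Set G) with hK
  set Z : Subgroup G := Subgroup.zpowers z with hZ
  set C : Subgroup G := Subgroup.centralizer ({z} : Set G) with hCdef
  have hKC : K ≤ C := by
    rw [hK, Subgroup.closure_le]
    rintro x (rfl | rfl)
    · rw [SetLike.mem_coe, Subgroup.mem_centralizer_iff]
      intro y hy; rw [Set.mem_singleton_iff] at hy; rw [hy]; exact haz.symm
    · rw [SetLike.mem_coe, Subgroup.mem_centralizer_iff]
      intro y hy; rw [Set.mem_singleton_iff] at hy; rw [hy]; exact hbz.symm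
  have hzC : z ∈ C := by
    rw [Subgroup.mem_centralizer_iff]
    intro y hy; rw [Set.mem_singleton_iff] at hy; rw [hy]
  have hZC : Z ≤ C := by
    rw [hZ, Subgroup.zpowers_le]; exact hzC
  have hcardZ : Nat.card Z = 2 := by
    rw [hZ, Nat.card_zpowers]
    exact orderOf_eq_prime hz2 hz1
  have hcardK : Nat.card K = 60 := by
    rw [Nat.card_congr e.toEquiv, Nat.card_eq_fintype_card]
    decide
  -- elements of `Z` commute with those of `K`
  have hcomm : ∀ (u : Z) (k : K), Commute (u : G) (k : G) := by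
    intro u k
    have hk : (k : G) ∈ C := hKC k.2
    rw [Subgroup.mem_centralizer_iff] at hk
    obtain ⟨n, hn⟩ := Subgroup.mem_zpowers_iff.mp u.2
    have h1 : Commute z (k : G) := hk z rfl
    rw [← hn]
    exact h1.zpow_left n
  -- `z ∉ K`
  have hzK : z ∉ K := by
    intro hzK
    have hcen : (⟨z, hzK⟩ : K) ∈ Subgroup.center K := by
      rw [Subgroup.mem_center_iff]
      intro k
      apply Subtype.ext
      have hk : (k : G) ∈ C := hKC k.2
      rw [Subgroup.mem_centralizer_iff] at hk
      exact (hk z rfl).symm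
    have hcen2 : e ⟨z, hzK⟩ ∈ Subgroup.center (alternatingGroup (Fin 5)) := by
      rw [Subgroup.mem_center_iff]
      intro k
      rw [Subgroup.mem_center_iff] at hcen
      have := hcen (e.symm k)
      have h2 := congrArg e this
      rw [map_mul, map_mul, MulEquiv.apply_symm_apply] at h2
      exact h2
    have hbot : Subgroup.center (alternatingGroup (Fin 5)) = ⊥ := by
      haveI : IsSimpleGroup (alternatingGroup (Fin 5)) := alternatingGroup.isSimpleGroup_five
      rcases (Subgroup.center (alternatingGroup (Fin 5))).normal_of_characteristic.eq_bot_or_eq_top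
        with h | h
      · exact h
      · exfalso
        have hcomm5 : ∀ x y : alternatingGroup (Fin 5), x * y = y * x := by
          intro x y
          have hx : x ∈ Subgroup.center (alternatingGroup (Fin 5)) := by rw [h]; trivial
          rw [Subgroup.mem_center_iff] at hx
          exact (hx y).symm
        revert hcomm5
        decide
    rw [hbot, Subgroup.mem_bot] at hcen2
    have : (⟨z, hzK⟩ : K) = 1 := by
      have := congrArg e.symm hcen2
      rwa [MulEquiv.symm_apply_apply, map_one] at this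
    exact hz1 (congrArg Subtype.val this)
  have hdisj : ∀ u : Z, (u : G) ∈ K → u = 1 := by
    intro u hu
    obtain ⟨n, hn⟩ := Subgroup.mem_zpowers_iff.mp u.2
    rcases Int.emod_two_eq_zero_or_one n with h | h
    · apply Subtype.ext
      rw [← hn, ← Int.emod_add_mul_ediv n 2, h, zero_add, _root_.zpow_mul, zpow_ofNat, hz2, one_zpow]
      rfl
    · exfalso
      apply hzK
      have : (u : G) = z := by
        rw [← hn, ← Int.emod_add_mul_ediv n 2, h, _root_.zpow_add, zpow_one, _root_.zpow_mul, zpow_ofNat, hz2,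
          one_zpow, mul_one]
      rw [← this]; exact hu
  -- the product map
  let ψ : Z × K →* G := MonoidHom.noncommCoprod Z.subtype K.subtype hcomm
  have hψ : ∀ p : Z × K, ψ p = (p.1 : G) * (p.2 : G) := fun p => rfl
  have hψinj : Function.Injective ψ := by
    rw [injective_iff_map_eq_one]
    rintro ⟨u, k⟩ h
    rw [hψ] at h
    simp only at h
    have huk : (u : G) = (k : G)⁻¹ := eq_inv_of_mul_eq_one_left h
    have hu1 : u = 1 := hdisj u (by rw [huk]; exact K.inv_mem k.2)
    have hk1 : k = 1 := by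
      apply Subtype.ext
      rw [hu1] at h
      simpa using h
    rw [hu1, hk1]; rfl
  have hrange_le : ψ.range ≤ C := by
    rintro _ ⟨p, rfl⟩
    rw [hψ]
    exact C.mul_mem (hZC p.1.2) (hKC p.2.2)
  have hcard_range : Nat.card ψ.range = 120 := by
    rw [← Nat.card_congr (MonoidHom.ofInjective hψinj).toEquiv, Nat.card_prod, hcardZ, hcardK]
  have hrange : ψ.range = C := by
    apply Subgroup.eq_of_le_of_card_ge hrange_le
    rw [hcard_range]; exact hC
  obtain ⟨e2⟩ := nonempty_mulEquiv_zmod2 Z hcardZ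
  have e3 : C ≃* Z × K := by
    rw [← hrange]
    exact (MonoidHom.ofInjective hψinj).symm
  exact ⟨e3.trans (MulEquiv.prodCongr e2 e)⟩

end Generic

end Cfsg.Agent.Lib.H3.J1
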