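import Mathlib
import Cfsg.Agent.Lib.H3.J1Cent

set_option autoImplicit false
set_option maxRecDepth 100000

/-! # The centraliser of an involution of `J₁` is `2 × A₅`: the certificate -/

namespace Cfsg.Agent.Lib.H3.J1

open Cfsg.Agent.Lib.H3.DC Cfsg.Agent.Lib.H3 Cfsg.Spor

theorem CL_check1 : CL.check1 zE = true := by decide +kernel
theorem CL_check3 : CL.check3 = true := by decide +kernel
theorem CL_check4 : CL.check4 ModP.model = true := by decide +kernel
theorem codeW_z : codeW wZ = zE := by decide +kernel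

/-- the generators for conjugation -/
def gsC (k : ℕ) : GG := if k = 0 then jankoX else jankoY

theorem gsC_zero : gsC 0 = jankoX := if_pos rfl
theorem gsC_one : gsC 1 = jankoY := if_neg (by decide)

theorem conj_exists : ∀ i < 1463, ∃ g ∈ JJ, ModP.model.code (g * wp wZ * g⁻¹) = CL.elt i := by
  intro i hi
  obtain ⟨g, hg, hgi⟩ := ListedConj.exists_of_lt ModP.model CL gsC (wp wZ) zE
    (by
      intro k hk
      have hk' : k < 2 := hk
      interval_cases k
      · rw [gsC_zero]; exact code_x
      · rw [gsC_one]; exact code_y)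
    (by
      intro k hk
      have hk' : k < 2 := hk
      interval_cases k
      · rw [gsC_zero]; exact code_xi
      · rw [gsC_one]; exact code_yi)
    (by rw [code_wp, codeW_z]) CL_check1 CL_check4 i hi
  refine ⟨g, ?_, hgi⟩
  have hle : Subgroup.closure (ListedConj.genSet CL gsC) ≤ JJ := by
    rw [Subgroup.closure_le]
    rintro x ⟨k, hk, rfl⟩
    have hk' : k < 2 := hk
    interval_cases k
    · rw [gsC_zero]; exact Subgroup.subset_closure (by simp)
    · rw [gsC_one]; exact Subgroup.subset_closure (by simp)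
  exact hle hg

theorem z_sq : wp wZ ^ 2 = 1 := by
  apply ModP.model.code_inj
  rw [wp_pow, code_wp, ModP.model.code_one]
  decide +kernel

theorem z_ne : wp wZ ≠ 1 := by
  intro h
  have := congrArg ModP.model.code h
  rw [code_wp, ModP.model.code_one] at this
  revert this
  decide +kernel

theorem a_cube : wp wA ^ 3 = 1 := by
  apply ModP.model.code_inj
  rw [wp_pow, code_wp, ModP.model.code_one]
  decide +kernel

theorem b_five : wp wB ^ 5 = 1 := by
  apply ModP.model.code_inj
  rw [wp_pow, code_wp, ModP.model.code_one]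
  decide +kernel

theorem ab_sq : (wp wA * wp wB) ^ 2 = 1 := by
  apply ModP.model.code_inj
  rw [← wp_append, wp_pow, code_wp, ModP.model.code_one]
  decide +kernel

theorem ab_ne : wp wA * wp wB ≠ 1 := by
  intro h
  have := congrArg ModP.model.code h
  rw [← wp_append, code_wp, ModP.model.code_one] at this
  revert this
  decide +kernel

theorem az_comm : wp wA * wp wZ = wp wZ * wp wA := by
  apply ModP.model.code_inj
  rw [← wp_append, ← wp_append, code_wp, code_wp]
  decide +kernel

theorem bz_comm : wp wB * wp wZ = wp wZ * wp wB := by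
  apply ModP.model.code_inj
  rw [← wp_append, ← wp_append, code_wp, code_wp]
  decide +kernel

instance : Finite JJ := Nat.finite_of_card_ne_zero (by rw [card_JJ]; norm_num)

/-- the involution as an element of `J₁` -/
def zJ : JJ := ⟨wp wZ, wp_mem _⟩

theorem zJ_coe : (zJ : GG) = wp wZ := rfl

theorem mul_card_centralizer_le_sub {G : Type*} [Group G] (H : Subgroup G) [Finite H] (z : H)
    (n : ℕ) (g : Fin n → G) (hg : ∀ i, g i ∈ H)
    (hinj : ∀ i j, g i * (z : G) * (g i)⁻¹ = g j * (z : G) * (g j)⁻¹ → i = j) :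
    n * Nat.card (Subgroup.centralizer ({z} : Set H)) ≤ Nat.card H := by
  apply mul_card_centralizer_le z n (fun i => (⟨g i, hg i⟩ : H))
  intro i j hij
  apply hinj
  have := congrArg Subtype.val hij
  simpa using this

theorem card_centralizer_le : Nat.card (Subgroup.centralizer ({zJ} : Set JJ)) ≤ 120 := by
  classical
  choose g hg hgc using fun i : Fin 1463 => conj_exists i i.2
  have h := mul_card_centralizer_le_sub JJ zJ 1463 g hg (by
    intro i j hij
    rw [zJ_coe] at hij
    have h2 : CL.elt i = CL.elt j := by rw [← hgc i, ← hgc j, hij]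
    exact Fin.ext (ListedConj.elt_injOn CL CL_check3 i j i.2 j.2 h2))
  rw [card_JJ] at h
  omega

theorem exists_involution_sub {G : Type*} [Group G] (H : Subgroup G) [Finite H] (z a b : G)
    (hzH : z ∈ H) (haH : a ∈ H) (hbH : b ∈ H) (hz2 : z ^ 2 = 1) (hz1 : z ≠ 1)
    (ha : a ^ 3 = 1) (hb : b ^ 5 = 1) (hab : (a * b) ^ 2 = 1) (hne : a * b ≠ 1)
    (haz : a * z = z * a) (hbz : b * z = z * b)
    (hC : Nat.card (Subgroup.centralizer ({(⟨z, hzH⟩ : H)} : Set H)) ≤ 120) :
    ∃ t : H, orderOf t = 2 ∧
    Nonempty (Subgroup.centralizer ({t} : Set H) ≃*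
      Multiplicative (ZMod 2) × alternatingGroup (Fin 5)) := by
  have hz2' : (⟨z, hzH⟩ : H) ^ 2 = 1 := Subtype.ext hz2
  have hz1' : (⟨z, hzH⟩ : H) ≠ 1 := fun h => hz1 (congrArg Subtype.val h)
  refine ⟨⟨z, hzH⟩, orderOf_eq_prime hz2' hz1', ?_⟩
  exact centralizer_equiv ⟨z, hzH⟩ ⟨a, haH⟩ ⟨b, hbH⟩ hz2' hz1'
    (Subtype.ext ha) (Subtype.ext hb) (Subtype.ext hab)
    (fun h => hne (congrArg Subtype.val h)) (Subtype.ext haz) (Subtype.ext hbz) hC

theorem exists_involution : ∃ t : JJ, orderOf t = 2 ∧
    Nonempty (Subgroup.centralizer ({t} : Set JJ) ≃*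
      Multiplicative (ZMod 2) × alternatingGroup (Fin 5)) :=
  exists_involution_sub JJ (wp wZ) (wp wA) (wp wB) (wp_mem _) (wp_mem _) (wp_mem _)
    z_sq z_ne a_cube b_five ab_sq ab_ne az_comm bz_comm card_centralizer_le

end Cfsg.Agent.Lib.H3.J1
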