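import Mathlib
import Cfsg.Agent.Lib.H27.S3814C1Defs

/-!
# S3814, Case 1 (helper27's sub-cut), pieces A0BAD and A0PRIME
-/

set_option autoImplicit false

universe u

namespace Cfsg.Agent.Lib.H3.S3814C1A0

open Cfsg.Agent.H7.S3814Defs Cfsg.Agent.H27.S3814C1

variable {G : Type u} [Group G]

/-- an element of `X` has order prime to `c` -/
theorem orderOf_ne_of_mem {K M X : Subgroup G} {c : ℕ} [Finite G] (hc : c.Prime)
    (h : IsCompl K c M X) {y : G} (hy : y ∈ X) : orderOf y ≠ c := by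
  intro e
  have hdvd : orderOf y ∣ Nat.card X := Subgroup.orderOf_dvd_natCard X hy
  rw [e] at hdvd
  have hcop := h.cop
  have : c ∣ Nat.gcd (Nat.card X) c := Nat.dvd_gcd hdvd dvd_rfl
  rw [hcop] at this
  exact hc.one_lt.ne' (Nat.dvd_one.1 this)

theorem a0bad : A0BadStmt.{u} := by
  intro G _ σ p V K c M X t t' h hF4 y hy hcent hyP
  haveI := h.c0.cex.fin
  have hcP : c.Prime := h.c0.hc
  obtain ⟨e₁, he₁, e₂, he₂, ho₁, ho₂, hcomm, hnot⟩ := h.mr2
  have hMK : M ≤ K := h.c0.hMK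
  refine hF4 y (h.compl.le hy) e₁ (hMK he₁) e₂ (hMK he₂) hyP (by rw [ho₁]; exact hcP)
    (by rw [ho₁, ho₂]) ?_ hcomm hnot (hcent e₁ he₁) (hcent e₂ he₂)
  rw [ho₁]
  exact orderOf_ne_of_mem hcP h.compl hy

theorem a0prime : A0PrimeStmt.{u} := by
  intro G _ σ p V K c M X t t' h hG1 y hy z hz hcy hcz hyP hzP
  haveI := h.c0.cex.fin
  have hcP : c.Prime := h.c0.hc
  obtain ⟨x, hx, hox, hgood⟩ := h.good
  have hMK : M ≤ K := h.c0.hMK
  by_contra hne
  apply hgood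
  refine hG1 x (hMK hx) y (h.compl.le hy) z (h.compl.le hz) (by rw [hox]; exact hcP) hyP hzP
    ?_ ?_ hne (hcy x hx).symm (hcz x hx).symm
  · rw [hox]
    exact (orderOf_ne_of_mem hcP h.compl hy).symm
  · rw [hox]
    exact (orderOf_ne_of_mem hcP h.compl hz).symm

example : A0BadStmt.{0} := a0bad
example : A0PrimeStmt.{0} := a0prime

end Cfsg.Agent.Lib.H3.S3814C1A0
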