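import Mathlib
import Cfsg.Agent.Lib.H27.S3814C1Defs

/-!
# S3814, Case 1 (helper27's sub-cut), piece A7: `⟨u0⟩` is normal in `K`
-/

set_option autoImplicit false

universe u

namespace Cfsg.Agent.Lib.H3.S3814C1A7

open Cfsg.Agent.H7.S3814Defs Cfsg.Agent.H27.S3814C1

variable {G : Type u} [Group G]

/-- a subgroup all of whose elements conjugate `B` into `B` normalises `B` -/
theorem le_normalizer_of_conj_mem' (H B : Subgroup G)
    (h : ∀ g ∈ H, ∀ b ∈ B, g * b * g⁻¹ ∈ B) : H ≤ Subgroup.normalizer (B : Set G) := by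
  intro g hg
  rw [Subgroup.mem_normalizer_iff]
  intro b
  refine ⟨h g hg b, fun hb => ?_⟩
  have := h g⁻¹ (inv_mem hg) _ hb
  simpa [mul_assoc] using this

theorem a7 : A7Stmt.{u} := by
  intro G _ σ p V K c M X t t' u0 h
  have h1 := h.c1
  have hXK : X ≤ K := h1.compl.le
  have hKM : K ≤ Subgroup.normalizer (M : Set G) := h1.c0.hMn
  have htP : t.Prime := h1.c0.cex.prime t h1.oth.ht
  -- `X` normalises `⟨u0⟩`
  have hX : ∀ x ∈ X, ∀ b ∈ Subgroup.zpowers u0, x * b * x⁻¹ ∈ Subgroup.zpowers u0 := by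
    intro x hx b hb
    have hoc : orderOf (x * u0 * x⁻¹) = orderOf u0 := by
      have hs : SemiconjBy x u0 (x * u0 * x⁻¹) := by
        unfold SemiconjBy
        group
      exact (SemiconjBy.orderOf_eq x hs).symm
    have hy : x * u0 * x⁻¹ ∈ Subgroup.zpowers u0 := by
      refine h.a0uniq u0 h.hu0 (x * u0 * x⁻¹) (X.mul_mem (X.mul_mem hx h.hu0) (X.inv_mem hx))
        h.cu0 ?_ (by rw [h.ou0]; exact htP) hoc
      intro m hm
      have hm' : x⁻¹ * m * x ∈ M := by
        have := (Subgroup.mem_normalizer_iff.1 (hKM (hXK (X.inv_mem hx))) m).1 hm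
        simpa using this
      have hc := h.cu0 _ hm'
      calc x * u0 * x⁻¹ * m = x * (u0 * (x⁻¹ * m * x)) * x⁻¹ := by group
        _ = x * ((x⁻¹ * m * x) * u0) * x⁻¹ := by rw [hc]
        _ = m * (x * u0 * x⁻¹) := by group
    obtain ⟨n, rfl⟩ := Subgroup.mem_zpowers_iff.1 hb
    have : x * u0 ^ n * x⁻¹ = (x * u0 * x⁻¹) ^ n := (conj_zpow).symm
    rw [this]
    exact Subgroup.zpow_mem _ hy n
  -- `M` centralises `⟨u0⟩`
  have hM : ∀ m ∈ M, ∀ b ∈ Subgroup.zpowers u0, m * b * m⁻¹ ∈ Subgroup.zpowers u0 := by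
    intro m hm b hb
    obtain ⟨n, rfl⟩ := Subgroup.mem_zpowers_iff.1 hb
    have hc : Commute m u0 := (show Commute u0 m from h.cu0 m hm).symm
    have : m * u0 ^ n * m⁻¹ = u0 ^ n := by
      rw [(hc.zpow_right n).eq, mul_inv_cancel_right]
    rw [this]
    exact Subgroup.zpow_mem _ (Subgroup.mem_zpowers u0) n
  have hle : K ≤ Subgroup.normalizer ((Subgroup.zpowers u0 : Subgroup G) : Set G) := by
    rw [← h1.compl.sup]
    exact sup_le (le_normalizer_of_conj_mem' M _ hM) (le_normalizer_of_conj_mem' X _ hX)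
  intro k hk
  exact (Subgroup.mem_normalizer_iff.1 (hle hk) u0).1 (Subgroup.mem_zpowers u0)

example : A7Stmt.{0} := a7

end Cfsg.Agent.Lib.H3.S3814C1A7
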