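import Mathlib
import Cfsg.Prelude.Def_KGroupFacts
import Cfsg.Agent.Lib.H28.G23M.Words

/-! S2101 piece AB (architect helper28): the abstract argument. -/

set_option autoImplicit false

namespace Cfsg.Agent.Lib.H3.G23M

open Cfsg.Agent.Lib.H28.G23M

open scoped commutatorElement

theorem lv_congr {G : Type*} [Group G] {x x' : ℕ → G} (h : ∀ i < 12, x i = x' i) (l : ℕ) :
    lv x l = lv x' l := by
  unfold lv
  have h12 : l % 12 < 12 := Nat.mod_lt _ (by norm_num)
  rw [h _ h12]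

theorem ev_congr {G : Type*} [Group G] {x x' : ℕ → G} (h : ∀ i < 12, x i = x' i) (w : List ℕ) :
    ev x w = ev x' w := by
  induction w with
  | nil => rfl
  | cons l w ih => rw [ev_cons, ev_cons, ih, lv_congr h]

/-- the free generators -/
def xF (i : ℕ) : FreeGroup (Fin 12) := if h : i < 12 then FreeGroup.of ⟨i, h⟩ else 1

/-- the relators -/
def relSet : Set (FreeGroup (Fin 12)) := {r | ∃ w ∈ relL, r = ev xF w}

/-- the presented group -/
abbrev PG : Type := PresentedGroup relSet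

/-- its generators -/
def xP (i : ℕ) : PG := PresentedGroup.mk relSet (xF i)

theorem rels_xP : Rels xP := by
  apply rels_of_ev_eq_one
  intro w hw
  have h1 : ev xP w = PresentedGroup.mk relSet (ev xF w) :=
    (map_ev (PresentedGroup.mk relSet) xF w).symm
  rw [h1]
  exact PresentedGroup.one_of_mem ⟨w, hw, rfl⟩

theorem closure_xP : Subgroup.closure {g : PG | ∃ i < 12, g = xP i} = ⊤ := by
  have h := PresentedGroup.closure_range_of relSet
  rw [eq_top_iff, ← h]
  apply Subgroup.closure_mono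
  rintro _ ⟨a, rfl⟩
  refine ⟨a.1, a.2, ?_⟩
  unfold xP xF
  rw [dif_pos a.2]
  rfl

/-- the universal property -/
noncomputable def homP {Γ : Type*} [Group Γ] (y : ℕ → Γ) (hy : Rels y) : PG →* Γ :=
  PresentedGroup.toGroup (f := fun a : Fin 12 => y a.1) (by
    rintro r ⟨w, hw, rfl⟩
    rw [map_ev]
    have h1 : ev (fun i => FreeGroup.lift (fun a : Fin 12 => y a.1) (xF i)) w = ev y w := by
      apply ev_congr
      intro i hi
      unfold xF
      rw [dif_pos hi, FreeGroup.lift_apply_of]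
    rw [h1]
    exact hy.ev_eq_one w hw)

theorem homP_xP {Γ : Type*} [Group Γ] (y : ℕ → Γ) (hy : Rels y) {i : ℕ} (hi : i < 12) :
    homP y hy (xP i) = y i := by
  unfold homP xP xF
  rw [dif_pos hi]
  exact PresentedGroup.toGroup.of _

theorem homP_ev {Γ : Type*} [Group Γ] (y : ℕ → Γ) (hy : Rels y) (w : List ℕ) :
    homP y hy (ev xP w) = ev y w := by
  rw [map_ev]
  exact ev_congr (fun i hi => homP_xP y hy hi) w

theorem ev_c0 {Γ : Type*} [Group Γ] (y : ℕ → Γ) :
    ev y [0, 4, 12, 16] = y 0 * y 4 * (y 0)⁻¹ * (y 4)⁻¹ := by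
  rw [ev_cons, ev_cons, ev_cons, ev_single]
  have h0 : lv y 0 = y 0 := lv_of_lt y (by norm_num)
  have h4 : lv y 4 = y 4 := lv_of_lt y (by norm_num)
  have h12 : lv y 12 = (y 0)⁻¹ := by
    have := lv_linv y 0
    rw [h0] at this
    exact this
  have h16 : lv y 16 = (y 4)⁻¹ := by
    have := lv_linv y 4
    rw [h4] at this
    exact this
  rw [h0, h4, h12, h16]
  group

theorem c0_mem_cenL : [0, 4, 12, 16] ∈ cenL := by
  unfold cenL
  exact List.mem_cons_self

theorem comm_central_left {Γ : Type*} [Group Γ] {z : Γ} (hz : ∀ g : Γ, g * z = z * g) (a g : Γ) :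
    ⁅z * a, g⁆ = ⁅a, g⁆ := by
  have hz' : ∀ x : Γ, x * z⁻¹ = z⁻¹ * x := fun x =>
    ((show Commute x z from hz x).inv_right).eq
  rw [commutatorElement_def, commutatorElement_def]
  calc z * a * g * (z * a)⁻¹ * g⁻¹ = z * (a * g * a⁻¹) * z⁻¹ * g⁻¹ := by group
    _ = z * (z⁻¹ * (a * g * a⁻¹)) * g⁻¹ := by rw [mul_assoc z, hz']
    _ = a * g * a⁻¹ * g⁻¹ := by group

theorem comm_central_both {Γ : Type*} [Group Γ] {z w : Γ} (hz : ∀ g : Γ, g * z = z * g)
    (hw : ∀ g : Γ, g * w = w * g) (a b : Γ) : ⁅z * a, w * b⁆ = ⁅a, b⁆ := by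
  rw [comm_central_left hz, ← commutatorElement_inv, comm_central_left hw, commutatorElement_inv]

/-- **AB**. -/
theorem main_abstract {G : Type} [Group G] [Finite G] (hcard : Nat.card G = 4245696)
    (X : ℕ → G) (hgen : Subgroup.closure {g : G | ∃ i < 12, g = X i} = ⊤) (hX : Rels X)
    (hXc : ∀ c ∈ cenL, ev X c = 1)
    (hbound : ∀ (Γ : Type) [Group Γ] (x : ℕ → Γ), Subgroup.closure {g : Γ | ∃ i < 12, g = x i} = ⊤ → Rels x →
      Finite Γ ∧ Nat.card Γ ≤ 12737088)
    (hmodel : ∃ (M : Type) (_ : Group M) (y : ℕ → M), Rels y ∧ ev y [0, 4, 12, 16] ≠ 1)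
    (hlift : ∀ (Γ : Type) [Group Γ] [Finite Γ] (σ : Γ →* G), Cfsg.IsStemExtension σ →
      ∃ x : ℕ → Γ, (∀ i < 12, σ (x i) = X i) ∧ Rels x) :
    Cfsg.HasCyclicSchurMultiplier G 3 := by
  classical
  have : Fact (Nat.Prime 3) := ⟨by norm_num⟩
  -- the covering map
  set π : PG →* G := homP X hX with hπ
  have hπx : ∀ i < 12, π (xP i) = X i := fun i hi => homP_xP X hX hi
  have hπs : Function.Surjective π := by
    rw [← MonoidHom.range_eq_top, eq_top_iff, ← hgen, Subgroup.closure_le]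
    rintro g ⟨i, hi, rfl⟩
    exact ⟨xP i, hπx i hi⟩
  obtain ⟨hfin, hcardP⟩ := hbound PG xP closure_xP rels_xP
  -- the central element
  set c0 : PG := ev xP [0, 4, 12, 16] with hc0
  have hc0ker : c0 ∈ π.ker := by
    rw [MonoidHom.mem_ker, hc0, hπ, homP_ev]
    exact hXc _ c0_mem_cenL
  have hc0cen : c0 ∈ Subgroup.center PG := by
    rw [Subgroup.mem_center_iff]
    intro g
    have hg : g ∈ Subgroup.centralizer ({c0} : Set PG) := by
      have hle : Subgroup.closure {g : PG | ∃ i < 12, g = xP i} ≤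
          Subgroup.centralizer ({c0} : Set PG) := by
        rw [Subgroup.closure_le]
        rintro g ⟨i, hi, rfl⟩
        rw [SetLike.mem_coe, Subgroup.mem_centralizer_iff]
        intro h hh
        rw [Set.mem_singleton_iff] at hh
        subst hh
        exact rels_xP.cen _ c0_mem_cenL i hi
      apply hle
      rw [closure_xP]
      exact Subgroup.mem_top g
    rw [Subgroup.mem_centralizer_iff] at hg
    exact (hg c0 rfl).symm
  have hc0ne : c0 ≠ 1 := by
    obtain ⟨M, _, y, hy, hne⟩ := hmodel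
    intro h1
    apply hne
    rw [← homP_ev y hy, ← hc0, h1, map_one]
  have hc0cube : c0 ^ 3 = 1 := by
    have e0 : c0 = xP 0 * xP 4 * (xP 0)⁻¹ * (xP 4)⁻¹ := ev_c0 xP
    have e1 : xP 0 * xP 4 * (xP 0)⁻¹ = c0 * xP 4 := by
      rw [e0]; group
    have hcomm : Commute c0 (xP 4) := by
      rw [Subgroup.mem_center_iff] at hc0cen
      exact (hc0cen (xP 4)).symm
    have e2 : (xP 0 * xP 4 * (xP 0)⁻¹) ^ 3 = xP 0 * (xP 4) ^ 3 * (xP 0)⁻¹ := conj_pow
    have e3 : (c0 * xP 4) ^ 3 = c0 ^ 3 * (xP 4) ^ 3 := hcomm.mul_pow 3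
    have h4 : (xP 4) ^ 3 = 1 := rels_xP.cube 4 (by norm_num)
    rw [e1, e3, h4, mul_one, mul_one, mul_inv_cancel] at e2
    exact e2
  have hord : orderOf c0 = 3 := orderOf_eq_prime hc0cube hc0ne
  -- the kernel
  have hkcard : Nat.card π.ker * Nat.card G = Nat.card PG := by
    have h1 := Subgroup.card_eq_card_quotient_mul_card_subgroup π.ker
    have h2 : Nat.card (PG ⧸ π.ker) = Nat.card G :=
      Nat.card_congr (QuotientGroup.quotientKerEquivOfSurjective π hπs).toEquiv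
    rw [h1, h2, mul_comm]
  have hk3 : Nat.card π.ker ≤ 3 := by
    have : Nat.card π.ker * 4245696 ≤ 3 * 4245696 := by
      rw [← hcard, hkcard]
      have : (3 : ℕ) * Nat.card G = 12737088 := by rw [hcard]
      rw [this]
      exact hcardP
    exact Nat.le_of_mul_le_mul_right this (by norm_num)
  have hzle : Subgroup.zpowers c0 ≤ π.ker := by
    rw [Subgroup.zpowers_le]
    exact hc0ker
  have hzcard : Nat.card (Subgroup.zpowers c0) = 3 := by
    rw [Nat.card_zpowers, hord]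
  have hker : π.ker = Subgroup.zpowers c0 := by
    symm
    apply Subgroup.eq_of_le_of_card_ge hzle
    rw [hzcard]
    exact hk3
  have hkcen : π.ker ≤ Subgroup.center PG := by
    rw [hker, Subgroup.zpowers_le]
    exact hc0cen
  have hkcomm : π.ker ≤ commutator PG := by
    rw [hker, Subgroup.zpowers_le]
    have e0 : c0 = ⁅xP 0, xP 4⁆ := by
      rw [commutatorElement_def]
      exact ev_c0 xP
    rw [e0, commutator_def]
    exact Subgroup.commutator_mem_commutator (Subgroup.mem_top _) (Subgroup.mem_top _)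
  have hk3' : Nat.card π.ker = 3 := by rw [hker, hzcard]
  have hz3 : Nat.card (Multiplicative (ZMod 3)) = 3 := by
    rw [Nat.card_eq_fintype_card, Fintype.card_multiplicative, ZMod.card]
  have e : π.ker ≃* Multiplicative (ZMod 3) := mulEquivOfPrimeCardEq hk3' hz3
  refine ⟨⟨PG, inferInstance, hfin, π, ⟨hπs, hkcen, hkcomm⟩, ⟨e⟩⟩, ?_⟩
  -- universality
  intro Γ _ _ σ hσ
  obtain ⟨x', hx'σ, hx'⟩ := hlift Γ σ hσ
  obtain ⟨hσs, hσc, hσd⟩ := hσ
  set φ : PG →* Γ := homP x' hx' with hφ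
  have hσφ : σ.comp φ = π := by
    apply PresentedGroup.ext
    intro a
    have h1 : (PresentedGroup.of a : PG) = xP a.1 := by
      unfold xP xF
      rw [dif_pos a.2]
      rfl
    rw [h1, MonoidHom.comp_apply, hφ, homP_xP x' hx' a.2, hx'σ a.1 a.2, hπx a.1 a.2]
  have hσφ' : ∀ p : PG, σ (φ p) = π p := fun p => by rw [← hσφ]; rfl
  -- every element is (kernel element) * (element of the range)
  have hdecomp : ∀ γ : Γ, ∃ k ∈ σ.ker, ∃ p : PG, γ = k * φ p := by
    intro γ
    obtain ⟨p, hp⟩ := hπs (σ γ)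
    refine ⟨γ * (φ p)⁻¹, ?_, p, by group⟩
    rw [MonoidHom.mem_ker, map_mul, map_inv, hσφ', hp, mul_inv_cancel]
  have hcommle : commutator Γ ≤ φ.range := by
    rw [commutator_def, Subgroup.commutator_le]
    intro g₁ _ g₂ _
    obtain ⟨k₁, hk₁, p₁, rfl⟩ := hdecomp g₁
    obtain ⟨k₂, hk₂, p₂, rfl⟩ := hdecomp g₂
    have c₁ := Subgroup.mem_center_iff.1 (hσc hk₁)
    have c₂ := Subgroup.mem_center_iff.1 (hσc hk₂)
    have : ⁅k₁ * φ p₁, k₂ * φ p₂⁆ = φ ⁅p₁, p₂⁆ := by
      rw [map_commutatorElement]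
      exact comm_central_both c₁ c₂ _ _
    rw [this]
    exact ⟨_, rfl⟩
  have hkerle : ∀ k ∈ σ.ker, ∃ p ∈ π.ker, φ p = k := by
    intro k hk
    obtain ⟨p, hp⟩ := hcommle (hσd hk)
    refine ⟨p, ?_, hp⟩
    rw [MonoidHom.mem_ker, ← hσφ', hp]
    exact hk
  let ψ : π.ker →* σ.ker :=
    (φ.comp π.ker.subtype).codRestrict σ.ker (by
      intro p
      rw [MonoidHom.mem_ker, MonoidHom.comp_apply, hσφ']
      exact p.2)
  have hψs : Function.Surjective ψ := by
    rintro ⟨k, hk⟩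
    obtain ⟨p, hp, hpk⟩ := hkerle k hk
    exact ⟨⟨p, hp⟩, Subtype.ext hpk⟩
  exact ⟨ψ.comp e.symm.toMonoidHom, hψs.comp e.symm.surjective⟩

end Cfsg.Agent.Lib.H3.G23M
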