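import Mathlib
import Cfsg.Prelude.Def_GeometricClasses

/-!
# Generic "Clifford with a form" K-lemma (helper3)

For a reflexive non-degenerate form `f` on `F^n`, linear in the first argument: a finite independent family `C`
of non-zero subspaces with sum `⊤`, permuted transitively by a group `H` of isometries, such that the orthogonal
of each member is the sum of a subfamily, gives either a non-degenerate decomposition permuted transitively by `H`,
or a pair of totally singular subspaces of dimension `n / 2` permuted by `H`.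
(Generic version of `Cfsg.Agent.Lib.H3.Asch.uc2_of_components`.)
-/

set_option autoImplicit false

namespace Cfsg.Agent.Lib.H3.Asch

open Cfsg Cfsg.Geo
open scoped MatrixGroups Matrix

variable {F : Type*} [Field F] {n : ℕ}

/-- The four facts about the form used in the proof. -/
structure GM2K_Form (f : (Fin n → F) → (Fin n → F) → F) : Prop where
  add_left : ∀ u u' v, f (u + u') v = f u v + f u' v
  smul_left : ∀ (c : F) u v, f (c • u) v = c * f u v
  refl : ∀ u v, f u v = 0 → f v u = 0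
  nondeg : ∀ w, (∀ u, f u w = 0) → w = 0

section form
variable {f : (Fin n → F) → (Fin n → F) → F}

theorem GM2K_Form.zero_left (hf : GM2K_Form f) (v : Fin n → F) : f 0 v = 0 := by
  have := hf.smul_left 0 0 v
  rwa [zero_smul, zero_mul] at this

theorem GM2K_Form.zero_iff (hf : GM2K_Form f) (u v : Fin n → F) : f u v = 0 ↔ f v u = 0 :=
  ⟨hf.refl u v, hf.refl v u⟩

/-- the orthogonal of a subspace -/
def GM2K_perp (hf : GM2K_Form f) (W : Submodule F (Fin n → F)) : Submodule F (Fin n → F) where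
  carrier := {v | ∀ w ∈ W, f v w = 0}
  add_mem' := by
    intro a b ha hb w hw
    rw [hf.add_left, ha w hw, hb w hw, add_zero]
  zero_mem' := fun w _ => hf.zero_left w
  smul_mem' := by
    intro c a ha w hw
    rw [hf.smul_left, ha w hw, mul_zero]

theorem GM2K_mem_perp (hf : GM2K_Form f) {W : Submodule F (Fin n → F)} {v : Fin n → F} :
    v ∈ GM2K_perp hf W ↔ ∀ w ∈ W, f v w = 0 := Iff.rfl

/-- `f(·, v)` as a linear form. -/
def GM2K_lin (hf : GM2K_Form f) (v : Fin n → F) : (Fin n → F) →ₗ[F] F where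
  toFun := fun u => f u v
  map_add' := fun a b => hf.add_left a b v
  map_smul' := fun c a => by
    rw [hf.smul_left, RingHom.id_apply, smul_eq_mul]

theorem GM2K_lin_apply (hf : GM2K_Form f) (v u : Fin n → F) : GM2K_lin hf v u = f u v := rfl

theorem GM2K_orth_symm (hf : GM2K_Form f) {W W' : Submodule F (Fin n → F)}
    (h : AreOrthogonalFor f W W') : AreOrthogonalFor f W' W :=
  fun u hu v hv => hf.refl v u (h v hv u hu)

theorem GM2K_le_perp_iff (hf : GM2K_Form f) {W W' : Submodule F (Fin n → F)} :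
    W ≤ GM2K_perp hf W' ↔ AreOrthogonalFor f W W' :=
  ⟨fun h _ hu v hv => h hu v hv, fun h u hu v hv => h u hu v hv⟩

theorem GM2K_orth_iSup_left (hf : GM2K_Form f) {ι : Sort*} (A : ι → Submodule F (Fin n → F))
    (W : Submodule F (Fin n → F)) (h : ∀ i, AreOrthogonalFor f (A i) W) :
    AreOrthogonalFor f (⨆ i, A i) W := by
  rw [← GM2K_le_perp_iff hf]
  exact iSup_le fun i => (GM2K_le_perp_iff hf).mpr (h i)

theorem GM2K_orth_sup_left (hf : GM2K_Form f) {A B W : Submodule F (Fin n → F)}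
    (hA : AreOrthogonalFor f A W) (hB : AreOrthogonalFor f B W) : AreOrthogonalFor f (A ⊔ B) W := by
  rw [← GM2K_le_perp_iff hf] at *
  exact sup_le hA hB

theorem GM2K_orth_sup_right (hf : GM2K_Form f) {A B W : Submodule F (Fin n → F)}
    (hA : AreOrthogonalFor f W A) (hB : AreOrthogonalFor f W B) : AreOrthogonalFor f W (A ⊔ B) :=
  GM2K_orth_symm hf (GM2K_orth_sup_left hf (GM2K_orth_symm hf hA) (GM2K_orth_symm hf hB))

/-- the dimension inequality `n ≤ dim W^⊥ + dim W` -/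
theorem GM2K_finrank_perp (hf : GM2K_Form f) (W : Submodule F (Fin n → F)) :
    n ≤ Module.finrank F (GM2K_perp hf W) + Module.finrank F W := by
  classical
  set k := Module.finrank F W with hk
  let b := Module.finBasis F W
  let Ψ : (Fin n → F) →ₗ[F] (Fin k → F) :=
    LinearMap.pi (fun j => GM2K_lin hf ((b j : W) : Fin n → F))
  have hker : LinearMap.ker Ψ ≤ GM2K_perp hf W := by
    intro v hv w hw
    have hv' : ∀ j, f v ((b j : W) : Fin n → F) = 0 := by
      intro j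
      have := congrFun (LinearMap.mem_ker.mp hv) j
      simpa [Ψ, GM2K_lin_apply] using this
    have h0 : (GM2K_lin hf v) ∘ₗ W.subtype = 0 := by
      apply b.ext
      intro j
      simp only [LinearMap.comp_apply, Submodule.subtype_apply, LinearMap.zero_apply,
        GM2K_lin_apply]
      exact hf.refl _ _ (hv' j)
    have h1 := LinearMap.congr_fun h0 ⟨w, hw⟩
    simp only [LinearMap.comp_apply, Submodule.subtype_apply, LinearMap.zero_apply,
      GM2K_lin_apply] at h1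
    exact hf.refl _ _ h1
  have hrn := LinearMap.finrank_range_add_finrank_ker Ψ
  have h1 : Module.finrank F (LinearMap.range Ψ) ≤ k := by
    have := Submodule.finrank_le (LinearMap.range Ψ)
    simpa using this
  have h2 : Module.finrank F (LinearMap.ker Ψ) ≤ Module.finrank F (GM2K_perp hf W) :=
    Submodule.finrank_mono hker
  have h3 : Module.finrank F (Fin n → F) = n := by simp
  omega

end form

/-- the linear map of an element of `GL` -/
noncomputable abbrev GM2K_gm (g : GL (Fin n) F) : (Fin n → F) →ₗ[F] (Fin n → F) :=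
  Matrix.toLin' ((g : GL (Fin n) F) : Matrix (Fin n) (Fin n) F)

theorem GM2K_orth_map {f : (Fin n → F) → (Fin n → F) → F} {g : GL (Fin n) F}
    (hg : ∀ u v, f ((g : Matrix (Fin n) (Fin n) F) *ᵥ u) ((g : Matrix (Fin n) (Fin n) F) *ᵥ v) = f u v)
    {W W' : Submodule F (Fin n → F)} :
    AreOrthogonalFor f (W.map (GM2K_gm g)) (W'.map (GM2K_gm g)) ↔ AreOrthogonalFor f W W' := by
  constructor
  · intro h u hu v hv
    have := h _ (Submodule.mem_map_of_mem hu) _ (Submodule.mem_map_of_mem hv)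
    rwa [Matrix.toLin'_apply, Matrix.toLin'_apply, hg] at this
  · rintro h _ ⟨u, hu, rfl⟩ _ ⟨v, hv, rfl⟩
    rw [Matrix.toLin'_apply, Matrix.toLin'_apply, hg]
    exact h u hu v hv

theorem GM2K_toLin_injective (g : GL (Fin n) F) : Function.Injective (GM2K_gm g) := by
  intro u v h
  rw [Matrix.toLin'_apply, Matrix.toLin'_apply] at h
  have := congrArg (fun x => ((g⁻¹ : GL (Fin n) F) : Matrix (Fin n) (Fin n) F) *ᵥ x) h
  simpa [Matrix.mulVec_mulVec, ← Units.val_mul] using this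

theorem GM2K_finrank_map (g : GL (Fin n) F) (W : Submodule F (Fin n → F)) :
    Module.finrank F (W.map (GM2K_gm g)) = Module.finrank F W :=
  (Submodule.equivMapOfInjective _ (GM2K_toLin_injective g) W).finrank_eq.symm

theorem GM2K_map_injective (g : GL (Fin n) F) :
    Function.Injective (fun W : Submodule F (Fin n → F) => W.map (GM2K_gm g)) :=
  Submodule.map_injective_of_injective (GM2K_toLin_injective g)

/-- The abstract setting: an independent family of non-zero subspaces with sum `⊤`, permuted transitively by `H`. -/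
structure GM2K_Sys (H : Subgroup (GL (Fin n) F)) {ι : Type*} (A : ι → Submodule F (Fin n → F)) : Prop where
  indep : iSupIndep A
  top : iSup A = ⊤
  ne : ∀ i, A i ≠ ⊥
  map : ∀ g ∈ H, ∀ i, ∃ j, (A i).map (GM2K_gm g) = A j
  trans : ∀ i j, ∃ g ∈ H, (A i).map (GM2K_gm g) = A j

section
variable {f : (Fin n → F) → (Fin n → F) → F}
variable {H : Subgroup (GL (Fin n) F)} {ι : Type*} {A : ι → Submodule F (Fin n → F)}

/-- orthogonality of two members -/
def GM2K_orth (f : (Fin n → F) → (Fin n → F) → F) (A : ι → Submodule F (Fin n → F)) (i j : ι) : Prop :=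
  AreOrthogonalFor f (A i) (A j)

theorem GM2K_Sys.finrank_eq (S : GM2K_Sys H A) (i j : ι) :
    Module.finrank F (A i) = Module.finrank F (A j) := by
  obtain ⟨g, _, hg⟩ := S.trans i j
  rw [← hg, GM2K_finrank_map]

theorem GM2K_Sys.injective (S : GM2K_Sys H A) : Function.Injective A :=
  S.indep.injective S.ne

theorem GM2K_Sys.exists_not_orth (S : GM2K_Sys H A) (hf : GM2K_Form f) (j : ι) :
    ∃ i, ¬ GM2K_orth f A i j := by
  by_contra hcon
  have hall : ∀ i, GM2K_orth f A i j := fun i => by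
    by_contra h
    exact hcon ⟨i, h⟩
  have htop : (⊤ : Submodule F (Fin n → F)) ≤ GM2K_perp hf (A j) := by
    rw [← S.top]
    exact iSup_le fun i => (GM2K_le_perp_iff hf).mpr (hall i)
  apply S.ne j
  rw [Submodule.eq_bot_iff]
  intro w hw
  apply hf.nondeg w
  intro v
  exact htop (Submodule.mem_top : v ∈ ⊤) w hw

theorem GM2K_Sys.unique_not_orth (S : GM2K_Sys H A) (hf : GM2K_Form f)
    (hP : ∀ j, GM2K_perp hf (A j) = ⨆ i ∈ {i | GM2K_orth f A i j}, A i)
    {i₁ i₂ j : ι} (h1 : ¬ GM2K_orth f A i₁ j) (h2 : ¬ GM2K_orth f A i₂ j) : i₁ = i₂ := by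
  by_contra hne
  have hdisj : Disjoint (GM2K_perp hf (A j)) (A i₁ ⊔ A i₂) := by
    rw [hP j, ← iSup_pair]
    apply S.indep.disjoint_biSup_biSup
    rw [Set.disjoint_left]
    intro i hi hi'
    rcases hi' with rfl | rfl
    · exact h1 hi
    · exact h2 hi
  have hle := Submodule.finrank_add_finrank_le_of_disjoint hdisj
  have h12 : Disjoint (A i₁) (A i₂) := S.indep.pairwiseDisjoint hne
  have hsum := Submodule.finrank_sup_add_finrank_inf_eq (A i₁) (A i₂)
  rw [h12.eq_bot, finrank_bot, add_zero] at hsum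
  have hn := GM2K_finrank_perp hf (A j)
  have e1 := S.finrank_eq i₁ j
  have e2 := S.finrank_eq i₂ j
  have hV : Module.finrank F (Fin n → F) = n := by simp
  have hpos : 0 < Module.finrank F (A j) := by
    rw [Nat.pos_iff_ne_zero, Ne, Submodule.finrank_eq_zero]
    exact S.ne j
  omega

/-- the pairing `p` -/
theorem GM2K_Sys.exists_p (S : GM2K_Sys H A) (hf : GM2K_Form f)
    (hP : ∀ j, GM2K_perp hf (A j) = ⨆ i ∈ {i | GM2K_orth f A i j}, A i) :
    ∃ p : ι → ι, ∀ i j, (¬ GM2K_orth f A i j ↔ i = p j) := by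
  choose p hp using S.exists_not_orth hf
  exact ⟨p, fun i j => ⟨fun h => S.unique_not_orth hf hP h (hp j), fun h => h ▸ hp j⟩⟩

variable {p : ι → ι}

theorem GM2K_p_invol (hf : GM2K_Form f) (hp : ∀ i j, (¬ GM2K_orth f A i j ↔ i = p j))
    (j : ι) : p (p j) = j := by
  have h1 : ¬ GM2K_orth f A (p j) j := (hp _ _).mpr rfl
  have h2 : ¬ GM2K_orth f A j (p j) := fun h => h1 (GM2K_orth_symm hf h)
  exact ((hp _ _).mp h2).symm

theorem GM2K_p_injective (hf : GM2K_Form f) (hp : ∀ i j, (¬ GM2K_orth f A i j ↔ i = p j)) :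
    Function.Injective p := by
  intro i j h
  rw [← GM2K_p_invol hf hp i, h, GM2K_p_invol hf hp j]

theorem GM2K_orth_of_ne (hp : ∀ i j, (¬ GM2K_orth f A i j ↔ i = p j)) {i j : ι} (h : i ≠ p j) :
    GM2K_orth f A i j := by
  by_contra h'
  exact h ((hp i j).mp h')

/-- the permutation of the indices induced by `g ∈ H` commutes with `p` -/
theorem GM2K_sigma_p
    (hH : ∀ g ∈ H, ∀ u v, f ((g : Matrix (Fin n) (Fin n) F) *ᵥ u) ((g : Matrix (Fin n) (Fin n) F) *ᵥ v) = f u v)
    (hp : ∀ i j, (¬ GM2K_orth f A i j ↔ i = p j)) {g : GL (Fin n) F} (hg : g ∈ H) {σ : ι → ι}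
    (hσ : ∀ i, (A i).map (GM2K_gm g) = A (σ i)) (j : ι) : σ (p j) = p (σ j) := by
  have h1 : ¬ GM2K_orth f A (p j) j := (hp _ _).mpr rfl
  apply (hp _ _).mp
  intro h
  apply h1
  unfold GM2K_orth at h
  rw [← hσ, ← hσ] at h
  exact (GM2K_orth_map (hH g hg)).mp h

/-- the blocks -/
def GM2K_b (A : ι → Submodule F (Fin n → F)) (p : ι → ι) (j : ι) : Submodule F (Fin n → F) :=
  A j ⊔ A (p j)

/-- the sum of the members outside the block of `j` -/
def GM2K_Z (A : ι → Submodule F (Fin n → F)) (p : ι → ι) (j : ι) : Submodule F (Fin n → F) :=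
  ⨆ i ∈ {i | i ≠ j ∧ i ≠ p j}, A i

theorem GM2K_b_p (hf : GM2K_Form f) (hp : ∀ i j, (¬ GM2K_orth f A i j ↔ i = p j)) (j : ι) :
    GM2K_b A p (p j) = GM2K_b A p j := by
  unfold GM2K_b
  rw [GM2K_p_invol hf hp, sup_comm]

theorem GM2K_map_b
    (hH : ∀ g ∈ H, ∀ u v, f ((g : Matrix (Fin n) (Fin n) F) *ᵥ u) ((g : Matrix (Fin n) (Fin n) F) *ᵥ v) = f u v)
    (hp : ∀ i j, (¬ GM2K_orth f A i j ↔ i = p j)) {g : GL (Fin n) F} (hg : g ∈ H) {σ : ι → ι}
    (hσ : ∀ i, (A i).map (GM2K_gm g) = A (σ i)) (j : ι) :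
    (GM2K_b A p j).map (GM2K_gm g) = GM2K_b A p (σ j) := by
  unfold GM2K_b
  rw [Submodule.map_sup, hσ, hσ, GM2K_sigma_p hH hp hg hσ]

theorem GM2K_A_le_b_iff (S : GM2K_Sys H A) (i j : ι) :
    A i ≤ GM2K_b A p j ↔ i = j ∨ i = p j := by
  constructor
  · intro h
    by_contra hcon
    rw [not_or] at hcon
    have hd : Disjoint (A i) (⨆ k ∈ ({j, p j} : Set ι), A k) := by
      apply S.indep.disjoint_biSup
      intro hmem
      rcases hmem with h1 | h1
      · exact hcon.1 h1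
      · exact hcon.2 h1
    rw [iSup_pair] at hd
    exact S.ne i (hd.eq_bot_of_le h)
  · rintro (rfl | rfl)
    · exact le_sup_left
    · exact le_sup_right

theorem GM2K_b_eq_iff (S : GM2K_Sys H A) (hf : GM2K_Form f)
    (hp : ∀ i j, (¬ GM2K_orth f A i j ↔ i = p j)) (i j : ι) :
    GM2K_b A p i = GM2K_b A p j ↔ i = j ∨ i = p j := by
  constructor
  · intro h
    apply (GM2K_A_le_b_iff S i j).mp
    rw [← h]
    exact le_sup_left
  · rintro (rfl | rfl)
    · rfl
    · exact GM2K_b_p hf hp j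

theorem GM2K_orth_b (hf : GM2K_Form f) (hp : ∀ i j, (¬ GM2K_orth f A i j ↔ i = p j))
    {i j : ι} (h1 : i ≠ j) (h2 : i ≠ p j) :
    AreOrthogonalFor f (GM2K_b A p i) (GM2K_b A p j) := by
  have hpp := GM2K_p_invol hf hp
  have hinj := GM2K_p_injective hf hp
  have o1 : GM2K_orth f A i j := GM2K_orth_of_ne hp h2
  have o2 : GM2K_orth f A i (p j) := GM2K_orth_of_ne hp (by rw [hpp]; exact h1)
  have o3 : GM2K_orth f A (p i) j := GM2K_orth_of_ne hp (fun h => h1 (hinj h))
  have o4 : GM2K_orth f A (p i) (p j) := GM2K_orth_of_ne hp (by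
    rw [hpp]
    intro h
    apply h2
    rw [← h, hpp])
  exact GM2K_orth_sup_left hf (GM2K_orth_sup_right hf o1 o2) (GM2K_orth_sup_right hf o3 o4)

theorem GM2K_b_sup_Z (S : GM2K_Sys H A) (j : ι) : GM2K_b A p j ⊔ GM2K_Z A p j = ⊤ := by
  rw [eq_top_iff, ← S.top]
  apply iSup_le
  intro i
  by_cases h : i = j ∨ i = p j
  · exact ((GM2K_A_le_b_iff S i j).mpr h).trans le_sup_left
  · rw [not_or] at h
    refine le_trans ?_ le_sup_right
    unfold GM2K_Z
    exact le_biSup A (show i ∈ {i | i ≠ j ∧ i ≠ p j} from h)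

theorem GM2K_orth_Z_b (hf : GM2K_Form f) (hp : ∀ i j, (¬ GM2K_orth f A i j ↔ i = p j))
    (j : ι) : AreOrthogonalFor f (GM2K_Z A p j) (GM2K_b A p j) := by
  have hpp := GM2K_p_invol hf hp
  unfold GM2K_Z
  apply GM2K_orth_iSup_left hf
  intro i
  apply GM2K_orth_iSup_left hf
  intro hi
  exact GM2K_orth_sup_right hf (GM2K_orth_of_ne hp hi.2)
    (GM2K_orth_of_ne hp (by rw [hpp]; exact hi.1))

theorem GM2K_disjoint_b_Z (S : GM2K_Sys H A) (j : ι) : Disjoint (GM2K_b A p j) (GM2K_Z A p j) := by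
  unfold GM2K_b GM2K_Z
  rw [← iSup_pair]
  apply S.indep.disjoint_biSup_biSup
  rw [Set.disjoint_left]
  intro i hi hi'
  rcases hi with rfl | rfl
  · exact hi'.1 rfl
  · exact hi'.2 rfl

theorem GM2K_b_le_Z (hf : GM2K_Form f) (hp : ∀ i j, (¬ GM2K_orth f A i j ↔ i = p j))
    {i j : ι} (h1 : i ≠ j) (h2 : i ≠ p j) : GM2K_b A p i ≤ GM2K_Z A p j := by
  have hpp := GM2K_p_invol hf hp
  have hinj := GM2K_p_injective hf hp
  unfold GM2K_b GM2K_Z
  apply sup_le
  · exact le_biSup A (show i ∈ {i | i ≠ j ∧ i ≠ p j} from ⟨h1, h2⟩)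
  · refine le_biSup A (show p i ∈ {i | i ≠ j ∧ i ≠ p j} from ⟨?_, fun h => h1 (hinj h)⟩)
    intro h
    apply h2
    rw [← h, hpp]

theorem GM2K_nondeg_b (S : GM2K_Sys H A) (hf : GM2K_Form f)
    (hp : ∀ i j, (¬ GM2K_orth f A i j ↔ i = p j)) (j : ι) :
    IsNondegenerateOn f (GM2K_b A p j) := by
  intro w hw hw0
  have hex : ∃ x ∈ GM2K_b A p j, f x w ≠ 0 := by
    by_contra hcon
    apply hw0
    apply hf.nondeg w
    intro v
    have hv : v ∈ GM2K_b A p j ⊔ GM2K_Z A p j := by rw [GM2K_b_sup_Z S j]; trivial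
    obtain ⟨x, hx, y, hy, rfl⟩ := Submodule.mem_sup.mp hv
    rw [hf.add_left, GM2K_orth_Z_b hf hp j y hy w hw, add_zero]
    by_contra h
    exact hcon ⟨x, hx, h⟩
  refine ⟨hex, ?_⟩
  obtain ⟨x, hx, hxw⟩ := hex
  refine ⟨x, hx, ?_⟩
  intro h
  exact hxw (hf.refl _ _ h)

theorem GM2K_finrank_b (S : GM2K_Sys H A)
    (hH : ∀ g ∈ H, ∀ u v, f ((g : Matrix (Fin n) (Fin n) F) *ᵥ u) ((g : Matrix (Fin n) (Fin n) F) *ᵥ v) = f u v)
    (hp : ∀ i j, (¬ GM2K_orth f A i j ↔ i = p j)) (i j : ι) :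
    ∃ g ∈ H, (GM2K_b A p i).map (GM2K_gm g) = GM2K_b A p j := by
  obtain ⟨g, hg, hgij⟩ := S.trans i j
  choose σ hσ using S.map g hg
  have hσi : σ i = j := S.injective (by rw [← hσ, hgij])
  exact ⟨g, hg, by rw [GM2K_map_b hH hp hg hσ, hσi]⟩

/-- two totally singular members -/
theorem GM2K_pair (S : GM2K_Sys H A) (hf : GM2K_Form f)
    (hH : ∀ g ∈ H, ∀ u v, f ((g : Matrix (Fin n) (Fin n) F) *ᵥ u) ((g : Matrix (Fin n) (Fin n) F) *ᵥ v) = f u v)
    (hp : ∀ i j, (¬ GM2K_orth f A i j ↔ i = p j)) (i₀ : ι) (hall : ∀ i, i = i₀ ∨ i = p i₀)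
    (hne : p i₀ ≠ i₀) :
    ∃ (k : ℕ) (D : Fin 2 → Submodule F (Fin n → F)), 2 * k = n ∧ IsMDecomposition k D ∧
      (∀ i, IsTotallySingularFor f (D i)) ∧ H ≤ decompositionStabilizer D := by
  have hpp := GM2K_p_invol hf hp
  set D : Fin 2 → Submodule F (Fin n → F) := ![A i₀, A (p i₀)] with hD
  have hdisj : Disjoint (A i₀) (A (p i₀)) := S.indep.pairwiseDisjoint (Ne.symm hne)
  have hsup : A i₀ ⊔ A (p i₀) = ⊤ := by
    rw [eq_top_iff, ← S.top]
    apply iSup_le
    intro i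
    rcases hall i with rfl | rfl
    · exact le_sup_left
    · exact le_sup_right
  have hcompl : IsCompl (A i₀) (A (p i₀)) := ⟨hdisj, codisjoint_iff.mpr hsup⟩
  have hfr := Submodule.finrank_add_eq_of_isCompl hcompl
  have hV : Module.finrank F (Fin n → F) = n := by simp
  have he := S.finrank_eq (p i₀) i₀
  refine ⟨Module.finrank F (A i₀), D, by omega, ⟨le_refl 2, ?_, ?_, ?_, ?_⟩, ?_, ?_⟩
  · rw [Nat.pos_iff_ne_zero, Ne, Submodule.finrank_eq_zero]
    exact S.ne i₀
  · intro i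
    fin_cases i
    · rfl
    · exact he
  · refine (iSupIndep_pair (i := (0 : Fin 2)) (j := 1) (by decide) ?_).mpr hdisj
    intro k
    fin_cases k
    · left; rfl
    · right; rfl
  · rw [eq_top_iff, ← hsup]
    exact sup_le (le_iSup D 0) (le_iSup D 1)
  · intro i
    fin_cases i
    · exact GM2K_orth_of_ne hp (Ne.symm hne)
    · refine GM2K_orth_of_ne (A := A) hp ?_
      rw [hpp]
      exact hne
  · intro g hg
    choose σ hσ using S.map g hg
    have hcomm := GM2K_sigma_p hH hp hg hσ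
    rcases hall (σ i₀) with h | h
    · refine ⟨1, ?_⟩
      intro i
      fin_cases i
      · show (A i₀).map _ = A i₀
        rw [hσ, h]
      · show (A (p i₀)).map _ = A (p i₀)
        rw [hσ, hcomm, h]
    · refine ⟨Equiv.swap 0 1, ?_⟩
      intro i
      fin_cases i
      · show (A i₀).map _ = A (p i₀)
        rw [hσ, h]
      · show (A (p i₀)).map _ = A i₀
        rw [hσ, hcomm, h, hpp]

/-- at least two blocks -/
theorem GM2K_blocks [Finite ι] (S : GM2K_Sys H A) (hf : GM2K_Form f)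
    (hH : ∀ g ∈ H, ∀ u v, f ((g : Matrix (Fin n) (Fin n) F) *ᵥ u) ((g : Matrix (Fin n) (Fin n) F) *ᵥ v) = f u v)
    (hp : ∀ i j, (¬ GM2K_orth f A i j ↔ i = p j)) (i₀ : ι) (hex : ∃ i, i ≠ i₀ ∧ i ≠ p i₀) :
    ∃ (t k : ℕ) (D : Fin t → Submodule F (Fin n → F)), IsNondegenerateMDecomposition f k D ∧
      H ≤ decompositionStabilizer D ∧ ∀ i j, ∃ g ∈ H, (D i).map (GM2K_gm g) = D j := by
  classical
  set B : Set (Submodule F (Fin n → F)) := Set.range (GM2K_b A p) with hB
  haveI : Finite B := (Set.finite_range _).to_subtype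
  set t := Nat.card B with ht
  let e : Fin t ≃ B := (Finite.equivFin B).symm
  set D : Fin t → Submodule F (Fin n → F) := fun x => (e x).1 with hD
  have hDb : ∀ x, ∃ i, GM2K_b A p i = D x := fun x => (e x).2
  have hbD : ∀ i, ∃ x, D x = GM2K_b A p i := fun i => ⟨e.symm ⟨_, i, rfl⟩, by simp [D]⟩
  have hindepB : sSupIndep B := by
    rintro x ⟨j, rfl⟩
    refine (GM2K_disjoint_b_Z S j).mono_right ?_
    apply sSup_le
    rintro y ⟨⟨i, rfl⟩, hy⟩
    have hne : GM2K_b A p i ≠ GM2K_b A p j := hy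
    rw [Ne, GM2K_b_eq_iff S hf hp, not_or] at hne
    exact GM2K_b_le_Z hf hp hne.1 hne.2
  have hindepD : iSupIndep D := ((sSupIndep_iff B).mp hindepB).comp e.injective
  have htopD : iSup D = ⊤ := by
    rw [eq_top_iff, ← S.top]
    apply iSup_le
    intro i
    obtain ⟨x, hx⟩ := hbD i
    have h1 : GM2K_b A p i ≤ iSup D := by
      rw [← hx]
      exact le_iSup D x
    exact (le_sup_left : A i ≤ GM2K_b A p i).trans h1
  have htr : ∀ x y, ∃ g ∈ H, (D x).map (GM2K_gm g) = D y := by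
    intro x y
    obtain ⟨i, hi⟩ := hDb x
    obtain ⟨j, hj⟩ := hDb y
    rw [← hi, ← hj]
    exact GM2K_finrank_b S hH hp i j
  have hk : ∀ x, Module.finrank F (D x) = Module.finrank F (GM2K_b A p i₀) := by
    intro x
    obtain ⟨y, hy⟩ := hbD i₀
    obtain ⟨g, _, hg⟩ := htr x y
    rw [← hy, ← hg, GM2K_finrank_map]
  refine ⟨t, Module.finrank F (GM2K_b A p i₀), D, ⟨⟨?_, ?_, hk, hindepD, htopD⟩, ?_, ?_⟩, ?_, htr⟩
  · obtain ⟨i, h1, h2⟩ := hex
    have hne : GM2K_b A p i ≠ GM2K_b A p i₀ := by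
      rw [Ne, GM2K_b_eq_iff S hf hp, not_or]
      exact ⟨h1, h2⟩
    have : Nontrivial B := ⟨⟨⟨_, i, rfl⟩, ⟨_, i₀, rfl⟩, fun h => hne (congrArg Subtype.val h)⟩⟩
    exact Finite.one_lt_card_iff_nontrivial.mpr this
  · rw [Nat.pos_iff_ne_zero, Ne, Submodule.finrank_eq_zero]
    intro h
    apply S.ne i₀
    rw [eq_bot_iff, ← h]
    exact le_sup_left
  · intro x
    obtain ⟨i, hi⟩ := hDb x
    rw [← hi]
    exact GM2K_nondeg_b S hf hp i
  · intro x y hxy
    obtain ⟨i, hi⟩ := hDb x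
    obtain ⟨j, hj⟩ := hDb y
    rw [← hi, ← hj]
    have hne : GM2K_b A p i ≠ GM2K_b A p j := by
      rw [hi, hj]
      intro h
      apply hxy
      apply e.injective
      exact Subtype.ext h
    rw [Ne, GM2K_b_eq_iff S hf hp, not_or] at hne
    exact GM2K_orth_b hf hp hne.1 hne.2
  · intro g hg
    choose σ hσ using S.map g hg
    have hmb := GM2K_map_b hH hp hg hσ
    let φ : B → B := fun y => ⟨y.1.map (GM2K_gm g), by
      obtain ⟨i, hi⟩ := y.2
      exact ⟨σ i, by rw [← hi, hmb]⟩⟩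
    have hφinj : Function.Injective φ := by
      intro y y' h
      apply Subtype.ext
      exact GM2K_map_injective g (congrArg Subtype.val h)
    have hφbij : Function.Bijective φ := Finite.injective_iff_bijective.mp hφinj
    refine ⟨e.trans ((Equiv.ofBijective φ hφbij).trans e.symm), fun x => ?_⟩
    simp only [Equiv.trans_apply, D, Equiv.apply_symm_apply, Equiv.ofBijective_apply]
    rfl

theorem GM2K_of_sys [Finite ι] [Nontrivial ι] (S : GM2K_Sys H A) (hf : GM2K_Form f)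
    (hH : ∀ g ∈ H, ∀ u v, f ((g : Matrix (Fin n) (Fin n) F) *ᵥ u) ((g : Matrix (Fin n) (Fin n) F) *ᵥ v) = f u v)
    (hP : ∀ j, GM2K_perp hf (A j) = ⨆ i ∈ {i | GM2K_orth f A i j}, A i) :
    (∃ (t k : ℕ) (D : Fin t → Submodule F (Fin n → F)), IsNondegenerateMDecomposition f k D ∧
      H ≤ decompositionStabilizer D ∧ ∀ i j, ∃ g ∈ H, (D i).map (GM2K_gm g) = D j) ∨
    (∃ (k : ℕ) (D : Fin 2 → Submodule F (Fin n → F)), 2 * k = n ∧ IsMDecomposition k D ∧
      (∀ i, IsTotallySingularFor f (D i)) ∧ H ≤ decompositionStabilizer D) := by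
  obtain ⟨p, hp⟩ := S.exists_p hf hP
  by_cases h : ∃ i₀, ∀ i, i = i₀ ∨ i = p i₀
  · obtain ⟨i₀, hall⟩ := h
    right
    obtain ⟨i, hi⟩ := exists_ne i₀
    have hne : p i₀ ≠ i₀ := by
      rcases hall i with h | h
      · exact absurd h hi
      · rw [← h]; exact hi
    exact GM2K_pair S hf hH hp i₀ hall hne
  · left
    rw [not_exists] at h
    obtain ⟨i₀⟩ := (inferInstance : Nonempty ι)
    have h0 := h i₀
    rw [not_forall] at h0
    obtain ⟨i, hi⟩ := h0
    rw [not_or] at hi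
    exact GM2K_blocks S hf hH hp i₀ ⟨i, hi⟩

end

/-- **Generic K-lemma** ("Clifford with a form", combinatorial core). -/
theorem gc2_of_components {f : (Fin n → F) → (Fin n → F) → F} (hf : GM2K_Form f)
    (H : Subgroup (GL (Fin n) F))
    (hH : ∀ g ∈ H, ∀ u v, f ((g : Matrix (Fin n) (Fin n) F) *ᵥ u) ((g : Matrix (Fin n) (Fin n) F) *ᵥ v) = f u v)
    (C : Set (Submodule F (Fin n → F))) (hfin : C.Finite) (hindep : sSupIndep C)
    (htop : sSup C = ⊤) (hne : ∀ c ∈ C, c ≠ ⊥) (h2 : C.Nontrivial)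
    (hperp : ∀ c ∈ C, ∃ s : Set (Submodule F (Fin n → F)), s ⊆ C ∧
      ∀ v, v ∈ sSup s ↔ ∀ w ∈ c, f v w = 0)
    (hmap : ∀ g ∈ H, ∀ c ∈ C,
      c.map (Matrix.toLin' ((g : GL (Fin n) F) : Matrix (Fin n) (Fin n) F)) ∈ C)
    (htrans : ∀ c ∈ C, ∀ c' ∈ C, ∃ g ∈ H,
      c.map (Matrix.toLin' ((g : GL (Fin n) F) : Matrix (Fin n) (Fin n) F)) = c') :
    (∃ (t k : ℕ) (D : Fin t → Submodule F (Fin n → F)), IsNondegenerateMDecomposition f k D ∧
      H ≤ decompositionStabilizer D ∧ ∀ i j, ∃ g ∈ H,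
        (D i).map (Matrix.toLin' ((g : GL (Fin n) F) : Matrix (Fin n) (Fin n) F)) = D j) ∨
    (∃ (k : ℕ) (D : Fin 2 → Submodule F (Fin n → F)), 2 * k = n ∧ IsMDecomposition k D ∧
      (∀ i, IsTotallySingularFor f (D i)) ∧ H ≤ decompositionStabilizer D) := by
  have : Finite C := hfin.to_subtype
  have : Nontrivial C := Set.nontrivial_coe_sort.mpr h2
  have S : GM2K_Sys H (fun x : C => (x : Submodule F (Fin n → F))) := by
    refine ⟨(sSupIndep_iff C).mp hindep, ?_, fun i => hne i.1 i.2, ?_, ?_⟩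
    · rw [← sSup_eq_iSup', htop]
    · intro g hg i
      exact ⟨⟨_, hmap g hg i.1 i.2⟩, rfl⟩
    · intro i j
      obtain ⟨g, hg, h⟩ := htrans i.1 i.2 j.1 j.2
      exact ⟨g, hg, h⟩
  apply GM2K_of_sys S hf hH
  intro j
  obtain ⟨s, hs, hseq⟩ := hperp j.1 j.2
  have hseq' : GM2K_perp hf j.1 = sSup s := by
    ext v
    rw [hseq v]
    rfl
  apply le_antisymm
  · rw [hseq']
    apply sSup_le
    intro x hx
    have hxo : GM2K_orth f (fun x : C => (x : Submodule F (Fin n → F))) ⟨x, hs hx⟩ j := by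
      apply (GM2K_le_perp_iff hf).mp
      show x ≤ GM2K_perp hf j.1
      rw [hseq']
      exact le_sSup hx
    exact le_biSup (fun x : C => (x : Submodule F (Fin n → F)))
      (show (⟨x, hs hx⟩ : C) ∈ {i : C | GM2K_orth f (fun x : C => (x : Submodule F (Fin n → F))) i j}
        from hxo)
  · apply iSup₂_le
    intro i hi
    exact (GM2K_le_perp_iff hf).mpr hi

end Cfsg.Agent.Lib.H3.Asch
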