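import Mathlib
import Cfsg.Prelude.Def_GeometricClasses
import Cfsg.Agent.Lib.Lead.AschDefs
import Cfsg.Agent.Lib.H28.GLBasic
import Cfsg.Agent.Lib.H3.AschU67
import Cfsg.Agent.Lib.H3.AschM7B1

/-!
# S5630 project, phase 2, P2-B6 (helper3): `SL_n` does not normalise an absolutely irreducible
symplectic-type `r`-group (`n ≥ 3`)
-/

set_option autoImplicit false

namespace Cfsg.Agent.Lib.H3.AschP2

open Cfsg Cfsg.Geo Cfsg.Agent.Lib.Lead.Asch Cfsg.Agent.Lib.H3.Asch Cfsg.Agent.Lib.H28
open scoped MatrixGroups Matrix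

section
variable {K : Type*} [Field K] {n : ℕ}

theorem B6_inv_mulVec_mulVec (g : GL (Fin n) K) (v : Fin n → K) :
    ((g⁻¹ : GL (Fin n) K) : Matrix (Fin n) (Fin n) K) *ᵥ ((g : Matrix (Fin n) (Fin n) K) *ᵥ v) = v := by
  rw [Matrix.mulVec_mulVec, ← Units.val_mul, inv_mul_cancel, Units.val_one, Matrix.one_mulVec]

theorem B6_mulVec_inv_mulVec (g : GL (Fin n) K) (v : Fin n → K) :
    (g : Matrix (Fin n) (Fin n) K) *ᵥ (((g⁻¹ : GL (Fin n) K) : Matrix (Fin n) (Fin n) K) *ᵥ v) = v := by
  rw [Matrix.mulVec_mulVec, ← Units.val_mul, mul_inv_cancel, Units.val_one, Matrix.one_mulVec]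

/-- An element `g v = a v + ν(v) c` (with `ν c = 0`) of finite order prime to the characteristic has
`ν = 0`. -/
theorem B6_nu_eq_zero (g : GL (Fin n) K) (c : Fin n → K) (hc : c ≠ 0) (a : K) (ν : (Fin n → K) → K)
    (hg : ∀ v, (g : Matrix (Fin n) (Fin n) K) *ᵥ v = a • v + ν v • c) (hνc : ν c = 0)
    (m : ℕ) (hm : g ^ m = 1) (hmK : (m : K) ≠ 0) : ∀ v, ν v = 0 := by
  have hgc : (g : Matrix (Fin n) (Fin n) K) *ᵥ c = a • c := by
    rw [hg c, hνc, zero_smul, add_zero]
  have ha : a ≠ 0 := by
    intro ha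
    rw [ha, zero_smul] at hgc
    have := B6_inv_mulVec_mulVec g c
    rw [hgc, Matrix.mulVec_zero] at this
    exact hc this.symm
  have hpow : ∀ k : ℕ, ∀ v, ((g ^ k : GL (Fin n) K) : Matrix (Fin n) (Fin n) K) *ᵥ v =
      a ^ k • v + ((k : K) * a ^ k / a * ν v) • c := by
    intro k
    induction k with
    | zero => intro v; simp
    | succ k ih =>
      intro v
      rw [pow_succ', Units.val_mul, ← Matrix.mulVec_mulVec, ih v, Matrix.mulVec_add,
        Matrix.mulVec_smul, Matrix.mulVec_smul, hg v, hgc]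
      ext i
      simp only [Pi.add_apply, Pi.smul_apply, smul_eq_mul, Nat.cast_succ]
      field_simp
      ring
  have h1 : ∀ v, v = a ^ m • v + ((m : K) * a ^ m / a * ν v) • c := by
    intro v
    have := hpow m v
    rwa [hm, Units.val_one, Matrix.one_mulVec] at this
  have ham : a ^ m = 1 := by
    have h2 := h1 c
    rw [hνc, mul_zero, zero_smul, add_zero] at h2
    have h3 : (1 - a ^ m) • c = 0 := by
      rw [sub_smul, one_smul, ← h2, sub_self]
    rcases smul_eq_zero.mp h3 with h | h
    · exact (sub_eq_zero.mp h).symm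
    · exact absurd h hc
  intro v
  have h2 := h1 v
  rw [ham, one_smul] at h2
  have h3 : ((m : K) * 1 / a * ν v) • c = 0 := by
    have : v + ((m : K) * 1 / a * ν v) • c = v + 0 := by rw [add_zero]; exact h2.symm
    exact add_left_cancel this
  rcases smul_eq_zero.mp h3 with h | h
  · rcases mul_eq_zero.mp h with h' | h'
    · exfalso
      rw [mul_one, div_eq_zero_iff] at h'
      rcases h' with h' | h'
      · exact hmK h'
      · exact ha h'
    · exact h'
  · exact absurd h hc

end

section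
variable {F : Type*} [Field F] [Fintype F] {n : ℕ}

/-- A matrix with `M ^ q = M` over the field with `q` elements has an eigenvector. -/
theorem B6_exists_eigenvector (hn : 0 < n) (M : Matrix (Fin n) (Fin n) F)
    (hM : M ^ Fintype.card F = M) :
    ∃ (μ : F) (c : Fin n → F), c ≠ 0 ∧ M *ᵥ c = μ • c := by
  classical
  have : Nonempty (Fin n) := ⟨⟨0, hn⟩⟩
  have : Nontrivial (Fin n → F) := inferInstance
  set f : Module.End F (Fin n → F) := Matrix.toLin' M with hf
  have hfq : f ^ Fintype.card F = f := by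
    rw [hf, ← Matrix.toLin'_pow, hM]
  have haeval : Polynomial.aeval f (Polynomial.X ^ Fintype.card F - Polynomial.X : Polynomial F) = 0 := by
    rw [map_sub, map_pow, Polynomial.aeval_X, hfq, sub_self]
  have hdvd : minpoly F f ∣ (Polynomial.X ^ Fintype.card F - Polynomial.X : Polynomial F) :=
    minpoly.dvd F f haeval
  have hne : (Polynomial.X ^ Fintype.card F - Polynomial.X : Polynomial F) ≠ 0 :=
    FiniteField.X_pow_card_sub_X_ne_zero F Fintype.one_lt_card
  have hsplit : Polynomial.Splits (Polynomial.X ^ Fintype.card F - Polynomial.X : Polynomial F) := by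
    rw [Polynomial.splits_iff_card_roots, FiniteField.roots_X_pow_card_sub_X,
      FiniteField.X_pow_card_sub_X_natDegree_eq F Fintype.one_lt_card]
    simp
  have hms := hsplit.of_dvd hne hdvd
  have hint : IsIntegral F f := Algebra.IsIntegral.isIntegral f
  have hdeg : (minpoly F f).degree ≠ 0 := (minpoly.degree_pos hint).ne'
  obtain ⟨μ, hμ⟩ := hms.exists_eval_eq_zero hdeg
  have hev : f.HasEigenvalue μ := Module.End.hasEigenvalue_of_isRoot hμ
  obtain ⟨c, hc⟩ := hev.exists_hasEigenvector
  refine ⟨μ, c, hc.2, ?_⟩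
  have := hc.apply_eq_smul
  rwa [hf, Matrix.toLin'_apply] at this

/-- **P2-B6**. -/
theorem not_sl_le_subgroupNormalizer (hn : 3 ≤ n) (r : ℕ) (R : Subgroup (GL (Fin n) F))
    (hR : IsLinearSymplecticTypeData r R) : ¬ specialLinear (Fin n) F ≤ subgroupNormalizer R := by
  intro hle
  obtain ⟨p, e, hrp, hmin, hcases⟩ := hR.field
  obtain ⟨hp, hchar, hq, hzdvd, _⟩ := hmin
  have hrprime : r.Prime := hR.symplecticType.prime
  have hq1 : 1 ≤ Fintype.card F := Fintype.card_pos
  -- the exponent of `R` divides `q - 1`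
  have hexpdvd : Monoid.exponent R ∣ Fintype.card F - 1 := by
    rw [hR.symplecticType.exponent_eq, hq]
    rcases hcases with ⟨hodd, _, hZ, _⟩ | ⟨hr2, _, hZ, _⟩ | ⟨_, _, hι, _⟩
    · have : Nat.gcd 2 r = 1 := Nat.coprime_two_left.mpr hodd
      rw [this, mul_one, ← hZ]
      exact hzdvd
    · subst hr2
      have : Nat.gcd 2 2 * 2 = 4 := by norm_num
      rw [hZ] at hzdvd
      simpa using hzdvd
    · exfalso
      rw [Fintype.card_fin] at hι
      omega
  have hexp : ∀ x ∈ R, x ^ (Fintype.card F - 1) = 1 := by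
    intro x hx
    obtain ⟨k, hk⟩ := hexpdvd
    have h1 : (⟨x, hx⟩ : R) ^ Monoid.exponent R = 1 := Monoid.pow_exponent_eq_one _
    have h2 : x ^ Monoid.exponent R = 1 := by
      have := congrArg Subtype.val h1
      simpa using this
    rw [hk, pow_mul, h2, one_pow]
  -- `r ^ k ≠ 0` in `F`
  have hrk : ∀ k : ℕ, ((r ^ k : ℕ) : F) ≠ 0 := by
    intro k h
    have := hchar
    rw [CharP.cast_eq_zero_iff F p] at h
    have := (Nat.prime_dvd_prime_iff_eq hp hrprime).mp (hp.dvd_of_dvd_pow h)
    exact hrp this.symm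
  -- every element of `R` is scalar
  have hscal : ∀ x ∈ R, x ∈ scalars (Fin n) F := by
    intro x hx
    have hMq : (x : Matrix (Fin n) (Fin n) F) ^ Fintype.card F = (x : Matrix (Fin n) (Fin n) F) := by
      have h1 : x ^ Fintype.card F = x := by
        have : Fintype.card F = (Fintype.card F - 1) + 1 := by omega
        rw [this, pow_succ, hexp x hx, one_mul]
      have := congrArg (fun g : GL (Fin n) F => (g : Matrix (Fin n) (Fin n) F)) h1
      simpa using this
    obtain ⟨lam, c, hc0, hxc⟩ := B6_exists_eigenvector (by omega) _ hMq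
    have hlam : lam ≠ 0 := by
      intro h
      rw [h, zero_smul] at hxc
      have := B6_inv_mulVec_mulVec x c
      rw [hxc, Matrix.mulVec_zero] at this
      exact hc0 this.symm
    have hxic : ((x⁻¹ : GL (Fin n) F) : Matrix (Fin n) (Fin n) F) *ᵥ c = lam⁻¹ • c := by
      have := B6_inv_mulVec_mulVec x c
      rw [hxc, Matrix.mulVec_smul] at this
      rw [← this, smul_smul, inv_mul_cancel₀ hlam, one_smul] 
      conv_lhs => rw [this]
    -- Step B
    have hB : ∀ φ : Module.Dual F (Fin n → F), φ c = 0 →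
        ∀ v, φ ((x : Matrix (Fin n) (Fin n) F) *ᵥ v) = lam * φ v := by
      intro φ hφ
      set τ := tvGL φ c hφ with hτ
      have hτN : τ ∈ Subgroup.normalizer (R : Set (GL (Fin n) F)) :=
        hle (tvGL_mem_specialLinear φ c hφ)
      have hτinv : ∀ u, ((τ⁻¹ : GL (Fin n) F) : Matrix (Fin n) (Fin n) F) *ᵥ u = u - φ u • c := by
        intro u
        have h1 : (τ : Matrix (Fin n) (Fin n) F) *ᵥ (u - φ u • c) = u := by
          rw [hτ, tvGL_mulVec]
          simp [hφ]
        have := B6_inv_mulVec_mulVec τ (u - φ u • c)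
        rw [h1] at this
        exact this
      have hwR : τ * x * τ⁻¹ * x⁻¹ ∈ R :=
        R.mul_mem ((Subgroup.mem_normalizer_iff.mp hτN x).mp hx) (R.inv_mem hx)
      set w := τ * x * τ⁻¹ * x⁻¹ with hw
      have hwv : ∀ v, (w : Matrix (Fin n) (Fin n) F) *ᵥ v =
          (1 : F) • v + (φ v - lam * φ (((x⁻¹ : GL (Fin n) F) : Matrix (Fin n) (Fin n) F) *ᵥ v)) • c := by
        intro v
        rw [hw, Units.val_mul, Units.val_mul, Units.val_mul, ← Matrix.mulVec_mulVec,
          ← Matrix.mulVec_mulVec, ← Matrix.mulVec_mulVec, hτinv, Matrix.mulVec_sub,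
          B6_mulVec_inv_mulVec, Matrix.mulVec_smul, hxc, hτ, tvGL_mulVec]
        simp only [map_sub, map_smul, hφ, smul_eq_mul, mul_zero, sub_zero, one_smul]
        module
      obtain ⟨k, hk⟩ := hR.symplecticType.pGroup ⟨w, hwR⟩
      have hk' : w ^ r ^ k = 1 := by
        have := congrArg Subtype.val hk
        simpa using this
      have hν := B6_nu_eq_zero w c hc0 1
        (fun v => φ v - lam * φ (((x⁻¹ : GL (Fin n) F) : Matrix (Fin n) (Fin n) F) *ᵥ v)) hwv
        (by
          show φ c - lam * φ (((x⁻¹ : GL (Fin n) F) : Matrix (Fin n) (Fin n) F) *ᵥ c) = 0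
          rw [hxic, map_smul, hφ, smul_zero, mul_zero, sub_zero])
        (r ^ k) hk' (hrk k)
      intro v
      have := hν ((x : Matrix (Fin n) (Fin n) F) *ᵥ v)
      rw [B6_inv_mulVec_mulVec] at this
      exact sub_eq_zero.mp this
    -- Step C
    have hC : ∀ v, ∃ μ : F, (x : Matrix (Fin n) (Fin n) F) *ᵥ v = lam • v + μ • c := by
      intro v
      have hmem : (x : Matrix (Fin n) (Fin n) F) *ᵥ v - lam • v ∈ Submodule.span F {c} := by
        by_contra hnot
        obtain ⟨φ, hφ1, hφ2⟩ := Submodule.exists_le_ker_of_notMem hnot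
        have hφc : φ c = 0 := hφ2 (Submodule.mem_span_singleton_self c)
        apply hφ1
        rw [map_sub, map_smul, hB φ hφc v, smul_eq_mul, sub_self]
      obtain ⟨μ, hμ⟩ := Submodule.mem_span_singleton.mp hmem
      refine ⟨μ, ?_⟩
      rw [hμ]
      abel
    choose ν hν using hC
    have hνc : ν c = 0 := by
      have := hν c
      rw [hxc] at this
      have h2 : ν c • c = 0 := by
        have : lam • c + 0 = lam • c + ν c • c := by rw [add_zero]; exact this
        exact (add_left_cancel this).symm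
      rcases smul_eq_zero.mp h2 with h | h
      · exact h
      · exact absurd h hc0
    obtain ⟨k, hk⟩ := hR.symplecticType.pGroup ⟨x, hx⟩
    have hk' : x ^ r ^ k = 1 := by
      have := congrArg Subtype.val hk
      simpa using this
    have hν0 := B6_nu_eq_zero x c hc0 lam ν hν hνc (r ^ k) hk' (hrk k)
    rw [mem_scalars_iff]
    refine ⟨Units.mk0 lam hlam, ?_⟩
    rw [Units.val_mk0]
    apply Matrix.toLin'.injective
    apply LinearMap.ext
    intro v
    rw [Matrix.toLin'_apply, hν v, hν0 v, zero_smul, add_zero, Matrix.toLin'_apply,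
      Matrix.smul_mulVec, Matrix.one_mulVec]
  have := le_one_of_absIrr_of_comm R hR.absIrred
    (fun x hx y _ => scalar_comm' (hscal x hx) y)
  omega

end

end Cfsg.Agent.Lib.H3.AschP2
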