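import Mathlib
import Cfsg.Agent.Lib.H20.AschM4
import Cfsg.Agent.Lib.H20.AschTensorTools

/-!
# Symplectic phase 2, SP2-S4 (helper3), part a: the similitudes of the determinant form on `M₂(F)` are
`X ↦ A X B` and `X ↦ A Xᵀ B`
-/

set_option autoImplicit false
set_option linter.unusedSectionVars false

namespace Cfsg.Agent.Lib.H3.AschSP2

open Cfsg Cfsg.Geo Cfsg.Agent.Lib.Lead.Asch Cfsg.Agent.Lib.H20.Asch
open scoped MatrixGroups Matrix Kronecker

variable {F : Type*} [Field F]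

/-- pure tensors on `Fin 2 × Fin 2` -/
def S4_pt (p q : Fin 2 → F) : Fin 2 × Fin 2 → F := fun x => p x.1 * q x.2

theorem S4_kron_pt (a b : Matrix (Fin 2) (Fin 2) F) (p q : Fin 2 → F) :
    (a ⊗ₖ b) *ᵥ S4_pt p q = S4_pt (a *ᵥ p) (b *ᵥ q) := by
  funext x
  simp only [Matrix.mulVec, dotProduct, S4_pt, Matrix.kroneckerMap_apply, Fintype.sum_prod_type,
    Fin.sum_univ_two]
  ring

theorem S4_single (i j : Fin 2) :
    (Pi.single (i, j) 1 : Fin 2 × Fin 2 → F) = S4_pt (Pi.single i 1) (Pi.single j 1) := by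
  funext x
  obtain ⟨x1, x2⟩ := x
  simp only [S4_pt, Pi.single_apply, Prod.mk.injEq]
  by_cases h1 : x1 = i
  · by_cases h2 : x2 = j
    · simp [h1, h2]
    · simp [h1, h2]
  · simp [h1]

theorem S4_B0_pt (p q p' q' : Fin 2 → F) :
    B0 (S4_pt p q) (S4_pt p' q') = (p 0 * p' 1 - p 1 * p' 0) * (q 0 * q' 1 - q 1 * q' 0) := by
  simp only [B0, S4_pt]
  ring

theorem S4_Q0_pt (p q : Fin 2 → F) : Q0 (S4_pt p q) = 0 := by
  simp only [Q0, S4_pt]
  ring

/-- a non-zero singular vector is a pure tensor -/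
theorem S4_exists_pt (c : Fin 2 × Fin 2 → F) (hc : Q0 c = 0) (hne : c ≠ 0) :
    ∃ p q : Fin 2 → F, c = S4_pt p q := by
  have hc' : c (0, 0) * c (1, 1) = c (0, 1) * c (1, 0) := by
    unfold Q0 at hc
    linear_combination hc
  have hext : ∀ p q : Fin 2 → F, c (0, 0) = p 0 * q 0 → c (0, 1) = p 0 * q 1 →
      c (1, 0) = p 1 * q 0 → c (1, 1) = p 1 * q 1 → c = S4_pt p q := by
    intro p q h00 h01 h10 h11
    funext x
    obtain ⟨x1, x2⟩ := x
    fin_cases x1 <;> fin_cases x2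
    · exact h00
    · exact h01
    · exact h10
    · exact h11
  by_cases h00 : c (0, 0) = 0
  · by_cases h01 : c (0, 1) = 0
    · by_cases h10 : c (1, 0) = 0
      · by_cases h11 : c (1, 1) = 0
        · exfalso
          apply hne
          funext x
          obtain ⟨x1, x2⟩ := x
          fin_cases x1 <;> fin_cases x2
          · exact h00
          · exact h01
          · exact h10
          · exact h11
        · refine ⟨![c (0, 1), c (1, 1)], ![c (1, 0) / c (1, 1), 1], hext _ _ ?_ ?_ ?_ ?_⟩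
          · simp [h00, h01]
          · simp
          · simp only [Matrix.cons_val_zero, Matrix.cons_val_one]
            field_simp
          · simp
      · refine ⟨![c (0, 0), c (1, 0)], ![1, c (1, 1) / c (1, 0)], hext _ _ ?_ ?_ ?_ ?_⟩
        · simp
        · simp [h00, h01]
        · simp
        · simp only [Matrix.cons_val_zero, Matrix.cons_val_one]
          field_simp
    · refine ⟨![c (0, 1), c (1, 1)], ![c (0, 0) / c (0, 1), 1], hext _ _ ?_ ?_ ?_ ?_⟩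
      · simp only [Matrix.cons_val_zero, Matrix.cons_val_one]
        field_simp
      · simp
      · simp only [Matrix.cons_val_zero, Matrix.cons_val_one]
        field_simp
        first | linear_combination hc' | linear_combination -hc'
      · simp
  · refine ⟨![c (0, 0), c (1, 0)], ![1, c (0, 1) / c (0, 0)], hext _ _ ?_ ?_ ?_ ?_⟩
    · simp
    · simp only [Matrix.cons_val_zero, Matrix.cons_val_one]
      field_simp
    · simp
    · simp only [Matrix.cons_val_zero, Matrix.cons_val_one]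
      field_simp
      first | linear_combination hc' | linear_combination -hc'

/-- the invertible `2 × 2` matrix with given columns -/
noncomputable def S4_colGL (p p' : Fin 2 → F) (h : p 0 * p' 1 - p 1 * p' 0 ≠ 0) : GL (Fin 2) F :=
  Matrix.GeneralLinearGroup.mkOfDetNeZero !![p 0, p' 0; p 1, p' 1] (by
    rw [Matrix.det_fin_two_of]
    intro h'
    apply h
    linear_combination h')

theorem S4_colGL_val (p p' : Fin 2 → F) (h : p 0 * p' 1 - p 1 * p' 0 ≠ 0) :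
    ((S4_colGL p p' h : GL (Fin 2) F) : Matrix (Fin 2) (Fin 2) F) = !![p 0, p' 0; p 1, p' 1] := rfl

theorem S4_colGL_det (p p' : Fin 2 → F) (h : p 0 * p' 1 - p 1 * p' 0 ≠ 0) :
    ((S4_colGL p p' h : GL (Fin 2) F) : Matrix (Fin 2) (Fin 2) F).det = p 0 * p' 1 - p 1 * p' 0 := by
  rw [S4_colGL_val, Matrix.det_fin_two_of]
  ring

theorem S4_colGL_zero (p p' : Fin 2 → F) (h : p 0 * p' 1 - p 1 * p' 0 ≠ 0) :
    ((S4_colGL p p' h : GL (Fin 2) F) : Matrix (Fin 2) (Fin 2) F) *ᵥ Pi.single 0 1 = p := by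
  rw [S4_colGL_val]
  funext i
  fin_cases i <;> simp [Matrix.mulVec, dotProduct, Fin.sum_univ_two]

theorem S4_colGL_one (p p' : Fin 2 → F) (h : p 0 * p' 1 - p 1 * p' 0 ≠ 0) :
    ((S4_colGL p p' h : GL (Fin 2) F) : Matrix (Fin 2) (Fin 2) F) *ᵥ Pi.single 1 1 = p' := by
  rw [S4_colGL_val]
  funext i
  fin_cases i <;> simp [Matrix.mulVec, dotProduct, Fin.sum_univ_two]

/-- the swap of the two tensor factors -/
def S4_swapM : Matrix (Fin 2 × Fin 2) (Fin 2 × Fin 2) F := fun x y => if y = x.swap then 1 else 0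

theorem S4_swapM_mulVec (X : Fin 2 × Fin 2 → F) (x : Fin 2 × Fin 2) :
    ((S4_swapM : Matrix (Fin 2 × Fin 2) (Fin 2 × Fin 2) F) *ᵥ X) x = X x.swap := by
  simp [Matrix.mulVec, dotProduct, S4_swapM]

theorem S4_swapM_mul : (S4_swapM : Matrix (Fin 2 × Fin 2) (Fin 2 × Fin 2) F) * S4_swapM = 1 := by
  ext x y
  rw [Matrix.mul_apply]
  simp only [S4_swapM, Matrix.one_apply]
  rw [Finset.sum_eq_single x.swap]
  · simp only [if_true, one_mul]
    by_cases h : x = y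
    · subst h; simp
    · rw [if_neg h, if_neg]
      intro h'
      apply h
      rw [h', Prod.swap_swap]
  · intro z _ hz
    rw [if_neg hz, zero_mul]
  · intro h
    exact absurd (Finset.mem_univ _) h

def S4_swapG : GL (Fin 2 × Fin 2) F := ⟨S4_swapM, S4_swapM, S4_swapM_mul, S4_swapM_mul⟩

theorem S4_swapG_val :
    ((S4_swapG : GL (Fin 2 × Fin 2) F) : Matrix (Fin 2 × Fin 2) (Fin 2 × Fin 2) F) = S4_swapM := rfl

theorem S4_swap_pt (p q : Fin 2 → F) :
    (S4_swapM : Matrix (Fin 2 × Fin 2) (Fin 2 × Fin 2) F) *ᵥ S4_pt p q = S4_pt q p := by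
  funext x
  rw [S4_swapM_mulVec]
  simp only [S4_pt, Prod.fst_swap, Prod.snd_swap]
  ring

/-- a matrix is determined by its values on the basis vectors -/
theorem S4_ext {M N : Matrix (Fin 2 × Fin 2) (Fin 2 × Fin 2) F}
    (h : ∀ i j : Fin 2, M *ᵥ (Pi.single (i, j) 1) = N *ᵥ (Pi.single (i, j) 1)) : M = N := by
  ext x y
  obtain ⟨i, j⟩ := y
  have := congrFun (h i j) x
  simpa [Matrix.mulVec, dotProduct, Pi.single_apply] using this

theorem S4_polar_sim (b : Matrix (Fin 2 × Fin 2) (Fin 2 × Fin 2) F) (μ : F)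
    (hb : ∀ X, Q0 (b *ᵥ X) = μ * Q0 X) (X Y : Fin 2 × Fin 2 → F) :
    B0 (b *ᵥ X) (b *ᵥ Y) = μ * B0 X Y := by
  rw [← polar_Q0, ← polar_Q0]
  unfold QuadraticMap.polar
  rw [← Matrix.mulVec_add, hb, hb, hb]
  ring

/-- diagonal matrix `diag(1, l)` as an element of `GL₂` -/
noncomputable def S4_dG (l : F) (hl : l ≠ 0) : GL (Fin 2) F :=
  Matrix.GeneralLinearGroup.mkOfDetNeZero !![1, 0; 0, l] (by
    rw [Matrix.det_fin_two_of]
    simpa using hl)

theorem S4_dG_zero (l : F) (hl : l ≠ 0) :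
    ((S4_dG l hl : GL (Fin 2) F) : Matrix (Fin 2) (Fin 2) F) *ᵥ Pi.single 0 1 = Pi.single 0 1 := by
  show (!![1, 0; 0, l] : Matrix (Fin 2) (Fin 2) F) *ᵥ Pi.single 0 1 = Pi.single 0 1
  funext i
  fin_cases i <;> simp [Matrix.mulVec, dotProduct, Fin.sum_univ_two]

theorem S4_dG_one (l : F) (hl : l ≠ 0) :
    ((S4_dG l hl : GL (Fin 2) F) : Matrix (Fin 2) (Fin 2) F) *ᵥ Pi.single 1 1 = l • Pi.single 1 1 := by
  show (!![1, 0; 0, l] : Matrix (Fin 2) (Fin 2) F) *ᵥ Pi.single 1 1 = l • Pi.single 1 1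
  funext i
  fin_cases i <;> simp [Matrix.mulVec, dotProduct, Fin.sum_univ_two]


theorem S4_pt_smul_left (l : F) (p q : Fin 2 → F) : S4_pt (l • p) q = l • S4_pt p q := by
  funext x
  simp only [S4_pt, Pi.smul_apply, smul_eq_mul]
  ring

theorem S4_pt_smul_right (l : F) (p q : Fin 2 → F) : S4_pt p (l • q) = l • S4_pt p q := by
  funext x
  simp only [S4_pt, Pi.smul_apply, smul_eq_mul]
  ring

theorem S4_B0_single_right_00 (X : Fin 2 × Fin 2 → F) : B0 X (Pi.single (0, 0) 1) = X (1, 1) := by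
  simp [B0]

theorem S4_B0_single_right_11 (X : Fin 2 × Fin 2 → F) : B0 X (Pi.single (1, 1) 1) = X (0, 0) := by
  simp [B0]

/-- a similitude fixing `E₀₀` and `E₁₁` -/
theorem S4_key2 (b : GL (Fin 2 × Fin 2) F) (μ : F) (hμ : μ ≠ 0)
    (hb : ∀ X, Q0 ((b : Matrix (Fin 2 × Fin 2) (Fin 2 × Fin 2) F) *ᵥ X) = μ * Q0 X)
    (h00 : (b : Matrix (Fin 2 × Fin 2) (Fin 2 × Fin 2) F) *ᵥ Pi.single (0, 0) 1 = Pi.single (0, 0) 1)
    (h11 : (b : Matrix (Fin 2 × Fin 2) (Fin 2 × Fin 2) F) *ᵥ Pi.single (1, 1) 1 = Pi.single (1, 1) 1) :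
    ∃ k ∈ kroneckerSubgroup 2 2 F, b = k ∨ b = k * S4_swapG := by
  have hB := S4_polar_sim (b : Matrix (Fin 2 × Fin 2) (Fin 2 × Fin 2) F) μ hb
  -- `μ = 1`
  have hμ1 : μ = 1 := by
    have := hB (Pi.single (0, 0) 1) (Pi.single (1, 1) 1)
    rw [h00, h11] at this
    simp [B0] at this
    exact this.symm
  subst hμ1
  obtain ⟨c01, hc01⟩ : ∃ c, c = (b : Matrix (Fin 2 × Fin 2) (Fin 2 × Fin 2) F) *ᵥ Pi.single (0, 1) 1 :=
    ⟨_, rfl⟩
  obtain ⟨c10, hc10⟩ : ∃ c, c = (b : Matrix (Fin 2 × Fin 2) (Fin 2 × Fin 2) F) *ᵥ Pi.single (1, 0) 1 :=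
    ⟨_, rfl⟩
  have a1 : c01 (1, 1) = 0 := by
    have := hB (Pi.single (0, 1) 1) (Pi.single (0, 0) 1)
    rw [h00, S4_B0_single_right_00, S4_B0_single_right_00, ← hc01] at this
    rw [this]
    simp
  have a2 : c01 (0, 0) = 0 := by
    have := hB (Pi.single (0, 1) 1) (Pi.single (1, 1) 1)
    rw [h11, S4_B0_single_right_11, S4_B0_single_right_11, ← hc01] at this
    rw [this]
    simp
  have a3 : c10 (1, 1) = 0 := by
    have := hB (Pi.single (1, 0) 1) (Pi.single (0, 0) 1)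
    rw [h00, S4_B0_single_right_00, S4_B0_single_right_00, ← hc10] at this
    rw [this]
    simp
  have a4 : c10 (0, 0) = 0 := by
    have := hB (Pi.single (1, 0) 1) (Pi.single (1, 1) 1)
    rw [h11, S4_B0_single_right_11, S4_B0_single_right_11, ← hc10] at this
    rw [this]
    simp
  have q1 : c01 (0, 1) * c01 (1, 0) = 0 := by
    have := hb (Pi.single (0, 1) 1)
    rw [← hc01] at this
    simp only [Q0, a1, a2] at this
    simp at this
    rcases this with h | h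
    · rw [h, zero_mul]
    · rw [h, mul_zero]
  have q2 : c10 (0, 1) * c10 (1, 0) = 0 := by
    have := hb (Pi.single (1, 0) 1)
    rw [← hc10] at this
    simp only [Q0, a3, a4] at this
    simp at this
    rcases this with h | h
    · rw [h, zero_mul]
    · rw [h, mul_zero]
  have q3 : c01 (0, 1) * c10 (1, 0) + c10 (0, 1) * c01 (1, 0) = 1 := by
    have := hB (Pi.single (0, 1) 1) (Pi.single (1, 0) 1)
    rw [← hc01, ← hc10] at this
    simp only [B0, a1, a2, a3, a4] at this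
    simp at this
    linear_combination -this
  have vec : ∀ (c : Fin 2 × Fin 2 → F), c (0, 0) = 0 → c (1, 1) = 0 →
      c = c (0, 1) • Pi.single (0, 1) 1 + c (1, 0) • Pi.single (1, 0) 1 := by
    intro c e1 e2
    funext x
    obtain ⟨x1, x2⟩ := x
    fin_cases x1 <;> fin_cases x2 <;> simp [e1, e2]
  rcases mul_eq_zero.mp q1 with z | z
  · -- `c01 (0,1) = 0`: the swapped case
    rw [z, zero_mul, zero_add] at q3
    have hl : c01 (1, 0) ≠ 0 := right_ne_zero_of_mul_eq_one q3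
    have hl' : c10 (0, 1) ≠ 0 := left_ne_zero_of_mul_eq_one q3
    have z' : c10 (1, 0) = 0 := by
      rcases mul_eq_zero.mp q2 with h | h
      · exact absurd h hl'
      · exact h
    have e01 : c01 = c01 (1, 0) • Pi.single (1, 0) 1 := by
      have := vec c01 a2 a1
      rw [z, zero_smul, zero_add] at this
      exact this
    have e10 : c10 = c10 (0, 1) • Pi.single (0, 1) 1 := by
      have := vec c10 a4 a3
      rw [z', zero_smul, add_zero] at this
      exact this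
    refine ⟨kronGL (S4_dG (c01 (1, 0)) hl) (S4_dG (c10 (0, 1)) hl'), kronGL_mem _ _, Or.inr ?_⟩
    apply Units.ext
    apply S4_ext
    have rhs : ∀ i j : Fin 2,
        ((kronGL (S4_dG (c01 (1, 0)) hl) (S4_dG (c10 (0, 1)) hl') * S4_swapG :
          GL (Fin 2 × Fin 2) F) : Matrix (Fin 2 × Fin 2) (Fin 2 × Fin 2) F) *ᵥ Pi.single (i, j) 1 =
        S4_pt (((S4_dG (c01 (1, 0)) hl : GL (Fin 2) F) : Matrix (Fin 2) (Fin 2) F) *ᵥ Pi.single j 1)
          (((S4_dG (c10 (0, 1)) hl' : GL (Fin 2) F) : Matrix (Fin 2) (Fin 2) F) *ᵥ Pi.single i 1) := by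
      intro i j
      rw [Units.val_mul, ← Matrix.mulVec_mulVec, S4_swapG_val, kronGL_val, S4_single, S4_swap_pt,
        S4_kron_pt]
    rw [Fin.forall_fin_two]
    refine ⟨?_, ?_⟩ <;> rw [Fin.forall_fin_two] <;> refine ⟨?_, ?_⟩
    · rw [rhs, h00, S4_dG_zero, S4_dG_zero, ← S4_single]
    · rw [rhs, ← hc01, S4_dG_one, S4_dG_zero, S4_pt_smul_left, ← S4_single]
      exact e01
    · rw [rhs, ← hc10, S4_dG_one, S4_dG_zero, S4_pt_smul_right, ← S4_single]
      exact e10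
    · rw [rhs, h11, S4_dG_one, S4_dG_one, S4_pt_smul_left, S4_pt_smul_right, ← S4_single, smul_smul,
        mul_comm, q3, one_smul]
  · -- `c01 (1,0) = 0`: the direct case
    rw [z, mul_zero, add_zero] at q3
    have hl : c01 (0, 1) ≠ 0 := left_ne_zero_of_mul_eq_one q3
    have hl' : c10 (1, 0) ≠ 0 := right_ne_zero_of_mul_eq_one q3
    have z' : c10 (0, 1) = 0 := by
      rcases mul_eq_zero.mp q2 with h | h
      · exact h
      · exact absurd h hl'
    have e01 : c01 = c01 (0, 1) • Pi.single (0, 1) 1 := by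
      have := vec c01 a2 a1
      rw [z, zero_smul, add_zero] at this
      exact this
    have e10 : c10 = c10 (1, 0) • Pi.single (1, 0) 1 := by
      have := vec c10 a4 a3
      rw [z', zero_smul, zero_add] at this
      exact this
    refine ⟨kronGL (S4_dG (c10 (1, 0)) hl') (S4_dG (c01 (0, 1)) hl), kronGL_mem _ _, Or.inl ?_⟩
    apply Units.ext
    apply S4_ext
    have rhs : ∀ i j : Fin 2,
        ((kronGL (S4_dG (c10 (1, 0)) hl') (S4_dG (c01 (0, 1)) hl) :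
          GL (Fin 2 × Fin 2) F) : Matrix (Fin 2 × Fin 2) (Fin 2 × Fin 2) F) *ᵥ Pi.single (i, j) 1 =
        S4_pt (((S4_dG (c10 (1, 0)) hl' : GL (Fin 2) F) : Matrix (Fin 2) (Fin 2) F) *ᵥ Pi.single i 1)
          (((S4_dG (c01 (0, 1)) hl : GL (Fin 2) F) : Matrix (Fin 2) (Fin 2) F) *ᵥ Pi.single j 1) := by
      intro i j
      rw [kronGL_val, S4_single, S4_kron_pt]
    rw [Fin.forall_fin_two]
    refine ⟨?_, ?_⟩ <;> rw [Fin.forall_fin_two] <;> refine ⟨?_, ?_⟩
    · rw [rhs, h00, S4_dG_zero, S4_dG_zero, ← S4_single]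
    · rw [rhs, ← hc01, S4_dG_one, S4_dG_zero, S4_pt_smul_right, ← S4_single]
      exact e01
    · rw [rhs, ← hc10, S4_dG_one, S4_dG_zero, S4_pt_smul_left, ← S4_single]
      exact e10
    · rw [rhs, h11, S4_dG_one, S4_dG_one, S4_pt_smul_left, S4_pt_smul_right, ← S4_single, smul_smul,
        mul_comm, q3, one_smul]


/-- **The similitudes of the determinant form on `M₂(F)`** are the maps `X ↦ A X B` and
`X ↦ A Xᵀ B`. -/
theorem S4_key (b : GL (Fin 2 × Fin 2) F) (μ : F) (hμ : μ ≠ 0)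
    (hb : ∀ X, Q0 ((b : Matrix (Fin 2 × Fin 2) (Fin 2 × Fin 2) F) *ᵥ X) = μ * Q0 X) :
    ∃ k ∈ kroneckerSubgroup 2 2 F, b = k ∨ b = k * S4_swapG := by
  have hB := S4_polar_sim (b : Matrix (Fin 2 × Fin 2) (Fin 2 × Fin 2) F) μ hb
  have hinj : ∀ X : Fin 2 × Fin 2 → F,
      (b : Matrix (Fin 2 × Fin 2) (Fin 2 × Fin 2) F) *ᵥ X = 0 → X = 0 := by
    intro X hX
    have := congrArg (fun v => ((b⁻¹ : GL (Fin 2 × Fin 2) F) :
      Matrix (Fin 2 × Fin 2) (Fin 2 × Fin 2) F) *ᵥ v) hX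
    simpa [Matrix.mulVec_mulVec, ← Units.val_mul] using this
  have hsne : ∀ i j : Fin 2, (Pi.single (i, j) 1 : Fin 2 × Fin 2 → F) ≠ 0 := by
    intro i j h
    have := congrFun h (i, j)
    simp at this
  obtain ⟨p, q, hpq⟩ := S4_exists_pt ((b : Matrix (Fin 2 × Fin 2) (Fin 2 × Fin 2) F) *ᵥ
    Pi.single (0, 0) 1) (by rw [hb]; simp [Q0]) (fun h => hsne 0 0 (hinj _ h))
  obtain ⟨p', q', hpq'⟩ := S4_exists_pt ((b : Matrix (Fin 2 × Fin 2) (Fin 2 × Fin 2) F) *ᵥ
    Pi.single (1, 1) 1) (by rw [hb]; simp [Q0]) (fun h => hsne 1 1 (hinj _ h))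
  have hdet : (p 0 * p' 1 - p 1 * p' 0) * (q 0 * q' 1 - q 1 * q' 0) = μ := by
    have := hB (Pi.single (0, 0) 1) (Pi.single (1, 1) 1)
    rw [hpq, hpq', S4_B0_pt] at this
    rw [this]
    simp [B0]
  have hdp : p 0 * p' 1 - p 1 * p' 0 ≠ 0 := by
    intro h
    rw [h, zero_mul] at hdet
    exact hμ hdet.symm
  have hdq : q 0 * q' 1 - q 1 * q' 0 ≠ 0 := by
    intro h
    rw [h, mul_zero] at hdet
    exact hμ hdet.symm
  set k₀ : GL (Fin 2 × Fin 2) F := kronGL (S4_colGL p p' hdp) (S4_colGL q q' hdq) with hk₀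
  have hk00 : (k₀ : Matrix (Fin 2 × Fin 2) (Fin 2 × Fin 2) F) *ᵥ Pi.single (0, 0) 1 =
      (b : Matrix (Fin 2 × Fin 2) (Fin 2 × Fin 2) F) *ᵥ Pi.single (0, 0) 1 := by
    rw [hk₀, kronGL_val, S4_single, S4_kron_pt, S4_colGL_zero, S4_colGL_zero, ← S4_single, hpq]
  have hk11 : (k₀ : Matrix (Fin 2 × Fin 2) (Fin 2 × Fin 2) F) *ᵥ Pi.single (1, 1) 1 =
      (b : Matrix (Fin 2 × Fin 2) (Fin 2 × Fin 2) F) *ᵥ Pi.single (1, 1) 1 := by
    rw [hk₀, kronGL_val, S4_single, S4_kron_pt, S4_colGL_one, S4_colGL_one, ← S4_single, hpq']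
  have hinv : ∀ X Y : Fin 2 × Fin 2 → F,
      (k₀ : Matrix (Fin 2 × Fin 2) (Fin 2 × Fin 2) F) *ᵥ X =
        (b : Matrix (Fin 2 × Fin 2) (Fin 2 × Fin 2) F) *ᵥ Y →
      ((k₀⁻¹ * b : GL (Fin 2 × Fin 2) F) : Matrix (Fin 2 × Fin 2) (Fin 2 × Fin 2) F) *ᵥ Y = X := by
    intro X Y h
    rw [Units.val_mul, ← Matrix.mulVec_mulVec, ← h, Matrix.mulVec_mulVec, ← Units.val_mul,
      inv_mul_cancel, Units.val_one, Matrix.one_mulVec]
  have hsim : ∀ X, Q0 (((k₀⁻¹ * b : GL (Fin 2 × Fin 2) F) :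
      Matrix (Fin 2 × Fin 2) (Fin 2 × Fin 2) F) *ᵥ X) = 1 * Q0 X := by
    intro X
    have h1 : (k₀ : Matrix (Fin 2 × Fin 2) (Fin 2 × Fin 2) F) *ᵥ
        (((k₀⁻¹ * b : GL (Fin 2 × Fin 2) F) : Matrix (Fin 2 × Fin 2) (Fin 2 × Fin 2) F) *ᵥ X) =
        (b : Matrix (Fin 2 × Fin 2) (Fin 2 × Fin 2) F) *ᵥ X := by
      rw [Matrix.mulVec_mulVec, ← Units.val_mul, mul_inv_cancel_left]
    have h2 := hb X
    rw [← h1, hk₀, kronGL_val, Q0_kronecker_mulVec, S4_colGL_det, S4_colGL_det, hdet] at h2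
    rw [one_mul]
    exact mul_left_cancel₀ hμ h2
  obtain ⟨k, hk, hkb⟩ := S4_key2 (k₀⁻¹ * b) 1 one_ne_zero hsim (hinv _ _ hk00) (hinv _ _ hk11)
  have hk₀m : k₀ ∈ kroneckerSubgroup 2 2 F := kronGL_mem _ _
  refine ⟨k₀ * k, Subgroup.mul_mem _ hk₀m hk, ?_⟩
  rcases hkb with h | h
  · left
    rw [← h, mul_inv_cancel_left]
  · right
    rw [mul_assoc, ← h, mul_inv_cancel_left]

end Cfsg.Agent.Lib.H3.AschSP2
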