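import Mathlib
import Cfsg.Agent.Lib.H8.AschSM4a
import Cfsg.Agent.Lib.H8.AschO2B6b

/-!
# Symplectic phase 2, SP2-S4 (helper3), part b: a symmetric non-degenerate form of plus type on `F⁴`
(`2 ≠ 0`) has Gram matrix `J ⊗ J` in a suitable basis.
-/

set_option autoImplicit false
set_option linter.unusedSectionVars false

namespace Cfsg.Agent.Lib.H3.AschSP2

open Cfsg Cfsg.Geo Cfsg.Agent.Lib.Lead.Asch
open scoped MatrixGroups Matrix Kronecker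

variable {F : Type*} [Field F]

/-- the standard alternating `2 × 2` matrix -/
def S4_J : Matrix (Fin 2) (Fin 2) F := !![0, 1; -1, 0]

/-- the identification `Fin 4 ≃ Fin 2 × Fin 2` -/
def S4_eps : Fin 4 ≃ Fin 2 × Fin 2 where
  toFun k := ![(0, 0), (0, 1), (1, 0), (1, 1)] k
  invFun x := ![![0, 1], ![2, 3]] x.1 x.2
  left_inv := by decide
  right_inv := by decide

/-- `J ⊗ J` transported to `Fin 4` -/
def S4_H : Matrix (Fin 4) (Fin 4) F :=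
  fun k k' => S4_J (S4_eps k).1 (S4_eps k').1 * S4_J (S4_eps k).2 (S4_eps k').2

/-- one step of the hyperbolic normalisation -/
theorem S4_hyp_step (B : (Fin 4 → F) →ₗ[F] (Fin 4 → F) →ₗ[F] F) (hsymm : ∀ x y, B x y = B y x)
    (h2 : (2 : F) ≠ 0) (u x : Fin 4 → F) (huu : B u u = 0) (hux : B u x = 1) :
    ∃ v : Fin 4 → F, B v v = 0 ∧ B u v = 1 ∧ (∀ w, B w u = 0 → B w v = B w x) := by
  refine ⟨x - (B x x / 2) • u, ?_, ?_, ?_⟩
  · have hxu : B x u = 1 := by rw [hsymm, hux]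
    simp only [map_sub, map_smul, LinearMap.sub_apply, LinearMap.smul_apply, smul_eq_mul, huu, hux,
      hxu]
    field_simp
    ring
  · simp only [map_sub, map_smul, smul_eq_mul, huu, hux]
    ring
  · intro w hw
    simp only [map_sub, map_smul, smul_eq_mul, hw]
    ring

theorem S4_hyp (h2 : (2 : F) ≠ 0) (f₂ : (Fin 4 → F) → (Fin 4 → F) → F) (hf₂ : IsSymmetricForm f₂)
    (hplus : IsPlusTypeOn (fun v : Fin 4 → F => f₂ v v) ⊤) :
    ∃ u₁ v₁ u₂ v₂ : Fin 4 → F, f₂ u₁ u₁ = 0 ∧ f₂ u₁ v₁ = 1 ∧ f₂ u₁ u₂ = 0 ∧ f₂ u₁ v₂ = 0 ∧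
      f₂ v₁ v₁ = 0 ∧ f₂ v₁ u₂ = 0 ∧ f₂ v₁ v₂ = 0 ∧ f₂ u₂ u₂ = 0 ∧ f₂ u₂ v₂ = 1 ∧ f₂ v₂ v₂ = 0 := by
  obtain ⟨U, -, hUs, hUd⟩ := hplus
  have hU2 : Module.finrank F U = 2 := by
    have h4 : Module.finrank F (⊤ : Submodule F (Fin 4 → F)) = 4 := by simp
    omega
  let B : (Fin 4 → F) →ₗ[F] (Fin 4 → F) →ₗ[F] F :=
    LinearMap.mk₂ F f₂ hf₂.bilinear.add_left hf₂.bilinear.smul_left hf₂.bilinear.add_right
      hf₂.bilinear.smul_right
  have hB : ∀ x y, f₂ x y = B x y := fun _ _ => rfl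
  have hsymm : ∀ x y, B x y = B y x := fun x y => hf₂.symm x y
  have hUU : ∀ u ∈ U, ∀ u' ∈ U, B u u' = 0 := by
    intro u hu u' hu'
    have h1 : B (u + u') (u + u') = 0 := hUs (u + u') (U.add_mem hu hu')
    have h2' : B u u = 0 := hUs u hu
    have h3 : B u' u' = 0 := hUs u' hu'
    simp only [map_add, LinearMap.add_apply] at h1
    have h4 : B u' u = B u u' := hsymm _ _
    have : (2 : F) * B u u' = 0 := by linear_combination h1 - h2' - h3 - h4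
    rcases mul_eq_zero.1 this with h | h
    · exact absurd h h2
    · exact h
  let b := Module.finBasisOfFinrankEq F U hU2
  have hb0 : ((b 0 : U) : Fin 4 → F) ≠ 0 := by
    intro h
    exact b.ne_zero 0 (Subtype.ext h)
  obtain ⟨x₁', hx₁'⟩ := (hf₂.nondegenerate _ hb0).2
  rw [hB] at hx₁'
  have hx₁ : B (b 0 : U) ((B (b 0 : U) x₁')⁻¹ • x₁') = 1 := by
    rw [map_smul, smul_eq_mul, inv_mul_cancel₀ hx₁']
  generalize (B (b 0 : U) x₁')⁻¹ • x₁' = x₁ at hx₁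
  -- second isotropic vector
  have hu₂U : ((b 1 : U) : Fin 4 → F) - B (b 1 : U) x₁ • ((b 0 : U) : Fin 4 → F) ∈ U :=
    U.sub_mem (b 1).2 (U.smul_mem _ (b 0).2)
  have hu₂ne : ((b 1 : U) : Fin 4 → F) - B (b 1 : U) x₁ • ((b 0 : U) : Fin 4 → F) ≠ 0 := by
    intro h
    have h' : b 1 = B (b 1 : U) x₁ • b 0 := by
      apply Subtype.ext
      rw [Submodule.coe_smul]
      exact sub_eq_zero.1 h
    have h'' := congrArg (fun z => b.repr z 1) h'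
    simp only [map_smul, Module.Basis.repr_self, Finsupp.smul_apply, smul_eq_mul] at h''
    simp at h''
  have hu₂x₁ : B (((b 1 : U) : Fin 4 → F) - B (b 1 : U) x₁ • ((b 0 : U) : Fin 4 → F)) x₁ = 0 := by
    simp only [map_sub, map_smul, LinearMap.sub_apply, LinearMap.smul_apply, smul_eq_mul, hx₁]
    ring
  have hu₁U : ((b 0 : U) : Fin 4 → F) ∈ U := (b 0).2
  generalize ((b 1 : U) : Fin 4 → F) - B (b 1 : U) x₁ • ((b 0 : U) : Fin 4 → F) = u₂ at hu₂U hu₂ne hu₂x₁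
  generalize ((b 0 : U) : Fin 4 → F) = u₁ at hu₁U hx₁ hb0
  obtain ⟨x₂', hx₂'⟩ := (hf₂.nondegenerate _ hu₂ne).2
  rw [hB] at hx₂'
  have hx₂a : B u₂ ((B u₂ x₂')⁻¹ • x₂') = 1 := by
    rw [map_smul, smul_eq_mul, inv_mul_cancel₀ hx₂']
  generalize (B u₂ x₂')⁻¹ • x₂' = x₂a at hx₂a
  have hx₂1 : B u₁ (x₂a - B u₁ x₂a • x₁) = 0 := by
    simp only [map_sub, map_smul, smul_eq_mul, hx₁]
    ring
  have hx₂2 : B u₂ (x₂a - B u₁ x₂a • x₁) = 1 := by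
    simp only [map_sub, map_smul, smul_eq_mul, hx₂a, hu₂x₁]
    ring
  generalize x₂a - B u₁ x₂a • x₁ = x₂ at hx₂1 hx₂2
  have h11 : B u₁ u₁ = 0 := hUU _ hu₁U _ hu₁U
  have h12 : B u₁ u₂ = 0 := hUU _ hu₁U _ hu₂U
  have h21 : B u₂ u₁ = 0 := hUU _ hu₂U _ hu₁U
  have h22 : B u₂ u₂ = 0 := hUU _ hu₂U _ hu₂U
  obtain ⟨v₁, hv₁v₁, hu₁v₁, hv₁w⟩ := S4_hyp_step B hsymm h2 u₁ x₁ h11 hx₁
  have hu₂v₁ : B u₂ v₁ = 0 := by rw [hv₁w u₂ h21, hu₂x₁]
  -- second hyperbolic partner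
  obtain ⟨v₂a, hv₂av₂a, hu₂v₂a, hv₂aw⟩ := S4_hyp_step B hsymm h2 u₂ x₂ h22 hx₂2
  have hu₁v₂a : B u₁ v₂a = 0 := by rw [hv₂aw u₁ h12, hx₂1]
  have hv₁u₁ : B v₁ u₁ = 1 := by rw [hsymm, hu₁v₁]
  have hv₂au₁ : B v₂a u₁ = 0 := by rw [hsymm, hu₁v₂a]
  refine ⟨u₁, v₁, u₂, v₂a - B v₁ v₂a • u₁, ?_, ?_, ?_, ?_, ?_, ?_, ?_, ?_, ?_, ?_⟩
  · rw [hB]; exact h11
  · rw [hB]; exact hu₁v₁
  · rw [hB]; exact h12
  · rw [hB]
    simp only [map_sub, map_smul, smul_eq_mul, hu₁v₂a, h11]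
    ring
  · rw [hB]; exact hv₁v₁
  · rw [hB, hsymm]; exact hu₂v₁
  · rw [hB]
    simp only [map_sub, map_smul, smul_eq_mul, hv₁u₁]
    ring
  · rw [hB]; exact h22
  · rw [hB]
    simp only [map_sub, map_smul, smul_eq_mul, hu₂v₂a, h21]
    ring
  · rw [hB]
    simp only [map_sub, map_smul, LinearMap.sub_apply, LinearMap.smul_apply, smul_eq_mul, hv₂av₂a,
      hu₁v₂a, hv₂au₁, h11]
    ring

theorem S4_H_explicit :
    (S4_H : Matrix (Fin 4) (Fin 4) F) = !![0, 0, 0, 1; 0, 0, -1, 0; 0, -1, 0, 0; 1, 0, 0, 0] := by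
  ext k k'
  fin_cases k <;> fin_cases k' <;> simp [S4_H, S4_eps, S4_J]

theorem S4_H_mul_self : (S4_H : Matrix (Fin 4) (Fin 4) F) * S4_H = 1 := by
  rw [S4_H_explicit]
  ext k k'
  fin_cases k <;> fin_cases k' <;> simp [Matrix.mul_apply, Fin.sum_univ_four]

/-- **Normal form**: a symmetric non-degenerate form of plus type on `F⁴` has Gram matrix `J ⊗ J`
in a suitable basis. -/
theorem S4_normal_form (h2 : (2 : F) ≠ 0) (f₂ : (Fin 4 → F) → (Fin 4 → F) → F)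
    (hf₂ : IsSymmetricForm f₂) (hplus : IsPlusTypeOn (fun v : Fin 4 → F => f₂ v v) ⊤) :
    ∃ T : GL (Fin 4) F, (T : Matrix (Fin 4) (Fin 4) F)ᵀ * gramMatrix f₂ *
      (T : Matrix (Fin 4) (Fin 4) F) = S4_H := by
  obtain ⟨u₁, v₁, u₂, v₂, h11, h1v1, h12, h1v2, hv1v1, hv12, hv1v2, h22, h2v2, hv2v2⟩ :=
    S4_hyp h2 f₂ hf₂ hplus
  have hnl : ∀ x y, f₂ (-x) y = - f₂ x y := by
    intro x y
    have := hf₂.bilinear.smul_left (-1) x y
    simpa using this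
  have hnr : ∀ x y, f₂ x (-y) = - f₂ x y := by
    intro x y
    have := hf₂.bilinear.smul_right (-1) x y
    simpa using this
  let cols : Fin 4 → (Fin 4 → F) := ![u₁, u₂, -v₂, v₁]
  let T : Matrix (Fin 4) (Fin 4) F := Matrix.of (fun r k => cols k r)
  have hgram : ∀ k k', (Tᵀ * gramMatrix f₂ * T) k k' = f₂ (cols k) (cols k') := by
    intro k k'
    rw [Cfsg.Agent.Lib.H8.OP2.bilinear_eq_gram f₂ hf₂.bilinear, Finset.sum_comm, Matrix.mul_apply]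
    refine Finset.sum_congr rfl fun s _ => ?_
    rw [Matrix.mul_apply, Finset.sum_mul]
    refine Finset.sum_congr rfl fun r _ => ?_
    rfl
  have hTH : Tᵀ * gramMatrix f₂ * T = S4_H := by
    rw [S4_H_explicit]
    ext k k'
    rw [hgram]
    fin_cases k <;> fin_cases k' <;>
      simp [cols, hnl, hnr, h11, h1v1, h12, h1v2, hv1v1, hv12, hv1v2, h22, h2v2, hv2v2,
        hf₂.symm v₁ u₁, hf₂.symm u₂ u₁, hf₂.symm v₂ u₁, hf₂.symm u₂ v₁, hf₂.symm v₂ v₁,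
        hf₂.symm v₂ u₂]
  have h1 : Tᵀ * (gramMatrix f₂ * T * S4_H) = 1 := by
    rw [← Matrix.mul_assoc, ← Matrix.mul_assoc, hTH, S4_H_mul_self]
  have h2' : (gramMatrix f₂ * T * S4_H) * Tᵀ = 1 := mul_eq_one_comm.1 h1
  have h3 : T * (gramMatrix f₂ * T * S4_H)ᵀ = 1 := by
    have := congrArg Matrix.transpose h2'
    rwa [Matrix.transpose_mul, Matrix.transpose_transpose, Matrix.transpose_one] at this
  exact ⟨⟨T, (gramMatrix f₂ * T * S4_H)ᵀ, h3, mul_eq_one_comm.1 h3⟩, hTH⟩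

end Cfsg.Agent.Lib.H3.AschSP2
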