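import Mathlib
import Cfsg.Agent.Lib.H3.AschSP2S4a
import Cfsg.Agent.Lib.H3.AschSP2S4b
import Cfsg.Agent.Lib.H25.AschSP2E2b
import Cfsg.Agent.Lib.H24.AschOBasic

/-!
# Symplectic phase 2, SP2-S4 (helper3), part c: `Sp₂ ⊗ GO₄⁺ ≤ Sp₂ wr S₃`
-/

set_option autoImplicit false
set_option linter.unusedSectionVars false

namespace Cfsg.Agent.Lib.H3.AschSP2

open Cfsg Cfsg.Geo Cfsg.Agent.Lib.Lead.Asch Cfsg.Agent.Lib.H20.Asch Cfsg.Agent.Lib.H6.Asch
open scoped MatrixGroups Matrix Kronecker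

variable {F : Type*} [Field F]

/-! ### index bookkeeping -/

/-- the index bijection `Fin 2 × Fin 4 ≃ (Fin 3 → Fin 2)` -/
def S4_beta : Fin 2 × Fin 4 ≃ (Fin 3 → Fin 2) where
  toFun p := ![p.1, (S4_eps p.2).1, (S4_eps p.2).2]
  invFun x := (x 0, S4_eps.symm (x 1, x 2))
  left_inv := by
    rintro ⟨i, k⟩
    simp
  right_inv := by
    intro x
    funext i
    fin_cases i <;> simp

theorem S4_beta_symm_apply (x : Fin 3 → Fin 2) :
    S4_beta.symm x = (x 0, S4_eps.symm (x 1, x 2)) := rfl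

theorem S4_beta_apply (p : Fin 2 × Fin 4) :
    S4_beta p = ![p.1, (S4_eps p.2).1, (S4_eps p.2).2] := rfl

/-- the factor permutation `(1 2)` on `(Fin 3 → Fin 2)` -/
def S4_sigmaM : Matrix (Fin 3 → Fin 2) (Fin 3 → Fin 2) F :=
  fun x y => if y = x ∘ (Equiv.swap (1 : Fin 3) 2) then 1 else 0

theorem S4_comp_swap_swap (y : Fin 3 → Fin 2) :
    (y ∘ (Equiv.swap (1 : Fin 3) 2)) ∘ (Equiv.swap (1 : Fin 3) 2) = y := by
  funext i
  simp

theorem S4_mul_sigmaM (M : Matrix (Fin 3 → Fin 2) (Fin 3 → Fin 2) F) (x y : Fin 3 → Fin 2) :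
    (M * (S4_sigmaM : Matrix (Fin 3 → Fin 2) (Fin 3 → Fin 2) F)) x y =
      M x (y ∘ (Equiv.swap (1 : Fin 3) 2)) := by
  rw [Matrix.mul_apply, Finset.sum_eq_single (y ∘ (Equiv.swap (1 : Fin 3) 2))]
  · simp only [S4_sigmaM]
    rw [if_pos (S4_comp_swap_swap y).symm, mul_one]
  · intro z _ hz
    have : ¬ y = z ∘ (Equiv.swap (1 : Fin 3) 2) := by
      intro h
      apply hz
      rw [h, S4_comp_swap_swap]
    simp only [S4_sigmaM]
    rw [if_neg this, mul_zero]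
  · intro h
    exact absurd (Finset.mem_univ _) h

theorem S4_sigmaM_mul :
    (S4_sigmaM : Matrix (Fin 3 → Fin 2) (Fin 3 → Fin 2) F) * S4_sigmaM = 1 := by
  ext x y
  rw [S4_mul_sigmaM]
  simp only [S4_sigmaM, Matrix.one_apply]
  by_cases h : x = y
  · subst h
    simp
  · rw [if_neg h, if_neg]
    intro h'
    apply h
    have := congrArg (fun z => z ∘ (Equiv.swap (1 : Fin 3) 2)) h'
    simp only [S4_comp_swap_swap] at this
    exact this.symm

def S4_sigmaG : GL (Fin 3 → Fin 2) F := ⟨S4_sigmaM, S4_sigmaM, S4_sigmaM_mul, S4_sigmaM_mul⟩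

theorem S4_sigmaG_val :
    ((S4_sigmaG : GL (Fin 3 → Fin 2) F) : Matrix (Fin 3 → Fin 2) (Fin 3 → Fin 2) F) = S4_sigmaM := rfl

theorem S4_sigmaG_mul_self : (S4_sigmaG : GL (Fin 3 → Fin 2) F) * S4_sigmaG = 1 := by
  apply Units.ext
  rw [Units.val_mul, S4_sigmaG_val, S4_sigmaM_mul, Units.val_one]

theorem S4_mul_swapM (M : Matrix (Fin 2 × Fin 2) (Fin 2 × Fin 2) F) (x y : Fin 2 × Fin 2) :
    (M * (S4_swapM : Matrix (Fin 2 × Fin 2) (Fin 2 × Fin 2) F)) x y = M x y.swap := by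
  rw [Matrix.mul_apply, Finset.sum_eq_single y.swap]
  · simp [S4_swapM]
  · intro z _ hz
    have : ¬ y = z.swap := by
      intro h
      apply hz
      rw [h, Prod.swap_swap]
    simp only [S4_swapM]
    rw [if_neg this, mul_zero]
  · intro h
    exact absurd (Finset.mem_univ _) h

/-- **Form-free core**: `a ⊗ b'` with `b'` a Kronecker product, possibly followed by the swap of the
two factors, lies in the standard tensor-wreath subgroup with three factors. -/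
theorem S4_wreath_mem (a : GL (Fin 2) F) (b' : GL (Fin 2 × Fin 2) F) (w : GL (Fin 3 → Fin 2) F)
    (hw : ∀ x y, (w : Matrix (Fin 3 → Fin 2) (Fin 3 → Fin 2) F) x y =
      (a : Matrix (Fin 2) (Fin 2) F) (x 0) (y 0) *
        (b' : Matrix (Fin 2 × Fin 2) (Fin 2 × Fin 2) F) (x 1, x 2) (y 1, y 2))
    (k : GL (Fin 2 × Fin 2) F) (hk : k ∈ kroneckerSubgroup 2 2 F)
    (hb' : b' = k ∨ b' = k * (S4_swapG : GL (Fin 2 × Fin 2) F)) :
    w ∈ tensorWreathStandard 2 3 F := by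
  obtain ⟨b₁, b₂, hk⟩ := hk
  rcases hb' with rfl | rfl
  · apply Subgroup.subset_closure
    left
    refine ⟨![a, b₁, b₂], fun x y => ?_⟩
    rw [hw, hk, Fin.prod_univ_three]
    simp [Matrix.kroneckerMap_apply, mul_assoc]
  · have hpure : IsPureTensor 2 3 (w * (S4_sigmaG : GL (Fin 3 → Fin 2) F)) := by
      refine ⟨![a, b₁, b₂], fun x y => ?_⟩
      rw [Units.val_mul, S4_sigmaG_val, S4_mul_sigmaM, hw, Fin.prod_univ_three, Units.val_mul,
        S4_swapG_val, S4_mul_swapM, hk]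
      have h0 : (Equiv.swap (1 : Fin 3) 2) 0 = 0 := by decide
      simp [Matrix.kroneckerMap_apply, mul_assoc, h0]
    have hperm : IsFactorPermutation 2 3 (S4_sigmaG : GL (Fin 3 → Fin 2) F) :=
      ⟨Equiv.swap 1 2, fun x y => rfl⟩
    have hmul : w = (w * (S4_sigmaG : GL (Fin 3 → Fin 2) F)) * S4_sigmaG := by
      rw [mul_assoc, S4_sigmaG_mul_self, mul_one]
    rw [hmul]
    exact Subgroup.mul_mem _ (Subgroup.subset_closure (Or.inl hpure))
      (Subgroup.subset_closure (Or.inr hperm))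

/-! ### forms -/

theorem S4_J_transpose : (S4_J : Matrix (Fin 2) (Fin 2) F)ᵀ = -S4_J := by
  ext i j
  fin_cases i <;> fin_cases j <;> simp [S4_J]

theorem S4_J_det : (S4_J : Matrix (Fin 2) (Fin 2) F).det = 1 := by
  simp [S4_J, Matrix.det_fin_two]

theorem S4_isSymp (h2 : (2 : F) ≠ 0) :
    IsSymplecticForm (formOfGram id (S4_J : Matrix (Fin 2) (Fin 2) F)) :=
  Cfsg.Agent.Lib.H8.AschS.isSymplecticForm_formOfGram h2 S4_J S4_J_transpose
    (by rw [S4_J_det]; exact isUnit_one)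

/-- the Gram matrix of a symplectic form in dimension two is a non-zero multiple of `J` -/
theorem S4_gram_symp (f₁ : (Fin 2 → F) → (Fin 2 → F) → F) (hf₁ : IsSymplecticForm f₁) :
    ∃ g : F, g ≠ 0 ∧ gramMatrix f₁ = g • (S4_J : Matrix (Fin 2) (Fin 2) F) := by
  have hG : gramMatrix f₁ = gramMatrix f₁ 0 1 • (S4_J : Matrix (Fin 2) (Fin 2) F) := by
    ext i j
    fin_cases i <;> fin_cases j
    · simp [S4_J, gramMatrix, hf₁.alternating]
    · simp [S4_J]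
    · simp only [S4_J, gramMatrix, Matrix.smul_apply, smul_eq_mul]
      rw [hf₁.skew]
      simp
    · simp [S4_J, gramMatrix, hf₁.alternating]
  refine ⟨gramMatrix f₁ 0 1, ?_, hG⟩
  intro h0
  rw [h0, zero_smul] at hG
  have hne : (Pi.single 0 1 : Fin 2 → F) ≠ 0 := by
    intro h
    have := congrFun h 0
    simp at this
  obtain ⟨x, hx⟩ := (hf₁.nondegenerate _ hne).1
  apply hx
  rw [Cfsg.Agent.Lib.H8.OP2.bilinear_eq_gram f₁ hf₁.bilinear, hG]
  simp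

section general
variable {ι κ : Type} [Fintype ι] [DecidableEq ι] [Fintype κ] [DecidableEq κ]

theorem S4_reindex_mulVec (e : ι ≃ κ) (K : GL κ F) (X : κ → F) :
    ((glReindex e.symm K : GL ι F) : Matrix ι ι F) *ᵥ (X ∘ e) = ((K : Matrix κ κ F) *ᵥ X) ∘ e := by
  funext i
  simp only [Matrix.mulVec, dotProduct, Function.comp_apply, glReindex_apply_apply,
    Equiv.symm_symm]
  exact Equiv.sum_comp e (fun b => (K : Matrix κ κ F) (e i) b * X b)

theorem S4_formOfGram_mulVec (G s : Matrix κ κ F) (X Y : κ → F) :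
    formOfGram id G (s *ᵥ X) (s *ᵥ Y) = formOfGram id (sᵀ * G * s) X Y := by
  rw [Cfsg.Agent.Lib.H25.AschSP2.formOfGram_eq_dotProduct,
    Cfsg.Agent.Lib.H25.AschSP2.formOfGram_eq_dotProduct, Matrix.mulVec_mulVec,
    Matrix.dotProduct_mulVec, Matrix.vecMul_mulVec, ← Matrix.dotProduct_mulVec, ← Matrix.mul_assoc]

theorem S4_matrix_of_form (G s : Matrix κ κ F)
    (h : ∀ X Y, formOfGram id G (s *ᵥ X) (s *ᵥ Y) = formOfGram id G X Y) : sᵀ * G * s = G := by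
  ext i j
  have h1 := h (Pi.single i 1) (Pi.single j 1)
  rw [S4_formOfGram_mulVec, Cfsg.Agent.Lib.H25.AschSP2.formOfGram_eq_dotProduct,
    Cfsg.Agent.Lib.H25.AschSP2.formOfGram_eq_dotProduct, Matrix.mulVec_single_one,
    Matrix.mulVec_single_one, single_one_dotProduct, single_one_dotProduct] at h1
  exact h1

theorem S4_conj_congr (T Ti b G : Matrix κ κ F) (h : T * Ti = 1) :
    (Ti * b * T)ᵀ * (Tᵀ * G * T) * (Ti * b * T) = Tᵀ * (bᵀ * G * b) * T := by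
  have h1 : Tiᵀ * Tᵀ = 1 := by rw [← Matrix.transpose_mul, h, Matrix.transpose_one]
  simp only [Matrix.transpose_mul, Matrix.mul_assoc]
  rw [← Matrix.mul_assoc Tiᵀ Tᵀ, h1, Matrix.one_mul, ← Matrix.mul_assoc T Ti, h, Matrix.one_mul]

end general

theorem S4_two_Q0 (Y : Fin 4 → F) :
    formOfGram id (S4_H : Matrix (Fin 4) (Fin 4) F) Y Y = 2 * Q0 (Y ∘ S4_eps.symm) := by
  rw [S4_H_explicit]
  simp only [formOfGram, Fin.sum_univ_four, Q0, Function.comp_apply, id]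
  simp [S4_eps]
  ring

theorem S4_kronGL_inv_val {d k : ℕ} (a : GL (Fin d) F) (b : GL (Fin k) F) :
    (((kronGL a b)⁻¹ : GL (Fin d × Fin k) F) : Matrix (Fin d × Fin k) (Fin d × Fin k) F) =
      ((a⁻¹ : GL (Fin d) F) : Matrix (Fin d) (Fin d) F) ⊗ₖ
        ((b⁻¹ : GL (Fin k) F) : Matrix (Fin k) (Fin k) F) := rfl

/-- **SP2-S4**: `Sp₂ ⊗ GO₄⁺ ≤ Sp₂ wr S₃`. -/
theorem c4_plus [Fintype F] (hodd : Odd (Fintype.card F)) (e : Fin 4 ⊕ Fin 4 ≃ Fin 2 × Fin 4)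
    (P : GL (Fin 4 ⊕ Fin 4) F) (f₁ : (Fin 2 → F) → (Fin 2 → F) → F)
    (f₂ : (Fin 4 → F) → (Fin 4 → F) → F) (hf₁ : IsSymplecticForm f₁) (hf₂ : IsSymmetricForm f₂)
    (hplus : IsPlusTypeOn (fun v : Fin 4 → F => f₂ v v) ⊤)
    (hT : IsTensorFormStructure id (sympForm 4 F) f₁ f₂ e P) :
    ∃ (e' : Fin 4 ⊕ Fin 4 ≃ (Fin 3 → Fin 2)) (P' : GL (Fin 4 ⊕ Fin 4) F)
      (f₁' : (Fin 2 → F) → (Fin 2 → F) → F), IsSymplecticForm f₁' ∧
      IsTensorPowerFormStructure id (sympForm 4 F) f₁' e' P' ∧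
      tensorProductSubgroup 2 4 e P ⊓ spGL 4 F ≤ tensorWreathSubgroup 2 3 e' P' := by
  have h2 : (2 : F) ≠ 0 := Cfsg.Agent.Lib.H24.Asch.two_ne_zero_of_odd hodd
  obtain ⟨T, hTH⟩ := S4_normal_form h2 f₂ hf₂ hplus
  obtain ⟨c, hc, hform⟩ := hT
  obtain ⟨g, hg, hG₁⟩ := S4_gram_symp f₁ hf₁
  have hKval : ((kronGL (1 : GL (Fin 2) F) T : GL (Fin 2 × Fin 4) F) :
      Matrix (Fin 2 × Fin 4) (Fin 2 × Fin 4) F) =
      (1 : Matrix (Fin 2) (Fin 2) F) ⊗ₖ (T : Matrix (Fin 4) (Fin 4) F) := by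
    rw [kronGL_val, Units.val_one]
  -- the action of `P'` in the new coordinates
  have hA : ∀ y : (Fin 3 → Fin 2) → F,
      ((P * glReindex e.symm (kronGL (1 : GL (Fin 2) F) T) : GL (Fin 4 ⊕ Fin 4) F) :
        Matrix (Fin 4 ⊕ Fin 4) (Fin 4 ⊕ Fin 4) F) *ᵥ (y ∘ (e.trans S4_beta)) =
      (P : Matrix (Fin 4 ⊕ Fin 4) (Fin 4 ⊕ Fin 4) F) *ᵥ
        ((((kronGL (1 : GL (Fin 2) F) T : GL (Fin 2 × Fin 4) F) :
          Matrix (Fin 2 × Fin 4) (Fin 2 × Fin 4) F) *ᵥ (y ∘ S4_beta)) ∘ e) := by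
    intro y
    rw [Units.val_mul, ← Matrix.mulVec_mulVec]
    congr 1
    exact S4_reindex_mulVec e _ (y ∘ S4_beta)
  -- the Gram matrix in the new coordinates
  have hKG : ((kronGL (1 : GL (Fin 2) F) T : GL (Fin 2 × Fin 4) F) :
      Matrix (Fin 2 × Fin 4) (Fin 2 × Fin 4) F)ᵀ * (gramMatrix f₁ ⊗ₖ gramMatrix f₂) *
      ((kronGL (1 : GL (Fin 2) F) T : GL (Fin 2 × Fin 4) F) :
      Matrix (Fin 2 × Fin 4) (Fin 2 × Fin 4) F) = gramMatrix f₁ ⊗ₖ (S4_H : Matrix (Fin 4) (Fin 4) F) := by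
    rw [hKval, Cfsg.Agent.Lib.H8.AschS.kron_transpose, ← Matrix.mul_kronecker_mul,
      ← Matrix.mul_kronecker_mul, hTH, Matrix.transpose_one, Matrix.one_mul, Matrix.mul_one]
  refine ⟨e.trans S4_beta, P * glReindex e.symm (kronGL (1 : GL (Fin 2) F) T),
    formOfGram id (S4_J : Matrix (Fin 2) (Fin 2) F), S4_isSymp h2,
    ⟨c * g, mul_ne_zero hc hg, ?_⟩, ?_⟩
  · intro x y
    rw [hA, hA, hform, S4_formOfGram_mulVec, hKG, hG₁,
      Cfsg.Agent.Lib.H8.AschS.gramMatrix_formOfGram, mul_assoc]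
    congr 1
    rw [Finset.mul_sum, ← Equiv.sum_comp S4_beta]
    unfold formOfGram
    refine Finset.sum_congr rfl fun p _ => ?_
    rw [Finset.mul_sum, ← Equiv.sum_comp S4_beta]
    refine Finset.sum_congr rfl fun q _ => ?_
    rw [Fin.prod_univ_three]
    simp only [Matrix.kroneckerMap_apply, Matrix.smul_apply, smul_eq_mul, Function.comp_apply,
      S4_beta_apply, S4_H, id, Matrix.cons_val_zero, Matrix.cons_val_one, Matrix.cons_val_two,
      Matrix.head_cons, Matrix.tail_cons]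
    ring
  · rintro h ⟨hh1, hh2⟩
    obtain ⟨_, ⟨k, ⟨a, b, hk⟩, rfl⟩, rfl⟩ := hh1
    simp only [MulEquiv.coe_toMonoidHom, MulAut.conj_apply] at hh2 ⊢
    -- the action of `h`
    have hact : ∀ X : Fin 2 × Fin 4 → F,
        ((P * glReindex e.symm k * P⁻¹ : GL (Fin 4 ⊕ Fin 4) F) :
          Matrix (Fin 4 ⊕ Fin 4) (Fin 4 ⊕ Fin 4) F) *ᵥ
          ((P : Matrix (Fin 4 ⊕ Fin 4) (Fin 4 ⊕ Fin 4) F) *ᵥ (X ∘ e)) =
        (P : Matrix (Fin 4 ⊕ Fin 4) (Fin 4 ⊕ Fin 4) F) *ᵥ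
          (((k : Matrix (Fin 2 × Fin 4) (Fin 2 × Fin 4) F) *ᵥ X) ∘ e) := by
      intro X
      rw [Matrix.mulVec_mulVec, ← Units.val_mul, inv_mul_cancel_right, Units.val_mul,
        ← Matrix.mulVec_mulVec, S4_reindex_mulVec]
    -- `k` preserves `G₁ ⊗ G₂`
    have hkG : (k : Matrix (Fin 2 × Fin 4) (Fin 2 × Fin 4) F)ᵀ *
        (gramMatrix f₁ ⊗ₖ gramMatrix f₂) * (k : Matrix (Fin 2 × Fin 4) (Fin 2 × Fin 4) F) =
        gramMatrix f₁ ⊗ₖ gramMatrix f₂ := by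
      apply S4_matrix_of_form
      intro X Y
      have h1 := hh2 ((P : Matrix (Fin 4 ⊕ Fin 4) (Fin 4 ⊕ Fin 4) F) *ᵥ (X ∘ e))
        ((P : Matrix (Fin 4 ⊕ Fin 4) (Fin 4 ⊕ Fin 4) F) *ᵥ (Y ∘ e))
      change sympForm 4 F
        (((P * glReindex e.symm k * P⁻¹ : GL (Fin 4 ⊕ Fin 4) F) :
          Matrix (Fin 4 ⊕ Fin 4) (Fin 4 ⊕ Fin 4) F) *ᵥ _)
        (((P * glReindex e.symm k * P⁻¹ : GL (Fin 4 ⊕ Fin 4) F) :
          Matrix (Fin 4 ⊕ Fin 4) (Fin 4 ⊕ Fin 4) F) *ᵥ _) = _ at h1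
      rw [hact, hact, hform, hform] at h1
      exact mul_left_cancel₀ hc h1
    have hG₁ne : gramMatrix f₁ ≠ 0 := by
      rw [hG₁]
      intro h0
      have := congrFun (congrFun h0 0) 1
      simp [S4_J] at this
      exact hg this
    have hG₂ne : gramMatrix f₂ ≠ 0 := by
      intro h0
      rw [h0, Matrix.mul_zero, Matrix.zero_mul] at hTH
      have := congrFun (congrFun hTH 0) 3
      rw [S4_H_explicit] at this
      simp at this
    rw [hk] at hkG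
    obtain ⟨μ, hμ, -, hbG⟩ := Cfsg.Agent.Lib.H8.AschS.kron_similitude (gramMatrix f₁)
      (a : Matrix (Fin 2) (Fin 2) F) (gramMatrix f₂) (b : Matrix (Fin 4) (Fin 4) F) hG₁ne hG₂ne hkG
    -- the similitude in the hyperbolic coordinates
    have hb₀ : ((T⁻¹ * b * T : GL (Fin 4) F) : Matrix (Fin 4) (Fin 4) F)ᵀ * S4_H *
        ((T⁻¹ * b * T : GL (Fin 4) F) : Matrix (Fin 4) (Fin 4) F) = μ⁻¹ • S4_H := by
      rw [← hTH, Units.val_mul, Units.val_mul, S4_conj_congr _ _ _ _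
        (by rw [← Units.val_mul, mul_inv_cancel, Units.val_one]), hbG, Matrix.mul_smul,
        Matrix.smul_mul]
    have hQ : ∀ X : Fin 2 × Fin 2 → F,
        Q0 (((glReindex S4_eps (T⁻¹ * b * T) : GL (Fin 2 × Fin 2) F) :
          Matrix (Fin 2 × Fin 2) (Fin 2 × Fin 2) F) *ᵥ X) = μ⁻¹ * Q0 X := by
      intro X
      have h1 := S4_two_Q0 (((T⁻¹ * b * T : GL (Fin 4) F) : Matrix (Fin 4) (Fin 4) F) *ᵥ
        (X ∘ S4_eps))
      rw [S4_formOfGram_mulVec, hb₀, Cfsg.Agent.Lib.H8.AschS.formOfGram_smul_matrix, S4_two_Q0] at h1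
      have h3 : ((glReindex S4_eps (T⁻¹ * b * T) : GL (Fin 2 × Fin 2) F) :
          Matrix (Fin 2 × Fin 2) (Fin 2 × Fin 2) F) *ᵥ X =
          (((T⁻¹ * b * T : GL (Fin 4) F) : Matrix (Fin 4) (Fin 4) F) *ᵥ (X ∘ S4_eps)) ∘
            S4_eps.symm := Cfsg.Agent.Lib.H11.AschS.glReindex_mulVec' S4_eps _ X
      have h4 : (X ∘ S4_eps) ∘ S4_eps.symm = X := by
        funext z
        simp
      rw [h3]
      rw [h4] at h1
      exact mul_left_cancel₀ h2 (by linear_combination -h1)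
    obtain ⟨k', hk', hb'⟩ := S4_key (glReindex S4_eps (T⁻¹ * b * T)) μ⁻¹ (inv_ne_zero hμ) hQ
    -- membership
    have hconj : (P * glReindex e.symm (kronGL (1 : GL (Fin 2) F) T))⁻¹ *
        (P * glReindex e.symm k * P⁻¹) * (P * glReindex e.symm (kronGL (1 : GL (Fin 2) F) T)) =
        glReindex e.symm ((kronGL (1 : GL (Fin 2) F) T)⁻¹ * k * kronGL (1 : GL (Fin 2) F) T) := by
      simp only [map_mul, map_inv]
      group
    have hmem : glReindex (e.trans S4_beta)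
        ((P * glReindex e.symm (kronGL (1 : GL (Fin 2) F) T))⁻¹ *
        (P * glReindex e.symm k * P⁻¹) * (P * glReindex e.symm (kronGL (1 : GL (Fin 2) F) T))) ∈
        tensorWreathStandard 2 3 F := by
      rw [hconj, glReindex_trans, glReindex_glReindex_symm]
      refine S4_wreath_mem a (glReindex S4_eps (T⁻¹ * b * T)) _ ?_ k' hk' hb'
      intro x y
      rw [glReindex_apply_apply, glReindex_apply_apply, S4_beta_symm_apply, S4_beta_symm_apply,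
        Units.val_mul, Units.val_mul, S4_kronGL_inv_val, hk, hKval, ← Matrix.mul_kronecker_mul,
        ← Matrix.mul_kronecker_mul, Matrix.kroneckerMap_apply]
      simp only [inv_one, Units.val_one, Matrix.one_mul, Matrix.mul_one, Units.val_mul]
    refine ⟨glReindex (e.trans S4_beta).symm _, ⟨_, hmem, rfl⟩, ?_⟩
    rw [glReindex_symm_glReindex]
    simp only [MulEquiv.coe_toMonoidHom, MulAut.conj_apply]
    group

end Cfsg.Agent.Lib.H3.AschSP2
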