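import Mathlib
import Cfsg.Agent.Lib.H3.AschSP2S4c

/-!
# The similitudes of a plus-type symmetric form on `F⁴` (helper3): in hyperbolic coordinates they are
`C ⊗ D` (determinant `ν²`) or `(C ⊗ D) * swap` (determinant `-ν²`).
-/

set_option autoImplicit false
set_option linter.unusedSectionVars false

namespace Cfsg.Agent.Lib.H3.AschSP2

open Cfsg Cfsg.Geo Cfsg.Agent.Lib.Lead.Asch Cfsg.Agent.Lib.H20.Asch Cfsg.Agent.Lib.H6.Asch
open scoped MatrixGroups Matrix Kronecker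

variable {F : Type*} [Field F]

theorem S4_swapM_eq_permMatrix :
    (S4_swapM : Matrix (Fin 2 × Fin 2) (Fin 2 × Fin 2) F) =
      Equiv.Perm.permMatrix F (Equiv.prodComm (Fin 2) (Fin 2) : Equiv.Perm (Fin 2 × Fin 2)) := by
  ext x y
  simp only [S4_swapM, Equiv.Perm.permMatrix, PEquiv.toMatrix_apply, Equiv.toPEquiv_apply,
    Option.mem_def, Option.some.injEq, Equiv.prodComm_apply]
  by_cases h : y = x.swap
  · rw [if_pos h, if_pos h.symm]
  · rw [if_neg h, if_neg (fun h' : x.swap = y => h h'.symm)]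

theorem S4_swapM_det : (S4_swapM : Matrix (Fin 2 × Fin 2) (Fin 2 × Fin 2) F).det = -1 := by
  rw [S4_swapM_eq_permMatrix, Matrix.det_permutation]
  have : Equiv.Perm.sign (Equiv.prodComm (Fin 2) (Fin 2) : Equiv.Perm (Fin 2 × Fin 2)) = -1 := by
    decide
  rw [this]
  simp

theorem S4_Q0_swap (X : Fin 2 × Fin 2 → F) :
    Q0 ((S4_swapM : Matrix (Fin 2 × Fin 2) (Fin 2 × Fin 2) F) *ᵥ X) = Q0 X := by
  simp only [Q0, S4_swapM_mulVec, Prod.swap_prod_mk]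
  ring

/-- the unit matrix as a vector of `M₂(F)` -/
def S4_one : Fin 2 × Fin 2 → F := fun x => if x.1 = x.2 then 1 else 0

theorem S4_Q0_one : Q0 (S4_one : Fin 2 × Fin 2 → F) = 1 := by
  simp [Q0, S4_one]

/-- **Similitudes of a plus-type symmetric form on `F⁴`.** -/
theorem S4_sim_cases (h2 : (2 : F) ≠ 0) (G₂ : Matrix (Fin 4) (Fin 4) F) (T : GL (Fin 4) F)
    (hTH : (T : Matrix (Fin 4) (Fin 4) F)ᵀ * G₂ * (T : Matrix (Fin 4) (Fin 4) F) = S4_H)
    (b : GL (Fin 4) F) (ν : F) (hν : ν ≠ 0)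
    (hb : (b : Matrix (Fin 4) (Fin 4) F)ᵀ * G₂ * (b : Matrix (Fin 4) (Fin 4) F) = ν • G₂) :
    ∃ k ∈ kroneckerSubgroup 2 2 F,
      (glReindex S4_eps (T⁻¹ * b * T) = k ∧ (b : Matrix (Fin 4) (Fin 4) F).det = ν ^ 2) ∨
      (glReindex S4_eps (T⁻¹ * b * T) = k * S4_swapG ∧
        (b : Matrix (Fin 4) (Fin 4) F).det = -ν ^ 2) := by
  have hb₀ : ((T⁻¹ * b * T : GL (Fin 4) F) : Matrix (Fin 4) (Fin 4) F)ᵀ * S4_H *
      ((T⁻¹ * b * T : GL (Fin 4) F) : Matrix (Fin 4) (Fin 4) F) = ν • S4_H := by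
    rw [← hTH, Units.val_mul, Units.val_mul, S4_conj_congr _ _ _ _
      (by rw [← Units.val_mul, mul_inv_cancel, Units.val_one]), hb, Matrix.mul_smul,
      Matrix.smul_mul]
  have hQ : ∀ X : Fin 2 × Fin 2 → F,
      Q0 (((glReindex S4_eps (T⁻¹ * b * T) : GL (Fin 2 × Fin 2) F) :
        Matrix (Fin 2 × Fin 2) (Fin 2 × Fin 2) F) *ᵥ X) = ν * Q0 X := by
    intro X
    have h1 := S4_two_Q0 (((T⁻¹ * b * T : GL (Fin 4) F) : Matrix (Fin 4) (Fin 4) F) *ᵥ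
      (X ∘ S4_eps))
    rw [S4_formOfGram_mulVec, hb₀, Cfsg.Agent.Lib.H8.AschS.formOfGram_smul_matrix, S4_two_Q0] at h1
    have h3 : ((glReindex S4_eps (T⁻¹ * b * T) : GL (Fin 2 × Fin 2) F) :
        Matrix (Fin 2 × Fin 2) (Fin 2 × Fin 2) F) *ᵥ X =
        (((T⁻¹ * b * T : GL (Fin 4) F) : Matrix (Fin 4) (Fin 4) F) *ᵥ (X ∘ S4_eps)) ∘
          S4_eps.symm := Cfsg.Agent.Lib.H11.AschS.glReindex_mulVec' S4_eps _ X
    have h4 : (X ∘ S4_eps) ∘ S4_eps.symm = X := by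
      funext z
      simp
    rw [h3]
    rw [h4] at h1
    exact mul_left_cancel₀ h2 (by linear_combination -h1)
  obtain ⟨k, hk, hb'⟩ := S4_key (glReindex S4_eps (T⁻¹ * b * T)) ν hν hQ
  refine ⟨k, hk, ?_⟩
  -- determinants
  have hdetb : (b : Matrix (Fin 4) (Fin 4) F).det =
      ((glReindex S4_eps (T⁻¹ * b * T) : GL (Fin 2 × Fin 2) F) :
        Matrix (Fin 2 × Fin 2) (Fin 2 × Fin 2) F).det := by
    rw [Cfsg.Agent.Lib.H11.AschS.glReindex_val', Matrix.det_reindex_self, Units.val_mul,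
      Units.val_mul, Matrix.det_mul, Matrix.det_mul, mul_comm, ← mul_assoc, ← Matrix.det_mul,
      ← Units.val_mul, mul_inv_cancel, Units.val_one, Matrix.det_one, one_mul]
  obtain ⟨C, D, hCD⟩ := hk
  have hdetk : (k : Matrix (Fin 2 × Fin 2) (Fin 2 × Fin 2) F).det =
      ((C : Matrix (Fin 2) (Fin 2) F).det * (D : Matrix (Fin 2) (Fin 2) F).det) ^ 2 := by
    rw [hCD, Matrix.det_kronecker]
    simp only [Fintype.card_fin]
    ring
  rcases hb' with hb' | hb'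
  · left
    refine ⟨hb', ?_⟩
    have h5 := hQ S4_one
    rw [hb', hCD, Q0_kronecker_mulVec, S4_Q0_one, mul_one, mul_one] at h5
    rw [hdetb, hb', hdetk, h5]
  · right
    refine ⟨hb', ?_⟩
    have h5 := hQ S4_one
    rw [hb', Units.val_mul, S4_swapG_val, ← Matrix.mulVec_mulVec, hCD, Q0_kronecker_mulVec,
      S4_Q0_swap, S4_Q0_one, mul_one, mul_one] at h5
    rw [hdetb, hb', Units.val_mul, Matrix.det_mul, S4_swapG_val, S4_swapM_det, hdetk, h5]
    ring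

end Cfsg.Agent.Lib.H3.AschSP2
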