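import Mathlib
import Cfsg.Agent.Lib.H8.AschUM2Defs
import Cfsg.Agent.Lib.H4.Herm

/-!
# S5663 project, UM2-K part a (helper3): the hermitian form `hermForm n F q`, orthogonals, dimensions
-/

set_option autoImplicit false

namespace Cfsg.Agent.Lib.H3.Asch

open Cfsg Cfsg.Geo Cfsg.Agent.Lib.Lead.Asch Cfsg.Agent.Lib.H8.Asch Cfsg.Agent.Lib.H4
open scoped MatrixGroups Matrix

variable {F : Type*} [Field F] [Fintype F] {n q : ℕ}

/-- `f(·, v)` as a linear form. -/
noncomputable def UM2K_hermLin (q : ℕ) (v : Fin n → F) : (Fin n → F) →ₗ[F] F where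
  toFun := fun u => hermForm n F q u v
  map_add' := fun a b => hermForm_add_left n a b v
  map_smul' := fun c a => by
    rw [hermForm_smul_left n, RingHom.id_apply, smul_eq_mul]

theorem UM2K_hermLin_apply (v u : Fin n → F) : UM2K_hermLin q v u = hermForm n F q u v := rfl

theorem UM2K_herm_zero_left (v : Fin n → F) : hermForm n F q 0 v = 0 := by
  simp [hermForm]

theorem UM2K_herm_zero_iff (hF : Fintype.card F = q ^ 2) (u v : Fin n → F) :
    hermForm n F q u v = 0 ↔ hermForm n F q v u = 0 := by
  constructor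
  · intro h
    rw [← hermForm_conj n hF, h]
    apply zero_pow
    rintro rfl
    rw [zero_pow (by norm_num)] at hF
    exact Fintype.card_ne_zero hF
  · intro h
    rw [← hermForm_conj n hF, h]
    apply zero_pow
    rintro rfl
    rw [zero_pow (by norm_num)] at hF
    exact Fintype.card_ne_zero hF

/-- global nondegeneracy -/
theorem UM2K_nondeg (w : Fin n → F) (h : ∀ v, hermForm n F q v w = 0) : w = 0 := by
  classical
  funext i
  have := h (Pi.single i 1)
  simp only [hermForm, Pi.single_apply, ite_mul, one_mul, zero_mul, Finset.sum_ite_eq',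
    Finset.mem_univ, if_true] at this
  exact eq_zero_of_pow_eq_zero this  

/-- orthogonality is symmetric -/
theorem UM2K_orth_symm (hF : Fintype.card F = q ^ 2) {W W' : Submodule F (Fin n → F)}
    (h : AreOrthogonalFor (hermForm n F q) W W') : AreOrthogonalFor (hermForm n F q) W' W :=
  fun u hu v hv => (UM2K_herm_zero_iff hF v u).mp (h v hv u hu)

theorem UM2K_le_hperp_iff {W W' : Submodule F (Fin n → F)} :
    W ≤ hperp q W' ↔ AreOrthogonalFor (hermForm n F q) W W' :=
  ⟨fun h u hu v hv => h hu v hv, fun h u hu v hv => h u hu v hv⟩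

/-- orthogonality with a supremum on the left -/
theorem UM2K_orth_iSup_left {ι : Sort*} (A : ι → Submodule F (Fin n → F)) (W : Submodule F (Fin n → F))
    (h : ∀ i, AreOrthogonalFor (hermForm n F q) (A i) W) :
    AreOrthogonalFor (hermForm n F q) (⨆ i, A i) W := by
  rw [← UM2K_le_hperp_iff]
  exact iSup_le fun i => UM2K_le_hperp_iff.mpr (h i)

theorem UM2K_orth_sup_left {A B W : Submodule F (Fin n → F)}
    (hA : AreOrthogonalFor (hermForm n F q) A W) (hB : AreOrthogonalFor (hermForm n F q) B W) :
    AreOrthogonalFor (hermForm n F q) (A ⊔ B) W := by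
  rw [← UM2K_le_hperp_iff] at *
  exact sup_le hA hB

theorem UM2K_orth_sup_right (hF : Fintype.card F = q ^ 2) {A B W : Submodule F (Fin n → F)}
    (hA : AreOrthogonalFor (hermForm n F q) W A) (hB : AreOrthogonalFor (hermForm n F q) W B) :
    AreOrthogonalFor (hermForm n F q) W (A ⊔ B) :=
  UM2K_orth_symm hF (UM2K_orth_sup_left (UM2K_orth_symm hF hA) (UM2K_orth_symm hF hB))

theorem UM2K_orth_mono {A A' B B' : Submodule F (Fin n → F)} (hA : A' ≤ A) (hB : B' ≤ B)
    (h : AreOrthogonalFor (hermForm n F q) A B) : AreOrthogonalFor (hermForm n F q) A' B' :=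
  fun u hu v hv => h u (hA hu) v (hB hv)

/-- the dimension inequality `n ≤ dim W^⊥ + dim W` -/
theorem UM2K_finrank_hperp (hF : Fintype.card F = q ^ 2) (W : Submodule F (Fin n → F)) :
    n ≤ Module.finrank F (hperp q W) + Module.finrank F W := by
  classical
  set k := Module.finrank F W with hk
  let b := Module.finBasis F W
  let Ψ : (Fin n → F) →ₗ[F] (Fin k → F) :=
    LinearMap.pi (fun j => UM2K_hermLin q ((b j : W) : Fin n → F))
  have hker : LinearMap.ker Ψ ≤ hperp q W := by
    intro v hv w hw
    have hv' : ∀ j, hermForm n F q v ((b j : W) : Fin n → F) = 0 := by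
      intro j
      have := congrFun (LinearMap.mem_ker.mp hv) j
      simpa [Ψ, UM2K_hermLin_apply] using this
    -- the linear form `f(·, v)` vanishes on `W`
    have h0 : (UM2K_hermLin q v) ∘ₗ W.subtype = 0 := by
      apply b.ext
      intro j
      simp only [LinearMap.comp_apply, Submodule.subtype_apply, LinearMap.zero_apply,
        UM2K_hermLin_apply]
      exact (UM2K_herm_zero_iff hF _ _).mp (hv' j)
    have h1 := LinearMap.congr_fun h0 ⟨w, hw⟩
    simp only [LinearMap.comp_apply, Submodule.subtype_apply, LinearMap.zero_apply,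
      UM2K_hermLin_apply] at h1
    exact (UM2K_herm_zero_iff hF _ _).mp h1
  have hrn := LinearMap.finrank_range_add_finrank_ker Ψ
  have h1 : Module.finrank F (LinearMap.range Ψ) ≤ k := by
    have := Submodule.finrank_le (LinearMap.range Ψ)
    simpa using this
  have h2 : Module.finrank F (LinearMap.ker Ψ) ≤ Module.finrank F (hperp q W) :=
    Submodule.finrank_mono hker
  have h3 : Module.finrank F (Fin n → F) = n := by simp
  omega

/-- elements of `GU` are isometries -/
theorem UM2K_gu_apply {g : GL (Fin n) F} (hg : g ∈ GU n F q) (u v : Fin n → F) :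
    hermForm n F q ((g : Matrix (Fin n) (Fin n) F) *ᵥ u) ((g : Matrix (Fin n) (Fin n) F) *ᵥ v) =
      hermForm n F q u v := hg u v

theorem UM2K_orth_map {g : GL (Fin n) F} (hg : g ∈ GU n F q) {W W' : Submodule F (Fin n → F)} :
    AreOrthogonalFor (hermForm n F q)
      (W.map (Matrix.toLin' ((g : GL (Fin n) F) : Matrix (Fin n) (Fin n) F)))
      (W'.map (Matrix.toLin' ((g : GL (Fin n) F) : Matrix (Fin n) (Fin n) F))) ↔
    AreOrthogonalFor (hermForm n F q) W W' := by
  constructor
  · intro h u hu v hv
    have := h _ (Submodule.mem_map_of_mem hu) _ (Submodule.mem_map_of_mem hv)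
    rwa [Matrix.toLin'_apply, Matrix.toLin'_apply, UM2K_gu_apply hg] at this
  · rintro h _ ⟨u, hu, rfl⟩ _ ⟨v, hv, rfl⟩
    rw [Matrix.toLin'_apply, Matrix.toLin'_apply, UM2K_gu_apply hg]
    exact h u hu v hv

theorem UM2K_toLin_injective (g : GL (Fin n) F) :
    Function.Injective (Matrix.toLin' ((g : GL (Fin n) F) : Matrix (Fin n) (Fin n) F)) := by
  intro u v h
  rw [Matrix.toLin'_apply, Matrix.toLin'_apply] at h
  have := congrArg (fun x => ((g⁻¹ : GL (Fin n) F) : Matrix (Fin n) (Fin n) F) *ᵥ x) h
  simpa [Matrix.mulVec_mulVec, ← Units.val_mul] using this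

theorem UM2K_finrank_map (g : GL (Fin n) F) (W : Submodule F (Fin n → F)) :
    Module.finrank F (W.map (Matrix.toLin' ((g : GL (Fin n) F) : Matrix (Fin n) (Fin n) F))) =
      Module.finrank F W :=
  (Submodule.equivMapOfInjective _ (UM2K_toLin_injective g) W).finrank_eq.symm

theorem UM2K_map_injective (g : GL (Fin n) F) :
    Function.Injective (fun W : Submodule F (Fin n → F) =>
      W.map (Matrix.toLin' ((g : GL (Fin n) F) : Matrix (Fin n) (Fin n) F))) :=
  Submodule.map_injective_of_injective (UM2K_toLin_injective g)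

end Cfsg.Agent.Lib.H3.Asch
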