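import Mathlib
import Cfsg.Agent.Lib.H3.AschUM2Ka

/-!
# S5663 project, UM2-K part b (helper3): the pairing of the components and the blocks
-/

set_option autoImplicit false

namespace Cfsg.Agent.Lib.H3.Asch

open Cfsg Cfsg.Geo Cfsg.Agent.Lib.Lead.Asch Cfsg.Agent.Lib.H8.Asch Cfsg.Agent.Lib.H4
open scoped MatrixGroups Matrix

variable {F : Type*} [Field F] [Fintype F] {n q : ℕ}

/-- the linear map of an element of `GL` -/
noncomputable abbrev UM2K_gm (g : GL (Fin n) F) : (Fin n → F) →ₗ[F] (Fin n → F) :=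
  Matrix.toLin' ((g : GL (Fin n) F) : Matrix (Fin n) (Fin n) F)

/-- The abstract setting: an independent family of non-zero subspaces with sum `⊤`, permuted transitively by `H`. -/
structure UM2K_Sys (H : Subgroup (GL (Fin n) F)) {ι : Type*} (A : ι → Submodule F (Fin n → F)) : Prop where
  indep : iSupIndep A
  top : iSup A = ⊤
  ne : ∀ i, A i ≠ ⊥
  map : ∀ g ∈ H, ∀ i, ∃ j, (A i).map (UM2K_gm g) = A j
  trans : ∀ i j, ∃ g ∈ H, (A i).map (UM2K_gm g) = A j

section
variable {H : Subgroup (GL (Fin n) F)} {ι : Type*} {A : ι → Submodule F (Fin n → F)}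

/-- orthogonality of two members -/
def UM2K_orth (q : ℕ) (A : ι → Submodule F (Fin n → F)) (i j : ι) : Prop :=
  AreOrthogonalFor (hermForm n F q) (A i) (A j)

theorem UM2K_Sys.orth_symm (hF : Fintype.card F = q ^ 2) {i j : ι} (h : UM2K_orth q A i j) :
    UM2K_orth q A j i := UM2K_orth_symm hF h

theorem UM2K_Sys.finrank_eq (S : UM2K_Sys H A) (i j : ι) :
    Module.finrank F (A i) = Module.finrank F (A j) := by
  obtain ⟨g, _, hg⟩ := S.trans i j
  rw [← hg, UM2K_finrank_map]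

theorem UM2K_Sys.injective (S : UM2K_Sys H A) : Function.Injective A :=
  S.indep.injective S.ne

theorem UM2K_Sys.exists_not_orth (S : UM2K_Sys H A) (j : ι) : ∃ i, ¬ UM2K_orth q A i j := by
  by_contra hcon
  have hall : ∀ i, UM2K_orth q A i j := fun i => by
    by_contra h
    exact hcon ⟨i, h⟩
  have htop : (⊤ : Submodule F (Fin n → F)) ≤ hperp q (A j) := by
    rw [← S.top]
    exact iSup_le fun i => UM2K_le_hperp_iff.mpr (hall i)
  apply S.ne j
  rw [Submodule.eq_bot_iff]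
  intro w hw
  apply UM2K_nondeg (q := q) w
  intro v
  exact htop (Submodule.mem_top : v ∈ ⊤) w hw

theorem UM2K_Sys.unique_not_orth (S : UM2K_Sys H A) (hF : Fintype.card F = q ^ 2)
    (hP : ∀ j, hperp q (A j) = ⨆ i ∈ {i | UM2K_orth q A i j}, A i)
    {i₁ i₂ j : ι} (h1 : ¬ UM2K_orth q A i₁ j) (h2 : ¬ UM2K_orth q A i₂ j) : i₁ = i₂ := by
  by_contra hne
  have hdisj : Disjoint (hperp q (A j)) (A i₁ ⊔ A i₂) := by
    rw [hP j, ← iSup_pair]
    apply S.indep.disjoint_biSup_biSup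
    rw [Set.disjoint_left]
    intro i hi hi'
    rcases hi' with rfl | rfl
    · exact h1 hi
    · exact h2 hi
  have hle := Submodule.finrank_add_finrank_le_of_disjoint hdisj
  have h12 : Disjoint (A i₁) (A i₂) := S.indep.pairwiseDisjoint hne
  have hsum := Submodule.finrank_sup_add_finrank_inf_eq (A i₁) (A i₂)
  rw [h12.eq_bot, finrank_bot, add_zero] at hsum
  have hn := UM2K_finrank_hperp hF (A j)
  have e1 := S.finrank_eq i₁ j
  have e2 := S.finrank_eq i₂ j
  have hV : Module.finrank F (Fin n → F) = n := by simp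
  have hpos : 0 < Module.finrank F (A j) := by
    rw [Nat.pos_iff_ne_zero, Ne, Submodule.finrank_eq_zero]
    exact S.ne j
  omega

/-- the pairing `p` -/
theorem UM2K_Sys.exists_p (S : UM2K_Sys H A) (hF : Fintype.card F = q ^ 2)
    (hP : ∀ j, hperp q (A j) = ⨆ i ∈ {i | UM2K_orth q A i j}, A i) :
    ∃ p : ι → ι, ∀ i j, (¬ UM2K_orth q A i j ↔ i = p j) := by
  choose p hp using S.exists_not_orth (q := q)
  exact ⟨p, fun i j => ⟨fun h => S.unique_not_orth hF hP h (hp j), fun h => h ▸ hp j⟩⟩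

variable {p : ι → ι}

theorem UM2K_p_invol (hF : Fintype.card F = q ^ 2) (hp : ∀ i j, (¬ UM2K_orth q A i j ↔ i = p j))
    (j : ι) : p (p j) = j := by
  have h1 : ¬ UM2K_orth q A (p j) j := (hp _ _).mpr rfl
  have h2 : ¬ UM2K_orth q A j (p j) := fun h => h1 (UM2K_orth_symm hF h)
  exact ((hp _ _).mp h2).symm

theorem UM2K_p_injective (hF : Fintype.card F = q ^ 2) (hp : ∀ i j, (¬ UM2K_orth q A i j ↔ i = p j)) :
    Function.Injective p := by
  intro i j h
  rw [← UM2K_p_invol hF hp i, h, UM2K_p_invol hF hp j]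

theorem UM2K_orth_of_ne (hp : ∀ i j, (¬ UM2K_orth q A i j ↔ i = p j)) {i j : ι} (h : i ≠ p j) :
    UM2K_orth q A i j := by
  by_contra h'
  exact h ((hp i j).mp h')

/-- the permutation of the indices induced by `g ∈ H` commutes with `p` -/
theorem UM2K_sigma_p (S : UM2K_Sys H A) (hH : H ≤ GU n F q)
    (hp : ∀ i j, (¬ UM2K_orth q A i j ↔ i = p j)) {g : GL (Fin n) F} (hg : g ∈ H) {σ : ι → ι}
    (hσ : ∀ i, (A i).map (UM2K_gm g) = A (σ i)) (j : ι) : σ (p j) = p (σ j) := by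
  have h1 : ¬ UM2K_orth q A (p j) j := (hp _ _).mpr rfl
  apply (hp _ _).mp
  intro h
  apply h1
  unfold UM2K_orth at h
  rw [← hσ, ← hσ] at h
  exact (UM2K_orth_map (hH hg)).mp h

/-- the blocks -/
def UM2K_b (A : ι → Submodule F (Fin n → F)) (p : ι → ι) (j : ι) : Submodule F (Fin n → F) :=
  A j ⊔ A (p j)

/-- the sum of the members outside the block of `j` -/
def UM2K_Z (A : ι → Submodule F (Fin n → F)) (p : ι → ι) (j : ι) : Submodule F (Fin n → F) :=
  ⨆ i ∈ {i | i ≠ j ∧ i ≠ p j}, A i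

theorem UM2K_b_p (hF : Fintype.card F = q ^ 2) (hp : ∀ i j, (¬ UM2K_orth q A i j ↔ i = p j)) (j : ι) :
    UM2K_b A p (p j) = UM2K_b A p j := by
  unfold UM2K_b
  rw [UM2K_p_invol hF hp, sup_comm]

theorem UM2K_map_b (S : UM2K_Sys H A) (hH : H ≤ GU n F q)
    (hp : ∀ i j, (¬ UM2K_orth q A i j ↔ i = p j)) {g : GL (Fin n) F} (hg : g ∈ H) {σ : ι → ι}
    (hσ : ∀ i, (A i).map (UM2K_gm g) = A (σ i)) (j : ι) :
    (UM2K_b A p j).map (UM2K_gm g) = UM2K_b A p (σ j) := by
  unfold UM2K_b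
  rw [Submodule.map_sup, hσ, hσ, UM2K_sigma_p S hH hp hg hσ]

theorem UM2K_A_le_b_iff (S : UM2K_Sys H A) (i j : ι) :
    A i ≤ UM2K_b A p j ↔ i = j ∨ i = p j := by
  constructor
  · intro h
    by_contra hcon
    rw [not_or] at hcon
    have hd : Disjoint (A i) (⨆ k ∈ ({j, p j} : Set ι), A k) := by
      apply S.indep.disjoint_biSup
      intro hmem
      rcases hmem with h1 | h1
      · exact hcon.1 h1
      · exact hcon.2 h1
    rw [iSup_pair] at hd
    exact S.ne i (hd.eq_bot_of_le h)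
  · rintro (rfl | rfl)
    · exact le_sup_left
    · exact le_sup_right

theorem UM2K_b_eq_iff (S : UM2K_Sys H A) (hF : Fintype.card F = q ^ 2)
    (hp : ∀ i j, (¬ UM2K_orth q A i j ↔ i = p j)) (i j : ι) :
    UM2K_b A p i = UM2K_b A p j ↔ i = j ∨ i = p j := by
  constructor
  · intro h
    apply (UM2K_A_le_b_iff S i j).mp
    rw [← h]
    exact le_sup_left
  · rintro (rfl | rfl)
    · rfl
    · exact UM2K_b_p hF hp j

theorem UM2K_orth_b (hF : Fintype.card F = q ^ 2) (hp : ∀ i j, (¬ UM2K_orth q A i j ↔ i = p j))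
    {i j : ι} (h1 : i ≠ j) (h2 : i ≠ p j) :
    AreOrthogonalFor (hermForm n F q) (UM2K_b A p i) (UM2K_b A p j) := by
  have hpp := UM2K_p_invol hF hp
  have hinj := UM2K_p_injective hF hp
  have o1 : UM2K_orth q A i j := UM2K_orth_of_ne hp h2
  have o2 : UM2K_orth q A i (p j) := UM2K_orth_of_ne hp (by rw [hpp]; exact h1)
  have o3 : UM2K_orth q A (p i) j := UM2K_orth_of_ne hp (fun h => h1 (hinj h))
  have o4 : UM2K_orth q A (p i) (p j) := UM2K_orth_of_ne hp (by
    rw [hpp]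
    intro h
    apply h2
    rw [← h, hpp])
  exact UM2K_orth_sup_left (UM2K_orth_sup_right hF o1 o2) (UM2K_orth_sup_right hF o3 o4)

theorem UM2K_b_sup_Z (S : UM2K_Sys H A) (j : ι) : UM2K_b A p j ⊔ UM2K_Z A p j = ⊤ := by
  rw [eq_top_iff, ← S.top]
  apply iSup_le
  intro i
  by_cases h : i = j ∨ i = p j
  · exact ((UM2K_A_le_b_iff S i j).mpr h).trans le_sup_left
  · rw [not_or] at h
    refine le_trans ?_ le_sup_right
    unfold UM2K_Z
    exact le_biSup A (show i ∈ {i | i ≠ j ∧ i ≠ p j} from h)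

theorem UM2K_orth_Z_b (hF : Fintype.card F = q ^ 2) (hp : ∀ i j, (¬ UM2K_orth q A i j ↔ i = p j))
    (j : ι) : AreOrthogonalFor (hermForm n F q) (UM2K_Z A p j) (UM2K_b A p j) := by
  have hpp := UM2K_p_invol hF hp
  unfold UM2K_Z
  apply UM2K_orth_iSup_left
  intro i
  apply UM2K_orth_iSup_left
  intro hi
  exact UM2K_orth_sup_right hF (UM2K_orth_of_ne hp hi.2)
    (UM2K_orth_of_ne hp (by rw [hpp]; exact hi.1))

theorem UM2K_disjoint_b_Z (S : UM2K_Sys H A) (j : ι) : Disjoint (UM2K_b A p j) (UM2K_Z A p j) := by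
  unfold UM2K_b UM2K_Z
  rw [← iSup_pair]
  apply S.indep.disjoint_biSup_biSup
  rw [Set.disjoint_left]
  intro i hi hi'
  rcases hi with rfl | rfl
  · exact hi'.1 rfl
  · exact hi'.2 rfl

theorem UM2K_b_le_Z (hF : Fintype.card F = q ^ 2) (hp : ∀ i j, (¬ UM2K_orth q A i j ↔ i = p j))
    {i j : ι} (h1 : i ≠ j) (h2 : i ≠ p j) : UM2K_b A p i ≤ UM2K_Z A p j := by
  have hpp := UM2K_p_invol hF hp
  have hinj := UM2K_p_injective hF hp
  unfold UM2K_b UM2K_Z
  apply sup_le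
  · exact le_biSup A (show i ∈ {i | i ≠ j ∧ i ≠ p j} from ⟨h1, h2⟩)
  · refine le_biSup A (show p i ∈ {i | i ≠ j ∧ i ≠ p j} from ⟨?_, fun h => h1 (hinj h)⟩)
    intro h
    apply h2
    rw [← h, hpp]

theorem UM2K_nondeg_b (S : UM2K_Sys H A) (hF : Fintype.card F = q ^ 2)
    (hp : ∀ i j, (¬ UM2K_orth q A i j ↔ i = p j)) (j : ι) :
    IsNondegenerateOn (hermForm n F q) (UM2K_b A p j) := by
  intro w hw hw0
  have hex : ∃ x ∈ UM2K_b A p j, hermForm n F q x w ≠ 0 := by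
    by_contra hcon
    apply hw0
    apply UM2K_nondeg (q := q) w
    intro v
    have hv : v ∈ UM2K_b A p j ⊔ UM2K_Z A p j := by rw [UM2K_b_sup_Z S j]; trivial
    obtain ⟨x, hx, y, hy, rfl⟩ := Submodule.mem_sup.mp hv
    rw [hermForm_add_left, UM2K_orth_Z_b hF hp j y hy w hw, add_zero]
    by_contra h
    exact hcon ⟨x, hx, h⟩
  refine ⟨hex, ?_⟩
  obtain ⟨x, hx, hxw⟩ := hex
  refine ⟨x, hx, ?_⟩
  intro h
  exact hxw ((UM2K_herm_zero_iff hF _ _).mp h)

theorem UM2K_finrank_b (S : UM2K_Sys H A) (hH : H ≤ GU n F q)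
    (hp : ∀ i j, (¬ UM2K_orth q A i j ↔ i = p j)) (i j : ι) :
    Module.finrank F (UM2K_b A p i) = Module.finrank F (UM2K_b A p j) := by
  obtain ⟨g, hg, hgij⟩ := S.trans i j
  choose σ hσ using S.map g hg
  have hσi : σ i = j := S.injective (by rw [← hσ, hgij])
  rw [← hσi, ← UM2K_map_b S hH hp hg hσ, UM2K_finrank_map]

end

end Cfsg.Agent.Lib.H3.Asch
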