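import Mathlib
import Cfsg.Agent.Lib.H3.AschUM2Kb

/-!
# S5663 project, UM2-K (helper3): transitively permuted components with orthogonals in the family
give a class-2 member of the unitary group
-/

set_option autoImplicit false

namespace Cfsg.Agent.Lib.H3.Asch

open Cfsg Cfsg.Geo Cfsg.Agent.Lib.Lead.Asch Cfsg.Agent.Lib.H8.Asch Cfsg.Agent.Lib.H4
open scoped MatrixGroups Matrix Kronecker

variable {F : Type*} [Field F] [Fintype F] {n q : ℕ}

section
variable {H : Subgroup (GL (Fin n) F)} {ι : Type*} {A : ι → Submodule F (Fin n → F)} {p : ι → ι}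

/-- two totally singular members -/
theorem UM2K_uc2b (S : UM2K_Sys H A) (hF : Fintype.card F = q ^ 2) (hH : H ≤ GU n F q)
    (hp : ∀ i j, (¬ UM2K_orth q A i j ↔ i = p j)) (i₀ : ι) (hall : ∀ i, i = i₀ ∨ i = p i₀)
    (hne : p i₀ ≠ i₀) : UC2b q H := by
  have hpp := UM2K_p_invol hF hp
  set D : Fin 2 → Submodule F (Fin n → F) := ![A i₀, A (p i₀)] with hD
  have hdisj : Disjoint (A i₀) (A (p i₀)) := S.indep.pairwiseDisjoint (Ne.symm hne)
  have hsup : A i₀ ⊔ A (p i₀) = ⊤ := by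
    rw [eq_top_iff, ← S.top]
    apply iSup_le
    intro i
    rcases hall i with rfl | rfl
    · exact le_sup_left
    · exact le_sup_right
  have hcompl : IsCompl (A i₀) (A (p i₀)) := ⟨hdisj, codisjoint_iff.mpr hsup⟩
  have hfr := Submodule.finrank_add_eq_of_isCompl hcompl
  have hV : Module.finrank F (Fin n → F) = n := by simp
  have he := S.finrank_eq (p i₀) i₀
  refine ⟨Module.finrank F (A i₀), D, by omega, ⟨le_refl 2, ?_, ?_, ?_, ?_⟩, ?_, ?_⟩
  · rw [Nat.pos_iff_ne_zero, Ne, Submodule.finrank_eq_zero]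
    exact S.ne i₀
  · intro i
    fin_cases i
    · rfl
    · exact he
  · refine (iSupIndep_pair (i := (0 : Fin 2)) (j := 1) (by decide) ?_).mpr hdisj
    intro k
    fin_cases k
    · left; rfl
    · right; rfl
  · rw [eq_top_iff, ← hsup]
    exact sup_le (le_iSup D 0) (le_iSup D 1)
  · intro i
    fin_cases i
    · exact UM2K_orth_of_ne hp (Ne.symm hne)
    · refine UM2K_orth_of_ne (A := A) hp ?_
      rw [hpp]
      exact hne
  · intro g hg
    choose σ hσ using S.map g hg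
    have hcomm := UM2K_sigma_p S hH hp hg hσ
    rcases hall (σ i₀) with h | h
    · refine ⟨1, ?_⟩
      intro i
      fin_cases i
      · show (A i₀).map _ = A i₀
        rw [hσ, h]
      · show (A (p i₀)).map _ = A (p i₀)
        rw [hσ, hcomm, h]
    · refine ⟨Equiv.swap 0 1, ?_⟩
      intro i
      fin_cases i
      · show (A i₀).map _ = A (p i₀)
        rw [hσ, h]
      · show (A (p i₀)).map _ = A i₀
        rw [hσ, hcomm, h, hpp]

/-- at least two blocks -/
theorem UM2K_uc2a [Finite ι] (S : UM2K_Sys H A) (hF : Fintype.card F = q ^ 2) (hH : H ≤ GU n F q)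
    (hp : ∀ i j, (¬ UM2K_orth q A i j ↔ i = p j)) (i₀ : ι) (hex : ∃ i, i ≠ i₀ ∧ i ≠ p i₀) :
    UC2a q H := by
  classical
  set B : Set (Submodule F (Fin n → F)) := Set.range (UM2K_b A p) with hB
  haveI : Finite B := (Set.finite_range _).to_subtype
  set t := Nat.card B with ht
  let e : Fin t ≃ B := (Finite.equivFin B).symm
  set D : Fin t → Submodule F (Fin n → F) := fun x => (e x).1 with hD
  have hDb : ∀ x, ∃ i, UM2K_b A p i = D x := fun x => (e x).2
  have hbD : ∀ i, ∃ x, D x = UM2K_b A p i := fun i => ⟨e.symm ⟨_, i, rfl⟩, by simp [D]⟩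
  have hindepB : sSupIndep B := by
    rintro x ⟨j, rfl⟩
    refine (UM2K_disjoint_b_Z S j).mono_right ?_
    apply sSup_le
    rintro y ⟨⟨i, rfl⟩, hy⟩
    have hne : UM2K_b A p i ≠ UM2K_b A p j := hy
    rw [Ne, UM2K_b_eq_iff S hF hp, not_or] at hne
    exact UM2K_b_le_Z hF hp hne.1 hne.2
  have hindepD : iSupIndep D := ((sSupIndep_iff B).mp hindepB).comp e.injective
  have htopD : iSup D = ⊤ := by
    rw [eq_top_iff, ← S.top]
    apply iSup_le
    intro i
    obtain ⟨x, hx⟩ := hbD i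
    have h1 : UM2K_b A p i ≤ iSup D := by
      rw [← hx]
      exact le_iSup D x
    exact (le_sup_left : A i ≤ UM2K_b A p i).trans h1
  have hk : ∀ x, Module.finrank F (D x) = Module.finrank F (UM2K_b A p i₀) := by
    intro x
    obtain ⟨i, hi⟩ := hDb x
    rw [← hi]
    exact UM2K_finrank_b S hH hp i i₀
  refine ⟨t, Module.finrank F (UM2K_b A p i₀), D, ⟨⟨?_, ?_, hk, hindepD, htopD⟩, ?_, ?_⟩, ?_⟩
  · obtain ⟨i, h1, h2⟩ := hex
    have hne : UM2K_b A p i ≠ UM2K_b A p i₀ := by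
      rw [Ne, UM2K_b_eq_iff S hF hp, not_or]
      exact ⟨h1, h2⟩
    have : Nontrivial B := ⟨⟨⟨_, i, rfl⟩, ⟨_, i₀, rfl⟩, fun h => hne (congrArg Subtype.val h)⟩⟩
    exact Finite.one_lt_card_iff_nontrivial.mpr this
  · rw [Nat.pos_iff_ne_zero, Ne, Submodule.finrank_eq_zero]
    intro h
    apply S.ne i₀
    rw [eq_bot_iff, ← h]
    exact le_sup_left
  · intro x
    obtain ⟨i, hi⟩ := hDb x
    rw [← hi]
    exact UM2K_nondeg_b S hF hp i
  · intro x y hxy
    obtain ⟨i, hi⟩ := hDb x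
    obtain ⟨j, hj⟩ := hDb y
    rw [← hi, ← hj]
    have hne : UM2K_b A p i ≠ UM2K_b A p j := by
      rw [hi, hj]
      intro h
      apply hxy
      apply e.injective
      exact Subtype.ext h
    rw [Ne, UM2K_b_eq_iff S hF hp, not_or] at hne
    exact UM2K_orth_b hF hp hne.1 hne.2
  · intro g hg
    choose σ hσ using S.map g hg
    have hmb := UM2K_map_b S hH hp hg hσ
    let φ : B → B := fun y => ⟨y.1.map (UM2K_gm g), by
      obtain ⟨i, hi⟩ := y.2
      exact ⟨σ i, by rw [← hi, hmb]⟩⟩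
    have hφinj : Function.Injective φ := by
      intro y y' h
      apply Subtype.ext
      exact UM2K_map_injective g (congrArg Subtype.val h)
    have hφbij : Function.Bijective φ := Finite.injective_iff_bijective.mp hφinj
    refine ⟨e.trans ((Equiv.ofBijective φ hφbij).trans e.symm), fun x => ?_⟩
    simp only [Equiv.trans_apply, D, Equiv.apply_symm_apply, Equiv.ofBijective_apply]
    rfl

theorem UM2K_uc2_of_sys [Finite ι] [Nontrivial ι] (S : UM2K_Sys H A) (hF : Fintype.card F = q ^ 2)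
    (hH : H ≤ GU n F q)
    (hP : ∀ j, hperp q (A j) = ⨆ i ∈ {i | UM2K_orth q A i j}, A i) : UC2 q H := by
  obtain ⟨p, hp⟩ := S.exists_p hF hP
  by_cases h : ∃ i₀, ∀ i, i = i₀ ∨ i = p i₀
  · obtain ⟨i₀, hall⟩ := h
    right
    obtain ⟨i, hi⟩ := exists_ne i₀
    have hne : p i₀ ≠ i₀ := by
      rcases hall i with h | h
      · exact absurd h hi
      · rw [← h]; exact hi
    exact UM2K_uc2b S hF hH hp i₀ hall hne
  · left
    rw [not_exists] at h
    obtain ⟨i₀⟩ := (inferInstance : Nonempty ι)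
    have h0 := h i₀
    rw [not_forall] at h0
    obtain ⟨i, hi⟩ := h0
    rw [not_or] at hi
    exact UM2K_uc2a S hF hH hp i₀ ⟨i, hi⟩

end

/-- **UM2-K**. -/
theorem uc2_of_components (hF : Fintype.card F = q ^ 2) (hn : 0 < n)
    (H : Subgroup (GL (Fin n) F)) (hH : H ≤ GU n F q)
    (C : Set (Submodule F (Fin n → F))) (hfin : C.Finite) (hindep : sSupIndep C)
    (htop : sSup C = ⊤) (hne : ∀ c ∈ C, c ≠ ⊥) (h2 : C.Nontrivial)
    (hperp : ∀ c ∈ C, ∃ s : Set (Submodule F (Fin n → F)), s ⊆ C ∧ hperp q c = sSup s)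
    (hmap : ∀ g ∈ H, ∀ c ∈ C,
      c.map (Matrix.toLin' ((g : GL (Fin n) F) : Matrix (Fin n) (Fin n) F)) ∈ C)
    (htrans : ∀ c ∈ C, ∀ c' ∈ C, ∃ g ∈ H,
      c.map (Matrix.toLin' ((g : GL (Fin n) F) : Matrix (Fin n) (Fin n) F)) = c') :
    UC2 q H := by
  have : Finite C := hfin.to_subtype
  have : Nontrivial C := Set.nontrivial_coe_sort.mpr h2
  have S : UM2K_Sys H (fun x : C => (x : Submodule F (Fin n → F))) := by
    refine ⟨(sSupIndep_iff C).mp hindep, ?_, fun i => hne i.1 i.2, ?_, ?_⟩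
    · rw [← sSup_eq_iSup', htop]
    · intro g hg i
      exact ⟨⟨_, hmap g hg i.1 i.2⟩, rfl⟩
    · intro i j
      obtain ⟨g, hg, h⟩ := htrans i.1 i.2 j.1 j.2
      exact ⟨g, hg, h⟩
  apply UM2K_uc2_of_sys S hF hH
  intro j
  obtain ⟨s, hs, hseq⟩ := hperp j.1 j.2
  apply le_antisymm
  · rw [hseq]
    apply sSup_le
    intro x hx
    have hxo : UM2K_orth q (fun x : C => (x : Submodule F (Fin n → F))) ⟨x, hs hx⟩ j := by
      apply UM2K_le_hperp_iff.mp
      show x ≤ Cfsg.Agent.Lib.H8.Asch.hperp q j.1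
      rw [hseq]
      exact le_sSup hx
    exact le_biSup (fun x : C => (x : Submodule F (Fin n → F)))
      (show (⟨x, hs hx⟩ : C) ∈ {i : C | UM2K_orth q (fun x : C => (x : Submodule F (Fin n → F))) i j}
        from hxo)
  · apply iSup₂_le
    intro i hi
    exact UM2K_le_hperp_iff.mpr hi

end Cfsg.Agent.Lib.H3.Asch
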