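import Mathlib
import Cfsg.Agent.Lib.H19.B60
import Cfsg.Agent.Lib.H9.B60EIG
import Cfsg.Agent.Lib.H9.B60X3
import Cfsg.Agent.Lib.H11.B60KI
import Cfsg.Agent.Lib.H1.JordanE

/-!
# S4484, (XFINAL): the linear part on an eigenvalue list (helper3)

On top of helper19's `H19.B60.stab_all` (every conjugate of `y` stabilises the `ε`-eigenspace of `y` when all
eigenvalues of `R y` are at distance `< 1` from `ε`): the stabiliser of that eigenspace is a subgroup containing the
normal closure of `y`, which is everything (`G` simple, `y ≠ 1`); by irreducibility the eigenspace is everything, so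
`R y` is a scalar and `y` is central (helper9's `H9.B60.eq_one_of_eigenspace_eq_top`): contradiction.
-/

set_option autoImplicit false

namespace Cfsg.Agent.Lib.H3.BB

open Cfsg.Agent.Lib.H1.Jordan Module.End

/-- In a finite group, the elements stabilising a subspace (in the weak sense `R g K ≤ K`) form a subgroup. -/
theorem stab_subgroup_aux {E : Type*} [NormedAddCommGroup E] [InnerProductSpace ℂ E]
    {G : Type*} [Group G] [Finite G] (R : G →* (E ≃ₗᵢ[ℂ] E)) (K : Submodule ℂ E) :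
    ∃ S : Subgroup G, ∀ g, g ∈ S ↔ ∀ v ∈ K, R g v ∈ K := by
  have hmul : ∀ a b : G, (∀ v ∈ K, R a v ∈ K) → (∀ v ∈ K, R b v ∈ K) → ∀ v ∈ K, R (a * b) v ∈ K := by
    intro a b ha hb v hv
    rw [map_mul]
    exact ha _ (hb v hv)
  have hone : ∀ v ∈ K, R (1 : G) v ∈ K := by
    intro v hv
    rw [map_one]
    exact hv
  have hpow : ∀ (a : G) (n : ℕ), (∀ v ∈ K, R a v ∈ K) → ∀ v ∈ K, R (a ^ n) v ∈ K := by
    intro a n ha
    induction n with
    | zero => rw [pow_zero]; exact hone
    | succ n ih => rw [pow_succ]; exact hmul _ _ ih ha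
  refine ⟨{ carrier := {g | ∀ v ∈ K, R g v ∈ K}
            mul_mem' := fun {a b} ha hb => hmul a b ha hb
            one_mem' := hone
            inv_mem' := ?_ }, fun g => Iff.rfl⟩
  intro a ha
  have h1 : a⁻¹ = a ^ (orderOf a - 1) := by
    rw [eq_comm, ← mul_eq_one_iff_eq_inv, ← pow_succ,
      Nat.sub_add_cancel (orderOf_pos a), pow_orderOf_eq_one]
  show ∀ v ∈ K, R a⁻¹ v ∈ K
  rw [h1]
  exact hpow a _ ha

/-- **(XFINAL)** the linear part of S4484 on an eigenvalue list (exact signature of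
`tools/blueprints/S4484_sigs.lean`; `hcard` is not needed on this route). -/
theorem b60_contra {G : Type*} [Group G] [Finite G] [IsSimpleGroup G]
    (hna : ∃ g h : G, g * h ≠ h * g) {n : ℕ}
    (R : G →* (EuclideanSpace ℂ (Fin n) ≃ₗᵢ[ℂ] EuclideanSpace ℂ (Fin n)))
    (hirr : ∀ W : Submodule ℂ (EuclideanSpace ℂ (Fin n)), (∀ g, ∀ w ∈ W, R g w ∈ W) → W = ⊥ ∨ W = ⊤)
    (hinj : Function.Injective R) {p : ℕ} (hp : p.Prime) (x : G) (hx : orderOf x = p)
    (b : OrthonormalBasis (Fin n) ℂ (EuclideanSpace ℂ (Fin n))) (a : Fin n → ℂ)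
    (hb : ∀ k, R x (b k) = a k • b k) (hcard : (Finset.univ.image a).card < p)
    (d : ℕ) (hd1 : 1 ≤ d) (hdp : d < p) (k₁ : Fin n)
    (hnear : ∀ k, 1 / 2 < ((starRingEnd ℂ) (a k₁ ^ d) * a k ^ d).re) : False := by
  classical
  set y : G := x ^ d with hy
  set ε : ℂ := a k₁ ^ d with hε
  -- `y ≠ 1`
  have hy1 : y ≠ 1 := by
    intro h
    have h1 : orderOf x ∣ d := orderOf_dvd_of_pow_eq_one h
    rw [hx] at h1
    exact absurd (Nat.le_of_dvd (by omega) h1) (by omega)
  -- the eigenbasis of `R y`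
  have hby : ∀ k, R y (b k) = (a k ^ d) • b k := by
    intro k
    rw [hy, map_pow]
    exact pow_eig hb d k
  obtain ⟨-, heig, hnorm, -⟩ :=
    Cfsg.Agent.Lib.H9.B60.eigen_list_facts (R y) b (fun k => a k ^ d) hby
  have hεn : ‖ε‖ = 1 := hnorm k₁
  have h60 : ∀ μ : ℂ, HasEigenvalue (lin (R y)) μ → ‖μ - ε‖ < 1 := by
    intro μ hμ
    obtain ⟨k, rfl⟩ := (heig μ).1 hμ
    exact (Cfsg.Agent.Lib.H11.B60.norm_sub_lt_one_iff (hnorm k) hεn).2 (hnear k)
  -- the `ε`-eigenspace of `R y` and its stabiliser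
  set K : Submodule ℂ (EuclideanSpace ℂ (Fin n)) := Cfsg.Agent.Lib.H19.B60.Wsp R ε y with hK
  obtain ⟨S, hS⟩ := stab_subgroup_aux R K
  have hconj : ∀ g : G, g * y * g⁻¹ ∈ S := by
    intro g
    rw [hS]
    intro v hv
    have h1 := Cfsg.Agent.Lib.H19.B60.stab_all R ε hεn y h60 g 1
    simp only [one_mul, inv_one, mul_one] at h1
    exact h1 v hv
  have hncl : Subgroup.normalClosure ({y} : Set G) ≤ S := by
    rw [Subgroup.normalClosure, Subgroup.closure_le]
    intro z hz
    obtain ⟨w, hw, hwz⟩ := Group.mem_conjugatesOfSet_iff.1 hz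
    rw [Set.mem_singleton_iff] at hw
    subst hw
    obtain ⟨g, rfl⟩ := isConj_iff.1 hwz
    exact hconj g
  have htop : Subgroup.normalClosure ({y} : Set G) = ⊤ := by
    rcases (Subgroup.normalClosure_normal (s := ({y} : Set G))).eq_bot_or_eq_top with h | h
    · exfalso
      have : y ∈ Subgroup.normalClosure ({y} : Set G) :=
        Subgroup.subset_normalClosure (Set.mem_singleton y)
      rw [h] at this
      exact hy1 (Subgroup.mem_bot.1 this)
    · exact h
  have hinv : ∀ g, ∀ w ∈ K, R g w ∈ K := by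
    intro g
    rw [← hS]
    exact hncl (htop ▸ Subgroup.mem_top g)
  rcases hirr K hinv with h | h
  · have hmem : b k₁ ∈ K := (Cfsg.Agent.Lib.H19.B60.mem_Wsp R ε).2 (hby k₁)
    rw [h] at hmem
    exact b.orthonormal.ne_zero k₁ ((Submodule.mem_bot ℂ).1 hmem)
  · apply hy1
    refine Cfsg.Agent.Lib.H9.B60.eq_one_of_eigenspace_eq_top hna R ?_ y ε h
    by_contra hcon
    push Not at hcon
    obtain ⟨g₁, g₂, hg⟩ := hna
    apply hg
    apply hinj
    rw [hcon, hcon]

end Cfsg.Agent.Lib.H3.BB
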