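import Mathlib
import Cfsg.Prelude.Def_Blocks
import Cfsg.Agent.Lib.H3.BBXFinal
import Cfsg.Agent.Lib.H2.BR6A1
import Cfsg.Agent.Lib.H27.Box6
import Cfsg.Agent.Lib.H24.CharKer
import Cfsg.Agent.Lib.L0.PRegCongP
import Cfsg.Agent.Lib.H11.BBA0
import Cfsg.Agent.Lib.H24.BR6A2
import Cfsg.Agent.Lib.H15.B60Irr
import Cfsg.Agent.Lib.H18.BBA5PRE
import Cfsg.Agent.Lib.H25.BR6MULT
import Cfsg.Agent.Lib.H9.B60EIG

/-!
# S4484: Brauer's refinement `p < 6 ^ (g₀ - 1)` — final assembly (helper3)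

`|G| = p^a q^b g₀`, `G` simple, `|G| ≠ p`.  Block part (A): a central element `x` of order `p` of a Sylow
`p`-subgroup has at most `e ≤ g₀` distinct eigenvalues in a suitable nontrivial irreducible character of the
principal `p`-block (`|cl(x)| = q^β e`).  Linear part (X): pigeonhole (`p > 6^(e-1)`) gives a power `y = x^d ≠ 1`
all of whose eigenvalues lie within `< 60°` of one of them, which Blichfeldt's theorem forbids.
-/

set_option autoImplicit false

namespace Cfsg.Agent.Lib.H3.BB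

open Cfsg

/-- `6 ^ k` is never a prime. -/
theorem six_pow_ne_prime {p : ℕ} (hp : p.Prime) (k : ℕ) : 6 ^ k ≠ p := by
  intro h
  rcases Nat.eq_zero_or_pos k with rfl | hk
  · rw [pow_zero] at h
    exact hp.one_lt.ne h
  · have h2 : 2 ∣ p := by
      rw [← h]
      exact dvd_trans (by norm_num) (dvd_pow_self 6 hk.ne')
    have h3 : 3 ∣ p := by
      rw [← h]
      exact dvd_trans (by norm_num) (dvd_pow_self 6 hk.ne')
    have e2 := (Nat.prime_dvd_prime_iff_eq Nat.prime_two hp).1 h2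
    have e3 := (Nat.prime_dvd_prime_iff_eq Nat.prime_three hp).1 h3
    omega

/-- A finite simple group whose order is divisible by `p` and different from `p` is not abelian. -/
theorem nonabelian_of_simple {G : Type*} [Group G] [Finite G] [IsSimpleGroup G] {p : ℕ}
    (hp : p.Prime) (hpG : p ∣ Nat.card G) (hne : Nat.card G ≠ p) :
    ∃ g h : G, g * h ≠ h * g := by
  by_contra hcon
  push Not at hcon
  let _ : CommGroup G := { ‹Group G› with mul_comm := hcon }
  have hprime : (Nat.card G).Prime := IsSimpleGroup.prime_card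
  exact hne ((Nat.prime_dvd_prime_iff_eq hp hprime).1 hpG).symm

/-- In a simple group a nontrivial irreducible character is faithful: `χ g = χ 1 → g = 1`. -/
theorem eq_one_of_apply_eq {G : Type*} [Group G] [Finite G] [IsSimpleGroup G] (χ : G → ℂ)
    (hχ : IsIrrCharacter G χ) (hne : χ ≠ fun _ => 1) (g : G) (hg : χ g = χ 1) : g = 1 := by
  have hK := Cfsg.Agent.Lib.H24.charKer_normal χ (Cfsg.Agent.Lib.L0.isCharacter_of_irr hχ)
  rcases hK.eq_bot_or_eq_top with h | h
  · have : g ∈ Cfsg.Agent.Lib.H24.charKer χ (Cfsg.Agent.Lib.L0.isCharacter_of_irr hχ) := hg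
    rw [h] at this
    exact Subgroup.mem_bot.1 this
  · exact absurd (Cfsg.Agent.Lib.H24.irr_eq_trivial_of_charKer_eq_top hχ h) hne

/-- **S4484**, assembled from the pieces. -/
theorem brauer_bound {G : Type*} [Group G] [Finite G] [IsSimpleGroup G] (p q a b g₀ : ℕ)
    (hp : p.Prime) (hq : q.Prime) (ha : 0 < a)
    (hg : Nat.card G = p ^ a * q ^ b * g₀)
    (hne : Nat.card G ≠ p) : p < 6 ^ (g₀ - 1) := by
  classical
  by_contra hcon
  push Not at hcon
  have hpG : p ∣ Nat.card G := by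
    rw [hg]
    exact dvd_mul_of_dvd_left (dvd_mul_of_dvd_left (dvd_pow_self p ha.ne') _) _
  have hna := nonabelian_of_simple hp hpG hne
  have hg0 : 0 < g₀ := by
    rcases Nat.eq_zero_or_pos g₀ with h | h
    · rw [h, mul_zero] at hg
      exact absurd hg (Nat.card_pos (α := G)).ne'
    · exact h
  -- (A0) a central element of order `p` of a Sylow `p`-subgroup, `|cl(x)| = q^β e`
  obtain ⟨x, hxo, hxi⟩ := Cfsg.Agent.Lib.H11.BB.exists_central_elt (G := G) hp hpG
  have hidx : (Subgroup.centralizer ({x} : Set G)).index ∣ p ^ a * q ^ b * g₀ := by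
    rw [← hg]
    exact Subgroup.index_dvd_card _
  obtain ⟨β, e, hidxe, hqe, heg⟩ := Cfsg.Agent.Lib.H11.BB.index_split hp hq hidx hxi
  have he0 : 0 < e := Nat.pos_of_dvd_of_pos heg hg0
  have hele : e ≤ g₀ := Nat.le_of_dvd hg0 heg
  have h6 : 6 ^ (e - 1) < p := by
    have h1 : 6 ^ (e - 1) ≤ 6 ^ (g₀ - 1) := Nat.pow_le_pow_right (by norm_num) (by omega)
    exact lt_of_le_of_ne (h1.trans hcon) (six_pow_ne_prime hp _)
  have hep : e < p := by
    have h : e - 1 < 6 ^ (e - 1) := Nat.lt_pow_self (by norm_num)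
    omega
  -- (A1) a nontrivial character of the principal block of degree prime to `q`
  obtain ⟨M, hM⟩ := Cfsg.Agent.Lib.L0.PRegP.exists_isPModular hp
  have hxp : p ∣ orderOf x := by rw [hxo]
  obtain ⟨χ, hχB, hχT, dχ, hχd, hqd⟩ :=
    Cfsg.Agent.Lib.H2.BR6.exists_nonprincipal_coprime_degree p q hp hq M hM x hxp
  have hχne : (χ : G → ℂ) ≠ fun _ => 1 := by
    intro h
    apply hχT
    apply Subtype.ext
    rw [h]
    rfl
  -- (A5pre)
  have hA5 := Cfsg.Agent.Lib.H18.BB.principal_congr hM χ hχB x hxi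
  -- the isometric model and the eigenvalue list of `x`
  obtain ⟨n, R, htr, hirr, -, hχ1, hn0'⟩ :=
    Cfsg.Agent.Lib.H15.B60.exists_isometric_model (χ : G → ℂ) χ.2
  have hn0 : 0 < n := Nat.pos_of_ne_zero hn0'
  have hdn : dχ = n := by
    have : (dχ : ℂ) = (n : ℂ) := by rw [← hχd, hχ1]
    exact_mod_cast this
  have hxp1 : x ^ p = 1 := by rw [← hxo]; exact pow_orderOf_eq_one x
  obtain ⟨bs, ev, hbs⟩ := Cfsg.Agent.Lib.H9.B60.exists_eigenbasis (R x)
    (finrank_euclideanSpace_fin (𝕜 := ℂ) (n := n))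
  obtain ⟨hevtr, -, hevnorm, hevpow⟩ := Cfsg.Agent.Lib.H9.B60.eigen_list_facts (R x) bs ev hbs
  have hevp : ∀ k, ev k ^ p = 1 := by
    apply hevpow p
    rw [← map_pow, hxp1, map_one]
  have hpow : ∀ j : ℕ, (χ : G → ℂ) (x ^ j) = ∑ k, ev k ^ j := by
    intro j
    rw [← htr, ← hevtr j, ← Cfsg.Agent.Lib.H9.B60.lin_pow, map_pow]
  -- (A2)
  have hcop : Nat.Coprime (q ^ β) n := by
    apply Nat.Coprime.pow_left
    rw [Nat.Prime.coprime_iff_not_dvd hq, ← hdn]
    exact hqd
  have hA2 : ∀ j : ℕ, ¬ p ∣ j →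
      IsIntegral ℤ ((e : ℂ) * (χ : G → ℂ) (x ^ j) / (n : ℂ)) := fun j hj =>
    Cfsg.Agent.Lib.H24.BR6.isIntegral_mul_char_pow_div (χ : G → ℂ) χ.2 x p hp hxo (q ^ β) e n
      hχ1 hn0' hidxe hcop j hj
  -- (A3)-(A5) at most `e` distinct eigenvalues
  have hcard : (Finset.univ.image ev).card ≤ e := by
    have := Cfsg.Agent.Lib.H23.isPrime_of_isPModular hM
    apply Cfsg.Agent.Lib.H25.BR6.card_image_le_of_block hM ev hevp hn0 e he0
    · intro j hj1 hjp
      have := hA2 j (fun h => absurd (Nat.le_of_dvd (by omega) h) (by omega))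
      rwa [hpow j] at this
    · have h1 := hA5
      rw [← pow_one x, hpow 1, hχ1] at h1
      simp only [pow_one] at h1
      have h2 := Cfsg.Agent.Lib.H23.memLocalIdeal_mul_left
        (Cfsg.Agent.Lib.H23.natCast_mem_localRing (M := M) e) h1
      have h3 : (e : ℂ) * ((∑ k, ev k) / (n : ℂ) - 1) = (e : ℂ) * (∑ k, ev k) / (n : ℂ) - e := by
        ring
      rwa [h3] at h2
  -- (X2) the pigeonhole
  set k₁ : Fin n := ⟨0, hn0⟩ with hk₁
  have hnorm : ∀ z ∈ Finset.univ.image ev, ‖z‖ = 1 := by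
    intro z hz
    obtain ⟨k, -, rfl⟩ := Finset.mem_image.1 hz
    exact hevnorm k
  have hcard0 : 0 < (Finset.univ.image ev).card :=
    Finset.card_pos.2 ⟨ev k₁, Finset.mem_image_of_mem _ (Finset.mem_univ _)⟩
  have h6' : 6 ^ ((Finset.univ.image ev).card - 1) < p :=
    lt_of_le_of_lt (Nat.pow_le_pow_right (by norm_num) (by omega)) h6
  obtain ⟨d, hd1, hdp, hnear⟩ := Cfsg.Agent.Lib.H27.Box6.exists_pow_near (Finset.univ.image ev)
    hnorm (ev k₁) (Finset.mem_image_of_mem _ (Finset.mem_univ _)) p h6'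
  -- `R` is injective
  have hinj : Function.Injective R := by
    rw [injective_iff_map_eq_one]
    intro g hRg
    apply eq_one_of_apply_eq (χ : G → ℂ) χ.2 hχne g
    rw [← htr g, ← htr 1, hRg, map_one]
  -- (X) Blichfeldt
  exact b60_contra hna R hirr hinj hp x hxo bs ev hbs (lt_of_le_of_lt hcard hep) d hd1 hdp k₁
    (fun k => hnear (ev k) (Finset.mem_image_of_mem _ (Finset.mem_univ _)))

end Cfsg.Agent.Lib.H3.BB
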