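import Mathlib
import Cfsg.Agent.Lib.H8.BQ0
import Cfsg.Agent.Lib.H12.BQG4a

/-!
# S4719 Part II, piece G4b: the normal closure of `g` under `G ⊔ V` and the index of its centralizer

`exists_normal_closure` in the exact signature of `tools/blueprints/S4719_Q_sigs.lean`.
The set `S` of all `x v g v⁻¹ x⁻¹` (`x ∈ G`, `v ∈ V`) has at most `4 c` elements (every fibre of
`(x, v) ↦ x v g v⁻¹ x⁻¹` contains a copy of `C_G(g)`), lies in `G`, is stable under conjugation by
`G` and by `V`, and every member `y` has `|C_G(y)| = |C_G(g)|`.  `X := closure S`.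
-/

set_option autoImplicit false

universe u

namespace Cfsg.Agent.Lib.H3.BQ

open Subgroup Cfsg.Agent.Lib.H8.BQ

/-- Conjugating by an element normalizing `G` does not change `|C_G(·)|`. -/
theorem card_inf_centralizer_conj {Γ : Type u} [Group Γ] (G : Subgroup Γ) (w g : Γ)
    (hw : w ∈ normalizer (G : Set Γ)) :
    Nat.card ↥(G ⊓ centralizer {w * g * w⁻¹}) = Nat.card ↥(G ⊓ centralizer {g}) := by
  have hw1 := mem_set_normalizer_iff.mp hw
  have hw2 := mem_set_normalizer_iff''.mp hw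
  refine Nat.card_congr ?_
  refine
    { toFun := fun k => ⟨w⁻¹ * k.1 * w, ?_⟩
      invFun := fun k => ⟨w * k.1 * w⁻¹, ?_⟩
      left_inv := fun k => by
        apply Subtype.ext
        simp [mul_assoc]
      right_inv := fun k => by
        apply Subtype.ext
        simp [mul_assoc] }
  · obtain ⟨k, hk⟩ := k
    rw [mem_inf, mem_centralizer_singleton_iff] at hk ⊢
    refine ⟨(hw2 k).1 hk.1, ?_⟩
    have h2 := hk.2
    calc w⁻¹ * k * w * g = w⁻¹ * (k * (w * g * w⁻¹)) * w := by group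
      _ = w⁻¹ * ((w * g * w⁻¹) * k) * w := by rw [h2]
      _ = g * (w⁻¹ * k * w) := by group
  · obtain ⟨k, hk⟩ := k
    rw [mem_inf, mem_centralizer_singleton_iff] at hk ⊢
    refine ⟨(hw1 k).1 hk.1, ?_⟩
    have h2 := hk.2
    calc w * k * w⁻¹ * (w * g * w⁻¹) = w * (k * g) * w⁻¹ := by group
      _ = w * (g * k) * w⁻¹ := by rw [h2]
      _ = w * g * w⁻¹ * (w * k * w⁻¹) := by group

/-- If `w` and `w⁻¹` map `S` into itself by conjugation then `w` normalizes `closure S`. -/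
theorem mem_normalizer_closure_of_conj_mem {Γ : Type u} [Group Γ] (S : Set Γ) (w : Γ)
    (h1 : ∀ y ∈ S, w * y * w⁻¹ ∈ S) (h2 : ∀ y ∈ S, w⁻¹ * y * w ∈ S) :
    w ∈ normalizer ((closure S : Subgroup Γ) : Set Γ) := by
  have key : ∀ (u : Γ), (∀ y ∈ S, u * y * u⁻¹ ∈ S) → ∀ h ∈ closure S, u * h * u⁻¹ ∈ closure S := by
    intro u hu h hh
    induction hh using closure_induction with
    | mem x hx => exact subset_closure (hu x hx)
    | one => simp
    | mul x y _ _ hx hy =>
      have : u * (x * y) * u⁻¹ = (u * x * u⁻¹) * (u * y * u⁻¹) := by group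
      rw [this]; exact mul_mem hx hy
    | inv x _ hx =>
      have : u * x⁻¹ * u⁻¹ = (u * x * u⁻¹)⁻¹ := by group
      rw [this]; exact inv_mem hx
  rw [mem_set_normalizer_iff]
  intro h
  constructor
  · intro hh
    exact key w h1 h hh
  · intro hh
    have h3 := key w⁻¹ (by simpa using h2) _ hh
    have : w⁻¹ * (w * h * w⁻¹) * w⁻¹⁻¹ = h := by group
    rwa [this] at h3

/-- G4b. The normal closure `X` of `g` under `G ⊔ V` (at most `4 c` conjugates, all in `G`,
each with `|G : C_G(y)| ≤ c`) and the index of `C_G(X)`.  Uses G4a. -/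
theorem exists_normal_closure {Γ : Type u} [Group Γ] [Finite Γ] (G V : Subgroup Γ)
    (hVG : V ≤ normalizer (G : Set Γ)) (hV4 : Nat.card V = 4) (c : ℕ) (g : Γ) (hgG : g ∈ G)
    (hg1 : g ≠ 1) (hc : Nat.card G ≤ c * Nat.card ↥(G ⊓ centralizer {g})) :
    ∃ X : Subgroup Γ, X ≤ G ∧ X ≠ ⊥ ∧ G ≤ normalizer (X : Set Γ) ∧ V ≤ normalizer (X : Set Γ) ∧
      Nat.card G ≤ c ^ (4 * c) * Nat.card ↥(G ⊓ centralizer (X : Set Γ)) := by
  classical
  have : Fintype Γ := Fintype.ofFinite Γ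
  let φ : ↥G × ↥V → Γ := fun p => (p.1 : Γ) * (p.2 : Γ) * g * (p.2 : Γ)⁻¹ * (p.1 : Γ)⁻¹
  let S : Finset Γ := Finset.univ.image φ
  have hφ : ∀ p : ↥G × ↥V, φ p = ((p.1 : Γ) * (p.2 : Γ)) * g * ((p.1 : Γ) * (p.2 : Γ))⁻¹ := by
    intro p
    simp only [φ, mul_inv_rev, mul_assoc]
  have hw : ∀ p : ↥G × ↥V, (p.1 : Γ) * (p.2 : Γ) ∈ normalizer (G : Set Γ) := fun p =>
    mul_mem (le_normalizer p.1.2) (hVG p.2.2)
  have hSmem : ∀ y ∈ S, ∃ p : ↥G × ↥V, φ p = y := by
    intro y hy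
    obtain ⟨p, -, hp⟩ := Finset.mem_image.mp hy
    exact ⟨p, hp⟩
  have hmemS : ∀ p : ↥G × ↥V, φ p ∈ S := fun p =>
    Finset.mem_image.mpr ⟨p, Finset.mem_univ _, rfl⟩
  -- (1) `S ⊆ G`
  have hSG : ∀ y ∈ S, y ∈ G := by
    intro y hy
    obtain ⟨p, rfl⟩ := hSmem y hy
    rw [hφ]
    exact (mem_set_normalizer_iff.mp (hw p) g).1 hgG
  -- (2) every member has a centralizer of the same order
  have hSc : ∀ y ∈ S, Nat.card G ≤ c * Nat.card ↥(G ⊓ centralizer {y}) := by
    intro y hy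
    obtain ⟨p, rfl⟩ := hSmem y hy
    rw [hφ, card_inf_centralizer_conj G _ g (hw p)]
    exact hc
  -- (3) invariance
  have hinvG : ∀ w ∈ G, ∀ y ∈ S, w * y * w⁻¹ ∈ S := by
    intro w hwG y hy
    obtain ⟨p, rfl⟩ := hSmem y hy
    have : w * φ p * w⁻¹ = φ (⟨w, hwG⟩ * p.1, p.2) := by
      simp only [φ, Subgroup.coe_mul, mul_inv_rev, mul_assoc]
    rw [this]
    exact hmemS _
  have hinvV : ∀ u ∈ V, ∀ y ∈ S, u * y * u⁻¹ ∈ S := by
    intro u huV y hy
    obtain ⟨p, rfl⟩ := hSmem y hy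
    have hu := mem_set_normalizer_iff.mp (hVG huV)
    have hx : u * (p.1 : Γ) * u⁻¹ ∈ G := (hu _).1 p.1.2
    have : u * φ p * u⁻¹ = φ (⟨u * (p.1 : Γ) * u⁻¹, hx⟩, ⟨u, huV⟩ * p.2) := by
      simp only [φ, Subgroup.coe_mul, mul_inv_rev, mul_assoc, inv_inv, inv_mul_cancel_left]
    rw [this]
    exact hmemS _
  -- (4) the count
  have hcard : Nat.card ↥(G ⊓ centralizer {g}) * S.card ≤ Nat.card G * 4 := by
    have h1 : Nat.card ↥(G ⊓ centralizer {g}) * (Finset.univ.image φ).card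
        ≤ (Finset.univ : Finset (↥G × ↥V)).card := by
      apply Finset.mul_card_image_le_card
      intro b hb
      obtain ⟨p, rfl⟩ := hSmem b hb
      -- injection of `C_G(g)` into the fibre
      have hv := mem_set_normalizer_iff.mp (hVG p.2.2)
      let ι : ↥(G ⊓ centralizer {g}) → ↥G × ↥V := fun k =>
        (p.1 * ⟨(p.2 : Γ) * k.1 * (p.2 : Γ)⁻¹, (hv _).1 (mem_inf.mp k.2).1⟩, p.2)
      have hι : Function.Injective ι := by
        intro k1 k2 h
        have h' := congrArg (fun q : ↥G × ↥V => ((q.1 : ↥G) : Γ)) h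
        simp only [ι, Subgroup.coe_mul] at h'
        apply Subtype.ext
        have h'' := mul_left_cancel h'
        have h3 := mul_right_cancel h''
        exact mul_left_cancel h3
      have hfib : ∀ k, ι k ∈ Finset.univ.filter (fun a => φ a = φ p) := by
        intro k
        rw [Finset.mem_filter]
        refine ⟨Finset.mem_univ _, ?_⟩
        have hk := mem_centralizer_singleton_iff.mp (mem_inf.mp k.2).2
        have e2 : (k : Γ) * g * (k : Γ)⁻¹ = g := by
          rw [hk]; group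
        change ((p.1 : Γ) * ((p.2 : Γ) * (k : Γ) * (p.2 : Γ)⁻¹)) * (p.2 : Γ) * g * (p.2 : Γ)⁻¹ *
            ((p.1 : Γ) * ((p.2 : Γ) * (k : Γ) * (p.2 : Γ)⁻¹))⁻¹
            = (p.1 : Γ) * (p.2 : Γ) * g * (p.2 : Γ)⁻¹ * (p.1 : Γ)⁻¹
        calc ((p.1 : Γ) * ((p.2 : Γ) * (k : Γ) * (p.2 : Γ)⁻¹)) * (p.2 : Γ) * g * (p.2 : Γ)⁻¹ *
            ((p.1 : Γ) * ((p.2 : Γ) * (k : Γ) * (p.2 : Γ)⁻¹))⁻¹
            = (p.1 : Γ) * (p.2 : Γ) * ((k : Γ) * g * (k : Γ)⁻¹) * (p.2 : Γ)⁻¹ * (p.1 : Γ)⁻¹ := by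
              group
          _ = (p.1 : Γ) * (p.2 : Γ) * g * (p.2 : Γ)⁻¹ * (p.1 : Γ)⁻¹ := by rw [e2]
      calc Nat.card ↥(G ⊓ centralizer {g})
          = Fintype.card ↥(G ⊓ centralizer {g}) := Nat.card_eq_fintype_card
        _ = (Finset.univ.image ι).card := by
            rw [Finset.card_image_of_injective _ hι, Finset.card_univ]
        _ ≤ _ := by
            apply Finset.card_le_card
            intro q hq
            obtain ⟨k, -, rfl⟩ := Finset.mem_image.mp hq
            exact hfib k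
    have h2 : (Finset.univ : Finset (↥G × ↥V)).card = Nat.card G * 4 := by
      rw [Finset.card_univ, Fintype.card_prod, ← Nat.card_eq_fintype_card,
        ← Nat.card_eq_fintype_card, hV4]
    calc Nat.card ↥(G ⊓ centralizer {g}) * S.card
        ≤ (Finset.univ : Finset (↥G × ↥V)).card := h1
      _ = Nat.card G * 4 := h2
  have hGpos : 0 < Nat.card G := Nat.card_pos
  have hcpos : 0 < c := by
    rcases Nat.eq_zero_or_pos c with h | h
    · subst h; rw [zero_mul] at hc; omega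
    · exact h
  have hmpos : 0 < Nat.card ↥(G ⊓ centralizer {g}) := Nat.card_pos
  have hS4c : S.card ≤ 4 * c := by
    have h1 : Nat.card ↥(G ⊓ centralizer {g}) * S.card
        ≤ Nat.card ↥(G ⊓ centralizer {g}) * (4 * c) := by
      calc Nat.card ↥(G ⊓ centralizer {g}) * S.card ≤ Nat.card G * 4 := hcard
        _ ≤ (c * Nat.card ↥(G ⊓ centralizer {g})) * 4 := Nat.mul_le_mul_right 4 hc
        _ = Nat.card ↥(G ⊓ centralizer {g}) * (4 * c) := by ring
    exact Nat.le_of_mul_le_mul_left h1 hmpos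
  -- the subgroup
  refine ⟨closure (S : Set Γ), ?_, ?_, ?_, ?_, ?_⟩
  · rw [closure_le]
    intro y hy
    exact hSG y (Finset.mem_coe.mp hy)
  · intro hbot
    have hgS : g ∈ S := by
      have := hmemS (1, 1)
      simpa [φ] using this
    have : g ∈ closure (S : Set Γ) := subset_closure (Finset.mem_coe.mpr hgS)
    rw [hbot, mem_bot] at this
    exact hg1 this
  · intro w hwG
    apply mem_normalizer_closure_of_conj_mem
    · intro y hy
      exact Finset.mem_coe.mpr (hinvG w hwG y (Finset.mem_coe.mp hy))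
    · intro y hy
      have := hinvG w⁻¹ (inv_mem hwG) y (Finset.mem_coe.mp hy)
      rw [inv_inv] at this
      exact Finset.mem_coe.mpr this
  · intro u huV
    apply mem_normalizer_closure_of_conj_mem
    · intro y hy
      exact Finset.mem_coe.mpr (hinvV u huV y (Finset.mem_coe.mp hy))
    · intro y hy
      have := hinvV u⁻¹ (inv_mem huV) y (Finset.mem_coe.mp hy)
      rw [inv_inv] at this
      exact Finset.mem_coe.mpr this
  · rw [centralizer_closure]
    calc Nat.card G ≤ c ^ S.card * Nat.card ↥(G ⊓ centralizer ((S : Finset Γ) : Set Γ)) :=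
          Cfsg.Agent.Lib.H12.BQ.card_le_pow_mul_card_inf_centralizer G S c hSc
      _ ≤ c ^ (4 * c) * Nat.card ↥(G ⊓ centralizer ((S : Finset Γ) : Set Γ)) :=
          Nat.mul_le_mul_right _ (Nat.pow_le_pow_right hcpos hS4c)

end Cfsg.Agent.Lib.H3.BQ
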