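/-
helper3: task S5886-ASM of helper1's farm-out (tools/blueprints/S5886_sigs.lean): the bridge between the matrix
statement (a field subalgebra `K` of `M_n(F)`, subgroups of `GL_n(F)`) and the abstract setting of
`Cfsg/Agent/Lib/H1/C3MaxDefs.lean`, and the final assembly of S5886 from MAIN (`hasTv_of_not_normK`) and T422
(`c3max_422`), both taken as hypotheses here.
-/
import Mathlib
import Cfsg.Agent.Lib.H1.C3MaxDefs
import Cfsg.Agent.Lib.H13.FieldSub
import Cfsg.Agent.Lib.H28.GLBasic
import Cfsg.Agent.Lib.H11.SubspMax1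
import Cfsg.Agent.Lib.H5.AschP2B3F2
import Cfsg.Agent.Lib.H23.SpFE

set_option autoImplicit false
set_option maxHeartbeats 400000

namespace Cfsg.Agent.Lib.H3.C3Max

open Module Cfsg Cfsg.Geo
open scoped MatrixGroups Matrix
open Cfsg.Agent.Lib.H1.C3Max Cfsg.Agent.Lib.H13.FieldSub Cfsg.Agent.Lib.H28

variable {F : Type*} [Field F] {n : ℕ}

theorem eqm {M N : Matrix (Fin n) (Fin n) F} (h : ∀ v, M *ᵥ v = N *ᵥ v) : M = N :=
  Matrix.mulVec_injective (funext h)

/-- `glOfEquiv` as a group homomorphism -/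
noncomputable def glHom (F : Type*) [Field F] (n : ℕ) :
    ((Fin n → F) ≃ₗ[F] (Fin n → F)) →* GL (Fin n) F where
  toFun := glOfEquiv
  map_one' := by
    apply Units.ext
    apply eqm
    intro v
    rw [glOfEquiv_mulVec, Units.val_one, Matrix.one_mulVec]
    rfl
  map_mul' := by
    intro a b
    apply Units.ext
    apply eqm
    intro v
    rw [Units.val_mul, ← Matrix.mulVec_mulVec, glOfEquiv_mulVec, glOfEquiv_mulVec, glOfEquiv_mulVec]
    rfl

theorem glHom_apply (e : (Fin n → F) ≃ₗ[F] (Fin n → F)) : glHom F n e = glOfEquiv e := rfl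

/-- the linear equivalence of an invertible matrix -/
noncomputable def equivOfGL (g : GL (Fin n) F) : (Fin n → F) ≃ₗ[F] (Fin n → F) :=
  LinearEquiv.ofLinearMap (Matrix.toLin' (g : Matrix (Fin n) (Fin n) F))
    (Matrix.toLin' ((g⁻¹ : GL (Fin n) F) : Matrix (Fin n) (Fin n) F))
    (by rw [← Matrix.toLin'_mul, ← Units.val_mul, mul_inv_cancel, Units.val_one, Matrix.toLin'_one])
    (by rw [← Matrix.toLin'_mul, ← Units.val_mul, inv_mul_cancel, Units.val_one, Matrix.toLin'_one])

theorem equivOfGL_apply (g : GL (Fin n) F) (x : Fin n → F) :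
    equivOfGL g x = (g : Matrix (Fin n) (Fin n) F) *ᵥ x := by
  unfold equivOfGL
  rw [LinearEquiv.coe_ofLinearMap, Matrix.toLin'_apply]

theorem glOfEquiv_equivOfGL (g : GL (Fin n) F) : glOfEquiv (equivOfGL g) = g := by
  apply Units.ext
  apply eqm
  intro v
  rw [glOfEquiv_mulVec, equivOfGL_apply]

section bridge

variable (K : Subalgebra F (Matrix (Fin n) (Fin n) F)) [hE : Fact (IsFld K)] [NeZero n]

/-- a `K`-linear equivalence normalises `K` -/
theorem glOfEquiv_mem_normalizer_of_klinear (e : (Fin n → F) ≃ₗ[F] (Fin n → F))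
    (h : ∀ (κ : ↥K) (x : Fin n → F), e (κ • x) = κ • e x) :
    glOfEquiv e ∈ subalgebraNormalizer K := by
  apply Cfsg.Agent.Lib.H23.SpF.mem_normalizer_of_commute
  intro k hk
  apply eqm
  intro v
  rw [← Matrix.mulVec_mulVec, ← Matrix.mulVec_mulVec, glOfEquiv_mulVec, glOfEquiv_mulVec]
  exact h ⟨k, hk⟩ v

/-- an equivalence normalising the `K`-scalars normalises the subalgebra `K` (`F` finite) -/
theorem mem_normalizer_of_normK [Finite F] (g : GL (Fin n) F) (h : NormK ↥K (equivOfGL g)) :
    g ∈ subalgebraNormalizer K := by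
  classical
  have hinv : (g : Matrix (Fin n) (Fin n) F) * ((g⁻¹ : GL (Fin n) F) : Matrix (Fin n) (Fin n) F) = 1 := by
    rw [← Units.val_mul, mul_inv_cancel, Units.val_one]
  have hinv' : ((g⁻¹ : GL (Fin n) F) : Matrix (Fin n) (Fin n) F) * (g : Matrix (Fin n) (Fin n) F) = 1 := by
    rw [← Units.val_mul, inv_mul_cancel, Units.val_one]
  -- conjugation maps `K` into `K`
  have hconj : ∀ k ∈ K, (g : Matrix (Fin n) (Fin n) F) * k *
      ((g⁻¹ : GL (Fin n) F) : Matrix (Fin n) (Fin n) F) ∈ K := by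
    intro k hk
    obtain ⟨κ', hκ'⟩ := h ⟨k, hk⟩
    have h1 : (g : Matrix (Fin n) (Fin n) F) * k = (κ' : Matrix (Fin n) (Fin n) F) * g := by
      apply eqm
      intro v
      have := hκ' v
      rw [equivOfGL_apply, equivOfGL_apply] at this
      rw [← Matrix.mulVec_mulVec, ← Matrix.mulVec_mulVec]
      exact this
    rw [h1, Matrix.mul_assoc, hinv, Matrix.mul_one]
    exact κ'.2
  have hfin : Finite ↥K := Subtype.finite
  let φ : ↥K → ↥K := fun k => ⟨_, hconj k k.2⟩
  have hφinj : Function.Injective φ := by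
    intro a b hab
    have h1 : (g : Matrix (Fin n) (Fin n) F) * a * ((g⁻¹ : GL (Fin n) F) : Matrix (Fin n) (Fin n) F) =
        (g : Matrix (Fin n) (Fin n) F) * b * ((g⁻¹ : GL (Fin n) F) : Matrix (Fin n) (Fin n) F) :=
      congrArg Subtype.val hab
    apply Subtype.ext
    have h2 := congrArg (fun M => ((g⁻¹ : GL (Fin n) F) : Matrix (Fin n) (Fin n) F) * M *
      (g : Matrix (Fin n) (Fin n) F)) h1
    simp only [Matrix.mul_assoc, hinv', Matrix.mul_one] at h2
    simp only [← Matrix.mul_assoc, hinv', Matrix.one_mul] at h2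
    exact h2
  have hφsurj : Function.Surjective φ := Finite.surjective_of_injective hφinj
  intro k
  constructor
  · exact hconj k
  · intro hk
    obtain ⟨k₀, hk₀⟩ := hφsurj ⟨_, hk⟩
    have h1 : (g : Matrix (Fin n) (Fin n) F) * k₀ * ((g⁻¹ : GL (Fin n) F) : Matrix (Fin n) (Fin n) F) =
        (g : Matrix (Fin n) (Fin n) F) * k * ((g⁻¹ : GL (Fin n) F) : Matrix (Fin n) (Fin n) F) :=
      congrArg Subtype.val hk₀
    have h2 := congrArg (fun M => ((g⁻¹ : GL (Fin n) F) : Matrix (Fin n) (Fin n) F) * M *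
      (g : Matrix (Fin n) (Fin n) F)) h1
    simp only [Matrix.mul_assoc, hinv', Matrix.mul_one] at h2
    simp only [← Matrix.mul_assoc, hinv', Matrix.one_mul] at h2
    rw [← h2]
    exact k₀.2

/-- the `F`-determinant of a `K`-linear dilatransvection -/
theorem det_dilatransvection [Finite F] (f : Dual ↥K (Fin n → F)) (v : Fin n → F)
    (e : (Fin n → F) ≃ₗ[F] (Fin n → F)) (he : ∀ x, e x = x + f x • v) :
    LinearMap.det (e : (Fin n → F) →ₗ[F] (Fin n → F)) = Algebra.norm F (1 + f v) := by
  have hfin : Module.Finite ↥K (Fin n → F) := Module.Finite.of_restrictScalars_finite F ↥K (Fin n → F)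
  have h1 : (e : (Fin n → F) →ₗ[F] (Fin n → F)) = (LinearMap.transvection f v).restrictScalars F := by
    apply LinearMap.ext
    intro x
    rw [LinearEquiv.coe_coe, he, LinearMap.restrictScalars_apply, LinearMap.transvection.apply]
  rw [h1, LinearMap.det_restrictScalars, LinearMap.transvection.det]

/-- the bridge for `HasD`: a subgroup of `GL_n(F)` containing `N(K) ∩ SL` pulls back to a subgroup with `HasD` -/
theorem hasD_comap [Finite F] (X : Subgroup (GL (Fin n) F))
    (hX : subalgebraNormalizer K ⊓ specialLinear (Fin n) F ≤ X) :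
    HasD ↥K (X.comap (glHom F n)) := by
  intro f v e he hnorm
  rw [Subgroup.mem_comap, glHom_apply]
  apply hX
  refine Subgroup.mem_inf.2 ⟨?_, ?_⟩
  · apply glOfEquiv_mem_normalizer_of_klinear
    intro κ x
    rw [he, he, map_smul, smul_add, smul_eq_mul, mul_smul]
  · rw [Cfsg.Agent.Lib.H28.mem_specialLinear_iff, glOfEquiv_det, det_dilatransvection K f v e he, hnorm]

/-- the bridge for `HasTv` -/
theorem sl_le_of_hasTv (hn : 2 ≤ n) (X : Subgroup (GL (Fin n) F))
    (h : HasTv (X.comap (glHom F n))) : specialLinear (Fin n) F ≤ X := by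
  have : Nontrivial (Fin n) := Fin.nontrivial_iff_two_le.2 hn
  apply Cfsg.Agent.Lib.H11.SubspMax.sl_le_of_tvGL
  intro f v hfv
  have := h f v (LinearEquiv.transvection hfv) hfv (fun x => LinearEquiv.transvection.apply hfv x)
  rw [Subgroup.mem_comap, glHom_apply] at this
  exact this

theorem finrank_mul : finrank F ↥K * finrank ↥K (Fin n → F) = n := by
  have := Module.finrank_mul_finrank F ↥K (Fin n → F)
  rw [this, Module.finrank_fintype_fun_eq_card, Fintype.card_fin]

end bridge

/-- **S5886-ASM** with MAIN and T422 as hypotheses. -/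
theorem sl_le_of_not_le_normalizer_of [Fintype F] (n r : ℕ) (hr : r.Prime) (hrn : r ∣ n) (hlt : r < n)
    (K : Subalgebra F (Matrix (Fin n) (Fin n) F)) (hK : IsFieldSubalgebra r K)
    [hE : Fact (IsFld K)] [NeZero n]
    (X : Subgroup (GL (Fin n) F))
    (hX : subalgebraNormalizer K ⊓ specialLinear (Fin n) F ≤ X)
    (hXN : ¬ X ≤ subalgebraNormalizer K)
    (hmain : (finrank F ↥K).Prime → 2 ≤ finrank ↥K (Fin n → F) →
      ¬ (finrank ↥K (Fin n → F) = 2 ∧ finrank F ↥K = 2 ∧ Nat.card F = 2) →
      ∀ X' : Subgroup ((Fin n → F) ≃ₗ[F] (Fin n → F)), HasD ↥K X' → ∀ x ∈ X', ¬ NormK ↥K x → HasTv X')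
    (h422 : n = 4 → r = 2 → Fintype.card F = 2 →
      (∀ g : GL (Fin n) F, (∀ k ∈ K, (g : Matrix (Fin n) (Fin n) F) * k = k * g) → g ∈ X) → X = ⊤) :
    specialLinear (Fin n) F ≤ X := by
  classical
  have hr2 : 2 ≤ r := hr.two_le
  have hfr : finrank F ↥K = r := hK.finrank_eq
  have hmul : r * finrank ↥K (Fin n → F) = n := by
    have := finrank_mul K
    rw [hfr] at this
    exact this
  have hm2 : 2 ≤ finrank ↥K (Fin n → F) := by
    by_contra hcon
    have : finrank ↥K (Fin n → F) = 0 ∨ finrank ↥K (Fin n → F) = 1 := by omega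
    rcases this with h | h
    · rw [h, mul_zero] at hmul; omega
    · rw [h, mul_one] at hmul; omega
  have hn4 : 4 ≤ n := by
    calc 4 = 2 * 2 := by norm_num
      _ ≤ r * finrank ↥K (Fin n → F) := Nat.mul_le_mul hr2 hm2
      _ = n := hmul
  by_cases hex : finrank ↥K (Fin n → F) = 2 ∧ finrank F ↥K = 2 ∧ Nat.card F = 2
  · -- the exceptional case `GL_4(2) > ΓL_2(4)`
    obtain ⟨h1, h2, h3⟩ := hex
    have hr2' : r = 2 := by rw [← hfr, h2]
    have hn4' : n = 4 := by rw [← hmul, h1, hr2']
    have hF2 : Fintype.card F = 2 := by rw [← Nat.card_eq_fintype_card]; exact h3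
    have htop := h422 hn4' hr2' hF2 (by
      intro g hg
      apply hX
      refine Subgroup.mem_inf.2 ⟨Cfsg.Agent.Lib.H23.SpF.mem_normalizer_of_commute K g hg, ?_⟩
      rw [Cfsg.Agent.Lib.H28.mem_specialLinear_iff]
      -- the only unit of a field with two elements is `1`
      have hdet : (g : Matrix (Fin n) (Fin n) F).det ≠ 0 := by
        have := (Matrix.isUnit_iff_isUnit_det _).1 g.isUnit
        exact this.ne_zero
      have huniv : ∀ a : F, a = 0 ∨ a = 1 := by
        intro a
        by_contra hcon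
        have hcon' : a ≠ 0 ∧ a ≠ 1 := by
          constructor
          · intro h; exact hcon (Or.inl h)
          · intro h; exact hcon (Or.inr h)
        have h3' : ({0, 1, a} : Finset F).card ≤ Fintype.card F := Finset.card_le_univ _
        rw [Finset.card_insert_of_notMem, Finset.card_insert_of_notMem, Finset.card_singleton] at h3'
        · omega
        · rw [Finset.mem_singleton]; exact fun h => hcon'.2 h.symm
        · rw [Finset.mem_insert, Finset.mem_singleton]
          rintro (h | h)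
          · exact zero_ne_one h
          · exact hcon'.1 h.symm
      rcases huniv (g : Matrix (Fin n) (Fin n) F).det with h | h
      · exact absurd h hdet
      · exact h)
    rw [htop]
    exact le_top
  · -- the main case
    obtain ⟨g, hgX, hgN⟩ := Set.not_subset.1 hXN
    have hD := hasD_comap K X hX
    have hxX' : equivOfGL g ∈ X.comap (glHom F n) := by
      rw [Subgroup.mem_comap, glHom_apply, glOfEquiv_equivOfGL]
      exact hgX
    have hxN : ¬ NormK ↥K (equivOfGL g) := fun h => hgN (mem_normalizer_of_normK K g h)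
    have htv := hmain (by rw [hfr]; exact hr) hm2 hex _ hD _ hxX' hxN
    exact sl_le_of_hasTv (by omega) X htv

/-- the determinant is onto on `N(K)` -/
theorem exists_mem_normalizer_det [Fintype F] (n r : ℕ) (hr : r.Prime) (hrn : r ∣ n) (hlt : r < n)
    (K : Subalgebra F (Matrix (Fin n) (Fin n) F)) (hK : IsFieldSubalgebra r K)
    [hE : Fact (IsFld K)] [NeZero n] (c : Fˣ) :
    ∃ h : GL (Fin n) F, h ∈ subalgebraNormalizer K ∧ (h : Matrix (Fin n) (Fin n) F).det = c := by
  classical
  have hfinK : Finite ↥K := Subtype.finite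
  obtain ⟨α, hα⟩ := FiniteField.norm_surjective F ↥K (c : F)
  have hα0 : α ≠ 0 := by
    rintro rfl
    rw [Algebra.norm_zero] at hα
    exact c.ne_zero hα.symm
  have hfin : Module.Finite ↥K (Fin n → F) := Module.Finite.of_restrictScalars_finite F ↥K (Fin n → F)
  -- a vector and a functional
  have hn0 : 0 < n := Nat.pos_of_ne_zero (NeZero.ne n)
  set v : Fin n → F := Pi.single ⟨0, hn0⟩ 1 with hv
  have hv0 : v ≠ 0 := by
    intro h
    have := congrFun h ⟨0, hn0⟩
    simp [hv] at this
  obtain ⟨f₀, hf₀, -⟩ := Submodule.exists_le_ker_of_notMem (p := (⊥ : Submodule ↥K (Fin n → F)))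
    (v := v) (by rw [Submodule.mem_bot]; exact hv0)
  set f : Dual ↥K (Fin n → F) := ((α - 1) * (f₀ v)⁻¹) • f₀ with hf
  have hfv : f v = α - 1 := by
    rw [hf, LinearMap.smul_apply, smul_eq_mul, mul_assoc, inv_mul_cancel₀ hf₀, mul_one]
  -- the `K`-linear map and its determinant
  set T : (Fin n → F) →ₗ[↥K] (Fin n → F) := LinearMap.transvection f v with hT
  have hdetK : LinearMap.det T = α := by
    rw [hT, LinearMap.transvection.det, hfv]; ring
  have hdetF : LinearMap.det (T.restrictScalars F) = (c : F) := by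
    rw [LinearMap.det_restrictScalars, hdetK, hα]
  set M : Matrix (Fin n) (Fin n) F := LinearMap.toMatrix' (T.restrictScalars F) with hM
  have hMdet : M.det = c := by rw [hM, LinearMap.det_toMatrix', hdetF]
  have hMv : ∀ x : Fin n → F, M *ᵥ x = T x := by
    intro x
    rw [hM, LinearMap.toMatrix'_mulVec]
    rfl
  refine ⟨Matrix.GeneralLinearGroup.mkOfDetNeZero M (by rw [hMdet]; exact c.ne_zero), ?_, hMdet⟩
  apply Cfsg.Agent.Lib.H23.SpF.mem_normalizer_of_commute
  intro k hk
  apply eqm
  intro x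
  show (M * k) *ᵥ x = (k * M) *ᵥ x
  rw [← Matrix.mulVec_mulVec, ← Matrix.mulVec_mulVec, hMv, hMv]
  exact T.map_smul ⟨k, hk⟩ x

/-- **S5886** from `sl_le_of_not_le_normalizer`. -/
theorem s5886_of [Fintype F] (n r : ℕ) (hr : r.Prime) (hrn : r ∣ n) (hlt : r < n)
    (K : Subalgebra F (Matrix (Fin n) (Fin n) F)) (hK : IsFieldSubalgebra r K)
    (hsl : ∀ X : Subgroup (GL (Fin n) F), subalgebraNormalizer K ⊓ specialLinear (Fin n) F ≤ X →
      ¬ X ≤ subalgebraNormalizer K → specialLinear (Fin n) F ≤ X) :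
    IsCoatom (subalgebraNormalizer K) ∧
      IsMaximalIn (specialLinear (Fin n) F) (subalgebraNormalizer K ⊓ specialLinear (Fin n) F) := by
  classical
  have hr2 : 2 ≤ r := hr.two_le
  have hn4 : 4 ≤ n := by
    obtain ⟨c, rfl⟩ := hrn
    have : 2 ≤ c := by
      by_contra hcon
      have : c = 0 ∨ c = 1 := by omega
      rcases this with h | h
      · rw [h, mul_zero] at hlt; omega
      · rw [h, mul_one] at hlt; omega
    calc 4 = 2 * 2 := by norm_num
      _ ≤ r * c := Nat.mul_le_mul hr2 this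
  have : NeZero n := ⟨by omega⟩
  have : Fact (IsFld K) := ⟨⟨hK.comm, hK.inv⟩⟩
  have hnot := Cfsg.Agent.Lib.H5.AschP2.not_sl_le_subalgebraNormalizer (by omega : 3 ≤ n) r K hr hK
  refine ⟨⟨?_, ?_⟩, ⟨?_, ?_⟩⟩
  · intro htop
    apply hnot
    rw [htop]
    exact le_top
  · intro X hlt'
    have hle : subalgebraNormalizer K ≤ X := hlt'.le
    have hXN : ¬ X ≤ subalgebraNormalizer K := fun h => (lt_irrefl _ (lt_of_lt_of_le hlt' h))
    have hSL := hsl X (inf_le_left.trans hle) hXN
    rw [eq_top_iff]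
    intro g _
    have hdet : (g : Matrix (Fin n) (Fin n) F).det ≠ 0 :=
      ((Matrix.isUnit_iff_isUnit_det _).1 g.isUnit).ne_zero
    obtain ⟨h, hhN, hhdet⟩ := exists_mem_normalizer_det n r hr hrn hlt K hK (Units.mk0 _ hdet)
    have h1 : g * h⁻¹ ∈ specialLinear (Fin n) F := by
      rw [Cfsg.Agent.Lib.H28.mem_specialLinear_iff, Units.val_mul, Matrix.det_mul]
      have h2 : ((h⁻¹ : GL (Fin n) F) : Matrix (Fin n) (Fin n) F).det * (h : Matrix (Fin n) (Fin n) F).det = 1 := by
        rw [← Matrix.det_mul, ← Units.val_mul, inv_mul_cancel, Units.val_one, Matrix.det_one]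
      rw [hhdet, Units.val_mk0] at h2
      rw [mul_comm]
      exact h2
    have := X.mul_mem (hSL h1) (hle hhN)
    rwa [inv_mul_cancel_right] at this
  · apply lt_of_le_of_ne inf_le_right
    intro heq
    apply hnot
    rw [← heq]
    exact inf_le_left
  · intro M hNM hMS
    by_cases hMN : M ≤ subalgebraNormalizer K
    · left
      exact le_antisymm (le_inf hMN hMS) hNM
    · right
      exact le_antisymm hMS (hsl M hNM hMN)

end Cfsg.Agent.Lib.H3.C3Max
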