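import Cfsg.Agent.Lib.H3.Supersolvable3
import Cfsg.Agent.Lib.H1.Hall
import Mathlib

/-!
helper3 library: converse of Lagrange for `G × A` (G solvable, A abelian with `|A|_p = |G|_p / p`).
-/

set_option autoImplicit false
open Cfsg

namespace Cfsg.Agent.Lib.H3

theorem exists_hall_split (g a d : ℕ) (hg : g ≠ 0) (ha : a ≠ 0) (hd : d ∣ g * a)
    (hA : ∀ p : ℕ, p.Prime → p ∣ a → p ∣ g)
    (hexp : ∀ p : ℕ, p.Prime → p ∣ g → a.factorization p + 1 = g.factorization p) :
    ∃ d₁ d₂ : ℕ, d = d₁ * d₂ ∧ d₁ ∣ g ∧ d₁.Coprime (g / d₁) ∧ d₂ ∣ a := by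
  classical
  have hd0 : d ≠ 0 := fun h => by
    rw [h, zero_dvd_iff] at hd
    exact (Nat.mul_ne_zero hg ha) hd
  set f : ℕ →₀ ℕ := g.factorization.filter (fun p => g.factorization p ≤ d.factorization p) with hf
  have hfsupp : ∀ p ∈ f.support, p.Prime := by
    intro p hp
    rw [hf, Finsupp.support_filter] at hp
    exact Nat.prime_of_mem_primeFactors ((Finset.mem_filter.1 hp).1)
  set d₁ := f.prod (· ^ ·) with hd₁
  have hd₁f : d₁.factorization = f := Nat.prod_pow_factorization_eq_self hfsupp
  have hd₁0 : d₁ ≠ 0 := by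
    rw [hd₁, Finsupp.prod]
    exact Finset.prod_ne_zero_iff.2 (fun p hp => pow_ne_zero _ (hfsupp p hp).ne_zero)
  have hfapp : ∀ p, f p = if g.factorization p ≤ d.factorization p then g.factorization p else 0 :=
    fun p => by rw [hf, Finsupp.filter_apply]
  have hd₁d : d₁ ∣ d := by
    rw [← Nat.factorization_le_iff_dvd hd₁0 hd0, hd₁f]
    intro p
    rw [hfapp]
    split_ifs with h
    · exact h
    · exact Nat.zero_le _
  have hd₁g : d₁ ∣ g := by
    rw [← Nat.factorization_le_iff_dvd hd₁0 hg, hd₁f]
    intro p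
    rw [hfapp]
    split_ifs with h
    · exact le_rfl
    · exact Nat.zero_le _
  have hdga : ∀ p, d.factorization p ≤ g.factorization p + a.factorization p := by
    intro p
    have := (Nat.factorization_le_iff_dvd hd0 (Nat.mul_ne_zero hg ha)).2 hd p
    rwa [Nat.factorization_mul hg ha, Finsupp.add_apply] at this
  refine ⟨d₁, d / d₁, (Nat.mul_div_cancel' hd₁d).symm, hd₁g, ?_, ?_⟩
  · apply Nat.coprime_of_dvd
    intro k hk hk1 hk2
    have h1 : 1 ≤ d₁.factorization k := (hk.dvd_iff_one_le_factorization hd₁0).1 hk1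
    have hgd0 : g / d₁ ≠ 0 := by
      intro h
      rw [h] at hk2
      have := Nat.div_eq_zero_iff.1 h
      rcases this with h' | h'
      · exact hd₁0 h'
      · exact absurd (Nat.le_of_dvd (Nat.pos_of_ne_zero hg) hd₁g) (not_le.2 h')
    have h2 : 1 ≤ (g / d₁).factorization k := (hk.dvd_iff_one_le_factorization hgd0).1 hk2
    rw [Nat.factorization_div hd₁g, Finsupp.tsub_apply, hd₁f] at h2
    rw [hd₁f] at h1
    rw [hfapp] at h1 h2
    split_ifs at h1 h2 with h
    · omega
    · omega
  · have hdd0 : d / d₁ ≠ 0 := by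
      intro h
      have := Nat.div_eq_zero_iff.1 h
      rcases this with h' | h'
      · exact hd₁0 h'
      · exact absurd (Nat.le_of_dvd (Nat.pos_of_ne_zero hd0) hd₁d) (not_le.2 h')
    rw [← Nat.factorization_le_iff_dvd hdd0 ha, Nat.factorization_div hd₁d, hd₁f]
    intro p
    rw [Finsupp.tsub_apply, hfapp]
    have h3 := hdga p
    by_cases hp : p.Prime
    · by_cases hpg : p ∣ g
      · have h4 := hexp p hp hpg
        split_ifs with h <;> omega
      · have hg0 : g.factorization p = 0 := Nat.factorization_eq_zero_of_not_dvd hpg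
        have ha0 : a.factorization p = 0 :=
          Nat.factorization_eq_zero_of_not_dvd (fun h => hpg (hA p hp h))
        split_ifs with h <;> omega
    · have hg0 : g.factorization p = 0 := Nat.factorization_eq_zero_of_not_prime _ hp
      have ha0 : a.factorization p = 0 := Nat.factorization_eq_zero_of_not_prime _ hp
      split_ifs with h <;> omega

theorem ssReach_closure_finset {A : Type*} [CommGroup A] (s : Finset A) :
    SSReach (Subgroup.closure (s : Set A)) := by
  classical
  induction s using Finset.induction_on with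
  | empty =>
    rw [Finset.coe_empty, Subgroup.closure_empty]
    exact SSReach.bot
  | insert g s hg ih =>
    rw [Finset.coe_insert, Set.insert_eq, Subgroup.closure_union, sup_comm,
      ← Subgroup.zpowers_eq_closure]
    exact SSReach.step _ g ih (Subgroup.normal_of_comm _)

theorem ssReach_top_of_comm {A : Type*} [CommGroup A] [Finite A] :
    SSReach (⊤ : Subgroup A) := by
  classical
  have := Fintype.ofFinite A
  have h := ssReach_closure_finset (Finset.univ : Finset A)
  rwa [Finset.coe_univ, Subgroup.closure_univ] at h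

/-- McCarthy-type theorem: `G × A` satisfies the converse of Lagrange's theorem. -/
theorem hasSub_prod_of_solvable {G A : Type*} [Group G] [CommGroup A] [Finite G] [Finite A]
    [Group.IsSolvable G] (hA : ∀ p : ℕ, p.Prime → p ∣ Nat.card A → p ∣ Nat.card G)
    (hexp : ∀ p : ℕ, p.Prime → p ∣ Nat.card G →
      (Nat.card A).factorization p + 1 = (Nat.card G).factorization p) :
    Cfsg.HasSubgroupOfEveryOrder (G × A) := by
  intro d hd
  rw [Nat.card_prod] at hd
  obtain ⟨d₁, d₂, rfl, hd₁g, hcop, hd₂a⟩ :=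
    exists_hall_split (Nat.card G) (Nat.card A) d Nat.card_pos.ne' Nat.card_pos.ne' hd hA hexp
  obtain ⟨H, hH⟩ := H1.hall_exists (G := G) (Nat.mul_div_cancel' hd₁g).symm hcop
  obtain ⟨B, hB⟩ := hasSubgroupOfEveryOrder_of_ssReach _ A rfl ssReach_top_of_comm d₂ hd₂a
  refine ⟨H.prod B, ?_⟩
  rw [Nat.card_congr (Subgroup.prodEquiv H B).toEquiv, Nat.card_prod, hH, hB]

end Cfsg.Agent.Lib.H3
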