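import Cfsg.Agent.Lib.H3.CarterSys
import Mathlib

/-!
helper3 library: in a finite group of nilpotent length at most two, the Carter subgroups are exactly
the system normalizers.
-/

set_option autoImplicit false
open scoped Pointwise
open Cfsg

namespace Cfsg.Agent.Lib.H3

variable {G : Type*} [Group G]

/-- A subgroup `L` of a normal subgroup `F` which is a normal Hall subgroup of `F` is normal in
the whole group. -/
theorem normal_of_normal_hall_subgroupOf [Finite G] {L F : Subgroup G} [hF : F.Normal]
    (hLF : L ≤ F) (hn : (L.subgroupOf F).Normal) (hcop : (Nat.card L).Coprime (L.relIndex F)) :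
    L.Normal := by
  refine ⟨fun x hx g => ?_⟩
  have hxF : g * x * g⁻¹ ∈ F := hF.conj_mem x (hLF hx) g
  have hcop' : (Nat.card (L.subgroupOf F)).Coprime (L.subgroupOf F).index := by
    rw [card_subgroupOf_of_le hLF]; exact hcop
  have hpow : (⟨g * x * g⁻¹, hxF⟩ : F) ^ Nat.card (L.subgroupOf F) = 1 := by
    apply Subtype.ext
    rw [Subgroup.coe_pow, Subgroup.coe_one, card_subgroupOf_of_le hLF]
    show (g * x * g⁻¹) ^ Nat.card L = 1
    rw [conj_pow]
    have h1 : x ^ Nat.card L = 1 := by
      have := pow_card_eq_one' (G := L) (x := ⟨x, hx⟩)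
      exact congrArg Subtype.val this
    rw [h1]; group
  have := mem_of_pow_card_eq_one_of_normal_hall' (L.subgroupOf F) hcop' hpow
  exact Subgroup.mem_subgroupOf.1 this

/-- In a group `G = C F` with `F` nilpotent normal, `G / F` nilpotent and `C` a Carter subgroup,
a complement system reducing into `C` is normalized by `C`. -/
theorem carter_le_systemNormalizer_of_reduces [Finite G] (F : Subgroup G) [hFn : F.Normal]
    (hF : Group.IsNilpotent F) (hGF : Group.IsNilpotent (G ⧸ F)) [Group.IsSolvable G]
    (C : Subgroup G) (hC : Cfsg.IsCarterSubgroup C) (K : Nat.Primes → Subgroup G)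
    (hK : Cfsg.IsComplementSystem K) (hred : Reduces K C) : C ≤ Cfsg.systemNormalizer K := by
  have hCin : H1.IsCarterIn ⊤ C := H1.isCarterIn_top_iff.2 hC
  have IHconj : ∀ L : Subgroup G, L ≠ ⊤ → ∀ C D, H1.IsCarterIn L C → H1.IsCarterIn L D →
      ∃ g ∈ L, MulAut.conj g • C = D := fun L _ =>
    (H1.carterProp_subgroup L (H1.carterProp_of_solvable _ L rfl)).2
  have hCq := H1.carter_map_quotient (N := F) hCin IHconj
  have hnc := (normalizerCondition_iff_only_full_group_self_normalizing
    (G := G ⧸ F)).mp Group.normalizerCondition_of_isNilpotent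
  have hCtop : C.map (QuotientGroup.mk' F) = ⊤ := hnc _ hCq.2
  have hCnil : Group.IsNilpotent C := hC.1
  unfold Cfsg.systemNormalizer
  rw [le_iInf_iff]
  intro p
  have hp := p.2
  have hcopp : (p : ℕ).Coprime (Nat.card (K p)) := coprime_card_complement hK p
  obtain ⟨j, hj⟩ := hred p
  set Y := K p ⊓ C with hY
  set L := K p ⊓ F with hL
  -- Y is normal in C
  have hCY : C ≤ Subgroup.normalizer (Y : Set G) := by
    have hcopC : (Nat.card (Y.subgroupOf C)).Coprime (Y.subgroupOf C).index := by
      rw [card_subgroupOf_of_le inf_le_right]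
      have h3 : (Y.subgroupOf C).index ∣ (p : ℕ) ^ j := by
        have : (Y.subgroupOf C).index = (K p).relIndex C := by
          rw [hY, Subgroup.inf_subgroupOf_right]; rfl
        rw [this]; exact hj
      have h4 : (p : ℕ).Coprime (Nat.card Y) :=
        hcopp.coprime_dvd_right (Subgroup.card_dvd_of_le inf_le_left)
      exact (Nat.Coprime.pow_left j h4).symm.coprime_dvd_right h3
    have hn' := hall_normal_of_isNilpotent (Y.subgroupOf C) hcopC
    exact (Subgroup.normal_subgroupOf_iff_le_normalizer inf_le_right).1 hn'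
  -- L is normal in G
  have hLn : L.Normal := by
    have hrel : L.relIndex F ∣ (p : ℕ) ^ (Nat.card G).factorization p := by
      rw [hL, Subgroup.inf_relIndex_right, ← hK p]
      exact relIndex_dvd_index_of_normal_right (K p) F
    have h4 : (p : ℕ).Coprime (Nat.card L) :=
      hcopp.coprime_dvd_right (Subgroup.card_dvd_of_le inf_le_left)
    have hcopL : (Nat.card L).Coprime (L.relIndex F) :=
      (Nat.Coprime.pow_left _ h4).symm.coprime_dvd_right hrel
    have hcopF : (Nat.card (L.subgroupOf F)).Coprime (L.subgroupOf F).index := by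
      rw [card_subgroupOf_of_le inf_le_right]; exact hcopL
    have hn' := hall_normal_of_isNilpotent (L.subgroupOf F) hcopF
    exact normal_of_normal_hall_subgroupOf inf_le_right hn' hcopL
  -- K p = Y ⊔ L
  have hKq := complementSystem_map_mk' hK F
  have hcopq : (p : ℕ).Coprime (Nat.card ((K p).map (QuotientGroup.mk' F))) :=
    coprime_card_complement hKq p
  have hYK : (K p).map (QuotientGroup.mk' F) ≤ Y.map (QuotientGroup.mk' F) := by
    rw [← Subgroup.relIndex_eq_one]
    have e1 : (Y.map (QuotientGroup.mk' F)).relIndex ((K p).map (QuotientGroup.mk' F)) ∣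
        Nat.card ((K p).map (QuotientGroup.mk' F)) := Subgroup.relIndex_dvd_card _ _
    have e2 : (Y.map (QuotientGroup.mk' F)).relIndex ((K p).map (QuotientGroup.mk' F)) ∣
        (Y.map (QuotientGroup.mk' F)).index :=
      Subgroup.relIndex_dvd_index_of_le (Subgroup.map_mono inf_le_left)
    have e3 : (Y.map (QuotientGroup.mk' F)).index ∣ (p : ℕ) ^ j := by
      rw [← Subgroup.relIndex_top_right, ← hCtop]
      refine (relIndex_map_mk'_dvd F Y C).trans ?_
      rw [hY, Subgroup.inf_relIndex_right]; exact hj
    exact Nat.eq_one_of_dvd_coprimes (Nat.Coprime.pow_left j hcopq) (e2.trans e3) e1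
  have hKYL : K p = Y ⊔ L := by
    apply le_antisymm _ (sup_le inf_le_left inf_le_left)
    intro k hk
    have h1 : QuotientGroup.mk' F k ∈ Y.map (QuotientGroup.mk' F) :=
      hYK (Subgroup.mem_map_of_mem _ hk)
    obtain ⟨y, hy, hyk⟩ := h1
    have h2 : y⁻¹ * k ∈ F := by
      rw [← QuotientGroup.eq]; exact hyk
    have h3 : y⁻¹ * k ∈ L := ⟨(K p).mul_mem ((K p).inv_mem hy.1) hk, h2⟩
    have h4 : k = y * (y⁻¹ * k) := by group
    rw [h4]
    exact Subgroup.mul_mem _ (Subgroup.mem_sup_left hy) (Subgroup.mem_sup_right h3)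
  rw [hKYL]
  refine le_trans ?_ (Subgroup.normalizer_inf_normalizer_le_normalizer_sup Y L)
  refine le_inf hCY ?_
  rw [Subgroup.normalizer_eq_top_iff.2 hLn]
  exact le_top

end Cfsg.Agent.Lib.H3
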