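import Cfsg.Agent.Lib.H3.SSHall
import Cfsg.Agent.Lib.H3.Supersolvable4
import Cfsg.Agent.Lib.H3.CarterSys2
import Mathlib

/-!
helper3 library: a finite group all of whose subgroups satisfy the converse of Lagrange's theorem is
supersolvable.
-/

set_option autoImplicit false
open scoped Pointwise
open Cfsg

namespace Cfsg.Agent.Lib.H3

theorem hasSub_of_mulEquiv {G G' : Type*} [Group G] [Group G'] (e : G ≃* G')
    (h : HasSubgroupOfEveryOrder G) : HasSubgroupOfEveryOrder G' := by
  intro d hd
  obtain ⟨H, hH⟩ := h d (by rwa [Nat.card_congr e.toEquiv])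
  exact ⟨H.map e.toMonoidHom, by rw [Subgroup.card_map_of_injective e.injective, hH]⟩

theorem le_normalizer_inf_of_normal {G : Type*} [Group G] (X N : Subgroup G) [hN : N.Normal] :
    X ≤ Subgroup.normalizer ((X ⊓ N : Subgroup G) : Set G) := by
  intro x hx
  rw [Subgroup.mem_normalizer_iff]
  intro y
  constructor
  · rintro ⟨hy1, hy2⟩
    exact ⟨X.mul_mem (X.mul_mem hx hy1) (X.inv_mem hx), hN.conj_mem y hy2 x⟩
  · rintro ⟨hy1, hy2⟩
    constructor
    · have := X.mul_mem (X.mul_mem (X.inv_mem hx) hy1) hx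
      simpa [mul_assoc] using this
    · have := hN.conj_mem _ hy2 x⁻¹
      simpa [mul_assoc] using this

/-- For `X ≤ S` and `N` normal, `[X : X ∩ N]` divides `[S : S ∩ N]`. -/
theorem relIndex_dvd_relIndex_of_le_of_normal {G : Type*} [Group G] (N : Subgroup G) [N.Normal]
    {X S : Subgroup G} (hXS : X ≤ S) : N.relIndex X ∣ N.relIndex S := by
  have h1 := Subgroup.relIndex_dvd_index_of_normal (N.subgroupOf S) (X.subgroupOf S)
  rwa [Subgroup.relIndex_subgroupOf hXS] at h1


/-- Key step: if all subgroups of `G` satisfy the converse of Lagrange's theorem and `G` has a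
nontrivial normal Sylow `p`-subgroup, then `G` has a normal subgroup of order `p`. -/
theorem exists_normal_card_prime_of_clt {G : Type*} [Group G] [Finite G]
    (hclt : ∀ H : Subgroup G, HasSubgroupOfEveryOrder H) (p : ℕ) [hpF : Fact p.Prime]
    (P : Subgroup G) [hPn : P.Normal] (a : ℕ) (ha : 1 ≤ a) (hPc : Nat.card P = p ^ a)
    (hfac : (Nat.card G).factorization p = a) :
    ∃ N₁ : Subgroup G, N₁.Normal ∧ Nat.card N₁ = p := by
  have hp := hpF.out
  have hG0 : Nat.card G ≠ 0 := Nat.card_pos.ne'
  set m := Nat.card G / p ^ a with hm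
  have hGm : p ^ a * m = Nat.card G := by
    rw [hm, ← hfac]; exact Nat.ordProj_mul_ordCompl_eq_self _ _
  have hcopm : p.Coprime m := by
    rw [hm, ← hfac]; exact Nat.coprime_ordCompl hp hG0
  have hcltG : HasSubgroupOfEveryOrder G := hasSub_of_mulEquiv Subgroup.topEquiv (hclt ⊤)
  obtain ⟨K, hK⟩ := hcltG m (Dvd.intro_left _ hGm)
  -- the centre of `P`
  set N : Subgroup G := P ⊓ Subgroup.centralizer (P : Set G) with hN
  have hNn : N.Normal := inferInstance
  have hPp : IsPGroup p P := IsPGroup.of_card hPc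
  have hP1 : P ≠ ⊥ := by
    intro h
    rw [h, Subgroup.card_bot] at hPc
    have : 1 < p ^ a := Nat.one_lt_pow (by omega) hp.one_lt
    omega
  obtain ⟨b, hbP, hb1, hbc⟩ := exists_ne_one_commute_of_isPGroup P P hPp hPp hP1
  have hbN : b ∈ N := by
    refine ⟨hbP, ?_⟩
    show b ∈ Subgroup.centralizer (P : Set G)
    rw [Subgroup.mem_centralizer_iff]
    intro s hs
    exact hbc s hs
  have hNcard : Nat.card N ∣ p ^ a := hPc ▸ Subgroup.card_dvd_of_le inf_le_left
  have hpN : p ∣ Nat.card N := by
    obtain ⟨k, -, hk⟩ := (Nat.dvd_prime_pow hp).1 hNcard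
    rcases Nat.eq_zero_or_pos k with h0 | h0
    · exfalso
      rw [h0, pow_zero] at hk
      have := Subgroup.card_eq_one.1 hk
      rw [this, Subgroup.mem_bot] at hbN
      exact hb1 hbN
    · rw [hk]; exact dvd_pow_self p h0.ne'
  -- the subgroup `S = N K`
  set S : Subgroup G := N ⊔ K with hS
  have hmpS : m * p ∣ Nat.card S := by
    apply Nat.Coprime.mul_dvd_of_dvd_of_dvd hcopm.symm
    · rw [← hK]; exact Subgroup.card_dvd_of_le le_sup_right
    · exact hpN.trans (Subgroup.card_dvd_of_le le_sup_left)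
  obtain ⟨X', hX'⟩ := hclt S (m * p) hmpS
  set X : Subgroup G := X'.map S.subtype with hX
  have hXS : X ≤ S := Subgroup.map_subtype_le X'
  have hXc : Nat.card X = m * p := by rw [hX, card_map_subtype, hX']
  -- `|X ∩ N| = p`
  have hr : N.relIndex X ∣ m := by
    have h1 : N.relIndex X ∣ N.relIndex S := relIndex_dvd_relIndex_of_le_of_normal N hXS
    have h2 : N.relIndex S = N.relIndex K := Subgroup.relIndex_sup_left K N
    rw [h2] at h1
    exact h1.trans (hK ▸ Subgroup.relIndex_dvd_card N K)
  have hrc := relIndex_mul_card_inf X N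
  rw [hXc] at hrc
  have hc : Nat.card (X ⊓ N : Subgroup G) = p := by
    apply Nat.dvd_antisymm
    · have h1 : Nat.card (X ⊓ N : Subgroup G) ∣ m * p := Dvd.intro_left _ hrc
      have h2 : (Nat.card (X ⊓ N : Subgroup G)).Coprime m := by
        have h3 : Nat.card (X ⊓ N : Subgroup G) ∣ p ^ a :=
          (Subgroup.card_dvd_of_le inf_le_right).trans hNcard
        exact (Nat.Coprime.pow_left a hcopm).coprime_dvd_left h3
      exact h2.dvd_of_dvd_mul_left h1
    · have h1 : p ∣ N.relIndex X * Nat.card (X ⊓ N : Subgroup G) := by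
        rw [hrc]; exact Dvd.intro_left _ rfl
      have h2 : p.Coprime (N.relIndex X) := hcopm.coprime_dvd_right hr
      exact h2.dvd_of_dvd_mul_left h1
  -- normality
  set N₁ : Subgroup G := X ⊓ N with hN₁
  have hXn : X ≤ Subgroup.normalizer (N₁ : Set G) := le_normalizer_inf_of_normal X N
  have hPn' : P ≤ Subgroup.normalizer (N₁ : Set G) := by
    refine le_trans ?_ (Subgroup.centralizer_le_normalizer _)
    intro g hg
    rw [Subgroup.mem_centralizer_iff]
    intro n hn
    have h1 : n ∈ Subgroup.centralizer (P : Set G) := hn.2.2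
    rw [Subgroup.mem_centralizer_iff] at h1
    exact (h1 g hg).symm
  have hXP : X ⊔ P = ⊤ := by
    apply Subgroup.eq_top_of_card_eq
    apply Nat.dvd_antisymm (Subgroup.card_subgroup_dvd_card _)
    rw [← hGm]
    apply Nat.Coprime.mul_dvd_of_dvd_of_dvd (Nat.Coprime.pow_left a hcopm)
    · rw [← hPc]; exact Subgroup.card_dvd_of_le le_sup_right
    · exact (Dvd.intro _ rfl : m ∣ m * p).trans (hXc ▸ Subgroup.card_dvd_of_le le_sup_left)
  have hnorm : Subgroup.normalizer (N₁ : Set G) = ⊤ := by
    rw [eq_top_iff, ← hXP]; exact sup_le hXn hPn'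
  exact ⟨N₁, Subgroup.normalizer_eq_top_iff.1 hnorm, hc⟩


/-- **Deskins / Ore–Zappa**: if every subgroup of a finite group has subgroups of all orders
dividing its order, then the group is supersolvable. -/
theorem ssReach_top_of_all_clt.{u} :
    ∀ (n : ℕ) (G : Type u) [Group G] [Finite G], Nat.card G = n →
      (∀ H : Subgroup G, HasSubgroupOfEveryOrder H) → SSReach (⊤ : Subgroup G) := by
  intro n
  induction n using Nat.strong_induction_on with
  | _ n ih =>
  intro G _ _ hn hclt
  rcases subsingleton_or_nontrivial G with hsub | hnt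
  · exact ssReach_top_of_subsingleton
  -- proper subgroups are supersolvable
  have hsubSS : ∀ H : Subgroup G, H ≠ ⊤ → SSReach (⊤ : Subgroup H) := by
    intro H hH
    have hlt : Nat.card H < n := hn ▸ H1.card_lt_of_ne_top hH
    apply ih _ hlt H rfl
    intro H'
    exact hasSub_of_mulEquiv (H'.equivMapOfInjective H.subtype H.subtype_injective).symm
      (hclt (H'.map H.subtype))
  have hcltG : HasSubgroupOfEveryOrder G := hasSub_of_mulEquiv Subgroup.topEquiv (hclt ⊤)
  have hG1 : 1 < Nat.card G := Finite.one_lt_card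
  have hGpos : 0 < Nat.card G := Nat.card_pos
  -- the largest prime divisor
  have hne : (Nat.card G).primeFactors.Nonempty := by
    rw [Nat.nonempty_primeFactors]; exact hG1
  set p := (Nat.card G).primeFactors.max' hne with hp_def
  have hpmem : p ∈ (Nat.card G).primeFactors := Finset.max'_mem _ hne
  have hp : p.Prime := Nat.prime_of_mem_primeFactors hpmem
  have hpd : p ∣ Nat.card G := Nat.dvd_of_mem_primeFactors hpmem
  have hmax : ∀ q : ℕ, q.Prime → q ∣ Nat.card G → q ≤ p := by
    intro q hq hqd
    exact Finset.le_max' _ _ (Nat.mem_primeFactors.2 ⟨hq, hqd, hGpos.ne'⟩)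
  have hpF : Fact p.Prime := ⟨hp⟩
  set a := (Nat.card G).factorization p with ha_def
  have ha1 : 1 ≤ a := (hp.dvd_iff_one_le_factorization hGpos.ne').1 hpd
  -- a normal Sylow p-subgroup
  have hP : ∃ P : Subgroup G, P.Normal ∧ Nat.card P = p ^ a := by
    set q := (Nat.card G).minFac with hq_def
    have hq : q.Prime := Nat.minFac_prime hG1.ne'
    have hqd : q ∣ Nat.card G := Nat.minFac_dvd _
    by_cases hqp : q = p
    · -- `G` is a `p`-group
      refine ⟨⊤, inferInstance, ?_⟩
      rw [Subgroup.card_top]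
      have h1 : ∀ r : ℕ, r.Prime → r ∣ Nat.card G → r = p := by
        intro r hr hrd
        apply le_antisymm (hmax r hr hrd)
        rw [← hqp]; exact Nat.minFac_le_of_dvd hr.two_le hrd
      obtain ⟨k, hk⟩ : ∃ k, Nat.card G = p ^ k :=
        ⟨_, Nat.eq_prime_pow_of_unique_prime_dvd hGpos.ne' (fun {r} hr hrd => h1 r hr hrd)⟩
      have hak : a = k := by
        rw [ha_def, hk, hp.factorization_pow, Finsupp.single_eq_same]
      rw [hak]; exact hk
    · obtain ⟨M, hM⟩ := hcltG (Nat.card G / q) (Nat.div_dvd_of_dvd hqd)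
      have hMq : Nat.card M * q = Nat.card G := by rw [hM]; exact Nat.div_mul_cancel hqd
      have hMidx : M.index = q := by
        have h1 := Subgroup.index_mul_card M
        rw [← hMq, mul_comm] at h1
        exact Nat.eq_of_mul_eq_mul_left Nat.card_pos h1
      have hMn : M.Normal := Subgroup.normal_of_index_eq_minFac_card hMidx
      have hMtop : M ≠ ⊤ := by
        intro h
        rw [h, Subgroup.index_top] at hMidx
        exact hq.one_lt.ne hMidx
      have hssM := hsubSS M hMtop
      have hpdM : p ∣ Nat.card M := by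
        have h1 : p ∣ Nat.card M * q := hMq ▸ hpd
        rcases (Nat.Prime.dvd_mul hp).1 h1 with h | h
        · exact h
        · exact absurd ((Nat.prime_dvd_prime_iff_eq hp hq).1 h).symm hqp
      have hmaxM : ∀ r : ℕ, r.Prime → r ∣ Nat.card M → r ≤ p :=
        fun r hr hrd => hmax r hr (hrd.trans (Dvd.intro _ hMq))
      obtain ⟨P0, hP0n, hP0c⟩ := exists_normal_sylow_largest_prime _ M rfl hssM p hp hpdM hmaxM
      have hfacM : (Nat.card M).factorization p = a := by
        rw [ha_def, ← hMq, Nat.factorization_mul Nat.card_pos.ne' hq.ne_zero, Finsupp.add_apply,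
          Nat.factorization_eq_zero_of_not_dvd (n := q)
            (fun h => hqp ((Nat.prime_dvd_prime_iff_eq hp hq).1 h).symm), add_zero]
      rw [hfacM] at hP0c
      set P : Subgroup G := P0.map M.subtype with hP_def
      have hPM : P ≤ M := Subgroup.map_subtype_le P0
      have hPc : Nat.card P = p ^ a := by rw [hP_def, card_map_subtype, hP0c]
      have hPsub : P.subgroupOf M = P0 :=
        Subgroup.comap_map_eq_self_of_injective M.subtype_injective P0
      have hn' : (P.subgroupOf M).Normal := by rw [hPsub]; exact hP0n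
      have hcop : (Nat.card P).Coprime (P.relIndex M) := by
        rw [hPc]
        apply Nat.Coprime.pow_left
        rw [Nat.Prime.coprime_iff_not_dvd hp]
        intro hd
        have h1 := relIndex_mul_card_inf M P
        rw [inf_eq_right.2 hPM, hPc] at h1
        have hr0 : P.relIndex M ≠ 0 := by
          intro h0
          rw [h0, zero_mul] at h1
          exact (Nat.card_pos (α := M)).ne' h1.symm
        have h2 := hfacM
        rw [← h1, Nat.factorization_mul hr0 (pow_ne_zero _ hp.ne_zero), Finsupp.add_apply,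
          hp.factorization_pow, Finsupp.single_eq_same] at h2
        have h3 : (P.relIndex M).factorization p = 0 := by omega
        have h4 := (hp.dvd_iff_one_le_factorization hr0).1 hd
        omega
      exact ⟨P, normal_of_normal_hall_subgroupOf hPM hn' hcop, hPc⟩
  obtain ⟨P, hPn, hPc⟩ := hP
  obtain ⟨N₁, hN₁n, hN₁c⟩ := exists_normal_card_prime_of_clt hclt p P a ha1 hPc rfl
  -- `N₁` is cyclic
  have hN₁ne : N₁ ≠ ⊥ := by
    intro h
    rw [h, Subgroup.card_bot] at hN₁c
    exact hp.one_lt.ne hN₁c
  obtain ⟨z, hzN, hz1⟩ := (Subgroup.bot_or_exists_ne_one N₁).resolve_left hN₁ne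
  have hzN₁ : Subgroup.zpowers z = N₁ := by
    have hle : Subgroup.zpowers z ≤ N₁ := (Subgroup.zpowers_le).2 hzN
    apply Subgroup.eq_of_le_of_card_ge hle
    rw [hN₁c, Nat.card_zpowers]
    have h1 : orderOf z ∣ p := by
      rw [← hN₁c]
      have := Subgroup.card_dvd_of_le hle
      rwa [Nat.card_zpowers] at this
    rcases (Nat.dvd_prime hp).1 h1 with h | h
    · exact absurd (orderOf_eq_one_iff.1 h) hz1
    · exact h.ge
  -- the quotient satisfies the hypothesis
  have hGN : Nat.card (G ⧸ N₁) * p = Nat.card G := by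
    rw [← hN₁c]; exact (Subgroup.card_eq_card_quotient_mul_card_subgroup N₁).symm
  have hcltQ : HasSubgroupOfEveryOrder (G ⧸ N₁) := by
    intro d hd
    have hdp : d * p ∣ Nat.card G := hGN ▸ Nat.mul_dvd_mul_right hd p
    obtain ⟨Y, hY⟩ := hcltG (d * p) hdp
    by_cases hYtop : Y = ⊤
    · refine ⟨⊤, ?_⟩
      rw [Subgroup.card_top]
      rw [hYtop, Subgroup.card_top, ← hGN] at hY
      exact Nat.eq_of_mul_eq_mul_right hp.pos hY
    · have hssY := hsubSS Y hYtop
      have hssYq : SSReach (⊤ : Subgroup (Y.map (QuotientGroup.mk' N₁))) :=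
        ssReach_top_of_surjective ((QuotientGroup.mk' N₁).subgroupMap Y)
          ((QuotientGroup.mk' N₁).subgroupMap_surjective Y) hssY
      have hcltYq := hasSubgroupOfEveryOrder_of_ssReach _ _ rfl hssYq
      have hcardYq : Nat.card (Y.map (QuotientGroup.mk' N₁)) = N₁.relIndex Y := by
        rw [← Subgroup.relIndex_ker (K := Y) (QuotientGroup.mk' N₁), QuotientGroup.ker_mk']
      have h1 := relIndex_mul_card_inf Y N₁
      rw [hY, ← hcardYq] at h1
      have h2 : Nat.card (Y ⊓ N₁ : Subgroup G) ∣ p := hN₁c ▸ Subgroup.card_dvd_of_le inf_le_right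
      have hdY : d ∣ Nat.card (Y.map (QuotientGroup.mk' N₁)) := by
        rcases (Nat.dvd_prime hp).1 h2 with h | h
        · rw [h, mul_one] at h1
          rw [h1]; exact Dvd.intro _ rfl
        · rw [h] at h1
          rw [Nat.eq_of_mul_eq_mul_right hp.pos h1]
      obtain ⟨Z, hZ⟩ := hcltYq d hdY
      exact ⟨Z.map (Subgroup.subtype _), by rw [card_map_subtype, hZ]⟩
  have hcltQall : ∀ H : Subgroup (G ⧸ N₁), HasSubgroupOfEveryOrder H := by
    intro Hb
    by_cases hHb : Hb.comap (QuotientGroup.mk' N₁) = ⊤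
    · have hHbtop : Hb = ⊤ := by
        have h1 := congrArg (Subgroup.map (QuotientGroup.mk' N₁)) hHb
        rwa [Subgroup.map_comap_eq_self_of_surjective (QuotientGroup.mk'_surjective N₁),
          Subgroup.map_top_of_surjective _ (QuotientGroup.mk'_surjective N₁)] at h1
      rw [hHbtop]
      exact hasSub_of_mulEquiv Subgroup.topEquiv.symm hcltQ
    · have hss := hsubSS _ hHb
      have hssq : SSReach (⊤ : Subgroup ((Hb.comap (QuotientGroup.mk' N₁)).map
          (QuotientGroup.mk' N₁))) :=
        ssReach_top_of_surjective ((QuotientGroup.mk' N₁).subgroupMap _)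
          ((QuotientGroup.mk' N₁).subgroupMap_surjective _) hss
      have h1 := hasSubgroupOfEveryOrder_of_ssReach _ _ rfl hssq
      rwa [Subgroup.map_comap_eq_self_of_surjective (QuotientGroup.mk'_surjective N₁)] at h1
  have hltQ : Nat.card (G ⧸ N₁) < n := hn ▸ H1.card_quotient_lt hN₁ne
  have hssQ := ih _ hltQ (G ⧸ N₁) rfl hcltQall
  subst hzN₁
  exact ssReach_top_of_normal_zpowers z hN₁n hssQ

end Cfsg.Agent.Lib.H3
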