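import Mathlib
import Cfsg.Agent.Lib.H3.DC2

set_option autoImplicit false

/-!
# Kernel-checkable double coset certificates

`DCData` is a certificate that `H = ⟨M, t⟩` (with `M` a listed subgroup fixing the point `α`)
has point stabilizer `M`, so that `|H| = |H α| · |M|`.
-/

namespace Cfsg.Agent.Lib.H3.DC

/-- certificate data, see the module docstring of `DC1` -/
structure DCData where
  L : Listed
  tE : List ℕ
  wE : List ℕ
  aE : ℕ
  r : ℕ
  uE : ℕ → List ℕ
  uI : ℕ → ℕ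
  uJ : ℕ → ℕ
  θ : ℕ
  aIdx : ℕ → ℕ
  aInv : ℕ → ℕ
  taE : ℕ → List ℕ
  bTab : ℕ → ℕ → ℕ
  kIdx : ℕ → ℕ
  dcJ : ℕ → ℕ → ℕ
  dc1 : ℕ → ℕ → ℕ
  dc2 : ℕ → ℕ → ℕ

namespace DCData

variable {G : Type} [Group G] {P : Type} [MulAction G P]

/-- code of `β = t⁻¹ α` -/
def bE (M : Model G P) (D : DCData) : ℕ := M.actE D.wE D.aE

/-- code of `a_i⁻¹ β` -/
def bPt (M : Model G P) (D : DCData) (i : ℕ) : ℕ := M.actE (D.L.elt (D.aInv i)) (D.bE M)

/-- generators of `M` fix `α` -/
def chk1 (M : Model G P) (D : DCData) : Bool :=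
  allLt D.L.ng fun k => Nat.beq (M.actE (D.L.gen k) D.aE) D.aE

/-- `w = t⁻¹`, `u_0 = 1`, `b_0 = β` -/
def chk2 (M : Model G P) (D : DCData) : Bool :=
  beqL (M.mulE D.tE D.wE) M.oneE && beqL (D.uE 0) M.oneE && Nat.blt 0 D.r && Nat.blt 0 D.θ &&
    Nat.beq (D.bPt M 0) (D.bE M)

/-- the representatives `u_j` -/
def chk3 (M : Model G P) (D : DCData) : Bool :=
  allLt D.r fun j =>
    Nat.beq j 0 ||
      (Nat.blt (D.uI j) D.θ && Nat.blt (D.uJ j) j &&
        beqL (M.mulE (D.taE (D.uI j)) (D.uE (D.uJ j))) (D.uE j) &&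
        !(Nat.beq (M.actE (D.uE j) D.aE) D.aE))

/-- the coset representatives `a_i` -/
def chk4 (M : Model G P) (D : DCData) : Bool :=
  allLt D.θ fun i =>
    Nat.blt (D.aIdx i) D.L.n && Nat.blt (D.aInv i) D.L.n &&
      beqL (M.mulE (D.L.elt (D.aInv i)) (D.L.elt (D.aIdx i))) M.oneE &&
      beqL (M.mulE D.tE (D.L.elt (D.aIdx i))) (D.taE i)

/-- the set `B` is closed under the generators of `M` -/
def chk5 (M : Model G P) (D : DCData) : Bool :=
  allLt D.L.ng fun k => allLt D.θ fun i =>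
    Nat.blt (D.bTab k i) D.θ && Nat.beq (M.actE (D.L.gen k) (D.bPt M i)) (D.bPt M (D.bTab k i))

/-- `t K t⁻¹ ≤ M` for the stabilizer `K` of `β` in `M` -/
def chk6 (M : Model G P) (D : DCData) : Bool :=
  allLt D.L.n fun e =>
    !(Nat.beq (M.actE (D.L.elt e) (D.bE M)) (D.bE M)) ||
      (Nat.blt (D.kIdx e) D.L.n &&
        beqL (M.mulE D.tE (D.L.elt e)) (M.mulE (D.L.elt (D.kIdx e)) D.tE))

/-- `t a_i u_j ∈ M u_j' M` -/
def chk7 (M : Model G P) (D : DCData) (i j : ℕ) : Bool :=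
  Nat.blt (D.dcJ i j) D.r && Nat.blt (D.dc1 i j) D.L.n && Nat.blt (D.dc2 i j) D.L.n &&
    beqL (M.mulE (D.taE i) (D.uE j))
      (M.mulE (M.mulE (D.L.elt (D.dc1 i j)) (D.uE (D.dcJ i j))) (D.L.elt (D.dc2 i j)))

section sound

variable (M : Model G P) (D : DCData) (gs : ℕ → G) (t w : G) (α : P)

/-- the listed subgroup -/
def MM (D : DCData) (gs : ℕ → G) : Subgroup G := Subgroup.closure (Listed.genSet D.L gs)

/-- the group `⟨M, t⟩` -/
def HH (D : DCData) (gs : ℕ → G) (t : G) : Subgroup G :=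
  Subgroup.closure ((MM D gs : Set G) ∪ {t})

structure Valid : Prop where
  hgs : ∀ k < D.L.ng, M.code (gs k) = D.L.gen k
  ht : M.code t = D.tE
  hw : M.code w = D.wE
  hα : M.enc α = D.aE
  hL1 : D.L.check1 M = true
  hL2 : ∀ k < D.L.ng, D.L.check2 M k = true
  hL3 : D.L.check3 = true
  hL4 : D.L.check4 = true
  h1 : D.chk1 M = true
  h2 : D.chk2 M = true
  h3 : D.chk3 M = true
  h4 : D.chk4 M = true
  h5 : D.chk5 M = true
  h6 : D.chk6 M = true
  h7 : ∀ i < D.θ, ∀ j < D.r, D.chk7 M i j = true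

variable {M D gs t w α}

theorem Valid.exists_elt (V : Valid M D gs t w α) :
    ∀ i < D.L.n, ∃ g ∈ MM D gs, M.code g = D.L.elt i :=
  Listed.exists_of_lt M D.L gs V.hgs V.hL1 V.hL2 V.hL4

theorem Valid.exists_idx [Finite G] (V : Valid M D gs t w α) :
    ∀ g ∈ MM D gs, ∃ i < D.L.n, M.code g = D.L.elt i :=
  Listed.exists_of_mem M D.L gs V.hgs V.hL1 V.hL2

theorem Valid.card_MM [Finite G] (V : Valid M D gs t w α) : Nat.card (MM D gs) = D.L.n :=
  Listed.card_closure M D.L gs V.hgs V.hL1 V.hL2 V.hL3 V.hL4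

theorem Valid.tw (V : Valid M D gs t w α) : t * w = 1 := by
  apply M.code_inj
  have := V.h2
  simp only [chk2, Bool.and_eq_true] at this
  rw [M.code_mul, V.ht, V.hw, M.code_one]
  exact eq_of_beqL _ _ this.1.1.1.1

theorem Valid.w_eq (V : Valid M D gs t w α) : w = t⁻¹ := eq_inv_of_mul_eq_one_right V.tw

theorem Valid.enc_beta (V : Valid M D gs t w α) : M.enc (w • α) = D.bE M := by
  rw [M.enc_smul, V.hw, V.hα]; rfl

/-- the listed element with index `i` -/
noncomputable def Valid.mel (V : Valid M D gs t w α) (i : ℕ) : G :=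
  if h : i < D.L.n then (V.exists_elt i h).choose else 1

theorem Valid.mel_mem (V : Valid M D gs t w α) (i : ℕ) : V.mel i ∈ MM D gs := by
  unfold Valid.mel
  split_ifs with h
  · exact (V.exists_elt i h).choose_spec.1
  · exact Subgroup.one_mem _

theorem Valid.code_mel (V : Valid M D gs t w α) (i : ℕ) (h : i < D.L.n) :
    M.code (V.mel i) = D.L.elt i := by
  unfold Valid.mel
  rw [dif_pos h]
  exact (V.exists_elt i h).choose_spec.2

theorem Valid.fix (V : Valid M D gs t w α) : ∀ m ∈ MM D gs, m • α = α := by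
  have hle : MM D gs ≤ MulAction.stabilizer G α := by
    unfold MM
    rw [Subgroup.closure_le]
    rintro g ⟨k, hk, rfl⟩
    show gs k ∈ MulAction.stabilizer G α
    rw [MulAction.mem_stabilizer_iff]
    apply M.enc_inj
    rw [M.enc_smul, V.hgs k hk, V.hα]
    exact Nat.eq_of_beq_eq_true ((allLt_iff _ _).mp V.h1 k hk)
  intro m hm
  exact MulAction.mem_stabilizer_iff.mp (hle hm)

theorem Valid.chk4_spec (V : Valid M D gs t w α) (i : ℕ) (hi : i < D.θ) :
    D.aIdx i < D.L.n ∧ D.aInv i < D.L.n ∧ V.mel (D.aInv i) * V.mel (D.aIdx i) = 1 ∧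
      M.code (t * V.mel (D.aIdx i)) = D.taE i := by
  have := (allLt_iff _ _).mp V.h4 i hi
  simp only [Bool.and_eq_true] at this
  obtain ⟨⟨⟨h1, h2⟩, h3⟩, h4⟩ := this
  have h1' := lt_of_blt h1
  have h2' := lt_of_blt h2
  refine ⟨h1', h2', ?_, ?_⟩
  · apply M.code_inj
    rw [M.code_mul, V.code_mel _ h2', V.code_mel _ h1', M.code_one]
    exact eq_of_beqL _ _ h3
  · rw [M.code_mul, V.ht, V.code_mel _ h1']
    exact eq_of_beqL _ _ h4

theorem Valid.enc_bPt (V : Valid M D gs t w α) (i : ℕ) (hi : i < D.θ) :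
    M.enc ((V.mel (D.aIdx i))⁻¹ • (w • α)) = D.bPt M i := by
  obtain ⟨h1, h2, h3, _⟩ := V.chk4_spec i hi
  have : (V.mel (D.aIdx i))⁻¹ = V.mel (D.aInv i) := (eq_inv_of_mul_eq_one_left h3).symm
  rw [this, M.enc_smul, V.code_mel _ h2, V.enc_beta]
  rfl

theorem Valid.hB [Finite G] (V : Valid M D gs t w α) :
    ∀ m ∈ MM D gs, ∃ i : Fin D.θ, m⁻¹ • (w • α) = (V.mel (D.aIdx i))⁻¹ • (w • α) := by
  have key : ∀ g ∈ MM D gs, g ∈ {g : G | ∃ i < D.θ, M.enc (g • (w • α)) = D.bPt M i} := by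
    unfold MM
    apply closure_subset_of_mul_mem
    · intro s _; exact isOfFinOrder_of_finite s
    · have := V.h2
      simp only [chk2, Bool.and_eq_true] at this
      refine ⟨0, lt_of_blt this.1.2, ?_⟩
      rw [one_smul, V.enc_beta]
      exact (Nat.eq_of_beq_eq_true this.2).symm
    · rintro s ⟨k, hk, rfl⟩ x ⟨i, hi, hx⟩
      have := (allLt_iff _ _).mp ((allLt_iff _ _).mp V.h5 k hk) i hi
      rw [Bool.and_eq_true] at this
      refine ⟨D.bTab k i, lt_of_blt this.1, ?_⟩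
      rw [mul_smul, M.enc_smul, V.hgs k hk, hx]
      exact Nat.eq_of_beq_eq_true this.2
  intro m hm
  obtain ⟨i, hi, he⟩ := key m⁻¹ ((MM D gs).inv_mem hm)
  refine ⟨⟨i, hi⟩, M.enc_inj ?_⟩
  rw [he, V.enc_bPt i hi]

theorem Valid.hK [Finite G] (V : Valid M D gs t w α) :
    ∀ k ∈ MM D gs, k • (w • α) = w • α → t * k * t⁻¹ ∈ MM D gs := by
  intro k hk hkb
  obtain ⟨e, he, hce⟩ := V.exists_idx k hk
  have := (allLt_iff _ _).mp V.h6 e he
  rw [Bool.or_eq_true] at this
  rcases this with h | h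
  · exfalso
    have h1 : M.actE (D.L.elt e) (D.bE M) = D.bE M := by
      rw [← hce, ← V.enc_beta, ← M.enc_smul, hkb]
    rw [h1] at h
    simp at h
  · rw [Bool.and_eq_true] at h
    have h1 := lt_of_blt h.1
    have h2 : t * k = V.mel (D.kIdx e) * t := by
      apply M.code_inj
      rw [M.code_mul, M.code_mul, V.ht, hce, V.code_mel _ h1]
      exact eq_of_beqL _ _ h.2
    rw [h2, mul_assoc, mul_inv_cancel, mul_one]
    exact V.mel_mem _

theorem Valid.exists_u (V : Valid M D gs t w α) :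
    ∀ j < D.r, ∃ g ∈ HH D gs t, M.code g = D.uE j := by
  have key : ∀ n j, j ≤ n → j < D.r → ∃ g ∈ HH D gs t, M.code g = D.uE j := by
    intro n
    induction n with
    | zero =>
      intro j hj _
      have hj0 : j = 0 := by omega
      subst hj0
      refine ⟨1, Subgroup.one_mem _, ?_⟩
      have := V.h2
      simp only [chk2, Bool.and_eq_true] at this
      rw [M.code_one]
      exact (eq_of_beqL _ _ this.1.1.1.2).symm
    | succ n ih =>
      intro j hj hjr
      have := (allLt_iff _ _).mp V.h3 j hjr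
      rw [Bool.or_eq_true] at this
      rcases this with h | h
      · have hj0 : j = 0 := Nat.eq_of_beq_eq_true h
        subst hj0
        exact ih 0 (Nat.zero_le _) hjr
      · simp only [Bool.and_eq_true] at h
        obtain ⟨⟨⟨h1, h2⟩, h3⟩, _⟩ := h
        have h1' := lt_of_blt h1
        have h2' := lt_of_blt h2
        obtain ⟨g, hg, hcg⟩ := ih (D.uJ j) (by omega) (by omega)
        obtain ⟨ha1, _, _, ha4⟩ := V.chk4_spec _ h1'
        refine ⟨t * V.mel (D.aIdx (D.uI j)) * g, ?_, ?_⟩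
        · refine Subgroup.mul_mem _ (Subgroup.mul_mem _ ?_ ?_) hg
          · exact Subgroup.subset_closure (Or.inr rfl)
          · exact Subgroup.subset_closure (Or.inl (V.mel_mem _))
        · rw [M.code_mul, ha4, hcg]
          exact eq_of_beqL _ _ h3
  intro j hj
  exact key j j le_rfl hj

/-- the representative `u_j` -/
noncomputable def Valid.uel (V : Valid M D gs t w α) (j : ℕ) : G :=
  if h : j < D.r then (V.exists_u j h).choose else 1

theorem Valid.uel_mem (V : Valid M D gs t w α) (j : ℕ) : V.uel j ∈ HH D gs t := by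
  unfold Valid.uel
  split_ifs with h
  · exact (V.exists_u j h).choose_spec.1
  · exact Subgroup.one_mem _

theorem Valid.code_uel (V : Valid M D gs t w α) (j : ℕ) (h : j < D.r) :
    M.code (V.uel j) = D.uE j := by
  unfold Valid.uel
  rw [dif_pos h]
  exact (V.exists_u j h).choose_spec.2

theorem Valid.r_pos (V : Valid M D gs t w α) : 0 < D.r := by
  have := V.h2
  simp only [chk2, Bool.and_eq_true] at this
  exact lt_of_blt this.1.1.2

theorem Valid.uel_zero (V : Valid M D gs t w α) : V.uel 0 = 1 := by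
  apply M.code_inj
  rw [V.code_uel 0 V.r_pos, M.code_one]
  have := V.h2
  simp only [chk2, Bool.and_eq_true] at this
  exact eq_of_beqL _ _ this.1.1.1.2

theorem Valid.hne (V : Valid M D gs t w α) :
    ∀ j : Fin D.r, V.uel j • α = α → V.uel j = 1 := by
  intro j hj
  have := (allLt_iff _ _).mp V.h3 j j.2
  rw [Bool.or_eq_true] at this
  rcases this with h | h
  · have hj0 : (j : ℕ) = 0 := Nat.eq_of_beq_eq_true h
    rw [hj0]; exact V.uel_zero
  · exfalso
    simp only [Bool.and_eq_true] at h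
    have h4 := h.2
    have h5 : M.actE (D.uE j) D.aE = D.aE := by
      rw [← V.code_uel j j.2, ← V.hα, ← M.enc_smul, hj]
    rw [h5] at h4
    simp at h4

theorem Valid.hiv (V : Valid M D gs t w α) :
    ∀ (i : Fin D.θ) (j : Fin D.r),
      t * V.mel (D.aIdx i) * V.uel j ∈ dcSet (MM D gs) (fun j : Fin D.r => V.uel j) := by
  intro i j
  have := V.h7 i i.2 j j.2
  simp only [chk7, Bool.and_eq_true] at this
  obtain ⟨⟨⟨h1, h2⟩, h3⟩, h4⟩ := this
  have h1' := lt_of_blt h1
  have h2' := lt_of_blt h2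
  have h3' := lt_of_blt h3
  refine ⟨⟨D.dcJ i j, h1'⟩, V.mel (D.dc1 i j), V.mel_mem _, V.mel (D.dc2 i j), V.mel_mem _, ?_⟩
  apply M.code_inj
  obtain ⟨_, _, _, ha4⟩ := V.chk4_spec i i.2
  rw [M.code_mul, ha4, V.code_uel j j.2, M.code_mul, M.code_mul, V.code_mel _ h2',
    V.code_uel _ h1', V.code_mel _ h3']
  exact eq_of_beqL _ _ h4

/-- **Main theorem**: `|⟨M, t⟩| = |orbit of α| · n`. -/
theorem Valid.card_HH [Finite G] (V : Valid M D gs t w α) :
    Nat.card (HH D gs t) = Nat.card (MulAction.orbit (HH D gs t) α) * D.L.n := by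
  have hcov := cover_of_orbit (MM D gs) t (w • α) (fun i : Fin D.θ => V.mel (D.aIdx i))
    (fun i => V.mel_mem _) V.hB (by
      have := V.hK
      intro k hk hkb
      exact this k hk hkb)
  have := card_closure_eq (MM D gs) t (isOfFinOrder_of_finite t)
    (fun j : Fin D.r => V.uel j) (fun i : Fin D.θ => V.mel (D.aIdx i)) α
    ⟨⟨0, V.r_pos⟩, V.uel_zero⟩ hcov V.hiv V.fix V.hne
  rw [V.card_MM] at this
  exact this

/-- elements of `⟨M, t⟩` fixing `α` are in `M` -/
theorem Valid.stab_le [Finite G] (V : Valid M D gs t w α) :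
    ∀ g ∈ HH D gs t, g • α = α → g ∈ MM D gs := by
  have hcov := cover_of_orbit (MM D gs) t (w • α) (fun i : Fin D.θ => V.mel (D.aIdx i))
    (fun i => V.mel_mem _) V.hB (by
      have := V.hK
      intro k hk hkb
      exact this k hk hkb)
  intro g hg hga
  exact mem_of_dcSet_of_fix (MM D gs) (fun j : Fin D.r => V.uel j) α V.fix V.hne g
    (closure_le_dcSet (MM D gs) t (isOfFinOrder_of_finite t) (fun j : Fin D.r => V.uel j)
      (fun i : Fin D.θ => V.mel (D.aIdx i)) ⟨⟨0, V.r_pos⟩, V.uel_zero⟩ hcov V.hiv g hg) hga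

/-- membership test: an element whose code is `m1 u_j m2` lies in `⟨M, t⟩` -/
theorem Valid.mem_HH_of_code (V : Valid M D gs t w α) (g : G) (j e1 e2 : ℕ) (hj : j < D.r)
    (he1 : e1 < D.L.n) (he2 : e2 < D.L.n)
    (h : M.code g = M.mulE (M.mulE (D.L.elt e1) (D.uE j)) (D.L.elt e2)) : g ∈ HH D gs t := by
  have : g = V.mel e1 * V.uel j * V.mel e2 := by
    apply M.code_inj
    rw [h, M.code_mul, M.code_mul, V.code_mel _ he1, V.code_uel _ hj, V.code_mel _ he2]
  rw [this]
  refine Subgroup.mul_mem _ (Subgroup.mul_mem _ ?_ (V.uel_mem j)) ?_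
  · exact Subgroup.subset_closure (Or.inl (V.mel_mem _))
  · exact Subgroup.subset_closure (Or.inl (V.mel_mem _))

end sound

end DCData

end Cfsg.Agent.Lib.H3.DC
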