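import Mathlib
import Cfsg.Agent.Lib.H3.DC3

set_option autoImplicit false

/-!
# Listed orbits and the centre of `⟨M, t⟩`
-/

namespace Cfsg.Agent.Lib.H3.DC

/-- certificate for the orbit of a point under a finitely generated group -/
structure ListedOrbit where
  np : ℕ
  ng : ℕ
  gen : ℕ → List ℕ
  pt : ℕ → ℕ
  tab : ℕ → ℕ → ℕ
  i0 : ℕ
  dep : ℕ → ℕ
  par : ℕ → ℕ
  pg : ℕ → ℕ

namespace ListedOrbit

variable {G : Type} [Group G] {P : Type} [MulAction G P]

/-- the base point is listed, the codes are strictly increasing -/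
def check1 (O : ListedOrbit) (aE : ℕ) : Bool :=
  Nat.blt O.i0 O.np && Nat.beq (O.pt O.i0) aE &&
    allLt (O.np - 1) fun i => Nat.blt (O.pt i) (O.pt (i + 1))

/-- the action table of generator `k` -/
def check2 (M : Model G P) (O : ListedOrbit) (k : ℕ) : Bool :=
  allLt O.np fun i =>
    Nat.blt (O.tab k i) O.np && Nat.beq (M.actE (O.gen k) (O.pt i)) (O.pt (O.tab k i))

/-- reachability -/
def check3 (O : ListedOrbit) : Bool :=
  allLt O.np fun i =>
    Nat.beq i O.i0 ||
      (Nat.blt (O.par i) O.np && Nat.blt (O.pg i) O.ng && Nat.blt (O.dep (O.par i)) (O.dep i) &&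
        Nat.beq (O.tab (O.pg i) (O.par i)) i)

theorem pt_lt (O : ListedOrbit) (aE : ℕ) (h1 : O.check1 aE = true) :
    ∀ i j, i < j → j < O.np → O.pt i < O.pt j := by
  simp only [check1, Bool.and_eq_true] at h1
  have h := (allLt_iff _ _).mp h1.2
  intro i j hij hj
  induction j with
  | zero => exact absurd hij (Nat.not_lt_zero _)
  | succ j ih =>
    have hstep : O.pt j < O.pt (j + 1) := lt_of_blt (h j (by omega))
    rcases Nat.lt_succ_iff_lt_or_eq.mp hij with h1 | h1
    · exact lt_trans (ih h1 (by omega)) hstep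
    · rw [h1]; exact hstep

theorem pt_injOn (O : ListedOrbit) (aE : ℕ) (h1 : O.check1 aE = true) :
    ∀ i j, i < O.np → j < O.np → O.pt i = O.pt j → i = j := by
  intro i j hi hj he
  by_contra hne
  rcases Nat.lt_or_gt_of_ne hne with h | h
  · have := pt_lt O aE h1 i j h hj; rw [he] at this; exact lt_irrefl _ this
  · have := pt_lt O aE h1 j i h hi; rw [he] at this; exact lt_irrefl _ this

variable (M : Model G P) (O : ListedOrbit) (gs : ℕ → G) (α : P)

/-- the set of generators -/
def genSet (O : ListedOrbit) (gs : ℕ → G) : Set G := {g | ∃ k, k < O.ng ∧ g = gs k}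

theorem exists_of_lt (hgs : ∀ k < O.ng, M.code (gs k) = O.gen k)
    (h1 : O.check1 (M.enc α) = true) (h2 : ∀ k < O.ng, O.check2 M k = true)
    (h3 : O.check3 = true) :
    ∀ i < O.np, ∃ g ∈ Subgroup.closure (genSet O gs), M.enc (g • α) = O.pt i := by
  have h3' := (allLt_iff _ _).mp h3
  have hbase : ∃ g ∈ Subgroup.closure (genSet O gs), M.enc (g • α) = O.pt O.i0 := by
    refine ⟨1, Subgroup.one_mem _, ?_⟩
    simp only [check1, Bool.and_eq_true] at h1
    rw [one_smul]
    exact (Nat.eq_of_beq_eq_true h1.1.2).symm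
  have key : ∀ d i, i < O.np → O.dep i ≤ d →
      ∃ g ∈ Subgroup.closure (genSet O gs), M.enc (g • α) = O.pt i := by
    intro d
    induction d with
    | zero =>
      intro i hi hd
      have := h3' i hi
      rw [Bool.or_eq_true] at this
      rcases this with h | h
      · rw [Nat.eq_of_beq_eq_true h]; exact hbase
      · simp only [Bool.and_eq_true] at h
        have : O.dep (O.par i) < O.dep i := lt_of_blt h.1.2
        omega
    | succ d ih =>
      intro i hi hd
      have := h3' i hi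
      rw [Bool.or_eq_true] at this
      rcases this with h | h
      · rw [Nat.eq_of_beq_eq_true h]; exact hbase
      · simp only [Bool.and_eq_true] at h
        obtain ⟨⟨⟨hp, hg⟩, hdep⟩, htab⟩ := h
        have hp' := lt_of_blt hp
        have hg' := lt_of_blt hg
        have hdep' := lt_of_blt hdep
        have htab' : O.tab (O.pg i) (O.par i) = i := Nat.eq_of_beq_eq_true htab
        obtain ⟨g, hg1, hg2⟩ := ih (O.par i) hp' (by omega)
        refine ⟨gs (O.pg i) * g, Subgroup.mul_mem _ (Subgroup.subset_closure ⟨_, hg', rfl⟩) hg1, ?_⟩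
        rw [mul_smul, M.enc_smul, hgs _ hg', hg2]
        have := (allLt_iff _ _).mp (h2 _ hg') (O.par i) hp'
        rw [Bool.and_eq_true] at this
        rw [Nat.eq_of_beq_eq_true this.2, htab']
  intro i hi
  exact key (O.dep i) i hi le_rfl

theorem exists_of_mem [Finite G] (hgs : ∀ k < O.ng, M.code (gs k) = O.gen k)
    (h1 : O.check1 (M.enc α) = true) (h2 : ∀ k < O.ng, O.check2 M k = true) :
    ∀ g ∈ Subgroup.closure (genSet O gs), ∃ i < O.np, M.enc (g • α) = O.pt i := by
  apply closure_subset_of_mul_mem (L := {g | ∃ i < O.np, M.enc (g • α) = O.pt i})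
  · intro s _; exact isOfFinOrder_of_finite s
  · simp only [check1, Bool.and_eq_true] at h1
    exact ⟨O.i0, lt_of_blt h1.1.1, by rw [one_smul]; exact (Nat.eq_of_beq_eq_true h1.1.2).symm⟩
  · rintro s ⟨k, hk, rfl⟩ x ⟨i, hi, hx⟩
    have := (allLt_iff _ _).mp (h2 k hk) i hi
    rw [Bool.and_eq_true] at this
    refine ⟨O.tab k i, lt_of_blt this.1, ?_⟩
    rw [mul_smul, M.enc_smul, hgs k hk, hx]
    exact Nat.eq_of_beq_eq_true this.2

theorem card_orbit [Finite G] (hgs : ∀ k < O.ng, M.code (gs k) = O.gen k)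
    (h1 : O.check1 (M.enc α) = true) (h2 : ∀ k < O.ng, O.check2 M k = true)
    (h3 : O.check3 = true) :
    Nat.card (MulAction.orbit (Subgroup.closure (genSet O gs)) α) = O.np := by
  classical
  have ha := exists_of_lt M O gs α hgs h1 h2 h3
  have hb := exists_of_mem M O gs α hgs h1 h2
  let f : Fin O.np → MulAction.orbit (Subgroup.closure (genSet O gs)) α := fun i =>
    ⟨(ha i i.2).choose • α, ⟨⟨(ha i i.2).choose, (ha i i.2).choose_spec.1⟩, rfl⟩⟩
  have hf : ∀ i : Fin O.np, M.enc (f i : P) = O.pt i := fun i => (ha i i.2).choose_spec.2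
  have hbij : Function.Bijective f := by
    constructor
    · intro i j hij
      have : O.pt i = O.pt j := by rw [← hf i, ← hf j, hij]
      exact Fin.ext (pt_injOn O _ h1 i j i.2 j.2 this)
    · rintro ⟨p, ⟨g, rfl⟩⟩
      obtain ⟨i, hi, hgi⟩ := hb g g.2
      refine ⟨⟨i, hi⟩, Subtype.ext (M.enc_inj ?_)⟩
      rw [hf ⟨i, hi⟩]
      exact hgi.symm
  rw [← Nat.card_congr (Equiv.ofBijective f hbij), Nat.card_fin]

end ListedOrbit

namespace DCData

variable {G : Type} [Group G] {P : Type} [MulAction G P]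

/-- does `M` fix `ρ_j = u_j α`? -/
def mfix (M : Model G P) (D : DCData) (j : ℕ) : Bool :=
  allLt D.L.ng fun k =>
    Nat.beq (M.actE (D.L.gen k) (M.actE (D.uE j) D.aE)) (M.actE (D.uE j) D.aE)

/-- `z = u_j m_e` is either visibly non-central or has an allowed code -/
def chkCe (M : Model G P) (D : DCData) (cen : List (List ℕ)) (j e : ℕ) : Bool :=
  !(Nat.beq (M.actE (D.uE j) (M.actE (D.L.elt e) (M.actE D.tE D.aE)))
      (M.actE D.tE (M.actE (D.uE j) D.aE))) ||
    cen.any (beqL (M.mulE (D.uE j) (D.L.elt e))) ||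
    !(beqL (M.mulE (M.mulE (D.uE j) (D.L.elt e)) D.tE) (M.mulE D.tE (M.mulE (D.uE j) (D.L.elt e)))) ||
    !(allLt D.L.ng fun k =>
      beqL (M.mulE (M.mulE (D.uE j) (D.L.elt e)) (D.L.gen k))
        (M.mulE (D.L.gen k) (M.mulE (D.uE j) (D.L.elt e))))

/-- the centre check -/
def chkC (M : Model G P) (D : DCData) (cen : List (List ℕ)) : Bool :=
  allLt D.r fun j => !(D.mfix M j) || allLt D.L.n fun e => D.chkCe M cen j e

variable {M : Model G P} {D : DCData} {gs : ℕ → G} {t w : G} {α : P}

theorem Valid.mem_dcSet [Finite G] (V : Valid M D gs t w α) :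
    ∀ g ∈ HH D gs t, g ∈ dcSet (MM D gs) (fun j : Fin D.r => V.uel j) := by
  have hcov := cover_of_orbit (MM D gs) t (w • α) (fun i : Fin D.θ => V.mel (D.aIdx i))
    (fun i => V.mel_mem _) V.hB (by
      have := V.hK
      intro k hk hkb
      exact this k hk hkb)
  exact closure_le_dcSet (MM D gs) t (isOfFinOrder_of_finite t) (fun j : Fin D.r => V.uel j)
      (fun i : Fin D.θ => V.mel (D.aIdx i)) ⟨⟨0, V.r_pos⟩, V.uel_zero⟩ hcov V.hiv

theorem Valid.MM_le_HH (V : Valid M D gs t w α) : MM D gs ≤ HH D gs t :=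
  fun _ hm => Subgroup.subset_closure (Or.inl hm)

theorem Valid.t_mem_HH (_V : Valid M D gs t w α) : t ∈ HH D gs t :=
  Subgroup.subset_closure (Or.inr rfl)

theorem Valid.gs_mem_MM (_V : Valid M D gs t w α) (k : ℕ) (hk : k < D.L.ng) : gs k ∈ MM D gs :=
  Subgroup.subset_closure ⟨k, hk, rfl⟩

/-- central elements of `⟨M, t⟩` have one of the allowed codes -/
theorem Valid.central [Finite G] (V : Valid M D gs t w α) (cen : List (List ℕ))
    (hC : D.chkC M cen = true) :
    ∀ z ∈ HH D gs t, (∀ g ∈ HH D gs t, z * g = g * z) → M.code z ∈ cen := by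
  intro z hz hcomm
  obtain ⟨j, m1, hm1, m2, hm2, hzeq⟩ := V.mem_dcSet z hz
  -- `z = u_j * (m2 * m1)`
  have hz2 : z = V.uel j * (m2 * m1) := by
    have h1 := hcomm m1 (V.MM_le_HH hm1)
    have : z = m1⁻¹ * (z * m1) := by rw [h1]; group
    rw [this]
    conv_lhs => rw [hzeq]
    group
  obtain ⟨e, he, hce⟩ := V.exists_idx (m2 * m1) ((MM D gs).mul_mem hm2 hm1)
  have hzα : z • α = V.uel j • α := by
    rw [hz2, mul_smul, V.fix _ ((MM D gs).mul_mem hm2 hm1)]
  have hencρ : M.enc (V.uel j • α) = M.actE (D.uE j) D.aE := by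
    rw [M.enc_smul, V.code_uel j j.2, V.hα]
  have hcz : M.code z = M.mulE (D.uE j) (D.L.elt e) := by
    rw [hz2, M.code_mul, V.code_uel j j.2, hce]
  have hj := (allLt_iff _ _).mp hC j j.2
  rw [Bool.or_eq_true] at hj
  rcases hj with hj | hj
  · exfalso
    have hfix : D.mfix M j = true := by
      rw [mfix, allLt_iff]
      intro k hk
      have h1 := hcomm (gs k) (V.MM_le_HH (V.gs_mem_MM k hk))
      have h2 : gs k • (V.uel j • α) = V.uel j • α := by
        rw [← hzα, ← mul_smul, ← h1, mul_smul, V.fix _ (V.gs_mem_MM k hk)]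
      have h3 := congrArg M.enc h2
      rw [M.enc_smul, V.hgs k hk, hencρ] at h3
      rw [h3]; exact Nat.beq_refl _
    rw [hfix] at hj
    simp at hj
  · have hje := (allLt_iff _ _).mp hj e he
    simp only [chkCe, Bool.or_eq_true] at hje
    rcases hje with ((hje | hje) | hje) | hje
    · exfalso
      have h1 := hcomm t V.t_mem_HH
      have h2 : z • (t • α) = t • (V.uel j • α) := by
        rw [← hzα, ← mul_smul, ← mul_smul, h1]
      have hA : M.enc (z • (t • α)) =
          M.actE (D.uE j) (M.actE (D.L.elt e) (M.actE D.tE D.aE)) := by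
        rw [hz2, mul_smul, M.enc_smul, V.code_uel j j.2, M.enc_smul, hce, M.enc_smul, V.ht, V.hα]
      have hB : M.enc (t • (V.uel j • α)) = M.actE D.tE (M.actE (D.uE j) D.aE) := by
        rw [M.enc_smul, V.ht, hencρ]
      rw [← hA, ← hB, h2, Nat.beq_refl] at hje
      simp at hje
    · rw [← hcz] at hje
      rw [List.any_eq_true] at hje
      obtain ⟨c, hc, hcb⟩ := hje
      rw [eq_of_beqL _ _ hcb]
      exact hc
    · exfalso
      have h1 := hcomm t V.t_mem_HH
      have h2 := congrArg M.code h1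
      rw [M.code_mul, M.code_mul, hcz, V.ht] at h2
      rw [h2, beqL_refl] at hje
      simp at hje
    · exfalso
      have : (allLt D.L.ng fun k =>
          beqL (M.mulE (M.mulE (D.uE j) (D.L.elt e)) (D.L.gen k))
            (M.mulE (D.L.gen k) (M.mulE (D.uE j) (D.L.elt e)))) = true := by
        rw [allLt_iff]
        intro k hk
        have h1 := hcomm (gs k) (V.MM_le_HH (V.gs_mem_MM k hk))
        have h2 := congrArg M.code h1
        rw [M.code_mul, M.code_mul, hcz, V.hgs k hk] at h2
        rw [h2, beqL_refl]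
      rw [this] at hje
      simp at hje

end DCData

end Cfsg.Agent.Lib.H3.DC
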