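import Mathlib
import Cfsg.Agent.Lib.H3.DF0

/-!
# S4316 piece D11a: `|T : T ∩ C| ≤ |G : G ∩ C|` for `T ≤ G` (helper3)
-/

set_option autoImplicit false

universe u

namespace Cfsg.Agent.Lib.H3.DF

open Subgroup

variable {Γ : Type u} [Group Γ] [Finite Γ]

/-- `|X| = |X ∩ C| * |X : X ∩ C|`. -/
theorem card_inf_mul_relIndex (X C : Subgroup Γ) :
    Nat.card ↥(X ⊓ C) * C.relIndex X = Nat.card X := by
  have h := Subgroup.relIndex_mul_relIndex ⊥ (X ⊓ C) X bot_le inf_le_left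
  rw [Subgroup.relIndex_bot_left, Subgroup.relIndex_bot_left] at h
  rw [← h]
  congr 1
  rw [inf_comm]
  exact (Subgroup.inf_relIndex_right C X).symm

/-- D11a. `|T : T ∩ C| ≤ |G : G ∩ C|` for `T ≤ G`. -/
theorem card_le_mul_inf_of_le (G T C : Subgroup Γ) (hTG : T ≤ G) (n : ℕ)
    (hn : Nat.card G ≤ n * Nat.card ↥(G ⊓ C)) : Nat.card T ≤ n * Nat.card ↥(T ⊓ C) := by
  have hG := card_inf_mul_relIndex G C
  have hT := card_inf_mul_relIndex T C
  have hpos : 0 < Nat.card ↥(G ⊓ C) := Nat.card_pos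
  have h0 : C.relIndex G ≠ 0 := by
    intro h0
    rw [h0, mul_zero] at hG
    exact (Nat.card_pos (α := G)).ne' hG.symm
  have h1 : C.relIndex T ≤ C.relIndex G := Subgroup.relIndex_le_of_le_right hTG h0
  have h2 : C.relIndex G ≤ n := by
    rw [← hG, mul_comm n] at hn
    exact Nat.le_of_mul_le_mul_left hn hpos
  calc Nat.card T = Nat.card ↥(T ⊓ C) * C.relIndex T := hT.symm
    _ ≤ Nat.card ↥(T ⊓ C) * n := Nat.mul_le_mul_left _ (h1.trans h2)
    _ = n * Nat.card ↥(T ⊓ C) := mul_comm _ _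

end Cfsg.Agent.Lib.H3.DF
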