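import Mathlib
import Cfsg.Agent.Lib.H3.DF0
import Cfsg.Agent.Lib.H3.DFD6a
import Cfsg.Agent.Lib.H10.DFD6c
import Cfsg.Agent.Lib.H13.DFD4
import Cfsg.Agent.Lib.H25.DFD5
import Cfsg.Agent.Lib.H8.DFD6b

/-!
# S4316 piece D6d: `G' ≤ T` (helper3)
-/

set_option autoImplicit false

universe u

namespace Cfsg.Agent.Lib.H3.DF

open Subgroup Cfsg.Agent.Lib.H16
open scoped commutatorElement

variable {Γ : Type u} [Group Γ] [Finite Γ]

/-- D6d. `G' ≤ T`. (D6c with `S = ⋃ C_G(B)`, D4b, D5, D6a, D6b.) -/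
theorem commutator_le_TT {q m : ℕ} [Fact q.Prime] {G A : Subgroup Γ} (h : DHyp q m G A) :
    ⁅G, G⁆ ≤ TT G A := by
  have hT := TT_facts h
  refine Cfsg.Agent.Lib.H10.DF.commutator_le_of_closure G (TT G A)
    {x | ∃ B, IsPlane q A B ∧ x ∈ HB G B} ?_ ?_ (Cfsg.Agent.Lib.H8.DF.le_normalizer_TT h) ?_
  · refine Cfsg.Agent.Lib.H13.DF.le_of_HB_le h _ ?_
    intro B hB x hx
    exact subset_closure ⟨B, hB, hx⟩
  · rintro x ⟨B, _, hx⟩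
    exact (inf_le_left : HB G B ≤ G) hx
  · rintro a ⟨B, hB, ha⟩ b ⟨B', hB', hb⟩
    obtain ⟨c, hc, hc1, hcomm⟩ := Cfsg.Agent.Lib.H25.DF.exists_commutator_mem_Kc h hB hB'
    exact hT.2.1 c hc hc1 (hcomm a ha b hb)

end Cfsg.Agent.Lib.H3.DF
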