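import Mathlib
import Cfsg.Agent.Lib.H3.DF0
import Cfsg.Agent.Lib.H3.DFD6a
import Cfsg.Agent.Lib.H3.DFD11a
import Cfsg.Agent.Lib.H3.DFD6d
import Cfsg.Agent.Lib.H8.DFD11b
import Cfsg.Agent.Lib.H28.DFD12
import Cfsg.Agent.Lib.H26.DFD10

/-!
# S4316: the ambient theorem (assembly of the pieces D6d, D10b, D11a, D11b, D12) (helper3)
-/

set_option autoImplicit false

universe u

namespace Cfsg.Agent.Lib.H3.DF

open Subgroup Cfsg.Agent.Lib.H16
open scoped commutatorElement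

variable {Γ : Type u} [Group Γ] [Finite Γ]

/-- D13. The ambient theorem. -/
theorem card_commutator_le_dBound {q m : ℕ} [Fact q.Prime] {G A : Subgroup Γ} (h : DHyp q m G A) :
    Nat.card ↥⁅G, G⁆ ≤ dBound q m := by
  have hq : q.Prime := Fact.out
  have hT := TT_facts h
  have h1 : ⁅G, G⁆ ≤ TT G A := commutator_le_TT h
  have h2 := Cfsg.Agent.Lib.H26.DF.card_le_dN_mul h
  have h3 : Nat.card (TT G A) ≤
      dN q m * Nat.card ↥(TT G A ⊓ centralizer (TT G A : Set Γ)) :=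
    card_le_mul_inf_of_le G (TT G A) (centralizer (TT G A : Set Γ)) hT.1 _ h2
  have h4 : Nat.card ↥⁅TT G A, TT G A⁆ ≤ dS (dN q m) := Cfsg.Agent.Lib.H8.DF.card_commutator_le_dS _ _ h3
  have h5 : Nat.card (TT G A) ≤ Nat.card ↥⁅TT G A, TT G A⁆ * m ^ (nz A).card :=
    Cfsg.Agent.Lib.H28.DF.card_le_commutator_mul_pow (TT G A) (nz A) (Kc G) m rfl
      (fun a ha => h.small a (mem_nz.mp ha).2 (mem_nz.mp ha).1)
  -- `1 ≤ m`
  have hA1 : 1 < Nat.card A := by
    rw [h.e3.card]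
    exact Nat.one_lt_pow (by norm_num) hq.one_lt
  have hm : 1 ≤ m := by
    haveI : Nontrivial A := Finite.one_lt_card_iff_nontrivial.mp hA1
    obtain ⟨a, ha⟩ := exists_ne (1 : A)
    have ha1 : (a : Γ) ≠ 1 := fun hh => ha (Subtype.ext hh)
    exact le_trans Nat.card_pos (h.small a a.2 ha1)
  have h6 : m ^ (nz A).card ≤ m ^ (q ^ 3) := by
    apply Nat.pow_le_pow_right hm
    rw [card_nz, h.e3.card]
    exact Nat.sub_le _ _
  calc Nat.card ↥⁅G, G⁆ ≤ Nat.card (TT G A) := Subgroup.card_le_of_le h1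
    _ ≤ Nat.card ↥⁅TT G A, TT G A⁆ * m ^ (nz A).card := h5
    _ ≤ dS (dN q m) * m ^ (q ^ 3) := Nat.mul_le_mul h4 h6
    _ = dBound q m := by rw [dBound, mul_comm]

end Cfsg.Agent.Lib.H3.DF
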