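import Mathlib
import Cfsg.Agent.Lib.H3.DF0
import Cfsg.Agent.Lib.H3.DF13

/-!
# S4316: transport from an abstract action to the ambient semidirect product (helper3)
-/

set_option autoImplicit false

universe u

namespace Cfsg.Agent.Lib.H3.DF

open Subgroup SemidirectProduct
open scoped commutatorElement

/-- Fixed points of `zpowers a` are the fixed points of `a`. -/
theorem mem_fixedPoints_zpowers_iff {A G : Type*} [Group A] [Group G] [MulDistribMulAction A G]
    (a : A) (g : G) : g ∈ FixedPoints.subgroup (Subgroup.zpowers a) G ↔ a • g = g := by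
  rw [FixedPoints.mem_subgroup]
  constructor
  · intro h
    exact h ⟨a, Subgroup.mem_zpowers a⟩
  · intro h b
    obtain ⟨b, hb⟩ := b
    obtain ⟨n, rfl⟩ := Subgroup.mem_zpowers_iff.mp hb
    change (a ^ n) • g = g
    have hinv : a⁻¹ • g = g := by
      rw [inv_smul_eq_iff, h]
    have hnat : ∀ k : ℕ, (a ^ k) • g = g := by
      intro k
      induction k with
      | zero => simp
      | succ k ih => rw [pow_succ, mul_smul, h, ih]
    have hnat' : ∀ k : ℕ, (a⁻¹ ^ k) • g = g := by
      intro k
      induction k with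
      | zero => simp
      | succ k ih => rw [pow_succ, mul_smul, hinv, ih]
    cases n with
    | ofNat k => simpa using hnat k
    | negSucc k =>
      rw [zpow_negSucc, ← inv_pow]
      exact hnat' (k + 1)

/-- The theorem for an abstract action. -/
theorem card_commutator_le_of_action (q m : ℕ) (A G : Type u) [Group A] [Finite A] [Group G]
    [Finite G] [MulDistribMulAction A G] (hq : q.Prime) (hA : Nat.card A = q ^ 3)
    (hcomm : ∀ a b : A, a * b = b * a) (hexp : ∀ a : A, a ^ q = 1) (hcop : ¬ q ∣ Nat.card G)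
    (hsmall : ∀ a : A, a ≠ 1 →
      Nat.card ↥(commutator ↥(FixedPoints.subgroup (Subgroup.zpowers a) G)) ≤ m) :
    Nat.card ↥(commutator G) ≤ dBound q m := by
  haveI : Fact q.Prime := ⟨hq⟩
  let φ : A →* MulAut G := MulDistribMulAction.toMulAut A G
  haveI : Finite (G ⋊[φ] A) := Finite.of_equiv _ (SemidirectProduct.equivProd (φ := φ)).symm
  set Gt : Subgroup (G ⋊[φ] A) := (inl : G →* G ⋊[φ] A).range with hGt
  set At : Subgroup (G ⋊[φ] A) := (inr : A →* G ⋊[φ] A).range with hAt
  haveI hGtn : Gt.Normal := by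
    rw [hGt, range_inl_eq_ker_rightHom]; infer_instance
  have hinlj : Function.Injective (inl : G →* G ⋊[φ] A) := inl_injective
  have hinrj : Function.Injective (inr : A →* G ⋊[φ] A) := inr_injective
  -- commuting with `inr a`
  have hconj : ∀ (a : A) (g : G),
      ((inl g : G ⋊[φ] A) * inr a = inr a * inl g) ↔ a • g = g := by
    intro a g
    have h1 : (inl (φ a g) : G ⋊[φ] A) = inr a * inl g * (inr a)⁻¹ := by
      rw [inl_aut, map_inv]
    have h2 : φ a g = a • g := rfl
    constructor
    · intro h
      rw [← h, mul_assoc, mul_inv_cancel, mul_one] at h1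
      rw [← h2]
      exact hinlj h1
    · intro h
      rw [h2, h] at h1
      calc (inl g : G ⋊[φ] A) * inr a = (inr a * inl g * (inr a)⁻¹) * inr a := by rw [← h1]
        _ = inr a * inl g := by rw [inv_mul_cancel_right]
  -- the centralizer of `inr a` in `Gt`
  have hGc : ∀ a : A, Gc Gt (inr a) =
      (FixedPoints.subgroup (Subgroup.zpowers a) G).map (inl : G →* G ⋊[φ] A) := by
    intro a
    ext x
    rw [Gc, mem_inf, mem_centralizer_singleton_iff, mem_map]
    constructor
    · rintro ⟨⟨g, rfl⟩, hx⟩
      exact ⟨g, (mem_fixedPoints_zpowers_iff a g).mpr ((hconj a g).mp hx), rfl⟩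
    · rintro ⟨g, hg, rfl⟩
      exact ⟨⟨g, rfl⟩, (hconj a g).mpr ((mem_fixedPoints_zpowers_iff a g).mp hg)⟩
  have hKc : ∀ a : A, Nat.card ↥(Kc Gt (inr a)) =
      Nat.card ↥(commutator ↥(FixedPoints.subgroup (Subgroup.zpowers a) G)) := by
    intro a
    rw [Kc, hGc a, ← map_commutator, ← Subgroup.map_subtype_commutator,
      card_map_of_injective hinlj, card_map_of_injective (Subgroup.subtype_injective _)]
  have hyp : DHyp q m Gt At := by
    refine ⟨⟨?_, ?_, ?_⟩, ?_, ?_, ?_⟩
    · rintro _ ⟨a, rfl⟩ _ ⟨b, rfl⟩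
      rw [← map_mul, ← map_mul, hcomm]
    · rintro _ ⟨a, rfl⟩
      rw [← map_pow, hexp, map_one]
    · rw [hAt, ← hA]
      exact Nat.card_range_of_injective hinrj
    · intro x _
      rw [normalizer_eq_top]
      exact mem_top x
    · have : Nat.card Gt = Nat.card G := Nat.card_range_of_injective hinlj
      rw [this]; exact hcop
    · rintro _ ⟨a, rfl⟩ ha1
      rw [hKc a]
      apply hsmall a
      rintro rfl
      exact ha1 (map_one _)
  have hmain := card_commutator_le_dBound hyp
  have hcard : Nat.card ↥(commutator G) = Nat.card ↥⁅Gt, Gt⁆ := by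
    rw [hGt, MonoidHom.range_eq_map, ← map_commutator, card_map_of_injective hinlj,
      commutator_def]
  rw [hcard]
  exact hmain

end Cfsg.Agent.Lib.H3.DF
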