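import Mathlib
import Cfsg.Agent.Lib.H21.DGARITHA
import Cfsg.Agent.Lib.H21.DGARITHB

/-!
# S3670, piece ARITHC: the arithmetic core

From the orthogonality data at an element of order 7 (helper21's `arith_structure`) and the finite
search over divisors of 6048 (helper21's `arith_triples`), the degree multiset of a perfect group
of order 6048 with suitable classes contains degrees divisible by 6, by 14 and by 21.
-/

set_option autoImplicit false

namespace Cfsg.Agent.Lib.H3.DG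

open Cfsg.Agent.Lib.H21.DG

/-- counting: if `P` holds outside a 5-element set and at two of its elements, it fails at most 3 times -/
theorem count_lemma {ι : Type*} [Fintype ι] [DecidableEq ι] (P : ι → Prop) [DecidablePred P]
    (S : Finset ι) (hS : S.card = 5) (i₀ u : ι) (hi : i₀ ∈ S) (hu : u ∈ S) (hne : u ≠ i₀)
    (hout : ∀ i, i ∉ S → P i) (h0 : P i₀) (hu' : P u) :
    Fintype.card ι ≤ (Finset.univ.filter P).card + 3 := by
  have h1 := Finset.card_filter_add_card_filter_not (s := (Finset.univ : Finset ι)) P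
  have h2 : (Finset.univ.filter (fun i => ¬ P i)) ⊆ (S.erase i₀).erase u := by
    intro i hi'
    rw [Finset.mem_filter] at hi'
    rw [Finset.mem_erase, Finset.mem_erase]
    refine ⟨?_, ?_, ?_⟩
    · rintro rfl; exact hi'.2 hu'
    · rintro rfl; exact hi'.2 h0
    · by_contra hn; exact hi'.2 (hout i hn)
  have h3 : ((S.erase i₀).erase u).card = 3 := by
    rw [Finset.card_erase_of_mem (Finset.mem_erase.mpr ⟨hne, hu⟩), Finset.card_erase_of_mem hi, hS]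
  have h4 := Finset.card_le_card h2
  rw [h3] at h4
  rw [Finset.card_univ] at h1
  omega

theorem arith_core {ι : Type*} [Fintype ι] [DecidableEq ι] (d : ι → ℕ) (A B : ι → ℤ) (i₀ : ι)
    (hd_pos : ∀ i, 0 < d i) (hd_dvd : ∀ i, d i ∣ 6048) (h1 : ∀ i, d i = 1 → i = i₀)
    (hd0 : d i₀ = 1) (hA0 : A i₀ = 1) (hB0 : B i₀ = 0)
    (hsq : ∑ i, d i ^ 2 = 6048)
    (hcong : ∀ i, (d i : ℤ) ≡ A i + 3 * B i [ZMOD 7])
    (hAA : ∑ i, A i ^ 2 = 4) (hBB : ∑ i, B i ^ 2 = 2) (hAB : ∑ i, A i * B i = 1)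
    (hdA : ∑ i, (d i : ℤ) * A i = 0) (hdB : ∑ i, (d i : ℤ) * B i = 0)
    (h3 : (Finset.univ.filter (fun i => ¬ 3 ∣ d i)).card ≤ 9)
    (h2 : (Finset.univ.filter (fun i => ¬ 2 ∣ d i)).card ≤ 8)
    (hk : 13 ≤ Fintype.card ι) :
    (∃ i, 6 ∣ d i) ∧ (∃ i, 14 ∣ d i) ∧ (∃ i, 21 ∣ d i) := by
  obtain ⟨r₁, r₂, p, q, e₁, e₂, s, hnd, he₁, he₂, hs, hAr₁, hBr₁, hAr₂, hBr₂, hAp, hBp, hAq, hBq, hpq,
    hout, hsum⟩ := arith_structure d A B i₀ hd_pos hd0 hA0 hB0 hAA hBB hAB hdA hdB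
  set S : Finset ι := [i₀, r₁, r₂, p, q].toFinset with hSdef
  have hScard : S.card = 5 := by
    rw [hSdef, List.toFinset_card_of_nodup hnd]; rfl
  have hmem : ∀ i, i ∈ S ↔ i ∈ [i₀, r₁, r₂, p, q] := fun i => List.mem_toFinset
  have hi₀S : i₀ ∈ S := (hmem _).mpr (by simp)
  have hr₁S : r₁ ∈ S := (hmem _).mpr (by simp)
  have hr₂S : r₂ ∈ S := (hmem _).mpr (by simp)
  have hqS : q ∈ S := (hmem _).mpr (by simp)
  have hne : r₁ ≠ i₀ ∧ r₂ ≠ i₀ ∧ q ≠ i₀ := by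
    simp only [List.nodup_cons, List.mem_cons, List.not_mem_nil, or_false, not_or] at hnd
    exact ⟨fun h => hnd.1.1 h.symm, fun h => hnd.1.2.1 h.symm, fun h => hnd.1.2.2.2 h.symm⟩
  -- degrees at least 2
  have hge : ∀ i, i ≠ i₀ → 2 ≤ d i := by
    intro i hi
    have := hd_pos i
    by_contra hlt
    exact hi (h1 i (by omega))
  -- outside: divisible by 7
  have h7 : ∀ i, i ∉ S → 7 ∣ d i := by
    intro i hi
    have hi' : i ∉ [i₀, r₁, r₂, p, q] := fun h => hi ((hmem i).mpr h)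
    obtain ⟨ha, hb⟩ := hout i hi'
    have hc := hcong i
    rw [ha, hb] at hc
    have : (7 : ℤ) ∣ (d i : ℤ) := by
      have := Int.ModEq.dvd hc.symm
      simpa using this
    exact_mod_cast this
  -- the sum of squares over S
  have hsqS : 1 + d r₁ ^ 2 + d r₂ ^ 2 + 2 * d q ^ 2 ≤ 6048 := by
    have hle : ∑ i ∈ S, d i ^ 2 ≤ ∑ i, d i ^ 2 :=
      Finset.sum_le_sum_of_subset (Finset.subset_univ S)
    rw [hsq, hSdef, List.sum_toFinset _ hnd] at hle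
    simp only [List.map_cons, List.map_nil, List.sum_cons, List.sum_nil, hd0, hpq] at hle
    omega
  -- congruences
  have c₁ : (d r₁ : ℤ) ≡ e₁ [ZMOD 7] := by
    have := hcong r₁; rw [hAr₁, hBr₁] at this; simpa using this
  have c₂ : (d r₂ : ℤ) ≡ e₂ [ZMOD 7] := by
    have := hcong r₂; rw [hAr₂, hBr₂] at this; simpa using this
  have ct : (d q : ℤ) ≡ 4 * s [ZMOD 7] := by
    have := hcong q; rw [hAq, hBq] at this
    have e : s + 3 * s = 4 * s := by ring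
    rwa [e] at this
  have hcases := arith_triples (d r₁) (d r₂) (d q) e₁ e₂ s (hd_dvd _) (hd_dvd _) (hd_dvd _)
    (hge _ hne.1) (hge _ hne.2.1) he₁ he₂ hs c₁ c₂ ct hsum hsqS
  -- the final step from suitable witnesses
  have key : ∀ i6 u3 u2 : ι, 6 ∣ d i6 → u3 ∈ S → u3 ≠ i₀ → ¬ 3 ∣ d u3 → u2 ∈ S → u2 ≠ i₀ → ¬ 2 ∣ d u2 →
      (∃ i, 6 ∣ d i) ∧ (∃ i, 14 ∣ d i) ∧ (∃ i, 21 ∣ d i) := by
    intro i6 u3 u2 h6 hu3S hu3 hu3' hu2S hu2 hu2'
    refine ⟨⟨i6, h6⟩, ?_, ?_⟩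
    · by_contra hno
      have hP : ∀ i, i ∉ S → ¬ 2 ∣ d i := by
        intro i hi h2'
        exact hno ⟨i, Nat.Coprime.mul_dvd_of_dvd_of_dvd (by norm_num) h2' (h7 i hi)⟩
      have := count_lemma (fun i => ¬ 2 ∣ d i) S hScard i₀ u2 hi₀S hu2S hu2 hP
        (by rw [hd0]; norm_num) hu2'
      omega
    · by_contra hno
      have hP : ∀ i, i ∉ S → ¬ 3 ∣ d i := by
        intro i hi h3'
        exact hno ⟨i, Nat.Coprime.mul_dvd_of_dvd_of_dvd (by norm_num) h3' (h7 i hi)⟩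
      have := count_lemma (fun i => ¬ 3 ∣ d i) S hScard i₀ u3 hi₀S hu3S hu3 hP
        (by rw [hd0]; norm_num) hu3'
      omega
  rcases hcases with ⟨a, b, c⟩ | ⟨a, b, c⟩ | ⟨a, b, c⟩ | ⟨a, b, c⟩ | ⟨a, b, c⟩ | ⟨a, b, c⟩
  · exact key r₁ q r₂ (by rw [a]) hqS hne.2.2 (by rw [c]; norm_num) hr₂S hne.2.1 (by rw [b]; norm_num)
  · exact key r₂ q r₁ (by rw [b]) hqS hne.2.2 (by rw [c]; norm_num) hr₁S hne.1 (by rw [a]; norm_num)
  · exact key q r₁ r₂ (by rw [c]; norm_num) hr₁S hne.1 (by rw [a]; norm_num) hr₂S hne.2.1 (by rw [b]; norm_num)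
  · exact key q r₂ r₁ (by rw [c]; norm_num) hr₂S hne.2.1 (by rw [b]; norm_num) hr₁S hne.1 (by rw [a]; norm_num)
  · exact key r₁ r₂ q (by rw [a]) hr₂S hne.2.1 (by rw [b]; norm_num) hqS hne.2.2 (by rw [c]; norm_num)
  · exact key r₂ r₁ q (by rw [b]) hr₁S hne.1 (by rw [a]; norm_num) hqS hne.2.2 (by rw [c]; norm_num)

end Cfsg.Agent.Lib.H3.DG
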