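import Mathlib

/-!
# S3670 piece CYC (helper3): the commutant of a `3 × 3` matrix with a cyclic vector
-/

set_option autoImplicit false

namespace Cfsg.Agent.Lib.H3.DG

open Matrix

/-- CYC: if `v, g v, g² v` is a basis, every matrix commuting with `g` is a polynomial `a + b g + c g²` -/
theorem commute_of_cyclic {F : Type*} [Field F] (g h : Matrix (Fin 3) (Fin 3) F) (v : Fin 3 → F)
    (hv : (Matrix.of ![v, g.mulVec v, (g * g).mulVec v]).det ≠ 0) (hc : g * h = h * g) :
    ∃ a b c : F, h = a • (1 : Matrix (Fin 3) (Fin 3) F) + b • g + c • (g * g) := by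
  set M : Matrix (Fin 3) (Fin 3) F := Matrix.of ![v, g.mulVec v, (g * g).mulVec v] with hM
  have hdet : IsUnit M.det := isUnit_iff_ne_zero.mpr hv
  -- coordinates of `h v`
  set w : Fin 3 → F := h.mulVec v with hw
  set cf : Fin 3 → F := Matrix.vecMul w M⁻¹ with hcf
  have hcfM : Matrix.vecMul cf M = w := by
    rw [hcf, Matrix.vecMul_vecMul, Matrix.nonsing_inv_mul _ hdet, Matrix.vecMul_one]
  refine ⟨cf 0, cf 1, cf 2, ?_⟩
  set p : Matrix (Fin 3) (Fin 3) F := cf 0 • (1 : Matrix (Fin 3) (Fin 3) F) + cf 1 • g + cf 2 • (g * g) with hp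
  -- `p v = h v`
  have hpv : p.mulVec v = w := by
    rw [← hcfM, hp]
    simp only [Matrix.add_mulVec, Matrix.smul_mulVec, Matrix.one_mulVec]
    funext i
    simp only [Matrix.vecMul, dotProduct, Fin.sum_univ_three, hM, Matrix.of_apply, Pi.add_apply,
      Pi.smul_apply, smul_eq_mul, Matrix.cons_val_zero, Matrix.cons_val_one, Matrix.cons_val_two]
    rfl
  have hpg : g * p = p * g := by
    rw [hp]
    simp only [Matrix.mul_add, Matrix.add_mul, Matrix.mul_smul, Matrix.smul_mul, Matrix.mul_one,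
      Matrix.one_mul, Matrix.mul_assoc]
  set D : Matrix (Fin 3) (Fin 3) F := h - p with hD
  have hDg : g * D = D * g := by
    rw [hD, Matrix.mul_sub, Matrix.sub_mul, hc, hpg]
  have hD0 : D.mulVec v = 0 := by
    rw [hD, Matrix.sub_mulVec, hpv, hw, sub_self]
  have hD1 : D.mulVec (g.mulVec v) = 0 := by
    rw [Matrix.mulVec_mulVec, ← hDg, ← Matrix.mulVec_mulVec, hD0, Matrix.mulVec_zero]
  have hD2 : D.mulVec ((g * g).mulVec v) = 0 := by
    have e : (g * g).mulVec v = g.mulVec (g.mulVec v) := (Matrix.mulVec_mulVec v g g).symm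
    rw [e, Matrix.mulVec_mulVec (g.mulVec v) D g, ← hDg, ← Matrix.mulVec_mulVec, hD1, Matrix.mulVec_zero]
  have hDM : D * Mᵀ = 0 := by
    ext i j
    rw [Matrix.mul_apply, Matrix.zero_apply]
    have : ∑ k, D i k * Mᵀ k j = (D.mulVec (M j)) i := by
      simp only [Matrix.mulVec, dotProduct, Matrix.transpose_apply]
    rw [this]
    fin_cases j
    · show (D.mulVec v) i = 0
      rw [hD0]; rfl
    · show (D.mulVec (g.mulVec v)) i = 0
      rw [hD1]; rfl
    · show (D.mulVec ((g * g).mulVec v)) i = 0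
      rw [hD2]; rfl
  have hdetT : IsUnit Mᵀ.det := by rw [Matrix.det_transpose]; exact hdet
  have hDz : D = 0 := by
    have := congrArg (fun X => X * Mᵀ⁻¹) hDM
    simp only [Matrix.zero_mul] at this
    rwa [Matrix.mul_assoc, Matrix.mul_nonsing_inv _ hdetT, Matrix.mul_one] at this
  rw [hD, sub_eq_zero] at hDz
  exact hDz

end Cfsg.Agent.Lib.H3.DG
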