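import Mathlib
import Cfsg.Prelude.Def_DegreeGraph
import Cfsg.Agent.Lib.H3.DG6048Defs
import Cfsg.Agent.Lib.H3.DGARITHC
import Cfsg.Agent.Lib.H7.DGSYL7
import Cfsg.Agent.Lib.H1.DGQUAD7
import Cfsg.Agent.Lib.H23.DGNZ
import Cfsg.Agent.Lib.H24.CharOrth
import Cfsg.Agent.Lib.H23.DegreeDvd
import Cfsg.Agent.Lib.L0.CharLinear
import Cfsg.Agent.Lib.L0.CharBasic
import Cfsg.Agent.Lib.L0.CharOps

/-!
# S3670, the glue: character degrees of a perfect group of order 6048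

A perfect group of order 6048 with elements of orders 7, 3, 8 whose centralizers have orders 7, 9, 8
and with at least 13 conjugacy classes has irreducible character degrees divisible by 6, 14 and 21.
-/

set_option autoImplicit false

open Cfsg Cfsg.Agent.Lib.H3.DG
open scoped ComplexConjugate

namespace Cfsg.Agent.Lib.H3.DG


/-- GLUE -/
theorem exists_degrees_6048 {G : Type*} [Group G] [Finite G] (hcard : Nat.card G = 6048)
    (hperf : commutator G = ⊤) (x y z : G)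
    (hx : orderOf x = 7) (hCx : Nat.card (Subgroup.centralizer ({x} : Set G)) = 7)
    (hy : orderOf y = 3) (hCy : Nat.card (Subgroup.centralizer ({y} : Set G)) = 9)
    (hz : orderOf z = 8) (hCz : Nat.card (Subgroup.centralizer ({z} : Set G)) = 8)
    (hk : 13 ≤ Nat.card (ConjClasses G)) :
    (∃ χ : IrrCharacter G, 6 ∣ charDegree (χ : G → ℂ)) ∧
      (∃ χ : IrrCharacter G, 14 ∣ charDegree (χ : G → ℂ)) ∧
      (∃ χ : IrrCharacter G, 21 ∣ charDegree (χ : G → ℂ)) := by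
  classical
  haveI : Fintype G := Fintype.ofFinite G
  haveI : Fintype (IrrCharacter G) := Fintype.ofFinite _
  obtain ⟨⟨h, hconj⟩, hnc⟩ := Cfsg.Agent.Lib.H7.DG.syl7 hcard x hx hCx
  have hx7 : x ^ 7 = 1 := by rw [← hx]; exact pow_orderOf_eq_one x
  have hx1 : x ≠ 1 := by
    intro h1
    rw [h1, orderOf_one] at hx
    norm_num at hx
  -- the data
  have hq := fun χ : IrrCharacter G =>
    Cfsg.Agent.Lib.H1.DG.char_at_order7 (χ : G → ℂ) (Cfsg.Agent.Lib.L0.isCharacter_of_irr χ.2) x h hx7 hconj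
  choose A B m hval hdeg using hq
  let d : IrrCharacter G → ℕ := fun χ => charDegree (χ : G → ℂ)
  let i₀ : IrrCharacter G := ⟨fun _ => 1, Cfsg.Agent.Lib.H24.isIrrCharacter_one⟩
  have hd1 : ∀ χ : IrrCharacter G, (χ : G → ℂ) 1 = (d χ : ℂ) := fun χ =>
    Cfsg.Agent.Lib.H23.apply_one_eq_charDegree _ χ.2
  have hd_pos : ∀ χ, 0 < d χ := fun χ => Cfsg.Agent.Lib.H23.charDegree_pos _ χ.2
  have hd_dvd : ∀ χ, d χ ∣ 6048 := fun χ => by
    have := Cfsg.Agent.Lib.H23.charDegree_dvd_card _ χ.2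
    rwa [hcard] at this
  have hd0 : d i₀ = 1 := by
    have h1 := hd1 i₀
    have h2 : ((1 : ℕ) : ℂ) = (d i₀ : ℂ) := by simpa [i₀] using h1
    exact (Nat.cast_injective h2).symm
  have hAB0 : A i₀ = 1 ∧ B i₀ = 0 := by
    have h1 := hval i₀
    have h2 : (((A i₀ - 1 : ℤ)) : ℂ) + ((B i₀ : ℤ) : ℂ) * alpha7 = 0 := by
      have : (1 : ℂ) = (A i₀ : ℂ) + (B i₀ : ℂ) * alpha7 := by simpa [i₀] using h1
      push_cast
      linear_combination -this
    obtain ⟨ha, hb⟩ := int_eq_zero_of_add_mul_alpha7 h2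
    exact ⟨by omega, hb⟩
  have h1 : ∀ χ, d χ = 1 → χ = i₀ := by
    intro χ hχ
    have hc := Cfsg.Agent.Lib.L0.card_linear_irr (G := G)
    rw [hperf, Subgroup.index_top] at hc
    have hsub : Subsingleton {χ : IrrCharacter G // (χ : G → ℂ) 1 = 1} :=
      (Nat.card_eq_one_iff_unique.mp hc).1
    have e1 : (χ : G → ℂ) 1 = 1 := by rw [hd1, hχ]; simp
    have e2 : (i₀ : G → ℂ) 1 = 1 := rfl
    have := hsub.elim ⟨χ, e1⟩ ⟨i₀, e2⟩
    exact congrArg Subtype.val this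
  have hsq : ∑ χ, d χ ^ 2 = 6048 := by
    have h := Cfsg.Agent.Lib.H24.sum_irr_one_sq (G := G)
    rw [hcard] at h
    have h2 : ((∑ χ, d χ ^ 2 : ℕ) : ℂ) = ((6048 : ℕ) : ℂ) := by
      push_cast
      have h' : ∑ χ : IrrCharacter G, (χ : G → ℂ) 1 ^ 2 = 6048 := by simpa using h
      rw [← h']
      exact Finset.sum_congr rfl fun χ _ => by rw [hd1]
    exact Nat.cast_injective h2
  have hcong : ∀ χ, (d χ : ℤ) ≡ A χ + 3 * B χ [ZMOD 7] := by
    intro χ
    have := hdeg χ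
    show ((charDegree (χ : G → ℂ) : ℕ) : ℤ) ≡ _ [ZMOD 7]
    rw [this]
    show (A χ + 3 * B χ + 7 * (m χ : ℤ)) % 7 = (A χ + 3 * B χ) % 7
    omega
  -- orthogonality relations at `x`
  have hcv : ∀ χ : IrrCharacter G, conj ((χ : G → ℂ) x) = (A χ : ℂ) + (B χ : ℂ) * (-1 - alpha7) := by
    intro χ
    rw [hval, map_add, map_mul, conj_alpha7, map_intCast, map_intCast]
  have o1 := Cfsg.Agent.Lib.H24.second_orthogonality (G := G) x x
  rw [if_pos (IsConj.refl x), hCx] at o1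
  have o2 := Cfsg.Agent.Lib.H24.second_orthogonality (G := G) x x⁻¹
  rw [if_neg hnc] at o2
  have o3 := Cfsg.Agent.Lib.H24.second_orthogonality (G := G) x 1
  rw [if_neg (fun hc => hx1 (isConj_one_left.mp hc))] at o3
  have hsq7 := alpha7_sq
  -- (x,x)
  have r1 : ∑ χ, (A χ ^ 2 - A χ * B χ + 2 * B χ ^ 2) = 7 := by
    have : ((∑ χ, (A χ ^ 2 - A χ * B χ + 2 * B χ ^ 2) : ℤ) : ℂ) = ((7 : ℤ) : ℂ) := by
      push_cast
      have o1' : ∑ χ : IrrCharacter G, (χ : G → ℂ) x * conj ((χ : G → ℂ) x) = 7 := by simpa using o1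
      rw [← o1']
      refine Finset.sum_congr rfl fun χ _ => ?_
      rw [hcv, hval]
      linear_combination (B χ : ℂ) ^ 2 * hsq7
    exact_mod_cast this
  -- (x, x⁻¹)
  have r2 : ∑ χ, (A χ ^ 2 - 2 * B χ ^ 2) = 0 ∧ ∑ χ, (2 * A χ * B χ - B χ ^ 2) = 0 := by
    apply int_eq_zero_of_add_mul_alpha7
    push_cast
    rw [← o2, Finset.sum_mul, ← Finset.sum_add_distrib]
    refine Finset.sum_congr rfl fun χ _ => ?_
    rw [Cfsg.Agent.Lib.L0.isCharacter_apply_inv (Cfsg.Agent.Lib.L0.isCharacter_of_irr χ.2), Complex.conj_conj, hval]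
    linear_combination (-(B χ : ℂ) ^ 2) * hsq7
  -- (x, 1)
  have r3 : ∑ χ, (d χ : ℤ) * A χ = 0 ∧ ∑ χ, (d χ : ℤ) * B χ = 0 := by
    apply int_eq_zero_of_add_mul_alpha7
    push_cast
    rw [← o3, Finset.sum_mul, ← Finset.sum_add_distrib]
    refine Finset.sum_congr rfl fun χ _ => ?_
    rw [hd1, Complex.conj_natCast, hval]
    ring
  obtain ⟨r2a, r2b⟩ := r2
  obtain ⟨r3a, r3b⟩ := r3
  have e1 : ∑ χ, (A χ ^ 2 - A χ * B χ + 2 * B χ ^ 2) =
      ∑ χ, A χ ^ 2 - ∑ χ, A χ * B χ + 2 * ∑ χ, B χ ^ 2 := by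
    rw [Finset.sum_add_distrib, Finset.sum_sub_distrib, Finset.mul_sum]
  have e2 : ∑ χ, (A χ ^ 2 - 2 * B χ ^ 2) = ∑ χ, A χ ^ 2 - 2 * ∑ χ, B χ ^ 2 := by
    rw [Finset.sum_sub_distrib, Finset.mul_sum]
  have e3 : ∑ χ, (2 * A χ * B χ - B χ ^ 2) = 2 * ∑ χ, A χ * B χ - ∑ χ, B χ ^ 2 := by
    rw [Finset.sum_sub_distrib, Finset.mul_sum]
    congr 1
    exact Finset.sum_congr rfl fun χ _ => by ring
  rw [e1] at r1
  rw [e2] at r2a
  rw [e3] at r2b
  have hAA : ∑ χ, A χ ^ 2 = 4 := by omega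
  have hBB : ∑ χ, B χ ^ 2 = 2 := by omega
  have hAB : ∑ χ, A χ * B χ = 1 := by omega
  -- the counting bounds
  haveI : Fact (Nat.Prime 3) := ⟨by norm_num⟩
  haveI : Fact (Nat.Prime 2) := ⟨by norm_num⟩
  have h3 : (Finset.univ.filter (fun χ : IrrCharacter G => ¬ 3 ∣ d χ)).card ≤ 9 := by
    have := Cfsg.Agent.Lib.H23.DG.card_not_dvd_le 3 y ⟨1, by rw [hy]; norm_num⟩
    rw [hCy, Nat.card_eq_fintype_card, Fintype.card_subtype] at this
    exact this
  have h2 : (Finset.univ.filter (fun χ : IrrCharacter G => ¬ 2 ∣ d χ)).card ≤ 8 := by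
    have := Cfsg.Agent.Lib.H23.DG.card_not_dvd_le 2 z ⟨3, by rw [hz]; norm_num⟩
    rw [hCz, Nat.card_eq_fintype_card, Fintype.card_subtype] at this
    exact this
  have hk' : 13 ≤ Fintype.card (IrrCharacter G) := by
    rw [← Nat.card_eq_fintype_card, Cfsg.Agent.Lib.H24.card_irr_eq_card_conjClasses]
    exact hk
  exact arith_core d A B i₀ hd_pos hd_dvd h1 hd0 hAB0.1 hAB0.2 hsq hcong hAA hBB hAB r3a r3b h3 h2 hk'

theorem commutator_eq_top_of_simple {S : Type*} [Group S] [Finite S] [IsSimpleGroup S]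
    (hnp : ¬ (Nat.card S).Prime) : commutator S = ⊤ := by
  rcases (inferInstance : (commutator S).Normal).eq_bot_or_eq_top with h | h
  · exfalso
    have hcomm : ∀ a b : S, a * b = b * a := by
      intro a b
      have h1 : a * b * a⁻¹ * b⁻¹ ∈ commutator S := by
        have h0 := Subgroup.commutator_mem_commutator (Subgroup.mem_top a) (Subgroup.mem_top b)
        rwa [commutatorElement_def] at h0
      rw [h, Subgroup.mem_bot] at h1
      have h2 : a * b = (a * b * a⁻¹ * b⁻¹) * (b * a) := by group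
      rw [h2, h1, one_mul]
    let _ : CommGroup S := { (inferInstance : Group S) with mul_comm := hcomm }
    exact hnp (IsSimpleGroup.prime_card (α := S))
  · exact h

end Cfsg.Agent.Lib.H3.DG
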