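import Mathlib
import Cfsg.Prelude.Def_DegreeGraph
import Cfsg.Prelude.Def_Classical
import Cfsg.Agent.Lib.H3.DGGlue
import Cfsg.Agent.Lib.H14.F9
import Cfsg.Agent.Lib.H14.U3B
import Cfsg.Agent.Lib.H28.OGU33b
import Cfsg.Agent.Lib.H11.UnitarySimple6
import Cfsg.Agent.Lib.H2.Spec5
import Cfsg.Agent.Lib.H3.CenterIso
import Cfsg.Agent.Lib.H21.DegQuot
import Cfsg.Agent.Lib.H24.DGGRAPH
import Cfsg.Agent.Lib.H23.DGINDIRR
import Cfsg.Agent.Lib.H2.DGHGRP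
import Cfsg.Agent.Lib.H8.DGM7
import Cfsg.Agent.Lib.H8.DGM3
import Cfsg.Agent.Lib.H8.DGM8

/-!
# S3670, final assembly (modulo the class count of `SU(3, F9)`)

There is a solvable group of order 6048 whose character degree graph is that of `PSU(3,3)`:
both graphs are the complete graph on `{2, 3, 7}`.
-/

set_option autoImplicit false

open Cfsg Cfsg.Agent.Lib.H3.DG Cfsg.Agent.Lib.H14
open scoped ComplexConjugate

namespace Cfsg.Agent.Lib.H3.DG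

theorem final_of_classCount (hMK : 13 ≤ Nat.card (ConjClasses ↥(Cfsg.SU 3 F9 3)))
    {F : Type*} [Field F] [Fintype F] (hF : Fintype.card F = 9) :
    ∃ (H : Type) (_ : Group H) (_ : Fintype H), Group.IsSolvable H ∧ Nat.card H = 6048 ∧
      Cfsg.degreePrimes H = Cfsg.degreePrimes (Cfsg.PSU 3 F 3) ∧
      Cfsg.degreeGraph H = Cfsg.degreeGraph (Cfsg.PSU 3 F 3) := by
  classical
  obtain ⟨H, iG, iF, A, L, hsolv, hcardH, hAn, hidx, hAab, hLc, hL1, hstab⟩ := Cfsg.Agent.Lib.H2.DG.exists_solvable_6048_data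
  have := hAn
  obtain ⟨hirr, hdeg⟩ := Cfsg.Agent.Lib.H23.DG.isIrr_indFun_of_trivial_stab A hAab L hLc hL1 hstab
  refine ⟨H, iG, iF, hsolv, hcardH, ?_⟩
  -- the group `S = SU(3, F9)`
  let S := ↥(Cfsg.SU 3 F9 3)
  have hcardS : Nat.card S = 6048 := Cfsg.Agent.Lib.H28.OG.u33_card_SU F9.card_eq
  have eK : F ≃+* F9 := FiniteField.ringEquivOfCardEq (hF.trans F9.card_eq.symm)
  have e1 : S ≃* Cfsg.PSU 3 F9 3 :=
    (QuotientGroup.quotientBot (G := S)).symm.trans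
      (QuotientGroup.quotientMulEquivOfEq Cfsg.Agent.Lib.H14.U3B.center_SU3.symm)
  have e2 : Cfsg.PSU 3 F 3 ≃* Cfsg.PSU 3 F9 3 :=
    Cfsg.Agent.Lib.H3.CenterIso.quotCenterCongr (Cfsg.Agent.Lib.H2.Spec.suEquiv eK 3 3)
  have e : S ≃* Cfsg.PSU 3 F 3 := e1.trans e2.symm
  -- `S` is perfect
  have hF9 : Fintype.card F9 = 3 ^ 2 := by rw [F9.card_eq]; norm_num
  haveI hsimple' : IsSimpleGroup (Cfsg.PSU 3 F9 3) :=
    Cfsg.Agent.Lib.H11.USimple.psu_simple hF9 3 (le_refl 3) (by omega)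
  haveI hsimple : IsSimpleGroup S := MulEquiv.isSimpleGroup e1
  have hperf : commutator S = ⊤ := commutator_eq_top_of_simple (by rw [hcardS]; norm_num)
  obtain ⟨x, hx, hCx⟩ := Cfsg.Agent.Lib.H8.DG.exists_order7
  obtain ⟨y, hy, hCy⟩ := Cfsg.Agent.Lib.H8.DG.exists_order3
  obtain ⟨z, hz, hCz⟩ := Cfsg.Agent.Lib.H8.DG.exists_order8
  have wS := exists_degrees_6048 hcardS hperf x y z hx hCx hy hCy hz hCz hMK
  -- witnesses for `H`
  let χH : IrrCharacter H := ⟨indFun A (fun a : A => L a), hirr⟩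
  have h42 : 42 ∣ charDegree (χH : H → ℂ) := by
    show 42 ∣ charDegree (indFun A (fun a : A => L a))
    rw [hdeg, hidx]
  have wH : (∃ χ : IrrCharacter H, 6 ∣ charDegree (χ : H → ℂ)) ∧
      (∃ χ : IrrCharacter H, 14 ∣ charDegree (χ : H → ℂ)) ∧
      (∃ χ : IrrCharacter H, 21 ∣ charDegree (χ : H → ℂ)) :=
    ⟨⟨χH, Dvd.dvd.trans (by norm_num) h42⟩, ⟨χH, Dvd.dvd.trans (by norm_num) h42⟩,
      ⟨χH, Dvd.dvd.trans (by norm_num) h42⟩⟩
  obtain ⟨hp, hg⟩ := Cfsg.Agent.Lib.H24.DG.degreeGraph_eq_of_witnesses hcardH hcardS wH wS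
  constructor
  · rw [hp]
    exact Cfsg.Agent.Lib.H21.Deg.degreePrimes_congr e
  · rw [hg]
    ext r s
    exact Cfsg.Agent.Lib.H21.Deg.degreeGraph_adj_congr e r s

end Cfsg.Agent.Lib.H3.DG
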