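import Mathlib
import Cfsg.Agent.Lib.H3.Diag3
set_option autoImplicit false
open scoped commutatorElement
namespace Cfsg.Agent.Lib.H3

variable {G : Type*} [Group G]

theorem commute_conj_of {a b x y : G}
    (hc : Commute x ((a⁻¹ * b) * y * (a⁻¹ * b)⁻¹)) : Commute (a * x * a⁻¹) (b * y * b⁻¹) := by
  show a * x * a⁻¹ * (b * y * b⁻¹) = b * y * b⁻¹ * (a * x * a⁻¹)
  have h1 : a * x * a⁻¹ * (b * y * b⁻¹) = a * (x * ((a⁻¹ * b) * y * (a⁻¹ * b)⁻¹)) * a⁻¹ := by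
    group
  rw [h1, hc.eq]
  group

namespace FFS
variable {p q : ℕ} [Fact p.Prime] [Fact q.Prime] {V H Q : Subgroup G}

/-- the stabilizer of `E` in a `q`-group centralizes `W` and `E`. -/
theorem stab_le_centralizer (h : FFS p V H Q) [Finite G] {A : Subgroup G} (m : MO p V H A)
    {Y₁ : Subgroup G} (hYV : Y₁ ≤ Subgroup.normalizer (V : Set G))
    (hYE : Y₁ ≤ Subgroup.normalizer ((⁅Q, A⁆ ⊔ A : Subgroup G) : Set G))
    (hYq : IsPGroup q Y₁) (hq : ¬ q ∣ p * (p ^ 2 - 1)) :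
    Y₁ ≤ Subgroup.centralizer ((⁅V, ⁅Q, A⁆ ⊔ A⁆ : Subgroup G) : Set G) ∧
      Y₁ ≤ Subgroup.centralizer ((⁅Q, A⁆ ⊔ A : Subgroup G) : Set G) := by
  set E := ⁅Q, A⁆ ⊔ A with hE
  set W := ⁅V, E⁆ with hW
  have hYW : Y₁ ≤ Subgroup.normalizer (W : Set G) := le_normalizer_commutator' hYV hYE
  have c1 : Y₁ ≤ Subgroup.centralizer (W : Set G) :=
    Diag.le_centralizer_of_card_sq hYW hYq (h.card_W m) hq
  refine ⟨c1, ?_⟩
  intro y hy
  rw [Subgroup.mem_centralizer_iff]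
  intro e he
  have hEW : E ≤ Subgroup.normalizer (W : Set G) := h.E_le_normalizer_W m.le
  have hc : y * e * y⁻¹ * e⁻¹ ∈ E ⊓ Subgroup.centralizer (W : Set G) := by
    refine ⟨E.mul_mem ((Subgroup.mem_normalizer_iff.1 (hYE hy) e).1 he) (E.inv_mem he), ?_⟩
    show y * e * y⁻¹ * e⁻¹ ∈ Subgroup.centralizer (W : Set G)
    rw [Subgroup.mem_centralizer_iff]
    intro w hw
    have hw' : e⁻¹ * w * e ∈ W := by
      have := (Subgroup.mem_normalizer_iff.1 (hEW (E.inv_mem he)) w).1 hw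
      simpa using this
    have h1 : (e⁻¹ * w * e) * y⁻¹ = y⁻¹ * (e⁻¹ * w * e) :=
      Subgroup.mem_centralizer_iff.1 (Subgroup.inv_mem _ (c1 hy)) _ hw'
    have h2 : w * y = y * w := Subgroup.mem_centralizer_iff.1 (c1 hy) w hw
    calc w * (y * e * y⁻¹ * e⁻¹) = (w * y) * e * y⁻¹ * e⁻¹ := by group
      _ = (y * w) * e * y⁻¹ * e⁻¹ := by rw [h2]
      _ = y * e * ((e⁻¹ * w * e) * y⁻¹) * e⁻¹ := by group
      _ = y * e * (y⁻¹ * (e⁻¹ * w * e)) * e⁻¹ := by rw [h1]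
      _ = y * e * y⁻¹ * e⁻¹ * w := by group
  rw [h.E_faithful m, Subgroup.mem_bot] at hc
  calc e * y = (y * e * y⁻¹ * e⁻¹)⁻¹ * (y * e) := by group
    _ = y * e := by rw [hc]; group

end FFS
end Cfsg.Agent.Lib.H3
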