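import Mathlib
import Cfsg.Agent.Lib.H3.Diag4
set_option autoImplicit false
open scoped commutatorElement
namespace Cfsg.Agent.Lib.H3

variable {G : Type*} [Group G]

namespace FFS
variable {p q : ℕ} [Fact p.Prime] [Fact q.Prime] {V H Q : Subgroup G}

/-- facts about a conjugate `E^y ≠ E`. -/
theorem conj_facts (h : FFS p V H Q) [Finite G]
    (hS3 : H = ⨆ A : {A : Subgroup G // A ≤ H ∧ Cfsg.IsBestOffenderOn p V A}, (A : Subgroup G))
    {A : Subgroup G} (m : MO p V H A) {y : G}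
    (hyV : y ∈ Subgroup.normalizer (V : Set G)) (hyH : y ∈ Subgroup.normalizer (H : Set G))
    (hyE : y ∉ Subgroup.normalizer ((⁅Q, A⁆ ⊔ A : Subgroup G) : Set G)) :
    (⁅Q, A⁆ ⊔ A).map (MulAut.conj y).toMonoidHom ≤
        Subgroup.centralizer ((⁅Q, A⁆ ⊔ A : Subgroup G) : Set G) ∧
      (⁅V, ⁅Q, A⁆ ⊔ A⁆).map (MulAut.conj y).toMonoidHom ≤
        Subgroup.centralizer ((⁅Q, A⁆ ⊔ A : Subgroup G) : Set G) := by
  have m' := m.conj' h hyV hyH
  have hE' := h.E_conj' hS3 m hyV hyH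
  have hW' := h.W_conj' hS3 m hyV hyH
  have hne : ⁅Q, A⁆ ⊔ A ≠ ⁅Q, A.map (MulAut.conj y).toMonoidHom⁆ ⊔
      A.map (MulAut.conj y).toMonoidHom := by
    intro heq
    apply hyE
    rw [Subgroup.mem_normalizer_iff_map_conj_eq]
    have : (⁅Q, A⁆ ⊔ A).map (MulAut.conj y).toMonoidHom = ⁅Q, A⁆ ⊔ A := by
      rw [← hE', ← heq]
    exact this
  have h1 := h.E_le_centralizer_of_ne m m' hne
  have h2 := h.W_le_of_ne hS3 m m' hne
  rw [hE'] at h1
  rw [hW'] at h2
  exact ⟨h1.1, h2.trans inf_le_right⟩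

/-- the diagonal `SL₂(p)` centralized by a `q`-group `Y` normalizing `V` and `H`. -/
theorem exists_fixed_SL2 (h : FFS p V H Q) [Finite G]
    (hS3 : H = ⨆ A : {A : Subgroup G // A ≤ H ∧ Cfsg.IsBestOffenderOn p V A}, (A : Subgroup G))
    {A : Subgroup G} (m : MO p V H A) {Y : Subgroup G}
    (hYV : Y ≤ Subgroup.normalizer (V : Set G)) (hYH : Y ≤ Subgroup.normalizer (H : Set G))
    (hYq : IsPGroup q Y) (hq : ¬ q ∣ p * (p ^ 2 - 1)) :
    ∃ D' W' : Subgroup G, D' ≤ H ∧ D' ≤ Subgroup.centralizer (Y : Set G) ∧ W' ≤ V ∧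
      W' ≤ Subgroup.centralizer (Y : Set G) ∧ Nat.card W' = p ^ 2 ∧
      D' ≤ Subgroup.normalizer (W' : Set G) ∧ D' ⊓ Subgroup.centralizer (W' : Set G) = ⊥ ∧
      Nonempty (↥D' ≃* ↥(⁅Q, A⁆ ⊔ A)) ∧
      ∀ e ∈ ⁅Q, A⁆ ⊔ A, ∃ d ∈ D', ∀ u ∈ ⁅Q, A⁆ ⊔ A, d * u * d⁻¹ = e * u * e⁻¹ := by
  classical
  set E := ⁅Q, A⁆ ⊔ A with hE
  set W := ⁅V, E⁆ with hW
  set Y₁ : Subgroup ↥Y := (Subgroup.normalizer (E : Set G)).subgroupOf Y with hY₁
  haveI : Fintype (↥Y ⧸ Y₁) := Fintype.ofFinite _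
  let g : ↥Y ⧸ Y₁ → G := fun c => ((Quotient.out c : ↥Y) : G)
  have hWV : W ≤ V := h.W_le_V m.le
  have hEH : E ≤ H := h.E_le m.le
  have hEW : E ≤ Subgroup.normalizer (W : Set G) := h.E_le_normalizer_W m.le
  obtain ⟨hstW, hstE⟩ := h.stab_le_centralizer (q := q) m
    (Y₁ := Y ⊓ Subgroup.normalizer (E : Set G)) (inf_le_left.trans hYV) inf_le_right
    (hYq.to_le inf_le_left) hq
  have hgY : ∀ c, g c ∈ Y := fun c => (Quotient.out c).2
  have hkey : ∀ c c', c ≠ c' → (g c)⁻¹ * g c' ∉ Subgroup.normalizer (E : Set G) := by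
    intro c c' hne hmem
    apply hne
    rw [← QuotientGroup.out_eq' c, ← QuotientGroup.out_eq' c', QuotientGroup.eq]
    exact hmem
  have hfacts : ∀ c c', c ≠ c' →
      E.map (MulAut.conj ((g c)⁻¹ * g c')).toMonoidHom ≤ Subgroup.centralizer (E : Set G) ∧
      W.map (MulAut.conj ((g c)⁻¹ * g c')).toMonoidHom ≤ Subgroup.centralizer (E : Set G) := by
    intro c c' hne
    have hz : (g c)⁻¹ * g c' ∈ Y := Y.mul_mem (Y.inv_mem (hgY c)) (hgY c')
    exact h.conj_facts hS3 m (hYV hz) (hYH hz) (hkey c c' hne)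
  -- pairwise commuting
  have hPE : Diag.PC E g := by
    intro c c' hne x y
    rw [Diag.cj_apply, Diag.cj_apply]
    apply commute_conj_of
    have h1 : (g c)⁻¹ * g c' * y * ((g c)⁻¹ * g c')⁻¹ ∈ Subgroup.centralizer (E : Set G) :=
      (hfacts c c' hne).1 ⟨y, y.2, rfl⟩
    exact Subgroup.mem_centralizer_iff.1 h1 x x.2
  have hgV : ∀ c, ∀ w : ↥W, g c * w * (g c)⁻¹ ∈ V := by
    intro c w
    exact (Subgroup.mem_normalizer_iff.1 (hYV (hgY c)) w).1 (hWV w.2)
  have hPW : Diag.PC W g := by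
    intro c c' hne x y
    rw [Diag.cj_apply, Diag.cj_apply]
    exact h.comm_V _ (hgV c x) _ (hgV c' y)
  have hcross : ∀ c c', c ≠ c' → ∀ e : ↥E, ∀ w : ↥W,
      Commute (g c * e * (g c)⁻¹) (g c' * w * (g c')⁻¹) := by
    intro c c' hne e w
    apply commute_conj_of
    have h1 : (g c)⁻¹ * g c' * w * ((g c)⁻¹ * g c')⁻¹ ∈ Subgroup.centralizer (E : Set G) :=
      (hfacts c c' hne).2 ⟨w, w.2, rfl⟩
    exact Subgroup.mem_centralizer_iff.1 h1 e e.2
  -- the permutation action of `Y`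
  have hσ : ∀ (L : Subgroup G), Y ⊓ Subgroup.normalizer (E : Set G) ≤
      Subgroup.centralizer (L : Set G) → ∀ (y : ↥Y) (c : ↥Y ⧸ Y₁) (l : ↥L),
      (y : G) * (g c * l * (g c)⁻¹) * (y : G)⁻¹ =
        g (MulAction.toPerm y c) * l * (g (MulAction.toPerm y c))⁻¹ := by
    intro L hL y c l
    have hz : (Quotient.out (y • c))⁻¹ * (y * Quotient.out c) ∈ Y₁ := by
      rw [← QuotientGroup.eq, QuotientGroup.out_eq']
      conv_lhs => rw [← QuotientGroup.out_eq' c]
      exact MulAction.Quotient.smul_mk Y₁ y (Quotient.out c)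
    set z : G := (g (y • c))⁻¹ * ((y : G) * g c) with hzdef
    have hzm : z ∈ Y ⊓ Subgroup.normalizer (E : Set G) := by
      refine ⟨?_, ?_⟩
      · exact Y.mul_mem (Y.inv_mem (hgY _)) (Y.mul_mem y.2 (hgY c))
      · exact hz
    have hzl : z * l = l * z := (Subgroup.mem_centralizer_iff.1 (hL hzm) l l.2).symm
    show (y : G) * (g c * l * (g c)⁻¹) * (y : G)⁻¹ = g (y • c) * l * (g (y • c))⁻¹
    have e1 : (y : G) * g c = g (y • c) * z := by rw [hzdef]; group
    calc (y : G) * (g c * l * (g c)⁻¹) * (y : G)⁻¹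
        = ((y : G) * g c) * l * ((y : G) * g c)⁻¹ := by group
      _ = g (y • c) * (z * l) * z⁻¹ * (g (y • c))⁻¹ := by rw [e1]; group
      _ = g (y • c) * (l * z) * z⁻¹ * (g (y • c))⁻¹ := by rw [hzl]
      _ = _ := by group
  -- base coset
  set c₀ : ↥Y ⧸ Y₁ := QuotientGroup.mk 1 with hc₀
  have hg₀ : g c₀ ∈ Y ⊓ Subgroup.normalizer (E : Set G) := by
    refine ⟨hgY c₀, ?_⟩
    have h1 : (Quotient.out c₀)⁻¹ * 1 ∈ Y₁ := by
      rw [← QuotientGroup.eq, QuotientGroup.out_eq']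
    rw [mul_one] at h1
    exact Y₁.inv_mem_iff.1 h1
  -- injectivity of the `W`-diagonal
  have hWinj : Function.Injective (Diag.diag W g hPW) := by
    rw [injective_iff_map_eq_one]
    intro w hw
    have h1 : (w : G) ∈ W ⊓ (V ⊓ Subgroup.centralizer (E : Set G)) := by
      refine ⟨w.2, hWV w.2, ?_⟩
      show (w : G) ∈ Subgroup.centralizer (E : Set G)
      rw [Subgroup.mem_centralizer_iff]
      intro e he
      exact (Diag.diag_eq_one E W g hPW hcross c₀ w hw ⟨e, he⟩).eq.symm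
    rw [h.W_inf m, Subgroup.mem_bot] at h1
    exact Subtype.ext h1
  have hconj := Diag.diag_conj_diag E W g hPE hPW hEW hcross
  -- kernel of the `E`-diagonal acting on `W'`
  have hEker : ∀ e : ↥E, Diag.diag E g hPE e ∈
      Subgroup.centralizer (((Diag.diag W g hPW).range : Subgroup G) : Set G) → e = 1 := by
    intro e he
    have h1 : (e : G) ∈ E ⊓ Subgroup.centralizer (W : Set G) := by
      refine ⟨e.2, ?_⟩
      show (e : G) ∈ Subgroup.centralizer (W : Set G)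
      rw [Subgroup.mem_centralizer_iff]
      intro w hw
      have h2 := hconj e ⟨w, hw⟩
      have h3 := Subgroup.mem_centralizer_iff.1 he _ ⟨⟨w, hw⟩, rfl⟩
      have h4 : Diag.diag E g hPE e * Diag.diag W g hPW ⟨w, hw⟩ * (Diag.diag E g hPE e)⁻¹ =
          Diag.diag W g hPW ⟨w, hw⟩ := by
        rw [← h3]; group
      rw [h4] at h2
      have h5 := congrArg Subtype.val (hWinj h2)
      simp only at h5
      calc w * (e : G) = ((e : G) * w * (e : G)⁻¹) * e := by rw [← h5]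
        _ = e * w := by group
    rw [h.E_faithful m, Subgroup.mem_bot] at h1
    exact Subtype.ext h1
  have hEinj : Function.Injective (Diag.diag E g hPE) := by
    rw [injective_iff_map_eq_one]
    intro e he
    apply hEker
    rw [he]
    exact Subgroup.one_mem _
  refine ⟨(Diag.diag E g hPE).range, (Diag.diag W g hPW).range, ?_, ?_, ?_, ?_, ?_, ?_, ?_, ?_, ?_⟩
  · rintro _ ⟨e, rfl⟩
    apply Diag.diag_mem
    intro c l
    exact (Subgroup.mem_normalizer_iff.1 (hYH (hgY c)) l).1 (hEH l.2)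
  · rintro _ ⟨e, rfl⟩
    rw [Subgroup.mem_centralizer_iff]
    intro y hy
    have := Diag.diag_conj_eq E g hPE y (MulAction.toPerm (⟨y, hy⟩ : ↥Y))
      (fun c l => hσ E hstE ⟨y, hy⟩ c l) e
    calc y * Diag.diag E g hPE e = (y * Diag.diag E g hPE e * y⁻¹) * y := by group
      _ = Diag.diag E g hPE e * y := by rw [this]
  · rintro _ ⟨w, rfl⟩
    apply Diag.diag_mem
    intro c l
    exact hgV c l
  · rintro _ ⟨w, rfl⟩
    rw [Subgroup.mem_centralizer_iff]
    intro y hy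
    have := Diag.diag_conj_eq W g hPW y (MulAction.toPerm (⟨y, hy⟩ : ↥Y))
      (fun c l => hσ W hstW ⟨y, hy⟩ c l) w
    calc y * Diag.diag W g hPW w = (y * Diag.diag W g hPW w * y⁻¹) * y := by group
      _ = Diag.diag W g hPW w * y := by rw [this]
  · rw [← h.card_W m]
    exact (Nat.card_congr (MonoidHom.ofInjective hWinj).toEquiv).symm
  · rintro _ ⟨e, rfl⟩
    apply mem_normalizer_of_map_conj_le
    rintro _ ⟨_, ⟨w, rfl⟩, rfl⟩
    simp only [MulEquiv.coe_toMonoidHom, MulAut.conj_apply]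
    rw [hconj e w]
    exact ⟨_, rfl⟩
  · rw [eq_bot_iff]
    rintro _ ⟨⟨e, rfl⟩, he⟩
    rw [Subgroup.mem_bot, hEker e he, map_one]
  · exact ⟨(MonoidHom.ofInjective hEinj).symm⟩
  · intro e he
    refine ⟨Diag.diag E g hPE ⟨e, he⟩, ⟨_, rfl⟩, ?_⟩
    intro u hu
    have hg₀E : g c₀ ∈ Subgroup.centralizer (E : Set G) := hstE hg₀
    have hu' : g c₀ * u * (g c₀)⁻¹ = u := by
      have := Subgroup.mem_centralizer_iff.1 hg₀E u hu
      rw [← this]; group
    have he' : g c₀ * e * (g c₀)⁻¹ = e := by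
      have := Subgroup.mem_centralizer_iff.1 hg₀E e he
      rw [← this]; group
    have := Diag.diag_conj_apply E g hPE c₀ u (fun c hc l => by
      have := hPE hc l ⟨u, hu⟩
      rw [Diag.cj_apply, Diag.cj_apply] at this
      simp only at this
      rw [hu'] at this
      exact this) ⟨e, he⟩
    simp only at this
    rw [he'] at this
    exact this

end FFS
end Cfsg.Agent.Lib.H3
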