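import Mathlib
import Cfsg.Agent.Lib.H3.Diag5
import Cfsg.Agent.Lib.H3.HallSystem3
set_option autoImplicit false
open scoped commutatorElement
namespace Cfsg.Agent.Lib.H3

variable {G : Type*} [Group G]

/-- `|N : N ∩ P|` divides `|L : P|` when `N` is normal in `L`. -/
theorem relIndex_dvd_relIndex_of_normal_right [Finite G] {P N L : Subgroup G} (hNL : N ≤ L)
    (hLN : L ≤ Subgroup.normalizer (N : Set G)) : P.relIndex N ∣ P.relIndex L := by
  haveI : (N.subgroupOf L).Normal := (Subgroup.normal_subgroupOf_iff_le_normalizer hNL).2 hLN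
  have := relIndex_dvd_index_of_normal_right (P.subgroupOf L) (N.subgroupOf L)
  rwa [Subgroup.relIndex_subgroupOf hNL] at this

/-- `|B : B ∩ N|` divides `|L : N|` when `N` is normal in `L ≥ B`. -/
theorem relIndex_dvd_relIndex_of_normal_left {B N L : Subgroup G} (hNL : N ≤ L)
    (hLN : L ≤ Subgroup.normalizer (N : Set G)) (hBL : B ≤ L) : N.relIndex B ∣ N.relIndex L := by
  haveI : (N.subgroupOf L).Normal := (Subgroup.normal_subgroupOf_iff_le_normalizer hNL).2 hLN
  have := Subgroup.relIndex_dvd_index_of_normal (N.subgroupOf L) (B.subgroupOf L)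
  rwa [Subgroup.relIndex_subgroupOf hBL] at this

namespace FFS
variable {p : ℕ} [Fact p.Prime] {V H Q : Subgroup G}

/-- a subgroup containing a "Sylow" subgroup and realizing all inner automorphisms of `E`
contains `E`. -/
theorem E_le_of (h : FFS p V H Q) [Finite G]
    (hS3 : H = ⨆ A : {A : Subgroup G // A ≤ H ∧ Cfsg.IsBestOffenderOn p V A}, (A : Subgroup G))
    {A : Subgroup G} (m : MO p V H A) {Mh Sh Kh : Subgroup G} (hSM : Sh ≤ Mh)
    (hSyl : ¬ p ∣ Sh.relIndex Kh) (hHK : H ≤ Kh)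
    (hKH : Kh ≤ Subgroup.normalizer (H : Set G))
    (hdiag : ∀ e ∈ ⁅Q, A⁆ ⊔ A, ∃ d ∈ Mh, ∀ u ∈ ⁅Q, A⁆ ⊔ A, d * u * d⁻¹ = e * u * e⁻¹) :
    ⁅Q, A⁆ ⊔ A ≤ Mh := by
  have hp : p.Prime := Fact.out
  set E := ⁅Q, A⁆ ⊔ A with hE
  have hEH : E ≤ H := h.E_le m.le
  have hHE : H ≤ Subgroup.normalizer (E : Set G) := h.H_le_normalizer_E hS3 m
  have ha : ¬ p ∣ Sh.relIndex H := fun h0 =>
    hSyl (h0.trans (relIndex_dvd_relIndex_of_normal_right hHK hKH))
  have hb : ¬ p ∣ (Sh ⊓ H).relIndex E := by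
    intro h0
    apply ha
    have := h0.trans (relIndex_dvd_relIndex_of_normal_right (P := Sh ⊓ H) hEH hHE)
    rwa [Subgroup.inf_relIndex_right] at this
  set L := Mh ⊓ E with hL
  have hEL : E ≤ Subgroup.normalizer (L : Set G) := by
    intro e he
    apply mem_normalizer_of_map_conj_le
    rintro _ ⟨u, hu, rfl⟩
    obtain ⟨d, hd, hdu⟩ := hdiag e he
    simp only [MulEquiv.coe_toMonoidHom, MulAut.conj_apply]
    refine ⟨?_, E.mul_mem (E.mul_mem he hu.2) (E.inv_mem he)⟩
    rw [← hdu u hu.2]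
    exact Mh.mul_mem (Mh.mul_mem hd hu.1) (Mh.inv_mem hd)
  have hc : ¬ p ∣ L.relIndex E := by
    intro h0
    apply hb
    have h1 : (Sh ⊓ H) ⊓ E ≤ L := le_inf ((inf_le_left.trans inf_le_left).trans hSM) inf_le_right
    have h2 := h0.trans (Subgroup.relIndex_dvd_of_le_left E h1)
    rwa [Subgroup.inf_relIndex_right] at h2
  have hd : ∀ x : ↥H, A.map (MulAut.conj (x : G)).toMonoidHom ≤ L := by
    intro x
    set B := A.map (MulAut.conj (x : G)).toMonoidHom with hB
    have hBE : B ≤ E := by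
      rw [hE, h.E_eq_iSup hS3 m]
      exact le_iSup (fun x : ↥H => A.map (MulAut.conj (x : G)).toMonoidHom) x
    have h1 : L.relIndex B ∣ L.relIndex E :=
      relIndex_dvd_relIndex_of_normal_left inf_le_right hEL hBE
    have h2 : L.relIndex B ∣ p := by
      have := Subgroup.relIndex_dvd_card L B
      rwa [hB, card_map_conj', m.card] at this
    rcases (Nat.dvd_prime hp).1 h2 with h3 | h3
    · exact Subgroup.relIndex_eq_one.1 h3
    · exact absurd (h3 ▸ h1) hc
  have : E ≤ L := by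
    conv_lhs => rw [hE, h.E_eq_iSup hS3 m]
    exact iSup_le hd
  exact this.trans inf_le_left

end FFS
end Cfsg.Agent.Lib.H3
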