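/-
S5664 farm-out (architect helper9), piece P3b `rel_all`:
`q = r = 2`: all non-zero vectors are related (spreading by `K`-transvections).
-/
import Cfsg.Agent.Lib.H9.ExtSpDefs
import Cfsg.Agent.Lib.H5.ExtSpP1a

set_option autoImplicit false
set_option linter.unusedSectionVars false
set_option linter.unusedVariables false

namespace Cfsg.Agent.Lib.H3.ExtSp

open Module Cfsg.Agent.Lib.H9.ExtSp

variable {F K V : Type*} [Field F] [Field K] [Algebra F K] [AddCommGroup V] [Module F V]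
  [Module K V] [IsScalarTower F K V]
  {B : LinearMap.BilinForm K V} {lam : K →ₗ[F] F} {M : Subgroup (V ≃ₗ[F] V)}

theorem p3b_two_eq_zero (hF : Nat.card F = 2) : (2 : F) = 0 := by
  have : Finite F := Nat.finite_of_card_ne_zero (by omega)
  have := Fintype.ofFinite F
  have h := Nat.cast_card_eq_zero F
  rw [Nat.card_eq_fintype_card] at hF
  rw [hF] at h
  exact_mod_cast h

theorem p3b_card_K [FiniteDimensional F K] (hF : Nat.card F = 2) (hK : finrank F K = 2) :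
    Nat.card K = 4 := by
  have : Finite F := Nat.finite_of_card_ne_zero (by omega)
  rw [Module.natCard_eq_pow_finrank (K := F) (V := K), hF, hK]
  norm_num

/-- a non-zero element of `K` avoiding two given values, when `|K| = 4` -/
theorem p3b_exists_ne (hK4 : Nat.card K = 4) (a b : K) : ∃ t : K, t ≠ 0 ∧ t ≠ a ∧ t ≠ b := by
  classical
  have : Finite K := Nat.finite_of_card_ne_zero (by omega)
  have := Fintype.ofFinite K
  rw [Nat.card_eq_fintype_card] at hK4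
  have hlt : ({0, a, b} : Finset K).card < Fintype.card K := by
    rw [hK4]
    calc ({0, a, b} : Finset K).card ≤ 3 := Finset.card_le_three
      _ < 4 := by norm_num
  obtain ⟨t, ht⟩ : ∃ t, t ∉ ({0, a, b} : Finset K) := by
    by_contra hcon
    simp only [not_exists, not_not] at hcon
    have : ({0, a, b} : Finset K) = Finset.univ := Finset.eq_univ_iff_forall.2 hcon
    rw [this, Finset.card_univ] at hlt
    exact lt_irrefl _ hlt
  simp only [Finset.mem_insert, Finset.mem_singleton, not_or] at ht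
  exact ⟨t, ht.1, ht.2.1, ht.2.2⟩

theorem p3b_ftv_sq (hF2 : (2 : F) = 0) (hB : ∀ x, B x x = 0) (c : V) :
    ftv B lam hB c 1 * ftv B lam hB c 1 = 1 := by
  ext u
  have h2 : lam (B u c) • c + lam (B u c) • c = 0 := by
    rw [← add_smul, ← two_mul, hF2, zero_mul, zero_smul]
  simp only [LinearEquiv.mul_apply, ftv_apply, LinearEquiv.coe_one, id_eq, one_mul, map_add,
    LinearMap.add_apply, B_smul_left_F, hB, smul_zero, add_zero, map_zero]
  rw [zero_smul, add_zero, add_assoc, h2, add_zero]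

theorem p3b_rel_refl (hF2 : (2 : F) = 0) (hB : ∀ x, B x x = 0) (x : V) :
    Rel B lam hB M x x := by
  unfold Cfsg.Agent.Lib.H9.ExtSp.Rel
  rw [p3b_ftv_sq hF2]
  exact M.one_mem

theorem p3b_rel_symm (hF2 : (2 : F) = 0) (hB : ∀ x, B x x = 0) {x y : V}
    (h : Rel B lam hB M x y) : Rel B lam hB M y x := by
  unfold Cfsg.Agent.Lib.H9.ExtSp.Rel at h ⊢
  have h1 : (ftv B lam hB x 1 * ftv B lam hB y 1)⁻¹ = ftv B lam hB y 1 * ftv B lam hB x 1 := by
    rw [inv_eq_iff_mul_eq_one, mul_assoc, ← mul_assoc (ftv B lam hB y 1), p3b_ftv_sq hF2, one_mul,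
      p3b_ftv_sq hF2]
  rw [← h1]
  exact M.inv_mem h

theorem p3b_rel_trans (hF2 : (2 : F) = 0) (hB : ∀ x, B x x = 0) {x y z : V}
    (h1 : Rel B lam hB M x y) (h2 : Rel B lam hB M y z) : Rel B lam hB M x z := by
  unfold Cfsg.Agent.Lib.H9.ExtSp.Rel at h1 h2 ⊢
  have h3 : ftv B lam hB x 1 * ftv B lam hB z 1 =
      (ftv B lam hB x 1 * ftv B lam hB y 1) * (ftv B lam hB y 1 * ftv B lam hB z 1) := by
    rw [mul_assoc, ← mul_assoc (ftv B lam hB y 1), p3b_ftv_sq hF2, one_mul]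
  rw [h3]
  exact M.mul_mem h1 h2

theorem p3b_conj (S : Setup B lam M) {g : V ≃ₗ[F] V} (hg : g ∈ M) (x : V) :
    g * ftv B lam S.alt x 1 = ftv B lam S.alt (g x) 1 * g := by
  ext u
  simp only [LinearEquiv.mul_apply, ftv_apply, one_mul, map_add, map_smul]
  rw [S.sp g hg]

theorem p3b_rel_map (S : Setup B lam M) {g : V ≃ₗ[F] V} (hg : g ∈ M) {x y : V}
    (h : Rel B lam S.alt M x y) : Rel B lam S.alt M (g x) (g y) := by
  unfold Cfsg.Agent.Lib.H9.ExtSp.Rel at h ⊢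
  have h1 : ftv B lam S.alt (g x) 1 * ftv B lam S.alt (g y) 1 =
      g * (ftv B lam S.alt x 1 * ftv B lam S.alt y 1) * g⁻¹ := by
    rw [← mul_assoc, p3b_conj S hg, mul_assoc (ftv B lam S.alt (g x) 1), p3b_conj S hg,
      mul_assoc, mul_assoc, mul_inv_cancel, mul_one]
  rw [h1]
  exact M.mul_mem (M.mul_mem hg h) (M.inv_mem hg)

theorem p3b_shift_ne (φ : V →ₗ[K] K) {x u : V} {t : K} (hx : φ x ≠ 0)
    (ht : t ≠ -φ x / φ u) : φ (x + t • u) ≠ 0 := by
  intro h0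
  rw [map_add, map_smul, smul_eq_mul] at h0
  by_cases h3 : φ u = 0
  · rw [h3, mul_zero, add_zero] at h0
    exact hx h0
  · apply ht
    rw [eq_div_iff h3]
    linear_combination h0

theorem p3b_exists_apply_ne (φ : V →ₗ[K] K) (h : φ ≠ 0) : ∃ u, φ u ≠ 0 := by
  by_contra hcon
  simp only [not_exists, not_not] at hcon
  exact h (LinearMap.ext hcon)

theorem p3b_avoid2 (hK4 : Nat.card K = 4) (φ₁ φ₂ : V →ₗ[K] K) (h₁ : φ₁ ≠ 0) (h₂ : φ₂ ≠ 0) :
    ∃ x, φ₁ x ≠ 0 ∧ φ₂ x ≠ 0 := by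
  obtain ⟨u₁, hu₁⟩ := p3b_exists_apply_ne φ₁ h₁
  obtain ⟨u₂, hu₂⟩ := p3b_exists_apply_ne φ₂ h₂
  by_cases h : φ₂ u₁ = 0
  · obtain ⟨t, ht0, ht1, -⟩ := p3b_exists_ne hK4 (-φ₁ u₁ / φ₁ u₂) 0
    refine ⟨u₁ + t • u₂, p3b_shift_ne φ₁ hu₁ ht1, ?_⟩
    rw [map_add, map_smul, smul_eq_mul, h, zero_add]
    exact mul_ne_zero ht0 hu₂
  · exact ⟨u₁, hu₁, h⟩

theorem p3b_avoid3 (hK4 : Nat.card K = 4) (φ₁ φ₂ φ₃ : V →ₗ[K] K) (h₁ : φ₁ ≠ 0) (h₂ : φ₂ ≠ 0)
    (h₃ : φ₃ ≠ 0) : ∃ x, φ₁ x ≠ 0 ∧ φ₂ x ≠ 0 ∧ φ₃ x ≠ 0 := by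
  obtain ⟨x, hx₁, hx₂⟩ := p3b_avoid2 hK4 φ₁ φ₂ h₁ h₂
  obtain ⟨u₃, hu₃⟩ := p3b_exists_apply_ne φ₃ h₃
  by_cases h : φ₃ x = 0
  · obtain ⟨t, ht0, ht1, ht2⟩ := p3b_exists_ne hK4 (-φ₁ x / φ₁ u₃) (-φ₂ x / φ₂ u₃)
    refine ⟨x + t • u₃, p3b_shift_ne φ₁ hx₁ ht1, p3b_shift_ne φ₂ hx₂ ht2, ?_⟩
    rw [map_add, map_smul, smul_eq_mul, h, zero_add]
    exact mul_ne_zero ht0 hu₃
  · exact ⟨x, hx₁, hx₂, h⟩

theorem p3b_B_ne_zero {c y : V} (h : B c y ≠ 0) : B c ≠ 0 := by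
  intro h0
  apply h
  rw [h0, LinearMap.zero_apply]

/-- Step 1 of the non-perpendicular lemma -/
theorem p3b_step1 (S : Setup B lam M) (hF2 : (2 : F) = 0)
    (hsame : ∀ (v : V) (k₁ k₂ : K), k₁ ≠ 0 → k₂ ≠ 0 → Rel B lam S.alt M (k₁ • v) (k₂ • v))
    {c y x : V} (hrel : Rel B lam S.alt M c y) (hcy : B c y ≠ 0) (hcx : B c x ≠ 0)
    (hyx : B y x ≠ 0) : Rel B lam S.alt M c x := by
  have hk : B c y / B c x ≠ 0 := div_ne_zero hcy hcx
  have hcz : B c ((B c y / B c x) • x - y) = 0 := by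
    rw [map_sub, map_smul, smul_eq_mul, div_mul_cancel₀ _ hcx, sub_self]
  have hyz : B y ((B c y / B c x) • x - y) ≠ 0 := by
    rw [map_sub, map_smul, smul_eq_mul, S.alt, sub_zero]
    exact mul_ne_zero hk hyx
  have hg := ktv_mem (F := F) S ((B c y / B c x) • x - y) (1 / B y ((B c y / B c x) • x - y))
  have h1 := p3b_rel_map S hg hrel
  have e1 : (ktv (F := F) B S.alt ((B c y / B c x) • x - y)
      (1 / B y ((B c y / B c x) • x - y))) c = c := by
    rw [ktv_apply, hcz, mul_zero, zero_smul, add_zero]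
  have e2 : (ktv (F := F) B S.alt ((B c y / B c x) • x - y)
      (1 / B y ((B c y / B c x) • x - y))) y = (B c y / B c x) • x := by
    rw [ktv_apply, one_div, inv_mul_cancel₀ hyz, one_smul]
    abel
  rw [e1, e2] at h1
  have h2 := hsame x (B c y / B c x) 1 hk one_ne_zero
  rw [one_smul] at h2
  exact p3b_rel_trans hF2 S.alt h1 h2

/-- Step 2 of the non-perpendicular lemma -/
theorem p3b_step2 (S : Setup B lam M) (hF2 : (2 : F) = 0) (hK4 : Nat.card K = 4)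
    (hsame : ∀ (v : V) (k₁ k₂ : K), k₁ ≠ 0 → k₂ ≠ 0 → Rel B lam S.alt M (k₁ • v) (k₂ • v))
    {c y x : V} (hrel : Rel B lam S.alt M c y) (hcy : B c y ≠ 0) (hcx : B c x ≠ 0) :
    Rel B lam S.alt M c x := by
  have hyc : B y c ≠ 0 := by rw [B_skew B S.alt]; exact neg_ne_zero.2 hcy
  have hxc : B x c ≠ 0 := by rw [B_skew B S.alt]; exact neg_ne_zero.2 hcx
  obtain ⟨x₁, h1, h2, h3⟩ := p3b_avoid3 hK4 (B c) (B y) (B x) (p3b_B_ne_zero hcy)
    (p3b_B_ne_zero hyc) (p3b_B_ne_zero hxc)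
  have hr1 := p3b_step1 S hF2 hsame hrel hcy h1 h2
  have h3' : B x₁ x ≠ 0 := by rw [B_skew B S.alt]; exact neg_ne_zero.2 h3
  exact p3b_step1 S hF2 hsame hr1 h1 hcx h3'

/-- the non-perpendicular lemma -/
theorem p3b_nonperp (S : Setup B lam M) (hF2 : (2 : F) = 0) (hK4 : Nat.card K = 4)
    (hsame : ∀ (v : V) (k₁ k₂ : K), k₁ ≠ 0 → k₂ ≠ 0 → Rel B lam S.alt M (k₁ • v) (k₂ • v))
    {c y : V} (hrel : Rel B lam S.alt M c y) (hcy : B c y ≠ 0) (x : V) (hx0 : x ≠ 0) :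
    Rel B lam S.alt M c x := by
  by_cases hcx : B c x = 0
  · have hBx : B x ≠ 0 := by
      intro h0
      apply hx0
      apply S.nondeg x
      intro z
      rw [h0, LinearMap.zero_apply]
    obtain ⟨x₂, h1, h2⟩ := p3b_avoid2 hK4 (B c) (B x) (p3b_B_ne_zero hcy) hBx
    have hr1 := p3b_step2 S hF2 hK4 hsame hrel hcy h1
    have h1' : B x₂ c ≠ 0 := by rw [B_skew B S.alt]; exact neg_ne_zero.2 h1
    have h2' : B x₂ x ≠ 0 := by rw [B_skew B S.alt]; exact neg_ne_zero.2 h2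
    have hr2 := p3b_step2 S hF2 hK4 hsame (p3b_rel_symm hF2 S.alt hr1) h1' h2'
    exact p3b_rel_trans hF2 S.alt hr1 hr2
  · exact p3b_step2 S hF2 hK4 hsame hrel hcy hcx

/-- **P3b** (`q = r = 2`: spreading, all non-zero vectors are related). -/
theorem rel_all [FiniteDimensional F K] [FiniteDimensional K V] (S : Setup B lam M)
    (hF : Nat.card F = 2) (hK : finrank F K = 2) (hd : 4 ≤ finrank K V)
    (hsame : ∀ (v : V) (k₁ k₂ : K), k₁ ≠ 0 → k₂ ≠ 0 → Rel B lam S.alt M (k₁ • v) (k₂ • v))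
    (hx : ∃ g ∈ M, ∃ (v : V) (k : K), g (k • v) ∉ Submodule.span K {g v})
    (x y : V) (hx0 : x ≠ 0) (hy0 : y ≠ 0) : Rel B lam S.alt M x y := by
  have hF2 := p3b_two_eq_zero hF
  have hK4 := p3b_card_K hF hK
  obtain ⟨g, hg, v, k, hgk⟩ := hx
  have hv : v ≠ 0 := by
    intro h0
    apply hgk
    rw [h0, smul_zero, map_zero]
    exact Submodule.zero_mem _
  have hk : k ≠ 0 := by
    intro h0
    apply hgk
    rw [h0, zero_smul, map_zero]
    exact Submodule.zero_mem _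
  have hc0 : g v ≠ 0 := fun h => hv (g.map_eq_zero_iff.mp h)
  have hrel : Rel B lam S.alt M (g v) (g (k • v)) := by
    have h1 := hsame v 1 k one_ne_zero hk
    rw [one_smul] at h1
    exact p3b_rel_map S hg h1
  -- a base point related to everything
  have hbase : ∃ c₀ : V, ∀ x : V, x ≠ 0 → Rel B lam S.alt M c₀ x := by
    by_cases hcy : B (g v) (g (k • v)) = 0
    · obtain ⟨z, hz1, hz2⟩ : ∃ z, B (g v) z = 0 ∧ B (g (k • v)) z ≠ 0 := by
        by_contra hcon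
        apply hgk
        apply Cfsg.Agent.Lib.H5.ExtSp.p1a_mem_span S hc0
        intro z hz
        by_contra hne
        exact hcon ⟨z, hz, hne⟩
      have hg2 := ktv_mem (F := F) S z (1 / B (g (k • v)) z)
      have h1 := p3b_rel_map S hg2 hrel
      have e1 : (ktv (F := F) B S.alt z (1 / B (g (k • v)) z)) (g v) = g v := by
        rw [ktv_apply, hz1, mul_zero, zero_smul, add_zero]
      have e2 : (ktv (F := F) B S.alt z (1 / B (g (k • v)) z)) (g (k • v)) = g (k • v) + z := by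
        rw [ktv_apply, one_div, inv_mul_cancel₀ hz2, one_smul]
      rw [e1, e2] at h1
      have h2 := p3b_rel_trans hF2 S.alt (p3b_rel_symm hF2 S.alt hrel) h1
      have h3 : B (g (k • v)) (g (k • v) + z) ≠ 0 := by
        rw [map_add, S.alt, zero_add]
        exact hz2
      exact ⟨g (k • v), p3b_nonperp S hF2 hK4 hsame h2 h3⟩
    · exact ⟨g v, p3b_nonperp S hF2 hK4 hsame hrel hcy⟩
  obtain ⟨c₀, hc₀⟩ := hbase
  exact p3b_rel_trans hF2 S.alt (p3b_rel_symm hF2 S.alt (hc₀ x hx0)) (hc₀ y hy0)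

end Cfsg.Agent.Lib.H3.ExtSp
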