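import Cfsg.Agent.Lib.H14.FCDefs

/-!
# S4427 piece SPEC (helper3): the spectral idempotent for the unit roots

`exists_spectral_idem`: if `E` (in a subring `S` stable under the local ring at `M`, augmentation
`1`) is annihilated by a monic polynomial all of whose roots are `M`-local, then some polynomial
expression `e = E * y = y * E` in `E` is an idempotent of `S` of augmentation `1`.
-/

set_option autoImplicit false

namespace Cfsg.Agent.Lib.H3.FC

open Cfsg MonoidAlgebra Cfsg.Agent.Lib.H23 Cfsg.Agent.Lib.H24 Cfsg.Agent.Lib.L0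
open Cfsg.Agent.Lib.H14.FC
open scoped ComplexConjugate

open Polynomial in
/-- A multiset product is coprime to `x` if every factor is. -/
theorem isCoprime_multiset_prod_left {R : Type*} [CommRing R] (s : Multiset R) (x : R)
    (h : ∀ f ∈ s, IsCoprime f x) : IsCoprime s.prod x := by
  induction s using Multiset.induction_on with
  | empty => simpa using isCoprime_one_left
  | cons a s ih =>
    rw [Multiset.prod_cons]
    exact IsCoprime.mul_left (h a (Multiset.mem_cons_self a s))
      (ih fun f hf => h f (Multiset.mem_cons_of_mem hf))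

open Polynomial in
/-- Polynomial expressions in `E` with coefficients in the local ring stay in `S`. -/
theorem aeval_map_mem {M : Ideal AlgInt} [M.IsPrime]
    {A : Type*} [Ring A] [Algebra ℂ A] (S : Subring A)
    (hS : ∀ c : ℂ, MemLocalRing M c → ∀ x ∈ S, c • x ∈ S)
    (E : A) (hE : E ∈ S) (q : (localRing M)[X]) :
    Polynomial.aeval E (q.map (localRing M).subtype) ∈ S := by
  rw [Polynomial.aeval_eq_sum_range]
  refine S.sum_mem fun i _ => ?_
  refine hS _ ?_ _ (S.pow_mem hE i)
  rw [Polynomial.coeff_map]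
  exact (q.coeff i).2

open Polynomial in
theorem exists_spectral_idem {p : ℕ} {M : Ideal AlgInt} (hM : IsPModular p M)
    {A : Type*} [Ring A] [Algebra ℂ A] (aug : A →ₐ[ℂ] ℂ) (S : Subring A)
    (hS : ∀ c : ℂ, MemLocalRing M c → ∀ x ∈ S, c • x ∈ S)
    (E : A) (hE : E ∈ S) (haug : aug E = 1)
    (P : Polynomial ℂ) (hPm : P.Monic) (hroots : ∀ z : ℂ, P.IsRoot z → MemLocalRing M z)
    (hPE : Polynomial.aeval E P = 0) :
    ∃ e y : A, e * e = e ∧ e ∈ S ∧ aug e = 1 ∧ e = E * y ∧ E * y = y * E := by
  classical
  have hprime : M.IsPrime := isPrime_of_isPModular hM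
  set O := localRing M with hO
  set ι : O →+* ℂ := O.subtype with hι
  have hP0 : P ≠ 0 := hPm.ne_zero
  -- the roots, lifted to the local ring
  have hmem : ∀ r ∈ P.roots, r ∈ O := fun r hr =>
    hroots r ((Polynomial.mem_roots hP0).1 hr)
  obtain ⟨R', hR'⟩ : ∃ R' : Multiset O, Multiset.map (fun r : O => ι r) R' = P.roots := by
    refine ⟨P.roots.pmap (fun r hr => (⟨r, hr⟩ : O)) hmem, ?_⟩
    rw [Multiset.map_pmap]
    simp only [hι, Subring.coe_subtype]
    rw [Multiset.pmap_eq_map, Multiset.map_id']
  -- the split into non-units and units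
  set Rn : Multiset O := R'.filter (fun r : O => MemLocalIdeal M (ι r)) with hRn
  set Ru : Multiset O := R'.filter (fun r : O => ¬ MemLocalIdeal M (ι r)) with hRu
  have hsplitR : Rn + Ru = R' := Multiset.filter_add_not _ _
  set gO : O[X] := (Rn.map (fun r => X - C r)).prod with hgO
  set hO' : O[X] := (Ru.map (fun r => X - C r)).prod with hhO
  -- pairwise coprimality
  have hpair : ∀ a ∈ Rn, ∀ b ∈ Ru, IsCoprime (X - C a : O[X]) (X - C b) := by
    intro a ha b hb
    have ha' : MemLocalIdeal M ((a : O) : ℂ) := (Multiset.mem_filter.1 ha).2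
    have hb' : ¬ MemLocalIdeal M ((b : O) : ℂ) := (Multiset.mem_filter.1 hb).2
    have hba : ¬ MemLocalIdeal M ((b : ℂ) - a) := by
      intro h
      apply hb'
      have := memLocalIdeal_add h ha'
      simpa using this
    have hbaR : MemLocalRing M ((b : ℂ) - a) := memLocalRing_sub b.2 a.2
    have hne : ((b : ℂ) - a) ≠ 0 := ne_zero_of_not_memLocalIdeal hba
    let w : O := ⟨((b : ℂ) - a)⁻¹, memLocalRing_inv hbaR hba⟩
    have hw : w * (b - a) = 1 := by
      apply Subtype.ext
      show ((b : ℂ) - a)⁻¹ * ((b : ℂ) - a) = 1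
      exact inv_mul_cancel₀ hne
    refine ⟨C w, - C w, ?_⟩
    have : (C w : O[X]) * (X - C a) + - C w * (X - C b) = C (w * (b - a)) := by
      rw [C_mul, C_sub]; ring
    rw [this, hw, C_1]
  have hcop : IsCoprime gO hO' := by
    refine isCoprime_multiset_prod_left _ _ ?_
    intro f hf
    obtain ⟨a, ha, rfl⟩ := Multiset.mem_map.1 hf
    refine IsCoprime.symm (isCoprime_multiset_prod_left _ _ ?_)
    intro f' hf'
    obtain ⟨b, hb, rfl⟩ := Multiset.mem_map.1 hf'
    exact (hpair a ha b hb).symm
  obtain ⟨u, v, huv⟩ := hcop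
  -- map everything to `ℂ[X]`
  set g : ℂ[X] := gO.map ι with hg
  set h : ℂ[X] := hO'.map ι with hh
  set u' : ℂ[X] := u.map ι with hu'
  set v' : ℂ[X] := v.map ι with hv'
  have huv' : u' * g + v' * h = 1 := by
    have := congrArg (Polynomial.map ι) huv
    simpa [Polynomial.map_add, Polynomial.map_mul] using this
  have hmapprod : ∀ s : Multiset O, ((s.map (fun r => (X - C r : O[X]))).prod).map ι
      = ((Multiset.map (fun r : O => ι r) s).map (fun r => (X - C r : ℂ[X]))).prod := by
    intro s
    rw [Polynomial.map_multiset_prod, Multiset.map_map, Multiset.map_map]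
    congr 1
    refine Multiset.map_congr rfl fun r _ => ?_
    simp
  have hgh : g * h = P := by
    rw [hg, hh, hgO, hhO, hmapprod, hmapprod, ← Multiset.prod_add, ← Multiset.map_add,
      ← Multiset.map_add, hsplitR, hR']
    exact ((IsAlgClosed.splits P).eq_prod_roots_of_monic hPm).symm
  -- `1` is a root of `h`
  have haugP : ∀ q : ℂ[X], aug (Polynomial.aeval E q) = q.eval 1 := by
    intro q
    rw [← Polynomial.aeval_algHom_apply, haug, Polynomial.coe_aeval_eq_eval]
  have hP1 : P.eval 1 = 0 := by
    rw [← haugP, hPE, map_zero]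
  have hh1 : h.eval 1 = 0 := by
    have h1root : (1 : ℂ) ∈ P.roots := (Polynomial.mem_roots hP0).2 hP1
    rw [← hR'] at h1root
    obtain ⟨r, hr, hr1⟩ := Multiset.mem_map.1 h1root
    have hru : r ∈ Ru := by
      refine Multiset.mem_filter.2 ⟨hr, ?_⟩
      rw [hr1]
      exact not_memLocalIdeal_one
    have hdvd : (X - C r : O[X]) ∣ hO' :=
      Multiset.dvd_prod (Multiset.mem_map.2 ⟨r, hru, rfl⟩)
    have hdvd' : (X - C (1 : ℂ) : ℂ[X]) ∣ h := by
      have := Polynomial.map_dvd ι hdvd
      rw [Polynomial.map_sub, Polynomial.map_X, Polynomial.map_C, hr1] at this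
      exact this
    obtain ⟨c, hc⟩ := hdvd'
    rw [hc]
    simp
  -- the constant coefficient of `h` is nonzero
  have hc0 : h.coeff 0 ≠ 0 := by
    intro h0
    have hroot0 : h.IsRoot 0 := by
      rw [Polynomial.IsRoot, ← Polynomial.coeff_zero_eq_eval_zero]
      exact h0
    have hhne : h ≠ 0 := by
      intro hz
      rw [hz, mul_zero] at hgh
      exact hP0 hgh.symm
    have h0mem : (0 : ℂ) ∈ h.roots := (Polynomial.mem_roots hhne).2 hroot0
    rw [hh, hhO, hmapprod, Polynomial.roots_multiset_prod_X_sub_C] at h0mem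
    obtain ⟨r, hr, hr0⟩ := Multiset.mem_map.1 h0mem
    have := (Multiset.mem_filter.1 hr).2
    rw [hr0] at this
    exact this (memLocalIdeal_zero hprime.ne_top)
  -- the idempotent
  set c0 : ℂ := h.coeff 0 with hc0def
  set d : ℂ[X] := h.divX with hd
  set k : ℂ[X] := C (-c0⁻¹) with hk
  have hhd : h = d * X + C c0 := (Polynomial.divX_mul_X_add h).symm
  have hkc : k * C c0 = -1 := by
    rw [hk, ← C_mul, neg_mul, inv_mul_cancel₀ hc0, C_neg, C_1]
  refine ⟨Polynomial.aeval E (u' * g), Polynomial.aeval E (k * d * u' * g), ?_, ?_, ?_, ?_, ?_⟩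
  · -- idempotent
    have hpoly : (u' * g) * (u' * g) = u' * g - u' * v' * (g * h) := by
      linear_combination (u' * g) * huv'
    rw [← map_mul, hpoly, hgh, map_sub, map_mul (Polynomial.aeval E) (u' * v') P, hPE, mul_zero,
      sub_zero]
  · -- membership in `S`
    have : u' * g = (u * gO).map ι := by
      rw [Polynomial.map_mul]
    rw [this]
    exact aeval_map_mem S hS E hE _
  · -- augmentation
    rw [haugP]
    have : (u' * g).eval 1 = 1 - v'.eval 1 * h.eval 1 := by
      have := congrArg (Polynomial.eval 1) huv'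
      simp only [Polynomial.eval_add, Polynomial.eval_mul, Polynomial.eval_one] at this
      rw [Polynomial.eval_mul]
      linear_combination this
    rw [this, hh1, mul_zero, sub_zero]
  · -- `e = E * y`
    have hpoly : X * (k * d * u' * g) = u' * g + k * u' * (g * h) := by
      linear_combination (-(k * u' * g)) * hhd + (-(u' * g)) * hkc
    have hmulX : ∀ q : ℂ[X], E * Polynomial.aeval E q = Polynomial.aeval E (X * q) := by
      intro q
      rw [map_mul, Polynomial.aeval_X]
    rw [hmulX, hpoly, hgh, map_add, map_mul (Polynomial.aeval E) (k * u') P, hPE,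
      mul_zero, add_zero]
  · -- commutation
    have hmulX : ∀ q : ℂ[X], E * Polynomial.aeval E q = Polynomial.aeval E (X * q) := by
      intro q
      rw [map_mul, Polynomial.aeval_X]
    have hXmul : ∀ q : ℂ[X], Polynomial.aeval E q * E = Polynomial.aeval E (q * X) := by
      intro q
      rw [map_mul, Polynomial.aeval_X]
    rw [hmulX, hXmul, mul_comm]

end Cfsg.Agent.Lib.H3.FC
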