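import Cfsg.Agent.Lib.H1.FG19.Defs
import Cfsg.Agent.Lib.H15.FG19BAS3
import Cfsg.Agent.Lib.H7.FG19Q1
import Cfsg.Agent.Lib.H15.FG19Q2

/-! S4404 piece BLOCK7 (helper3): an abelian normal subgroup of a 7-group stabilises the block `[A, B]`
of an `F_8`-element `B`. -/

set_option autoImplicit false

namespace Cfsg.Agent.Lib.H3.FG19

open Cfsg.Agent.Lib.H1.FG19

variable {A : Type*} [CommGroup A]

theorem cm_map_conj (X Y : MulAut A) : (cm X).map Y.toMonoidHom = cm (Y * X * Y⁻¹) := by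
  ext a
  simp only [Subgroup.mem_map, mem_cm]
  constructor
  · rintro ⟨c, ⟨m, rfl⟩, rfl⟩
    refine ⟨Y m, ?_⟩
    simp [MulAut.mul_apply]
  · rintro ⟨m, rfl⟩
    refine ⟨X (Y⁻¹ m) * (Y⁻¹ m)⁻¹, ⟨Y⁻¹ m, rfl⟩, ?_⟩
    simp [MulAut.mul_apply]

theorem map_pow_eq_self (S : Subgroup A) (Y : MulAut A) (h : S.map Y.toMonoidHom = S) (j : ℕ) :
    S.map (Y ^ j).toMonoidHom = S := by
  induction j with
  | zero =>
    have : ((Y ^ 0 : MulAut A)).toMonoidHom = MonoidHom.id A := by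
      ext a; simp
    rw [this, Subgroup.map_id]
  | succ j ih =>
    have : (Y ^ (j + 1)).toMonoidHom = (Y ^ j).toMonoidHom.comp Y.toMonoidHom := by
      ext a; simp [pow_succ, MulAut.mul_apply]
    rw [this, ← Subgroup.map_map, h, ih]

theorem card_cm_conj (X Y : MulAut A) : Nat.card (cm (Y * X * Y⁻¹)) = Nat.card (cm X) := by
  rw [← cm_map_conj]
  exact Nat.card_congr ((cm X).equivMapOfInjective Y.toMonoidHom Y.injective).symm.toEquiv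

theorem block7 [Finite A] (h2 : ∀ a : A, a * a = 1) (P F : Subgroup (MulAut A)) (hP : IsPGroup 7 P)
    (hFP : F ≤ P) (hFn : ∀ z ∈ P, ∀ f ∈ F, z * f * z⁻¹ ∈ F) (hFc : ∀ f ∈ F, ∀ g ∈ F, f * g = g * f)
    (B : MulAut A) (hBP : B ∈ P) (hB : B ^ 7 = 1) (hcB : Nat.card (cm B) = 8) (Φ : MulAut A)
    (hΦ : Φ ∈ F) : (cm B).map Φ.toMonoidHom = cm B := by
  have hΦP : Φ ∈ P := hFP hΦ
  have conjP : ∀ Y ∈ P, Y * B * Y⁻¹ ∈ P := fun Y hY => P.mul_mem (P.mul_mem hY hBP) (P.inv_mem hY)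
  have conj7 : ∀ Y : MulAut A, (Y * B * Y⁻¹) ^ 7 = 1 := by
    intro Y
    rw [conj_pow, hB, mul_one, mul_inv_cancel]
  have conjcard : ∀ Y : MulAut A, Nat.card (cm (Y * B * Y⁻¹)) = 8 := fun Y => by
    rw [card_cm_conj, hcB]
  have comm : ∀ B₁ ∈ P, ∀ B₂ ∈ P, Nat.card (cm B₁) = 8 → Nat.card (cm B₂) = 8 →
      B₁ * B₂ = B₂ * B₁ := by
    intro B₁ h1 B₂ h2' c1 c2
    refine Cfsg.Agent.Lib.H7.FG19.commute_of_seven h2 B₁ B₂ ?_ c1 c2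
    have hle : Subgroup.closure {B₁, B₂} ≤ P := by
      rw [Subgroup.closure_le]
      intro z hz
      rcases hz with rfl | rfl <;> assumption
    exact hP.to_le hle
  by_contra hne
  -- the two conjugates
  have hne1 : cm B ≠ cm (Φ * B * Φ⁻¹) := by
    intro h
    exact hne (by rw [cm_map_conj, ← h])
  have hne2 : cm B ≠ cm (Φ ^ 2 * B * (Φ ^ 2)⁻¹) := by
    intro h
    have hst : (cm B).map (Φ ^ 2).toMonoidHom = cm B := by rw [cm_map_conj, ← h]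
    obtain ⟨k, hk⟩ := hP ⟨Φ, hΦP⟩
    have hk' : Φ ^ 7 ^ k = 1 := by
      have := congrArg Subtype.val hk
      simpa using this
    have hodd : Odd (7 ^ k) := Odd.pow (by decide)
    obtain ⟨m, hm⟩ := hodd
    have hpow : (Φ ^ 2) ^ (m + 1) = Φ := by
      rw [← pow_mul, show 2 * (m + 1) = 7 ^ k + 1 by omega, pow_succ, hk', one_mul]
    apply hne
    have := map_pow_eq_self (cm B) (Φ ^ 2) hst (m + 1)
    rwa [hpow] at this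
  have hQ1 := Cfsg.Agent.Lib.H15.FG19.cm_eq_or_le_fx h2 B (Φ * B * Φ⁻¹) hB (conj7 Φ)
    (comm B hBP _ (conjP Φ hΦP) hcB (conjcard Φ)) hcB (conjcard Φ)
  have hQ2 := Cfsg.Agent.Lib.H15.FG19.cm_eq_or_le_fx h2 B (Φ ^ 2 * B * (Φ ^ 2)⁻¹) hB (conj7 (Φ ^ 2))
    (comm B hBP _ (conjP (Φ ^ 2) (P.pow_mem hΦP 2)) hcB (conjcard (Φ ^ 2))) hcB (conjcard (Φ ^ 2))
  have hle1 : cm B ≤ fx (Φ * B * Φ⁻¹) := by
    rcases hQ1 with h | h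
    · exact absurd h hne1
    · exact h.1
  have hle2 : cm B ≤ fx (Φ ^ 2 * B * (Φ ^ 2)⁻¹) := by
    rcases hQ2 with h | h
    · exact absurd h hne2
    · exact h.1
  -- the relation `B₁⁻¹ B₂ = B⁻¹ B₁`
  have hG : B⁻¹ * (Φ * B * Φ⁻¹) ∈ F := by
    have h1 : B⁻¹ * Φ * B⁻¹⁻¹ ∈ F := hFn B⁻¹ (P.inv_mem hBP) Φ hΦ
    have h3 : B⁻¹ * (Φ * B * Φ⁻¹) = (B⁻¹ * Φ * B⁻¹⁻¹) * Φ⁻¹ := by group
    rw [h3]
    exact F.mul_mem h1 (F.inv_mem hΦ)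
  have hcomm : Φ * (B⁻¹ * (Φ * B * Φ⁻¹)) = (B⁻¹ * (Φ * B * Φ⁻¹)) * Φ := hFc Φ hΦ _ hG
  have heq : (Φ * B * Φ⁻¹)⁻¹ * (Φ ^ 2 * B * (Φ ^ 2)⁻¹) = B⁻¹ * (Φ * B * Φ⁻¹) := by
    have e1 : (Φ * B * Φ⁻¹)⁻¹ * (Φ ^ 2 * B * (Φ ^ 2)⁻¹) = Φ * (B⁻¹ * (Φ * B * Φ⁻¹)) * Φ⁻¹ := by
      group
    rw [e1, hcomm, mul_inv_cancel_right]
  have key : ∀ w ∈ cm B, w ∈ fx B := by
    intro w hw
    have e1 : (Φ * B * Φ⁻¹) w = w := mem_fx.1 (hle1 hw)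
    have e2 : (Φ ^ 2 * B * (Φ ^ 2)⁻¹) w = w := mem_fx.1 (hle2 hw)
    have e3 : (Φ * B * Φ⁻¹)⁻¹ ((Φ ^ 2 * B * (Φ ^ 2)⁻¹) w) = B⁻¹ ((Φ * B * Φ⁻¹) w) :=
      congrArg (fun Z : MulAut A => Z w) heq
    rw [e1, e2] at e3
    have e4 : (Φ * B * Φ⁻¹)⁻¹ w = w := by
      conv_lhs => rw [← e1]
      exact MulAut.inv_apply_self _ _ _
    rw [e4] at e3
    rw [mem_fx]
    conv_lhs => rw [e3]
    exact MulAut.apply_inv_self _ _ _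
  have hbot : cm B = ⊥ := by
    have h1 : cm B ≤ cm B ⊓ fx B := fun w hw => ⟨hw, key w hw⟩
    rw [Cfsg.Agent.Lib.H15.FG19.cm_inf_fx h2 B (n := 7) (by decide) hB] at h1
    exact le_bot_iff.1 h1
  rw [hbot] at hcB
  simp at hcB

end Cfsg.Agent.Lib.H3.FG19
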