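import Cfsg.Agent.Lib.H3.FG19BLOCK7
import Cfsg.Agent.Lib.H10.FG19EA
import Cfsg.Agent.Lib.H24.FG19SC2

/-! S4404 piece CASEB7 (helper3). -/

set_option autoImplicit false

namespace Cfsg.Agent.Lib.H3.FG19

open Cfsg Cfsg.Agent.Lib.H1.FG19
open scoped IsMulCommutative Pointwise

variable {S : Type*} [Group S]
variable (M : Subgroup S) [M.Normal]

theorem caseB7 [Finite S] [IsMulCommutative ↥M] (h2 : ∀ m ∈ M, m * m = 1) (H : Subgroup S) (b : S)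
    (hbH : b ∈ H) (hb : ∃ k : ℕ, b ^ 7 ^ k = 1) (hb7 : (MulAut.conjNormal b : MulAut ↥M) ^ 7 = 1)
    (hcb : Nat.card (cm (MulAut.conjNormal b : MulAut ↥M)) = 8) (V : Subgroup S)
    (hV : V ≤ (cm (MulAut.conjNormal b : MulAut ↥M)).map M.subtype) (E : Subgroup S) (hEH : E ≤ H)
    (hE : IsElementaryAbelian 7 E) (hEc : Nat.card E = 7 ^ 3) :
    ∃ F : Subgroup S, IsElementaryAbelian 7 F ∧ Nat.card F = 7 ^ 3 ∧
      7 ^ 2 ≤ Nat.card ↥(F ⊓ Subgroup.centralizer (V : Set S)) := by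
  haveI : Fact (Nat.Prime 7) := ⟨by norm_num⟩
  -- a Sylow 7-subgroup containing `b`
  have hzb : IsPGroup 7 (Subgroup.zpowers b) := by
    obtain ⟨k, hk⟩ := hb
    rintro ⟨g, hg⟩
    obtain ⟨n, rfl⟩ := Subgroup.mem_zpowers_iff.1 hg
    refine ⟨k, Subtype.ext ?_⟩
    show (b ^ n) ^ 7 ^ k = 1
    rw [← zpow_natCast, ← zpow_mul, mul_comm, zpow_mul, zpow_natCast, hk, one_zpow]
  obtain ⟨P, hbP⟩ := hzb.exists_le_sylow
  have hbP' : b ∈ (P : Subgroup S) := hbP (Subgroup.mem_zpowers b)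
  -- a conjugate of `E` inside `P`
  have hE7 : IsPGroup 7 E := by
    rintro ⟨g, hg⟩
    exact ⟨1, Subtype.ext (by simpa using hE.2 g hg)⟩
  obtain ⟨Q, hEQ⟩ := hE7.exists_le_sylow
  obtain ⟨g, hg⟩ := MulAction.exists_smul_eq S Q P
  have hE'P : E.map (MulAut.conj g).toMonoidHom ≤ (P : Subgroup S) := by
    rintro _ ⟨e, he, rfl⟩
    have h1 : MulAut.conj g • e ∈ MulAut.conj g • (Q : Subgroup S) :=
      Subgroup.smul_mem_pointwise_smul _ _ _ (hEQ he)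
    rw [← Sylow.pointwise_smul_def, ← Sylow.smul_def, hg] at h1
    exact h1
  have hE' : IsElementaryAbelian 7 (E.map (MulAut.conj g).toMonoidHom) := by
    refine ⟨⟨⟨?_⟩⟩, ?_⟩
    · rintro ⟨_, ⟨e1, he1, rfl⟩⟩ ⟨_, ⟨e2, he2, rfl⟩⟩
      have hc : (⟨e1, he1⟩ : E) * ⟨e2, he2⟩ = ⟨e2, he2⟩ * ⟨e1, he1⟩ := hE.1.is_comm.comm _ _
      have hc' : e1 * e2 = e2 * e1 := congrArg Subtype.val hc
      apply Subtype.ext
      show (MulAut.conj g).toMonoidHom e1 * (MulAut.conj g).toMonoidHom e2 =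
        (MulAut.conj g).toMonoidHom e2 * (MulAut.conj g).toMonoidHom e1
      rw [← map_mul, ← map_mul, hc']
    · rintro _ ⟨e, he, rfl⟩
      rw [← map_pow, hE.2 e he, map_one]
  have hE'c : Nat.card (E.map (MulAut.conj g).toMonoidHom) = 7 ^ 3 := by
    rw [Subgroup.card_map_of_injective (MulAut.conj g).injective, hEc]
  obtain ⟨F, hFP, hFn, hFe, hFc⟩ := Cfsg.Agent.Lib.H10.FG19.exists_normal_ea (p := 7) (by norm_num)
    (P : Subgroup S) P.isPGroup' _ hE'P hE' hE'c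
  refine ⟨F, hFe, hFc, ?_⟩
  -- the images in `MulAut ↥M`
  let ρ : S →* MulAut ↥M := MulAut.conjNormal
  have h2' : ∀ a : ↥M, a * a = 1 := fun a => Subtype.ext (h2 a a.2)
  have hblock : ∀ f ∈ F, (cm (ρ b)).map (ρ f).toMonoidHom = cm (ρ b) := by
    intro f hf
    refine block7 h2' ((P : Subgroup S).map ρ) (F.map ρ) (P.isPGroup'.map ρ) (Subgroup.map_mono hFP)
      ?_ ?_ (ρ b) (Subgroup.mem_map_of_mem ρ hbP') hb7 hcb (ρ f) (Subgroup.mem_map_of_mem ρ hf)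
    · rintro _ ⟨z, hz, rfl⟩ _ ⟨f', hf', rfl⟩
      rw [← map_inv, ← map_mul, ← map_mul]
      exact Subgroup.mem_map_of_mem ρ (hFn z hz f' hf')
    · rintro _ ⟨f1, hf1, rfl⟩ _ ⟨f2, hf2, rfl⟩
      have hc : (⟨f1, hf1⟩ : F) * ⟨f2, hf2⟩ = ⟨f2, hf2⟩ * ⟨f1, hf1⟩ := hFe.1.is_comm.comm _ _
      have hc' : f1 * f2 = f2 * f1 := congrArg Subtype.val hc
      rw [← map_mul, ← map_mul, hc']
  -- `F` normalises `W = [M, b]`
  have hWc : Nat.card ((cm (ρ b)).map M.subtype) = 8 := by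
    rw [Subgroup.card_map_of_injective M.subtype_injective, hcb]
  have hFW : ∀ f ∈ F, ∀ w ∈ (cm (ρ b)).map M.subtype, f * w * f⁻¹ ∈ (cm (ρ b)).map M.subtype := by
    rintro f hf _ ⟨c, hc, rfl⟩
    refine ⟨ρ f c, ?_, MulAut.conjNormal_apply f c⟩
    have : (ρ f).toMonoidHom c ∈ (cm (ρ b)).map (ρ f).toMonoidHom := Subgroup.mem_map_of_mem _ hc
    rw [hblock f hf] at this
    exact this
  have hW : ¬ 7 ^ 2 ∣ (Nat.card ((cm (ρ b)).map M.subtype) - 1).factorial := by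
    rw [hWc]
    decide
  have h49 := Cfsg.Agent.Lib.H24.FG19.sq_le_card_inf_centralizer (r := 7) (by norm_num) F
    ((cm (ρ b)).map M.subtype) hFc hFW hW
  refine h49.trans (Subgroup.card_le_of_le ?_)
  exact inf_le_inf_left F (Subgroup.centralizer_le hV)

end Cfsg.Agent.Lib.H3.FG19
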