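import Cfsg.Agent.Lib.H5.KleinPair
import Cfsg.Agent.Lib.H5.KleinSylow
import Cfsg.Agent.Lib.H3.CoverAvoid
import Cfsg.Prelude.Def_CaseTheorems
import Mathlib

/-!
helper3 library: four-connectivity of `2`-groups with a large normal elementary abelian subgroup.
-/

set_option autoImplicit false
open scoped Pointwise
open Cfsg

namespace Cfsg.Agent.Lib.H3

variable {P : Type*} [Group P]

/-- The commuting relation on Klein four-subgroups. -/
def FourRel (A B : Subgroup P) : Prop :=
  IsKleinFour A ∧ IsKleinFour B ∧ ∀ a ∈ A, ∀ b ∈ B, a * b = b * a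

theorem fourRel_symm : Symmetric (FourRel (P := P)) := by
  rintro A B ⟨hA, hB, h⟩
  exact ⟨hB, hA, fun b hb a ha => (h a ha b hb).symm⟩

theorem reflTransGen_fourRel_symm {A B : Subgroup P} (h : Relation.ReflTransGen FourRel A B) :
    Relation.ReflTransGen FourRel B A := by
  induction h with
  | refl => exact Relation.ReflTransGen.refl
  | tail _ hbc ih => exact Relation.ReflTransGen.head (fourRel_symm hbc) ih

/-- An element `a` with `a² = 1` of a finite `2`-group centralizes a four-subgroup of any normal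
elementary abelian subgroup of order at least `8`. -/
theorem exists_four_le_centralizer [Finite P] (hP : IsPGroup 2 P) (E : Subgroup P) [hEn : E.Normal]
    (hE : IsMulCommutative E) (hE2 : ∀ e ∈ E, e ^ 2 = 1) (hE8 : 8 ≤ Nat.card E) (a : P)
    (ha : a * a = 1) :
    ∃ F : Subgroup P, F ≤ E ∧ IsKleinFour F ∧ ∀ f ∈ F, a * f = f * a := by
  have hcomm : ∀ x ∈ E, ∀ y ∈ E, x * y = y * x := fun x hx y hy =>
    congrArg Subtype.val (hE.is_comm.comm ⟨x, hx⟩ ⟨y, hy⟩)
  have hainv : a⁻¹ = a := inv_eq_of_mul_eq_one_left ha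
  have hinvE : ∀ e ∈ E, e⁻¹ = e := fun e he =>
    inv_eq_of_mul_eq_one_left (by rw [← pow_two]; exact hE2 e he)
  -- the homomorphism e ↦ e * (a e a⁻¹)
  let ψ : E →* E := MonoidHom.mk'
    (fun e => ⟨(e : P) * (a * (e : P) * a⁻¹), E.mul_mem e.2 (hEn.conj_mem _ e.2 a)⟩)
    (by
      intro x y
      apply Subtype.ext
      show (x : P) * (y : P) * (a * ((x : P) * (y : P)) * a⁻¹) =
        (x : P) * (a * (x : P) * a⁻¹) * ((y : P) * (a * (y : P) * a⁻¹))
      have h1 := hcomm (y : P) y.2 (a * (x : P) * a⁻¹) (hEn.conj_mem _ x.2 a)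
      calc (x : P) * (y : P) * (a * ((x : P) * (y : P)) * a⁻¹)
          = (x : P) * ((y : P) * (a * (x : P) * a⁻¹)) * (a * (y : P) * a⁻¹) := by group
        _ = (x : P) * ((a * (x : P) * a⁻¹) * (y : P)) * (a * (y : P) * a⁻¹) := by rw [h1]
        _ = (x : P) * (a * (x : P) * a⁻¹) * ((y : P) * (a * (y : P) * a⁻¹)) := by group)
  set C : Subgroup P := E ⊓ Subgroup.centralizer ({a} : Set P) with hC
  have hker : ∀ e : E, e ∈ ψ.ker → (e : P) ∈ C := by
    intro e he
    have h1 : (e : P) * (a * (e : P) * a⁻¹) = 1 := congrArg Subtype.val (MonoidHom.mem_ker.1 he)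
    refine ⟨e.2, ?_⟩
    show (e : P) ∈ Subgroup.centralizer ({a} : Set P)
    rw [Subgroup.mem_centralizer_iff]
    intro h hh
    rw [Set.mem_singleton_iff] at hh
    rw [hh]
    have h2 : a * (e : P) * a⁻¹ = (e : P) := by
      have : a * (e : P) * a⁻¹ = (e : P)⁻¹ := (inv_eq_of_mul_eq_one_right h1).symm
      rw [this, hinvE _ e.2]
    calc a * (e : P) = a * (e : P) * a⁻¹ * a := by group
      _ = (e : P) * a := by rw [h2]
  have hrange : ∀ e : E, e ∈ ψ.range → (e : P) ∈ C := by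
    rintro _ ⟨e, rfl⟩
    refine ⟨(ψ e).2, ?_⟩
    show ((ψ e : E) : P) ∈ Subgroup.centralizer ({a} : Set P)
    rw [Subgroup.mem_centralizer_iff]
    intro h hh
    rw [Set.mem_singleton_iff] at hh
    rw [hh]
    show a * ((e : P) * (a * (e : P) * a⁻¹)) = (e : P) * (a * (e : P) * a⁻¹) * a
    have h1 := hcomm (e : P) e.2 (a * (e : P) * a⁻¹) (hEn.conj_mem _ e.2 a)
    calc a * ((e : P) * (a * (e : P) * a⁻¹))
        = a * (a * (e : P) * a⁻¹ * (e : P)) := by rw [h1]
      _ = (a * a) * (e : P) * a⁻¹ * (e : P) := by group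
      _ = (e : P) * a * (e : P) := by rw [ha, hainv, one_mul]
      _ = (e : P) * (a * (e : P) * a⁻¹) * a := by group
  have hcard1 : Nat.card ψ.ker ≤ Nat.card C := by
    refine Nat.card_le_card_of_injective (fun e => ⟨(e : E), hker e e.2⟩) ?_
    intro x y hxy
    apply Subtype.ext
    apply Subtype.ext
    exact congrArg (fun z : C => (z : P)) hxy
  have hcard2 : Nat.card ψ.range ≤ Nat.card C := by
    refine Nat.card_le_card_of_injective (fun e => ⟨(e : E), hrange e e.2⟩) ?_
    intro x y hxy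
    apply Subtype.ext
    apply Subtype.ext
    exact congrArg (fun z : C => (z : P)) hxy
  have hcardE : Nat.card E = Nat.card ψ.range * Nat.card ψ.ker := by
    rw [← Subgroup.index_ker, Subgroup.index_mul_card]
  have h4 : 4 ≤ Nat.card C := by
    obtain ⟨k, hk⟩ := (hP.to_subgroup C).exists_card_eq
    have h8 : 8 ≤ Nat.card C * Nat.card C := by
      calc 8 ≤ Nat.card E := hE8
        _ = Nat.card ψ.range * Nat.card ψ.ker := hcardE
        _ ≤ Nat.card C * Nat.card C := Nat.mul_le_mul hcard2 hcard1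
    rw [hk] at h8 ⊢
    rcases Nat.lt_or_ge k 2 with hk2 | hk2
    · interval_cases k <;> omega
    · calc 4 = 2 ^ 2 := by norm_num
        _ ≤ 2 ^ k := Nat.pow_le_pow_right (by norm_num) hk2
  obtain ⟨F, hFC, hFcard⟩ := Sylow.exists_subgroup_le_card_pow_prime_of_le_card (n := 2)
    Nat.prime_two hP (H := C) (by norm_num; exact h4)
  refine ⟨F, hFC.trans inf_le_left, ?_, ?_⟩
  · apply H5.KP.isKleinFour_of_card_sq
    · rw [hFcard]; norm_num
    · intro g
      apply Subtype.ext
      have := hE2 _ ((hFC.trans inf_le_left) g.2)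
      rw [pow_two] at this
      exact this
  · intro f hf
    have h1 : f ∈ Subgroup.centralizer ({a} : Set P) := (hFC hf).2
    rw [Subgroup.mem_centralizer_iff] at h1
    exact h1 a rfl

/-- Every four-subgroup is joined to a four-subgroup of `E`. -/
theorem four_joined_to_normal [Finite P] (hP : IsPGroup 2 P) (E : Subgroup P) [hEn : E.Normal]
    (hE : IsMulCommutative E) (hE2 : ∀ e ∈ E, e ^ 2 = 1) (hE8 : 8 ≤ Nat.card E)
    (U : Subgroup P) (hU : IsKleinFour U) :
    ∃ F : Subgroup P, F ≤ E ∧ IsKleinFour F ∧ Relation.ReflTransGen FourRel U F := by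
  haveI : Fact (Nat.Prime 2) := ⟨Nat.prime_two⟩
  have hcomm : ∀ x ∈ E, ∀ y ∈ E, x * y = y * x := fun x hx y hy =>
    congrArg Subtype.val (hE.is_comm.comm ⟨x, hx⟩ ⟨y, hy⟩)
  have hE1 : E ≠ ⊥ := by
    intro h
    rw [h] at hE8
    simp at hE8
  obtain ⟨z, hzE, hz1, hzU⟩ := exists_ne_one_commute_of_isPGroup E U (hP.to_subgroup E)
    (hP.to_subgroup U) hE1
  have hzz : z * z = 1 := by rw [← pow_two]; exact hE2 z hzE
  by_cases hzU' : z ∈ U
  · obtain ⟨b, hbU, hb1, hbz⟩ : ∃ b ∈ U, b ≠ 1 ∧ b ≠ z := by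
      obtain ⟨a, b, ha, hb, ha1, hb1, hab⟩ := H5.K4.exists_gens hU
      by_cases haz : a = z
      · exact ⟨b, hb, hb1, fun h => hab (haz.trans h.symm)⟩
      · exact ⟨a, ha, ha1, haz⟩
    obtain ⟨F, hFE, hF4, hFb⟩ := exists_four_le_centralizer hP E hE hE2 hE8 b
      (H5.K4.mem_sq hU hbU)
    refine ⟨F, hFE, hF4, Relation.ReflTransGen.single ⟨hU, hF4, ?_⟩⟩
    intro u hu f hf
    have hfz : z * f = f * z := hcomm z hzE f (hFE hf)
    have hfb : b * f = f * b := hFb f hf
    rcases H5.K4.mem_cases hU hzU' hbU hu hz1 hb1 (Ne.symm hbz) with rfl | rfl | rfl | rfl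
    · rw [one_mul, mul_one]
    · exact hfz
    · exact hfb
    · rw [mul_assoc, hfb, ← mul_assoc, hfz, mul_assoc]
  · obtain ⟨a, haU, ha1⟩ : ∃ a ∈ U, a ≠ 1 := by
      obtain ⟨a, b, ha, hb, ha1, hb1, hab⟩ := H5.K4.exists_gens hU
      exact ⟨a, ha, ha1⟩
    have haa : a * a = 1 := H5.K4.mem_sq hU haU
    have haz : a * z = z * a := hzU a haU
    have hne : a ≠ z := fun h => hzU' (h ▸ haU)
    have hU1 : IsKleinFour (H5.KP.kleinPair a z haa hzz haz) :=
      H5.KP.isKleinFour_kleinPair haa hzz haz ha1 hz1 hne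
    obtain ⟨F, hFE, hF4, hFa⟩ := exists_four_le_centralizer hP E hE hE2 hE8 a haa
    refine ⟨F, hFE, hF4, Relation.ReflTransGen.head (b := H5.KP.kleinPair a z haa hzz haz)
      ⟨hU, hU1, ?_⟩ (Relation.ReflTransGen.single ⟨hU1, hF4, ?_⟩)⟩
    · intro u hu v hv
      have hua : u * a = a * u := H5.K4.mem_comm hU hu haU
      have huz : u * z = z * u := hzU u hu
      rcases (H5.KP.mem_kleinPair haa hzz haz v).1 hv with rfl | rfl | rfl | rfl
      · rw [one_mul, mul_one]
      · exact hua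
      · exact huz
      · rw [← mul_assoc, hua, mul_assoc, huz, ← mul_assoc]
    · intro v hv f hf
      have hfz : z * f = f * z := hcomm z hzE f (hFE hf)
      have hfa : a * f = f * a := hFa f hf
      rcases (H5.KP.mem_kleinPair haa hzz haz v).1 hv with rfl | rfl | rfl | rfl
      · rw [one_mul, mul_one]
      · exact hfa
      · exact hfz
      · rw [mul_assoc, hfz, ← mul_assoc, hfa, mul_assoc]

/-- A finite `2`-group with a normal elementary abelian subgroup of order at least `8` is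
four-connected (with the relation `FourRel`). -/
theorem fourRel_connected [Finite P] (hP : IsPGroup 2 P) (E : Subgroup P) [hEn : E.Normal]
    (hE : IsMulCommutative E) (hE2 : ∀ e ∈ E, e ^ 2 = 1) (hE8 : 8 ≤ Nat.card E)
    (U V : Subgroup P) (hU : IsKleinFour U) (hV : IsKleinFour V) :
    Relation.ReflTransGen FourRel U V := by
  have hcomm : ∀ x ∈ E, ∀ y ∈ E, x * y = y * x := fun x hx y hy =>
    congrArg Subtype.val (hE.is_comm.comm ⟨x, hx⟩ ⟨y, hy⟩)
  obtain ⟨F, hFE, hF4, hUF⟩ := four_joined_to_normal hP E hE hE2 hE8 U hU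
  obtain ⟨F', hFE', hF4', hVF⟩ := four_joined_to_normal hP E hE hE2 hE8 V hV
  have hFV : Relation.ReflTransGen FourRel F' V := reflTransGen_fourRel_symm hVF
  exact hUF.trans (Relation.ReflTransGen.head
    ⟨hF4, hF4', fun a ha b hb => hcomm a (hFE ha) b (hFE' hb)⟩ hFV)

end Cfsg.Agent.Lib.H3
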