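import Cfsg.Agent.Lib.H3.FourConn
import Cfsg.Agent.Lib.H10.SylowIn
import Mathlib

/-!
helper3 library: the `2`-generated core and connectivity of the commuting graph on four-subgroups.
-/

set_option autoImplicit false
open Cfsg

namespace Cfsg.Agent.Lib.H3

variable {G : Type*} [Group G]

theorem isKleinFour_map_of_injective {H : Type*} [Group H] (f : G →* H)
    (hf : Function.Injective f) {U : Subgroup G} (hU : IsKleinFour U) : IsKleinFour (U.map f) := by
  apply H5.KP.isKleinFour_of_card_sq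
  · rw [← Nat.card_congr (U.equivMapOfInjective f hf).toEquiv]
    exact hU.card_four
  · rintro ⟨_, x, hx, rfl⟩
    apply Subtype.ext
    show f x * f x = 1
    rw [← map_mul, H5.K4.mem_sq hU hx, map_one]

theorem isKleinFour_map_conj (g : G) {U : Subgroup G} (hU : IsKleinFour U) :
    IsKleinFour (U.map (MulAut.conj g).toMonoidHom) :=
  isKleinFour_map_of_injective (MulAut.conj g).toMonoidHom (MulAut.conj g).injective hU

theorem fourRel_map_of_injective {H : Type*} [Group H] (f : G →* H)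
    (hf : Function.Injective f) {A B : Subgroup G} (h : FourRel A B) :
    FourRel (A.map f) (B.map f) := by
  obtain ⟨hA, hB, hc⟩ := h
  refine ⟨isKleinFour_map_of_injective f hf hA, isKleinFour_map_of_injective f hf hB, ?_⟩
  rintro _ ⟨a, ha, rfl⟩ _ ⟨b, hb, rfl⟩
  rw [← map_mul, ← map_mul, hc a ha b hb]

theorem reflTransGen_fourRel_map_of_injective {H : Type*} [Group H] (f : G →* H)
    (hf : Function.Injective f) {A B : Subgroup G} (h : Relation.ReflTransGen FourRel A B) :
    Relation.ReflTransGen FourRel (A.map f) (B.map f) := by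
  induction h with
  | refl => exact Relation.ReflTransGen.refl
  | tail _ hbc ih => exact Relation.ReflTransGen.tail ih (fourRel_map_of_injective f hf hbc)

/-- `2`-rank at least two means containing a four-subgroup. -/
theorem exists_four_of_not_pRankLE [Finite G] (h : ¬ PRankLE 2 1 G) :
    ∃ U : Subgroup G, IsKleinFour U := by
  haveI : Fact (Nat.Prime 2) := ⟨Nat.prime_two⟩
  unfold PRankLE at h
  push Not at h
  obtain ⟨A, hAc, hA2, hAcard⟩ := h
  have hAp : IsPGroup 2 A := by
    intro a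
    refine ⟨1, ?_⟩
    apply Subtype.ext
    rw [pow_one]
    exact hA2 a a.2
  obtain ⟨k, hk⟩ := hAp.exists_card_eq
  have hk2 : 2 ≤ k := by
    by_contra hlt
    push Not at hlt
    rw [hk] at hAcard
    interval_cases k <;> omega
  obtain ⟨K, hKcard⟩ := Sylow.exists_subgroup_card_pow_prime_of_le_card (n := 2)
    Nat.prime_two hAp (by
      rw [hk]; exact Nat.pow_le_pow_right (by norm_num) hk2)
  refine ⟨K.map A.subtype, ?_⟩
  apply isKleinFour_map_of_injective _ A.subtype_injective
  apply H5.KP.isKleinFour_of_card_sq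
  · rw [hKcard]; norm_num
  · intro g
    apply Subtype.ext
    apply Subtype.ext
    have := hA2 _ (g : A).2
    rw [pow_two] at this
    exact this

theorem exists_four_le_of_not_pRankLE [Finite G] {Q : Subgroup G} (h : ¬ PRankLE 2 1 Q) :
    ∃ U : Subgroup G, U ≤ Q ∧ IsKleinFour U := by
  obtain ⟨U, hU⟩ := exists_four_of_not_pRankLE h
  exact ⟨U.map Q.subtype, Subgroup.map_subtype_le _,
    isKleinFour_map_of_injective _ Q.subtype_injective hU⟩

theorem not_pRankLE_of_four {Q U : Subgroup G} (hU : IsKleinFour U) (hUQ : U ≤ Q) :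
    ¬ PRankLE 2 1 Q := by
  intro h
  have h1 := h (U.subgroupOf Q) ?_ ?_
  · rw [Nat.card_congr (Subgroup.subgroupOfEquivOfLe hUQ).toEquiv, hU.card_four] at h1
    omega
  · refine ⟨⟨?_⟩⟩
    rintro ⟨a, ha⟩ ⟨b, hb⟩
    apply Subtype.ext
    apply Subtype.ext
    exact H5.K4.mem_comm hU ha hb
  · intro a ha
    apply Subtype.ext
    show (a : G) ^ 2 = 1
    rw [pow_two]
    exact H5.K4.mem_sq hU ha

/-- Connectivity of a subgroup `S` transfers to its four-subgroups seen in `G`. -/
theorem reflTransGen_of_isFourConnected {S : Subgroup G} (hS : IsFourConnected S)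
    {U V : Subgroup G} (hU : IsKleinFour U) (hV : IsKleinFour V) (hUS : U ≤ S) (hVS : V ≤ S) :
    Relation.ReflTransGen FourRel U V := by
  have hU' : IsKleinFour (U.subgroupOf S) := by
    apply H5.KP.isKleinFour_of_card_sq
    · rw [Nat.card_congr (Subgroup.subgroupOfEquivOfLe hUS).toEquiv]; exact hU.card_four
    · rintro ⟨a, ha⟩
      apply Subtype.ext
      apply Subtype.ext
      exact H5.K4.mem_sq hU ha
  have hV' : IsKleinFour (V.subgroupOf S) := by
    apply H5.KP.isKleinFour_of_card_sq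
    · rw [Nat.card_congr (Subgroup.subgroupOfEquivOfLe hVS).toEquiv]; exact hV.card_four
    · rintro ⟨a, ha⟩
      apply Subtype.ext
      apply Subtype.ext
      exact H5.K4.mem_sq hV ha
  have h1 : Relation.ReflTransGen FourRel (U.subgroupOf S) (V.subgroupOf S) := hS _ _ hU' hV'
  have h2 := reflTransGen_fourRel_map_of_injective S.subtype S.subtype_injective h1
  rwa [Subgroup.map_subgroupOf_eq_of_le hUS, Subgroup.map_subgroupOf_eq_of_le hVS] at h2

/-- The `2`-generated core with respect to `S`. -/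
def twoGenCore (S : Subgroup G) : Subgroup G :=
  ⨆ Q : {Q : Subgroup G // Q ≤ S ∧ ¬ PRankLE 2 1 Q},
    Subgroup.normalizer ((Q : Subgroup G) : Set G)

theorem normalizer_le_twoGenCore {S Q U : Subgroup G} (hQS : Q ≤ S) (hU : IsKleinFour U)
    (hUQ : U ≤ Q) : Subgroup.normalizer (Q : Set G) ≤ twoGenCore S :=
  le_iSup (fun Q : {Q : Subgroup G // Q ≤ S ∧ ¬ PRankLE 2 1 Q} =>
    Subgroup.normalizer ((Q : Subgroup G) : Set G)) ⟨Q, hQS, not_pRankLE_of_four hU hUQ⟩

/-- Elements moving `U₀` within its connected component. -/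
def fourStab (U₀ : Subgroup G) : Subgroup G where
  carrier := {g | Relation.ReflTransGen FourRel U₀ (U₀.map (MulAut.conj g).toMonoidHom)}
  one_mem' := by
    show Relation.ReflTransGen FourRel U₀ (U₀.map (MulAut.conj 1).toMonoidHom)
    rw [H10.map_conj_one]
  mul_mem' := by
    intro a b ha hb
    show Relation.ReflTransGen FourRel U₀ (U₀.map (MulAut.conj (a * b)).toMonoidHom)
    rw [← H10.map_conj_map_conj]
    exact Relation.ReflTransGen.trans ha
      (reflTransGen_fourRel_map_of_injective _ (MulAut.conj a).injective hb)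
  inv_mem' := by
    intro a ha
    show Relation.ReflTransGen FourRel U₀ (U₀.map (MulAut.conj a⁻¹).toMonoidHom)
    have h1 := reflTransGen_fourRel_map_of_injective (MulAut.conj a⁻¹).toMonoidHom
      (MulAut.conj a⁻¹).injective ha
    rw [H10.map_conj_map_conj, inv_mul_cancel, H10.map_conj_one] at h1
    exact reflTransGen_fourRel_symm h1

theorem mem_fourStab {U₀ : Subgroup G} {g : G} : g ∈ fourStab U₀ ↔
    Relation.ReflTransGen FourRel U₀ (U₀.map (MulAut.conj g).toMonoidHom) := Iff.rfl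

theorem twoGenCore_le_fourStab [Finite G] {S U₀ : Subgroup G} (hS : IsFourConnected S)
    (hU₀ : IsKleinFour U₀) (hU₀S : U₀ ≤ S) : twoGenCore S ≤ fourStab U₀ := by
  apply iSup_le
  rintro ⟨Q, hQS, hQr⟩ g hg
  obtain ⟨U, hUQ, hU⟩ := exists_four_le_of_not_pRankLE hQr
  have hgQ : Q.map (MulAut.conj g).toMonoidHom = Q := H10.mem_normalizer_iff_map_conj.1 hg
  have h1 : Relation.ReflTransGen FourRel U₀ U :=
    reflTransGen_of_isFourConnected hS hU₀ hU hU₀S (hUQ.trans hQS)
  have hU' : IsKleinFour (U.map (MulAut.conj g).toMonoidHom) :=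
    isKleinFour_map_conj g hU
  have hU'S : U.map (MulAut.conj g).toMonoidHom ≤ S :=
    (Subgroup.map_mono hUQ).trans (hgQ.le.trans hQS)
  have h2 : Relation.ReflTransGen FourRel U₀ (U.map (MulAut.conj g).toMonoidHom) :=
    reflTransGen_of_isFourConnected hS hU₀ hU' hU₀S hU'S
  have h3 := reflTransGen_fourRel_map_of_injective (MulAut.conj g).toMonoidHom
    (MulAut.conj g).injective h1
  rw [mem_fourStab]
  exact h2.trans (reflTransGen_fourRel_symm h3)

theorem connected_of_twoGenCore_eq_top [Finite G] (S : Sylow 2 G)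
    (hS : IsFourConnected (S : Subgroup G)) {U₀ : Subgroup G} (hU₀ : IsKleinFour U₀)
    (hU₀S : U₀ ≤ S) (htop : twoGenCore (S : Subgroup G) = ⊤) (V W : Subgroup G)
    (hV : IsKleinFour V) (hW : IsKleinFour W) : Relation.ReflTransGen FourRel V W := by
  haveI : Fact (Nat.Prime 2) := ⟨Nat.prime_two⟩
  have key : ∀ V : Subgroup G, IsKleinFour V → Relation.ReflTransGen FourRel U₀ V := by
    intro V hV
    have hVp : IsPGroup 2 V := IsPGroup.of_card (n := 2) (by rw [hV.card_four]; norm_num)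
    obtain ⟨g, hg⟩ := H10.exists_map_conj_le_sylow S hVp
    have hV' := isKleinFour_map_conj g hV
    have h1 := reflTransGen_of_isFourConnected hS hU₀ hV' hU₀S hg
    have h2 := reflTransGen_fourRel_map_of_injective (MulAut.conj g⁻¹).toMonoidHom
      (MulAut.conj g⁻¹).injective h1
    rw [H10.map_conj_map_conj, inv_mul_cancel, H10.map_conj_one] at h2
    have h3 : g⁻¹ ∈ fourStab U₀ := twoGenCore_le_fourStab hS hU₀ hU₀S (htop ▸ Subgroup.mem_top _)
    rw [mem_fourStab] at h3
    exact h3.trans h2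
  exact (reflTransGen_fourRel_symm (key V hV)).trans (key W hW)

theorem exists_conj_le_of_reflTransGen [Finite G] (S : Sylow 2 G) {U₀ V : Subgroup G}
    (hU₀S : U₀ ≤ S) (h : Relation.ReflTransGen FourRel U₀ V) :
    ∃ γ ∈ twoGenCore (S : Subgroup G), V.map (MulAut.conj γ).toMonoidHom ≤ S := by
  haveI : Fact (Nat.Prime 2) := ⟨Nat.prime_two⟩
  induction h with
  | refl => exact ⟨1, one_mem _, by rw [H10.map_conj_one]; exact hU₀S⟩
  | @tail V W _ hVW ih =>
    obtain ⟨γ, hγ, hγV⟩ := ih
    obtain ⟨hV', hW', hc⟩ := fourRel_map_of_injective (MulAut.conj γ).toMonoidHom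
      (MulAut.conj γ).injective hVW
    have hWN : W.map (MulAut.conj γ).toMonoidHom ≤
        Subgroup.normalizer ((V.map (MulAut.conj γ).toMonoidHom : Subgroup G) : Set G) := by
      intro w hw
      apply Subgroup.centralizer_le_normalizer
      rw [Subgroup.mem_centralizer_iff]
      intro v hv
      exact hc v hv w hw
    have hWΓ := hWN.trans (normalizer_le_twoGenCore hγV hV' le_rfl)
    have hSΓ : (S : Subgroup G) ≤ twoGenCore (S : Subgroup G) :=
      Subgroup.le_normalizer.trans (normalizer_le_twoGenCore le_rfl hV' hγV)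
    have hWp : IsPGroup 2 (W.map (MulAut.conj γ).toMonoidHom) :=
      IsPGroup.of_card (n := 2) (by rw [hW'.card_four]; norm_num)
    obtain ⟨m, hm, hmW⟩ := H10.exists_mem_map_conj_le_of_sylowIn S.2 hSΓ
      (H10.not_dvd_relIndex_of_sylow_le S hSΓ) hWp hWΓ
    refine ⟨m * γ, Subgroup.mul_mem _ hm hγ, ?_⟩
    rw [← H10.map_conj_map_conj]
    exact hmW

theorem exists_conj_le_sylow_of_connected [Finite G] (S : Sylow 2 G) {U₀ : Subgroup G}
    (hU₀ : IsKleinFour U₀) (hU₀S : U₀ ≤ S)
    (hconn : ∀ V : Subgroup G, IsKleinFour V → Relation.ReflTransGen FourRel U₀ V)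
    (Q : Subgroup G) (hQ : IsPGroup 2 Q) {V : Subgroup G} (hV : IsKleinFour V) (hVQ : V ≤ Q) :
    ∃ γ ∈ twoGenCore (S : Subgroup G), Q.map (MulAut.conj γ).toMonoidHom ≤ S := by
  haveI : Fact (Nat.Prime 2) := ⟨Nat.prime_two⟩
  have hSΓ : (S : Subgroup G) ≤ twoGenCore (S : Subgroup G) :=
    Subgroup.le_normalizer.trans (normalizer_le_twoGenCore le_rfl hU₀ hU₀S)
  let T : Set G := {γ | γ ∈ twoGenCore (S : Subgroup G) ∧ ∃ V' : Subgroup G, IsKleinFour V' ∧
    V' ≤ Q.map (MulAut.conj γ).toMonoidHom ⊓ S}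
  have hTne : T.Nonempty := by
    obtain ⟨γ, hγ, hγV⟩ := exists_conj_le_of_reflTransGen S hU₀S (hconn V hV)
    exact ⟨γ, hγ, V.map (MulAut.conj γ).toMonoidHom,
      isKleinFour_map_conj γ hV,
      le_inf (Subgroup.map_mono hVQ) hγV⟩
  obtain ⟨γ, ⟨hγ, V', hV', hV'le⟩, hmax⟩ := Set.exists_max_image T
    (fun γ => Nat.card ((Q.map (MulAut.conj γ).toMonoidHom ⊓ S : Subgroup G)))
    (Set.toFinite T) hTne
  refine ⟨γ, hγ, ?_⟩
  by_contra hnot
  have hDlt : Q.map (MulAut.conj γ).toMonoidHom ⊓ S < Q.map (MulAut.conj γ).toMonoidHom :=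
    lt_of_le_of_ne inf_le_left (fun h => hnot (h ▸ inf_le_right))
  have hQ'p : IsPGroup 2 (Q.map (MulAut.conj γ).toMonoidHom) := hQ.map _
  have hlt := H10.lt_inf_normalizer_of_lt hQ'p hDlt
  have hN₁Γ : Q.map (MulAut.conj γ).toMonoidHom ⊓ Subgroup.normalizer
      ((Q.map (MulAut.conj γ).toMonoidHom ⊓ S : Subgroup G) : Set G) ≤
      twoGenCore (S : Subgroup G) :=
    inf_le_right.trans (normalizer_le_twoGenCore inf_le_right hV' hV'le)
  have hN₁p : IsPGroup 2 (Q.map (MulAut.conj γ).toMonoidHom ⊓ Subgroup.normalizer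
      ((Q.map (MulAut.conj γ).toMonoidHom ⊓ S : Subgroup G) : Set G) : Subgroup G) :=
    hQ'p.to_le inf_le_left
  obtain ⟨m, hm, hmN⟩ := H10.exists_mem_map_conj_le_of_sylowIn S.2 hSΓ
    (H10.not_dvd_relIndex_of_sylow_le S hSΓ) hN₁p hN₁Γ
  have hmem : m * γ ∈ T := by
    refine ⟨Subgroup.mul_mem _ hm hγ, V'.map (MulAut.conj m).toMonoidHom,
      isKleinFour_map_conj m hV', ?_⟩
    rw [← H10.map_conj_map_conj]
    refine le_inf (Subgroup.map_mono (hV'le.trans inf_le_left)) ?_
    exact (Subgroup.map_mono (hV'le.trans hlt.le)).trans hmN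
  have h1 := hmax (m * γ) hmem
  have h2 : (Q.map (MulAut.conj γ).toMonoidHom ⊓ Subgroup.normalizer
      ((Q.map (MulAut.conj γ).toMonoidHom ⊓ S : Subgroup G) : Set G)).map
      (MulAut.conj m).toMonoidHom ≤ Q.map (MulAut.conj (m * γ)).toMonoidHom ⊓ S := by
    rw [← H10.map_conj_map_conj]
    exact le_inf (Subgroup.map_mono inf_le_left) hmN
  have h3 := Subgroup.card_le_of_le h2
  rw [H10.card_map_conj] at h3
  have h4 := Subgroup.eq_of_le_of_card_ge hlt.le (h3.trans h1)
  exact hlt.ne h4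

/-- The `2`-generated core is everything when the commuting graph is connected. -/
theorem twoGenCore_eq_top_of_connected [Finite G] (S : Sylow 2 G) {U₀ : Subgroup G}
    (hU₀ : IsKleinFour U₀) (hU₀S : U₀ ≤ S)
    (hconn : ∀ V : Subgroup G, IsKleinFour V → Relation.ReflTransGen FourRel U₀ V) :
    twoGenCore (S : Subgroup G) = ⊤ := by
  rw [eq_top_iff]
  intro g _
  obtain ⟨γ, hγ, hγS⟩ := exists_conj_le_sylow_of_connected S hU₀ hU₀S hconn
    ((S : Subgroup G).map (MulAut.conj g).toMonoidHom) (S.2.map _)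
    (isKleinFour_map_conj g hU₀) (Subgroup.map_mono hU₀S)
  rw [H10.map_conj_map_conj] at hγS
  have heq : (S : Subgroup G).map (MulAut.conj (γ * g)).toMonoidHom = S :=
    Subgroup.eq_of_le_of_card_ge hγS (by rw [H10.card_map_conj])
  have hN : γ * g ∈ Subgroup.normalizer ((S : Subgroup G) : Set G) :=
    H10.mem_normalizer_iff_map_conj.2 heq
  have h1 : γ * g ∈ twoGenCore (S : Subgroup G) :=
    normalizer_le_twoGenCore le_rfl hU₀ hU₀S hN
  have h2 : g = γ⁻¹ * (γ * g) := by group
  rw [h2]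
  exact Subgroup.mul_mem _ (Subgroup.inv_mem _ hγ) h1

/-- The two-generated core criterion for disconnectedness of the commuting graph. -/
theorem not_isFourConnected_iff [Finite G] (h2 : ¬ PRankLE 2 1 G) (S : Sylow 2 G)
    (hS : IsFourConnected (S : Subgroup G)) :
    ¬ IsFourConnected G ↔ twoGenCore (S : Subgroup G) ≠ ⊤ := by
  haveI : Fact (Nat.Prime 2) := ⟨Nat.prime_two⟩
  obtain ⟨U, hU⟩ := exists_four_of_not_pRankLE h2
  have hUp : IsPGroup 2 U := IsPGroup.of_card (n := 2) (by rw [hU.card_four]; norm_num)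
  obtain ⟨g, hg⟩ := H10.exists_map_conj_le_sylow S hUp
  have hU₀ := isKleinFour_map_conj g hU
  rw [not_iff_comm, not_not]
  constructor
  · intro htop V W hV hW
    exact connected_of_twoGenCore_eq_top S hS hU₀ hg htop V W hV hW
  · intro hconn
    exact twoGenCore_eq_top_of_connected S hU₀ hg (fun V hV => hconn _ V hU₀ hV)

end Cfsg.Agent.Lib.H3
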