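import Mathlib
import Cfsg.Agent.Lib.H3.ThompsonFact
set_option autoImplicit false
open scoped Pointwise
open Cfsg
namespace Cfsg.Agent.Lib.H3

variable {G : Type*} [Group G]

/-- Frattini argument for the Thompson subgroup: if `N` is normal and contains `J(G)` then
`G = N · N_G(J(S))`. -/
theorem frattini_thompson [Finite G] {p : ℕ} [Fact p.Prime] (C : Subgroup G) [hCn : C.Normal]
    (hJ : Cfsg.thompsonSubgroup p G ≤ C) (S : Sylow p G) (g : G) :
    ∃ c ∈ C, c⁻¹ * g ∈ Subgroup.normalizer (thompsonSubgroupOf p (S : Subgroup G) : Set G) := by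
  set T : Sylow p G := g • S with hT
  have hPS := H15.isSylowIn_inf_normal S C
  have hPT := H15.isSylowIn_inf_normal T C
  obtain ⟨c, hcC, hc⟩ := hPS.exists_conj hPT
  have hc' : (T : Subgroup G) ⊓ C = MulAut.conj c • ((S : Subgroup G) ⊓ C) := hc
  obtain ⟨A₀, hA₀, hA₀S⟩ := exists_maxElemAb_le_sylow S
  have hmaxC : ∀ A ∈ maxElementaryAbelianSubgroups p G, A ≤ C :=
    fun A hA => (le_thompson hA).trans hJ
  have hJinf : ∀ U : Subgroup G, A₀ ≤ U →
      thompsonSubgroupOf p (U ⊓ C) = thompsonSubgroupOf p U := by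
    intro U hU
    rw [thompsonSubgroupOf_eq_sSup hA₀ hU,
      thompsonSubgroupOf_eq_sSup hA₀ (le_inf hU (hmaxC A₀ hA₀))]
    congr 1
    ext A
    constructor
    · rintro ⟨hA, hAU⟩; exact ⟨hA, hAU.trans inf_le_left⟩
    · rintro ⟨hA, hAU⟩; exact ⟨hA, le_inf hAU (hmaxC A hA)⟩
  have hJT1 : thompsonSubgroupOf p (T : Subgroup G) =
      MulAut.conj g • thompsonSubgroupOf p (S : Subgroup G) := by
    rw [hT, Sylow.coe_subgroup_smul]
    exact thompsonSubgroupOf_conj hA₀ hA₀S g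
  have hA₁T : MulAut.conj g • A₀ ≤ (T : Subgroup G) := by
    rw [hT, Sylow.coe_subgroup_smul]
    exact Subgroup.pointwise_smul_le_pointwise_smul_iff.2 hA₀S
  have hJT2 : thompsonSubgroupOf p (T : Subgroup G) =
      MulAut.conj c • thompsonSubgroupOf p (S : Subgroup G) := by
    have h1 := thompsonSubgroupOf_eq_sSup (maxElemAb_conj g hA₀) hA₁T
    have h2 := thompsonSubgroupOf_eq_sSup (maxElemAb_conj g hA₀)
      (le_inf hA₁T (hmaxC _ (maxElemAb_conj g hA₀)))
    have h3 : thompsonSubgroupOf p ((T : Subgroup G) ⊓ C) =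
        thompsonSubgroupOf p (T : Subgroup G) := by
      rw [h1, h2]
      congr 1
      ext A
      constructor
      · rintro ⟨hA, hAU⟩; exact ⟨hA, hAU.trans inf_le_left⟩
      · rintro ⟨hA, hAU⟩; exact ⟨hA, le_inf hAU (hmaxC A hA)⟩
    rw [← h3, hc', thompsonSubgroupOf_conj hA₀ (le_inf hA₀S (hmaxC A₀ hA₀)) c, hJinf _ hA₀S]
  refine ⟨c, hcC, ?_⟩
  apply mem_normalizer_of_conj_smul_eq
  rw [map_mul, mul_smul, ← hJT1, hJT2, map_inv, inv_smul_smul]

/-- a Sylow subgroup normalizes its Thompson subgroup. -/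
theorem sylow_le_normalizer_thompson [Finite G] {p : ℕ} [Fact p.Prime] (S : Sylow p G) :
    (S : Subgroup G) ≤ Subgroup.normalizer (thompsonSubgroupOf p (S : Subgroup G) : Set G) := by
  intro s hs
  obtain ⟨A₀, hA₀, hA₀S⟩ := exists_maxElemAb_le_sylow S
  apply mem_normalizer_of_conj_smul_eq
  rw [← thompsonSubgroupOf_conj hA₀ hA₀S s, Subgroup.conj_smul_eq_self_of_mem hs]

end Cfsg.Agent.Lib.H3
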