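import Mathlib
import Cfsg.Agent.Lib.H25.GsDefs
import Cfsg.Agent.Lib.H10.GuA
import Cfsg.Agent.Lib.H11.OrMax2
import Cfsg.Agent.Lib.H25.GuB
import Cfsg.Agent.Lib.H24.OSfA

/-!
# S5665 (helper25 architect), piece (SB1) (helper3): the existence toolkit `GeoS m J`, by transport to
`Fin (m + m) → F` (quadratic form `x ↦ <x, J x> / 2` with polar form `B(x, y) = <x, J y>`).
The transport set-up (`sbPhi`, `sbMat`, `sbQ`, `sbJS`) is reused by (SB2).
-/

set_option autoImplicit false
set_option linter.unusedSimpArgs false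
set_option linter.unusedSectionVars false
set_option linter.unusedVariables false

namespace Cfsg.Agent.Lib.H3.Gs

open Matrix Module
open Cfsg Cfsg.Geo
open Cfsg.Agent.Lib.H11.SubspMax
open Cfsg.Agent.Lib.H25.Gs
open Cfsg.Agent.Lib.H4 (sympForm_self sympForm_add_left sympForm_add_right sympForm_smul_left
  sympForm_smul_right sympForm_swap)

variable {F : Type*} [Field F] {m : ℕ} {J : Matrix (Fin m ⊕ Fin m) (Fin m ⊕ Fin m) F} {d : F}

/-- the transport equivalence `x ↦ x ∘ finSumFinEquiv.symm` -/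
noncomputable def sbPhi (F : Type*) [Field F] (m : ℕ) :
    (Fin m ⊕ Fin m → F) ≃ₗ[F] (Fin (m + m) → F) :=
  LinearEquiv.funCongrLeft F F (finSumFinEquiv (m := m) (n := m)).symm

/-- the transported matrix -/
def sbMat (M : Matrix (Fin m ⊕ Fin m) (Fin m ⊕ Fin m) F) : Matrix (Fin (m + m)) (Fin (m + m)) F :=
  Matrix.reindex finSumFinEquiv finSumFinEquiv M

theorem sbPhi_apply (x : Fin m ⊕ Fin m → F) (i : Fin (m + m)) :
    sbPhi F m x i = x (finSumFinEquiv.symm i) := rfl

theorem sbPhi_symm_apply (u : Fin (m + m) → F) (i : Fin m ⊕ Fin m) :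
    (sbPhi F m).symm u i = u (finSumFinEquiv i) := rfl

theorem sbMat_mulVec (M : Matrix (Fin m ⊕ Fin m) (Fin m ⊕ Fin m) F) (u : Fin (m + m) → F) :
    (sbPhi F m).symm (sbMat M *ᵥ u) = M *ᵥ (sbPhi F m).symm u := by
  funext i
  rw [sbPhi_symm_apply, sbMat, Matrix.reindex_apply, Matrix.submatrix_mulVec_equiv]
  simp only [Function.comp_apply, Equiv.symm_symm, Equiv.symm_apply_apply]
  rfl

theorem sbMat_mulVec' (M : Matrix (Fin m ⊕ Fin m) (Fin m ⊕ Fin m) F) (x : Fin m ⊕ Fin m → F) :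
    sbMat M *ᵥ sbPhi F m x = sbPhi F m (M *ᵥ x) := by
  apply (sbPhi F m).symm.injective
  rw [sbMat_mulVec, LinearEquiv.symm_apply_apply, LinearEquiv.symm_apply_apply]

/-- the bilinear map `(x, y) ↦ <x, J y> / 2` -/
noncomputable def sbB (J : Matrix (Fin m ⊕ Fin m) (Fin m ⊕ Fin m) F) :
    (Fin m ⊕ Fin m → F) →ₗ[F] (Fin m ⊕ Fin m → F) →ₗ[F] F :=
  Matrix.toLinearMap₂' F ((2 : F)⁻¹ • (Matrix.J (Fin m) F * J))

theorem sbB_apply (x y : Fin m ⊕ Fin m → F) :
    sbB J x y = 2⁻¹ * Cfsg.sympForm m F x (J *ᵥ y) := by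
  rw [sbB, Matrix.toLinearMap₂'_apply', Cfsg.sympForm, Matrix.smul_mulVec, dotProduct_smul,
    Matrix.mulVec_mulVec, smul_eq_mul]

/-- the transported quadratic form `Q' (φ x) = <x, J x> / 2` -/
noncomputable def sbQ (J : Matrix (Fin m ⊕ Fin m) (Fin m ⊕ Fin m) F) :
    QuadraticForm F (Fin (m + m) → F) :=
  (LinearMap.BilinMap.toQuadraticMap (sbB J)).comp ((sbPhi F m).symm : (Fin (m + m) → F) →ₗ[F] _)

theorem sbQ_apply (u : Fin (m + m) → F) :
    sbQ J u = 2⁻¹ * Cfsg.sympForm m F ((sbPhi F m).symm u) (J *ᵥ (sbPhi F m).symm u) := by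
  rw [sbQ, QuadraticMap.comp_apply, LinearMap.BilinMap.toQuadraticMap_apply]
  exact sbB_apply _ _

theorem sb_Bf_symm (S : SJ m J d) (x y : Fin m ⊕ Fin m → F) : Bf J x y = Bf J y x := by
  unfold Bf
  rw [sympForm_swap m y (J *ᵥ x), S.adj, neg_neg]

theorem sb_d_ne (S : SJ m J d) : d ≠ 0 := by
  intro h
  exact S.nsq 0 (by rw [h]; ring)

theorem sb_sing_iff (S : SJ m J d) (u : Fin (m + m) → F) :
    Sing J ((sbPhi F m).symm u) ↔ sbQ J u = 0 := by
  rw [sbQ_apply]
  unfold Sing
  constructor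
  · intro h
    rw [h, mul_zero]
  · intro h
    rcases mul_eq_zero.1 h with h | h
    · exact absurd h (inv_ne_zero S.two)
    · exact h

theorem sb_polar (S : SJ m J d) (u v : Fin (m + m) → F) :
    QuadraticMap.polar (⇑(sbQ J)) u v = Bf J ((sbPhi F m).symm u) ((sbPhi F m).symm v) := by
  have hs := sb_Bf_symm S ((sbPhi F m).symm u) ((sbPhi F m).symm v)
  unfold Bf at hs ⊢
  rw [QuadraticMap.polar, sbQ_apply, sbQ_apply, sbQ_apply, map_add, Matrix.mulVec_add,
    sympForm_add_left, sympForm_add_right, sympForm_add_right]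
  have h2 : (2 : F)⁻¹ * 2 = 1 := inv_mul_cancel₀ S.two
  linear_combination (-(2 : F)⁻¹) * hs +
    Cfsg.sympForm m F ((sbPhi F m).symm u) (J *ᵥ (sbPhi F m).symm v) * h2

/-- the `JS`-structure of the transported data -/
theorem sbJS (S : SJ m J d) : Cfsg.Agent.Lib.H10.Gu.JS (sbQ J) (sbMat J) 0 (-d) where
  hQ := by
    have key : ∀ u : Fin (m + m) → F, (∀ v, QuadraticMap.polar (⇑(sbQ J)) u v = 0) → u = 0 := by
      intro u hu
      by_contra hne
      have hne' : (sbPhi F m).symm u ≠ 0 := fun h => hne ((sbPhi F m).symm.map_eq_zero_iff.1 h)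
      obtain ⟨y, hy⟩ := exists_sympForm_ne _ hne'
      apply hy
      have h1 := hu (sbPhi F m (d⁻¹ • J *ᵥ y))
      rw [sb_polar S, LinearEquiv.symm_apply_apply] at h1
      unfold Bf at h1
      rw [Matrix.mulVec_smul, S.sq, smul_smul, inv_mul_cancel₀ (sb_d_ne S), one_smul] at h1
      exact h1
    constructor
    · intro x hx
      exact key x fun v => by
        have := hx v
        rwa [QuadraticMap.polarBilin_apply_apply] at this
    · intro y hy
      exact key y fun v => by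
        have := hy v
        rw [QuadraticMap.polarBilin_apply_apply, QuadraticMap.polar_comm] at this
        exact this
  hn := by have := S.hm; omega
  sq := by
    intro x
    apply (sbPhi F m).symm.injective
    rw [sbMat_mulVec, sbMat_mulVec, S.sq, zero_smul, zero_sub, neg_smul, neg_neg, map_smul]
  irr := by
    intro l h
    apply S.nsq l
    linear_combination h
  QJ := by
    intro v
    rw [sbQ_apply, sbQ_apply, sbMat_mulVec, S.sq, sympForm_smul_right,
      sympForm_swap m (J *ᵥ _) _]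
    ring
  PvJ := by
    intro v
    rw [sb_polar S, sbMat_mulVec]
    unfold Bf
    rw [S.sq, sympForm_smul_right, sympForm_self, mul_zero, zero_mul]

/-- **(SB1)** the existence toolkit, by transport to `Fin (m + m) → F` -/
theorem geoS_of_SJ [Fintype F] (S : SJ m J d) : GeoS m J := by
  have hJS := sbJS S
  have hBf : ∀ (x : Fin m ⊕ Fin m → F) (u : Fin (m + m) → F),
      QuadraticMap.polar (⇑(sbQ J)) (sbPhi F m x) u = Bf J x ((sbPhi F m).symm u) := by
    intro x u
    rw [sb_polar S, LinearEquiv.symm_apply_apply]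
  refine ⟨?_, ?_, ?_⟩
  · intro k vs hk
    obtain ⟨e, f, he, hf, hef, h1, h2⟩ :=
      Cfsg.Agent.Lib.H11.OrMax.exists_hyp_perp (sbQ J) hJS.hQ (fun i => sbPhi F m (vs i))
        (by omega)
    refine ⟨(sbPhi F m).symm e, (sbPhi F m).symm f, (sb_sing_iff S e).2 he, (sb_sing_iff S f).2 hf, ?_,
      fun i => ?_, fun i => ?_⟩
    · rw [← sb_polar S]; exact hef
    · rw [← hBf]; exact h1 i
    · rw [← hBf]; exact h2 i
  · intro k vs hk y hy
    have hy' : sbPhi F m y ∉ Submodule.span F (Set.range fun i => sbPhi F m (vs i)) := by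
      intro h
      apply hy
      have hr : (Set.range fun i => sbPhi F m (vs i)) =
          (sbPhi F m).toLinearMap '' Set.range vs := by
        rw [← Set.range_comp]; rfl
      rw [hr] at h
      exact (Submodule.apply_mem_span_image_iff_mem_span
        (f := (sbPhi F m).toLinearMap) (sbPhi F m).injective).1 h
    obtain ⟨w, hw, h1, h2⟩ :=
      Cfsg.Agent.Lib.H25.Gu.exists_sing_sep' hJS.hQ (fun i => sbPhi F m (vs i)) (by omega)
        (sbPhi F m y) hy'
    refine ⟨(sbPhi F m).symm w, (sb_sing_iff S w).2 hw, fun i => ?_, ?_⟩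
    · rw [← hBf]; exact h1 i
    · rw [sb_polar S, LinearEquiv.symm_apply_apply] at h2
      exact h2
  · intro k x hx t hk
    have hx' : LinearIndependent F (fun j => sbPhi F m (x j)) :=
      hx.map' (sbPhi F m).toLinearMap (sbPhi F m).ker
    obtain ⟨v, hv, h1⟩ :=
      Cfsg.Agent.Lib.H24.OSf.exists_sing_pairing hJS.hQ (fun j => sbPhi F m (x j)) hx' t (by omega)
    refine ⟨(sbPhi F m).symm v, (sb_sing_iff S v).2 hv, fun j => ?_⟩
    have := h1 j
    rw [sb_polar S, LinearEquiv.symm_apply_apply] at this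
    exact this

end Cfsg.Agent.Lib.H3.Gs
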