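import Mathlib
import Cfsg.Agent.Lib.H10.GuA
import Cfsg.Agent.Lib.H13.AschEOGen
import Cfsg.Agent.Lib.H13.AschEOB45

/-!
# S5700 (helper10 architect), piece (A) (helper3): a matrix mapping every singular vector `a` into
`span {a, J a}` lies in `F + F J`.
-/

set_option autoImplicit false
set_option linter.unusedSimpArgs false
set_option linter.unusedSectionVars false
set_option linter.unusedVariables false

namespace Cfsg.Agent.Lib.H3.Gu

open Matrix Module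
open Cfsg Cfsg.Geo
open Cfsg.Agent.Lib.H28 Cfsg.Agent.Lib.H11.SubspMax
open Cfsg.Agent.Lib.H11.CD Cfsg.Agent.Lib.H11.SiegelGen Cfsg.Agent.Lib.H11.OrMax
open Cfsg.Agent.Lib.H11.OmTs Cfsg.Agent.Lib.H24.OSf
open Cfsg.Agent.Lib.H10.Gu

variable {F : Type*} [Field F] [Fintype F] {n : ℕ} {Q : QuadraticForm F (Fin n → F)}
  {J : Matrix (Fin n) (Fin n) F} {t N : F}

set_option quotPrecheck false in
local notation "P" => QuadraticMap.polar (⇑Q)

/-- independence of `a, J a, e, J e` when `e ⊥ K a` has a hyperbolic partner `f ⊥ K a` -/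
theorem A_indep (S : JS Q J t N) {a e f : Fin n → F} (ha0 : a ≠ 0) (hef : P e f = 1)
    (haf : P a f = 0) (hJaf : P (J *ᵥ a) f = 0) {x y z w : F}
    (h : x • a + y • J *ᵥ a + z • e + w • J *ᵥ e = 0) : x = 0 ∧ y = 0 ∧ z = 0 ∧ w = 0 := by
  obtain ⟨haJf, hJaJf⟩ := S.perp_J haf hJaf
  have h1 : P (x • a + y • J *ᵥ a + z • e + w • J *ᵥ e) f = 0 := by
    rw [h]; simp
  have h2 : P (x • a + y • J *ᵥ a + z • e + w • J *ᵥ e) (J *ᵥ f) = 0 := by
    rw [h]; simp
  simp only [QuadraticMap.polar_add_left, QuadraticMap.polar_smul_left, smul_eq_mul, haf, hJaf,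
    hef, haJf, hJaJf, S.PJJ, S.PJ e f, mul_zero, zero_add, mul_one] at h1 h2
  have hw : w * ((P e (J *ᵥ f)) ^ 2 - t * P e (J *ᵥ f) + N) = 0 := by
    linear_combination h2 - P e (J *ᵥ f) * h1
  have hw0 : w = 0 := (mul_eq_zero.1 hw).resolve_right (S.irr _)
  have hz0 : z = 0 := by
    rw [hw0] at h1
    linear_combination h1
  rw [hw0, hz0, zero_smul, zero_smul, add_zero, add_zero] at h
  obtain ⟨hx, hy⟩ := S.comb_eq_zero ha0 h
  exact ⟨hx, hy, hz0, hw0⟩

/-- two orthogonal independent singular `K`-points have the same coefficients -/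
theorem A_same (S : JS Q J t N) (J' : Matrix (Fin n) (Fin n) F)
    (hall : ∀ a : Fin n → F, a ≠ 0 → Q a = 0 → ∃ α β : F, J' *ᵥ a = α • a + β • J *ᵥ a)
    {a e f : Fin n → F} (ha0 : a ≠ 0) (ha : Q a = 0) (he : Q e = 0) (hef : P e f = 1)
    (hae : P a e = 0) (haf : P a f = 0) (hJaf : P (J *ᵥ a) f = 0) {α β α' β' : F}
    (h1 : J' *ᵥ a = α • a + β • J *ᵥ a) (h2 : J' *ᵥ e = α' • e + β' • J *ᵥ e) :
    α = α' ∧ β = β' := by
  have hae0 : a + e ≠ 0 := by
    intro h0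
    have := A_indep S ha0 hef haf hJaf (x := 1) (y := 0) (z := 1) (w := 0)
      (by rw [one_smul, one_smul, zero_smul, zero_smul, add_zero, add_zero]; exact h0)
    exact one_ne_zero this.1
  have hQae : Q (a + e) = 0 := by rw [Q_add, ha, he, hae]; ring
  obtain ⟨α'', β'', h3⟩ := hall (a + e) hae0 hQae
  rw [Matrix.mulVec_add, Matrix.mulVec_add, h1, h2] at h3
  have h4 : (α - α'') • a + (β - β'') • J *ᵥ a + (α' - α'') • e + (β' - β'') • J *ᵥ e = 0 := by
    simp only [sub_smul, smul_add] at h3 ⊢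
    linear_combination (exp := 1) h3
  obtain ⟨hx, hy, hz, hw⟩ := A_indep S ha0 hef haf hJaf h4
  exact ⟨by rw [sub_eq_zero.1 hx, sub_eq_zero.1 hz], by rw [sub_eq_zero.1 hy, sub_eq_zero.1 hw]⟩

/-- (A) a matrix preserving every singular `K`-line lies in `K = F + F J` -/
theorem exists_bad (S : JS Q J t N) (J' : Matrix (Fin n) (Fin n) F)
    (hJ' : ¬ ∃ α β : F, J' = α • (1 : Matrix (Fin n) (Fin n) F) + β • J) :
    ∃ a : Fin n → F, a ≠ 0 ∧ Q a = 0 ∧ ¬ ∃ α β : F, J' *ᵥ a = α • a + β • J *ᵥ a := by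
  by_contra hcon
  have hall : ∀ a : Fin n → F, a ≠ 0 → Q a = 0 → ∃ α β : F, J' *ᵥ a = α • a + β • J *ᵥ a := by
    intro a ha0 ha
    by_contra h
    exact hcon ⟨a, ha0, ha, h⟩
  have hn := S.hn
  -- a first singular vector
  obtain ⟨a₀, f₀, hQa₀, -, ha₀f₀, -, -⟩ :=
    exists_hyp_perp Q S.hQ (k := 0) (fun i => i.elim0) (by omega)
  have ha₀0 : a₀ ≠ 0 := by
    intro h0
    rw [h0] at ha₀f₀
    simp at ha₀f₀
  obtain ⟨α₀, β₀, h₀⟩ := hall a₀ ha₀0 hQa₀
  apply hJ'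
  refine ⟨α₀, β₀, ?_⟩
  -- all singular vectors have the same coefficients
  have hsing : ∀ u : Fin n → F, Q u = 0 → J' *ᵥ u = α₀ • u + β₀ • J *ᵥ u := by
    intro u hu
    by_cases hu0 : u = 0
    · rw [hu0]; simp
    obtain ⟨α, β, h1⟩ := hall u hu0 hu
    obtain ⟨e, f, hQe, hQf, hef, hve, hvf⟩ := exists_hyp_perp Q S.hQ (k := 4)
      ![a₀, J *ᵥ a₀, u, J *ᵥ u] (by omega)
    have he0 : e ≠ 0 := by
      intro h0
      rw [h0] at hef
      simp at hef
    obtain ⟨α', β', h2⟩ := hall e he0 hQe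
    have e0 := hve 0
    have e2 := hve 2
    have f0 := hvf 0
    have f1 := hvf 1
    have f2 := hvf 2
    have f3 := hvf 3
    simp only [Matrix.cons_val_zero, Matrix.cons_val_one, Matrix.cons_val_two, Matrix.cons_val_three,
      Matrix.head_cons, Matrix.tail_cons] at e0 e2 f0 f1 f2 f3
    obtain ⟨hα, hβ⟩ := A_same S J' hall ha₀0 hQa₀ hQe hef e0 f0 f1 h₀ h2
    obtain ⟨hα', hβ'⟩ := A_same S J' hall hu0 hu hQe hef e2 f2 f3 h1 h2
    rw [h1, hα', hβ', ← hα, ← hβ]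
  -- the singular vectors span
  have htop := Cfsg.Agent.Lib.H13.EOP2.eq_top_of_all_sing S.hQ (by omega)
    (LinearMap.ker (Matrix.toLin' (J' - (α₀ • (1 : Matrix (Fin n) (Fin n) F) + β₀ • J))))
    (by
      intro u hu
      rw [LinearMap.mem_ker, Matrix.toLin'_apply, Matrix.sub_mulVec, Matrix.add_mulVec,
        Matrix.smul_mulVec, Matrix.smul_mulVec, Matrix.one_mulVec, hsing u hu, sub_self])
  have h0 : Matrix.toLin' (J' - (α₀ • (1 : Matrix (Fin n) (Fin n) F) + β₀ • J)) = 0 :=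
    LinearMap.ker_eq_top.1 htop
  have h1 : J' - (α₀ • (1 : Matrix (Fin n) (Fin n) F) + β₀ • J) = 0 :=
    (LinearEquiv.map_eq_zero_iff Matrix.toLin').1 h0
  exact sub_eq_zero.1 h1

end Cfsg.Agent.Lib.H3.Gu
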