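import Mathlib
import Cfsg.Agent.Lib.H3.GsSB1
import Cfsg.Agent.Lib.H3.GuA1

/-!
# S5665 (helper25 architect), piece (SB2) (helper3): a matrix mapping every singular `a` into `K a`
lies in `K` (transport of `Cfsg.Agent.Lib.H3.Gu.exists_bad` to the index type `Fin m ⊕ Fin m`).
-/

set_option autoImplicit false
set_option linter.unusedSimpArgs false
set_option linter.unusedSectionVars false
set_option linter.unusedVariables false

namespace Cfsg.Agent.Lib.H3.Gs

open Matrix Module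
open Cfsg Cfsg.Geo
open Cfsg.Agent.Lib.H11.SubspMax
open Cfsg.Agent.Lib.H25.Gs

variable {F : Type*} [Field F] {m : ℕ} {J : Matrix (Fin m ⊕ Fin m) (Fin m ⊕ Fin m) F} {d : F}

/-- **(SB2)** a matrix mapping every singular `a` into `K a` lies in `K` -/
theorem exists_bad_s [Fintype F] (S : SJ m J d) (J' : Matrix (Fin m ⊕ Fin m) (Fin m ⊕ Fin m) F)
    (hJ' : ¬ ∃ α β : F, J' = α • (1 : Matrix (Fin m ⊕ Fin m) (Fin m ⊕ Fin m) F) + β • J) :
    ∃ a : Fin m ⊕ Fin m → F, a ≠ 0 ∧ Sing J a ∧ ¬ InK J a (J' *ᵥ a) := by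
  have hJS := sbJS S
  have h' : ¬ ∃ α β : F, sbMat J' = α • (1 : Matrix (Fin (m + m)) (Fin (m + m)) F) + β • sbMat J := by
    rintro ⟨α, β, h⟩
    apply hJ'
    refine ⟨α, β, ?_⟩
    have h1 := congrArg (Matrix.reindex (finSumFinEquiv (m := m) (n := m)).symm
      (finSumFinEquiv (m := m) (n := m)).symm) h
    simp only [sbMat, Matrix.reindex_apply, Equiv.symm_symm, Matrix.submatrix_submatrix,
      Equiv.symm_comp_self, Matrix.submatrix_id_id, Matrix.submatrix_add, Matrix.submatrix_smul,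
      Matrix.submatrix_one_equiv] at h1
    simpa using h1
  obtain ⟨a, ha0, hQa, hbad⟩ := Cfsg.Agent.Lib.H3.Gu.exists_bad hJS (sbMat J') h'
  refine ⟨(sbPhi F m).symm a, fun h => ha0 ((sbPhi F m).symm.map_eq_zero_iff.1 h),
    (sb_sing_iff S a).2 hQa, ?_⟩
  rintro ⟨α, β, h⟩
  apply hbad
  refine ⟨α, β, ?_⟩
  apply (sbPhi F m).symm.injective
  rw [sbMat_mulVec, h, map_add, map_smul, map_smul, sbMat_mulVec]

end Cfsg.Agent.Lib.H3.Gs
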