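import Cfsg.Agent.Lib.H3.HallSystem
import Mathlib

/-!
helper3 library: system normalizers of Hall complement systems are nilpotent.
-/

set_option autoImplicit false
open scoped Pointwise

namespace Cfsg.Agent.Lib.H3

variable {G : Type*} [Group G]

/-- If `P` normalizes `K` then `[P : P ∩ K]` divides `[G : K]`. -/
theorem relIndex_dvd_index_of_le_normalizer {P K : Subgroup G}
    (h : P ≤ Subgroup.normalizer (K : Set G)) : K.relIndex P ∣ K.index := by
  set E := P ⊔ K with hE
  have hPE : P ≤ E := le_sup_left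
  have hKE : K ≤ E := le_sup_right
  have hn : (K.subgroupOf E).Normal :=
    (Subgroup.normal_subgroupOf_iff_le_normalizer hKE).2 (sup_le h Subgroup.le_normalizer)
  have h1 : K.relIndex P = K.relIndex E := by
    rw [← Subgroup.relIndex_subgroupOf (H := K) hPE]
    have h2 := Subgroup.relIndex_sup_right (P.subgroupOf E) (K.subgroupOf E)
    rw [← Subgroup.subgroupOf_sup hPE hKE, ← hE, Subgroup.subgroupOf_self,
      Subgroup.relIndex_top_right] at h2
    rw [← h2]; rfl
  rw [h1]
  exact Subgroup.relIndex_dvd_index_of_le hKE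

/-- A `q`-subgroup normalizing a Hall `r'`-subgroup (`r ≠ q`) is contained in it. -/
theorem le_complement_of_isPGroup [Finite G] {K : Nat.Primes → Subgroup G}
    (hK : Cfsg.IsComplementSystem K) {q : ℕ} [Fact q.Prime] {P : Subgroup G} (hP : IsPGroup q P)
    (r : Nat.Primes) (hrq : (r : ℕ) ≠ q) (hPN : P ≤ Subgroup.normalizer (K r : Set G)) :
    P ≤ K r := by
  rw [← Subgroup.relIndex_eq_one]
  have h1 := relIndex_dvd_index_of_le_normalizer hPN
  have h2 := Subgroup.relIndex_dvd_card (K r) P
  rw [hK r] at h1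
  obtain ⟨k, hk⟩ := IsPGroup.iff_card.1 hP
  rw [hk] at h2
  have hcop : (q ^ k).Coprime ((r : ℕ) ^ (Nat.card G).factorization r) := by
    apply Nat.coprime_pow_primes _ _ Fact.out r.2
    exact fun h => hrq h.symm
  exact Nat.eq_one_of_dvd_coprimes hcop h2 h1

/-- The intersection of the Hall `r'`-subgroups, `r ≠ q`, is a `q`-group. -/
theorem isPGroup_iInf_complement [Finite G] {K : Nat.Primes → Subgroup G}
    (hK : Cfsg.IsComplementSystem K) (q : ℕ) [Fact q.Prime] :
    IsPGroup q (⨅ r : {r : Nat.Primes // (r : ℕ) ≠ q}, K r.1 : Subgroup G) := by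
  set B : Subgroup G := ⨅ r : {r : Nat.Primes // (r : ℕ) ≠ q}, K r.1 with hB
  have hG0 : Nat.card G ≠ 0 := Nat.card_pos.ne'
  have huniq : ∀ {d : ℕ}, d.Prime → d ∣ Nat.card B → d = q := by
    intro d hd hdB
    by_contra hdq
    have hle : B ≤ K ⟨d, hd⟩ := iInf_le (fun r : {r : Nat.Primes // (r : ℕ) ≠ q} => K r.1)
      ⟨⟨d, hd⟩, hdq⟩
    have h1 : d ∣ Nat.card (K ⟨d, hd⟩) := hdB.trans (Subgroup.card_dvd_of_le hle)
    -- card (K d) * d^a = card G, so d-adic valuation of card (K d) is zero
    have h2 := Subgroup.index_mul_card (K ⟨d, hd⟩)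
    rw [hK ⟨d, hd⟩] at h2
    obtain ⟨a, ha⟩ : ∃ a : ℕ, a = (Nat.card G).factorization d := ⟨_, rfl⟩
    have h2' : d ^ a * Nat.card (K ⟨d, hd⟩) = Nat.card G := by rw [ha]; exact h2
    have h3 : d ^ (a + 1) ∣ Nat.card G := by
      rw [← h2', pow_succ]
      exact Nat.mul_dvd_mul_left _ h1
    rw [ha] at h3
    have h4 := (Nat.Prime.pow_dvd_iff_le_factorization hd hG0).1 h3
    omega
  have hpow := Nat.eq_prime_pow_of_unique_prime_dvd (Nat.card_pos (α := B)).ne' huniq
  exact IsPGroup.of_card hpow

theorem systemNormalizer_le_normalizer (K : Nat.Primes → Subgroup G) (p : Nat.Primes) :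
    Cfsg.systemNormalizer K ≤ Subgroup.normalizer (K p : Set G) :=
  iInf_le (fun p : Nat.Primes => Subgroup.normalizer (K p : Set G)) p

/-- The system normalizer of a Hall complement system is nilpotent. -/
theorem systemNormalizer_isNilpotent [Finite G] {K : Nat.Primes → Subgroup G}
    (hK : Cfsg.IsComplementSystem K) : Group.IsNilpotent (Cfsg.systemNormalizer K) := by
  set D := Cfsg.systemNormalizer K with hD
  apply (Group.isNilpotent_of_finite_tfae (G := D)).out 3 0 |>.1
  intro q hq P
  set B : Subgroup G := ⨅ r : {r : Nat.Primes // (r : ℕ) ≠ q}, K r.1 with hB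
  have hBq : IsPGroup q B := isPGroup_iInf_complement hK q
  -- the normal `q`-subgroup `T = (B ⊓ D).subgroupOf D` of `D`
  set T : Subgroup D := B.subgroupOf D with hT
  have hTq : IsPGroup q T := hBq.comap_of_injective D.subtype D.subtype_injective
  have hTn : T.Normal := by
    constructor
    intro x hx d
    rw [hT, Subgroup.mem_subgroupOf] at hx ⊢
    rw [hB, Subgroup.mem_iInf] at hx ⊢
    intro r
    have hd : (d : G) ∈ Subgroup.normalizer (K r.1 : Set G) :=
      systemNormalizer_le_normalizer K r.1 d.2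
    have := (Subgroup.mem_normalizer_iff.1 hd (x : G)).1 (hx r)
    simpa using this
  have hPT : (P : Subgroup D) ≤ T := by
    intro x hx
    rw [hT, Subgroup.mem_subgroupOf, hB, Subgroup.mem_iInf]
    intro r
    have hP' : IsPGroup q ((P : Subgroup D).map D.subtype) := P.isPGroup'.map D.subtype
    have hle : (P : Subgroup D).map D.subtype ≤ Subgroup.normalizer (K r.1 : Set G) :=
      (Subgroup.map_subtype_le _).trans (systemNormalizer_le_normalizer K r.1)
    exact le_complement_of_isPGroup hK hP' r.1 r.2 hle ⟨x, hx, rfl⟩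
  have := P.is_maximal' hTq hPT
  rw [← this]
  exact hTn

end Cfsg.Agent.Lib.H3
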