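import Mathlib
import Cfsg.Agent.Lib.H3.Offender
set_option autoImplicit false
open scoped commutatorElement
namespace Cfsg.Agent.Lib.H3

section maps
variable {Γ Γ' : Type*} [Group Γ] [Group Γ'] (f : Γ →* Γ') (hf : Function.Injective f)

include hf in
theorem map_inf_centralizer_map (V B : Subgroup Γ) :
    V.map f ⊓ Subgroup.centralizer ((B.map f : Subgroup Γ') : Set Γ') =
      (V ⊓ Subgroup.centralizer (B : Set Γ)).map f := by
  ext x
  constructor
  · rintro ⟨⟨v, hv, rfl⟩, hx⟩
    refine ⟨v, ⟨hv, ?_⟩, rfl⟩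
    show v ∈ Subgroup.centralizer (B : Set Γ)
    rw [Subgroup.mem_centralizer_iff]
    intro b hb
    apply hf
    rw [map_mul, map_mul]
    exact Subgroup.mem_centralizer_iff.1 hx (f b) ⟨b, hb, rfl⟩
  · rintro ⟨v, ⟨hv, hvB⟩, rfl⟩
    refine ⟨⟨v, hv, rfl⟩, ?_⟩
    show f v ∈ Subgroup.centralizer ((B.map f : Subgroup Γ') : Set Γ')
    rw [Subgroup.mem_centralizer_iff]
    rintro _ ⟨b, hb, rfl⟩
    rw [← map_mul, ← map_mul, Subgroup.mem_centralizer_iff.1 hvB b hb]

theorem map_centralizer_le (V : Subgroup Γ) :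
    (Subgroup.centralizer (V : Set Γ)).map f ≤
      Subgroup.centralizer ((V.map f : Subgroup Γ') : Set Γ') := by
  rintro _ ⟨c, hc, rfl⟩
  rw [Subgroup.mem_centralizer_iff]
  rintro _ ⟨v, hv, rfl⟩
  rw [← map_mul, ← map_mul, Subgroup.mem_centralizer_iff.1 hc v hv]

include hf in
theorem isBestOffenderOn_map {p : ℕ} {V A : Subgroup Γ} (hA : Cfsg.IsBestOffenderOn p V A) :
    Cfsg.IsBestOffenderOn p (V.map f) (A.map f) := by
  refine ⟨?_, ?_, ?_⟩
  · intro B' hB'
    set B := B'.comap f with hB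
    have hB'r : B' ≤ f.range := hB'.trans (Subgroup.map_le_range f A)
    have h1 : B.map f = B' := by
      rw [hB, Subgroup.map_comap_eq]
      exact inf_eq_right.2 hB'r
    have hBA : B ≤ A := by
      intro b hb
      obtain ⟨a, ha, hab⟩ := hB' (show f b ∈ B' from hb)
      rw [← hf hab]; exact ha
    have h2 := hA.1 B hBA
    rw [← h1, map_inf_centralizer_map f hf, map_inf_centralizer_map f hf,
      Subgroup.card_map_of_injective hf, Subgroup.card_map_of_injective hf,
      Subgroup.card_map_of_injective hf, Subgroup.card_map_of_injective hf]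
    exact h2
  · rw [← Subgroup.map_commutator]
    exact (Subgroup.map_mono hA.2.1).trans (map_centralizer_le f V)
  · rintro _ ⟨a, ha, rfl⟩
    rw [← map_pow]
    exact map_centralizer_le f V ⟨_, hA.2.2 a ha, rfl⟩

include hf in
theorem FFS.map {p : ℕ} {V H Q : Subgroup Γ} (h : FFS p V H Q) :
    FFS p (V.map f) (H.map f) (Q.map f) := by
  refine ⟨elemAb_map f h.hV, ?_, ?_, Subgroup.map_mono h.hQH, ?_, ?_, ?_⟩
  · exact (Subgroup.map_mono h.hHV).trans (Subgroup.le_normalizer_map f)
  · have := map_inf_centralizer_map f hf H V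
    rw [this, h.hf, Subgroup.map_bot]
  · exact (Subgroup.map_mono h.hQn).trans (Subgroup.le_normalizer_map f)
  · rw [Subgroup.card_map_of_injective hf]; exact h.hQp
  · rw [map_inf_centralizer_map f hf]
    exact Subgroup.map_mono h.hQc

include hf in
theorem hS3_map {p : ℕ} {V H : Subgroup Γ}
    (hS3 : H = ⨆ A : {A : Subgroup Γ // A ≤ H ∧ Cfsg.IsBestOffenderOn p V A}, (A : Subgroup Γ)) :
    H.map f = ⨆ A : {A : Subgroup Γ' // A ≤ H.map f ∧ Cfsg.IsBestOffenderOn p (V.map f) A},
      (A : Subgroup Γ') := by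
  apply le_antisymm
  · conv_lhs => rw [hS3]
    rw [Subgroup.map_iSup]
    apply iSup_le
    intro A
    exact le_iSup (fun A : {A : Subgroup Γ' // A ≤ H.map f ∧
      Cfsg.IsBestOffenderOn p (V.map f) A} => (A : Subgroup Γ'))
      ⟨A.1.map f, Subgroup.map_mono A.2.1, isBestOffenderOn_map f hf A.2.2⟩
  · apply iSup_le
    intro A
    exact A.2.1

end maps

end Cfsg.Agent.Lib.H3
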