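import Mathlib
import Cfsg.Agent.Lib.H3.Hol1
import Cfsg.Agent.Lib.H3.QT4
set_option autoImplicit false
open scoped commutatorElement
namespace Cfsg.Agent.Lib.H3.Hol

variable {G : Type*} [Group G] (U : Subgroup G)

/-- the holomorph of `U`. -/
abbrev Hol : Type _ := ↥U ⋊[MonoidHom.id (MulAut ↥U)] MulAut ↥U

instance [Finite G] : Finite (Hol U) := Finite.of_equiv _ SemidirectProduct.equivProd.symm

/-- the map `N_G(U) → Hol U`. -/
noncomputable def Th : ↥(Subgroup.normalizer (U : Set G)) →* Hol U :=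
  (SemidirectProduct.inr : MulAut ↥U →* Hol U).comp U.normalizerMonoidHom

/-- the image of `U` in its holomorph. -/
noncomputable def Uh : Subgroup (Hol U) := (SemidirectProduct.inl : ↥U →* Hol U).range

instance Uh_normal : (Uh U).Normal := by
  unfold Uh
  rw [SemidirectProduct.range_inl_eq_ker_rightHom]
  infer_instance

theorem Th_conj_inl (n : ↥(Subgroup.normalizer (U : Set G))) (u : ↥U) :
    Th U n * SemidirectProduct.inl u * (Th U n)⁻¹ =
      SemidirectProduct.inl (⟨n * u * (n : G)⁻¹, (n.2 u).1 u.2⟩ : ↥U) := by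
  unfold Th
  rw [MonoidHom.comp_apply, ← map_inv, ← SemidirectProduct.inl_aut]
  rfl

theorem Th_ker : (Th U).ker =
    (Subgroup.centralizer (U : Set G)).subgroupOf (Subgroup.normalizer (U : Set G)) := by
  unfold Th
  rw [← Subgroup.normalizerMonoidHom_ker]
  ext x
  rw [MonoidHom.mem_ker, MonoidHom.mem_ker, MonoidHom.comp_apply,
    ← map_one (SemidirectProduct.inr : MulAut ↥U →* Hol U),
    SemidirectProduct.inr_injective.eq_iff]

theorem Th_eq_one_iff (n : ↥(Subgroup.normalizer (U : Set G))) :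
    Th U n = 1 ↔ (n : G) ∈ Subgroup.centralizer (U : Set G) := by
  rw [← MonoidHom.mem_ker, Th_ker, Subgroup.mem_subgroupOf]

/-- the image in `Hol U` of a subgroup of `G` (intersected with the normalizer). -/
noncomputable def im (A : Subgroup G) : Subgroup (Hol U) :=
  (A.subgroupOf (Subgroup.normalizer (U : Set G))).map (Th U)

theorem mem_im {A : Subgroup G} {x : Hol U} :
    x ∈ im U A ↔ ∃ a, ∃ ha : a ∈ Subgroup.normalizer (U : Set G), a ∈ A ∧ x = Th U ⟨a, ha⟩ := by
  unfold im
  constructor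
  · rintro ⟨⟨a, ha⟩, haA, rfl⟩
    exact ⟨a, ha, haA, rfl⟩
  · rintro ⟨a, ha, haA, rfl⟩
    exact ⟨⟨a, ha⟩, haA, rfl⟩

theorem im_mono {A B : Subgroup G} (h : A ≤ B) : im U A ≤ im U B := by
  intro x hx
  obtain ⟨a, ha, haA, rfl⟩ := (mem_im U).1 hx
  exact (mem_im U).2 ⟨a, ha, h haA, rfl⟩

/-- an element normalizing `U` and `B` normalizes the image of `B`. -/
theorem Th_mem_normalizer_im {B : Subgroup G} (x : ↥(Subgroup.normalizer (U : Set G)))
    (hx : (x : G) ∈ Subgroup.normalizer (B : Set G)) :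
    Th U x ∈ Subgroup.normalizer ((im U B : Subgroup (Hol U)) : Set (Hol U)) := by
  unfold im
  apply Subgroup.le_normalizer_map
  refine ⟨x, ?_, rfl⟩
  show x ∈ Subgroup.normalizer ((B.subgroupOf (Subgroup.normalizer (U : Set G)) :
    Subgroup ↥(Subgroup.normalizer (U : Set G))) : Set ↥(Subgroup.normalizer (U : Set G)))
  rw [Subgroup.mem_normalizer_iff]
  intro b
  rw [Subgroup.mem_subgroupOf, Subgroup.mem_subgroupOf]
  exact (Subgroup.mem_normalizer_iff.1 hx b)

theorem im_le_normalizer_im {X B : Subgroup G} (hXB : X ≤ Subgroup.normalizer (B : Set G)) :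
    im U X ≤ Subgroup.normalizer ((im U B : Subgroup (Hol U)) : Set (Hol U)) := by
  intro y hy
  obtain ⟨x, hx, hxX, rfl⟩ := (mem_im U).1 hy
  exact Th_mem_normalizer_im U ⟨x, hx⟩ (hXB hxX)

theorem le_normalizer_Uh (Y : Subgroup (Hol U)) :
    Y ≤ Subgroup.normalizer ((Uh U : Subgroup (Hol U)) : Set (Hol U)) := by
  rw [Subgroup.normalizer_eq_top]
  exact le_top

/-- elements of `U` whose image is centralized by the image of `A ≤ N_G(U)`. -/
theorem inl_mem_centralizer_im {A : Subgroup G} (hA : A ≤ Subgroup.normalizer (U : Set G))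
    (u : ↥U) :
    (SemidirectProduct.inl u : Hol U) ∈
      Subgroup.centralizer ((im U A : Subgroup (Hol U)) : Set (Hol U)) ↔
      (u : G) ∈ Subgroup.centralizer (A : Set G) := by
  constructor
  · intro h
    rw [Subgroup.mem_centralizer_iff]
    intro a ha
    have h1 := Subgroup.mem_centralizer_iff.1 h _ ((mem_im U).2 ⟨a, hA ha, ha, rfl⟩)
    have h2 := Th_conj_inl U ⟨a, hA ha⟩ u
    rw [h1] at h2
    have h3 : (SemidirectProduct.inl u : Hol U) = SemidirectProduct.inl
        (⟨a * u * a⁻¹, ((hA ha) u).1 u.2⟩ : ↥U) := by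
      rw [← h2]; group
    have h4 := congrArg Subtype.val (SemidirectProduct.inl_injective h3)
    simp only at h4
    calc a * (u : G) = (a * u * a⁻¹) * a := by group
      _ = u * a := by rw [← h4]
  · intro h
    rw [Subgroup.mem_centralizer_iff]
    intro y hy
    obtain ⟨a, ha, haA, rfl⟩ := (mem_im U).1 hy
    have h1 := Subgroup.mem_centralizer_iff.1 h a haA
    have h2 := Th_conj_inl U ⟨a, ha⟩ u
    have h3 : (⟨a * u * a⁻¹, (ha u).1 u.2⟩ : ↥U) = u := by
      apply Subtype.ext
      show a * (u : G) * a⁻¹ = u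
      rw [h1]; group
    simp only at h2
    rw [h3] at h2
    calc Th U ⟨a, ha⟩ * SemidirectProduct.inl u
        = (Th U ⟨a, ha⟩ * SemidirectProduct.inl u * (Th U ⟨a, ha⟩)⁻¹) * Th U ⟨a, ha⟩ := by group
      _ = SemidirectProduct.inl u * Th U ⟨a, ha⟩ := by rw [h2]

end Cfsg.Agent.Lib.H3.Hol
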