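import Mathlib
import Cfsg.Agent.Lib.H3.Hol2
set_option autoImplicit false
open scoped commutatorElement
namespace Cfsg.Agent.Lib.H3.Hol

variable {G : Type*} [Group G] (K : Subgroup G) (V : Subgroup ↥K) [hVn : V.Normal]

/-- the image of `V ≤ K` in `G`. -/
abbrev UU : Subgroup G := V.map K.subtype

theorem K_le_normalizer_UU : K ≤ Subgroup.normalizer ((UU K V : Subgroup G) : Set G) := by
  intro k hk
  rw [Subgroup.mem_normalizer_iff]
  intro g
  constructor
  · rintro ⟨v, hv, rfl⟩
    exact ⟨⟨k, hk⟩ * v * ⟨k, hk⟩⁻¹, hVn.conj_mem v hv ⟨k, hk⟩, rfl⟩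
  · rintro ⟨v, hv, hvg⟩
    refine ⟨⟨k, hk⟩⁻¹ * v * ⟨k, hk⟩, ?_, ?_⟩
    · have := hVn.conj_mem v hv ⟨k, hk⟩⁻¹
      simpa using this
    · have h1 : K.subtype (⟨k, hk⟩⁻¹ * v * ⟨k, hk⟩) = k⁻¹ * (v : G) * k := rfl
      rw [h1]
      have h2 : (v : G) = k * g * k⁻¹ := hvg
      rw [h2]; group

/-- `V ≃ U`. -/
noncomputable def fn : ↥V →* ↥(UU K V) :=
  (V.equivMapOfInjective K.subtype K.subtype_injective).toMonoidHom

theorem fn_coe (v : ↥V) : ((fn K V v : ↥(UU K V)) : G) = ((v : ↥K) : G) := rfl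

theorem fn_injective : Function.Injective (fn K V) :=
  (V.equivMapOfInjective K.subtype K.subtype_injective).injective

theorem fn_surjective : Function.Surjective (fn K V) :=
  (V.equivMapOfInjective K.subtype K.subtype_injective).surjective

/-- `K → Aut U`. -/
noncomputable def kact : ↥K →* MulAut ↥(UU K V) :=
  (UU K V).normalizerMonoidHom.comp (Subgroup.inclusion (K_le_normalizer_UU K V))

theorem kact_apply_coe (k : ↥K) (u : ↥(UU K V)) :
    ((kact K V k u : ↥(UU K V)) : G) = k * u * (k : G)⁻¹ := rfl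

theorem kact_ker : Subgroup.centralizer (V : Set ↥K) ≤ (kact K V).ker := by
  intro k hk
  rw [MonoidHom.mem_ker]
  ext u
  rw [kact_apply_coe, MulAut.one_apply]
  obtain ⟨v, hv, hvu⟩ := u.2
  have h1 := Subgroup.mem_centralizer_iff.1 hk v hv
  have h2 : ((v : ↥K) : G) * k = k * v := congrArg Subtype.val h1
  rw [← hvu]
  show (k : G) * (v : G) * (k : G)⁻¹ = v
  rw [← h2]; group

/-- `K / C_K(V) → Aut U`. -/
noncomputable def fg : ↥K ⧸ Subgroup.centralizer (V : Set ↥K) →* MulAut ↥(UU K V) :=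
  QuotientGroup.lift _ (kact K V) (kact_ker K V)

theorem fg_mk (k : ↥K) : fg K V (QuotientGroup.mk k) = kact K V k := by
  unfold fg
  rw [QuotientGroup.lift_mk]

theorem compat (x : ↥K ⧸ Subgroup.centralizer (V : Set ↥K)) :
    (fn K V).comp (QT.act V x).toMonoidHom =
      ((MonoidHom.id (MulAut ↥(UU K V))) (fg K V x)).toMonoidHom.comp (fn K V) := by
  induction x using QuotientGroup.induction_on with
  | H k =>
    ext v
    simp only [MonoidHom.comp_apply, MulEquiv.coe_toMonoidHom, MonoidHom.id_apply]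
    rw [fg_mk, kact_apply_coe, fn_coe, fn_coe]
    have := QT.act_mk V k v
    rw [this]
    rfl

/-- the embedding `Gam V → Hol U`. -/
noncomputable def iot : QT.Gam V →* Hol (UU K V) :=
  SemidirectProduct.map (fn K V) (fg K V) (compat K V)

theorem iot_inl (v : ↥V) : iot K V (SemidirectProduct.inl v) = SemidirectProduct.inl (fn K V v) := by
  unfold iot
  rw [SemidirectProduct.map_inl]

theorem iot_toGam (k : ↥K) :
    iot K V (QT.toGam V k) = Th (UU K V) ⟨k, K_le_normalizer_UU K V k.2⟩ := by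
  unfold iot QT.toGam Th
  rw [MonoidHom.comp_apply, MonoidHom.comp_apply, SemidirectProduct.map_inr,
    QuotientGroup.mk'_apply, fg_mk]
  rfl

theorem fg_injective : Function.Injective (fg K V) := by
  rw [injective_iff_map_eq_one]
  intro x hx
  induction x using QuotientGroup.induction_on with
  | H k =>
    rw [fg_mk] at hx
    rw [QuotientGroup.eq_one_iff, Subgroup.mem_centralizer_iff]
    intro v hv
    have h1 := congrArg (fun f : MulAut ↥(UU K V) => ((f (fn K V ⟨v, hv⟩) : ↥(UU K V)) : G)) hx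
    simp only [MulAut.one_apply] at h1
    rw [kact_apply_coe, fn_coe] at h1
    apply Subtype.ext
    show (v : G) * (k : G) = k * v
    have h2 : (k : G) * (v : G) * (k : G)⁻¹ = v := h1
    calc (v : G) * k = ((k : G) * v * (k : G)⁻¹) * k := by rw [h2]
      _ = k * v := by group

theorem iot_injective : Function.Injective (iot K V) := by
  rw [injective_iff_map_eq_one]
  intro x hx
  have h1 : (iot K V x).left = 1 := by rw [hx]; rfl
  have h2 : (iot K V x).right = 1 := by rw [hx]; rfl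
  unfold iot at h1 h2
  rw [SemidirectProduct.map_left] at h1
  rw [SemidirectProduct.map_right] at h2
  apply SemidirectProduct.ext
  · exact fn_injective K V (by rw [h1, SemidirectProduct.one_left, map_one])
  · exact fg_injective K V (by rw [h2, SemidirectProduct.one_right, map_one])

theorem map_Vh : (QT.Vh V).map (iot K V) = Uh (UU K V) := by
  unfold QT.Vh Uh
  ext x
  constructor
  · rintro ⟨_, ⟨v, rfl⟩, rfl⟩
    exact ⟨fn K V v, (iot_inl K V v).symm⟩
  · rintro ⟨u, rfl⟩
    obtain ⟨v, rfl⟩ := fn_surjective K V u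
    exact ⟨_, ⟨v, rfl⟩, iot_inl K V v⟩

theorem map_hat [Finite G] (A : Subgroup ↥K) :
    (QT.hat V A).map (iot K V) = im (UU K V) (A.map K.subtype) := by
  rw [QT.hat_eq_map]
  ext x
  constructor
  · rintro ⟨_, ⟨a, ha, rfl⟩, rfl⟩
    rw [iot_toGam]
    exact (mem_im _).2 ⟨a, K_le_normalizer_UU K V a.2, ⟨a, ha, rfl⟩, rfl⟩
  · intro hx
    obtain ⟨a, ha, ⟨a', ha', rfl⟩, rfl⟩ := (mem_im _).1 hx
    exact ⟨_, ⟨a', ha', rfl⟩, iot_toGam K V a'⟩

end Cfsg.Agent.Lib.H3.Hol
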