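import Mathlib
set_option autoImplicit false
namespace Cfsg.Agent.Lib.H3.Hol

variable {G : Type*} [Group G]

/-- the conjugation action of `X` on a coset `d N₀` that it stabilizes. -/
def cosetAction (X N₀ : Subgroup G) (hXN : X ≤ Subgroup.normalizer (N₀ : Set G)) (d : G)
    (hd : ∀ x ∈ X, d⁻¹ * (x * d * x⁻¹) ∈ N₀) :
    MulAction ↥X {g : G // d⁻¹ * g ∈ N₀} where
  smul x g := ⟨x * g * (x : G)⁻¹, by
    have h1 := hd x x.2
    have h2 := (Subgroup.mem_normalizer_iff.1 (hXN x.2) _).1 g.2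
    have h3 := N₀.mul_mem h1 h2
    have e : d⁻¹ * (x * d * (x : G)⁻¹) * (x * (d⁻¹ * g) * (x : G)⁻¹) =
        d⁻¹ * (x * g * (x : G)⁻¹) := by group
    rw [e] at h3
    exact h3⟩
  one_smul g := by
    apply Subtype.ext
    show ((1 : ↥X) : G) * g * ((1 : ↥X) : G)⁻¹ = g
    simp
  mul_smul x y g := by
    apply Subtype.ext
    show ((x * y : ↥X) : G) * g * ((x * y : ↥X) : G)⁻¹ = x * (y * g * (y : G)⁻¹) * (x : G)⁻¹
    rw [Subgroup.coe_mul]; group

/-- coprime lifting of fixed points. -/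
theorem exists_mem_centralizer_of_coset [Finite G] {q : ℕ} [Fact q.Prime] {X N₀ : Subgroup G}
    (hXq : IsPGroup q X) (hXN : X ≤ Subgroup.normalizer (N₀ : Set G)) (hq : ¬ q ∣ Nat.card N₀)
    {d : G} (hd : ∀ x ∈ X, d⁻¹ * (x * d * x⁻¹) ∈ N₀) :
    ∃ n ∈ N₀, d * n ∈ Subgroup.centralizer (X : Set G) := by
  letI := cosetAction X N₀ hXN d hd
  have hsmul : ∀ (x : ↥X) (g : {g : G // d⁻¹ * g ∈ N₀}),
      ((x • g : {g : G // d⁻¹ * g ∈ N₀}) : G) = x * g * (x : G)⁻¹ := fun _ _ => rfl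
  have hcard : Nat.card {g : G // d⁻¹ * g ∈ N₀} = Nat.card N₀ := by
    apply Nat.card_congr
    refine ⟨fun g => ⟨d⁻¹ * g, g.2⟩, fun n => ⟨d * n, by simp⟩, ?_, ?_⟩
    · intro g; apply Subtype.ext; simp
    · intro n; apply Subtype.ext; simp
  have hne := hXq.nonempty_fixed_point_of_prime_not_dvd_card {g : G // d⁻¹ * g ∈ N₀}
    (by rw [hcard]; exact hq)
  obtain ⟨g, hg⟩ := hne
  refine ⟨d⁻¹ * g, g.2, ?_⟩
  rw [Subgroup.mem_centralizer_iff]
  intro x hx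
  have h1 := congrArg Subtype.val (hg ⟨x, hx⟩)
  rw [hsmul] at h1
  simp only at h1
  have e : d * (d⁻¹ * (g : G)) = g := by group
  rw [e]
  calc x * (g : G) = (x * g * x⁻¹) * x := by group
    _ = g * x := by rw [h1]

end Cfsg.Agent.Lib.H3.Hol
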