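import Mathlib
import Cfsg.Agent.Lib.H3.Hol3
import Cfsg.Agent.Lib.H3.Hol5
import Cfsg.Agent.Lib.H3.OffenderE8
set_option autoImplicit false
open scoped commutatorElement
namespace Cfsg.Agent.Lib.H3.Hol

variable {G : Type*} [Group G]

theorem normalizer_le_normalizer_centralizer [Finite G] (U : Subgroup G) :
    Subgroup.normalizer (U : Set G) ≤
      Subgroup.normalizer ((Subgroup.centralizer (U : Set G) : Subgroup G) : Set G) := by
  intro x hx
  apply mem_normalizer_of_map_conj_le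
  rintro _ ⟨c, hc, rfl⟩
  exact conj_mem_centralizer_of_mem_normalizer hx hc

theorem Th_mul_inv_eq (U : Subgroup G) (a x : G) (ha : a ∈ Subgroup.normalizer (U : Set G))
    (hx : x ∈ Subgroup.normalizer (U : Set G))
    (h : a⁻¹ * (x * a * x⁻¹) ∈ Subgroup.normalizer (U : Set G)) :
    Th U ⟨a⁻¹ * (x * a * x⁻¹), h⟩ =
      (Th U ⟨a, ha⟩)⁻¹ * (Th U ⟨x, hx⟩ * Th U ⟨a, ha⟩ * (Th U ⟨x, hx⟩)⁻¹) := by
  rw [← map_inv, ← map_inv, ← map_mul, ← map_mul, ← map_mul]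
  rfl

/-- lifting elements of the image of `K` centralized by the image of `X`. -/
theorem exists_lift_of_mem_centralizer [Finite G] {q : ℕ} [Fact q.Prime] (U K X : Subgroup G)
    (hKU : K ≤ Subgroup.normalizer (U : Set G)) (hXU : X ≤ Subgroup.normalizer (U : Set G))
    (hXK : X ≤ Subgroup.normalizer (K : Set G)) (hXq : IsPGroup q X)
    (hq : ¬ q ∣ Nat.card K) {d' : Hol U} (hd'K : d' ∈ im U K)
    (hd'X : d' ∈ Subgroup.centralizer ((im U X : Subgroup (Hol U)) : Set (Hol U))) :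
    ∃ d, ∃ hd : d ∈ Subgroup.normalizer (U : Set G), d ∈ K ∧
      d ∈ Subgroup.centralizer (X : Set G) ∧ Th U ⟨d, hd⟩ = d' := by
  obtain ⟨a, ha, haK, rfl⟩ := (mem_im U).1 hd'K
  set N₀ := Subgroup.centralizer (U : Set G) ⊓ K with hN₀
  have hXN : X ≤ Subgroup.normalizer (N₀ : Set G) :=
    le_normalizer_inf (hXU.trans (normalizer_le_normalizer_centralizer U)) hXK
  have hq' : ¬ q ∣ Nat.card N₀ := fun h0 => hq (h0.trans (Subgroup.card_dvd_of_le inf_le_right))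
  have hd : ∀ x ∈ X, a⁻¹ * (x * a * x⁻¹) ∈ N₀ := by
    intro x hx
    have hK : a⁻¹ * (x * a * x⁻¹) ∈ K :=
      K.mul_mem (K.inv_mem haK) ((Subgroup.mem_normalizer_iff.1 (hXK hx) a).1 haK)
    refine ⟨?_, hK⟩
    apply (Th_eq_one_iff U ⟨_, hKU hK⟩).1
    rw [Th_mul_inv_eq U a x ha (hXU hx)]
    have h1 := Subgroup.mem_centralizer_iff.1 hd'X (Th U ⟨x, hXU hx⟩)
      ((mem_im U).2 ⟨x, hXU hx, hx, rfl⟩)
    rw [h1]; group
  obtain ⟨n, hn, hdn⟩ := exists_mem_centralizer_of_coset hXq hXN hq' hd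
  have hnU : n ∈ Subgroup.normalizer (U : Set G) := hKU hn.2
  refine ⟨a * n, Subgroup.mul_mem _ ha hnU, K.mul_mem haK hn.2, hdn, ?_⟩
  have h1 : Th U ⟨n, hnU⟩ = 1 := (Th_eq_one_iff U _).2 hn.1
  have h2 : (⟨a * n, Subgroup.mul_mem _ ha hnU⟩ : ↥(Subgroup.normalizer (U : Set G))) =
      ⟨a, ha⟩ * ⟨n, hnU⟩ := rfl
  rw [h2, map_mul, h1, mul_one]

end Cfsg.Agent.Lib.H3.Hol
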