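import Mathlib
import Cfsg.Agent.Lib.H3.Hol2
import Cfsg.Agent.Lib.H3.OffenderE3
set_option autoImplicit false
open scoped commutatorElement
namespace Cfsg.Agent.Lib.H3.Hol

variable {G : Type*} [Group G] (U : Subgroup G)

/-- pull back a subgroup of `Uh U` to `G`. -/
noncomputable def pb (W' : Subgroup (Hol U)) : Subgroup G :=
  (W'.comap (SemidirectProduct.inl : ↥U →* Hol U)).map U.subtype

theorem mem_pb {W' : Subgroup (Hol U)} (u : ↥U) :
    (u : G) ∈ pb U W' ↔ (SemidirectProduct.inl u : Hol U) ∈ W' := by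
  unfold pb
  constructor
  · rintro ⟨u', hu', h⟩
    have : u' = u := Subtype.ext h
    rw [← this]; exact hu'
  · intro h
    exact ⟨u, h, rfl⟩

theorem pb_le (W' : Subgroup (Hol U)) : pb U W' ≤ U := by
  rintro _ ⟨u, -, rfl⟩
  exact u.2

theorem card_pb {W' : Subgroup (Hol U)} (hW' : W' ≤ Uh U) : Nat.card (pb U W') = Nat.card W' := by
  unfold pb
  rw [Subgroup.card_map_of_injective U.subtype_injective]
  have h1 : (W'.comap (SemidirectProduct.inl : ↥U →* Hol U)).map SemidirectProduct.inl = W' := by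
    rw [Subgroup.map_comap_eq]
    exact inf_eq_right.2 hW'
  conv_rhs => rw [← h1]
  rw [Subgroup.card_map_of_injective SemidirectProduct.inl_injective]

theorem Th_mem_centralizer_iff {W' : Subgroup (Hol U)} (hW' : W' ≤ Uh U)
    (n : ↥(Subgroup.normalizer (U : Set G))) :
    Th U n ∈ Subgroup.centralizer (W' : Set (Hol U)) ↔
      (n : G) ∈ Subgroup.centralizer ((pb U W' : Subgroup G) : Set G) := by
  constructor
  · intro h
    rw [Subgroup.mem_centralizer_iff]
    intro w hw
    obtain ⟨u, hu, rfl⟩ := hw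
    have hu' : (SemidirectProduct.inl u : Hol U) ∈ W' := hu
    have h1 := Subgroup.mem_centralizer_iff.1 h _ hu'
    have h2 := Th_conj_inl U n u
    have h3 : (SemidirectProduct.inl u : Hol U) = SemidirectProduct.inl
        (⟨n * u * (n : G)⁻¹, (n.2 u).1 u.2⟩ : ↥U) := by
      rw [← h2, ← h1]; group
    have h4 := congrArg Subtype.val (SemidirectProduct.inl_injective h3)
    simp only at h4
    show (u : G) * n = n * u
    calc (u : G) * n = ((n : G) * u * (n : G)⁻¹) * n := by rw [← h4]
      _ = n * u := by group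
  · intro h
    rw [Subgroup.mem_centralizer_iff]
    intro w' hw'
    obtain ⟨u, rfl⟩ := hW' hw'
    have hu : (u : G) ∈ pb U W' := (mem_pb U u).2 hw'
    have h1 := Subgroup.mem_centralizer_iff.1 h u hu
    have h2 := Th_conj_inl U n u
    have h3 : (⟨n * u * (n : G)⁻¹, (n.2 u).1 u.2⟩ : ↥U) = u := by
      apply Subtype.ext
      show (n : G) * (u : G) * (n : G)⁻¹ = u
      rw [← h1]; group
    rw [h3] at h2
    calc SemidirectProduct.inl u * Th U n
        = (Th U n * SemidirectProduct.inl u * (Th U n)⁻¹) * Th U n := by rw [h2]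
      _ = Th U n * SemidirectProduct.inl u := by group

theorem mem_normalizer_pb [Finite G] {W' : Subgroup (Hol U)}
    (n : ↥(Subgroup.normalizer (U : Set G)))
    (h : Th U n ∈ Subgroup.normalizer (W' : Set (Hol U))) :
    (n : G) ∈ Subgroup.normalizer ((pb U W' : Subgroup G) : Set G) := by
  apply mem_normalizer_of_map_conj_le
  rintro _ ⟨_, ⟨u, hu, rfl⟩, rfl⟩
  have hu' : (SemidirectProduct.inl u : Hol U) ∈ W' := hu
  have h1 := (Subgroup.mem_normalizer_iff.1 h _).1 hu'
  rw [Th_conj_inl] at h1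
  exact (mem_pb U _).2 h1

theorem pb_le_centralizer {W' : Subgroup (Hol U)} {A : Subgroup G}
    (hA : A ≤ Subgroup.normalizer (U : Set G))
    (h : W' ≤ Subgroup.centralizer ((im U A : Subgroup (Hol U)) : Set (Hol U))) :
    pb U W' ≤ Subgroup.centralizer (A : Set G) := by
  rintro _ ⟨u, hu, rfl⟩
  have hu' : (SemidirectProduct.inl u : Hol U) ∈ W' := hu
  exact (inl_mem_centralizer_im U hA u).1 (h hu')

end Cfsg.Agent.Lib.H3.Hol
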