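import Mathlib
import Cfsg.Agent.Lib.H3.Hol6
import Cfsg.Agent.Lib.H3.Hol8
import Cfsg.Agent.Lib.H3.Thompson
set_option autoImplicit false
open scoped commutatorElement
namespace Cfsg.Agent.Lib.H3.Hol

variable {G : Type*} [Group G] [Finite G] {p : ℕ} [Fact p.Prime]

theorem pullback_SL2 {q : ℕ} [Fact q.Prime] (U K X : Subgroup G)
    (hKU : K ≤ Subgroup.normalizer (U : Set G)) (hXU : X ≤ Subgroup.normalizer (U : Set G))
    (hXK : X ≤ Subgroup.normalizer (K : Set G)) (hXq : IsPGroup q X) (hq : ¬ q ∣ Nat.card K)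
    (hUe : Cfsg.IsElementaryAbelian p U) (hUK : U ≤ K)
    {D' W' : Subgroup (Hol U)} (hD'K : D' ≤ im U K)
    (hD'X : D' ≤ Subgroup.centralizer ((im U X : Subgroup _) : Set (Hol U)))
    (hW'U : W' ≤ Uh U)
    (hW'X : W' ≤ Subgroup.centralizer ((im U X : Subgroup _) : Set (Hol U)))
    (hW'c : Nat.card W' = p ^ 2) (hD'W' : D' ≤ Subgroup.normalizer (W' : Set (Hol U)))
    (h0 : D' ⊓ Subgroup.centralizer (W' : Set (Hol U)) = ⊥)
    (e : ↥D' ≃* Matrix.SpecialLinearGroup (Fin 2) (ZMod p)) :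
    ∃ W D : Subgroup G, W ≤ K ⊓ Subgroup.centralizer (X : Set G) ∧
      D ≤ K ⊓ Subgroup.centralizer (X : Set G) ∧ Cfsg.IsElementaryAbelian p W ∧
      Nat.card W = p ^ 2 ∧ D ≤ Subgroup.normalizer (W : Set G) ∧
      ∃ hn : ((Subgroup.centralizer (W : Set G)).subgroupOf D).Normal,
        Nonempty ((↥D ⧸ (Subgroup.centralizer (W : Set G)).subgroupOf D) ≃*
          Matrix.SpecialLinearGroup (Fin 2) (ZMod p)) := by
  set N := Subgroup.normalizer (U : Set G) with hN
  set W := pb U W' with hW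
  set D := ((D'.comap (Th U)).map N.subtype) ⊓ (K ⊓ Subgroup.centralizer (X : Set G)) with hD
  have hDN : D ≤ N := inf_le_right.trans (inf_le_left.trans hKU)
  have hDmem : ∀ d (hd : d ∈ D), Th U ⟨d, hDN hd⟩ ∈ D' := by
    intro d hd
    obtain ⟨n, hn, hnd⟩ := hd.1
    have : n = ⟨d, hDN hd⟩ := Subtype.ext hnd
    rw [← this]; exact hn
  have hWU : W ≤ U := pb_le U W'
  refine ⟨W, D, le_inf (hWU.trans hUK) (pb_le_centralizer U hXU hW'X), inf_le_right,
    elemAb_mono hWU hUe, by rw [hW, card_pb U hW'U, hW'c], ?_, ?_⟩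
  · intro d hd
    exact mem_normalizer_pb U ⟨d, hDN hd⟩ (hD'W' (hDmem d hd))
  · -- the homomorphism `D → D'`
    set ψ : ↥D →* ↥D' := ((Th U).comp (Subgroup.inclusion hDN)).codRestrict D'
      (fun d => hDmem d.1 d.2) with hψ
    have hψs : Function.Surjective ψ := by
      rintro ⟨d', hd'⟩
      obtain ⟨d, hdN, hdK, hdX, hdd'⟩ := exists_lift_of_mem_centralizer U K X hKU hXU hXK hXq hq
        (hD'K hd') (hD'X hd')
      have hdD : d ∈ D := by
        refine ⟨⟨⟨d, hdN⟩, ?_, rfl⟩, hdK, hdX⟩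
        show Th U ⟨d, hdN⟩ ∈ D'
        rw [hdd']; exact hd'
      refine ⟨⟨d, hdD⟩, ?_⟩
      apply Subtype.ext
      exact hdd'
    have hker : ψ.ker = (Subgroup.centralizer (W : Set G)).subgroupOf D := by
      ext d
      rw [MonoidHom.mem_ker, Subgroup.mem_subgroupOf]
      have h1 : ψ d = 1 ↔ Th U ⟨d, hDN d.2⟩ = 1 := by
        constructor
        · intro h; exact congrArg Subtype.val h
        · intro h; exact Subtype.ext h
      rw [h1]
      have h2 := Th_mem_centralizer_iff U hW'U ⟨(d : G), hDN d.2⟩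
      constructor
      · intro h
        apply h2.1
        rw [h]; exact Subgroup.one_mem _
      · intro h
        have h3 : Th U ⟨d, hDN d.2⟩ ∈ D' ⊓ Subgroup.centralizer (W' : Set (Hol U)) :=
          ⟨hDmem d.1 d.2, h2.2 h⟩
        rw [h0, Subgroup.mem_bot] at h3
        exact h3
    have hn : ((Subgroup.centralizer (W : Set G)).subgroupOf D).Normal := by
      rw [← hker]; infer_instance
    refine ⟨hn, ⟨?_⟩⟩
    exact ((QuotientGroup.quotientMulEquivOfEq hker.symm).trans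
      (QuotientGroup.quotientKerEquivOfSurjective ψ hψs)).trans e

end Cfsg.Agent.Lib.H3.Hol
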