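import Mathlib
import Cfsg.Agent.Lib.H3.Hol6
import Cfsg.Agent.Lib.H3.Hol4
import Cfsg.Agent.Lib.H3.Diag5
import Cfsg.Agent.Lib.H3.OffenderE11
set_option autoImplicit false
open scoped commutatorElement
namespace Cfsg.Agent.Lib.H3.Hol

variable {G : Type*} [Group G] [Finite G] {p : ℕ} [Fact p.Prime]

/-- the `FFS` structure inside the holomorph. -/
theorem ffs_hol (K : Subgroup G) (V : Subgroup ↥K) [hVn : V.Normal]
    (hV : Cfsg.IsElementaryAbelian p V) (hsep : Cfsg.IsPSolvable p ↥K)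
    (hO : Cfsg.pCore p (↥K ⧸ Subgroup.centralizer (V : Set ↥K)) = ⊥) :
    ∃ Q' : Subgroup (Hol (UU K V)),
      FFS p (Uh (UU K V)) (im (UU K V) ((Cfsg.thompsonSubgroup p ↥K).map K.subtype)) Q' ∧
      im (UU K V) ((Cfsg.thompsonSubgroup p ↥K).map K.subtype) =
        ⨆ A : {A : Subgroup (Hol (UU K V)) //
          A ≤ im (UU K V) ((Cfsg.thompsonSubgroup p ↥K).map K.subtype) ∧
          Cfsg.IsBestOffenderOn p (Uh (UU K V)) A}, (A : Subgroup (Hol (UU K V))) := by
  haveI hJn : (Cfsg.thompsonSubgroup p ↥K).Normal := QT.thompson_normal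
  have h₀ := QT.ffs_hat V hV hsep hO (Cfsg.thompsonSubgroup p ↥K)
  have h := FFS.map (iot K V) (iot_injective K V) h₀
  have hS3 := hS3_map (iot K V) (iot_injective K V) (QT.hat_thompson_eq_iSup (p := p) V hV)
  rw [map_Vh, map_hat] at h hS3
  exact ⟨_, h, hS3⟩

theorem card_E {Γ : Type*} [Group Γ] [Finite Γ] {V H Q A : Subgroup Γ} (h : FFS p V H Q)
    (m : MO p V H A) : Nat.card ↥(⁅Q, A⁆ ⊔ A) = (p ^ 2 - 1) * p := by
  rw [card_sup_of_inf_eq_bot' (h.A_le_normalizer_comm m.le) (h.comm_inf_A m), h.card_comm_Q m,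
    m.card]

theorem card_im_dvd (U K : Subgroup G) : Nat.card (im U K) ∣ Nat.card K := by
  unfold im
  refine (Subgroup.card_map_dvd _ _).trans ?_
  exact Subgroup.card_comap_dvd_of_injective K _ (Subgroup.subtype_injective _)

end Cfsg.Agent.Lib.H3.Hol
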