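import Mathlib
import Cfsg.Agent.Lib.H3.Hol7
import Cfsg.Agent.Lib.H3.Diag6
set_option autoImplicit false
open scoped commutatorElement
namespace Cfsg.Agent.Lib.H3.Hol

variable {G : Type*} [Group G] [Finite G] {p : ℕ} [Fact p.Prime]

/-- the image of a Sylow subgroup of `K` has `p'`-index in the image of `K`. -/
theorem not_dvd_relIndex_im (U K : Subgroup G) (hKU : K ≤ Subgroup.normalizer (U : Set G))
    (S : Sylow p ↥K) :
    ¬ p ∣ (im U ((S : Subgroup ↥K).map K.subtype)).relIndex (im U K) := by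
  set S_G := (S : Subgroup ↥K).map K.subtype with hSG
  set N := Subgroup.normalizer (U : Set G) with hN
  intro h0
  have h1 : (im U S_G).relIndex (im U K) =
      ((im U S_G).comap (Th U)).relIndex (K.subgroupOf N) := by
    unfold im
    rw [Subgroup.relIndex_comap]
  have h2 : ((im U S_G).comap (Th U)).relIndex (K.subgroupOf N) ∣
      (S_G.subgroupOf N).relIndex (K.subgroupOf N) := by
    apply Subgroup.relIndex_dvd_of_le_left
    unfold im
    exact Subgroup.le_comap_map _ _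
  rw [Subgroup.relIndex_subgroupOf hKU] at h2
  have h3 : S_G.relIndex K = (S : Subgroup ↥K).index := by
    unfold Subgroup.relIndex
    congr 1
    rw [hSG]
    exact Subgroup.comap_map_eq_self_of_injective K.subtype_injective _
  rw [h3] at h2
  rw [h1] at h0
  exact S.not_dvd_index (h0.trans h2)

/-- key step for S0620: a subgroup `M` of `K` containing a Sylow `p`-subgroup, `C_K(V)` and
`C_K(X)` contains `J(K)`. -/
theorem thompson_le_of {q : ℕ} [Fact q.Prime] (K X : Subgroup G) (V : Subgroup ↥K)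
    [hVc : V.Characteristic]
    (hV : Cfsg.IsElementaryAbelian p V) (hsep : Cfsg.IsPSolvable p ↥K)
    (hO : Cfsg.pCore p (↥K ⧸ Subgroup.centralizer (V : Set ↥K)) = ⊥)
    (hXK : X ≤ Subgroup.normalizer (K : Set G)) (hXq : IsPGroup q X) (hq : ¬ q ∣ Nat.card K)
    (S : Sylow p ↥K) (M : Subgroup ↥K) (hSM : (S : Subgroup ↥K) ≤ M)
    (hCM : Subgroup.centralizer (V : Set ↥K) ≤ M)
    (hXM : (Subgroup.centralizer (X : Set G)).subgroupOf K ≤ M) :
    Cfsg.thompsonSubgroup p ↥K ≤ M := by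
  haveI hVn : V.Normal := inferInstance
  set U := UU K V with hU
  set J_G := (Cfsg.thompsonSubgroup p ↥K).map K.subtype with hJG
  obtain ⟨Q', h, hS3⟩ := ffs_hol K V hV hsep hO
  have hKU : K ≤ Subgroup.normalizer (U : Set G) := K_le_normalizer_UU K V
  have hXU : X ≤ Subgroup.normalizer (U : Set G) :=
    hXK.trans (normalizer_le_normalizer_map K V)
  haveI : (Cfsg.thompsonSubgroup p ↥K).Characteristic :=
    Cfsg.Agent.Lib.H3.thompson_characteristic p
  have hNJ := normalizer_le_normalizer_map K (Cfsg.thompsonSubgroup p ↥K)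
  have hXJ : X ≤ Subgroup.normalizer (J_G : Set G) := hXK.trans hNJ
  have hKJ : K ≤ Subgroup.normalizer (J_G : Set G) := Subgroup.le_normalizer.trans hNJ
  have hJK : J_G ≤ K := by
    rintro _ ⟨j, -, rfl⟩
    exact j.2
  set Mh := im U (M.map K.subtype) with hMh
  have hYq : IsPGroup q (im U X) := by
    unfold im
    exact (hXq.comap_subtype).map _
  -- `E ≤ Mh` for every minimal offender
  have hE : ∀ A, MO p (Uh U) (im U J_G) A → ⁅Q', A⁆ ⊔ A ≤ Mh := by
    intro A m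
    have hq' : ¬ q ∣ p * (p ^ 2 - 1) := by
      intro h0
      apply hq
      have h1 : Nat.card ↥(⁅Q', A⁆ ⊔ A) ∣ Nat.card K :=
        (Subgroup.card_dvd_of_le ((h.E_le m.le).trans (im_mono U hJK))).trans (card_im_dvd U K)
      rw [card_E h m, mul_comm] at h1
      exact h0.trans h1
    obtain ⟨D', W', hD'H, hD'Y, -, -, -, -, -, -, hlast⟩ :=
      h.exists_fixed_SL2 hS3 m (le_normalizer_Uh U _) (im_le_normalizer_im U hXJ) hYq hq'
    have hD'M : D' ≤ Mh := by
      intro d' hd'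
      obtain ⟨d, hdN, hdK, hdX, hdd'⟩ := exists_lift_of_mem_centralizer U K X hKU hXU hXK hXq hq
        ((hD'H.trans (im_mono U hJK)) hd') (hD'Y hd')
      rw [← hdd']
      refine (mem_im U).2 ⟨d, hdN, ⟨⟨d, hdK⟩, hXM ?_, rfl⟩, rfl⟩
      rw [Subgroup.mem_subgroupOf]
      exact hdX
    apply h.E_le_of hS3 m (Sh := im U ((S : Subgroup ↥K).map K.subtype)) (Kh := im U K)
      (im_mono U (Subgroup.map_mono hSM)) (not_dvd_relIndex_im U K hKU S) (im_mono U hJK)
      (im_le_normalizer_im U hKJ)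
    intro e he
    obtain ⟨d, hd, hdu⟩ := hlast e he
    exact ⟨d, hD'M hd, hdu⟩
  have hHM : im U J_G ≤ Mh := by
    apply h.le_of_forall_MO hS3
    intro B mB
    exact le_sup_right.trans (hE B mB)
  intro j hj
  have h1 : Th U ⟨j, hKU j.2⟩ ∈ Mh :=
    hHM ((mem_im U).2 ⟨j, hKU j.2, ⟨j, hj, rfl⟩, rfl⟩)
  obtain ⟨m', hm'N, ⟨m₀, hm₀, rfl⟩, hm'⟩ := (mem_im U).1 h1
  have h2 : (m₀⁻¹ * j : ↥K) ∈ Subgroup.centralizer (V : Set ↥K) := by
    have h3 : Th U ⟨((m₀⁻¹ * j : ↥K) : G), hKU (m₀⁻¹ * j : ↥K).2⟩ = 1 := by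
      have e1 : (⟨((m₀⁻¹ * j : ↥K) : G), hKU (m₀⁻¹ * j : ↥K).2⟩ :
          ↥(Subgroup.normalizer (U : Set G))) =
          (⟨K.subtype m₀, hm'N⟩ : ↥(Subgroup.normalizer (U : Set G)))⁻¹ * ⟨j, hKU j.2⟩ := rfl
      rw [e1, map_mul, map_inv, ← hm']
      group
    rw [Th_eq_one_iff] at h3
    rw [Subgroup.mem_centralizer_iff]
    intro v hv
    apply Subtype.ext
    exact Subgroup.mem_centralizer_iff.1 h3 v ⟨v, hv, rfl⟩
  have h4 : j = m₀ * (m₀⁻¹ * j) := by group
  rw [h4]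
  exact M.mul_mem hm₀ (hCM h2)

end Cfsg.Agent.Lib.H3.Hol
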