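import Mathlib
import Cfsg.Agent.Lib.H3.Hol7
import Cfsg.Agent.Lib.H3.Hol8
set_option autoImplicit false
open scoped commutatorElement
namespace Cfsg.Agent.Lib.H3.Hol

variable {G : Type*} [Group G] [Finite G] {p : ℕ} [Fact p.Prime]

/-- the data produced inside the holomorph. -/
theorem exists_hol_data {q : ℕ} [Fact q.Prime] (K X : Subgroup G) (V : Subgroup ↥K)
    [hVc : V.Characteristic]
    (hV : Cfsg.IsElementaryAbelian p V) (hsep : Cfsg.IsPSolvable p ↥K)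
    (hO : Cfsg.pCore p (↥K ⧸ Subgroup.centralizer (V : Set ↥K)) = ⊥)
    (hJ : ¬ Cfsg.thompsonSubgroup p ↥K ≤ Subgroup.centralizer (V : Set ↥K))
    (hXK : X ≤ Subgroup.normalizer (K : Set G)) (hXq : IsPGroup q X) (hq : ¬ q ∣ Nat.card K) :
    (p = 2 ∨ p = 3) ∧ X ≤ Subgroup.normalizer ((UU K V : Subgroup G) : Set G) ∧
    ∃ D' W' : Subgroup (Hol (UU K V)), D' ≤ im (UU K V) K ∧
      D' ≤ Subgroup.centralizer ((im (UU K V) X : Subgroup _) : Set (Hol (UU K V))) ∧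
      W' ≤ Uh (UU K V) ∧
      W' ≤ Subgroup.centralizer ((im (UU K V) X : Subgroup _) : Set (Hol (UU K V))) ∧
      Nat.card W' = p ^ 2 ∧ D' ≤ Subgroup.normalizer (W' : Set (Hol (UU K V))) ∧
      D' ⊓ Subgroup.centralizer (W' : Set (Hol (UU K V))) = ⊥ ∧
      Nonempty (↥D' ≃* Matrix.SpecialLinearGroup (Fin 2) (ZMod p)) := by
  haveI hVn : V.Normal := inferInstance
  set U := UU K V with hU
  set J_G := (Cfsg.thompsonSubgroup p ↥K).map K.subtype with hJG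
  obtain ⟨Q', h, hS3⟩ := ffs_hol K V hV hsep hO
  have hKU : K ≤ Subgroup.normalizer (U : Set G) := K_le_normalizer_UU K V
  have hXU : X ≤ Subgroup.normalizer (U : Set G) :=
    hXK.trans (normalizer_le_normalizer_map K V)
  haveI : (Cfsg.thompsonSubgroup p ↥K).Characteristic :=
    Cfsg.Agent.Lib.H3.thompson_characteristic p
  have hXJ : X ≤ Subgroup.normalizer (J_G : Set G) :=
    hXK.trans (normalizer_le_normalizer_map K _)
  have hJK : J_G ≤ K := by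
    rintro _ ⟨j, -, rfl⟩
    exact j.2
  have hH1 : im U J_G ≠ ⊥ := by
    intro h0
    apply hJ
    intro j hj
    have h1 : Th U ⟨j, hKU j.2⟩ ∈ im U J_G := (mem_im U).2 ⟨j, hKU j.2, ⟨j, hj, rfl⟩, rfl⟩
    rw [h0, Subgroup.mem_bot, Th_eq_one_iff] at h1
    rw [Subgroup.mem_centralizer_iff]
    intro v hv
    apply Subtype.ext
    exact Subgroup.mem_centralizer_iff.1 h1 v ⟨v, hv, rfl⟩
  obtain ⟨A, m⟩ := h.exists_MO hS3 hH1
  obtain ⟨hp23, ⟨e⟩⟩ := h.E_iso m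
  have hq' : ¬ q ∣ p * (p ^ 2 - 1) := by
    intro h0
    apply hq
    have h1 : Nat.card ↥(⁅Q', A⁆ ⊔ A) ∣ Nat.card K :=
      (Subgroup.card_dvd_of_le ((h.E_le m.le).trans (im_mono U hJK))).trans (card_im_dvd U K)
    rw [card_E h m, mul_comm] at h1
    exact h0.trans h1
  have hYq : IsPGroup q (im U X) := by
    unfold im
    exact (hXq.comap_subtype).map _
  obtain ⟨D', W', hD'H, hD'Y, hW'V, hW'Y, hW'c, hD'W', hD'W'0, ⟨e'⟩, -⟩ :=
    h.exists_fixed_SL2 hS3 m (le_normalizer_Uh U _) (im_le_normalizer_im U hXJ) hYq hq'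
  exact ⟨hp23, hXU, D', W', hD'H.trans (im_mono U hJK), hD'Y, hW'V, hW'Y, hW'c, hD'W', hD'W'0,
    ⟨e'.trans e⟩⟩

end Cfsg.Agent.Lib.H3.Hol
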