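import Mathlib
import Cfsg.Prelude.Def_Characters

/-!
# Two involutions and a character: `Re χ(xy) ≥ χ(x) + χ(y) - χ(1)` (helper3; piece INV2 of helper7's S3017 plan)

Pure linear algebra over `ℂ`:
* `re_trace_ge`: if `T ^ m = 1` (`m > 0`) then `Re tr T ≥ 2 dim Fix(T) - dim V` (the roots of the characteristic
  polynomial have norm 1, and `1` has multiplicity at least `dim Fix(T)`);
* `trace_eq_of_mul_self_eq_one`: if `A * A = 1` then `tr A = 2 dim Fix(A) - dim V`;
* `re_trace_mul_ge`: for two involutions `A`, `B` with `A * B` of finite order,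
  `tr A + tr B - dim V ≤ Re tr (A * B)` (`Fix(A) ∩ Fix(B) ≤ Fix(A * B)`);
* `re_char_mul_ge`: the character form, for `Cfsg.IsCharacter`.
-/

set_option autoImplicit false

namespace Cfsg.Agent.Lib.H3.INV2

open Module

variable {V : Type*} [AddCommGroup V] [Module ℂ V] [FiniteDimensional ℂ V]

/-- the roots of the characteristic polynomial of an endomorphism of finite order have norm 1 -/
theorem norm_eq_one_of_isRoot {T : Module.End ℂ V} {m : ℕ} (hm : 0 < m) (hT : T ^ m = 1) {μ : ℂ}
    (hμ : T.charpoly.IsRoot μ) : ‖μ‖ = 1 := by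
  rw [← Module.End.hasEigenvalue_iff_isRoot_charpoly] at hμ
  obtain ⟨v, hv⟩ := hμ.exists_hasEigenvector
  have h1 : (T ^ m) v = μ ^ m • v := hv.pow_apply m
  rw [hT, Module.End.one_apply] at h1
  have h2 : μ ^ m = 1 := by
    have h3 : (μ ^ m - 1) • v = 0 := by rw [sub_smul, one_smul, ← h1, sub_self]
    rcases smul_eq_zero.1 h3 with h | h
    · exact sub_eq_zero.1 h
    · exact absurd h hv.2
  have h3 : ‖μ‖ ^ m = 1 := by rw [← norm_pow, h2, norm_one]
  exact (pow_eq_one_iff_of_nonneg (norm_nonneg μ) hm.ne').1 h3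

/-- `Re tr T ≥ 2 dim Fix(T) - dim V` for an endomorphism of finite order -/
theorem re_trace_ge {T : Module.End ℂ V} {m : ℕ} (hm : 0 < m) (hT : T ^ m = 1) :
    2 * (finrank ℂ (T.eigenspace 1) : ℝ) - finrank ℂ V ≤ (LinearMap.trace ℂ V T).re := by
  classical
  have hs : T.charpoly.Splits := IsAlgClosed.splits _
  rw [Module.End.trace_eq_sum_roots_charpoly_of_splits hs]
  set R := T.charpoly.roots with hR
  have hcard : R.card = finrank ℂ V := by
    rw [hR, Polynomial.splits_iff_card_roots.1 hs, LinearMap.charpoly_natDegree]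
  have hre : (R.sum).re = (R.map Complex.re).sum := by
    have := map_multiset_sum Complex.reAddGroupHom R
    simpa using this
  rw [hre]
  have h1 : (R.map (fun μ => μ.re + 1)).sum = (R.map Complex.re).sum + R.card := by
    rw [Multiset.sum_map_add]
    simp
  have hroot : ∀ μ ∈ R.toFinset, (0 : ℝ) ≤ μ.re + 1 := by
    intro μ hμ
    rw [Multiset.mem_toFinset] at hμ
    have h2 := norm_eq_one_of_isRoot hm hT (Polynomial.isRoot_of_mem_roots hμ)
    have h3 := Complex.abs_re_le_norm μ
    rw [h2] at h3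
    have := (abs_le.1 h3).1
    linarith
  have h2 : 2 * (Multiset.count (1 : ℂ) R : ℝ) ≤ (R.map (fun μ => μ.re + 1)).sum := by
    rw [Finset.sum_multiset_map_count]
    by_cases h1R : (1 : ℂ) ∈ R.toFinset
    · have h3 := Finset.single_le_sum (f := fun μ : ℂ => Multiset.count μ R • (μ.re + 1))
        (fun μ hμ => nsmul_nonneg (hroot μ hμ) _) h1R
      have h4 : Multiset.count (1 : ℂ) R • ((1 : ℂ).re + 1) = 2 * (Multiset.count (1 : ℂ) R : ℝ) := by
        rw [nsmul_eq_mul, Complex.one_re]; ring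
      rw [← h4]
      exact h3
    · have h3 : Multiset.count (1 : ℂ) R = 0 :=
        Multiset.count_eq_zero.2 (by rwa [Multiset.mem_toFinset] at h1R)
      rw [h3]
      simp only [Nat.cast_zero, mul_zero]
      exact Finset.sum_nonneg (fun μ hμ => nsmul_nonneg (hroot μ hμ) _)
  have h3 : finrank ℂ (T.eigenspace 1) ≤ Multiset.count (1 : ℂ) R := by
    rw [hR, Polynomial.count_roots]
    exact LinearMap.finrank_eigenspace_le T 1
  have h3' : (finrank ℂ (T.eigenspace 1) : ℝ) ≤ (Multiset.count (1 : ℂ) R : ℝ) := by exact_mod_cast h3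
  have h4 : (R.card : ℝ) = (finrank ℂ V : ℝ) := by exact_mod_cast hcard
  linarith

/-- the trace of an involution -/
theorem trace_eq_of_mul_self_eq_one {A : Module.End ℂ V} (hA : A * A = 1) :
    LinearMap.trace ℂ V A = 2 * (finrank ℂ (A.eigenspace 1) : ℂ) - finrank ℂ V := by
  set P : Module.End ℂ V := (2 : ℂ)⁻¹ • (1 + A) with hP
  have hAA : ∀ v, A (A v) = v := by
    intro v
    rw [← Module.End.mul_apply, hA, Module.End.one_apply]
  have hproj : LinearMap.IsProj (A.eigenspace 1) P := by
    constructor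
    · intro v
      rw [Module.End.mem_eigenspace_iff, one_smul, hP]
      simp only [LinearMap.smul_apply, LinearMap.add_apply, Module.End.one_apply, map_smul, map_add]
      rw [hAA, add_comm]
    · intro v hv
      rw [Module.End.mem_eigenspace_iff, one_smul] at hv
      rw [hP]
      simp only [LinearMap.smul_apply, LinearMap.add_apply, Module.End.one_apply, hv]
      rw [← two_smul ℂ v, smul_smul]
      norm_num
  have h1 := hproj.trace
  have h2 : LinearMap.trace ℂ V P = (2 : ℂ)⁻¹ * (finrank ℂ V + LinearMap.trace ℂ V A) := by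
    rw [hP, map_smul, map_add, LinearMap.trace_one, smul_eq_mul]
  rw [h2] at h1
  linear_combination 2 * h1

/-- two involutions with a product of finite order: `tr A + tr B - dim V ≤ Re tr (A * B)` -/
theorem re_trace_mul_ge {A B : Module.End ℂ V} (hA : A * A = 1) (hB : B * B = 1) {m : ℕ} (hm : 0 < m)
    (hAB : (A * B) ^ m = 1) :
    (LinearMap.trace ℂ V A).re + (LinearMap.trace ℂ V B).re - finrank ℂ V ≤
      (LinearMap.trace ℂ V (A * B)).re := by
  have h1 := re_trace_ge hm hAB
  have hle : A.eigenspace 1 ⊓ B.eigenspace 1 ≤ (A * B).eigenspace 1 := by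
    intro v hv
    rw [Submodule.mem_inf, Module.End.mem_eigenspace_iff, Module.End.mem_eigenspace_iff, one_smul] at hv
    rw [Module.End.mem_eigenspace_iff, one_smul, Module.End.mul_apply, hv.2, hv.1]
  have h2 := Submodule.finrank_mono hle
  have h3 := Submodule.finrank_sup_add_finrank_inf_eq (A.eigenspace 1) (B.eigenspace 1)
  have h4 : finrank ℂ ↥(A.eigenspace 1 ⊔ B.eigenspace 1) ≤ finrank ℂ V := Submodule.finrank_le _
  rw [trace_eq_of_mul_self_eq_one hA, trace_eq_of_mul_self_eq_one hB]
  simp only [Complex.sub_re, Complex.mul_re, Complex.natCast_re, Complex.natCast_im, Complex.re_ofNat,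
    Complex.im_ofNat, mul_zero, sub_zero]
  have h2' : (finrank ℂ ↥(A.eigenspace 1 ⊓ B.eigenspace 1) : ℝ) ≤ finrank ℂ ↥((A * B).eigenspace 1) := by
    exact_mod_cast h2
  have h3' : (finrank ℂ ↥(A.eigenspace 1 ⊔ B.eigenspace 1) : ℝ) +
      finrank ℂ ↥(A.eigenspace 1 ⊓ B.eigenspace 1) =
      (finrank ℂ ↥(A.eigenspace 1) : ℝ) + finrank ℂ ↥(B.eigenspace 1) := by exact_mod_cast h3
  have h4' : (finrank ℂ ↥(A.eigenspace 1 ⊔ B.eigenspace 1) : ℝ) ≤ finrank ℂ V := by exact_mod_cast h4
  linarith

/-- **INV2**: for a character `χ` of a finite group and `x * x = 1`, `y * y = 1`: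
`χ x + χ y - χ 1 ≤ Re χ (x * y)` (the values `χ x`, `χ y`, `χ 1` are real). -/
theorem re_char_mul_ge {G : Type*} [Group G] [Finite G] {χ : G → ℂ} (hχ : Cfsg.IsCharacter G χ) {x y : G}
    (hx : x * x = 1) (hy : y * y = 1) :
    (χ x).re + (χ y).re - (χ 1).re ≤ (χ (x * y)).re := by
  obtain ⟨n, ρ, rfl⟩ := hχ
  have hA : ρ x * ρ x = 1 := by rw [← map_mul, hx, map_one]
  have hB : ρ y * ρ y = 1 := by rw [← map_mul, hy, map_one]
  have hm : 0 < orderOf (x * y) := orderOf_pos _
  have hAB : (ρ x * ρ y) ^ orderOf (x * y) = 1 := by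
    rw [← map_mul, ← map_pow, pow_orderOf_eq_one, map_one]
  have h := re_trace_mul_ge hA hB hm hAB
  have h1 : (ρ.character 1).re = (finrank ℂ (Fin n → ℂ) : ℝ) := by
    rw [Representation.char_one]; simp
  rw [h1]
  simpa [Representation.character, map_mul] using h

/-- the values of a character at the elements with `x * x = 1` are real -/
theorem char_im_eq_zero {G : Type*} [Group G] {χ : G → ℂ} (hχ : Cfsg.IsCharacter G χ) {x : G}
    (hx : x * x = 1) : (χ x).im = 0 := by
  obtain ⟨n, ρ, rfl⟩ := hχ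
  have hA : ρ x * ρ x = 1 := by rw [← map_mul, hx, map_one]
  show (LinearMap.trace ℂ (Fin n → ℂ) (ρ x)).im = 0
  rw [trace_eq_of_mul_self_eq_one hA]
  simp

end Cfsg.Agent.Lib.H3.INV2
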