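import Mathlib
import Cfsg.Agent.Lib.H3.Tits.UChk
import Cfsg.Agent.Lib.H3.Tits.WordChk

set_option autoImplicit false
set_option maxRecDepth 1000000

/-! # S2926 TITS (helper3): kernel checks in `²F₄(2)`

`z = w₃²` generates the centre of `U`, is centralised by `n₂` and moved by `n₁` to `y = w₅²`; `y` is in the second centre;
an element of `U` commuting with `w₀`, `w₇²`, `w₁w₃` is `1` or `z`. -/

namespace Cfsg.Agent.Lib.H3.Tits

open Cfsg.Agent.Lib.H3.F4 (actE2 mulE2)

/-- the word of the central involution `z = w₃²` -/
def zW : List ℕ := clsW 3 ++ clsW 3
/-- the word of `y = w₅²` -/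
def yW : List ℕ := clsW 5 ++ clsW 5
/-- the word of `w₁²` -/
def y1W : List ℕ := clsW 1 ++ clsW 1

theorem zc_comm : ∀ j < 8, wordC (zW ++ clsW j) = wordC (clsW j ++ zW) := by decide +kernel
theorem zc_sq : wordC (zW ++ zW) = oneC := by decide +kernel
theorem zc_ne : wordC zW ≠ oneC := by decide +kernel
theorem zc_n2 : wordC (wN2 ++ zW ++ wN2) = wordC zW := by decide +kernel
theorem zc_n1 : wordC (wN1 ++ zW ++ wN1) = wordC yW := by decide +kernel
theorem yc_ne_z : wordC yW ≠ wordC zW := by decide +kernel
theorem yc_sq : wordC (yW ++ yW) = oneC := by decide +kernel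
theorem yc_ne : wordC yW ≠ oneC := by decide +kernel
theorem yc_conj : ∀ j < 8, wordC (yW ++ clsW j) = wordC (clsW j ++ yW) ∨
    wordC (yW ++ clsW j) = wordC (clsW j ++ yW ++ zW) := by decide +kernel
theorem yc_n2 : wordC (wN2 ++ yW ++ wN2) = wordC y1W := by decide +kernel
theorem y1_ne : wordC y1W ≠ wordC yW := by decide +kernel
theorem y1_ne' : wordC y1W ≠ wordC (yW ++ zW) := by decide +kernel
theorem w7sq_sq : wordC (clsW 7 ++ clsW 7 ++ (clsW 7 ++ clsW 7)) = oneC := by decide +kernel
theorem w7sq_ne : wordC (clsW 7 ++ clsW 7) ≠ oneC := by decide +kernel

/-! ### the decompositions of the class generators into positive root elements -/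
/-- the code of `z` -/
def zC : List ℕ := [281474976710657, 2, 4, 2251799813685256, 2568459166679061, 70369021001760, 140738578874432, 281483566645378, 562986460643584, 1125972921287168, 2251808403620864, 1236950583296, 4672924422144, 9345848844288, 1099511644160, 19791209332736, 4398046576640, 8796093153280, 17592186306560, 70368744701952, 140737489403904, 2097152, 281474980904960, 8388608, 16777216, 562949986975744, 67108864, 1125900041060352, 268435456, 536870912, 1073741824, 2147483648, 4294967296, 8589934592, 17179869184, 34359738368, 68719476736, 137438953472, 274877906944, 549755813888, 1099511627776, 2199023255552, 4398046511104, 8796093022208, 17592186044416, 35184372088832, 70368744177664, 140737488355328, 281474976710656, 562949953421312, 1125899906842624, 2251799813685248]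

theorem zC_eq : wordC zW = zC := by decide +kernel

/-- the code of `w₀` -/
def hC1 : List ℕ := [1, 137438953474, 268435460, 8, 48, 32, 64, 2176, 528640, 3171840, 2114560, 2048, 4096, 24576, 16384, 12681216, 8454144, 16908288, 137439215617, 524288, 3145728, 2097152, 12582912, 8388608, 16777216, 100663296, 67108864, 402653192, 268435456, 1610612736, 1073741824, 277025390592, 1662152343552, 1108101562368, 112201725640704, 74801150427136, 149602300854272, 137438953472, 274877906944, 1649267441664, 1099511627776, 6597069766656, 4398046511104, 8796093022208, 299067162755072, 105553116266496, 70368744177664, 140737488355328, 281474976710656, 562949953421312, 3377699720527872, 2251799813685248]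

theorem hC1_eq : wordC (clsW 0) = hC1 := by decide +kernel

/-- the code of `w₇²` -/
def hC2 : List ℕ := [4294967297, 2, 4294967300, 21474836488, 16, 928, 576, 128, 256, 512, 1024, 43008, 36864, 8192, 409600, 32768, 327680, 131072, 262144, 172490752, 135266304, 22030581766, 4194304, 6450839554, 4311744512, 33554432, 19394461696, 134217728, 111937585152, 536870912, 69793218560, 2147483648, 4294967296, 8589934592, 17179869184, 34359738368, 68719476736, 2886218022912, 2473901162496, 549755813888, 27487790694400, 2199023255552, 21990232555520, 8796093022208, 17592186044416, 35184372088832, 2040693581152256, 1266637395197952, 281474976710656, 562949953421312, 1125899906842624, 2251799813685248]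

theorem hC2_eq : wordC (clsW 7 ++ clsW 7) = hC2 := by decide +kernel

/-- the code of `w₁w₃` -/
def hC3 : List ℕ := [287256002691073, 1374389534722, 71744207454212, 2783973105205256, 2714977775998162, 70369015234592, 212206819477568, 285881642537088, 2814785569686796, 1954177538490883, 247666135073799, 1236958988288, 5772436131840, 291233163517955, 137447358464, 34370476212224, 1374389600256, 824633851907, 15403900469248, 279445504, 71606786326528, 2097152, 5781046951938, 8388608, 137455730688, 46204452876, 335544320, 1049007778430976, 70369012613120, 35734664773632, 212206817902592, 10737418240, 292474387955712, 285881613156352, 2814835666452480, 2814784126844928, 1706510765785088, 1236950581248, 5772436045824, 290820825546752, 1099511627776, 28587302322176, 4398046511104, 290271069732864, 17592186044416, 2709196650840064, 70368744177664, 140737488355328, 281474976710656, 2814749767106560, 1125899906842624, 2251799813685248]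

theorem hC3_eq : wordC (clsW 1 ++ clsW 3) = hC3 := by decide +kernel

/-- the selection of an element of `⟨z⟩` -/
def patZ (sel : List (List ℕ)) : Bool :=
  (sel == [oneC, oneC, oneC, oneC, oneC, oneC, oneC, oneC]) || (sel == [oneC, oneC, oneC, zC, oneC, oneC, oneC, oneC])

/-- the selection is in `⟨z⟩`, or the element does not commute with one of `w₀`, `w₇²`, `w₁w₃` -/
noncomputable def goodZ (sel : List (List ℕ)) : Bool :=
  patZ sel || !(Nat.beq (applyAll (sel ++ [hC1]) 16) (applyAll (hC1 :: sel) 16))
    || !(Nat.beq (applyAll (sel ++ [hC2]) 1) (applyAll (hC2 :: sel) 1))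
    || !(Nat.beq (applyAll (sel ++ [hC3]) 1) (applyAll (hC3 :: sel) 1))

theorem z_check : allSel clsL goodZ = true := by decide +kernel

end Cfsg.Agent.Lib.H3.Tits
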