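import Mathlib
import Cfsg.Agent.Lib.H3.Tits.USyl
import Cfsg.Agent.Lib.H3.IRTITSa
import Cfsg.Agent.Lib.H3.IRTITSb

set_option autoImplicit false
set_option maxRecDepth 1000000

/-!
# S2926 TITS (helper3): the Sylow 2-subgroup `Bor` of `²F₄(2)` in terms of the class generators

* `clsW_mem_Bor`: the eight class generators `w_j` lie in `Bor`;
* `Bor_induction`: `Bor` is generated by them;
* `central_cases`: an element of `Bor` commuting with `w₀`, `w₇²`, `w₁w₃` is `1` or `z = w₃²`.
-/

namespace Cfsg.Agent.Lib.H3.Tits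

open Cfsg.Lie Matrix Cfsg.Agent.Lib.H29.Chev Cfsg.Agent.Lib.H29
open Cfsg.Agent.Lib.H3.F4 (actE2 mulE2)

theorem fX_mem_pos (r : ℕ) (h : chevF4.IsPosRoot r) : fX r (1 : ZMod 2) ∈ chevF4.posUnipotent (ZMod 2) :=
  Subgroup.subset_closure ⟨r, 1, h, cert12_F4.c6.c2.xA_val r 1⟩

theorem dec0 : wordC (clsW 0) = mulE2 xc24 xc33 := by decide +kernel
theorem dec1 : wordC (clsW 1) = mulE2 (mulE2 xc26 xc34) xc42 := by decide +kernel
theorem dec2 : wordC (clsW 2) = mulE2 xc38 xc43 := by decide +kernel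
theorem dec3 : wordC (clsW 3) = mulE2 (mulE2 xc29 xc41) xc44 := by decide +kernel
theorem dec4 : wordC (clsW 4) = mulE2 xc39 xc45 := by decide +kernel
theorem dec5 : wordC (clsW 5) = mulE2 (mulE2 xc35 xc31) xc40 := by decide +kernel
theorem dec6 : wordC (clsW 6) = mulE2 xc37 xc32 := by decide +kernel
theorem dec7 : wordC (clsW 7) = mulE2 (mulE2 xc25 xc27) xc30 := by decide +kernel

theorem wordG_eq2 (w : List ℕ) (a b : ℕ) (ca cb : List ℕ)
    (ha : codeM (chevF4.x (ZMod 2) a 1) = ca) (hb : codeM (chevF4.x (ZMod 2) b 1) = cb)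
    (h : wordC w = mulE2 ca cb) : wordG w = fX a 1 * fX b 1 := by
  apply codeG_inj
  rw [codeG_wordG, codeG_mul, codeG_fX, codeG_fX, ha, hb, h]

theorem wordG_eq3 (w : List ℕ) (a b c : ℕ) (ca cb cc : List ℕ)
    (ha : codeM (chevF4.x (ZMod 2) a 1) = ca) (hb : codeM (chevF4.x (ZMod 2) b 1) = cb)
    (hc : codeM (chevF4.x (ZMod 2) c 1) = cc)
    (h : wordC w = mulE2 (mulE2 ca cb) cc) : wordG w = fX a 1 * fX b 1 * fX c 1 := by
  apply codeG_inj
  rw [codeG_wordG, codeG_mul, codeG_mul, codeG_fX, codeG_fX, codeG_fX, ha, hb, hc, h]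

theorem clsW_mem_pos : ∀ j < 8, wordG (clsW j) ∈ chevF4.posUnipotent (ZMod 2) := by
  intro j hj
  interval_cases j
  · rw [wordG_eq2 _ 24 33 _ _ code_x24 code_x33 dec0]
    exact mul_mem (fX_mem_pos _ (by decide)) (fX_mem_pos _ (by decide))
  · rw [wordG_eq3 _ 26 34 42 _ _ _ code_x26 code_x34 code_x42 dec1]
    exact mul_mem (mul_mem (fX_mem_pos _ (by decide)) (fX_mem_pos _ (by decide))) (fX_mem_pos _ (by decide))
  · rw [wordG_eq2 _ 38 43 _ _ code_x38 code_x43 dec2]
    exact mul_mem (fX_mem_pos _ (by decide)) (fX_mem_pos _ (by decide))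
  · rw [wordG_eq3 _ 29 41 44 _ _ _ code_x29 code_x41 code_x44 dec3]
    exact mul_mem (mul_mem (fX_mem_pos _ (by decide)) (fX_mem_pos _ (by decide))) (fX_mem_pos _ (by decide))
  · rw [wordG_eq2 _ 39 45 _ _ code_x39 code_x45 dec4]
    exact mul_mem (fX_mem_pos _ (by decide)) (fX_mem_pos _ (by decide))
  · rw [wordG_eq3 _ 35 31 40 _ _ _ code_x35 code_x31 code_x40 dec5]
    exact mul_mem (mul_mem (fX_mem_pos _ (by decide)) (fX_mem_pos _ (by decide))) (fX_mem_pos _ (by decide))
  · rw [wordG_eq2 _ 37 32 _ _ code_x37 code_x32 dec6]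
    exact mul_mem (fX_mem_pos _ (by decide)) (fX_mem_pos _ (by decide))
  · rw [wordG_eq3 _ 25 27 30 _ _ _ code_x25 code_x27 code_x30 dec7]
    exact mul_mem (mul_mem (fX_mem_pos _ (by decide)) (fX_mem_pos _ (by decide))) (fX_mem_pos _ (by decide))

theorem mem_Bor_iff (x : Γ) : x ∈ Bor ↔ x.1 ∈ chevF4.posUnipotent (ZMod 2) := by
  have h1 : chevF4.borelSubgroup (ZMod 2) = chevF4.posUnipotent (ZMod 2) := by
    unfold ChevalleyDatum.borelSubgroup
    rw [diag_bot, sup_bot_eq]
  show x ∈ (chevF4.borelSubgroup (ZMod 2) ⊓ G2).subgroupOf G2 ↔ _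
  rw [Subgroup.mem_subgroupOf, Subgroup.mem_inf, h1]
  exact ⟨fun h => h.1, fun h => ⟨h, x.2⟩⟩

/-- the class generators lie in `Bor` -/
theorem clsW_mem_Bor (j : ℕ) (hj : j < 8) : wΓ (clsW j) ∈ Bor :=
  (mem_Bor_iff _).mpr (clsW_mem_pos j hj)

/-- the class generator `w_j` -/
noncomputable abbrev wc (j : ℕ) : Γ := wΓ (clsW j)

theorem prod_mem_of_forall₂ (S : Subgroup GLF) : ∀ (xs : List GLF) (cs : List (List (List ℕ))),
    List.Forall₂ (fun m c => m ∈ c) (xs.map codeG) cs →
    (∀ c ∈ cs, ∀ m ∈ c, ∀ x : GLF, codeG x = m → x ∈ S) → xs.prod ∈ S := by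
  intro xs
  induction xs with
  | nil => intro _ _ _; simp
  | cons x xs ih =>
    intro cs h hc
    rw [List.map_cons] at h
    cases h with
    | cons hm hrest =>
      rename_i c cs'
      rw [List.prod_cons]
      refine mul_mem (hc c List.mem_cons_self _ hm x rfl) (ih cs' hrest ?_)
      intro c' hc' m hm' y hy
      exact hc c' (List.mem_cons_of_mem _ hc') m hm' y hy

theorem mem_clsC_cases (j : ℕ) (m : List ℕ) (hm : m ∈ clsC j) :
    m = oneC ∨ m = wordC (clsW j) ∨ m = wordC (clsW j ++ clsW j) ∨ m = wordC (clsW j ++ clsW j ++ clsW j) := by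
  unfold clsC at hm
  split_ifs at hm
  · rcases List.mem_cons.mp hm with h | h
    · exact Or.inl h
    · rcases List.mem_cons.mp h with h | h
      · exact Or.inr (Or.inl h)
      · cases h
  · rcases List.mem_cons.mp hm with h | h
    · exact Or.inl h
    · rcases List.mem_cons.mp h with h | h
      · exact Or.inr (Or.inl h)
      · rcases List.mem_cons.mp h with h | h
        · exact Or.inr (Or.inr (Or.inl h))
        · rcases List.mem_cons.mp h with h | h
          · exact Or.inr (Or.inr (Or.inr h))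
          · cases h

theorem eq_of_code_clsC (j : ℕ) (m : List ℕ) (hm : m ∈ clsC j) (x : GLF) (hx : codeG x = m) :
    x = 1 ∨ x = wordG (clsW j) ∨ x = wordG (clsW j) * wordG (clsW j) ∨
      x = wordG (clsW j) * wordG (clsW j) * wordG (clsW j) := by
  rcases mem_clsC_cases j m hm with h | h | h | h
  · left; apply codeG_inj; rw [hx, h, codeG_one]
  · right; left; apply codeG_inj; rw [hx, h, codeG_wordG]
  · right; right; left; apply codeG_inj; rw [hx, h, ← wordG_append, codeG_wordG]
  · right; right; right; apply codeG_inj; rw [hx, h, ← wordG_append, ← wordG_append, codeG_wordG]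

/-- `Bor` is generated by the class generators -/
theorem Bor_le_closure : Bor ≤ Subgroup.closure {x : Γ | ∃ j < 8, x = wc j} := by
  intro u hu
  have hu' : u.1 ∈ chevF4.posUnipotent (ZMod 2) ⊓ G2 := Subgroup.mem_inf.mpr ⟨(mem_Bor_iff u).mp hu, u.2⟩
  obtain ⟨xs, hsel, hprod⟩ := U_normal_form u.1 hu'
  have key : xs.prod ∈ (Subgroup.closure {x : Γ | ∃ j < 8, x = wc j}).map G2.subtype := by
    apply prod_mem_of_forall₂ _ xs clsL hsel
    intro c hc m hm x hx
    unfold clsL at hc
    obtain ⟨j, hj, rfl⟩ := List.mem_map.mp hc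
    have hj8 : j < 8 := List.mem_range.mp hj
    have hw : wc j ∈ Subgroup.closure {x : Γ | ∃ j < 8, x = wc j} := Subgroup.subset_closure ⟨j, hj8, rfl⟩
    rcases eq_of_code_clsC j m hm x hx with h | h | h | h
    · rw [h]; exact one_mem _
    · exact ⟨wc j, hw, h.symm⟩
    · exact ⟨wc j * wc j, mul_mem hw hw, h.symm⟩
    · exact ⟨wc j * wc j * wc j, mul_mem (mul_mem hw hw) hw, h.symm⟩
  obtain ⟨v, hv, hvu⟩ := key
  have : v = u := Subtype.ext (by rw [hprod]; exact hvu)
  rw [← this]; exact hv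

/-- induction on `Bor` -/
theorem Bor_induction (p : Γ → Prop) (h1 : p 1) (hmul : ∀ a b, p a → p b → p (a * b)) (hinv : ∀ a, p a → p a⁻¹)
    (hw : ∀ j < 8, p (wc j)) : ∀ u ∈ Bor, p u := by
  have key : ∀ u ∈ Subgroup.closure {x : Γ | ∃ j < 8, x = wc j}, p u := by
    intro u hu
    induction hu using Subgroup.closure_induction with
    | mem x hx => obtain ⟨j, hj, rfl⟩ := hx; exact hw j hj
    | one => exact h1
    | mul a b _ _ ha hb => exact hmul a b ha hb
    | inv a _ ha => exact hinv a ha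
  exact fun u hu => key u (Bor_le_closure hu)

/-! ### the centre of `Bor ⊓ T` -/

/-- the vector `e₀` (the root vector of the root `0`) -/
def v4 : V := fun i => if i = Sum.inr ⟨0, by decide⟩ then 1 else 0

theorem enc_v4 : enc v4 = 16 := by decide +kernel

theorem applyAll_append_singleton (xs : List GLF) (h : GLF) (v : V) :
    applyAll (xs.map codeG ++ [codeG h]) (enc v) = enc (act (xs.prod * h) v) := by
  have : xs.map codeG ++ [codeG h] = (xs ++ [h]).map codeG := by simp
  rw [this, applyAll_map, List.prod_append, List.prod_singleton]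

theorem applyAll_cons_map (xs : List GLF) (h : GLF) (v : V) :
    applyAll (codeG h :: xs.map codeG) (enc v) = enc (act (h * xs.prod) v) := by
  have : codeG h :: xs.map codeG = (h :: xs).map codeG := by simp
  rw [this, applyAll_map, List.prod_cons]

theorem test_false (xs : List GLF) (h : GLF) (hC : List ℕ) (hh : codeG h = hC) (v : V) (c : ℕ) (hv : enc v = c)
    (hcomm : xs.prod * h = h * xs.prod) :
    (!(Nat.beq (applyAll (xs.map codeG ++ [hC]) c) (applyAll (hC :: xs.map codeG) c))) = false := by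
  rw [← hh, ← hv, applyAll_append_singleton, applyAll_cons_map, hcomm]
  simp

/-- an element of `U` commuting with `w₀`, `w₇²` and `w₁w₃` is `1` or `z` -/
theorem central_cases_GL (u : GLF) (hu : u ∈ chevF4.posUnipotent (ZMod 2) ⊓ G2)
    (h1 : u * wordG (clsW 0) = wordG (clsW 0) * u)
    (h2 : u * wordG (clsW 7 ++ clsW 7) = wordG (clsW 7 ++ clsW 7) * u)
    (h3 : u * wordG (clsW 1 ++ clsW 3) = wordG (clsW 1 ++ clsW 3) * u) :
    u = 1 ∨ u = wordG zW := by
  obtain ⟨xs, hsel, rfl⟩ := U_normal_form u hu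
  have hgood := allSel_spec clsL goodZ z_check _ hsel
  unfold goodZ at hgood
  rw [test_false xs _ hC1 (by rw [codeG_wordG, hC1_eq]) v4 16 enc_v4 h1,
    test_false xs _ hC2 (by rw [codeG_wordG, hC2_eq]) v0 1 enc_v0 h2,
    test_false xs _ hC3 (by rw [codeG_wordG, hC3_eq]) v0 1 enc_v0 h3] at hgood
  simp only [Bool.or_false] at hgood
  unfold patZ at hgood
  rcases Bool.or_eq_true_iff.mp hgood with h | h
  · left
    have e : xs.map codeG = ([1, 1, 1, 1, 1, 1, 1, 1] : List GLF).map codeG := by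
      rw [eq_of_beq h]; simp [codeG_one]
    rw [List.map_injective_iff.mpr codeG_inj e]
    simp
  · right
    have e : xs.map codeG = ([1, 1, 1, wordG zW, 1, 1, 1, 1] : List GLF).map codeG := by
      rw [eq_of_beq h]; simp [codeG_one, codeG_wordG, zC_eq]
    rw [List.map_injective_iff.mpr codeG_inj e]
    simp

end Cfsg.Agent.Lib.H3.Tits
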