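import Mathlib
import Cfsg.Agent.Lib.H3.IRTITSc
import Cfsg.Agent.Lib.H2.BN5
import Cfsg.Agent.Lib.H11.SRBN

set_option autoImplicit false
set_option maxRecDepth 100000

/-!
# S2926 TITS (helper3): the local structure of `²F₄(2)` used for the rigidity of the Tits group

`z = w₃²` is central in `Bor`; `P₁ = ⟨Bor, n₁⟩`, `P₂ = ⟨Bor, n₂⟩` are the two minimal parabolics; `Q_i` is the core of
`Bor ⊓ T` in `P_i`; the centraliser of `Q_i` in `²F₄(2)` lies in `Bor`.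
-/

namespace Cfsg.Agent.Lib.H3.Tits

open Cfsg Cfsg.Lie Matrix Cfsg.Agent.Lib.H29.Chev Cfsg.Agent.Lib.H29
open Cfsg.Agent.Lib.H2 Cfsg.Agent.Lib.H2.BN

/-- the `(B, N)`-pair of `²F₄(2)` -/
noncomputable abbrev PB : Cfsg.BNPair Γ := f4BN (K := ZMod 2) 0 card_K2

/-- the two reflections -/
noncomputable abbrev s1 : Γ := wΓ wN1
noncomputable abbrev s2 : Γ := wΓ wN2

/-- the central involution, and the elements `y = w₅²`, `y₁ = w₁²` -/
noncomputable abbrev zz : Γ := wΓ zW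
noncomputable abbrev yy : Γ := wΓ yW
noncomputable abbrev y1 : Γ := wΓ y1W

theorem s1_mem_S : s1 ∈ PB.S := Or.inl (fN1_word).symm
theorem s2_mem_S : s2 ∈ PB.S := Or.inr (fN2_word).symm

theorem mem_S_cases (s : Γ) (hs : s ∈ PB.S) : s = s1 ∨ s = s2 := by
  rcases hs with h | h
  · left; exact Subtype.ext (h.trans fN1_word)
  · right; exact Subtype.ext (h.trans fN2_word)

theorem s1_sq : s1 * s1 = 1 := by
  rw [← wΓ_append]; exact wΓ_eq_one_of_code wN1_sq

theorem s2_sq : s2 * s2 = 1 := by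
  rw [← wΓ_append]; exact wΓ_eq_one_of_code wN2_sq

theorem s1_inv : s1⁻¹ = s1 := inv_eq_of_mul_eq_one_right s1_sq
theorem s2_inv : s2⁻¹ = s2 := inv_eq_of_mul_eq_one_right s2_sq

theorem zz_sq : zz * zz = 1 := by
  rw [← wΓ_append]; exact wΓ_eq_one_of_code zc_sq

theorem zz_ne : zz ≠ 1 := by
  have h : wordC zW ≠ wordC [] := zc_ne
  have := wΓ_ne_of_code h
  intro e; exact this e

theorem zz_inv : zz⁻¹ = zz := inv_eq_of_mul_eq_one_right zz_sq

theorem yy_sq : yy * yy = 1 := by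
  rw [← wΓ_append]; exact wΓ_eq_one_of_code yc_sq

theorem yy_ne : yy ≠ 1 := by
  have h : wordC yW ≠ wordC [] := yc_ne
  have := wΓ_ne_of_code h
  intro e; exact this e

theorem yy_ne_zz : yy ≠ zz := wΓ_ne_of_code yc_ne_z

theorem zz_comm_wc (j : ℕ) (hj : j < 8) : zz * wc j = wc j * zz := by
  rw [← wΓ_append, ← wΓ_append]; exact wΓ_eq_of_code (zc_comm j hj)

theorem zz_s2 : s2 * zz * s2 = zz := by
  rw [← wΓ_append, ← wΓ_append]; exact wΓ_eq_of_code zc_n2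

theorem zz_s1 : s1 * zz * s1 = yy := by
  rw [← wΓ_append, ← wΓ_append]; exact wΓ_eq_of_code zc_n1

theorem yy_s2 : s2 * yy * s2 = y1 := by
  rw [← wΓ_append, ← wΓ_append]; exact wΓ_eq_of_code yc_n2

theorem y1_ne_yy : y1 ≠ yy := wΓ_ne_of_code y1_ne

theorem y1_ne_yz : y1 ≠ yy * zz := by
  rw [← wΓ_append]; exact wΓ_ne_of_code y1_ne'

theorem yy_conj_wc (j : ℕ) (hj : j < 8) : yy * wc j = wc j * yy ∨ yy * wc j = wc j * yy * zz := by
  rcases yc_conj j hj with h | h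
  · left; rw [← wΓ_append, ← wΓ_append]; exact wΓ_eq_of_code h
  · right; rw [← wΓ_append, ← wΓ_append, ← wΓ_append]; exact wΓ_eq_of_code h

theorem zz_mem_Bor : zz ∈ Bor := by
  have : zz = wc 3 * wc 3 := wΓ_append _ _
  rw [this]; exact mul_mem (clsW_mem_Bor 3 (by decide)) (clsW_mem_Bor 3 (by decide))

theorem yy_mem_Bor : yy ∈ Bor := by
  have : yy = wc 5 * wc 5 := wΓ_append _ _
  rw [this]; exact mul_mem (clsW_mem_Bor 5 (by decide)) (clsW_mem_Bor 5 (by decide))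

theorem y1_mem_Bor : y1 ∈ Bor := by
  have : y1 = wc 1 * wc 1 := wΓ_append _ _
  rw [this]; exact mul_mem (clsW_mem_Bor 1 (by decide)) (clsW_mem_Bor 1 (by decide))

theorem invol_mem_T' (x : Γ) (h1 : x * x = 1) (h2 : x ≠ 1) : x ∈ T := by
  apply invol_mem_T
  have : Fact (Nat.Prime 2) := ⟨Nat.prime_two⟩
  exact orderOf_eq_prime (by rw [pow_two]; exact h1) h2

theorem zz_mem_T : zz ∈ T := invol_mem_T' _ zz_sq zz_ne
theorem yy_mem_T : yy ∈ T := invol_mem_T' _ yy_sq yy_ne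

theorem T_conj_mem (g x : Γ) (hx : x ∈ T) : g * x * g⁻¹ ∈ T := by
  have hn : (T : Subgroup Γ).Normal := inferInstance
  exact hn.conj_mem x hx g

theorem T_conj_mem' (g x : Γ) (hx : x ∈ T) : g⁻¹ * x * g ∈ T := by
  have := T_conj_mem g⁻¹ x hx
  rwa [inv_inv] at this

theorem y1_mem_T : y1 ∈ T := by
  rw [← yy_s2]
  have := T_conj_mem s2 yy yy_mem_T
  rwa [s2_inv] at this

/-- `z` is central in `Bor` -/
theorem zz_central (b : Γ) (hb : b ∈ Bor) : zz * b = b * zz := by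
  refine Bor_induction (fun b => zz * b = b * zz) (by simp) ?_ ?_ zz_comm_wc b hb
  · intro a b ha hb
    show zz * (a * b) = a * b * zz
    rw [← mul_assoc, ha, mul_assoc, hb, mul_assoc]
  · intro a ha
    show zz * a⁻¹ = a⁻¹ * zz
    have : a⁻¹ * (zz * a) * a⁻¹ = a⁻¹ * (a * zz) * a⁻¹ := by rw [ha]
    simpa [mul_assoc] using this.symm

/-- `y` is in the second centre of `Bor` -/
theorem yy_conj (b : Γ) (hb : b ∈ Bor) : b⁻¹ * yy * b = yy ∨ b⁻¹ * yy * b = yy * zz := by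
  have key : ∀ b ∈ Bor, zz * b = b * zz ∧ (b⁻¹ * yy * b = yy ∨ b⁻¹ * yy * b = yy * zz) := by
    refine Bor_induction (fun b => zz * b = b * zz ∧ (b⁻¹ * yy * b = yy ∨ b⁻¹ * yy * b = yy * zz))
      ⟨by simp, by simp⟩ ?_ ?_ ?_
    · rintro a b ⟨ha1, ha2⟩ ⟨hb1, hb2⟩
      refine ⟨by rw [← mul_assoc, ha1, mul_assoc, hb1, mul_assoc], ?_⟩
      have e : (a * b)⁻¹ * yy * (a * b) = b⁻¹ * (a⁻¹ * yy * a) * b := by group
      rw [e]
      rcases ha2 with ha2 | ha2
      · rw [ha2]; exact hb2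
      · rw [ha2]
        have e2 : b⁻¹ * (yy * zz) * b = (b⁻¹ * yy * b) * zz := by
          rw [mul_assoc b⁻¹, mul_assoc yy, hb1]; group
        rw [e2]
        rcases hb2 with hb2 | hb2
        · right; rw [hb2]
        · left; rw [hb2, mul_assoc, zz_sq, mul_one]
    · rintro a ⟨ha1, ha2⟩
      have hz : zz * a⁻¹ = a⁻¹ * zz := by
        have : a⁻¹ * (zz * a) * a⁻¹ = a⁻¹ * (a * zz) * a⁻¹ := by rw [ha1]
        simpa [mul_assoc] using this.symm
      refine ⟨hz, ?_⟩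
      rw [inv_inv]
      rcases ha2 with ha2 | ha2
      · left
        have : a * (a⁻¹ * yy * a) * a⁻¹ = a * yy * a⁻¹ := by rw [ha2]
        rw [← this]; group
      · right
        have h1 : a * (a⁻¹ * yy * a) * a⁻¹ = a * (yy * zz) * a⁻¹ := by rw [ha2]
        have h2 : a * (a⁻¹ * yy * a) * a⁻¹ = yy := by group
        have h3 : a * (yy * zz) * a⁻¹ = (a * yy * a⁻¹) * zz := by
          rw [mul_assoc a, mul_assoc yy, hz]; group
        rw [h2, h3] at h1
        calc a * yy * a⁻¹ = a * yy * a⁻¹ * (zz * zz) := by rw [zz_sq, mul_one]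
          _ = (a * yy * a⁻¹ * zz) * zz := by group
          _ = yy * zz := by rw [← h1]
    · intro j hj
      refine ⟨zz_comm_wc j hj, ?_⟩
      rcases yy_conj_wc j hj with h | h
      · left
        show (wc j)⁻¹ * yy * wc j = yy
        rw [mul_assoc, h]; group
      · right
        show (wc j)⁻¹ * yy * wc j = yy * zz
        rw [mul_assoc, h]; group
  exact (key b hb).2

/-! ### the minimal parabolics and the cores -/

/-- the minimal parabolic `⟨Bor, s⟩` -/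
noncomputable abbrev Par (s : Γ) : Subgroup Γ := PB.parabolic {s}

theorem Bor_le_Par (s : Γ) : Bor ≤ Par s := le_sup_left

theorem s_mem_Par (s : Γ) : s ∈ Par s := Subgroup.mem_sup_right (Subgroup.subset_closure rfl)

theorem mem_Par_cases {s g : Γ} (hs : s ∈ PB.S) (hg : g ∈ Par s) :
    g ∈ Bor ∨ ∃ b ∈ Bor, ∃ b' ∈ Bor, g = b * s * b' := by
  rcases Cfsg.Agent.Lib.H11.SR.mem_parabolic_singleton hs hg with h | h
  · exact Or.inl h
  · exact Or.inr (mem_C_iff.mp h)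

/-- the core of `X` in `P`: the elements all of whose `P`-conjugates lie in `X` -/
def coreIn (P X : Subgroup Γ) : Subgroup Γ where
  carrier := {x | ∀ g ∈ P, g⁻¹ * x * g ∈ X}
  one_mem' := by intro g _; simp
  mul_mem' := by
    intro a b ha hb g hg
    have e : g⁻¹ * (a * b) * g = (g⁻¹ * a * g) * (g⁻¹ * b * g) := by group
    rw [e]; exact mul_mem (ha g hg) (hb g hg)
  inv_mem' := by
    intro a ha g hg
    have e : g⁻¹ * a⁻¹ * g = (g⁻¹ * a * g)⁻¹ := by group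
    rw [e]; exact inv_mem (ha g hg)

theorem mem_coreIn {P X : Subgroup Γ} {x : Γ} : x ∈ coreIn P X ↔ ∀ g ∈ P, g⁻¹ * x * g ∈ X := Iff.rfl

theorem coreIn_le (P X : Subgroup Γ) : coreIn P X ≤ X := by
  intro x hx
  have := hx 1 (one_mem _)
  simpa using this

theorem coreIn_conj {P X : Subgroup Γ} {x h : Γ} (hx : x ∈ coreIn P X) (hh : h ∈ P) : h * x * h⁻¹ ∈ coreIn P X := by
  intro g hg
  have e : g⁻¹ * (h * x * h⁻¹) * g = (h⁻¹ * g)⁻¹ * x * (h⁻¹ * g) := by group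
  rw [e]; exact hx _ (mul_mem (inv_mem hh) hg)

theorem coreIn_conj' {P X : Subgroup Γ} {x h : Γ} (hx : x ∈ coreIn P X) (hh : h ∈ P) : h⁻¹ * x * h ∈ coreIn P X := by
  have := coreIn_conj hx (inv_mem hh)
  rwa [inv_inv] at this

/-- the subgroups `Q_i` -/
noncomputable abbrev Qc (s : Γ) : Subgroup Γ := coreIn (Par s) (Bor ⊓ T)

theorem BT_conj {x b : Γ} (hx : x ∈ Bor ⊓ T) (hb : b ∈ Bor) : b⁻¹ * x * b ∈ Bor ⊓ T :=
  Subgroup.mem_inf.mpr ⟨mul_mem (mul_mem (inv_mem hb) (Subgroup.mem_inf.mp hx).1) hb,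
    T_conj_mem' b x (Subgroup.mem_inf.mp hx).2⟩

theorem zz_mem_BT : zz ∈ Bor ⊓ T := Subgroup.mem_inf.mpr ⟨zz_mem_Bor, zz_mem_T⟩
theorem yy_mem_BT : yy ∈ Bor ⊓ T := Subgroup.mem_inf.mpr ⟨yy_mem_Bor, yy_mem_T⟩
theorem y1_mem_BT : y1 ∈ Bor ⊓ T := Subgroup.mem_inf.mpr ⟨y1_mem_Bor, y1_mem_T⟩

theorem zz_conj_Bor (b : Γ) (hb : b ∈ Bor) : b⁻¹ * zz * b = zz := by
  rw [mul_assoc, zz_central b hb]; group

theorem zz_mem_Q1 : zz ∈ Qc s1 := by
  intro g hg
  rcases mem_Par_cases s1_mem_S hg with h | ⟨b, hb, b', hb', rfl⟩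
  · rw [zz_conj_Bor g h]; exact zz_mem_BT
  · have e : (b * s1 * b')⁻¹ * zz * (b * s1 * b') = b'⁻¹ * (s1⁻¹ * (b⁻¹ * zz * b) * s1) * b' := by group
    rw [e, zz_conj_Bor b hb, s1_inv, zz_s1]
    exact BT_conj yy_mem_BT hb'

theorem zz_mem_Q2 : zz ∈ Qc s2 := by
  intro g hg
  rcases mem_Par_cases s2_mem_S hg with h | ⟨b, hb, b', hb', rfl⟩
  · rw [zz_conj_Bor g h]; exact zz_mem_BT
  · have e : (b * s2 * b')⁻¹ * zz * (b * s2 * b') = b'⁻¹ * (s2⁻¹ * (b⁻¹ * zz * b) * s2) * b' := by group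
    rw [e, zz_conj_Bor b hb, s2_inv, zz_s2]
    exact BT_conj zz_mem_BT hb'

theorem yz_s2 : s2 * (yy * zz) * s2 = y1 * zz := by
  have e : s2 * (yy * zz) * s2 = (s2 * yy * s2) * (s2⁻¹ * zz * s2) := by group
  rw [e, s2_inv, yy_s2, zz_s2]

theorem yy_mem_Q2 : yy ∈ Qc s2 := by
  intro g hg
  rcases mem_Par_cases s2_mem_S hg with h | ⟨b, hb, b', hb', rfl⟩
  · rcases yy_conj g h with h1 | h1
    · rw [h1]; exact yy_mem_BT
    · rw [h1]; exact mul_mem yy_mem_BT zz_mem_BT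
  · have e : (b * s2 * b')⁻¹ * yy * (b * s2 * b') = b'⁻¹ * (s2⁻¹ * (b⁻¹ * yy * b) * s2) * b' := by group
    rw [e, s2_inv]
    rcases yy_conj b hb with h1 | h1
    · rw [h1, yy_s2]; exact BT_conj y1_mem_BT hb'
    · rw [h1, yz_s2]; exact BT_conj (mul_mem y1_mem_BT zz_mem_BT) hb'

/-! ### the centralisers of the cores -/

theorem Par_le_normalizer (s : Γ) : Par s ≤ Subgroup.normalizer (Qc s : Set Γ) := by
  intro h hh
  rw [Subgroup.mem_normalizer_iff]
  intro x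
  constructor
  · intro hx; exact coreIn_conj hx hh
  · intro hx
    have := coreIn_conj' hx hh
    have e : h⁻¹ * (h * x * h⁻¹) * h = x := by group
    rwa [e] at this

theorem Qc_ne_bot_not_normal (s : Γ) (hz : zz ∈ Qc s) : Subgroup.normalizer (Qc s : Set Γ) ≠ ⊤ := by
  intro htop
  have hn : (Qc s).Normal := Subgroup.normalizer_eq_top_iff.mp htop
  have hle : Qc s ≤ Bor := (coreIn_le _ _).trans inf_le_left
  have : Qc s ≤ Bor.normalCore := (Subgroup.normal_le_normalCore).mpr hle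
  rw [Bor_core] at this
  exact zz_ne ((Subgroup.mem_bot).mp (this hz))

/-- the centraliser of `Q_i` lies in `P_i` -/
theorem cent_le_Par (s s' : Γ) (hs : s ∈ PB.S) (hS : ∀ t ∈ PB.S, t = s ∨ t = s') (hz : zz ∈ Qc s) :
    Subgroup.centralizer (Qc s : Set Γ) ≤ Par s := by
  set M : Subgroup Γ := Subgroup.centralizer (Qc s : Set Γ) ⊔ Par s with hM
  have hMn : M ≤ Subgroup.normalizer (Qc s : Set Γ) :=
    sup_le (Subgroup.centralizer_le_normalizer _) (Par_le_normalizer s)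
  have hBM : PB.B ≤ M := (Bor_le_Par s).trans le_sup_right
  have hs' : s' ∉ M := by
    intro hs'M
    apply Qc_ne_bot_not_normal s hz
    rw [eq_top_iff, ← parabolic_S (P := PB)]
    apply sup_le ((Bor_le_Par s).trans (Par_le_normalizer s))
    rw [Subgroup.closure_le]
    intro t ht
    rcases hS t ht with rfl | rfl
    · exact Par_le_normalizer _ (s_mem_Par _)
    · exact hMn hs'M
  have key := eq_parabolic_of_le (P := PB) M hBM
  have hsub : {t | t ∈ PB.S ∧ t ∈ M} ⊆ ({s} : Set Γ) := by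
    rintro t ⟨ht1, ht2⟩
    rcases hS t ht1 with rfl | rfl
    · rfl
    · exact absurd ht2 hs'
  calc Subgroup.centralizer (Qc s : Set Γ) ≤ M := le_sup_left
    _ = PB.parabolic {t | t ∈ PB.S ∧ t ∈ M} := key
    _ ≤ Par s := parabolic_mono hsub

theorem S_cases12 : ∀ t ∈ PB.S, t = s1 ∨ t = s2 := mem_S_cases
theorem S_cases21 : ∀ t ∈ PB.S, t = s2 ∨ t = s1 := fun t ht => (mem_S_cases t ht).symm

/-- an element `s β` of the centraliser of `Q` gives `s q s⁻¹ = β⁻¹ q β` -/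
theorem conj_eq_of_cent {s β q : Γ} {Q : Subgroup Γ} (hc : s * β ∈ Subgroup.centralizer (Q : Set Γ))
    (hq : β⁻¹ * q * β ∈ Q) : s * q * s⁻¹ = β⁻¹ * q * β := by
  have h := Subgroup.mem_centralizer_iff.mp hc _ hq
  -- h : β⁻¹ * q * β * (s * β) = s * β * (β⁻¹ * q * β)
  have e1 : s * β * (β⁻¹ * q * β) = s * q * β := by group
  rw [e1] at h
  have : s * q * s⁻¹ = (s * q * β) * (s * β)⁻¹ := by group
  rw [this, ← h]; group

theorem cent_Q1_le : Subgroup.centralizer (Qc s1 : Set Γ) ≤ Bor := by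
  intro c hc
  have hcP := cent_le_Par s1 s2 s1_mem_S S_cases12 zz_mem_Q1 hc
  rcases mem_Par_cases s1_mem_S hcP with h | ⟨b, hb, b', hb', rfl⟩
  · exact h
  · exfalso
    -- `s1 * (b' * b)` centralises `Q₁`
    have hc' : s1 * (b' * b) ∈ Subgroup.centralizer (Qc s1 : Set Γ) := by
      rw [Subgroup.mem_centralizer_iff]
      intro q hq
      have hq' : b * q * b⁻¹ ∈ Qc s1 := coreIn_conj hq (Bor_le_Par _ hb)
      have h := Subgroup.mem_centralizer_iff.mp hc _ hq'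
      have e1 : q * (s1 * (b' * b)) = b⁻¹ * (b * q * b⁻¹ * (b * s1 * b')) * b := by group
      have e2 : s1 * (b' * b) * q = b⁻¹ * (b * s1 * b' * (b * q * b⁻¹)) * b := by group
      rw [e1, e2, h]
    have hβ : b' * b ∈ Bor := mul_mem hb' hb
    have hq : (b' * b)⁻¹ * zz * (b' * b) ∈ Qc s1 := by rw [zz_conj_Bor _ hβ]; exact zz_mem_Q1
    have h := conj_eq_of_cent hc' hq
    rw [zz_conj_Bor _ hβ, s1_inv, zz_s1] at h
    exact yy_ne_zz h

theorem cent_Q2_le : Subgroup.centralizer (Qc s2 : Set Γ) ≤ Bor := by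
  intro c hc
  have hcP := cent_le_Par s2 s1 s2_mem_S S_cases21 zz_mem_Q2 hc
  rcases mem_Par_cases s2_mem_S hcP with h | ⟨b, hb, b', hb', rfl⟩
  · exact h
  · exfalso
    have hc' : s2 * (b' * b) ∈ Subgroup.centralizer (Qc s2 : Set Γ) := by
      rw [Subgroup.mem_centralizer_iff]
      intro q hq
      have hq' : b * q * b⁻¹ ∈ Qc s2 := coreIn_conj hq (Bor_le_Par _ hb)
      have h := Subgroup.mem_centralizer_iff.mp hc _ hq'
      have e1 : q * (s2 * (b' * b)) = b⁻¹ * (b * q * b⁻¹ * (b * s2 * b')) * b := by group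
      have e2 : s2 * (b' * b) * q = b⁻¹ * (b * s2 * b' * (b * q * b⁻¹)) * b := by group
      rw [e1, e2, h]
    have hβ : b' * b ∈ Bor := mul_mem hb' hb
    have hq : (b' * b)⁻¹ * yy * (b' * b) ∈ Qc s2 := coreIn_conj' yy_mem_Q2 (Bor_le_Par _ hβ)
    have h := conj_eq_of_cent hc' hq
    rw [s2_inv, yy_s2] at h
    rcases yy_conj _ hβ with h1 | h1
    · rw [h1] at h; exact y1_ne_yy h
    · rw [h1] at h; exact y1_ne_yz h

end Cfsg.Agent.Lib.H3.Tits
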