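import Mathlib
import Cfsg.Agent.Lib.H3.IRTITSd
import Cfsg.Agent.Lib.H13.IRDefs

set_option autoImplicit false
set_option maxRecDepth 100000

/-!
# S2926 piece TITS (helper3 twin): `InvRigid` for the Tits group `²F₄(2)'`

Route B of the blueprint on the tower `Lib/H3/Tits`: `S = Bor ⊓ T`, `N_i = P_i ⊓ T` for the two minimal parabolics
`P_i = ⟨Bor, s_i⟩` of `²F₄(2)`, `Q_i` = the core of `Bor ⊓ T` in `P_i`; `C(Q_i) ≤ Bor` (IRTITSd), `⟨N₁, N₂⟩ = T` (it is a
nontrivial normal subgroup of `²F₄(2)` inside the simple group `T`), `Z(S) = ⟨z⟩` (kernel check over the 4096 elements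
of `Bor`) and `z` is central in `P₂`.
-/

namespace Cfsg.Agent.Lib.H3.IR

open Cfsg Cfsg.Lie Cfsg.Agent.Lib.H3.Tits Cfsg.Agent.Lib.H13.IR
open Cfsg.Agent.Lib.H2 Cfsg.Agent.Lib.H2.BN

/-! ### the Sylow 2-subgroup -/

theorem BT_pgroup : IsPGroup 2 (Bor.subgroupOf T) :=
  Bor_pgroup.comap_of_injective T.subtype Subtype.coe_injective

theorem Bor_index : Bor.index = 8775 := by
  have h := Subgroup.card_mul_index Bor
  rw [card_Bor, card_Γ] at h
  omega

theorem BT_index : ¬ 2 ∣ (Bor.subgroupOf T).index := by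
  have e1 : Bor.relIndex T * T.index = (Bor ⊓ T).index := by
    have := Subgroup.relIndex_inf_mul_relIndex Bor T ⊤
    simpa using this
  have e2 : T.relIndex Bor * Bor.index = (Bor ⊓ T).index := by
    have := Subgroup.relIndex_inf_mul_relIndex T Bor ⊤
    rw [inf_comm T Bor] at this
    simpa using this
  have ht : T.relIndex Bor ∣ 2 := by
    have := Subgroup.relIndex_dvd_index_of_normal T Bor
    rwa [T_index] at this
  rw [T_index] at e1
  rw [Bor_index] at e2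
  show ¬ 2 ∣ Bor.relIndex T
  rcases (Nat.dvd_prime Nat.prime_two).mp ht with h | h
  · rw [h] at e2; omega
  · rw [h] at e2; omega

/-- the Sylow 2-subgroup `Bor ⊓ T` of the Tits group -/
noncomputable def ST : Sylow 2 ↥T := BT_pgroup.toSylow BT_index

theorem mem_ST (x : ↥T) : x ∈ (ST : Subgroup ↥T) ↔ (x : Γ) ∈ Bor := Iff.rfl

/-- the subgroups `N_i = P_i ⊓ T` and `Q_i` of the Tits group -/
noncomputable abbrev N' (s : Γ) : Subgroup ↥T := (Par s).subgroupOf T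
noncomputable abbrev Q' (s : Γ) : Subgroup ↥T := (Qc s).subgroupOf T

theorem Q'_le (s : Γ) : Q' s ≤ (ST : Subgroup ↥T) := by
  intro x hx
  exact (Subgroup.mem_inf.mp (coreIn_le _ _ (Subgroup.mem_subgroupOf.mp hx))).1

theorem ST_le (s : Γ) : (ST : Subgroup ↥T) ≤ N' s := by
  intro x hx
  exact Subgroup.mem_subgroupOf.mpr (Bor_le_Par s ((mem_ST x).mp hx))

theorem N'_le (s : Γ) : N' s ≤ Subgroup.normalizer (Q' s : Set ↥T) := by
  intro n hn
  rw [Subgroup.mem_normalizer_iff]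
  intro x
  rw [Subgroup.mem_subgroupOf, Subgroup.mem_subgroupOf, Subgroup.coe_mul, Subgroup.coe_mul, Subgroup.coe_inv]
  exact Subgroup.mem_normalizer_iff.mp (Par_le_normalizer s (Subgroup.mem_subgroupOf.mp hn)) (x : Γ)

theorem cent_Q'_le (s : Γ) (h : Subgroup.centralizer (Qc s : Set Γ) ≤ Bor) :
    Subgroup.centralizer (Q' s : Set ↥T) ≤ (ST : Subgroup ↥T) := by
  intro c hc
  rw [mem_ST]
  apply h
  rw [Subgroup.mem_centralizer_iff]
  intro q hq
  have hqT : q ∈ T := (Subgroup.mem_inf.mp (coreIn_le _ _ hq)).2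
  have hq' : (⟨q, hqT⟩ : ↥T) ∈ Q' s := Subgroup.mem_subgroupOf.mpr hq
  have h1 := Subgroup.mem_centralizer_iff.mp hc _ hq'
  have h2 := Subtype.ext_iff.mp h1
  rw [Subgroup.coe_mul, Subgroup.coe_mul] at h2
  exact h2

/-! ### generation -/

theorem conj_mem_sup (A B : Subgroup Γ) (g : Γ) (hA : ∀ x ∈ A, g * x * g⁻¹ ∈ A ⊔ B) (hB : ∀ x ∈ B, g * x * g⁻¹ ∈ A ⊔ B) :
    ∀ x ∈ A ⊔ B, g * x * g⁻¹ ∈ A ⊔ B := by
  intro x hx
  rw [Subgroup.sup_eq_closure] at hx
  induction hx using Subgroup.closure_induction with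
  | mem y hy =>
    rcases hy with hy | hy
    · exact hA y hy
    · exact hB y hy
  | one => simp
  | mul a b _ _ ha hb =>
    have e : g * (a * b) * g⁻¹ = (g * a * g⁻¹) * (g * b * g⁻¹) := by group
    rw [e]; exact mul_mem ha hb
  | inv a _ ha =>
    have e : g * a⁻¹ * g⁻¹ = (g * a * g⁻¹)⁻¹ := by group
    rw [e]; exact inv_mem ha

/-- the subgroup generated by `P₁ ⊓ T` and `P₂ ⊓ T` -/
noncomputable abbrev MM : Subgroup Γ := (Par s1 ⊓ T) ⊔ (Par s2 ⊓ T)

theorem s1_ne : s1 ≠ 1 := by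
  intro h
  have := zz_s1
  rw [h, one_mul, mul_one] at this
  exact yy_ne_zz this.symm

theorem s2_ne : s2 ≠ 1 := by
  intro h
  have := yy_s2
  rw [h, one_mul, mul_one] at this
  exact y1_ne_yy this.symm

theorem s1_mem_T : s1 ∈ T := invol_mem_T' _ s1_sq s1_ne

theorem s2_mem_T : s2 ∈ T := invol_mem_T' _ s2_sq s2_ne

theorem PT_conj (s g x : Γ) (hg : g ∈ Par s) (hx : x ∈ Par s ⊓ T) : g * x * g⁻¹ ∈ Par s ⊓ T :=
  Subgroup.mem_inf.mpr ⟨mul_mem (mul_mem hg (Subgroup.mem_inf.mp hx).1) (inv_mem hg),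
    T_conj_mem g x (Subgroup.mem_inf.mp hx).2⟩

theorem Bor_normalizes_MM (b : Γ) (hb : b ∈ Bor) : ∀ x ∈ MM, b * x * b⁻¹ ∈ MM :=
  conj_mem_sup _ _ b
    (fun x hx => Subgroup.mem_sup_left (PT_conj s1 b x (Bor_le_Par _ hb) hx))
    (fun x hx => Subgroup.mem_sup_right (PT_conj s2 b x (Bor_le_Par _ hb) hx))

theorem MM_normal : (MM : Subgroup Γ).Normal := by
  rw [← Subgroup.normalizer_eq_top_iff, eq_top_iff, ← parabolic_S (P := PB)]
  apply sup_le
  · intro b hb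
    rw [Subgroup.mem_normalizer_iff]
    intro x
    constructor
    · exact Bor_normalizes_MM b hb x
    · intro hx
      have := Bor_normalizes_MM b⁻¹ (inv_mem hb) _ hx
      have e : b⁻¹ * (b * x * b⁻¹) * b⁻¹⁻¹ = x := by group
      rwa [e] at this
  · rw [Subgroup.closure_le]
    intro t ht
    apply Subgroup.le_normalizer
    rcases mem_S_cases t ht with rfl | rfl
    · exact Subgroup.mem_sup_left (Subgroup.mem_inf.mpr ⟨s_mem_Par _, s1_mem_T⟩)
    · exact Subgroup.mem_sup_right (Subgroup.mem_inf.mpr ⟨s_mem_Par _, s2_mem_T⟩)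

theorem gen_top_aux : N' s1 ⊔ N' s2 = MM.subgroupOf T := by
  rw [Subgroup.subgroupOf_sup inf_le_right inf_le_right, Subgroup.inf_subgroupOf_right, Subgroup.inf_subgroupOf_right]

theorem zz_mem_MM : zz ∈ MM :=
  Subgroup.mem_sup_left (Subgroup.mem_inf.mpr ⟨Bor_le_Par _ zz_mem_Bor, zz_mem_T⟩)

theorem MM_sub_ne_bot : MM.subgroupOf T ≠ ⊥ := by
  intro h
  have hz : (⟨zz, zz_mem_T⟩ : ↥T) ∈ MM.subgroupOf T := Subgroup.mem_subgroupOf.mpr zz_mem_MM
  rw [h, Subgroup.mem_bot] at hz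
  have h2 := Subtype.ext_iff.mp hz
  rw [Subgroup.coe_one] at h2
  exact zz_ne h2

theorem gen_top : N' s1 ⊔ N' s2 = ⊤ := by
  rw [gen_top_aux]
  have hn : (MM.subgroupOf T).Normal := MM_normal.subgroupOf T
  have hs : IsSimpleGroup ↥T := T_simple
  rcases hn.eq_bot_or_eq_top with h | h
  · exact absurd h MM_sub_ne_bot
  · exact h

/-! ### the centre of the Sylow 2-subgroup -/

/-- the test elements `w₇²` and `w₁w₃` -/
noncomputable abbrev h2 : Γ := wΓ (clsW 7 ++ clsW 7)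
noncomputable abbrev h3 : Γ := wΓ (clsW 1 ++ clsW 3)

theorem wc0_mem_T : wc 0 ∈ T := by
  have : clsW 0 = [0] := by decide
  show wΓ (clsW 0) ∈ T
  rw [this]; exact g0_mem_T

theorem h2_mem_T : h2 ∈ T := by
  apply invol_mem_T'
  · rw [← wΓ_append]; exact wΓ_eq_one_of_code w7sq_sq
  · have h : wordC (clsW 7 ++ clsW 7) ≠ wordC [] := w7sq_ne
    exact wΓ_ne_of_code h

theorem wc_odd_not_mem_T (j : ℕ) (hj : j < 8) (hodd : j % 2 ≠ 0) : wc j ∉ T := by
  intro h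
  have e : wc j = (wΓ (nW j))⁻¹ * wΓ [2] * wΓ (nW j) := by
    apply Subtype.ext
    have := clsW_eq j hj
    rw [if_neg hodd] at this
    rw [Subgroup.coe_mul, Subgroup.coe_mul, Subgroup.coe_inv]
    show wordG (clsW j) = (wordG (nW j))⁻¹ * wordG [2] * wordG (nW j)
    rw [wordG_single]; exact this
  have h' := T_conj_mem (wΓ (nW j)) _ h
  rw [e] at h'
  have e2 : wΓ (nW j) * ((wΓ (nW j))⁻¹ * wΓ [2] * wΓ (nW j)) * (wΓ (nW j))⁻¹ = wΓ [2] := by group
  rw [e2] at h'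
  exact g2_not_mem_T h'

theorem h3_mem_T : h3 ∈ T := by
  have : h3 = wc 1 * wc 3 := wΓ_append _ _
  rw [this]
  exact (Subgroup.mul_mem_iff_of_index_two T_index).mpr
    (iff_of_false (wc_odd_not_mem_T 1 (by decide) (by decide)) (wc_odd_not_mem_T 3 (by decide) (by decide)))

theorem h2_mem_Bor : h2 ∈ Bor := by
  have : h2 = wc 7 * wc 7 := wΓ_append _ _
  rw [this]; exact mul_mem (clsW_mem_Bor 7 (by decide)) (clsW_mem_Bor 7 (by decide))

theorem h3_mem_Bor : h3 ∈ Bor := by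
  have : h3 = wc 1 * wc 3 := wΓ_append _ _
  rw [this]; exact mul_mem (clsW_mem_Bor 1 (by decide)) (clsW_mem_Bor 3 (by decide))

/-- a central element of `Bor ⊓ T` is `1` or `z` -/
theorem central_cases (u : Γ) (hu : u ∈ Bor)
    (hc : ∀ x ∈ Bor ⊓ T, u * x = x * u) : u = 1 ∨ u = zz := by
  have hu' : u.1 ∈ chevF4.posUnipotent (ZMod 2) ⊓ G2 := Subgroup.mem_inf.mpr ⟨(mem_Bor_iff u).mp hu, u.2⟩
  have c1 := hc (wc 0) (Subgroup.mem_inf.mpr ⟨clsW_mem_Bor 0 (by decide), wc0_mem_T⟩)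
  have c2 := hc h2 (Subgroup.mem_inf.mpr ⟨h2_mem_Bor, h2_mem_T⟩)
  have c3 := hc h3 (Subgroup.mem_inf.mpr ⟨h3_mem_Bor, h3_mem_T⟩)
  have d1 : u.1 * wordG (clsW 0) = wordG (clsW 0) * u.1 := by
    have := Subtype.ext_iff.mp c1
    rwa [Subgroup.coe_mul, Subgroup.coe_mul] at this
  have d2 : u.1 * wordG (clsW 7 ++ clsW 7) = wordG (clsW 7 ++ clsW 7) * u.1 := by
    have := Subtype.ext_iff.mp c2
    rwa [Subgroup.coe_mul, Subgroup.coe_mul] at this
  have d3 : u.1 * wordG (clsW 1 ++ clsW 3) = wordG (clsW 1 ++ clsW 3) * u.1 := by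
    have := Subtype.ext_iff.mp c3
    rwa [Subgroup.coe_mul, Subgroup.coe_mul] at this
  rcases central_cases_GL u.1 hu' d1 d2 d3 with h | h
  · left; exact Subtype.ext h
  · right; exact Subtype.ext h

theorem zz_comm_s2 : zz * s2 = s2 * zz := by
  have h := zz_s2
  calc zz * s2 = (s2 * zz * s2) * s2 := by rw [h]
    _ = s2 * zz * (s2 * s2) := by group
    _ = s2 * zz := by rw [s2_sq, mul_one]

/-- `z` is central in `P₂` -/
theorem zz_central_Par2 (x : Γ) (hx : x ∈ Par s2) : zz * x = x * zz := by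
  rcases mem_Par_cases s2_mem_S hx with h | ⟨b, hb, b', hb', rfl⟩
  · exact zz_central x h
  · calc zz * (b * s2 * b') = (zz * b) * s2 * b' := by group
      _ = b * (zz * s2) * b' := by rw [zz_central b hb]; group
      _ = b * s2 * (zz * b') := by rw [zz_comm_s2]; group
      _ = b * s2 * b' * zz := by rw [zz_central b' hb']; group

theorem hcons : ∀ z ∈ (ST : Subgroup ↥T), z * z = 1 → (∀ s ∈ (ST : Subgroup ↥T), z * s = s * z) →
    (∀ x ∈ (⊥ : Subgroup ↥T), z * x = x * z) →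
      ∃ a b : ↥T, (∀ x ∈ N' s1, a * x = x * a) ∧ (∀ x ∈ N' s2, b * x = x * b) ∧ z = a * b := by
  intro z hz _ hcen _
  have hc : ∀ x ∈ Bor ⊓ T, (z : Γ) * x = x * (z : Γ) := by
    intro x hx
    have hxS : (⟨x, (Subgroup.mem_inf.mp hx).2⟩ : ↥T) ∈ (ST : Subgroup ↥T) := (Subgroup.mem_inf.mp hx).1
    have := Subtype.ext_iff.mp (hcen _ hxS)
    rwa [Subgroup.coe_mul, Subgroup.coe_mul] at this
  rcases central_cases (z : Γ) ((mem_ST z).mp hz) hc with h | h
  · refine ⟨1, 1, by simp, by simp, ?_⟩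
    rw [mul_one]
    apply Subtype.ext
    rw [h, Subgroup.coe_one]
  · refine ⟨1, z, by simp, ?_, by rw [one_mul]⟩
    intro x hx
    apply Subtype.ext
    rw [Subgroup.coe_mul, Subgroup.coe_mul, h]
    exact zz_central_Par2 _ (Subgroup.mem_subgroupOf.mp hx)

/-! ### the result -/

theorem invRigid_T : InvRigid ↥T :=
  invRigid_of_two ST (Q' s1) (Q' s2) (N' s1) (N' s2) ⊥ (Q'_le s1) (ST_le s1) (N'_le s1) (cent_Q'_le s1 cent_Q1_le)
    (Q'_le s2) (ST_le s2) (N'_le s2) (cent_Q'_le s2 cent_Q2_le) bot_le gen_top hcons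

/-- TITS: the Tits group `²F₄(2)'` -/
theorem invRigid_Tits : InvRigid Lie.TitsGroup := invRigid_T

end Cfsg.Agent.Lib.H3.IR
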