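import Mathlib
import Cfsg.Prelude.Def_Transfer
import Cfsg.Agent.Lib.H1.PGroupBasic

set_option autoImplicit false

/-! # Generic lemmas for the centraliser of an involution

* a double counting bound for the order of a centraliser;
* lifting involutions and their centralisers through a central quotient of odd order;
* a criterion for a group of order 32 to be extraspecial of minus type.
-/

namespace Cfsg.Agent.Lib.H3.CentGen

section Counting

variable {G P : Type*} [Group G] [Finite G] [MulAction G P]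

/-- If `n` distinct conjugates of `t` fix `α`, and `t` fixes at most `|F|` points of the orbit
of `α`, then `n |C(t)| ≤ |F| |G_α|`. -/
theorem card_centralizer_mul_le (t : G) (α : P) (n : ℕ) (s : Fin n → G)
    (hs : Function.Injective s) (hconj : ∀ i, ∃ g : G, s i = g * t * g⁻¹)
    (hfix : ∀ i, s i • α = α) (F : Finset P)
    (hF : ∀ β ∈ MulAction.orbit G α, t • β = β → β ∈ F) :
    n * Nat.card (Subgroup.centralizer ({t} : Set G)) ≤
      F.card * Nat.card (MulAction.stabilizer G α) := by
  classical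
  choose h hh using hconj
  have hcomm : ∀ c : Subgroup.centralizer ({t} : Set G), (c : G)⁻¹ * t * (c : G) = t := by
    intro c
    have := Subgroup.mem_centralizer_iff.mp c.2 t rfl
    rw [mul_assoc, this, ← mul_assoc, inv_mul_cancel, one_mul]
  have hT1 : ∀ p : Fin n × Subgroup.centralizer ({t} : Set G),
      ((p.2 : G) * (h p.1)⁻¹)⁻¹ * t * ((p.2 : G) * (h p.1)⁻¹) = s p.1 := by
    intro p
    rw [hh p.1]
    calc ((p.2 : G) * (h p.1)⁻¹)⁻¹ * t * ((p.2 : G) * (h p.1)⁻¹)
        = h p.1 * ((p.2 : G)⁻¹ * t * (p.2 : G)) * (h p.1)⁻¹ := by group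
      _ = h p.1 * t * (h p.1)⁻¹ := by rw [hcomm p.2]
  let f1 : Fin n × Subgroup.centralizer ({t} : Set G) → {g : G // (g⁻¹ * t * g) • α = α} :=
    fun p => ⟨(p.2 : G) * (h p.1)⁻¹, by rw [hT1 p]; exact hfix p.1⟩
  have hf1 : Function.Injective f1 := by
    intro p q hpq
    have hval : (p.2 : G) * (h p.1)⁻¹ = (q.2 : G) * (h q.1)⁻¹ := congrArg Subtype.val hpq
    have h1 : s p.1 = s q.1 := by rw [← hT1 p, ← hT1 q, hval]
    have h2 : p.1 = q.1 := hs h1
    have h3 : (p.2 : G) = (q.2 : G) := by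
      rw [h2] at hval
      exact mul_right_cancel hval
    exact Prod.ext h2 (Subtype.ext h3)
  -- the second injection
  let r : P → G := fun β => if hβ : ∃ x : G, x • α = β then hβ.choose else 1
  have hr : ∀ g : G, r (g • α) • α = g • α := by
    intro g
    have hβ : ∃ x : G, x • α = g • α := ⟨g, rfl⟩
    show (if hβ : ∃ x : G, x • α = g • α then hβ.choose else 1) • α = g • α
    rw [dif_pos hβ]
    exact hβ.choose_spec
  have hTF : ∀ g : {g : G // (g⁻¹ * t * g) • α = α}, (g : G) • α ∈ F := by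
    intro g
    apply hF _ ⟨g, rfl⟩
    have := g.2
    rw [mul_smul, mul_smul, inv_smul_eq_iff] at this
    exact this
  let f2 : {g : G // (g⁻¹ * t * g) • α = α} → F × MulAction.stabilizer G α :=
    fun g => (⟨(g : G) • α, hTF g⟩, ⟨(r ((g : G) • α))⁻¹ * (g : G), by
      rw [MulAction.mem_stabilizer_iff, mul_smul, inv_smul_eq_iff, hr]⟩)
  have hf2 : Function.Injective f2 := by
    intro g g' hgg
    have h1 : (g : G) • α = (g' : G) • α := congrArg (fun p => (p.1 : P)) hgg
    have h2 : (r ((g : G) • α))⁻¹ * (g : G) = (r ((g' : G) • α))⁻¹ * (g' : G) :=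
      congrArg (fun p => (p.2 : G)) hgg
    rw [h1] at h2
    exact Subtype.ext (mul_left_cancel h2)
  have e1 := Nat.card_le_card_of_injective f1 hf1
  have e2 := Nat.card_le_card_of_injective f2 hf2
  rw [Nat.card_prod, Nat.card_fin] at e1
  have hFc : Nat.card ↥F = F.card := by rw [Nat.card_eq_fintype_card, Fintype.card_coe]
  rw [Nat.card_prod, hFc] at e2
  exact e1.trans e2

end Counting

section Lift

variable {G G' : Type*} [Group G] [Group G'] (Φ : G →* G')

theorem lift_involution (hsurj : Function.Surjective Φ) (hker : ∀ z ∈ Φ.ker, z ^ 3 = 1)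
    (x' : G') (hx : orderOf x' = 2) : ∃ x : G, Φ x = x' ∧ orderOf x = 2 := by
  obtain ⟨y, rfl⟩ := hsurj x'
  have hx2 : (Φ y) ^ 2 = 1 := by rw [← hx]; exact pow_orderOf_eq_one _
  have hx1 : Φ y ≠ 1 := by
    intro h
    rw [h, orderOf_one] at hx
    omega
  have hy2 : y ^ 2 ∈ Φ.ker := by rw [MonoidHom.mem_ker, map_pow]; exact hx2
  have hy6 : (y ^ 3) ^ 2 = 1 := by
    have := hker _ hy2
    rw [← pow_mul] at this ⊢
    exact this
  have h3 : (Φ y) ^ 3 = Φ y := by
    calc (Φ y) ^ 3 = (Φ y) ^ 2 * Φ y := pow_succ _ 2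
      _ = Φ y := by rw [hx2, one_mul]
  refine ⟨y ^ 3, by rw [map_pow, h3], ?_⟩
  apply orderOf_eq_prime hy6
  intro h
  apply hx1
  rw [← h3, ← map_pow, h, map_one]

theorem isConj_involutions (hsurj : Function.Surjective Φ) (hker : ∀ z ∈ Φ.ker, z ^ 3 = 1)
    (t : G) (hall : ∀ x : G, orderOf x = 2 → IsConj t x) (x' y' : G')
    (hx : orderOf x' = 2) (hy : orderOf y' = 2) : IsConj x' y' := by
  obtain ⟨x, rfl, hx2⟩ := lift_involution Φ hsurj hker x' hx
  obtain ⟨y, rfl, hy2⟩ := lift_involution Φ hsurj hker y' hy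
  exact Φ.map_isConj ((hall x hx2).symm.trans (hall y hy2))

theorem comap_centralizer (hker : ∀ z ∈ Φ.ker, z ^ 3 = 1) (hcen : Φ.ker ≤ Subgroup.center G)
    (t : G) (ht : t ^ 2 = 1) :
    (Subgroup.centralizer ({Φ t} : Set G')).comap Φ = Subgroup.centralizer ({t} : Set G) := by
  ext g
  rw [Subgroup.mem_comap, Subgroup.mem_centralizer_iff, Subgroup.mem_centralizer_iff]
  constructor
  · intro h x hx
    rw [Set.mem_singleton_iff] at hx
    subst hx
    have h1 : Φ x * Φ g = Φ g * Φ x := h (Φ x) rfl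
    have hzk : g * x * g⁻¹ * x⁻¹ ∈ Φ.ker := by
      rw [MonoidHom.mem_ker, map_mul, map_mul, map_mul, map_inv, map_inv, ← h1]
      group
    have hzc := hcen hzk
    have hz3 := hker _ hzk
    rw [Subgroup.mem_center_iff] at hzc
    -- `g x g⁻¹ = z x`
    have hgx : g * x * g⁻¹ = (g * x * g⁻¹ * x⁻¹) * x := by group
    have ht' : x * x = 1 := by rw [← pow_two]; exact ht
    have hsq : (g * x * g⁻¹) ^ 2 = 1 := by
      rw [pow_two]
      calc g * x * g⁻¹ * (g * x * g⁻¹) = g * (x * x) * g⁻¹ := by group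
        _ = 1 := by rw [ht']; group
    have hz2 : (g * x * g⁻¹ * x⁻¹) ^ 2 = 1 := by
      have h5 : ((g * x * g⁻¹ * x⁻¹) * x) ^ 2 = (g * x * g⁻¹ * x⁻¹) ^ 2 * x ^ 2 := by
        rw [pow_two, pow_two, pow_two]
        calc (g * x * g⁻¹ * x⁻¹) * x * ((g * x * g⁻¹ * x⁻¹) * x)
            = (g * x * g⁻¹ * x⁻¹) * (x * (g * x * g⁻¹ * x⁻¹)) * x := by group
          _ = (g * x * g⁻¹ * x⁻¹) * ((g * x * g⁻¹ * x⁻¹) * x) * x := by rw [hzc x]
          _ = _ := by group
      rw [← hgx, hsq, ht, mul_one] at h5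
      exact h5.symm
    have hz1 : g * x * g⁻¹ * x⁻¹ = 1 := by
      calc g * x * g⁻¹ * x⁻¹ = (g * x * g⁻¹ * x⁻¹) ^ 3 * ((g * x * g⁻¹ * x⁻¹) ^ 2)⁻¹ := by group
        _ = 1 := by rw [hz3, hz2]; group
    calc x * g = (g * x * g⁻¹ * x⁻¹)⁻¹ * (g * x) := by group
      _ = g * x := by rw [hz1]; group
  · intro h y hy
    rw [Set.mem_singleton_iff] at hy
    subst hy
    rw [← map_mul, ← map_mul, h t rfl]

theorem card_centralizer_image [Finite G] [Finite G'] (hsurj : Function.Surjective Φ)
    (hker : ∀ z ∈ Φ.ker, z ^ 3 = 1) (hcen : Φ.ker ≤ Subgroup.center G)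
    (t : G) (ht : t ^ 2 = 1) (k : ℕ) (hk : Nat.card G = k * Nat.card G') :
    k * Nat.card (Subgroup.centralizer ({Φ t} : Set G')) =
      Nat.card (Subgroup.centralizer ({t} : Set G)) := by
  have h1 := Subgroup.index_comap_of_surjective (Subgroup.centralizer ({Φ t} : Set G')) hsurj
  rw [comap_centralizer Φ hker hcen t ht] at h1
  have h2 := (Subgroup.centralizer ({t} : Set G)).card_mul_index
  have h3 := (Subgroup.centralizer ({Φ t} : Set G')).card_mul_index
  have hpos : 0 < (Subgroup.centralizer ({Φ t} : Set G')).index :=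
    Nat.pos_of_ne_zero Subgroup.index_ne_zero_of_finite
  rw [h1] at h2
  have : (k * Nat.card (Subgroup.centralizer ({Φ t} : Set G'))) *
      (Subgroup.centralizer ({Φ t} : Set G')).index =
      Nat.card (Subgroup.centralizer ({t} : Set G)) *
        (Subgroup.centralizer ({Φ t} : Set G')).index := by
    rw [h2, hk, ← h3]
    ring
  exact Nat.eq_of_mul_eq_mul_right hpos this

/-- a subgroup meeting the kernel trivially is mapped isomorphically -/
noncomputable def mapEquivOfDisjoint (K : Subgroup G) (h : K ⊓ Φ.ker = ⊥) : K ≃* K.map Φ :=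
  (MonoidHom.ofInjective (f := Φ.domRestrict K) (by
    rw [injective_iff_map_eq_one]
    intro x hx
    have hx' : (x : G) ∈ K ⊓ Φ.ker := ⟨x.2, hx⟩
    rw [h, Subgroup.mem_bot] at hx'
    exact Subtype.ext hx')).trans (MulEquiv.subgroupCongr (MonoidHom.domRestrict_range K Φ))

theorem inf_ker_eq_bot_of_simple [Finite G] (K : Subgroup G) [IsSimpleGroup K]
    (hlt : Nat.card Φ.ker < Nat.card K) : K ⊓ Φ.ker = ⊥ := by
  have hN : (Φ.ker.subgroupOf K).Normal := inferInstance
  rcases hN.eq_bot_or_eq_top with h | h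
  · rw [Subgroup.subgroupOf_eq_bot] at h
    rw [inf_comm]
    exact h.eq_bot
  · rw [Subgroup.subgroupOf_eq_top] at h
    exact absurd (Subgroup.card_le_of_le h) (not_le.mpr hlt)

end Lift

/-! ### Groups of order 32 of type `2^{1+4}_-` -/

section Extra

open scoped commutatorElement

/-- elementwise hypotheses on a group of order 32 with a central involution `t` -/
structure QHyp (Q : Type*) [Group Q] (t : Q) : Prop where
  card : Nat.card Q = 32
  t_ne : t ≠ 1
  t_sq : t ^ 2 = 1
  tcen : ∀ y : Q, t * y = y * t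
  cen : ∀ x : Q, (∀ y, x * y = y * x) → (x = 1 ∨ x = t)
  sq : ∀ x : Q, x ^ 2 = 1 ∨ x ^ 2 = t
  comm : ∀ x y : Q, x * y = y * x ∨ x * y = t * (y * x)
  ea : ∀ x y : Q, x ^ 2 = 1 → y ^ 2 = 1 → x * y = y * x →
    (y = 1 ∨ y = x ∨ y = t ∨ y = t * x) ∨ (x = 1 ∨ x = t)

variable {A B : Type*} [Group A] [Group B]

theorem QHyp.congr {t : A} (h : QHyp A t) (e : A ≃* B) : QHyp B (e t) where
  card := by rw [← Nat.card_congr e.toEquiv]; exact h.card
  t_ne := by
    intro h1
    exact h.t_ne (e.injective (by rw [h1, map_one]))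
  t_sq := by rw [← map_pow, h.t_sq, map_one]
  tcen := by
    intro y
    obtain ⟨y, rfl⟩ := e.surjective y
    rw [← map_mul, ← map_mul, h.tcen]
  cen := by
    intro x hx
    obtain ⟨x, rfl⟩ := e.surjective x
    have : ∀ y, x * y = y * x := by
      intro y
      apply e.injective
      rw [map_mul, map_mul]
      exact hx (e y)
    rcases h.cen x this with rfl | rfl
    · left; exact map_one e
    · right; rfl
  sq := by
    intro x
    obtain ⟨x, rfl⟩ := e.surjective x
    rcases h.sq x with h1 | h1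
    · left; rw [← map_pow, h1, map_one]
    · right; rw [← map_pow, h1]
  comm := by
    intro x y
    obtain ⟨x, rfl⟩ := e.surjective x
    obtain ⟨y, rfl⟩ := e.surjective y
    rcases h.comm x y with h1 | h1
    · left; rw [← map_mul, ← map_mul, h1]
    · right; rw [← map_mul, ← map_mul, ← map_mul, h1]
  ea := by
    intro x y hx hy hxy
    obtain ⟨x, rfl⟩ := e.surjective x
    obtain ⟨y, rfl⟩ := e.surjective y
    have hx' : x ^ 2 = 1 := e.injective (by rw [map_pow, hx, map_one])
    have hy' : y ^ 2 = 1 := e.injective (by rw [map_pow, hy, map_one])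
    have hxy' : x * y = y * x := e.injective (by rw [map_mul, map_mul, hxy])
    rcases h.ea x y hx' hy' hxy' with (h1 | h1 | h1 | h1) | (h1 | h1)
    · left; left; rw [h1, map_one]
    · left; right; left; rw [h1]
    · left; right; right; left; rw [h1]
    · left; right; right; right; rw [h1, map_mul]
    · right; left; rw [h1, map_one]
    · right; right; rw [h1]

variable {Q : Type*} [Group Q] {t : Q}

theorem QHyp.orderOf_t (h : QHyp Q t) : orderOf t = 2 := orderOf_eq_prime h.t_sq h.t_ne

theorem QHyp.mem_zpowers (h : QHyp Q t) (x : Q) : x ∈ Subgroup.zpowers t ↔ x = 1 ∨ x = t := by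
  constructor
  · rintro ⟨k, rfl⟩
    have h2 : t ^ (2 : ℤ) = 1 := by
      have := h.t_sq
      exact_mod_cast this
    show t ^ k = 1 ∨ t ^ k = t
    rw [zpow_eq_zpow_emod k h2]
    rcases Int.emod_two_eq_zero_or_one k with h1 | h1
    · left; rw [h1, zpow_zero]
    · right; rw [h1, zpow_one]
  · rintro (rfl | rfl)
    · exact Subgroup.one_mem _
    · exact Subgroup.mem_zpowers _

theorem QHyp.center_eq (h : QHyp Q t) : Subgroup.center Q = Subgroup.zpowers t := by
  ext x
  rw [Subgroup.mem_center_iff, h.mem_zpowers]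
  constructor
  · intro hx
    exact h.cen x fun y => (hx y).symm
  · rintro (rfl | rfl)
    · intro g; rw [mul_one, one_mul]
    · intro g; exact (h.tcen g).symm

theorem QHyp.exists_noncentral [Finite Q] (h : QHyp Q t) : ∃ x : Q, x ≠ 1 ∧ x ≠ t := by
  classical
  by_contra hcon
  have hall : ∀ x : Q, x = 1 ∨ x = t := by
    intro x
    by_contra hx
    rw [not_or] at hx
    exact hcon ⟨x, hx.1, hx.2⟩
  have hinj : Function.Injective (fun x : Q => decide (x = t)) := by
    intro x y hxy
    have hxy' : decide (x = t) = decide (y = t) := hxy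
    rcases hall x with hx | hx <;> rcases hall y with hy | hy
    · rw [hx, hy]
    · rw [hx, hy] at hxy'
      have : (1 : Q) = t := of_decide_eq_true (hxy'.trans (decide_eq_true rfl))
      exact absurd this.symm h.t_ne
    · rw [hx, hy] at hxy'
      have : (1 : Q) = t := of_decide_eq_true (hxy'.symm.trans (decide_eq_true rfl))
      exact absurd this.symm h.t_ne
    · rw [hx, hy]
  have := Nat.card_le_card_of_injective _ hinj
  rw [h.card, Nat.card_eq_fintype_card, Fintype.card_bool] at this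
  omega

theorem QHyp.commutator_eq [Finite Q] (h : QHyp Q t) : commutator Q = Subgroup.zpowers t := by
  apply le_antisymm
  · rw [commutator_def, Subgroup.commutator_le]
    intro x _ y _
    rw [h.mem_zpowers, commutatorElement_def]
    rcases h.comm x y with h1 | h1
    · left; rw [h1]; group
    · right; rw [h1]; group
  · rw [Subgroup.zpowers_le]
    obtain ⟨x, hx1, hxt⟩ := h.exists_noncentral
    have hnc : ¬ ∀ y, x * y = y * x := by
      intro hc
      rcases h.cen x hc with h1 | h1
      · exact hx1 h1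
      · exact hxt h1
    obtain ⟨y, hy⟩ := not_forall.mp hnc
    have h1 : x * y = t * (y * x) := by
      rcases h.comm x y with h1 | h1
      · exact absurd h1 hy
      · exact h1
    have h2 : ⁅x, y⁆ = t := by
      rw [commutatorElement_def, h1]; group
    rw [← h2, commutator_def]
    exact Subgroup.commutator_mem_commutator (Subgroup.mem_top x) (Subgroup.mem_top y)

theorem QHyp.isExtraspecial [Finite Q] (h : QHyp Q t) : Cfsg.IsExtraspecial 2 Q := by
  haveI : Fact (Nat.Prime 2) := ⟨Nat.prime_two⟩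
  have hP : IsPGroup 2 Q := IsPGroup.of_card (n := 5) (by rw [h.card]; norm_num)
  refine ⟨⟨hP, ?_, ?_⟩, ?_⟩
  · rw [h.center_eq]
    apply le_antisymm
    · apply Cfsg.Agent.Lib.H1.frattini_le_of_commutator_le_of_pow_mem (p := 2)
      · rw [h.commutator_eq]
      · intro x
        rw [h.mem_zpowers]
        exact h.sq x
    · rw [← h.commutator_eq]
      exact Cfsg.Agent.Lib.H1.isPGroup_commutator_le_frattini hP
  · rw [h.center_eq, h.commutator_eq]
  · rw [h.center_eq, Nat.card_zpowers, h.orderOf_t]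

theorem QHyp.ea_bound (h : QHyp Q t) (E : Subgroup Q) (hE : Cfsg.IsElementaryAbelian 2 E) :
    Nat.card E ≤ 2 ^ 2 := by
  classical
  have hcomm : ∀ x ∈ E, ∀ y ∈ E, x * y = y * x := by
    intro x hx y hy
    have := hE.1.is_comm.comm (⟨x, hx⟩ : E) ⟨y, hy⟩
    exact congrArg Subtype.val this
  have key : ∀ S : Finset Q, (∀ x ∈ E, x ∈ S) → Nat.card E ≤ S.card := by
    intro S hS
    change Nat.card (↑(E : Set Q)) ≤ S.card
    rw [Nat.card_coe_set_eq, ← Set.ncard_coe_finset S]
    exact Set.ncard_le_ncard (fun x hx => hS x hx) (Finset.finite_toSet S)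
  by_cases hsub : ∀ x ∈ E, x = 1 ∨ x = t
  · have := key {1, t} (by
      intro x hx
      rcases hsub x hx with rfl | rfl <;> simp)
    exact this.trans (Finset.card_le_two.trans (by norm_num))
  · obtain ⟨x, hx⟩ := not_forall.mp hsub
    obtain ⟨hxE, hx1⟩ := Classical.not_imp.mp hx
    rw [not_or] at hx1
    have := key {1, x, t, t * x} (by
      intro y hy
      rcases h.ea x y (hE.2 x hxE) (hE.2 y hy) (hcomm x hxE y hy) with
        (h1 | h1 | h1 | h1) | (h1 | h1)
      · simp [h1]
      · simp [h1]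
      · simp [h1]
      · simp [h1]
      · exact absurd h1 hx1.1
      · exact absurd h1 hx1.2)
    exact this.trans (Finset.card_le_four.trans (by norm_num))

end Extra

section Assembly

variable {G' : Type*} [Group G'] [Finite G']

/-- the structure of the centraliser from a normalised complement of `Q'` -/
theorem assembly (t' : G') (Q' H' : Subgroup G') (tq : Q')
    (hQc : Q' ≤ Subgroup.centralizer ({t'} : Set G'))
    (hHc : H' ≤ Subgroup.centralizer ({t'} : Set G'))
    (hcard : Nat.card (Subgroup.centralizer ({t'} : Set G')) ≤ 1920)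
    (hQ : QHyp Q' tq) (eH : Nonempty (H' ≃* alternatingGroup (Fin 5)))
    (hnorm : ∀ h ∈ H', ∀ q ∈ Q', h * q * h⁻¹ ∈ Q') :
    ∃ (Q : Subgroup ↥(Subgroup.centralizer ({t'} : Set G'))) (_ : Q.Normal),
      Cfsg.IsExtraspecial 2 Q ∧ Nat.card Q = 32 ∧
      (∀ E : Subgroup Q, Cfsg.IsElementaryAbelian 2 E → Nat.card E ≤ 2 ^ 2) ∧
      (∃ H : Subgroup ↥(Subgroup.centralizer ({t'} : Set G')), Q.IsComplement' H) ∧
      Nonempty (↥(Subgroup.centralizer ({t'} : Set G')) ⧸ Q ≃* ↥(alternatingGroup (Fin 5))) := by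
  classical
  obtain ⟨eH⟩ := eH
  haveI : IsSimpleGroup H' := eH.isSimpleGroup
  have hH60 : Nat.card H' = 60 := by
    rw [Nat.card_congr eH.toEquiv, nat_card_alternatingGroup, Nat.card_fin]
    decide
  have hdisj : Q' ⊓ H' = ⊥ := by
    have hN : ((Q' ⊓ H').subgroupOf H').Normal := by
      constructor
      intro n hn g
      rw [Subgroup.mem_subgroupOf] at hn ⊢
      exact ⟨hnorm g g.2 n hn.1, (g * n * g⁻¹).2⟩
    rcases hN.eq_bot_or_eq_top with h | h
    · rw [Subgroup.subgroupOf_eq_bot] at h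
      have := h.eq_bot
      rwa [inf_assoc, inf_idem] at this
    · rw [Subgroup.subgroupOf_eq_top] at h
      have h1 : H' ≤ Q' := h.trans inf_le_left
      have := Subgroup.card_le_of_le h1
      rw [hH60, hQ.card] at this
      omega
  set C := Subgroup.centralizer ({t'} : Set G') with hC
  let eQ : Q' ≃* Q'.subgroupOf C := (Subgroup.subgroupOfEquivOfLe hQc).symm
  let eHC : H'.subgroupOf C ≃* H' := Subgroup.subgroupOfEquivOfLe hHc
  have hQ2 := hQ.congr eQ
  have hcQ : Nat.card (Q'.subgroupOf C) = 32 := hQ2.card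
  have hcH : Nat.card (H'.subgroupOf C) = 60 := by rw [Nat.card_congr eHC.toEquiv, hH60]
  have hdisjC : Disjoint (Q'.subgroupOf C) (H'.subgroupOf C) := by
    rw [Subgroup.disjoint_def]
    intro x hx1 hx2
    have : (x : G') ∈ Q' ⊓ H' := ⟨hx1, hx2⟩
    rw [hdisj, Subgroup.mem_bot] at this
    exact Subtype.ext this
  have hinj := Subgroup.mul_injective_of_disjoint hdisjC
  have hle := Nat.card_le_card_of_injective _ hinj
  rw [Nat.card_prod, hcQ, hcH] at hle
  have hcC : Nat.card C = 1920 := le_antisymm hcard hle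
  have hcompl : (Q'.subgroupOf C).IsComplement' (H'.subgroupOf C) :=
    Subgroup.isComplement'_of_card_mul_and_disjoint (by rw [hcQ, hcH, hcC]) hdisjC
  have hsurj : ∀ c : C, ∃ q ∈ Q'.subgroupOf C, ∃ h ∈ H'.subgroupOf C, c = q * h := by
    intro c
    obtain ⟨⟨q, h⟩, hqh⟩ := hcompl.2 c
    exact ⟨q, q.2, h, h.2, hqh.symm⟩
  have hnormal : (Q'.subgroupOf C).Normal := by
    constructor
    intro n hn g
    obtain ⟨q, hq, h, hh, rfl⟩ := hsurj g
    have h1 : h * n * h⁻¹ ∈ Q'.subgroupOf C := by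
      rw [Subgroup.mem_subgroupOf] at hn hh ⊢
      exact hnorm _ hh _ hn
    have : q * h * n * (q * h)⁻¹ = q * (h * n * h⁻¹) * q⁻¹ := by group
    rw [this]
    exact Subgroup.mul_mem _ (Subgroup.mul_mem _ hq h1) (Subgroup.inv_mem _ hq)
  refine ⟨Q'.subgroupOf C, hnormal, hQ2.isExtraspecial, hcQ, fun E hE => hQ2.ea_bound E hE,
    ⟨H'.subgroupOf C, hcompl⟩, ?_⟩
  haveI := hnormal
  let f : H'.subgroupOf C →* C ⧸ Q'.subgroupOf C :=
    (QuotientGroup.mk' (Q'.subgroupOf C)).comp (H'.subgroupOf C).subtype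
  have hf : Function.Bijective f := by
    constructor
    · rw [injective_iff_map_eq_one]
      intro x hx
      have hx' : (x : C) ∈ Q'.subgroupOf C := by
        rw [← QuotientGroup.eq_one_iff]
        exact hx
      exact Subtype.ext (Subgroup.disjoint_def.mp hdisjC hx' x.2)
    · intro y
      obtain ⟨c, rfl⟩ := QuotientGroup.mk_surjective y
      obtain ⟨q, hq, h, hh, rfl⟩ := hsurj c
      refine ⟨⟨h, hh⟩, ?_⟩
      show ((h : C) : C ⧸ Q'.subgroupOf C) = ((q * h : C) : C ⧸ Q'.subgroupOf C)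
      rw [QuotientGroup.mk_mul, (QuotientGroup.eq_one_iff q).mpr hq, one_mul]
  exact ⟨(MulEquiv.ofBijective f hf).symm.trans (eHC.trans eH)⟩

end Assembly

end Cfsg.Agent.Lib.H3.CentGen
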