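import Mathlib
import Cfsg.Agent.Lib.H3.J3CentData
import Cfsg.Agent.Lib.H3.J3Letters

set_option autoImplicit false
set_option maxRecDepth 1000000

/-! # Kernel-checked computations for the centraliser of an involution of `3·J₃` -/

namespace Cfsg.Agent.Lib.H3.J3.Cent

open Cfsg.Agent.Lib.H3.DC Cfsg.Agent.Lib.H3.F4 Cfsg.Agent.Lib.H3.J3

/-- `w` spells an element conjugating the involution `z` to the element with code `s` -/
def conjOK (w s : List ℕ) : Bool := beqL (mulE (codeW w) zE) (mulE s (codeW w))

/-- every involution of the listed Sylow subgroup is conjugate to `z` -/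
def checkS : Bool :=
  allLt 128 fun i => Nat.beq i LS.i1 || !(beqL (mulE (LS.elt i) (LS.elt i)) oneE) ||
    conjOK (cwS i) (LS.elt i)

/-- 51 elements of the stabiliser of `α` are conjugate to `z` -/
def check51 : Bool :=
  allLt 51 fun i => Nat.blt (idx51 i) 1152 && conjOK (cw51 i) (LM.elt (idx51 i))

/-- the 51 indices are distinct -/
def check51k : Bool :=
  allLt 50 fun i => Nat.blt (idx51 i) (idx51 (i + 1))

/-- the centre of `Q` -/
def checkQ1 : Bool :=
  allLt 32 fun i => Nat.beq i LQ.i1 || Nat.beq i itQ ||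
    !(beqL (mulE gE0 (LQ.elt i)) (mulE (LQ.elt i) gE0)) ||
    !(beqL (mulE gE1 (LQ.elt i)) (mulE (LQ.elt i) gE1)) ||
    !(beqL (mulE gE2 (LQ.elt i)) (mulE (LQ.elt i) gE2)) ||
    !(beqL (mulE gE3 (LQ.elt i)) (mulE (LQ.elt i) gE3))

/-- squares in `Q` -/
def checkQ2 : Bool :=
  allLt 32 fun i => beqL (mulE (LQ.elt i) (LQ.elt i)) oneE || beqL (mulE (LQ.elt i) (LQ.elt i)) zE

/-- commutators in `Q` -/
def checkQ3 : Bool :=
  allLt 32 fun i => allLt 32 fun j =>
    beqL (mulE (LQ.elt i) (LQ.elt j)) (mulE (LQ.elt j) (LQ.elt i)) ||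
      beqL (mulE (LQ.elt i) (LQ.elt j)) (mulE zE (mulE (LQ.elt j) (LQ.elt i)))

/-- commuting involutions in `Q` -/
def checkQ5 : Bool :=
  allLt 32 fun i => allLt 32 fun j =>
    !(beqL (mulE (LQ.elt i) (LQ.elt i)) oneE) || !(beqL (mulE (LQ.elt j) (LQ.elt j)) oneE) ||
      !(beqL (mulE (LQ.elt i) (LQ.elt j)) (mulE (LQ.elt j) (LQ.elt i))) ||
      Nat.beq j LQ.i1 || Nat.beq j i || Nat.beq j itQ || beqL (LQ.elt j) (mulE zE (LQ.elt i)) ||
      Nat.beq i LQ.i1 || Nat.beq i itQ

theorem LQ_check1 : LQ.check1 F4.model = true := by decide +kernel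
theorem LQ_check2_0 : LQ.check2 F4.model 0 = true := by decide +kernel
theorem LQ_check2_1 : LQ.check2 F4.model 1 = true := by decide +kernel
theorem LQ_check2_2 : LQ.check2 F4.model 2 = true := by decide +kernel
theorem LQ_check2_3 : LQ.check2 F4.model 3 = true := by decide +kernel
theorem LQ_check3 : LQ.check3 = true := by decide +kernel
theorem LQ_check4 : LQ.check4 = true := by decide +kernel

theorem LS_check1 : LS.check1 F4.model = true := by decide +kernel
theorem LS_check2_0 : LS.check2 F4.model 0 = true := by decide +kernel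
theorem LS_check2_1 : LS.check2 F4.model 1 = true := by decide +kernel
theorem LS_check2_2 : LS.check2 F4.model 2 = true := by decide +kernel
theorem LS_check2_3 : LS.check2 F4.model 3 = true := by decide +kernel
theorem LS_check2_4 : LS.check2 F4.model 4 = true := by decide +kernel
theorem LS_check2_5 : LS.check2 F4.model 5 = true := by decide +kernel
theorem LS_check3 : LS.check3 = true := by decide +kernel
theorem LS_check4 : LS.check4 = true := by decide +kernel

theorem checkS_ok : checkS = true := by decide +kernel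
theorem check51_ok : check51 = true := by decide +kernel
theorem check51k_ok : check51k = true := by decide +kernel
theorem checkQ1_ok : checkQ1 = true := by decide +kernel
theorem checkQ2_ok : checkQ2 = true := by decide +kernel
theorem checkQ3_ok : checkQ3 = true := by decide +kernel
theorem checkQ5_ok : checkQ5 = true := by decide +kernel

theorem codeW_Z : codeW wZ = zE := by decide +kernel
theorem codeW_G0 : codeW wG0 = gE0 := by decide +kernel
theorem codeW_G1 : codeW wG1 = gE1 := by decide +kernel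
theorem codeW_G2 : codeW wG2 = gE2 := by decide +kernel
theorem codeW_G3 : codeW wG3 = gE3 := by decide +kernel
theorem codeW_G4 : codeW wG4 = gE4 := by decide +kernel
theorem codeW_G5 : codeW wG5 = gE5 := by decide +kernel
theorem codeW_A : codeW wA = aaE := by decide +kernel
theorem codeW_B : codeW wB = bbE := by decide +kernel

theorem z_sq : mulE zE zE = oneE := by decide +kernel
theorem z_ne : zE ≠ oneE := by decide +kernel
theorem z_central_Q : (beqL (mulE gE0 zE) (mulE zE gE0) && beqL (mulE gE1 zE) (mulE zE gE1) &&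
    beqL (mulE gE2 zE) (mulE zE gE2) && beqL (mulE gE3 zE) (mulE zE gE3)) = true := by
  decide +kernel
theorem zQ : LQ.elt itQ = zE := by decide +kernel

theorem a_inv : mulE aaE aiE = oneE := by decide +kernel
theorem b_inv : mulE bbE biE = oneE := by decide +kernel
theorem a_cube : mulE aaE (mulE aaE aaE) = oneE := by decide +kernel
theorem b_five : mulE bbE (mulE bbE (mulE bbE (mulE bbE bbE))) = oneE := by decide +kernel
theorem ab_sq : mulE (mulE aaE bbE) (mulE aaE bbE) = oneE := by decide +kernel
theorem ab_ne : mulE aaE bbE ≠ oneE := by decide +kernel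
theorem az_comm : mulE aaE zE = mulE zE aaE := by decide +kernel
theorem bz_comm : mulE bbE zE = mulE zE bbE := by decide +kernel
theorem g0z_comm : mulE gE0 zE = mulE zE gE0 := by decide +kernel
theorem g1z_comm : mulE gE1 zE = mulE zE gE1 := by decide +kernel
theorem g2z_comm : mulE gE2 zE = mulE zE gE2 := by decide +kernel
theorem g3z_comm : mulE gE3 zE = mulE zE gE3 := by decide +kernel

/-- `a` and `b` normalise `Q` -/
theorem normA : (beqL (mulE (mulE aaE gE0) (mulE aaE aaE)) (LQ.elt (naA.getD 0 0)) &&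
    beqL (mulE (mulE aaE gE1) (mulE aaE aaE)) (LQ.elt (naA.getD 1 0)) &&
    beqL (mulE (mulE aaE gE2) (mulE aaE aaE)) (LQ.elt (naA.getD 2 0)) &&
    beqL (mulE (mulE aaE gE3) (mulE aaE aaE)) (LQ.elt (naA.getD 3 0))) = true := by decide +kernel

theorem normB : (beqL (mulE (mulE bbE gE0) (mulE bbE (mulE bbE (mulE bbE bbE))))
      (LQ.elt (naB.getD 0 0)) &&
    beqL (mulE (mulE bbE gE1) (mulE bbE (mulE bbE (mulE bbE bbE)))) (LQ.elt (naB.getD 1 0)) &&
    beqL (mulE (mulE bbE gE2) (mulE bbE (mulE bbE (mulE bbE bbE)))) (LQ.elt (naB.getD 2 0)) &&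
    beqL (mulE (mulE bbE gE3) (mulE bbE (mulE bbE (mulE bbE bbE)))) (LQ.elt (naB.getD 3 0))) =
      true := by decide +kernel

theorem naA_lt : (Nat.blt (naA.getD 0 0) 32 && Nat.blt (naA.getD 1 0) 32 &&
    Nat.blt (naA.getD 2 0) 32 && Nat.blt (naA.getD 3 0) 32) = true := by decide +kernel

theorem naB_lt : (Nat.blt (naB.getD 0 0) 32 && Nat.blt (naB.getD 1 0) 32 &&
    Nat.blt (naB.getD 2 0) 32 && Nat.blt (naB.getD 3 0) 32) = true := by decide +kernel

end Cfsg.Agent.Lib.H3.J3.Cent
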