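import Mathlib
import Cfsg.Agent.Lib.H3.DC4
import Cfsg.Agent.Lib.H3.F4c

set_option autoImplicit false
set_option maxRecDepth 100000

/-! # Certificate data for the stabiliser of `e₀` in `3·J₃` (generated) -/

namespace Cfsg.Agent.Lib.H3.J3

open Cfsg.Agent.Lib.H3.DC

def wEH : List ℕ := [0, 1, 0, 1, 1, 0]
def wET : List ℕ := [3, 2, 3, 3, 2, 3]
def wETi : List ℕ := [0, 2, 0, 0, 2, 0]
def Eg0E : List ℕ := [1, 2, 16384, 32768, 1024, 2048, 256, 512, 16, 32, 4096, 8192, 65536, 131072, 64, 128, 4, 8]
def Eg1E : List ℕ := [1, 2, 4164, 8328, 4176, 8352, 4116, 8232, 66816, 133632, 17664, 35328, 84, 168, 82944, 165888, 82176, 164352]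
def Eg2E : List ℕ := [1, 2, 768, 256, 196608, 65536, 1024, 2048, 12288, 4096, 12, 4, 32768, 49152, 16, 32, 64, 128]
def EtE : List ℕ := [83221, 166442, 183109, 216458, 183121, 216482, 81984, 163968, 87101, 174102, 86313, 172606, 5396, 10792, 65661, 131222, 16489, 32958]
def EwE : List ℕ := [83221, 166442, 237061, 124682, 237073, 124706, 82004, 164008, 5161, 10302, 4413, 8726, 5376, 10752, 66921, 133822, 17789, 35478]
def EaE : ℕ := 1
def EdecOm : ℕ := 4621384810569
def EdecD : ℕ := 725941616709

def EeltT : BT (List ℕ) := .node (.node (.node (.node (.node (.node (.node (.node (.node (.node (.node (.node (.leaf [1, 2, 4, 8, 16, 32, 64, 128, 256, 512, 1024, 2048, 4096, 8192, 16384, 32768, 65536, 131072]) (.leaf [1, 2, 4, 8, 16, 32, 128, 192, 512, 768, 2048, 3072, 12288, 4096, 49152, 16384, 196608, 65536])) (.node (.leaf [1, 2, 4, 8, 16, 32, 192, 64, 768, 256, 3072, 1024, 8192, 12288, 32768, 49152, 131072, 196608]) (.leaf [1, 2, 4, 8, 32, 48, 64, 128, 256, 512, 2048, 3072, 8192, 12288, 32768, 49152, 196608, 65536]))) (.node (.node (.leaf [1, 2, 4, 8, 32, 48, 128, 192, 512, 768, 3072, 1024, 4096, 8192, 16384, 32768, 131072, 196608]) (.leaf [1, 2, 4, 8, 32, 48, 192, 64, 768, 256, 1024, 2048, 12288, 4096, 49152, 16384, 65536, 131072])) (.node (.leaf [1, 2, 4, 8, 48, 16, 64, 128, 256, 512, 3072, 1024, 12288, 4096, 49152, 16384, 131072, 196608]) (.leaf [1, 2, 4, 8, 48, 16, 128, 192, 512, 768, 1024, 2048, 8192, 12288, 32768, 49152, 65536, 131072])))) (.node (.node (.node (.leaf [1, 2, 4, 8, 48, 16, 192, 64, 768, 256, 2048, 3072, 4096, 8192, 16384, 32768, 196608, 65536]) (.leaf [1, 2, 8, 12, 16, 32, 64, 128, 512, 768, 1024, 2048, 8192, 12288, 49152, 16384, 131072, 196608])) (.node (.leaf [1, 2, 8, 12, 16, 32, 128, 192, 768, 256, 2048, 3072, 4096, 8192, 32768, 49152, 65536, 131072]) (.leaf [1, 2, 8, 12, 16, 32, 192, 64, 256, 512, 3072, 1024, 12288, 4096, 16384, 32768, 196608, 65536]))) (.node (.node (.leaf [1, 2, 8, 12, 32, 48, 64, 128, 512, 768, 2048, 3072, 12288, 4096, 16384, 32768, 65536, 131072]) (.leaf [1, 2, 8, 12, 32, 48, 128, 192, 768, 256, 3072, 1024, 8192, 12288, 49152, 16384, 196608, 65536])) (.node (.leaf [1, 2, 8, 12, 32, 48, 192, 64, 256, 512, 1024, 2048, 4096, 8192, 32768, 49152, 131072, 196608]) (.leaf [1, 2, 8, 12, 48, 16, 64, 128, 512, 768, 3072, 1024, 4096, 8192, 32768, 49152, 196608, 65536]))))) (.node (.node (.node (.node (.leaf [1, 2, 8, 12, 48, 16, 128, 192, 768, 256, 1024, 2048, 12288, 4096, 16384, 32768, 131072, 196608]) (.leaf [1, 2, 8, 12, 48, 16, 192, 64, 256, 512, 2048, 3072, 8192, 12288, 49152, 16384, 65536, 131072])) (.node (.leaf [1, 2, 12, 4, 16, 32, 64, 128, 768, 256, 1024, 2048, 12288, 4096, 32768, 49152, 196608, 65536]) (.leaf [1, 2, 12, 4, 16, 32, 128, 192, 256, 512, 2048, 3072, 8192, 12288, 16384, 32768, 131072, 196608]))) (.node (.node (.leaf [1, 2, 12, 4, 16, 32, 192, 64, 512, 768, 3072, 1024, 4096, 8192, 49152, 16384, 65536, 131072]) (.leaf [1, 2, 12, 4, 32, 48, 64, 128, 768, 256, 2048, 3072, 4096, 8192, 49152, 16384, 131072, 196608])) (.node (.leaf [1, 2, 12, 4, 32, 48, 128, 192, 256, 512, 3072, 1024, 12288, 4096, 32768, 49152, 65536, 131072]) (.leaf [1, 2, 12, 4, 32, 48, 192, 64, 512, 768, 1024, 2048, 8192, 12288, 16384, 32768, 196608, 65536])))) (.node (.node (.node (.leaf [1, 2, 12, 4, 48, 16, 64, 128, 768, 256, 3072, 1024, 8192, 12288, 16384, 32768, 65536, 131072]) (.leaf [1, 2, 12, 4, 48, 16, 128, 192, 256, 512, 1024, 2048, 4096, 8192, 49152, 16384, 196608, 65536])) (.node (.leaf [1, 2, 12, 4, 48, 16, 192, 64, 512, 768, 2048, 3072, 12288, 4096, 32768, 49152, 131072, 196608]) (.leaf [1, 2, 16, 32, 4, 8, 4096, 8192, 65536, 131072, 16384, 32768, 64, 128, 1024, 2048, 256, 512]))) (.node (.node (.leaf [1, 2, 16, 32, 4, 8, 8192, 12288, 131072, 196608, 32768, 49152, 192, 64, 3072, 1024, 768, 256]) (.leaf [1, 2, 16, 32, 4, 8, 12288, 4096, 196608, 65536, 49152, 16384, 128, 192, 2048, 3072, 512, 768])) (.node (.leaf [1, 2, 16, 32, 8, 12, 4096, 8192, 65536, 131072, 32768, 49152, 128, 192, 2048, 3072, 768, 256]) (.leaf [1, 2, 16, 32, 8, 12, 8192, 12288, 131072, 196608, 49152, 16384, 64, 128, 1024, 2048, 512, 768])))))) (.node (.node (.node (.node (.node (.leaf [1, 2, 16, 32, 8, 12, 12288, 4096, 196608, 65536, 16384, 32768, 192, 64, 3072, 1024, 256, 512]) (.leaf [1, 2, 16, 32, 12, 4, 4096, 8192, 65536, 131072, 49152, 16384, 192, 64, 3072, 1024, 512, 768])) (.node (.leaf [1, 2, 16, 32, 12, 4, 8192, 12288, 131072, 196608, 16384, 32768, 128, 192, 2048, 3072, 256, 512]) (.leaf [1, 2, 16, 32, 12, 4, 12288, 4096, 196608, 65536, 32768, 49152, 64, 128, 1024, 2048, 768, 256]))) (.node (.node (.leaf [1, 2, 32, 48, 4, 8, 4096, 8192, 131072, 196608, 16384, 32768, 128, 192, 3072, 1024, 512, 768]) (.leaf [1, 2, 32, 48, 4, 8, 8192, 12288, 196608, 65536, 32768, 49152, 64, 128, 2048, 3072, 256, 512])) (.node (.leaf [1, 2, 32, 48, 4, 8, 12288, 4096, 65536, 131072, 49152, 16384, 192, 64, 1024, 2048, 768, 256]) (.leaf [1, 2, 32, 48, 8, 12, 4096, 8192, 131072, 196608, 32768, 49152, 192, 64, 1024, 2048, 256, 512])))) (.node (.node (.node (.leaf [1, 2, 32, 48, 8, 12, 8192, 12288, 196608, 65536, 49152, 16384, 128, 192, 3072, 1024, 768, 256]) (.leaf [1, 2, 32, 48, 8, 12, 12288, 4096, 65536, 131072, 16384, 32768, 64, 128, 2048, 3072, 512, 768])) (.node (.leaf [1, 2, 32, 48, 12, 4, 4096, 8192, 131072, 196608, 49152, 16384, 64, 128, 2048, 3072, 768, 256]) (.leaf [1, 2, 32, 48, 12, 4, 8192, 12288, 196608, 65536, 16384, 32768, 192, 64, 1024, 2048, 512, 768]))) (.node (.node (.leaf [1, 2, 32, 48, 12, 4, 12288, 4096, 65536, 131072, 32768, 49152, 128, 192, 3072, 1024, 256, 512]) (.leaf [1, 2, 48, 16, 4, 8, 4096, 8192, 196608, 65536, 16384, 32768, 192, 64, 2048, 3072, 768, 256])) (.node (.leaf [1, 2, 48, 16, 4, 8, 8192, 12288, 65536, 131072, 32768, 49152, 128, 192, 1024, 2048, 512, 768]) (.leaf [1, 2, 48, 16, 4, 8, 12288, 4096, 131072, 196608, 49152, 16384, 64, 128, 3072, 1024, 256, 512]))))) (.node (.node (.node (.node (.leaf [1, 2, 48, 16, 8, 12, 4096, 8192, 196608, 65536, 32768, 49152, 64, 128, 3072, 1024, 512, 768]) (.leaf [1, 2, 48, 16, 8, 12, 8192, 12288, 65536, 131072, 49152, 16384, 192, 64, 2048, 3072, 256, 512])) (.node (.leaf [1, 2, 48, 16, 8, 12, 12288, 4096, 131072, 196608, 16384, 32768, 128, 192, 1024, 2048, 768, 256]) (.leaf [1, 2, 48, 16, 12, 4, 4096, 8192, 196608, 65536, 49152, 16384, 128, 192, 1024, 2048, 256, 512]))) (.node (.node (.leaf [1, 2, 48, 16, 12, 4, 8192, 12288, 65536, 131072, 16384, 32768, 64, 128, 3072, 1024, 768, 256]) (.leaf [1, 2, 48, 16, 12, 4, 12288, 4096, 131072, 196608, 32768, 49152, 192, 64, 2048, 3072, 512, 768])) (.node (.leaf [1, 2, 64, 128, 4096, 8192, 16, 32, 1024, 2048, 65536, 131072, 4, 8, 256, 512, 16384, 32768]) (.leaf [1, 2, 64, 128, 4096, 8192, 32, 48, 2048, 3072, 131072, 196608, 12, 4, 768, 256, 49152, 16384])))) (.node (.node (.node (.leaf [1, 2, 64, 128, 4096, 8192, 48, 16, 3072, 1024, 196608, 65536, 8, 12, 512, 768, 32768, 49152]) (.leaf [1, 2, 64, 128, 8192, 12288, 16, 32, 1024, 2048, 131072, 196608, 8, 12, 512, 768, 49152, 16384])) (.node (.leaf [1, 2, 64, 128, 8192, 12288, 32, 48, 2048, 3072, 196608, 65536, 4, 8, 256, 512, 32768, 49152]) (.leaf [1, 2, 64, 128, 8192, 12288, 48, 16, 3072, 1024, 65536, 131072, 12, 4, 768, 256, 16384, 32768]))) (.node (.node (.leaf [1, 2, 64, 128, 12288, 4096, 16, 32, 1024, 2048, 196608, 65536, 12, 4, 768, 256, 32768, 49152]) (.leaf [1, 2, 64, 128, 12288, 4096, 32, 48, 2048, 3072, 65536, 131072, 8, 12, 512, 768, 16384, 32768])) (.node (.leaf [1, 2, 64, 128, 12288, 4096, 48, 16, 3072, 1024, 131072, 196608, 4, 8, 256, 512, 49152, 16384]) (.leaf [1, 2, 84, 168, 4116, 8232, 4164, 8328, 82944, 165888, 66816, 133632, 4176, 8352, 82176, 164352, 17664, 35328]))))))) (.node (.node (.node (.node (.node (.node (.leaf [1, 2, 84, 168, 4116, 8232, 8328, 12492, 165888, 248832, 133632, 200448, 12528, 4176, 246528, 82176, 52992, 17664]) (.leaf [1, 2, 84, 168, 4116, 8232, 12492, 4164, 248832, 82944, 200448, 66816, 8352, 12528, 164352, 246528, 35328, 52992])) (.node (.leaf [1, 2, 84, 168, 8232, 12348, 4164, 8328, 82944, 165888, 133632, 200448, 8352, 12528, 164352, 246528, 52992, 17664]) (.leaf [1, 2, 84, 168, 8232, 12348, 8328, 12492, 165888, 248832, 200448, 66816, 4176, 8352, 82176, 164352, 35328, 52992]))) (.node (.node (.leaf [1, 2, 84, 168, 8232, 12348, 12492, 4164, 248832, 82944, 66816, 133632, 12528, 4176, 246528, 82176, 17664, 35328]) (.leaf [1, 2, 84, 168, 12348, 4116, 4164, 8328, 82944, 165888, 200448, 66816, 12528, 4176, 246528, 82176, 35328, 52992])) (.node (.leaf [1, 2, 84, 168, 12348, 4116, 8328, 12492, 165888, 248832, 66816, 133632, 8352, 12528, 164352, 246528, 17664, 35328]) (.leaf [1, 2, 84, 168, 12348, 4116, 12492, 4164, 248832, 82944, 133632, 200448, 4176, 8352, 82176, 164352, 52992, 17664])))) (.node (.node (.node (.leaf [1, 2, 88, 172, 4148, 8216, 4292, 8264, 101376, 181248, 199424, 68864, 8272, 12448, 180736, 213760, 36096, 50688]) (.leaf [1, 2, 88, 172, 4148, 8216, 8264, 12428, 181248, 215040, 68864, 132608, 4336, 8272, 98560, 180736, 19200, 36096])) (.node (.leaf [1, 2, 88, 172, 4148, 8216, 12428, 4292, 215040, 101376, 132608, 199424, 12448, 4336, 213760, 98560, 50688, 19200]) (.leaf [1, 2, 88, 172, 8216, 12332, 4292, 8264, 101376, 181248, 68864, 132608, 12448, 4336, 213760, 98560, 19200, 36096]))) (.node (.node (.leaf [1, 2, 88, 172, 8216, 12332, 8264, 12428, 181248, 215040, 132608, 199424, 8272, 12448, 180736, 213760, 50688, 19200]) (.leaf [1, 2, 88, 172, 8216, 12332, 12428, 4292, 215040, 101376, 199424, 68864, 4336, 8272, 98560, 180736, 36096, 50688])) (.node (.leaf [1, 2, 88, 172, 12332, 4148, 4292, 8264, 101376, 181248, 132608, 199424, 4336, 8272, 98560, 180736, 50688, 19200]) (.leaf [1, 2, 88, 172, 12332, 4148, 8264, 12428, 181248, 215040, 199424, 68864, 12448, 4336, 213760, 98560, 36096, 50688]))))) (.node (.node (.node (.node (.leaf [1, 2, 88, 172, 12332, 4148, 12428, 4292, 215040, 101376, 68864, 132608, 8272, 12448, 180736, 213760, 19200, 36096]) (.leaf [1, 2, 92, 164, 4132, 8248, 4228, 8392, 116736, 150528, 134656, 198400, 12368, 4256, 230144, 114944, 51456, 19968])) (.node (.leaf [1, 2, 92, 164, 4132, 8248, 8392, 12364, 150528, 230400, 198400, 67840, 8432, 12368, 147968, 230144, 34560, 51456]) (.leaf [1, 2, 92, 164, 4132, 8248, 12364, 4228, 230400, 116736, 67840, 134656, 4256, 8432, 114944, 147968, 19968, 34560]))) (.node (.node (.leaf [1, 2, 92, 164, 8248, 12316, 4228, 8392, 116736, 150528, 198400, 67840, 4256, 8432, 114944, 147968, 34560, 51456]) (.leaf [1, 2, 92, 164, 8248, 12316, 8392, 12364, 150528, 230400, 67840, 134656, 12368, 4256, 230144, 114944, 19968, 34560])) (.node (.leaf [1, 2, 92, 164, 8248, 12316, 12364, 4228, 230400, 116736, 134656, 198400, 8432, 12368, 147968, 230144, 51456, 19968]) (.leaf [1, 2, 92, 164, 12316, 4132, 4228, 8392, 116736, 150528, 67840, 134656, 8432, 12368, 147968, 230144, 19968, 34560])))) (.node (.node (.node (.leaf [1, 2, 92, 164, 12316, 4132, 8392, 12364, 150528, 230400, 134656, 198400, 4256, 8432, 114944, 147968, 51456, 19968]) (.leaf [1, 2, 92, 164, 12316, 4132, 12364, 4228, 230400, 116736, 198400, 67840, 12368, 4256, 230144, 114944, 34560, 51456])) (.node (.leaf [1, 2, 100, 184, 4124, 8228, 4300, 8260, 148480, 231424, 69120, 132864, 8288, 12464, 229632, 115200, 18176, 35072]) (.leaf [1, 2, 100, 184, 4124, 8228, 8260, 12424, 231424, 117760, 132864, 198912, 4304, 8288, 148224, 229632, 52736, 18176]))) (.node (.node (.leaf [1, 2, 100, 184, 4124, 8228, 12424, 4300, 117760, 148480, 198912, 69120, 12464, 4304, 115200, 148224, 35072, 52736]) (.leaf [1, 2, 100, 184, 8228, 12344, 4300, 8260, 148480, 231424, 132864, 198912, 12464, 4304, 115200, 148224, 52736, 18176])) (.node (.leaf [1, 2, 100, 184, 8228, 12344, 8260, 12424, 231424, 117760, 198912, 69120, 8288, 12464, 229632, 115200, 35072, 52736]) (.leaf [1, 2, 100, 184, 8228, 12344, 12424, 4300, 117760, 148480, 69120, 132864, 4304, 8288, 148224, 229632, 18176, 35072])))))) (.node (.node (.node (.node (.node (.leaf [1, 2, 100, 184, 12344, 4124, 4300, 8260, 148480, 231424, 198912, 69120, 4304, 8288, 148224, 229632, 35072, 52736]) (.leaf [1, 2, 100, 184, 12344, 4124, 8260, 12424, 231424, 117760, 69120, 132864, 12464, 4304, 115200, 148224, 18176, 35072])) (.node (.leaf [1, 2, 100, 184, 12344, 4124, 12424, 4300, 117760, 148480, 132864, 198912, 8288, 12464, 229632, 115200, 52736, 18176]) (.leaf [1, 2, 104, 188, 4156, 8212, 4236, 8388, 166912, 246784, 197888, 68096, 12384, 4272, 82432, 164608, 36608, 50432]))) (.node (.node (.leaf [1, 2, 104, 188, 4156, 8212, 8388, 12360, 246784, 83968, 68096, 134912, 8400, 12384, 246016, 82432, 18944, 36608]) (.leaf [1, 2, 104, 188, 4156, 8212, 12360, 4236, 83968, 166912, 134912, 197888, 4272, 8400, 164608, 246016, 50432, 18944])) (.node (.leaf [1, 2, 104, 188, 8212, 12328, 4236, 8388, 166912, 246784, 68096, 134912, 4272, 8400, 164608, 246016, 18944, 36608]) (.leaf [1, 2, 104, 188, 8212, 12328, 8388, 12360, 246784, 83968, 134912, 197888, 12384, 4272, 82432, 164608, 50432, 18944])))) (.node (.node (.node (.leaf [1, 2, 104, 188, 8212, 12328, 12360, 4236, 83968, 166912, 197888, 68096, 8400, 12384, 246016, 82432, 36608, 50432]) (.leaf [1, 2, 104, 188, 12328, 4156, 4236, 8388, 166912, 246784, 134912, 197888, 8400, 12384, 246016, 82432, 50432, 18944])) (.node (.leaf [1, 2, 104, 188, 12328, 4156, 8388, 12360, 246784, 83968, 197888, 68096, 4272, 8400, 164608, 246016, 36608, 50432]) (.leaf [1, 2, 104, 188, 12328, 4156, 12360, 4236, 83968, 166912, 68096, 134912, 12384, 4272, 82432, 164608, 18944, 36608]))) (.node (.node (.leaf [1, 2, 108, 180, 4140, 8244, 4172, 8324, 182272, 216064, 133888, 199936, 4192, 8368, 180992, 213248, 51968, 19712]) (.leaf [1, 2, 108, 180, 4140, 8244, 8324, 12488, 216064, 99328, 199936, 67072, 12496, 4192, 98816, 180992, 34304, 51968])) (.node (.leaf [1, 2, 108, 180, 4140, 8244, 12488, 4172, 99328, 182272, 67072, 133888, 8368, 12496, 213248, 98816, 19712, 34304]) (.leaf [1, 2, 108, 180, 8244, 12312, 4172, 8324, 182272, 216064, 199936, 67072, 8368, 12496, 213248, 98816, 34304, 51968]))))) (.node (.node (.node (.node (.leaf [1, 2, 108, 180, 8244, 12312, 8324, 12488, 216064, 99328, 67072, 133888, 4192, 8368, 180992, 213248, 19712, 34304]) (.leaf [1, 2, 108, 180, 8244, 12312, 12488, 4172, 99328, 182272, 133888, 199936, 12496, 4192, 98816, 180992, 51968, 19712])) (.node (.leaf [1, 2, 108, 180, 12312, 4140, 4172, 8324, 182272, 216064, 67072, 133888, 12496, 4192, 98816, 180992, 19712, 34304]) (.leaf [1, 2, 108, 180, 12312, 4140, 8324, 12488, 216064, 99328, 133888, 199936, 8368, 12496, 213248, 98816, 51968, 19712]))) (.node (.node (.leaf [1, 2, 108, 180, 12312, 4140, 12488, 4172, 99328, 182272, 199936, 67072, 4192, 8368, 180992, 213248, 34304, 51968]) (.leaf [1, 2, 116, 152, 4120, 8236, 4232, 8396, 214016, 100352, 68352, 134400, 12400, 4240, 180480, 213504, 17920, 35584])) (.node (.leaf [1, 2, 116, 152, 4120, 8236, 8396, 12356, 100352, 183296, 134400, 198144, 8416, 12400, 99072, 180480, 52480, 17920]) (.leaf [1, 2, 116, 152, 4120, 8236, 12356, 4232, 183296, 214016, 198144, 68352, 4240, 8416, 213504, 99072, 35584, 52480])))) (.node (.node (.node (.leaf [1, 2, 116, 152, 8236, 12340, 4232, 8396, 214016, 100352, 134400, 198144, 4240, 8416, 213504, 99072, 52480, 17920]) (.leaf [1, 2, 116, 152, 8236, 12340, 8396, 12356, 100352, 183296, 198144, 68352, 12400, 4240, 180480, 213504, 35584, 52480])) (.node (.leaf [1, 2, 116, 152, 8236, 12340, 12356, 4232, 183296, 214016, 68352, 134400, 8416, 12400, 99072, 180480, 17920, 35584]) (.leaf [1, 2, 116, 152, 12340, 4120, 4232, 8396, 214016, 100352, 198144, 68352, 8416, 12400, 99072, 180480, 35584, 52480]))) (.node (.node (.leaf [1, 2, 116, 152, 12340, 4120, 8396, 12356, 100352, 183296, 68352, 134400, 4240, 8416, 213504, 99072, 17920, 35584]) (.leaf [1, 2, 116, 152, 12340, 4120, 12356, 4232, 183296, 214016, 134400, 198144, 12400, 4240, 180480, 213504, 52480, 17920])) (.node (.leaf [1, 2, 120, 156, 4152, 8220, 4168, 8332, 232448, 115712, 200192, 67328, 4208, 8336, 229888, 115456, 36352, 50944]) (.leaf [1, 2, 120, 156, 4152, 8220, 8332, 12484, 115712, 149504, 67328, 133376, 12512, 4208, 147712, 229888, 18688, 36352])))))))) (.node (.node (.node (.node (.node (.node (.node (.leaf [1, 2, 120, 156, 4152, 8220, 12484, 4168, 149504, 232448, 133376, 200192, 8336, 12512, 115456, 147712, 50944, 18688]) (.leaf [1, 2, 120, 156, 8220, 12324, 4168, 8332, 232448, 115712, 67328, 133376, 8336, 12512, 115456, 147712, 18688, 36352])) (.node (.leaf [1, 2, 120, 156, 8220, 12324, 8332, 12484, 115712, 149504, 133376, 200192, 4208, 8336, 229888, 115456, 50944, 18688]) (.leaf [1, 2, 120, 156, 8220, 12324, 12484, 4168, 149504, 232448, 200192, 67328, 12512, 4208, 147712, 229888, 36352, 50944]))) (.node (.node (.leaf [1, 2, 120, 156, 12324, 4152, 4168, 8332, 232448, 115712, 133376, 200192, 12512, 4208, 147712, 229888, 50944, 18688]) (.leaf [1, 2, 120, 156, 12324, 4152, 8332, 12484, 115712, 149504, 200192, 67328, 8336, 12512, 115456, 147712, 36352, 50944])) (.node (.leaf [1, 2, 120, 156, 12324, 4152, 12484, 4168, 149504, 232448, 67328, 133376, 4208, 8336, 229888, 115456, 18688, 36352]) (.leaf [1, 2, 124, 148, 4136, 8252, 4296, 8268, 247808, 84992, 132352, 199168, 8304, 12432, 82688, 164096, 51712, 20224])))) (.node (.node (.node (.leaf [1, 2, 124, 148, 4136, 8252, 8268, 12420, 84992, 164864, 199168, 69376, 4320, 8304, 246272, 82688, 34048, 51712]) (.leaf [1, 2, 124, 148, 4136, 8252, 12420, 4296, 164864, 247808, 69376, 132352, 12432, 4320, 164096, 246272, 20224, 34048])) (.node (.leaf [1, 2, 124, 148, 8252, 12308, 4296, 8268, 247808, 84992, 199168, 69376, 12432, 4320, 164096, 246272, 34048, 51712]) (.leaf [1, 2, 124, 148, 8252, 12308, 8268, 12420, 84992, 164864, 69376, 132352, 8304, 12432, 82688, 164096, 20224, 34048]))) (.node (.node (.leaf [1, 2, 124, 148, 8252, 12308, 12420, 4296, 164864, 247808, 132352, 199168, 4320, 8304, 246272, 82688, 51712, 20224]) (.leaf [1, 2, 124, 148, 12308, 4136, 4296, 8268, 247808, 84992, 69376, 132352, 4320, 8304, 246272, 82688, 20224, 34048])) (.node (.leaf [1, 2, 124, 148, 12308, 4136, 8268, 12420, 84992, 164864, 132352, 199168, 12432, 4320, 164096, 246272, 51712, 20224]) (.leaf [1, 2, 124, 148, 12308, 4136, 12420, 4296, 164864, 247808, 199168, 69376, 8304, 12432, 82688, 164096, 34048, 51712]))))) (.node (.node (.node (.node (.leaf [1, 2, 128, 192, 4096, 8192, 16, 32, 2048, 3072, 65536, 131072, 8, 12, 768, 256, 32768, 49152]) (.leaf [1, 2, 128, 192, 4096, 8192, 32, 48, 3072, 1024, 131072, 196608, 4, 8, 512, 768, 16384, 32768])) (.node (.leaf [1, 2, 128, 192, 4096, 8192, 48, 16, 1024, 2048, 196608, 65536, 12, 4, 256, 512, 49152, 16384]) (.leaf [1, 2, 128, 192, 8192, 12288, 16, 32, 2048, 3072, 131072, 196608, 12, 4, 256, 512, 16384, 32768]))) (.node (.node (.leaf [1, 2, 128, 192, 8192, 12288, 32, 48, 3072, 1024, 196608, 65536, 8, 12, 768, 256, 49152, 16384]) (.leaf [1, 2, 128, 192, 8192, 12288, 48, 16, 1024, 2048, 65536, 131072, 4, 8, 512, 768, 32768, 49152])) (.node (.leaf [1, 2, 128, 192, 12288, 4096, 16, 32, 2048, 3072, 196608, 65536, 4, 8, 512, 768, 49152, 16384]) (.leaf [1, 2, 128, 192, 12288, 4096, 32, 48, 3072, 1024, 65536, 131072, 12, 4, 256, 512, 32768, 49152])))) (.node (.node (.node (.leaf [1, 2, 128, 192, 12288, 4096, 48, 16, 1024, 2048, 131072, 196608, 8, 12, 768, 256, 16384, 32768]) (.leaf [1, 2, 148, 232, 4136, 8252, 4296, 8268, 84992, 164864, 132352, 199168, 12432, 4320, 246272, 82688, 20224, 34048])) (.node (.leaf [1, 2, 148, 232, 4136, 8252, 8268, 12420, 164864, 247808, 199168, 69376, 8304, 12432, 164096, 246272, 51712, 20224]) (.leaf [1, 2, 148, 232, 4136, 8252, 12420, 4296, 247808, 84992, 69376, 132352, 4320, 8304, 82688, 164096, 34048, 51712]))) (.node (.node (.leaf [1, 2, 148, 232, 8252, 12308, 4296, 8268, 84992, 164864, 199168, 69376, 4320, 8304, 82688, 164096, 51712, 20224]) (.leaf [1, 2, 148, 232, 8252, 12308, 8268, 12420, 164864, 247808, 69376, 132352, 12432, 4320, 246272, 82688, 34048, 51712])) (.node (.leaf [1, 2, 148, 232, 8252, 12308, 12420, 4296, 247808, 84992, 132352, 199168, 8304, 12432, 164096, 246272, 20224, 34048]) (.leaf [1, 2, 148, 232, 12308, 4136, 4296, 8268, 84992, 164864, 69376, 132352, 8304, 12432, 164096, 246272, 34048, 51712])))))) (.node (.node (.node (.node (.node (.leaf [1, 2, 148, 232, 12308, 4136, 8268, 12420, 164864, 247808, 132352, 199168, 4320, 8304, 82688, 164096, 20224, 34048]) (.leaf [1, 2, 148, 232, 12308, 4136, 12420, 4296, 247808, 84992, 199168, 69376, 12432, 4320, 246272, 82688, 51712, 20224])) (.node (.leaf [1, 2, 152, 236, 4120, 8236, 4232, 8396, 100352, 183296, 68352, 134400, 4240, 8416, 99072, 180480, 35584, 52480]) (.leaf [1, 2, 152, 236, 4120, 8236, 8396, 12356, 183296, 214016, 134400, 198144, 12400, 4240, 213504, 99072, 17920, 35584]))) (.node (.node (.leaf [1, 2, 152, 236, 4120, 8236, 12356, 4232, 214016, 100352, 198144, 68352, 8416, 12400, 180480, 213504, 52480, 17920]) (.leaf [1, 2, 152, 236, 8236, 12340, 4232, 8396, 100352, 183296, 134400, 198144, 8416, 12400, 180480, 213504, 17920, 35584])) (.node (.leaf [1, 2, 152, 236, 8236, 12340, 8396, 12356, 183296, 214016, 198144, 68352, 4240, 8416, 99072, 180480, 52480, 17920]) (.leaf [1, 2, 152, 236, 8236, 12340, 12356, 4232, 214016, 100352, 68352, 134400, 12400, 4240, 213504, 99072, 35584, 52480])))) (.node (.node (.node (.leaf [1, 2, 152, 236, 12340, 4120, 4232, 8396, 100352, 183296, 198144, 68352, 12400, 4240, 213504, 99072, 52480, 17920]) (.leaf [1, 2, 152, 236, 12340, 4120, 8396, 12356, 183296, 214016, 68352, 134400, 8416, 12400, 180480, 213504, 35584, 52480])) (.node (.leaf [1, 2, 152, 236, 12340, 4120, 12356, 4232, 214016, 100352, 134400, 198144, 4240, 8416, 99072, 180480, 17920, 35584]) (.leaf [1, 2, 156, 228, 4152, 8220, 4168, 8332, 115712, 149504, 200192, 67328, 8336, 12512, 147712, 229888, 50944, 18688]))) (.node (.node (.leaf [1, 2, 156, 228, 4152, 8220, 8332, 12484, 149504, 232448, 67328, 133376, 4208, 8336, 115456, 147712, 36352, 50944]) (.leaf [1, 2, 156, 228, 4152, 8220, 12484, 4168, 232448, 115712, 133376, 200192, 12512, 4208, 229888, 115456, 18688, 36352])) (.node (.leaf [1, 2, 156, 228, 8220, 12324, 4168, 8332, 115712, 149504, 67328, 133376, 12512, 4208, 229888, 115456, 36352, 50944]) (.leaf [1, 2, 156, 228, 8220, 12324, 8332, 12484, 149504, 232448, 133376, 200192, 8336, 12512, 147712, 229888, 18688, 36352]))))) (.node (.node (.node (.node (.leaf [1, 2, 156, 228, 8220, 12324, 12484, 4168, 232448, 115712, 200192, 67328, 4208, 8336, 115456, 147712, 50944, 18688]) (.leaf [1, 2, 156, 228, 12324, 4152, 4168, 8332, 115712, 149504, 133376, 200192, 4208, 8336, 115456, 147712, 18688, 36352])) (.node (.leaf [1, 2, 156, 228, 12324, 4152, 8332, 12484, 149504, 232448, 200192, 67328, 12512, 4208, 229888, 115456, 50944, 18688]) (.leaf [1, 2, 156, 228, 12324, 4152, 12484, 4168, 232448, 115712, 67328, 133376, 8336, 12512, 147712, 229888, 36352, 50944]))) (.node (.node (.leaf [1, 2, 164, 248, 4132, 8248, 4228, 8392, 150528, 230400, 134656, 198400, 4256, 8432, 147968, 230144, 19968, 34560]) (.leaf [1, 2, 164, 248, 4132, 8248, 8392, 12364, 230400, 116736, 198400, 67840, 12368, 4256, 114944, 147968, 51456, 19968])) (.node (.leaf [1, 2, 164, 248, 4132, 8248, 12364, 4228, 116736, 150528, 67840, 134656, 8432, 12368, 230144, 114944, 34560, 51456]) (.leaf [1, 2, 164, 248, 8248, 12316, 4228, 8392, 150528, 230400, 198400, 67840, 8432, 12368, 230144, 114944, 51456, 19968])))) (.node (.node (.node (.leaf [1, 2, 164, 248, 8248, 12316, 8392, 12364, 230400, 116736, 67840, 134656, 4256, 8432, 147968, 230144, 34560, 51456]) (.leaf [1, 2, 164, 248, 8248, 12316, 12364, 4228, 116736, 150528, 134656, 198400, 12368, 4256, 114944, 147968, 19968, 34560])) (.node (.leaf [1, 2, 164, 248, 12316, 4132, 4228, 8392, 150528, 230400, 67840, 134656, 12368, 4256, 114944, 147968, 34560, 51456]) (.leaf [1, 2, 164, 248, 12316, 4132, 8392, 12364, 230400, 116736, 134656, 198400, 8432, 12368, 230144, 114944, 19968, 34560]))) (.node (.node (.leaf [1, 2, 164, 248, 12316, 4132, 12364, 4228, 116736, 150528, 198400, 67840, 4256, 8432, 147968, 230144, 51456, 19968]) (.leaf [1, 2, 168, 252, 4116, 8232, 4164, 8328, 165888, 248832, 66816, 133632, 8352, 12528, 246528, 82176, 35328, 52992])) (.node (.leaf [1, 2, 168, 252, 4116, 8232, 8328, 12492, 248832, 82944, 133632, 200448, 4176, 8352, 164352, 246528, 17664, 35328]) (.leaf [1, 2, 168, 252, 4116, 8232, 12492, 4164, 82944, 165888, 200448, 66816, 12528, 4176, 82176, 164352, 52992, 17664]))))))) (.node (.node (.node (.node (.node (.node (.leaf [1, 2, 168, 252, 8232, 12348, 4164, 8328, 165888, 248832, 133632, 200448, 12528, 4176, 82176, 164352, 17664, 35328]) (.leaf [1, 2, 168, 252, 8232, 12348, 8328, 12492, 248832, 82944, 200448, 66816, 8352, 12528, 246528, 82176, 52992, 17664])) (.node (.leaf [1, 2, 168, 252, 8232, 12348, 12492, 4164, 82944, 165888, 66816, 133632, 4176, 8352, 164352, 246528, 35328, 52992]) (.leaf [1, 2, 168, 252, 12348, 4116, 4164, 8328, 165888, 248832, 200448, 66816, 4176, 8352, 164352, 246528, 52992, 17664]))) (.node (.node (.leaf [1, 2, 168, 252, 12348, 4116, 8328, 12492, 248832, 82944, 66816, 133632, 12528, 4176, 82176, 164352, 35328, 52992]) (.leaf [1, 2, 168, 252, 12348, 4116, 12492, 4164, 82944, 165888, 133632, 200448, 8352, 12528, 246528, 82176, 17664, 35328])) (.node (.leaf [1, 2, 172, 244, 4148, 8216, 4292, 8264, 181248, 215040, 199424, 68864, 12448, 4336, 98560, 180736, 50688, 19200]) (.leaf [1, 2, 172, 244, 4148, 8216, 8264, 12428, 215040, 101376, 68864, 132608, 8272, 12448, 213760, 98560, 36096, 50688])))) (.node (.node (.node (.leaf [1, 2, 172, 244, 4148, 8216, 12428, 4292, 101376, 181248, 132608, 199424, 4336, 8272, 180736, 213760, 19200, 36096]) (.leaf [1, 2, 172, 244, 8216, 12332, 4292, 8264, 181248, 215040, 68864, 132608, 4336, 8272, 180736, 213760, 36096, 50688])) (.node (.leaf [1, 2, 172, 244, 8216, 12332, 8264, 12428, 215040, 101376, 132608, 199424, 12448, 4336, 98560, 180736, 19200, 36096]) (.leaf [1, 2, 172, 244, 8216, 12332, 12428, 4292, 101376, 181248, 199424, 68864, 8272, 12448, 213760, 98560, 50688, 19200]))) (.node (.node (.leaf [1, 2, 172, 244, 12332, 4148, 4292, 8264, 181248, 215040, 132608, 199424, 8272, 12448, 213760, 98560, 19200, 36096]) (.leaf [1, 2, 172, 244, 12332, 4148, 8264, 12428, 215040, 101376, 199424, 68864, 4336, 8272, 180736, 213760, 50688, 19200])) (.node (.leaf [1, 2, 172, 244, 12332, 4148, 12428, 4292, 101376, 181248, 68864, 132608, 12448, 4336, 98560, 180736, 36096, 50688]) (.leaf [1, 2, 180, 216, 4140, 8244, 4172, 8324, 216064, 99328, 133888, 199936, 8368, 12496, 98816, 180992, 19712, 34304]))))) (.node (.node (.node (.node (.leaf [1, 2, 180, 216, 4140, 8244, 8324, 12488, 99328, 182272, 199936, 67072, 4192, 8368, 213248, 98816, 51968, 19712]) (.leaf [1, 2, 180, 216, 4140, 8244, 12488, 4172, 182272, 216064, 67072, 133888, 12496, 4192, 180992, 213248, 34304, 51968])) (.node (.leaf [1, 2, 180, 216, 8244, 12312, 4172, 8324, 216064, 99328, 199936, 67072, 12496, 4192, 180992, 213248, 51968, 19712]) (.leaf [1, 2, 180, 216, 8244, 12312, 8324, 12488, 99328, 182272, 67072, 133888, 8368, 12496, 98816, 180992, 34304, 51968]))) (.node (.node (.leaf [1, 2, 180, 216, 8244, 12312, 12488, 4172, 182272, 216064, 133888, 199936, 4192, 8368, 213248, 98816, 19712, 34304]) (.leaf [1, 2, 180, 216, 12312, 4140, 4172, 8324, 216064, 99328, 67072, 133888, 4192, 8368, 213248, 98816, 34304, 51968])) (.node (.leaf [1, 2, 180, 216, 12312, 4140, 8324, 12488, 99328, 182272, 133888, 199936, 12496, 4192, 180992, 213248, 19712, 34304]) (.leaf [1, 2, 180, 216, 12312, 4140, 12488, 4172, 182272, 216064, 199936, 67072, 8368, 12496, 98816, 180992, 51968, 19712])))) (.node (.node (.node (.leaf [1, 2, 184, 220, 4124, 8228, 4300, 8260, 231424, 117760, 69120, 132864, 12464, 4304, 148224, 229632, 35072, 52736]) (.leaf [1, 2, 184, 220, 4124, 8228, 8260, 12424, 117760, 148480, 132864, 198912, 8288, 12464, 115200, 148224, 18176, 35072])) (.node (.leaf [1, 2, 184, 220, 4124, 8228, 12424, 4300, 148480, 231424, 198912, 69120, 4304, 8288, 229632, 115200, 52736, 18176]) (.leaf [1, 2, 184, 220, 8228, 12344, 4300, 8260, 231424, 117760, 132864, 198912, 4304, 8288, 229632, 115200, 18176, 35072]))) (.node (.node (.leaf [1, 2, 184, 220, 8228, 12344, 8260, 12424, 117760, 148480, 198912, 69120, 12464, 4304, 148224, 229632, 52736, 18176]) (.leaf [1, 2, 184, 220, 8228, 12344, 12424, 4300, 148480, 231424, 69120, 132864, 8288, 12464, 115200, 148224, 35072, 52736])) (.node (.leaf [1, 2, 184, 220, 12344, 4124, 4300, 8260, 231424, 117760, 198912, 69120, 8288, 12464, 115200, 148224, 52736, 18176]) (.leaf [1, 2, 184, 220, 12344, 4124, 8260, 12424, 117760, 148480, 69120, 132864, 4304, 8288, 229632, 115200, 35072, 52736])))))) (.node (.node (.node (.node (.node (.leaf [1, 2, 184, 220, 12344, 4124, 12424, 4300, 148480, 231424, 132864, 198912, 12464, 4304, 148224, 229632, 18176, 35072]) (.leaf [1, 2, 188, 212, 4156, 8212, 4236, 8388, 246784, 83968, 197888, 68096, 4272, 8400, 246016, 82432, 50432, 18944])) (.node (.leaf [1, 2, 188, 212, 4156, 8212, 8388, 12360, 83968, 166912, 68096, 134912, 12384, 4272, 164608, 246016, 36608, 50432]) (.leaf [1, 2, 188, 212, 4156, 8212, 12360, 4236, 166912, 246784, 134912, 197888, 8400, 12384, 82432, 164608, 18944, 36608]))) (.node (.node (.leaf [1, 2, 188, 212, 8212, 12328, 4236, 8388, 246784, 83968, 68096, 134912, 8400, 12384, 82432, 164608, 36608, 50432]) (.leaf [1, 2, 188, 212, 8212, 12328, 8388, 12360, 83968, 166912, 134912, 197888, 4272, 8400, 246016, 82432, 18944, 36608])) (.node (.leaf [1, 2, 188, 212, 8212, 12328, 12360, 4236, 166912, 246784, 197888, 68096, 12384, 4272, 164608, 246016, 50432, 18944]) (.leaf [1, 2, 188, 212, 12328, 4156, 4236, 8388, 246784, 83968, 134912, 197888, 12384, 4272, 164608, 246016, 18944, 36608])))) (.node (.node (.node (.leaf [1, 2, 188, 212, 12328, 4156, 8388, 12360, 83968, 166912, 197888, 68096, 8400, 12384, 82432, 164608, 50432, 18944]) (.leaf [1, 2, 188, 212, 12328, 4156, 12360, 4236, 166912, 246784, 68096, 134912, 4272, 8400, 246016, 82432, 36608, 50432])) (.node (.leaf [1, 2, 192, 64, 4096, 8192, 16, 32, 3072, 1024, 65536, 131072, 12, 4, 512, 768, 49152, 16384]) (.leaf [1, 2, 192, 64, 4096, 8192, 32, 48, 1024, 2048, 131072, 196608, 8, 12, 256, 512, 32768, 49152]))) (.node (.node (.leaf [1, 2, 192, 64, 4096, 8192, 48, 16, 2048, 3072, 196608, 65536, 4, 8, 768, 256, 16384, 32768]) (.leaf [1, 2, 192, 64, 8192, 12288, 16, 32, 3072, 1024, 131072, 196608, 4, 8, 768, 256, 32768, 49152])) (.node (.leaf [1, 2, 192, 64, 8192, 12288, 32, 48, 1024, 2048, 196608, 65536, 12, 4, 512, 768, 16384, 32768]) (.leaf [1, 2, 192, 64, 8192, 12288, 48, 16, 2048, 3072, 65536, 131072, 8, 12, 256, 512, 49152, 16384]))))) (.node (.node (.node (.node (.leaf [1, 2, 192, 64, 12288, 4096, 16, 32, 3072, 1024, 196608, 65536, 8, 12, 256, 512, 16384, 32768]) (.leaf [1, 2, 192, 64, 12288, 4096, 32, 48, 1024, 2048, 65536, 131072, 4, 8, 768, 256, 49152, 16384])) (.node (.leaf [1, 2, 192, 64, 12288, 4096, 48, 16, 2048, 3072, 131072, 196608, 12, 4, 512, 768, 32768, 49152]) (.leaf [1, 2, 212, 104, 4156, 8212, 4236, 8388, 83968, 166912, 197888, 68096, 8400, 12384, 164608, 246016, 18944, 36608]))) (.node (.node (.leaf [1, 2, 212, 104, 4156, 8212, 8388, 12360, 166912, 246784, 68096, 134912, 4272, 8400, 82432, 164608, 50432, 18944]) (.leaf [1, 2, 212, 104, 4156, 8212, 12360, 4236, 246784, 83968, 134912, 197888, 12384, 4272, 246016, 82432, 36608, 50432])) (.node (.leaf [1, 2, 212, 104, 8212, 12328, 4236, 8388, 83968, 166912, 68096, 134912, 12384, 4272, 246016, 82432, 50432, 18944]) (.leaf [1, 2, 212, 104, 8212, 12328, 8388, 12360, 166912, 246784, 134912, 197888, 8400, 12384, 164608, 246016, 36608, 50432])))) (.node (.node (.node (.leaf [1, 2, 212, 104, 8212, 12328, 12360, 4236, 246784, 83968, 197888, 68096, 4272, 8400, 82432, 164608, 18944, 36608]) (.leaf [1, 2, 212, 104, 12328, 4156, 4236, 8388, 83968, 166912, 134912, 197888, 4272, 8400, 82432, 164608, 36608, 50432])) (.node (.leaf [1, 2, 212, 104, 12328, 4156, 8388, 12360, 166912, 246784, 197888, 68096, 12384, 4272, 246016, 82432, 18944, 36608]) (.leaf [1, 2, 212, 104, 12328, 4156, 12360, 4236, 246784, 83968, 68096, 134912, 8400, 12384, 164608, 246016, 50432, 18944]))) (.node (.node (.leaf [1, 2, 216, 108, 4140, 8244, 4172, 8324, 99328, 182272, 133888, 199936, 12496, 4192, 213248, 98816, 34304, 51968]) (.leaf [1, 2, 216, 108, 4140, 8244, 8324, 12488, 182272, 216064, 199936, 67072, 8368, 12496, 180992, 213248, 19712, 34304])) (.node (.leaf [1, 2, 216, 108, 4140, 8244, 12488, 4172, 216064, 99328, 67072, 133888, 4192, 8368, 98816, 180992, 51968, 19712]) (.leaf [1, 2, 216, 108, 8244, 12312, 4172, 8324, 99328, 182272, 199936, 67072, 4192, 8368, 98816, 180992, 19712, 34304]))))))))) (.node (.node (.node (.node (.node (.node (.node (.node (.leaf [1, 2, 216, 108, 8244, 12312, 8324, 12488, 182272, 216064, 67072, 133888, 12496, 4192, 213248, 98816, 51968, 19712]) (.leaf [1, 2, 216, 108, 8244, 12312, 12488, 4172, 216064, 99328, 133888, 199936, 8368, 12496, 180992, 213248, 34304, 51968])) (.node (.leaf [1, 2, 216, 108, 12312, 4140, 4172, 8324, 99328, 182272, 67072, 133888, 8368, 12496, 180992, 213248, 51968, 19712]) (.leaf [1, 2, 216, 108, 12312, 4140, 8324, 12488, 182272, 216064, 133888, 199936, 4192, 8368, 98816, 180992, 34304, 51968]))) (.node (.node (.leaf [1, 2, 216, 108, 12312, 4140, 12488, 4172, 216064, 99328, 199936, 67072, 12496, 4192, 213248, 98816, 19712, 34304]) (.leaf [1, 2, 220, 100, 4124, 8228, 4300, 8260, 117760, 148480, 69120, 132864, 4304, 8288, 115200, 148224, 52736, 18176])) (.node (.leaf [1, 2, 220, 100, 4124, 8228, 8260, 12424, 148480, 231424, 132864, 198912, 12464, 4304, 229632, 115200, 35072, 52736]) (.leaf [1, 2, 220, 100, 4124, 8228, 12424, 4300, 231424, 117760, 198912, 69120, 8288, 12464, 148224, 229632, 18176, 35072])))) (.node (.node (.node (.leaf [1, 2, 220, 100, 8228, 12344, 4300, 8260, 117760, 148480, 132864, 198912, 8288, 12464, 148224, 229632, 35072, 52736]) (.leaf [1, 2, 220, 100, 8228, 12344, 8260, 12424, 148480, 231424, 198912, 69120, 4304, 8288, 115200, 148224, 18176, 35072])) (.node (.leaf [1, 2, 220, 100, 8228, 12344, 12424, 4300, 231424, 117760, 69120, 132864, 12464, 4304, 229632, 115200, 52736, 18176]) (.leaf [1, 2, 220, 100, 12344, 4124, 4300, 8260, 117760, 148480, 198912, 69120, 12464, 4304, 229632, 115200, 18176, 35072]))) (.node (.node (.leaf [1, 2, 220, 100, 12344, 4124, 8260, 12424, 148480, 231424, 69120, 132864, 8288, 12464, 148224, 229632, 52736, 18176]) (.leaf [1, 2, 220, 100, 12344, 4124, 12424, 4300, 231424, 117760, 132864, 198912, 4304, 8288, 115200, 148224, 35072, 52736])) (.node (.leaf [1, 2, 228, 120, 4152, 8220, 4168, 8332, 149504, 232448, 200192, 67328, 12512, 4208, 115456, 147712, 18688, 36352]) (.leaf [1, 2, 228, 120, 4152, 8220, 8332, 12484, 232448, 115712, 67328, 133376, 8336, 12512, 229888, 115456, 50944, 18688]))))) (.node (.node (.node (.node (.leaf [1, 2, 228, 120, 4152, 8220, 12484, 4168, 115712, 149504, 133376, 200192, 4208, 8336, 147712, 229888, 36352, 50944]) (.leaf [1, 2, 228, 120, 8220, 12324, 4168, 8332, 149504, 232448, 67328, 133376, 4208, 8336, 147712, 229888, 50944, 18688])) (.node (.leaf [1, 2, 228, 120, 8220, 12324, 8332, 12484, 232448, 115712, 133376, 200192, 12512, 4208, 115456, 147712, 36352, 50944]) (.leaf [1, 2, 228, 120, 8220, 12324, 12484, 4168, 115712, 149504, 200192, 67328, 8336, 12512, 229888, 115456, 18688, 36352]))) (.node (.node (.leaf [1, 2, 228, 120, 12324, 4152, 4168, 8332, 149504, 232448, 133376, 200192, 8336, 12512, 229888, 115456, 36352, 50944]) (.leaf [1, 2, 228, 120, 12324, 4152, 8332, 12484, 232448, 115712, 200192, 67328, 4208, 8336, 147712, 229888, 18688, 36352])) (.node (.leaf [1, 2, 228, 120, 12324, 4152, 12484, 4168, 115712, 149504, 67328, 133376, 12512, 4208, 115456, 147712, 50944, 18688]) (.leaf [1, 2, 232, 124, 4136, 8252, 4296, 8268, 164864, 247808, 132352, 199168, 4320, 8304, 164096, 246272, 34048, 51712])))) (.node (.node (.node (.leaf [1, 2, 232, 124, 4136, 8252, 8268, 12420, 247808, 84992, 199168, 69376, 12432, 4320, 82688, 164096, 20224, 34048]) (.leaf [1, 2, 232, 124, 4136, 8252, 12420, 4296, 84992, 164864, 69376, 132352, 8304, 12432, 246272, 82688, 51712, 20224])) (.node (.leaf [1, 2, 232, 124, 8252, 12308, 4296, 8268, 164864, 247808, 199168, 69376, 8304, 12432, 246272, 82688, 20224, 34048]) (.leaf [1, 2, 232, 124, 8252, 12308, 8268, 12420, 247808, 84992, 69376, 132352, 4320, 8304, 164096, 246272, 51712, 20224]))) (.node (.node (.leaf [1, 2, 232, 124, 8252, 12308, 12420, 4296, 84992, 164864, 132352, 199168, 12432, 4320, 82688, 164096, 34048, 51712]) (.leaf [1, 2, 232, 124, 12308, 4136, 4296, 8268, 164864, 247808, 69376, 132352, 12432, 4320, 82688, 164096, 51712, 20224])) (.node (.leaf [1, 2, 232, 124, 12308, 4136, 8268, 12420, 247808, 84992, 132352, 199168, 8304, 12432, 246272, 82688, 34048, 51712]) (.leaf [1, 2, 232, 124, 12308, 4136, 12420, 4296, 84992, 164864, 199168, 69376, 4320, 8304, 164096, 246272, 20224, 34048])))))) (.node (.node (.node (.node (.node (.leaf [1, 2, 236, 116, 4120, 8236, 4232, 8396, 183296, 214016, 68352, 134400, 8416, 12400, 213504, 99072, 52480, 17920]) (.leaf [1, 2, 236, 116, 4120, 8236, 8396, 12356, 214016, 100352, 134400, 198144, 4240, 8416, 180480, 213504, 35584, 52480])) (.node (.leaf [1, 2, 236, 116, 4120, 8236, 12356, 4232, 100352, 183296, 198144, 68352, 12400, 4240, 99072, 180480, 17920, 35584]) (.leaf [1, 2, 236, 116, 8236, 12340, 4232, 8396, 183296, 214016, 134400, 198144, 12400, 4240, 99072, 180480, 35584, 52480]))) (.node (.node (.leaf [1, 2, 236, 116, 8236, 12340, 8396, 12356, 214016, 100352, 198144, 68352, 8416, 12400, 213504, 99072, 17920, 35584]) (.leaf [1, 2, 236, 116, 8236, 12340, 12356, 4232, 100352, 183296, 68352, 134400, 4240, 8416, 180480, 213504, 52480, 17920])) (.node (.leaf [1, 2, 236, 116, 12340, 4120, 4232, 8396, 183296, 214016, 198144, 68352, 4240, 8416, 180480, 213504, 17920, 35584]) (.leaf [1, 2, 236, 116, 12340, 4120, 8396, 12356, 214016, 100352, 68352, 134400, 12400, 4240, 99072, 180480, 52480, 17920])))) (.node (.node (.node (.leaf [1, 2, 236, 116, 12340, 4120, 12356, 4232, 100352, 183296, 134400, 198144, 8416, 12400, 213504, 99072, 35584, 52480]) (.leaf [1, 2, 244, 88, 4148, 8216, 4292, 8264, 215040, 101376, 199424, 68864, 4336, 8272, 213760, 98560, 19200, 36096])) (.node (.leaf [1, 2, 244, 88, 4148, 8216, 8264, 12428, 101376, 181248, 68864, 132608, 12448, 4336, 180736, 213760, 50688, 19200]) (.leaf [1, 2, 244, 88, 4148, 8216, 12428, 4292, 181248, 215040, 132608, 199424, 8272, 12448, 98560, 180736, 36096, 50688]))) (.node (.node (.leaf [1, 2, 244, 88, 8216, 12332, 4292, 8264, 215040, 101376, 68864, 132608, 8272, 12448, 98560, 180736, 50688, 19200]) (.leaf [1, 2, 244, 88, 8216, 12332, 8264, 12428, 101376, 181248, 132608, 199424, 4336, 8272, 213760, 98560, 36096, 50688])) (.node (.leaf [1, 2, 244, 88, 8216, 12332, 12428, 4292, 181248, 215040, 199424, 68864, 12448, 4336, 180736, 213760, 19200, 36096]) (.leaf [1, 2, 244, 88, 12332, 4148, 4292, 8264, 215040, 101376, 132608, 199424, 12448, 4336, 180736, 213760, 36096, 50688]))))) (.node (.node (.node (.node (.leaf [1, 2, 244, 88, 12332, 4148, 8264, 12428, 101376, 181248, 199424, 68864, 8272, 12448, 98560, 180736, 19200, 36096]) (.leaf [1, 2, 244, 88, 12332, 4148, 12428, 4292, 181248, 215040, 68864, 132608, 4336, 8272, 213760, 98560, 50688, 19200])) (.node (.leaf [1, 2, 248, 92, 4132, 8248, 4228, 8392, 230400, 116736, 134656, 198400, 8432, 12368, 114944, 147968, 34560, 51456]) (.leaf [1, 2, 248, 92, 4132, 8248, 8392, 12364, 116736, 150528, 198400, 67840, 4256, 8432, 230144, 114944, 19968, 34560]))) (.node (.node (.leaf [1, 2, 248, 92, 4132, 8248, 12364, 4228, 150528, 230400, 67840, 134656, 12368, 4256, 147968, 230144, 51456, 19968]) (.leaf [1, 2, 248, 92, 8248, 12316, 4228, 8392, 230400, 116736, 198400, 67840, 12368, 4256, 147968, 230144, 19968, 34560])) (.node (.leaf [1, 2, 248, 92, 8248, 12316, 8392, 12364, 116736, 150528, 67840, 134656, 8432, 12368, 114944, 147968, 51456, 19968]) (.leaf [1, 2, 248, 92, 8248, 12316, 12364, 4228, 150528, 230400, 134656, 198400, 4256, 8432, 230144, 114944, 34560, 51456])))) (.node (.node (.node (.leaf [1, 2, 248, 92, 12316, 4132, 4228, 8392, 230400, 116736, 67840, 134656, 4256, 8432, 230144, 114944, 51456, 19968]) (.leaf [1, 2, 248, 92, 12316, 4132, 8392, 12364, 116736, 150528, 134656, 198400, 12368, 4256, 147968, 230144, 34560, 51456])) (.node (.leaf [1, 2, 248, 92, 12316, 4132, 12364, 4228, 150528, 230400, 198400, 67840, 8432, 12368, 114944, 147968, 19968, 34560]) (.leaf [1, 2, 252, 84, 4116, 8232, 4164, 8328, 248832, 82944, 66816, 133632, 12528, 4176, 164352, 246528, 52992, 17664]))) (.node (.node (.leaf [1, 2, 252, 84, 4116, 8232, 8328, 12492, 82944, 165888, 133632, 200448, 8352, 12528, 82176, 164352, 35328, 52992]) (.leaf [1, 2, 252, 84, 4116, 8232, 12492, 4164, 165888, 248832, 200448, 66816, 4176, 8352, 246528, 82176, 17664, 35328])) (.node (.leaf [1, 2, 252, 84, 8232, 12348, 4164, 8328, 248832, 82944, 133632, 200448, 4176, 8352, 246528, 82176, 35328, 52992]) (.leaf [1, 2, 252, 84, 8232, 12348, 8328, 12492, 82944, 165888, 200448, 66816, 12528, 4176, 164352, 246528, 17664, 35328]))))))) (.node (.node (.node (.node (.node (.node (.leaf [1, 2, 252, 84, 8232, 12348, 12492, 4164, 165888, 248832, 66816, 133632, 8352, 12528, 82176, 164352, 52992, 17664]) (.leaf [1, 2, 252, 84, 12348, 4116, 4164, 8328, 248832, 82944, 200448, 66816, 8352, 12528, 82176, 164352, 17664, 35328])) (.node (.leaf [1, 2, 252, 84, 12348, 4116, 8328, 12492, 82944, 165888, 66816, 133632, 4176, 8352, 246528, 82176, 52992, 17664]) (.leaf [1, 2, 252, 84, 12348, 4116, 12492, 4164, 165888, 248832, 133632, 200448, 12528, 4176, 164352, 246528, 35328, 52992]))) (.node (.node (.leaf [1, 2, 256, 512, 65536, 131072, 1024, 2048, 4096, 8192, 4, 8, 16384, 32768, 16, 32, 64, 128]) (.leaf [1, 2, 256, 512, 65536, 131072, 2048, 3072, 8192, 12288, 8, 12, 49152, 16384, 48, 16, 192, 64])) (.node (.leaf [1, 2, 256, 512, 65536, 131072, 3072, 1024, 12288, 4096, 12, 4, 32768, 49152, 32, 48, 128, 192]) (.leaf [1, 2, 256, 512, 131072, 196608, 1024, 2048, 4096, 8192, 8, 12, 32768, 49152, 32, 48, 192, 64])))) (.node (.node (.node (.leaf [1, 2, 256, 512, 131072, 196608, 2048, 3072, 8192, 12288, 12, 4, 16384, 32768, 16, 32, 128, 192]) (.leaf [1, 2, 256, 512, 131072, 196608, 3072, 1024, 12288, 4096, 4, 8, 49152, 16384, 48, 16, 64, 128])) (.node (.leaf [1, 2, 256, 512, 196608, 65536, 1024, 2048, 4096, 8192, 12, 4, 49152, 16384, 48, 16, 128, 192]) (.leaf [1, 2, 256, 512, 196608, 65536, 2048, 3072, 8192, 12288, 4, 8, 32768, 49152, 32, 48, 64, 128]))) (.node (.node (.leaf [1, 2, 256, 512, 196608, 65536, 3072, 1024, 12288, 4096, 8, 12, 16384, 32768, 16, 32, 192, 64]) (.leaf [1, 2, 512, 768, 65536, 131072, 1024, 2048, 8192, 12288, 4, 8, 32768, 49152, 48, 16, 128, 192])) (.node (.leaf [1, 2, 512, 768, 65536, 131072, 2048, 3072, 12288, 4096, 8, 12, 16384, 32768, 32, 48, 64, 128]) (.leaf [1, 2, 512, 768, 65536, 131072, 3072, 1024, 4096, 8192, 12, 4, 49152, 16384, 16, 32, 192, 64]))))) (.node (.node (.node (.node (.leaf [1, 2, 512, 768, 131072, 196608, 1024, 2048, 8192, 12288, 8, 12, 49152, 16384, 16, 32, 64, 128]) (.leaf [1, 2, 512, 768, 131072, 196608, 2048, 3072, 12288, 4096, 12, 4, 32768, 49152, 48, 16, 192, 64])) (.node (.leaf [1, 2, 512, 768, 131072, 196608, 3072, 1024, 4096, 8192, 4, 8, 16384, 32768, 32, 48, 128, 192]) (.leaf [1, 2, 512, 768, 196608, 65536, 1024, 2048, 8192, 12288, 12, 4, 16384, 32768, 32, 48, 192, 64]))) (.node (.node (.leaf [1, 2, 512, 768, 196608, 65536, 2048, 3072, 12288, 4096, 4, 8, 49152, 16384, 16, 32, 128, 192]) (.leaf [1, 2, 512, 768, 196608, 65536, 3072, 1024, 4096, 8192, 8, 12, 32768, 49152, 48, 16, 64, 128])) (.node (.leaf [1, 2, 768, 256, 65536, 131072, 1024, 2048, 12288, 4096, 4, 8, 49152, 16384, 32, 48, 192, 64]) (.leaf [1, 2, 768, 256, 65536, 131072, 2048, 3072, 4096, 8192, 8, 12, 32768, 49152, 16, 32, 128, 192])))) (.node (.node (.node (.leaf [1, 2, 768, 256, 65536, 131072, 3072, 1024, 8192, 12288, 12, 4, 16384, 32768, 48, 16, 64, 128]) (.leaf [1, 2, 768, 256, 131072, 196608, 1024, 2048, 12288, 4096, 8, 12, 16384, 32768, 48, 16, 128, 192])) (.node (.leaf [1, 2, 768, 256, 131072, 196608, 2048, 3072, 4096, 8192, 12, 4, 49152, 16384, 32, 48, 64, 128]) (.leaf [1, 2, 768, 256, 131072, 196608, 3072, 1024, 8192, 12288, 4, 8, 32768, 49152, 16, 32, 192, 64]))) (.node (.node (.leaf [1, 2, 768, 256, 196608, 65536, 1024, 2048, 12288, 4096, 12, 4, 32768, 49152, 16, 32, 64, 128]) (.leaf [1, 2, 768, 256, 196608, 65536, 2048, 3072, 4096, 8192, 4, 8, 16384, 32768, 48, 16, 192, 64])) (.node (.leaf [1, 2, 768, 256, 196608, 65536, 3072, 1024, 8192, 12288, 8, 12, 49152, 16384, 32, 48, 128, 192]) (.leaf [1, 2, 1024, 2048, 16384, 32768, 65536, 131072, 4, 8, 64, 128, 256, 512, 4096, 8192, 16, 32])))))) (.node (.node (.node (.node (.node (.leaf [1, 2, 1024, 2048, 16384, 32768, 131072, 196608, 8, 12, 128, 192, 768, 256, 12288, 4096, 48, 16]) (.leaf [1, 2, 1024, 2048, 16384, 32768, 196608, 65536, 12, 4, 192, 64, 512, 768, 8192, 12288, 32, 48])) (.node (.leaf [1, 2, 1024, 2048, 32768, 49152, 65536, 131072, 4, 8, 128, 192, 512, 768, 8192, 12288, 48, 16]) (.leaf [1, 2, 1024, 2048, 32768, 49152, 131072, 196608, 8, 12, 192, 64, 256, 512, 4096, 8192, 32, 48]))) (.node (.node (.leaf [1, 2, 1024, 2048, 32768, 49152, 196608, 65536, 12, 4, 64, 128, 768, 256, 12288, 4096, 16, 32]) (.leaf [1, 2, 1024, 2048, 49152, 16384, 65536, 131072, 4, 8, 192, 64, 768, 256, 12288, 4096, 32, 48])) (.node (.leaf [1, 2, 1024, 2048, 49152, 16384, 131072, 196608, 8, 12, 64, 128, 512, 768, 8192, 12288, 16, 32]) (.leaf [1, 2, 1024, 2048, 49152, 16384, 196608, 65536, 12, 4, 128, 192, 256, 512, 4096, 8192, 48, 16])))) (.node (.node (.node (.leaf [1, 2, 2048, 3072, 16384, 32768, 65536, 131072, 8, 12, 64, 128, 512, 768, 12288, 4096, 32, 48]) (.leaf [1, 2, 2048, 3072, 16384, 32768, 131072, 196608, 12, 4, 128, 192, 256, 512, 8192, 12288, 16, 32])) (.node (.leaf [1, 2, 2048, 3072, 16384, 32768, 196608, 65536, 4, 8, 192, 64, 768, 256, 4096, 8192, 48, 16]) (.leaf [1, 2, 2048, 3072, 32768, 49152, 65536, 131072, 8, 12, 128, 192, 768, 256, 4096, 8192, 16, 32]))) (.node (.node (.leaf [1, 2, 2048, 3072, 32768, 49152, 131072, 196608, 12, 4, 192, 64, 512, 768, 12288, 4096, 48, 16]) (.leaf [1, 2, 2048, 3072, 32768, 49152, 196608, 65536, 4, 8, 64, 128, 256, 512, 8192, 12288, 32, 48])) (.node (.leaf [1, 2, 2048, 3072, 49152, 16384, 65536, 131072, 8, 12, 192, 64, 256, 512, 8192, 12288, 48, 16]) (.leaf [1, 2, 2048, 3072, 49152, 16384, 131072, 196608, 12, 4, 64, 128, 768, 256, 4096, 8192, 32, 48]))))) (.node (.node (.node (.node (.leaf [1, 2, 2048, 3072, 49152, 16384, 196608, 65536, 4, 8, 128, 192, 512, 768, 12288, 4096, 16, 32]) (.leaf [1, 2, 3072, 1024, 16384, 32768, 65536, 131072, 12, 4, 64, 128, 768, 256, 8192, 12288, 48, 16])) (.node (.leaf [1, 2, 3072, 1024, 16384, 32768, 131072, 196608, 4, 8, 128, 192, 512, 768, 4096, 8192, 32, 48]) (.leaf [1, 2, 3072, 1024, 16384, 32768, 196608, 65536, 8, 12, 192, 64, 256, 512, 12288, 4096, 16, 32]))) (.node (.node (.leaf [1, 2, 3072, 1024, 32768, 49152, 65536, 131072, 12, 4, 128, 192, 256, 512, 12288, 4096, 32, 48]) (.leaf [1, 2, 3072, 1024, 32768, 49152, 131072, 196608, 4, 8, 192, 64, 768, 256, 8192, 12288, 16, 32])) (.node (.leaf [1, 2, 3072, 1024, 32768, 49152, 196608, 65536, 8, 12, 64, 128, 512, 768, 4096, 8192, 48, 16]) (.leaf [1, 2, 3072, 1024, 49152, 16384, 65536, 131072, 12, 4, 192, 64, 512, 768, 4096, 8192, 16, 32])))) (.node (.node (.node (.leaf [1, 2, 3072, 1024, 49152, 16384, 131072, 196608, 4, 8, 64, 128, 256, 512, 12288, 4096, 48, 16]) (.leaf [1, 2, 3072, 1024, 49152, 16384, 196608, 65536, 8, 12, 128, 192, 768, 256, 8192, 12288, 32, 48])) (.node (.leaf [1, 2, 4096, 8192, 64, 128, 4, 8, 16384, 32768, 256, 512, 16, 32, 65536, 131072, 1024, 2048]) (.leaf [1, 2, 4096, 8192, 64, 128, 8, 12, 32768, 49152, 512, 768, 48, 16, 196608, 65536, 3072, 1024]))) (.node (.node (.leaf [1, 2, 4096, 8192, 64, 128, 12, 4, 49152, 16384, 768, 256, 32, 48, 131072, 196608, 2048, 3072]) (.leaf [1, 2, 4096, 8192, 128, 192, 4, 8, 16384, 32768, 512, 768, 32, 48, 131072, 196608, 3072, 1024])) (.node (.leaf [1, 2, 4096, 8192, 128, 192, 8, 12, 32768, 49152, 768, 256, 16, 32, 65536, 131072, 2048, 3072]) (.leaf [1, 2, 4096, 8192, 128, 192, 12, 4, 49152, 16384, 256, 512, 48, 16, 196608, 65536, 1024, 2048])))))))) (.node (.node (.node (.node (.node (.node (.node (.leaf [1, 2, 4096, 8192, 192, 64, 4, 8, 16384, 32768, 768, 256, 48, 16, 196608, 65536, 2048, 3072]) (.leaf [1, 2, 4096, 8192, 192, 64, 8, 12, 32768, 49152, 256, 512, 32, 48, 131072, 196608, 1024, 2048])) (.node (.leaf [1, 2, 4096, 8192, 192, 64, 12, 4, 49152, 16384, 512, 768, 16, 32, 65536, 131072, 3072, 1024]) (.leaf [1, 2, 4116, 8232, 84, 168, 4176, 8352, 17664, 35328, 82176, 164352, 4164, 8328, 66816, 133632, 82944, 165888]))) (.node (.node (.leaf [1, 2, 4116, 8232, 84, 168, 8352, 12528, 35328, 52992, 164352, 246528, 12492, 4164, 200448, 66816, 248832, 82944]) (.leaf [1, 2, 4116, 8232, 84, 168, 12528, 4176, 52992, 17664, 246528, 82176, 8328, 12492, 133632, 200448, 165888, 248832])) (.node (.leaf [1, 2, 4116, 8232, 168, 252, 4176, 8352, 17664, 35328, 164352, 246528, 8328, 12492, 133632, 200448, 248832, 82944]) (.leaf [1, 2, 4116, 8232, 168, 252, 8352, 12528, 35328, 52992, 246528, 82176, 4164, 8328, 66816, 133632, 165888, 248832])))) (.node (.node (.node (.leaf [1, 2, 4116, 8232, 168, 252, 12528, 4176, 52992, 17664, 82176, 164352, 12492, 4164, 200448, 66816, 82944, 165888]) (.leaf [1, 2, 4116, 8232, 252, 84, 4176, 8352, 17664, 35328, 246528, 82176, 12492, 4164, 200448, 66816, 165888, 248832])) (.node (.leaf [1, 2, 4116, 8232, 252, 84, 8352, 12528, 35328, 52992, 82176, 164352, 8328, 12492, 133632, 200448, 82944, 165888]) (.leaf [1, 2, 4116, 8232, 252, 84, 12528, 4176, 52992, 17664, 164352, 246528, 4164, 8328, 66816, 133632, 248832, 82944]))) (.node (.node (.leaf [1, 2, 4120, 8236, 116, 152, 4240, 8416, 35584, 52480, 213504, 99072, 12356, 4232, 198144, 68352, 183296, 214016]) (.leaf [1, 2, 4120, 8236, 116, 152, 8416, 12400, 52480, 17920, 99072, 180480, 8396, 12356, 134400, 198144, 100352, 183296])) (.node (.leaf [1, 2, 4120, 8236, 116, 152, 12400, 4240, 17920, 35584, 180480, 213504, 4232, 8396, 68352, 134400, 214016, 100352]) (.leaf [1, 2, 4120, 8236, 152, 236, 4240, 8416, 35584, 52480, 99072, 180480, 4232, 8396, 68352, 134400, 100352, 183296]))))) (.node (.node (.node (.node (.leaf [1, 2, 4120, 8236, 152, 236, 8416, 12400, 52480, 17920, 180480, 213504, 12356, 4232, 198144, 68352, 214016, 100352]) (.leaf [1, 2, 4120, 8236, 152, 236, 12400, 4240, 17920, 35584, 213504, 99072, 8396, 12356, 134400, 198144, 183296, 214016])) (.node (.leaf [1, 2, 4120, 8236, 236, 116, 4240, 8416, 35584, 52480, 180480, 213504, 8396, 12356, 134400, 198144, 214016, 100352]) (.leaf [1, 2, 4120, 8236, 236, 116, 8416, 12400, 52480, 17920, 213504, 99072, 4232, 8396, 68352, 134400, 183296, 214016]))) (.node (.node (.leaf [1, 2, 4120, 8236, 236, 116, 12400, 4240, 17920, 35584, 99072, 180480, 12356, 4232, 198144, 68352, 100352, 183296]) (.leaf [1, 2, 4124, 8228, 100, 184, 4304, 8288, 52736, 18176, 148224, 229632, 8260, 12424, 132864, 198912, 231424, 117760])) (.node (.leaf [1, 2, 4124, 8228, 100, 184, 8288, 12464, 18176, 35072, 229632, 115200, 4300, 8260, 69120, 132864, 148480, 231424]) (.leaf [1, 2, 4124, 8228, 100, 184, 12464, 4304, 35072, 52736, 115200, 148224, 12424, 4300, 198912, 69120, 117760, 148480])))) (.node (.node (.node (.leaf [1, 2, 4124, 8228, 184, 220, 4304, 8288, 52736, 18176, 229632, 115200, 12424, 4300, 198912, 69120, 148480, 231424]) (.leaf [1, 2, 4124, 8228, 184, 220, 8288, 12464, 18176, 35072, 115200, 148224, 8260, 12424, 132864, 198912, 117760, 148480])) (.node (.leaf [1, 2, 4124, 8228, 184, 220, 12464, 4304, 35072, 52736, 148224, 229632, 4300, 8260, 69120, 132864, 231424, 117760]) (.leaf [1, 2, 4124, 8228, 220, 100, 4304, 8288, 52736, 18176, 115200, 148224, 4300, 8260, 69120, 132864, 117760, 148480]))) (.node (.node (.leaf [1, 2, 4124, 8228, 220, 100, 8288, 12464, 18176, 35072, 148224, 229632, 12424, 4300, 198912, 69120, 231424, 117760]) (.leaf [1, 2, 4124, 8228, 220, 100, 12464, 4304, 35072, 52736, 229632, 115200, 8260, 12424, 132864, 198912, 148480, 231424])) (.node (.leaf [1, 2, 4132, 8248, 92, 164, 4256, 8432, 19968, 34560, 114944, 147968, 12364, 4228, 67840, 134656, 230400, 116736]) (.leaf [1, 2, 4132, 8248, 92, 164, 8432, 12368, 34560, 51456, 147968, 230144, 8392, 12364, 198400, 67840, 150528, 230400])))))) (.node (.node (.node (.node (.node (.leaf [1, 2, 4132, 8248, 92, 164, 12368, 4256, 51456, 19968, 230144, 114944, 4228, 8392, 134656, 198400, 116736, 150528]) (.leaf [1, 2, 4132, 8248, 164, 248, 4256, 8432, 19968, 34560, 147968, 230144, 4228, 8392, 134656, 198400, 150528, 230400])) (.node (.leaf [1, 2, 4132, 8248, 164, 248, 8432, 12368, 34560, 51456, 230144, 114944, 12364, 4228, 67840, 134656, 116736, 150528]) (.leaf [1, 2, 4132, 8248, 164, 248, 12368, 4256, 51456, 19968, 114944, 147968, 8392, 12364, 198400, 67840, 230400, 116736]))) (.node (.node (.leaf [1, 2, 4132, 8248, 248, 92, 4256, 8432, 19968, 34560, 230144, 114944, 8392, 12364, 198400, 67840, 116736, 150528]) (.leaf [1, 2, 4132, 8248, 248, 92, 8432, 12368, 34560, 51456, 114944, 147968, 4228, 8392, 134656, 198400, 230400, 116736])) (.node (.leaf [1, 2, 4132, 8248, 248, 92, 12368, 4256, 51456, 19968, 147968, 230144, 12364, 4228, 67840, 134656, 150528, 230400]) (.leaf [1, 2, 4136, 8252, 124, 148, 4320, 8304, 34048, 51712, 246272, 82688, 8268, 12420, 199168, 69376, 84992, 164864])))) (.node (.node (.node (.leaf [1, 2, 4136, 8252, 124, 148, 8304, 12432, 51712, 20224, 82688, 164096, 4296, 8268, 132352, 199168, 247808, 84992]) (.leaf [1, 2, 4136, 8252, 124, 148, 12432, 4320, 20224, 34048, 164096, 246272, 12420, 4296, 69376, 132352, 164864, 247808])) (.node (.leaf [1, 2, 4136, 8252, 148, 232, 4320, 8304, 34048, 51712, 82688, 164096, 12420, 4296, 69376, 132352, 247808, 84992]) (.leaf [1, 2, 4136, 8252, 148, 232, 8304, 12432, 51712, 20224, 164096, 246272, 8268, 12420, 199168, 69376, 164864, 247808]))) (.node (.node (.leaf [1, 2, 4136, 8252, 148, 232, 12432, 4320, 20224, 34048, 246272, 82688, 4296, 8268, 132352, 199168, 84992, 164864]) (.leaf [1, 2, 4136, 8252, 232, 124, 4320, 8304, 34048, 51712, 164096, 246272, 4296, 8268, 132352, 199168, 164864, 247808])) (.node (.leaf [1, 2, 4136, 8252, 232, 124, 8304, 12432, 51712, 20224, 246272, 82688, 12420, 4296, 69376, 132352, 84992, 164864]) (.leaf [1, 2, 4136, 8252, 232, 124, 12432, 4320, 20224, 34048, 82688, 164096, 8268, 12420, 199168, 69376, 247808, 84992]))))) (.node (.node (.node (.node (.leaf [1, 2, 4140, 8244, 108, 180, 4192, 8368, 51968, 19712, 180992, 213248, 4172, 8324, 133888, 199936, 182272, 216064]) (.leaf [1, 2, 4140, 8244, 108, 180, 8368, 12496, 19712, 34304, 213248, 98816, 12488, 4172, 67072, 133888, 99328, 182272])) (.node (.leaf [1, 2, 4140, 8244, 108, 180, 12496, 4192, 34304, 51968, 98816, 180992, 8324, 12488, 199936, 67072, 216064, 99328]) (.leaf [1, 2, 4140, 8244, 180, 216, 4192, 8368, 51968, 19712, 213248, 98816, 8324, 12488, 199936, 67072, 99328, 182272]))) (.node (.node (.leaf [1, 2, 4140, 8244, 180, 216, 8368, 12496, 19712, 34304, 98816, 180992, 4172, 8324, 133888, 199936, 216064, 99328]) (.leaf [1, 2, 4140, 8244, 180, 216, 12496, 4192, 34304, 51968, 180992, 213248, 12488, 4172, 67072, 133888, 182272, 216064])) (.node (.leaf [1, 2, 4140, 8244, 216, 108, 4192, 8368, 51968, 19712, 98816, 180992, 12488, 4172, 67072, 133888, 216064, 99328]) (.leaf [1, 2, 4140, 8244, 216, 108, 8368, 12496, 19712, 34304, 180992, 213248, 8324, 12488, 199936, 67072, 182272, 216064])))) (.node (.node (.node (.leaf [1, 2, 4140, 8244, 216, 108, 12496, 4192, 34304, 51968, 213248, 98816, 4172, 8324, 133888, 199936, 99328, 182272]) (.leaf [1, 2, 4148, 8216, 88, 172, 4336, 8272, 19200, 36096, 98560, 180736, 8264, 12428, 68864, 132608, 181248, 215040])) (.node (.leaf [1, 2, 4148, 8216, 88, 172, 8272, 12448, 36096, 50688, 180736, 213760, 4292, 8264, 199424, 68864, 101376, 181248]) (.leaf [1, 2, 4148, 8216, 88, 172, 12448, 4336, 50688, 19200, 213760, 98560, 12428, 4292, 132608, 199424, 215040, 101376]))) (.node (.node (.leaf [1, 2, 4148, 8216, 172, 244, 4336, 8272, 19200, 36096, 180736, 213760, 12428, 4292, 132608, 199424, 101376, 181248]) (.leaf [1, 2, 4148, 8216, 172, 244, 8272, 12448, 36096, 50688, 213760, 98560, 8264, 12428, 68864, 132608, 215040, 101376])) (.node (.leaf [1, 2, 4148, 8216, 172, 244, 12448, 4336, 50688, 19200, 98560, 180736, 4292, 8264, 199424, 68864, 181248, 215040]) (.leaf [1, 2, 4148, 8216, 244, 88, 4336, 8272, 19200, 36096, 213760, 98560, 4292, 8264, 199424, 68864, 215040, 101376]))))))) (.node (.node (.node (.node (.node (.node (.leaf [1, 2, 4148, 8216, 244, 88, 8272, 12448, 36096, 50688, 98560, 180736, 12428, 4292, 132608, 199424, 181248, 215040]) (.leaf [1, 2, 4148, 8216, 244, 88, 12448, 4336, 50688, 19200, 180736, 213760, 8264, 12428, 68864, 132608, 101376, 181248])) (.node (.leaf [1, 2, 4152, 8220, 120, 156, 4208, 8336, 36352, 50944, 229888, 115456, 4168, 8332, 200192, 67328, 232448, 115712]) (.leaf [1, 2, 4152, 8220, 120, 156, 8336, 12512, 50944, 18688, 115456, 147712, 12484, 4168, 133376, 200192, 149504, 232448]))) (.node (.node (.leaf [1, 2, 4152, 8220, 120, 156, 12512, 4208, 18688, 36352, 147712, 229888, 8332, 12484, 67328, 133376, 115712, 149504]) (.leaf [1, 2, 4152, 8220, 156, 228, 4208, 8336, 36352, 50944, 115456, 147712, 8332, 12484, 67328, 133376, 149504, 232448])) (.node (.leaf [1, 2, 4152, 8220, 156, 228, 8336, 12512, 50944, 18688, 147712, 229888, 4168, 8332, 200192, 67328, 115712, 149504]) (.leaf [1, 2, 4152, 8220, 156, 228, 12512, 4208, 18688, 36352, 229888, 115456, 12484, 4168, 133376, 200192, 232448, 115712])))) (.node (.node (.node (.leaf [1, 2, 4152, 8220, 228, 120, 4208, 8336, 36352, 50944, 147712, 229888, 12484, 4168, 133376, 200192, 115712, 149504]) (.leaf [1, 2, 4152, 8220, 228, 120, 8336, 12512, 50944, 18688, 229888, 115456, 8332, 12484, 67328, 133376, 232448, 115712])) (.node (.leaf [1, 2, 4152, 8220, 228, 120, 12512, 4208, 18688, 36352, 115456, 147712, 4168, 8332, 200192, 67328, 149504, 232448]) (.leaf [1, 2, 4156, 8212, 104, 188, 4272, 8400, 50432, 18944, 164608, 246016, 12360, 4236, 134912, 197888, 83968, 166912]))) (.node (.node (.leaf [1, 2, 4156, 8212, 104, 188, 8400, 12384, 18944, 36608, 246016, 82432, 8388, 12360, 68096, 134912, 246784, 83968]) (.leaf [1, 2, 4156, 8212, 104, 188, 12384, 4272, 36608, 50432, 82432, 164608, 4236, 8388, 197888, 68096, 166912, 246784])) (.node (.leaf [1, 2, 4156, 8212, 188, 212, 4272, 8400, 50432, 18944, 246016, 82432, 4236, 8388, 197888, 68096, 246784, 83968]) (.leaf [1, 2, 4156, 8212, 188, 212, 8400, 12384, 18944, 36608, 82432, 164608, 12360, 4236, 134912, 197888, 166912, 246784]))))) (.node (.node (.node (.node (.leaf [1, 2, 4156, 8212, 188, 212, 12384, 4272, 36608, 50432, 164608, 246016, 8388, 12360, 68096, 134912, 83968, 166912]) (.leaf [1, 2, 4156, 8212, 212, 104, 4272, 8400, 50432, 18944, 82432, 164608, 8388, 12360, 68096, 134912, 166912, 246784])) (.node (.leaf [1, 2, 4156, 8212, 212, 104, 8400, 12384, 18944, 36608, 164608, 246016, 4236, 8388, 197888, 68096, 83968, 166912]) (.leaf [1, 2, 4156, 8212, 212, 104, 12384, 4272, 36608, 50432, 246016, 82432, 12360, 4236, 134912, 197888, 246784, 83968]))) (.node (.node (.leaf [1, 2, 4164, 8328, 4176, 8352, 4116, 8232, 66816, 133632, 17664, 35328, 84, 168, 82944, 165888, 82176, 164352]) (.leaf [1, 2, 4164, 8328, 4176, 8352, 8232, 12348, 133632, 200448, 35328, 52992, 252, 84, 248832, 82944, 246528, 82176])) (.node (.leaf [1, 2, 4164, 8328, 4176, 8352, 12348, 4116, 200448, 66816, 52992, 17664, 168, 252, 165888, 248832, 164352, 246528]) (.leaf [1, 2, 4164, 8328, 8352, 12528, 4116, 8232, 66816, 133632, 35328, 52992, 168, 252, 165888, 248832, 246528, 82176])))) (.node (.node (.node (.leaf [1, 2, 4164, 8328, 8352, 12528, 8232, 12348, 133632, 200448, 52992, 17664, 84, 168, 82944, 165888, 164352, 246528]) (.leaf [1, 2, 4164, 8328, 8352, 12528, 12348, 4116, 200448, 66816, 17664, 35328, 252, 84, 248832, 82944, 82176, 164352])) (.node (.leaf [1, 2, 4164, 8328, 12528, 4176, 4116, 8232, 66816, 133632, 52992, 17664, 252, 84, 248832, 82944, 164352, 246528]) (.leaf [1, 2, 4164, 8328, 12528, 4176, 8232, 12348, 133632, 200448, 17664, 35328, 168, 252, 165888, 248832, 82176, 164352]))) (.node (.node (.leaf [1, 2, 4164, 8328, 12528, 4176, 12348, 4116, 200448, 66816, 35328, 52992, 84, 168, 82944, 165888, 246528, 82176]) (.leaf [1, 2, 4168, 8332, 4208, 8336, 4152, 8220, 200192, 67328, 36352, 50944, 120, 156, 232448, 115712, 229888, 115456])) (.node (.leaf [1, 2, 4168, 8332, 4208, 8336, 8220, 12324, 67328, 133376, 50944, 18688, 228, 120, 149504, 232448, 147712, 229888]) (.leaf [1, 2, 4168, 8332, 4208, 8336, 12324, 4152, 133376, 200192, 18688, 36352, 156, 228, 115712, 149504, 115456, 147712])))))) (.node (.node (.node (.node (.node (.leaf [1, 2, 4168, 8332, 8336, 12512, 4152, 8220, 200192, 67328, 50944, 18688, 156, 228, 115712, 149504, 147712, 229888]) (.leaf [1, 2, 4168, 8332, 8336, 12512, 8220, 12324, 67328, 133376, 18688, 36352, 120, 156, 232448, 115712, 115456, 147712])) (.node (.leaf [1, 2, 4168, 8332, 8336, 12512, 12324, 4152, 133376, 200192, 36352, 50944, 228, 120, 149504, 232448, 229888, 115456]) (.leaf [1, 2, 4168, 8332, 12512, 4208, 4152, 8220, 200192, 67328, 18688, 36352, 228, 120, 149504, 232448, 115456, 147712]))) (.node (.node (.leaf [1, 2, 4168, 8332, 12512, 4208, 8220, 12324, 67328, 133376, 36352, 50944, 156, 228, 115712, 149504, 229888, 115456]) (.leaf [1, 2, 4168, 8332, 12512, 4208, 12324, 4152, 133376, 200192, 50944, 18688, 120, 156, 232448, 115712, 147712, 229888])) (.node (.leaf [1, 2, 4172, 8324, 4192, 8368, 4140, 8244, 133888, 199936, 51968, 19712, 108, 180, 182272, 216064, 180992, 213248]) (.leaf [1, 2, 4172, 8324, 4192, 8368, 8244, 12312, 199936, 67072, 19712, 34304, 216, 108, 99328, 182272, 98816, 180992])))) (.node (.node (.node (.leaf [1, 2, 4172, 8324, 4192, 8368, 12312, 4140, 67072, 133888, 34304, 51968, 180, 216, 216064, 99328, 213248, 98816]) (.leaf [1, 2, 4172, 8324, 8368, 12496, 4140, 8244, 133888, 199936, 19712, 34304, 180, 216, 216064, 99328, 98816, 180992])) (.node (.leaf [1, 2, 4172, 8324, 8368, 12496, 8244, 12312, 199936, 67072, 34304, 51968, 108, 180, 182272, 216064, 213248, 98816]) (.leaf [1, 2, 4172, 8324, 8368, 12496, 12312, 4140, 67072, 133888, 51968, 19712, 216, 108, 99328, 182272, 180992, 213248]))) (.node (.node (.leaf [1, 2, 4172, 8324, 12496, 4192, 4140, 8244, 133888, 199936, 34304, 51968, 216, 108, 99328, 182272, 213248, 98816]) (.leaf [1, 2, 4172, 8324, 12496, 4192, 8244, 12312, 199936, 67072, 51968, 19712, 180, 216, 216064, 99328, 180992, 213248])) (.node (.leaf [1, 2, 4172, 8324, 12496, 4192, 12312, 4140, 67072, 133888, 19712, 34304, 108, 180, 182272, 216064, 98816, 180992]) (.leaf [1, 2, 4176, 8352, 4164, 8328, 84, 168, 82176, 164352, 82944, 165888, 4116, 8232, 17664, 35328, 66816, 133632]))))) (.node (.node (.node (.node (.leaf [1, 2, 4176, 8352, 4164, 8328, 168, 252, 164352, 246528, 165888, 248832, 12348, 4116, 52992, 17664, 200448, 66816]) (.leaf [1, 2, 4176, 8352, 4164, 8328, 252, 84, 246528, 82176, 248832, 82944, 8232, 12348, 35328, 52992, 133632, 200448])) (.node (.leaf [1, 2, 4176, 8352, 8328, 12492, 84, 168, 82176, 164352, 165888, 248832, 8232, 12348, 35328, 52992, 200448, 66816]) (.leaf [1, 2, 4176, 8352, 8328, 12492, 168, 252, 164352, 246528, 248832, 82944, 4116, 8232, 17664, 35328, 133632, 200448]))) (.node (.node (.leaf [1, 2, 4176, 8352, 8328, 12492, 252, 84, 246528, 82176, 82944, 165888, 12348, 4116, 52992, 17664, 66816, 133632]) (.leaf [1, 2, 4176, 8352, 12492, 4164, 84, 168, 82176, 164352, 248832, 82944, 12348, 4116, 52992, 17664, 133632, 200448])) (.node (.leaf [1, 2, 4176, 8352, 12492, 4164, 168, 252, 164352, 246528, 82944, 165888, 8232, 12348, 35328, 52992, 66816, 133632]) (.leaf [1, 2, 4176, 8352, 12492, 4164, 252, 84, 246528, 82176, 165888, 248832, 4116, 8232, 17664, 35328, 200448, 66816])))) (.node (.node (.node (.leaf [1, 2, 4192, 8368, 4172, 8324, 108, 180, 180992, 213248, 182272, 216064, 4140, 8244, 51968, 19712, 133888, 199936]) (.leaf [1, 2, 4192, 8368, 4172, 8324, 180, 216, 213248, 98816, 216064, 99328, 12312, 4140, 34304, 51968, 67072, 133888])) (.node (.leaf [1, 2, 4192, 8368, 4172, 8324, 216, 108, 98816, 180992, 99328, 182272, 8244, 12312, 19712, 34304, 199936, 67072]) (.leaf [1, 2, 4192, 8368, 8324, 12488, 108, 180, 180992, 213248, 216064, 99328, 8244, 12312, 19712, 34304, 67072, 133888]))) (.node (.node (.leaf [1, 2, 4192, 8368, 8324, 12488, 180, 216, 213248, 98816, 99328, 182272, 4140, 8244, 51968, 19712, 199936, 67072]) (.leaf [1, 2, 4192, 8368, 8324, 12488, 216, 108, 98816, 180992, 182272, 216064, 12312, 4140, 34304, 51968, 133888, 199936])) (.node (.leaf [1, 2, 4192, 8368, 12488, 4172, 108, 180, 180992, 213248, 99328, 182272, 12312, 4140, 34304, 51968, 199936, 67072]) (.leaf [1, 2, 4192, 8368, 12488, 4172, 180, 216, 213248, 98816, 182272, 216064, 8244, 12312, 19712, 34304, 133888, 199936])))))))))) (.node (.node (.node (.node (.node (.node (.node (.node (.node (.leaf [1, 2, 4192, 8368, 12488, 4172, 216, 108, 98816, 180992, 216064, 99328, 4140, 8244, 51968, 19712, 67072, 133888]) (.leaf [1, 2, 4208, 8336, 4168, 8332, 120, 156, 229888, 115456, 232448, 115712, 4152, 8220, 36352, 50944, 200192, 67328])) (.node (.leaf [1, 2, 4208, 8336, 4168, 8332, 156, 228, 115456, 147712, 115712, 149504, 12324, 4152, 18688, 36352, 133376, 200192]) (.leaf [1, 2, 4208, 8336, 4168, 8332, 228, 120, 147712, 229888, 149504, 232448, 8220, 12324, 50944, 18688, 67328, 133376]))) (.node (.node (.leaf [1, 2, 4208, 8336, 8332, 12484, 120, 156, 229888, 115456, 115712, 149504, 8220, 12324, 50944, 18688, 133376, 200192]) (.leaf [1, 2, 4208, 8336, 8332, 12484, 156, 228, 115456, 147712, 149504, 232448, 4152, 8220, 36352, 50944, 67328, 133376])) (.node (.leaf [1, 2, 4208, 8336, 8332, 12484, 228, 120, 147712, 229888, 232448, 115712, 12324, 4152, 18688, 36352, 200192, 67328]) (.leaf [1, 2, 4208, 8336, 12484, 4168, 120, 156, 229888, 115456, 149504, 232448, 12324, 4152, 18688, 36352, 67328, 133376])))) (.node (.node (.node (.leaf [1, 2, 4208, 8336, 12484, 4168, 156, 228, 115456, 147712, 232448, 115712, 8220, 12324, 50944, 18688, 200192, 67328]) (.leaf [1, 2, 4208, 8336, 12484, 4168, 228, 120, 147712, 229888, 115712, 149504, 4152, 8220, 36352, 50944, 133376, 200192])) (.node (.leaf [1, 2, 4228, 8392, 4256, 8432, 4132, 8248, 134656, 198400, 19968, 34560, 164, 248, 150528, 230400, 147968, 230144]) (.leaf [1, 2, 4228, 8392, 4256, 8432, 8248, 12316, 198400, 67840, 34560, 51456, 92, 164, 116736, 150528, 114944, 147968]))) (.node (.node (.leaf [1, 2, 4228, 8392, 4256, 8432, 12316, 4132, 67840, 134656, 51456, 19968, 248, 92, 230400, 116736, 230144, 114944]) (.leaf [1, 2, 4228, 8392, 8432, 12368, 4132, 8248, 134656, 198400, 34560, 51456, 248, 92, 230400, 116736, 114944, 147968])) (.node (.leaf [1, 2, 4228, 8392, 8432, 12368, 8248, 12316, 198400, 67840, 51456, 19968, 164, 248, 150528, 230400, 230144, 114944]) (.leaf [1, 2, 4228, 8392, 8432, 12368, 12316, 4132, 67840, 134656, 19968, 34560, 92, 164, 116736, 150528, 147968, 230144]))))) (.node (.node (.node (.node (.leaf [1, 2, 4228, 8392, 12368, 4256, 4132, 8248, 134656, 198400, 51456, 19968, 92, 164, 116736, 150528, 230144, 114944]) (.leaf [1, 2, 4228, 8392, 12368, 4256, 8248, 12316, 198400, 67840, 19968, 34560, 248, 92, 230400, 116736, 147968, 230144])) (.node (.leaf [1, 2, 4228, 8392, 12368, 4256, 12316, 4132, 67840, 134656, 34560, 51456, 164, 248, 150528, 230400, 114944, 147968]) (.leaf [1, 2, 4232, 8396, 4240, 8416, 4120, 8236, 68352, 134400, 35584, 52480, 152, 236, 100352, 183296, 99072, 180480]))) (.node (.node (.leaf [1, 2, 4232, 8396, 4240, 8416, 8236, 12340, 134400, 198144, 52480, 17920, 116, 152, 214016, 100352, 213504, 99072]) (.leaf [1, 2, 4232, 8396, 4240, 8416, 12340, 4120, 198144, 68352, 17920, 35584, 236, 116, 183296, 214016, 180480, 213504])) (.node (.leaf [1, 2, 4232, 8396, 8416, 12400, 4120, 8236, 68352, 134400, 52480, 17920, 236, 116, 183296, 214016, 213504, 99072]) (.leaf [1, 2, 4232, 8396, 8416, 12400, 8236, 12340, 134400, 198144, 17920, 35584, 152, 236, 100352, 183296, 180480, 213504])))) (.node (.node (.node (.leaf [1, 2, 4232, 8396, 8416, 12400, 12340, 4120, 198144, 68352, 35584, 52480, 116, 152, 214016, 100352, 99072, 180480]) (.leaf [1, 2, 4232, 8396, 12400, 4240, 4120, 8236, 68352, 134400, 17920, 35584, 116, 152, 214016, 100352, 180480, 213504])) (.node (.leaf [1, 2, 4232, 8396, 12400, 4240, 8236, 12340, 134400, 198144, 35584, 52480, 236, 116, 183296, 214016, 99072, 180480]) (.leaf [1, 2, 4232, 8396, 12400, 4240, 12340, 4120, 198144, 68352, 52480, 17920, 152, 236, 100352, 183296, 213504, 99072]))) (.node (.node (.leaf [1, 2, 4236, 8388, 4272, 8400, 4156, 8212, 197888, 68096, 50432, 18944, 188, 212, 246784, 83968, 246016, 82432]) (.leaf [1, 2, 4236, 8388, 4272, 8400, 8212, 12328, 68096, 134912, 18944, 36608, 104, 188, 166912, 246784, 164608, 246016])) (.node (.leaf [1, 2, 4236, 8388, 4272, 8400, 12328, 4156, 134912, 197888, 36608, 50432, 212, 104, 83968, 166912, 82432, 164608]) (.leaf [1, 2, 4236, 8388, 8400, 12384, 4156, 8212, 197888, 68096, 18944, 36608, 212, 104, 83968, 166912, 164608, 246016])))))) (.node (.node (.node (.node (.node (.leaf [1, 2, 4236, 8388, 8400, 12384, 8212, 12328, 68096, 134912, 36608, 50432, 188, 212, 246784, 83968, 82432, 164608]) (.leaf [1, 2, 4236, 8388, 8400, 12384, 12328, 4156, 134912, 197888, 50432, 18944, 104, 188, 166912, 246784, 246016, 82432])) (.node (.leaf [1, 2, 4236, 8388, 12384, 4272, 4156, 8212, 197888, 68096, 36608, 50432, 104, 188, 166912, 246784, 82432, 164608]) (.leaf [1, 2, 4236, 8388, 12384, 4272, 8212, 12328, 68096, 134912, 50432, 18944, 212, 104, 83968, 166912, 246016, 82432]))) (.node (.node (.leaf [1, 2, 4236, 8388, 12384, 4272, 12328, 4156, 134912, 197888, 18944, 36608, 188, 212, 246784, 83968, 164608, 246016]) (.leaf [1, 2, 4240, 8416, 4232, 8396, 116, 152, 213504, 99072, 214016, 100352, 8236, 12340, 52480, 17920, 134400, 198144])) (.node (.leaf [1, 2, 4240, 8416, 4232, 8396, 152, 236, 99072, 180480, 100352, 183296, 4120, 8236, 35584, 52480, 68352, 134400]) (.leaf [1, 2, 4240, 8416, 4232, 8396, 236, 116, 180480, 213504, 183296, 214016, 12340, 4120, 17920, 35584, 198144, 68352])))) (.node (.node (.node (.leaf [1, 2, 4240, 8416, 8396, 12356, 116, 152, 213504, 99072, 100352, 183296, 12340, 4120, 17920, 35584, 68352, 134400]) (.leaf [1, 2, 4240, 8416, 8396, 12356, 152, 236, 99072, 180480, 183296, 214016, 8236, 12340, 52480, 17920, 198144, 68352])) (.node (.leaf [1, 2, 4240, 8416, 8396, 12356, 236, 116, 180480, 213504, 214016, 100352, 4120, 8236, 35584, 52480, 134400, 198144]) (.leaf [1, 2, 4240, 8416, 12356, 4232, 116, 152, 213504, 99072, 183296, 214016, 4120, 8236, 35584, 52480, 198144, 68352]))) (.node (.node (.leaf [1, 2, 4240, 8416, 12356, 4232, 152, 236, 99072, 180480, 214016, 100352, 12340, 4120, 17920, 35584, 134400, 198144]) (.leaf [1, 2, 4240, 8416, 12356, 4232, 236, 116, 180480, 213504, 100352, 183296, 8236, 12340, 52480, 17920, 68352, 134400])) (.node (.leaf [1, 2, 4256, 8432, 4228, 8392, 92, 164, 114944, 147968, 116736, 150528, 8248, 12316, 34560, 51456, 198400, 67840]) (.leaf [1, 2, 4256, 8432, 4228, 8392, 164, 248, 147968, 230144, 150528, 230400, 4132, 8248, 19968, 34560, 134656, 198400]))))) (.node (.node (.node (.node (.leaf [1, 2, 4256, 8432, 4228, 8392, 248, 92, 230144, 114944, 230400, 116736, 12316, 4132, 51456, 19968, 67840, 134656]) (.leaf [1, 2, 4256, 8432, 8392, 12364, 92, 164, 114944, 147968, 150528, 230400, 12316, 4132, 51456, 19968, 134656, 198400])) (.node (.leaf [1, 2, 4256, 8432, 8392, 12364, 164, 248, 147968, 230144, 230400, 116736, 8248, 12316, 34560, 51456, 67840, 134656]) (.leaf [1, 2, 4256, 8432, 8392, 12364, 248, 92, 230144, 114944, 116736, 150528, 4132, 8248, 19968, 34560, 198400, 67840]))) (.node (.node (.leaf [1, 2, 4256, 8432, 12364, 4228, 92, 164, 114944, 147968, 230400, 116736, 4132, 8248, 19968, 34560, 67840, 134656]) (.leaf [1, 2, 4256, 8432, 12364, 4228, 164, 248, 147968, 230144, 116736, 150528, 12316, 4132, 51456, 19968, 198400, 67840])) (.node (.leaf [1, 2, 4256, 8432, 12364, 4228, 248, 92, 230144, 114944, 150528, 230400, 8248, 12316, 34560, 51456, 134656, 198400]) (.leaf [1, 2, 4272, 8400, 4236, 8388, 104, 188, 164608, 246016, 166912, 246784, 8212, 12328, 18944, 36608, 68096, 134912])))) (.node (.node (.node (.leaf [1, 2, 4272, 8400, 4236, 8388, 188, 212, 246016, 82432, 246784, 83968, 4156, 8212, 50432, 18944, 197888, 68096]) (.leaf [1, 2, 4272, 8400, 4236, 8388, 212, 104, 82432, 164608, 83968, 166912, 12328, 4156, 36608, 50432, 134912, 197888])) (.node (.leaf [1, 2, 4272, 8400, 8388, 12360, 104, 188, 164608, 246016, 246784, 83968, 12328, 4156, 36608, 50432, 197888, 68096]) (.leaf [1, 2, 4272, 8400, 8388, 12360, 188, 212, 246016, 82432, 83968, 166912, 8212, 12328, 18944, 36608, 134912, 197888]))) (.node (.node (.leaf [1, 2, 4272, 8400, 8388, 12360, 212, 104, 82432, 164608, 166912, 246784, 4156, 8212, 50432, 18944, 68096, 134912]) (.leaf [1, 2, 4272, 8400, 12360, 4236, 104, 188, 164608, 246016, 83968, 166912, 4156, 8212, 50432, 18944, 134912, 197888])) (.node (.leaf [1, 2, 4272, 8400, 12360, 4236, 188, 212, 246016, 82432, 166912, 246784, 12328, 4156, 36608, 50432, 68096, 134912]) (.leaf [1, 2, 4272, 8400, 12360, 4236, 212, 104, 82432, 164608, 246784, 83968, 8212, 12328, 18944, 36608, 197888, 68096]))))))) (.node (.node (.node (.node (.node (.node (.leaf [1, 2, 4292, 8264, 4336, 8272, 4148, 8216, 199424, 68864, 19200, 36096, 244, 88, 215040, 101376, 213760, 98560]) (.leaf [1, 2, 4292, 8264, 4336, 8272, 8216, 12332, 68864, 132608, 36096, 50688, 172, 244, 181248, 215040, 180736, 213760])) (.node (.leaf [1, 2, 4292, 8264, 4336, 8272, 12332, 4148, 132608, 199424, 50688, 19200, 88, 172, 101376, 181248, 98560, 180736]) (.leaf [1, 2, 4292, 8264, 8272, 12448, 4148, 8216, 199424, 68864, 36096, 50688, 88, 172, 101376, 181248, 180736, 213760]))) (.node (.node (.leaf [1, 2, 4292, 8264, 8272, 12448, 8216, 12332, 68864, 132608, 50688, 19200, 244, 88, 215040, 101376, 98560, 180736]) (.leaf [1, 2, 4292, 8264, 8272, 12448, 12332, 4148, 132608, 199424, 19200, 36096, 172, 244, 181248, 215040, 213760, 98560])) (.node (.leaf [1, 2, 4292, 8264, 12448, 4336, 4148, 8216, 199424, 68864, 50688, 19200, 172, 244, 181248, 215040, 98560, 180736]) (.leaf [1, 2, 4292, 8264, 12448, 4336, 8216, 12332, 68864, 132608, 19200, 36096, 88, 172, 101376, 181248, 213760, 98560])))) (.node (.node (.node (.leaf [1, 2, 4292, 8264, 12448, 4336, 12332, 4148, 132608, 199424, 36096, 50688, 244, 88, 215040, 101376, 180736, 213760]) (.leaf [1, 2, 4296, 8268, 4320, 8304, 4136, 8252, 132352, 199168, 34048, 51712, 232, 124, 164864, 247808, 164096, 246272])) (.node (.leaf [1, 2, 4296, 8268, 4320, 8304, 8252, 12308, 199168, 69376, 51712, 20224, 148, 232, 84992, 164864, 82688, 164096]) (.leaf [1, 2, 4296, 8268, 4320, 8304, 12308, 4136, 69376, 132352, 20224, 34048, 124, 148, 247808, 84992, 246272, 82688]))) (.node (.node (.leaf [1, 2, 4296, 8268, 8304, 12432, 4136, 8252, 132352, 199168, 51712, 20224, 124, 148, 247808, 84992, 82688, 164096]) (.leaf [1, 2, 4296, 8268, 8304, 12432, 8252, 12308, 199168, 69376, 20224, 34048, 232, 124, 164864, 247808, 246272, 82688])) (.node (.leaf [1, 2, 4296, 8268, 8304, 12432, 12308, 4136, 69376, 132352, 34048, 51712, 148, 232, 84992, 164864, 164096, 246272]) (.leaf [1, 2, 4296, 8268, 12432, 4320, 4136, 8252, 132352, 199168, 20224, 34048, 148, 232, 84992, 164864, 246272, 82688]))))) (.node (.node (.node (.node (.leaf [1, 2, 4296, 8268, 12432, 4320, 8252, 12308, 199168, 69376, 34048, 51712, 124, 148, 247808, 84992, 164096, 246272]) (.leaf [1, 2, 4296, 8268, 12432, 4320, 12308, 4136, 69376, 132352, 51712, 20224, 232, 124, 164864, 247808, 82688, 164096])) (.node (.leaf [1, 2, 4300, 8260, 4304, 8288, 4124, 8228, 69120, 132864, 52736, 18176, 220, 100, 117760, 148480, 115200, 148224]) (.leaf [1, 2, 4300, 8260, 4304, 8288, 8228, 12344, 132864, 198912, 18176, 35072, 184, 220, 231424, 117760, 229632, 115200]))) (.node (.node (.leaf [1, 2, 4300, 8260, 4304, 8288, 12344, 4124, 198912, 69120, 35072, 52736, 100, 184, 148480, 231424, 148224, 229632]) (.leaf [1, 2, 4300, 8260, 8288, 12464, 4124, 8228, 69120, 132864, 18176, 35072, 100, 184, 148480, 231424, 229632, 115200])) (.node (.leaf [1, 2, 4300, 8260, 8288, 12464, 8228, 12344, 132864, 198912, 35072, 52736, 220, 100, 117760, 148480, 148224, 229632]) (.leaf [1, 2, 4300, 8260, 8288, 12464, 12344, 4124, 198912, 69120, 52736, 18176, 184, 220, 231424, 117760, 115200, 148224])))) (.node (.node (.node (.leaf [1, 2, 4300, 8260, 12464, 4304, 4124, 8228, 69120, 132864, 35072, 52736, 184, 220, 231424, 117760, 148224, 229632]) (.leaf [1, 2, 4300, 8260, 12464, 4304, 8228, 12344, 132864, 198912, 52736, 18176, 100, 184, 148480, 231424, 115200, 148224])) (.node (.leaf [1, 2, 4300, 8260, 12464, 4304, 12344, 4124, 198912, 69120, 18176, 35072, 220, 100, 117760, 148480, 229632, 115200]) (.leaf [1, 2, 4304, 8288, 4300, 8260, 100, 184, 148224, 229632, 148480, 231424, 12344, 4124, 35072, 52736, 198912, 69120]))) (.node (.node (.leaf [1, 2, 4304, 8288, 4300, 8260, 184, 220, 229632, 115200, 231424, 117760, 8228, 12344, 18176, 35072, 132864, 198912]) (.leaf [1, 2, 4304, 8288, 4300, 8260, 220, 100, 115200, 148224, 117760, 148480, 4124, 8228, 52736, 18176, 69120, 132864])) (.node (.leaf [1, 2, 4304, 8288, 8260, 12424, 100, 184, 148224, 229632, 231424, 117760, 4124, 8228, 52736, 18176, 132864, 198912]) (.leaf [1, 2, 4304, 8288, 8260, 12424, 184, 220, 229632, 115200, 117760, 148480, 12344, 4124, 35072, 52736, 69120, 132864])))))) (.node (.node (.node (.node (.node (.leaf [1, 2, 4304, 8288, 8260, 12424, 220, 100, 115200, 148224, 148480, 231424, 8228, 12344, 18176, 35072, 198912, 69120]) (.leaf [1, 2, 4304, 8288, 12424, 4300, 100, 184, 148224, 229632, 117760, 148480, 8228, 12344, 18176, 35072, 69120, 132864])) (.node (.leaf [1, 2, 4304, 8288, 12424, 4300, 184, 220, 229632, 115200, 148480, 231424, 4124, 8228, 52736, 18176, 198912, 69120]) (.leaf [1, 2, 4304, 8288, 12424, 4300, 220, 100, 115200, 148224, 231424, 117760, 12344, 4124, 35072, 52736, 132864, 198912]))) (.node (.node (.leaf [1, 2, 4320, 8304, 4296, 8268, 124, 148, 246272, 82688, 247808, 84992, 12308, 4136, 20224, 34048, 69376, 132352]) (.leaf [1, 2, 4320, 8304, 4296, 8268, 148, 232, 82688, 164096, 84992, 164864, 8252, 12308, 51712, 20224, 199168, 69376])) (.node (.leaf [1, 2, 4320, 8304, 4296, 8268, 232, 124, 164096, 246272, 164864, 247808, 4136, 8252, 34048, 51712, 132352, 199168]) (.leaf [1, 2, 4320, 8304, 8268, 12420, 124, 148, 246272, 82688, 84992, 164864, 4136, 8252, 34048, 51712, 199168, 69376])))) (.node (.node (.node (.leaf [1, 2, 4320, 8304, 8268, 12420, 148, 232, 82688, 164096, 164864, 247808, 12308, 4136, 20224, 34048, 132352, 199168]) (.leaf [1, 2, 4320, 8304, 8268, 12420, 232, 124, 164096, 246272, 247808, 84992, 8252, 12308, 51712, 20224, 69376, 132352])) (.node (.leaf [1, 2, 4320, 8304, 12420, 4296, 124, 148, 246272, 82688, 164864, 247808, 8252, 12308, 51712, 20224, 132352, 199168]) (.leaf [1, 2, 4320, 8304, 12420, 4296, 148, 232, 82688, 164096, 247808, 84992, 4136, 8252, 34048, 51712, 69376, 132352]))) (.node (.node (.leaf [1, 2, 4320, 8304, 12420, 4296, 232, 124, 164096, 246272, 84992, 164864, 12308, 4136, 20224, 34048, 199168, 69376]) (.leaf [1, 2, 4336, 8272, 4292, 8264, 88, 172, 98560, 180736, 101376, 181248, 12332, 4148, 50688, 19200, 132608, 199424])) (.node (.leaf [1, 2, 4336, 8272, 4292, 8264, 172, 244, 180736, 213760, 181248, 215040, 8216, 12332, 36096, 50688, 68864, 132608]) (.leaf [1, 2, 4336, 8272, 4292, 8264, 244, 88, 213760, 98560, 215040, 101376, 4148, 8216, 19200, 36096, 199424, 68864]))))) (.node (.node (.node (.node (.leaf [1, 2, 4336, 8272, 8264, 12428, 88, 172, 98560, 180736, 181248, 215040, 4148, 8216, 19200, 36096, 68864, 132608]) (.leaf [1, 2, 4336, 8272, 8264, 12428, 172, 244, 180736, 213760, 215040, 101376, 12332, 4148, 50688, 19200, 199424, 68864])) (.node (.leaf [1, 2, 4336, 8272, 8264, 12428, 244, 88, 213760, 98560, 101376, 181248, 8216, 12332, 36096, 50688, 132608, 199424]) (.leaf [1, 2, 4336, 8272, 12428, 4292, 88, 172, 98560, 180736, 215040, 101376, 8216, 12332, 36096, 50688, 199424, 68864]))) (.node (.node (.leaf [1, 2, 4336, 8272, 12428, 4292, 172, 244, 180736, 213760, 101376, 181248, 4148, 8216, 19200, 36096, 132608, 199424]) (.leaf [1, 2, 4336, 8272, 12428, 4292, 244, 88, 213760, 98560, 181248, 215040, 12332, 4148, 50688, 19200, 68864, 132608])) (.node (.leaf [1, 2, 8192, 12288, 64, 128, 4, 8, 32768, 49152, 256, 512, 32, 48, 196608, 65536, 2048, 3072]) (.leaf [1, 2, 8192, 12288, 64, 128, 8, 12, 49152, 16384, 512, 768, 16, 32, 131072, 196608, 1024, 2048])))) (.node (.node (.node (.leaf [1, 2, 8192, 12288, 64, 128, 12, 4, 16384, 32768, 768, 256, 48, 16, 65536, 131072, 3072, 1024]) (.leaf [1, 2, 8192, 12288, 128, 192, 4, 8, 32768, 49152, 512, 768, 48, 16, 65536, 131072, 1024, 2048])) (.node (.leaf [1, 2, 8192, 12288, 128, 192, 8, 12, 49152, 16384, 768, 256, 32, 48, 196608, 65536, 3072, 1024]) (.leaf [1, 2, 8192, 12288, 128, 192, 12, 4, 16384, 32768, 256, 512, 16, 32, 131072, 196608, 2048, 3072]))) (.node (.node (.leaf [1, 2, 8192, 12288, 192, 64, 4, 8, 32768, 49152, 768, 256, 16, 32, 131072, 196608, 3072, 1024]) (.leaf [1, 2, 8192, 12288, 192, 64, 8, 12, 49152, 16384, 256, 512, 48, 16, 65536, 131072, 2048, 3072])) (.node (.leaf [1, 2, 8192, 12288, 192, 64, 12, 4, 16384, 32768, 512, 768, 32, 48, 196608, 65536, 1024, 2048]) (.leaf [1, 2, 8212, 12328, 104, 188, 4272, 8400, 18944, 36608, 164608, 246016, 4236, 8388, 68096, 134912, 166912, 246784])))))))) (.node (.node (.node (.node (.node (.node (.node (.leaf [1, 2, 8212, 12328, 104, 188, 8400, 12384, 36608, 50432, 246016, 82432, 12360, 4236, 197888, 68096, 83968, 166912]) (.leaf [1, 2, 8212, 12328, 104, 188, 12384, 4272, 50432, 18944, 82432, 164608, 8388, 12360, 134912, 197888, 246784, 83968])) (.node (.leaf [1, 2, 8212, 12328, 188, 212, 4272, 8400, 18944, 36608, 246016, 82432, 8388, 12360, 134912, 197888, 83968, 166912]) (.leaf [1, 2, 8212, 12328, 188, 212, 8400, 12384, 36608, 50432, 82432, 164608, 4236, 8388, 68096, 134912, 246784, 83968]))) (.node (.node (.leaf [1, 2, 8212, 12328, 188, 212, 12384, 4272, 50432, 18944, 164608, 246016, 12360, 4236, 197888, 68096, 166912, 246784]) (.leaf [1, 2, 8212, 12328, 212, 104, 4272, 8400, 18944, 36608, 82432, 164608, 12360, 4236, 197888, 68096, 246784, 83968])) (.node (.leaf [1, 2, 8212, 12328, 212, 104, 8400, 12384, 36608, 50432, 164608, 246016, 8388, 12360, 134912, 197888, 166912, 246784]) (.leaf [1, 2, 8212, 12328, 212, 104, 12384, 4272, 50432, 18944, 246016, 82432, 4236, 8388, 68096, 134912, 83968, 166912])))) (.node (.node (.node (.leaf [1, 2, 8216, 12332, 88, 172, 4336, 8272, 36096, 50688, 98560, 180736, 12428, 4292, 199424, 68864, 215040, 101376]) (.leaf [1, 2, 8216, 12332, 88, 172, 8272, 12448, 50688, 19200, 180736, 213760, 8264, 12428, 132608, 199424, 181248, 215040])) (.node (.leaf [1, 2, 8216, 12332, 88, 172, 12448, 4336, 19200, 36096, 213760, 98560, 4292, 8264, 68864, 132608, 101376, 181248]) (.leaf [1, 2, 8216, 12332, 172, 244, 4336, 8272, 36096, 50688, 180736, 213760, 4292, 8264, 68864, 132608, 181248, 215040]))) (.node (.node (.leaf [1, 2, 8216, 12332, 172, 244, 8272, 12448, 50688, 19200, 213760, 98560, 12428, 4292, 199424, 68864, 101376, 181248]) (.leaf [1, 2, 8216, 12332, 172, 244, 12448, 4336, 19200, 36096, 98560, 180736, 8264, 12428, 132608, 199424, 215040, 101376])) (.node (.leaf [1, 2, 8216, 12332, 244, 88, 4336, 8272, 36096, 50688, 213760, 98560, 8264, 12428, 132608, 199424, 101376, 181248]) (.leaf [1, 2, 8216, 12332, 244, 88, 8272, 12448, 50688, 19200, 98560, 180736, 4292, 8264, 68864, 132608, 215040, 101376]))))) (.node (.node (.node (.node (.leaf [1, 2, 8216, 12332, 244, 88, 12448, 4336, 19200, 36096, 180736, 213760, 12428, 4292, 199424, 68864, 181248, 215040]) (.leaf [1, 2, 8220, 12324, 120, 156, 4208, 8336, 50944, 18688, 229888, 115456, 8332, 12484, 133376, 200192, 115712, 149504])) (.node (.leaf [1, 2, 8220, 12324, 120, 156, 8336, 12512, 18688, 36352, 115456, 147712, 4168, 8332, 67328, 133376, 232448, 115712]) (.leaf [1, 2, 8220, 12324, 120, 156, 12512, 4208, 36352, 50944, 147712, 229888, 12484, 4168, 200192, 67328, 149504, 232448]))) (.node (.node (.leaf [1, 2, 8220, 12324, 156, 228, 4208, 8336, 50944, 18688, 115456, 147712, 12484, 4168, 200192, 67328, 232448, 115712]) (.leaf [1, 2, 8220, 12324, 156, 228, 8336, 12512, 18688, 36352, 147712, 229888, 8332, 12484, 133376, 200192, 149504, 232448])) (.node (.leaf [1, 2, 8220, 12324, 156, 228, 12512, 4208, 36352, 50944, 229888, 115456, 4168, 8332, 67328, 133376, 115712, 149504]) (.leaf [1, 2, 8220, 12324, 228, 120, 4208, 8336, 50944, 18688, 147712, 229888, 4168, 8332, 67328, 133376, 149504, 232448])))) (.node (.node (.node (.leaf [1, 2, 8220, 12324, 228, 120, 8336, 12512, 18688, 36352, 229888, 115456, 12484, 4168, 200192, 67328, 115712, 149504]) (.leaf [1, 2, 8220, 12324, 228, 120, 12512, 4208, 36352, 50944, 115456, 147712, 8332, 12484, 133376, 200192, 232448, 115712])) (.node (.leaf [1, 2, 8228, 12344, 100, 184, 4304, 8288, 18176, 35072, 148224, 229632, 12424, 4300, 69120, 132864, 117760, 148480]) (.leaf [1, 2, 8228, 12344, 100, 184, 8288, 12464, 35072, 52736, 229632, 115200, 8260, 12424, 198912, 69120, 231424, 117760]))) (.node (.node (.leaf [1, 2, 8228, 12344, 100, 184, 12464, 4304, 52736, 18176, 115200, 148224, 4300, 8260, 132864, 198912, 148480, 231424]) (.leaf [1, 2, 8228, 12344, 184, 220, 4304, 8288, 18176, 35072, 229632, 115200, 4300, 8260, 132864, 198912, 231424, 117760])) (.node (.leaf [1, 2, 8228, 12344, 184, 220, 8288, 12464, 35072, 52736, 115200, 148224, 12424, 4300, 69120, 132864, 148480, 231424]) (.leaf [1, 2, 8228, 12344, 184, 220, 12464, 4304, 52736, 18176, 148224, 229632, 8260, 12424, 198912, 69120, 117760, 148480])))))) (.node (.node (.node (.node (.node (.leaf [1, 2, 8228, 12344, 220, 100, 4304, 8288, 18176, 35072, 115200, 148224, 8260, 12424, 198912, 69120, 148480, 231424]) (.leaf [1, 2, 8228, 12344, 220, 100, 8288, 12464, 35072, 52736, 148224, 229632, 4300, 8260, 132864, 198912, 117760, 148480])) (.node (.leaf [1, 2, 8228, 12344, 220, 100, 12464, 4304, 52736, 18176, 229632, 115200, 12424, 4300, 69120, 132864, 231424, 117760]) (.leaf [1, 2, 8232, 12348, 84, 168, 4176, 8352, 35328, 52992, 82176, 164352, 8328, 12492, 200448, 66816, 165888, 248832]))) (.node (.node (.leaf [1, 2, 8232, 12348, 84, 168, 8352, 12528, 52992, 17664, 164352, 246528, 4164, 8328, 133632, 200448, 82944, 165888]) (.leaf [1, 2, 8232, 12348, 84, 168, 12528, 4176, 17664, 35328, 246528, 82176, 12492, 4164, 66816, 133632, 248832, 82944])) (.node (.leaf [1, 2, 8232, 12348, 168, 252, 4176, 8352, 35328, 52992, 164352, 246528, 12492, 4164, 66816, 133632, 82944, 165888]) (.leaf [1, 2, 8232, 12348, 168, 252, 8352, 12528, 52992, 17664, 246528, 82176, 8328, 12492, 200448, 66816, 248832, 82944])))) (.node (.node (.node (.leaf [1, 2, 8232, 12348, 168, 252, 12528, 4176, 17664, 35328, 82176, 164352, 4164, 8328, 133632, 200448, 165888, 248832]) (.leaf [1, 2, 8232, 12348, 252, 84, 4176, 8352, 35328, 52992, 246528, 82176, 4164, 8328, 133632, 200448, 248832, 82944])) (.node (.leaf [1, 2, 8232, 12348, 252, 84, 8352, 12528, 52992, 17664, 82176, 164352, 12492, 4164, 66816, 133632, 165888, 248832]) (.leaf [1, 2, 8232, 12348, 252, 84, 12528, 4176, 17664, 35328, 164352, 246528, 8328, 12492, 200448, 66816, 82944, 165888]))) (.node (.node (.leaf [1, 2, 8236, 12340, 116, 152, 4240, 8416, 52480, 17920, 213504, 99072, 4232, 8396, 134400, 198144, 214016, 100352]) (.leaf [1, 2, 8236, 12340, 116, 152, 8416, 12400, 17920, 35584, 99072, 180480, 12356, 4232, 68352, 134400, 183296, 214016])) (.node (.leaf [1, 2, 8236, 12340, 116, 152, 12400, 4240, 35584, 52480, 180480, 213504, 8396, 12356, 198144, 68352, 100352, 183296]) (.leaf [1, 2, 8236, 12340, 152, 236, 4240, 8416, 52480, 17920, 99072, 180480, 8396, 12356, 198144, 68352, 183296, 214016]))))) (.node (.node (.node (.node (.leaf [1, 2, 8236, 12340, 152, 236, 8416, 12400, 17920, 35584, 180480, 213504, 4232, 8396, 134400, 198144, 100352, 183296]) (.leaf [1, 2, 8236, 12340, 152, 236, 12400, 4240, 35584, 52480, 213504, 99072, 12356, 4232, 68352, 134400, 214016, 100352])) (.node (.leaf [1, 2, 8236, 12340, 236, 116, 4240, 8416, 52480, 17920, 180480, 213504, 12356, 4232, 68352, 134400, 100352, 183296]) (.leaf [1, 2, 8236, 12340, 236, 116, 8416, 12400, 17920, 35584, 213504, 99072, 8396, 12356, 198144, 68352, 214016, 100352]))) (.node (.node (.leaf [1, 2, 8236, 12340, 236, 116, 12400, 4240, 35584, 52480, 99072, 180480, 4232, 8396, 134400, 198144, 183296, 214016]) (.leaf [1, 2, 8244, 12312, 108, 180, 4192, 8368, 19712, 34304, 180992, 213248, 8324, 12488, 67072, 133888, 216064, 99328])) (.node (.leaf [1, 2, 8244, 12312, 108, 180, 8368, 12496, 34304, 51968, 213248, 98816, 4172, 8324, 199936, 67072, 182272, 216064]) (.leaf [1, 2, 8244, 12312, 108, 180, 12496, 4192, 51968, 19712, 98816, 180992, 12488, 4172, 133888, 199936, 99328, 182272])))) (.node (.node (.node (.leaf [1, 2, 8244, 12312, 180, 216, 4192, 8368, 19712, 34304, 213248, 98816, 12488, 4172, 133888, 199936, 182272, 216064]) (.leaf [1, 2, 8244, 12312, 180, 216, 8368, 12496, 34304, 51968, 98816, 180992, 8324, 12488, 67072, 133888, 99328, 182272])) (.node (.leaf [1, 2, 8244, 12312, 180, 216, 12496, 4192, 51968, 19712, 180992, 213248, 4172, 8324, 199936, 67072, 216064, 99328]) (.leaf [1, 2, 8244, 12312, 216, 108, 4192, 8368, 19712, 34304, 98816, 180992, 4172, 8324, 199936, 67072, 99328, 182272]))) (.node (.node (.leaf [1, 2, 8244, 12312, 216, 108, 8368, 12496, 34304, 51968, 180992, 213248, 12488, 4172, 133888, 199936, 216064, 99328]) (.leaf [1, 2, 8244, 12312, 216, 108, 12496, 4192, 51968, 19712, 213248, 98816, 8324, 12488, 67072, 133888, 182272, 216064])) (.node (.leaf [1, 2, 8248, 12316, 92, 164, 4256, 8432, 34560, 51456, 114944, 147968, 4228, 8392, 198400, 67840, 116736, 150528]) (.leaf [1, 2, 8248, 12316, 92, 164, 8432, 12368, 51456, 19968, 147968, 230144, 12364, 4228, 134656, 198400, 230400, 116736]))))))) (.node (.node (.node (.node (.node (.node (.leaf [1, 2, 8248, 12316, 92, 164, 12368, 4256, 19968, 34560, 230144, 114944, 8392, 12364, 67840, 134656, 150528, 230400]) (.leaf [1, 2, 8248, 12316, 164, 248, 4256, 8432, 34560, 51456, 147968, 230144, 8392, 12364, 67840, 134656, 230400, 116736])) (.node (.leaf [1, 2, 8248, 12316, 164, 248, 8432, 12368, 51456, 19968, 230144, 114944, 4228, 8392, 198400, 67840, 150528, 230400]) (.leaf [1, 2, 8248, 12316, 164, 248, 12368, 4256, 19968, 34560, 114944, 147968, 12364, 4228, 134656, 198400, 116736, 150528]))) (.node (.node (.leaf [1, 2, 8248, 12316, 248, 92, 4256, 8432, 34560, 51456, 230144, 114944, 12364, 4228, 134656, 198400, 150528, 230400]) (.leaf [1, 2, 8248, 12316, 248, 92, 8432, 12368, 51456, 19968, 114944, 147968, 8392, 12364, 67840, 134656, 116736, 150528])) (.node (.leaf [1, 2, 8248, 12316, 248, 92, 12368, 4256, 19968, 34560, 147968, 230144, 4228, 8392, 198400, 67840, 230400, 116736]) (.leaf [1, 2, 8252, 12308, 124, 148, 4320, 8304, 51712, 20224, 246272, 82688, 12420, 4296, 132352, 199168, 164864, 247808])))) (.node (.node (.node (.leaf [1, 2, 8252, 12308, 124, 148, 8304, 12432, 20224, 34048, 82688, 164096, 8268, 12420, 69376, 132352, 84992, 164864]) (.leaf [1, 2, 8252, 12308, 124, 148, 12432, 4320, 34048, 51712, 164096, 246272, 4296, 8268, 199168, 69376, 247808, 84992])) (.node (.leaf [1, 2, 8252, 12308, 148, 232, 4320, 8304, 51712, 20224, 82688, 164096, 4296, 8268, 199168, 69376, 84992, 164864]) (.leaf [1, 2, 8252, 12308, 148, 232, 8304, 12432, 20224, 34048, 164096, 246272, 12420, 4296, 132352, 199168, 247808, 84992]))) (.node (.node (.leaf [1, 2, 8252, 12308, 148, 232, 12432, 4320, 34048, 51712, 246272, 82688, 8268, 12420, 69376, 132352, 164864, 247808]) (.leaf [1, 2, 8252, 12308, 232, 124, 4320, 8304, 51712, 20224, 164096, 246272, 8268, 12420, 69376, 132352, 247808, 84992])) (.node (.leaf [1, 2, 8252, 12308, 232, 124, 8304, 12432, 20224, 34048, 246272, 82688, 4296, 8268, 199168, 69376, 164864, 247808]) (.leaf [1, 2, 8252, 12308, 232, 124, 12432, 4320, 34048, 51712, 82688, 164096, 12420, 4296, 132352, 199168, 84992, 164864]))))) (.node (.node (.node (.node (.leaf [1, 2, 8260, 12424, 4304, 8288, 4124, 8228, 132864, 198912, 52736, 18176, 100, 184, 231424, 117760, 148224, 229632]) (.leaf [1, 2, 8260, 12424, 4304, 8288, 8228, 12344, 198912, 69120, 18176, 35072, 220, 100, 148480, 231424, 115200, 148224])) (.node (.leaf [1, 2, 8260, 12424, 4304, 8288, 12344, 4124, 69120, 132864, 35072, 52736, 184, 220, 117760, 148480, 229632, 115200]) (.leaf [1, 2, 8260, 12424, 8288, 12464, 4124, 8228, 132864, 198912, 18176, 35072, 184, 220, 117760, 148480, 115200, 148224]))) (.node (.node (.leaf [1, 2, 8260, 12424, 8288, 12464, 8228, 12344, 198912, 69120, 35072, 52736, 100, 184, 231424, 117760, 229632, 115200]) (.leaf [1, 2, 8260, 12424, 8288, 12464, 12344, 4124, 69120, 132864, 52736, 18176, 220, 100, 148480, 231424, 148224, 229632])) (.node (.leaf [1, 2, 8260, 12424, 12464, 4304, 4124, 8228, 132864, 198912, 35072, 52736, 220, 100, 148480, 231424, 229632, 115200]) (.leaf [1, 2, 8260, 12424, 12464, 4304, 8228, 12344, 198912, 69120, 52736, 18176, 184, 220, 117760, 148480, 148224, 229632])))) (.node (.node (.node (.leaf [1, 2, 8260, 12424, 12464, 4304, 12344, 4124, 69120, 132864, 18176, 35072, 100, 184, 231424, 117760, 115200, 148224]) (.leaf [1, 2, 8264, 12428, 4336, 8272, 4148, 8216, 68864, 132608, 19200, 36096, 88, 172, 181248, 215040, 98560, 180736])) (.node (.leaf [1, 2, 8264, 12428, 4336, 8272, 8216, 12332, 132608, 199424, 36096, 50688, 244, 88, 101376, 181248, 213760, 98560]) (.leaf [1, 2, 8264, 12428, 4336, 8272, 12332, 4148, 199424, 68864, 50688, 19200, 172, 244, 215040, 101376, 180736, 213760]))) (.node (.node (.leaf [1, 2, 8264, 12428, 8272, 12448, 4148, 8216, 68864, 132608, 36096, 50688, 172, 244, 215040, 101376, 213760, 98560]) (.leaf [1, 2, 8264, 12428, 8272, 12448, 8216, 12332, 132608, 199424, 50688, 19200, 88, 172, 181248, 215040, 180736, 213760])) (.node (.leaf [1, 2, 8264, 12428, 8272, 12448, 12332, 4148, 199424, 68864, 19200, 36096, 244, 88, 101376, 181248, 98560, 180736]) (.leaf [1, 2, 8264, 12428, 12448, 4336, 4148, 8216, 68864, 132608, 50688, 19200, 244, 88, 101376, 181248, 180736, 213760])))))) (.node (.node (.node (.node (.node (.leaf [1, 2, 8264, 12428, 12448, 4336, 8216, 12332, 132608, 199424, 19200, 36096, 172, 244, 215040, 101376, 98560, 180736]) (.leaf [1, 2, 8264, 12428, 12448, 4336, 12332, 4148, 199424, 68864, 36096, 50688, 88, 172, 181248, 215040, 213760, 98560])) (.node (.leaf [1, 2, 8268, 12420, 4320, 8304, 4136, 8252, 199168, 69376, 34048, 51712, 124, 148, 84992, 164864, 246272, 82688]) (.leaf [1, 2, 8268, 12420, 4320, 8304, 8252, 12308, 69376, 132352, 51712, 20224, 232, 124, 247808, 84992, 164096, 246272]))) (.node (.node (.leaf [1, 2, 8268, 12420, 4320, 8304, 12308, 4136, 132352, 199168, 20224, 34048, 148, 232, 164864, 247808, 82688, 164096]) (.leaf [1, 2, 8268, 12420, 8304, 12432, 4136, 8252, 199168, 69376, 51712, 20224, 148, 232, 164864, 247808, 164096, 246272])) (.node (.leaf [1, 2, 8268, 12420, 8304, 12432, 8252, 12308, 69376, 132352, 20224, 34048, 124, 148, 84992, 164864, 82688, 164096]) (.leaf [1, 2, 8268, 12420, 8304, 12432, 12308, 4136, 132352, 199168, 34048, 51712, 232, 124, 247808, 84992, 246272, 82688])))) (.node (.node (.node (.leaf [1, 2, 8268, 12420, 12432, 4320, 4136, 8252, 199168, 69376, 20224, 34048, 232, 124, 247808, 84992, 82688, 164096]) (.leaf [1, 2, 8268, 12420, 12432, 4320, 8252, 12308, 69376, 132352, 34048, 51712, 148, 232, 164864, 247808, 246272, 82688])) (.node (.leaf [1, 2, 8268, 12420, 12432, 4320, 12308, 4136, 132352, 199168, 51712, 20224, 124, 148, 84992, 164864, 164096, 246272]) (.leaf [1, 2, 8272, 12448, 4292, 8264, 88, 172, 180736, 213760, 101376, 181248, 4148, 8216, 36096, 50688, 199424, 68864]))) (.node (.node (.leaf [1, 2, 8272, 12448, 4292, 8264, 172, 244, 213760, 98560, 181248, 215040, 12332, 4148, 19200, 36096, 132608, 199424]) (.leaf [1, 2, 8272, 12448, 4292, 8264, 244, 88, 98560, 180736, 215040, 101376, 8216, 12332, 50688, 19200, 68864, 132608])) (.node (.leaf [1, 2, 8272, 12448, 8264, 12428, 88, 172, 180736, 213760, 181248, 215040, 8216, 12332, 50688, 19200, 132608, 199424]) (.leaf [1, 2, 8272, 12448, 8264, 12428, 172, 244, 213760, 98560, 215040, 101376, 4148, 8216, 36096, 50688, 68864, 132608]))))) (.node (.node (.node (.node (.leaf [1, 2, 8272, 12448, 8264, 12428, 244, 88, 98560, 180736, 101376, 181248, 12332, 4148, 19200, 36096, 199424, 68864]) (.leaf [1, 2, 8272, 12448, 12428, 4292, 88, 172, 180736, 213760, 215040, 101376, 12332, 4148, 19200, 36096, 68864, 132608])) (.node (.leaf [1, 2, 8272, 12448, 12428, 4292, 172, 244, 213760, 98560, 101376, 181248, 8216, 12332, 50688, 19200, 199424, 68864]) (.leaf [1, 2, 8272, 12448, 12428, 4292, 244, 88, 98560, 180736, 181248, 215040, 4148, 8216, 36096, 50688, 132608, 199424]))) (.node (.node (.leaf [1, 2, 8288, 12464, 4300, 8260, 100, 184, 229632, 115200, 148480, 231424, 4124, 8228, 18176, 35072, 69120, 132864]) (.leaf [1, 2, 8288, 12464, 4300, 8260, 184, 220, 115200, 148224, 231424, 117760, 12344, 4124, 52736, 18176, 198912, 69120])) (.node (.leaf [1, 2, 8288, 12464, 4300, 8260, 220, 100, 148224, 229632, 117760, 148480, 8228, 12344, 35072, 52736, 132864, 198912]) (.leaf [1, 2, 8288, 12464, 8260, 12424, 100, 184, 229632, 115200, 231424, 117760, 8228, 12344, 35072, 52736, 198912, 69120])))) (.node (.node (.node (.leaf [1, 2, 8288, 12464, 8260, 12424, 184, 220, 115200, 148224, 117760, 148480, 4124, 8228, 18176, 35072, 132864, 198912]) (.leaf [1, 2, 8288, 12464, 8260, 12424, 220, 100, 148224, 229632, 148480, 231424, 12344, 4124, 52736, 18176, 69120, 132864])) (.node (.leaf [1, 2, 8288, 12464, 12424, 4300, 100, 184, 229632, 115200, 117760, 148480, 12344, 4124, 52736, 18176, 132864, 198912]) (.leaf [1, 2, 8288, 12464, 12424, 4300, 184, 220, 115200, 148224, 148480, 231424, 8228, 12344, 35072, 52736, 69120, 132864]))) (.node (.node (.leaf [1, 2, 8288, 12464, 12424, 4300, 220, 100, 148224, 229632, 231424, 117760, 4124, 8228, 18176, 35072, 198912, 69120]) (.leaf [1, 2, 8304, 12432, 4296, 8268, 124, 148, 82688, 164096, 247808, 84992, 4136, 8252, 51712, 20224, 132352, 199168])) (.node (.leaf [1, 2, 8304, 12432, 4296, 8268, 148, 232, 164096, 246272, 84992, 164864, 12308, 4136, 34048, 51712, 69376, 132352]) (.leaf [1, 2, 8304, 12432, 4296, 8268, 232, 124, 246272, 82688, 164864, 247808, 8252, 12308, 20224, 34048, 199168, 69376]))))))))) (.node (.node (.node (.node (.node (.node (.node (.node (.leaf [1, 2, 8304, 12432, 8268, 12420, 124, 148, 82688, 164096, 84992, 164864, 8252, 12308, 20224, 34048, 69376, 132352]) (.leaf [1, 2, 8304, 12432, 8268, 12420, 148, 232, 164096, 246272, 164864, 247808, 4136, 8252, 51712, 20224, 199168, 69376])) (.node (.leaf [1, 2, 8304, 12432, 8268, 12420, 232, 124, 246272, 82688, 247808, 84992, 12308, 4136, 34048, 51712, 132352, 199168]) (.leaf [1, 2, 8304, 12432, 12420, 4296, 124, 148, 82688, 164096, 164864, 247808, 12308, 4136, 34048, 51712, 199168, 69376]))) (.node (.node (.leaf [1, 2, 8304, 12432, 12420, 4296, 148, 232, 164096, 246272, 247808, 84992, 8252, 12308, 20224, 34048, 132352, 199168]) (.leaf [1, 2, 8304, 12432, 12420, 4296, 232, 124, 246272, 82688, 84992, 164864, 4136, 8252, 51712, 20224, 69376, 132352])) (.node (.leaf [1, 2, 8324, 12488, 4192, 8368, 4140, 8244, 199936, 67072, 51968, 19712, 180, 216, 99328, 182272, 213248, 98816]) (.leaf [1, 2, 8324, 12488, 4192, 8368, 8244, 12312, 67072, 133888, 19712, 34304, 108, 180, 216064, 99328, 180992, 213248])))) (.node (.node (.node (.leaf [1, 2, 8324, 12488, 4192, 8368, 12312, 4140, 133888, 199936, 34304, 51968, 216, 108, 182272, 216064, 98816, 180992]) (.leaf [1, 2, 8324, 12488, 8368, 12496, 4140, 8244, 199936, 67072, 19712, 34304, 216, 108, 182272, 216064, 180992, 213248])) (.node (.leaf [1, 2, 8324, 12488, 8368, 12496, 8244, 12312, 67072, 133888, 34304, 51968, 180, 216, 99328, 182272, 98816, 180992]) (.leaf [1, 2, 8324, 12488, 8368, 12496, 12312, 4140, 133888, 199936, 51968, 19712, 108, 180, 216064, 99328, 213248, 98816]))) (.node (.node (.leaf [1, 2, 8324, 12488, 12496, 4192, 4140, 8244, 199936, 67072, 34304, 51968, 108, 180, 216064, 99328, 98816, 180992]) (.leaf [1, 2, 8324, 12488, 12496, 4192, 8244, 12312, 67072, 133888, 51968, 19712, 216, 108, 182272, 216064, 213248, 98816])) (.node (.leaf [1, 2, 8324, 12488, 12496, 4192, 12312, 4140, 133888, 199936, 19712, 34304, 180, 216, 99328, 182272, 180992, 213248]) (.leaf [1, 2, 8328, 12492, 4176, 8352, 4116, 8232, 133632, 200448, 17664, 35328, 168, 252, 248832, 82944, 164352, 246528]))))) (.node (.node (.node (.node (.leaf [1, 2, 8328, 12492, 4176, 8352, 8232, 12348, 200448, 66816, 35328, 52992, 84, 168, 165888, 248832, 82176, 164352]) (.leaf [1, 2, 8328, 12492, 4176, 8352, 12348, 4116, 66816, 133632, 52992, 17664, 252, 84, 82944, 165888, 246528, 82176])) (.node (.leaf [1, 2, 8328, 12492, 8352, 12528, 4116, 8232, 133632, 200448, 35328, 52992, 252, 84, 82944, 165888, 82176, 164352]) (.leaf [1, 2, 8328, 12492, 8352, 12528, 8232, 12348, 200448, 66816, 52992, 17664, 168, 252, 248832, 82944, 246528, 82176]))) (.node (.node (.leaf [1, 2, 8328, 12492, 8352, 12528, 12348, 4116, 66816, 133632, 17664, 35328, 84, 168, 165888, 248832, 164352, 246528]) (.leaf [1, 2, 8328, 12492, 12528, 4176, 4116, 8232, 133632, 200448, 52992, 17664, 84, 168, 165888, 248832, 246528, 82176])) (.node (.leaf [1, 2, 8328, 12492, 12528, 4176, 8232, 12348, 200448, 66816, 17664, 35328, 252, 84, 82944, 165888, 164352, 246528]) (.leaf [1, 2, 8328, 12492, 12528, 4176, 12348, 4116, 66816, 133632, 35328, 52992, 168, 252, 248832, 82944, 82176, 164352])))) (.node (.node (.node (.leaf [1, 2, 8332, 12484, 4208, 8336, 4152, 8220, 67328, 133376, 36352, 50944, 156, 228, 149504, 232448, 115456, 147712]) (.leaf [1, 2, 8332, 12484, 4208, 8336, 8220, 12324, 133376, 200192, 50944, 18688, 120, 156, 115712, 149504, 229888, 115456])) (.node (.leaf [1, 2, 8332, 12484, 4208, 8336, 12324, 4152, 200192, 67328, 18688, 36352, 228, 120, 232448, 115712, 147712, 229888]) (.leaf [1, 2, 8332, 12484, 8336, 12512, 4152, 8220, 67328, 133376, 50944, 18688, 228, 120, 232448, 115712, 229888, 115456]))) (.node (.node (.leaf [1, 2, 8332, 12484, 8336, 12512, 8220, 12324, 133376, 200192, 18688, 36352, 156, 228, 149504, 232448, 147712, 229888]) (.leaf [1, 2, 8332, 12484, 8336, 12512, 12324, 4152, 200192, 67328, 36352, 50944, 120, 156, 115712, 149504, 115456, 147712])) (.node (.leaf [1, 2, 8332, 12484, 12512, 4208, 4152, 8220, 67328, 133376, 18688, 36352, 120, 156, 115712, 149504, 147712, 229888]) (.leaf [1, 2, 8332, 12484, 12512, 4208, 8220, 12324, 133376, 200192, 36352, 50944, 228, 120, 232448, 115712, 115456, 147712])))))) (.node (.node (.node (.node (.node (.leaf [1, 2, 8332, 12484, 12512, 4208, 12324, 4152, 200192, 67328, 50944, 18688, 156, 228, 149504, 232448, 229888, 115456]) (.leaf [1, 2, 8336, 12512, 4168, 8332, 120, 156, 115456, 147712, 232448, 115712, 8220, 12324, 18688, 36352, 67328, 133376])) (.node (.leaf [1, 2, 8336, 12512, 4168, 8332, 156, 228, 147712, 229888, 115712, 149504, 4152, 8220, 50944, 18688, 200192, 67328]) (.leaf [1, 2, 8336, 12512, 4168, 8332, 228, 120, 229888, 115456, 149504, 232448, 12324, 4152, 36352, 50944, 133376, 200192]))) (.node (.node (.leaf [1, 2, 8336, 12512, 8332, 12484, 120, 156, 115456, 147712, 115712, 149504, 12324, 4152, 36352, 50944, 200192, 67328]) (.leaf [1, 2, 8336, 12512, 8332, 12484, 156, 228, 147712, 229888, 149504, 232448, 8220, 12324, 18688, 36352, 133376, 200192])) (.node (.leaf [1, 2, 8336, 12512, 8332, 12484, 228, 120, 229888, 115456, 232448, 115712, 4152, 8220, 50944, 18688, 67328, 133376]) (.leaf [1, 2, 8336, 12512, 12484, 4168, 120, 156, 115456, 147712, 149504, 232448, 4152, 8220, 50944, 18688, 133376, 200192])))) (.node (.node (.node (.leaf [1, 2, 8336, 12512, 12484, 4168, 156, 228, 147712, 229888, 232448, 115712, 12324, 4152, 36352, 50944, 67328, 133376]) (.leaf [1, 2, 8336, 12512, 12484, 4168, 228, 120, 229888, 115456, 115712, 149504, 8220, 12324, 18688, 36352, 200192, 67328])) (.node (.leaf [1, 2, 8352, 12528, 4164, 8328, 84, 168, 164352, 246528, 82944, 165888, 8232, 12348, 52992, 17664, 133632, 200448]) (.leaf [1, 2, 8352, 12528, 4164, 8328, 168, 252, 246528, 82176, 165888, 248832, 4116, 8232, 35328, 52992, 66816, 133632]))) (.node (.node (.leaf [1, 2, 8352, 12528, 4164, 8328, 252, 84, 82176, 164352, 248832, 82944, 12348, 4116, 17664, 35328, 200448, 66816]) (.leaf [1, 2, 8352, 12528, 8328, 12492, 84, 168, 164352, 246528, 165888, 248832, 12348, 4116, 17664, 35328, 66816, 133632])) (.node (.leaf [1, 2, 8352, 12528, 8328, 12492, 168, 252, 246528, 82176, 248832, 82944, 8232, 12348, 52992, 17664, 200448, 66816]) (.leaf [1, 2, 8352, 12528, 8328, 12492, 252, 84, 82176, 164352, 82944, 165888, 4116, 8232, 35328, 52992, 133632, 200448]))))) (.node (.node (.node (.node (.leaf [1, 2, 8352, 12528, 12492, 4164, 84, 168, 164352, 246528, 248832, 82944, 4116, 8232, 35328, 52992, 200448, 66816]) (.leaf [1, 2, 8352, 12528, 12492, 4164, 168, 252, 246528, 82176, 82944, 165888, 12348, 4116, 17664, 35328, 133632, 200448])) (.node (.leaf [1, 2, 8352, 12528, 12492, 4164, 252, 84, 82176, 164352, 165888, 248832, 8232, 12348, 52992, 17664, 66816, 133632]) (.leaf [1, 2, 8368, 12496, 4172, 8324, 108, 180, 213248, 98816, 182272, 216064, 8244, 12312, 34304, 51968, 199936, 67072]))) (.node (.node (.leaf [1, 2, 8368, 12496, 4172, 8324, 180, 216, 98816, 180992, 216064, 99328, 4140, 8244, 19712, 34304, 133888, 199936]) (.leaf [1, 2, 8368, 12496, 4172, 8324, 216, 108, 180992, 213248, 99328, 182272, 12312, 4140, 51968, 19712, 67072, 133888])) (.node (.leaf [1, 2, 8368, 12496, 8324, 12488, 108, 180, 213248, 98816, 216064, 99328, 12312, 4140, 51968, 19712, 133888, 199936]) (.leaf [1, 2, 8368, 12496, 8324, 12488, 180, 216, 98816, 180992, 99328, 182272, 8244, 12312, 34304, 51968, 67072, 133888])))) (.node (.node (.node (.leaf [1, 2, 8368, 12496, 8324, 12488, 216, 108, 180992, 213248, 182272, 216064, 4140, 8244, 19712, 34304, 199936, 67072]) (.leaf [1, 2, 8368, 12496, 12488, 4172, 108, 180, 213248, 98816, 99328, 182272, 4140, 8244, 19712, 34304, 67072, 133888])) (.node (.leaf [1, 2, 8368, 12496, 12488, 4172, 180, 216, 98816, 180992, 182272, 216064, 12312, 4140, 51968, 19712, 199936, 67072]) (.leaf [1, 2, 8368, 12496, 12488, 4172, 216, 108, 180992, 213248, 216064, 99328, 8244, 12312, 34304, 51968, 133888, 199936]))) (.node (.node (.leaf [1, 2, 8388, 12360, 4272, 8400, 4156, 8212, 68096, 134912, 50432, 18944, 212, 104, 166912, 246784, 82432, 164608]) (.leaf [1, 2, 8388, 12360, 4272, 8400, 8212, 12328, 134912, 197888, 18944, 36608, 188, 212, 83968, 166912, 246016, 82432])) (.node (.leaf [1, 2, 8388, 12360, 4272, 8400, 12328, 4156, 197888, 68096, 36608, 50432, 104, 188, 246784, 83968, 164608, 246016]) (.leaf [1, 2, 8388, 12360, 8400, 12384, 4156, 8212, 68096, 134912, 18944, 36608, 104, 188, 246784, 83968, 246016, 82432]))))))) (.node (.node (.node (.node (.node (.node (.leaf [1, 2, 8388, 12360, 8400, 12384, 8212, 12328, 134912, 197888, 36608, 50432, 212, 104, 166912, 246784, 164608, 246016]) (.leaf [1, 2, 8388, 12360, 8400, 12384, 12328, 4156, 197888, 68096, 50432, 18944, 188, 212, 83968, 166912, 82432, 164608])) (.node (.leaf [1, 2, 8388, 12360, 12384, 4272, 4156, 8212, 68096, 134912, 36608, 50432, 188, 212, 83968, 166912, 164608, 246016]) (.leaf [1, 2, 8388, 12360, 12384, 4272, 8212, 12328, 134912, 197888, 50432, 18944, 104, 188, 246784, 83968, 82432, 164608]))) (.node (.node (.leaf [1, 2, 8388, 12360, 12384, 4272, 12328, 4156, 197888, 68096, 18944, 36608, 212, 104, 166912, 246784, 246016, 82432]) (.leaf [1, 2, 8392, 12364, 4256, 8432, 4132, 8248, 198400, 67840, 19968, 34560, 248, 92, 116736, 150528, 230144, 114944])) (.node (.leaf [1, 2, 8392, 12364, 4256, 8432, 8248, 12316, 67840, 134656, 34560, 51456, 164, 248, 230400, 116736, 147968, 230144]) (.leaf [1, 2, 8392, 12364, 4256, 8432, 12316, 4132, 134656, 198400, 51456, 19968, 92, 164, 150528, 230400, 114944, 147968])))) (.node (.node (.node (.leaf [1, 2, 8392, 12364, 8432, 12368, 4132, 8248, 198400, 67840, 34560, 51456, 92, 164, 150528, 230400, 147968, 230144]) (.leaf [1, 2, 8392, 12364, 8432, 12368, 8248, 12316, 67840, 134656, 51456, 19968, 248, 92, 116736, 150528, 114944, 147968])) (.node (.leaf [1, 2, 8392, 12364, 8432, 12368, 12316, 4132, 134656, 198400, 19968, 34560, 164, 248, 230400, 116736, 230144, 114944]) (.leaf [1, 2, 8392, 12364, 12368, 4256, 4132, 8248, 198400, 67840, 51456, 19968, 164, 248, 230400, 116736, 114944, 147968]))) (.node (.node (.leaf [1, 2, 8392, 12364, 12368, 4256, 8248, 12316, 67840, 134656, 19968, 34560, 92, 164, 150528, 230400, 230144, 114944]) (.leaf [1, 2, 8392, 12364, 12368, 4256, 12316, 4132, 134656, 198400, 34560, 51456, 248, 92, 116736, 150528, 147968, 230144])) (.node (.leaf [1, 2, 8396, 12356, 4240, 8416, 4120, 8236, 134400, 198144, 35584, 52480, 236, 116, 214016, 100352, 180480, 213504]) (.leaf [1, 2, 8396, 12356, 4240, 8416, 8236, 12340, 198144, 68352, 52480, 17920, 152, 236, 183296, 214016, 99072, 180480]))))) (.node (.node (.node (.node (.leaf [1, 2, 8396, 12356, 4240, 8416, 12340, 4120, 68352, 134400, 17920, 35584, 116, 152, 100352, 183296, 213504, 99072]) (.leaf [1, 2, 8396, 12356, 8416, 12400, 4120, 8236, 134400, 198144, 52480, 17920, 116, 152, 100352, 183296, 99072, 180480])) (.node (.leaf [1, 2, 8396, 12356, 8416, 12400, 8236, 12340, 198144, 68352, 17920, 35584, 236, 116, 214016, 100352, 213504, 99072]) (.leaf [1, 2, 8396, 12356, 8416, 12400, 12340, 4120, 68352, 134400, 35584, 52480, 152, 236, 183296, 214016, 180480, 213504]))) (.node (.node (.leaf [1, 2, 8396, 12356, 12400, 4240, 4120, 8236, 134400, 198144, 17920, 35584, 152, 236, 183296, 214016, 213504, 99072]) (.leaf [1, 2, 8396, 12356, 12400, 4240, 8236, 12340, 198144, 68352, 35584, 52480, 116, 152, 100352, 183296, 180480, 213504])) (.node (.leaf [1, 2, 8396, 12356, 12400, 4240, 12340, 4120, 68352, 134400, 52480, 17920, 236, 116, 214016, 100352, 99072, 180480]) (.leaf [1, 2, 8400, 12384, 4236, 8388, 104, 188, 246016, 82432, 166912, 246784, 12328, 4156, 50432, 18944, 134912, 197888])))) (.node (.node (.node (.leaf [1, 2, 8400, 12384, 4236, 8388, 188, 212, 82432, 164608, 246784, 83968, 8212, 12328, 36608, 50432, 68096, 134912]) (.leaf [1, 2, 8400, 12384, 4236, 8388, 212, 104, 164608, 246016, 83968, 166912, 4156, 8212, 18944, 36608, 197888, 68096])) (.node (.leaf [1, 2, 8400, 12384, 8388, 12360, 104, 188, 246016, 82432, 246784, 83968, 4156, 8212, 18944, 36608, 68096, 134912]) (.leaf [1, 2, 8400, 12384, 8388, 12360, 188, 212, 82432, 164608, 83968, 166912, 12328, 4156, 50432, 18944, 197888, 68096]))) (.node (.node (.leaf [1, 2, 8400, 12384, 8388, 12360, 212, 104, 164608, 246016, 166912, 246784, 8212, 12328, 36608, 50432, 134912, 197888]) (.leaf [1, 2, 8400, 12384, 12360, 4236, 104, 188, 246016, 82432, 83968, 166912, 8212, 12328, 36608, 50432, 197888, 68096])) (.node (.leaf [1, 2, 8400, 12384, 12360, 4236, 188, 212, 82432, 164608, 166912, 246784, 4156, 8212, 18944, 36608, 134912, 197888]) (.leaf [1, 2, 8400, 12384, 12360, 4236, 212, 104, 164608, 246016, 246784, 83968, 12328, 4156, 50432, 18944, 68096, 134912])))))) (.node (.node (.node (.node (.node (.leaf [1, 2, 8416, 12400, 4232, 8396, 116, 152, 99072, 180480, 214016, 100352, 12340, 4120, 35584, 52480, 198144, 68352]) (.leaf [1, 2, 8416, 12400, 4232, 8396, 152, 236, 180480, 213504, 100352, 183296, 8236, 12340, 17920, 35584, 134400, 198144])) (.node (.leaf [1, 2, 8416, 12400, 4232, 8396, 236, 116, 213504, 99072, 183296, 214016, 4120, 8236, 52480, 17920, 68352, 134400]) (.leaf [1, 2, 8416, 12400, 8396, 12356, 116, 152, 99072, 180480, 100352, 183296, 4120, 8236, 52480, 17920, 134400, 198144]))) (.node (.node (.leaf [1, 2, 8416, 12400, 8396, 12356, 152, 236, 180480, 213504, 183296, 214016, 12340, 4120, 35584, 52480, 68352, 134400]) (.leaf [1, 2, 8416, 12400, 8396, 12356, 236, 116, 213504, 99072, 214016, 100352, 8236, 12340, 17920, 35584, 198144, 68352])) (.node (.leaf [1, 2, 8416, 12400, 12356, 4232, 116, 152, 99072, 180480, 183296, 214016, 8236, 12340, 17920, 35584, 68352, 134400]) (.leaf [1, 2, 8416, 12400, 12356, 4232, 152, 236, 180480, 213504, 214016, 100352, 4120, 8236, 52480, 17920, 198144, 68352])))) (.node (.node (.node (.leaf [1, 2, 8416, 12400, 12356, 4232, 236, 116, 213504, 99072, 100352, 183296, 12340, 4120, 35584, 52480, 134400, 198144]) (.leaf [1, 2, 8432, 12368, 4228, 8392, 92, 164, 147968, 230144, 116736, 150528, 12316, 4132, 19968, 34560, 67840, 134656])) (.node (.leaf [1, 2, 8432, 12368, 4228, 8392, 164, 248, 230144, 114944, 150528, 230400, 8248, 12316, 51456, 19968, 198400, 67840]) (.leaf [1, 2, 8432, 12368, 4228, 8392, 248, 92, 114944, 147968, 230400, 116736, 4132, 8248, 34560, 51456, 134656, 198400]))) (.node (.node (.leaf [1, 2, 8432, 12368, 8392, 12364, 92, 164, 147968, 230144, 150528, 230400, 4132, 8248, 34560, 51456, 198400, 67840]) (.leaf [1, 2, 8432, 12368, 8392, 12364, 164, 248, 230144, 114944, 230400, 116736, 12316, 4132, 19968, 34560, 134656, 198400])) (.node (.leaf [1, 2, 8432, 12368, 8392, 12364, 248, 92, 114944, 147968, 116736, 150528, 8248, 12316, 51456, 19968, 67840, 134656]) (.leaf [1, 2, 8432, 12368, 12364, 4228, 92, 164, 147968, 230144, 230400, 116736, 8248, 12316, 51456, 19968, 134656, 198400]))))) (.node (.node (.node (.node (.leaf [1, 2, 8432, 12368, 12364, 4228, 164, 248, 230144, 114944, 116736, 150528, 4132, 8248, 34560, 51456, 67840, 134656]) (.leaf [1, 2, 8432, 12368, 12364, 4228, 248, 92, 114944, 147968, 150528, 230400, 12316, 4132, 19968, 34560, 198400, 67840])) (.node (.leaf [1, 2, 12288, 4096, 64, 128, 4, 8, 49152, 16384, 256, 512, 48, 16, 131072, 196608, 3072, 1024]) (.leaf [1, 2, 12288, 4096, 64, 128, 8, 12, 16384, 32768, 512, 768, 32, 48, 65536, 131072, 2048, 3072]))) (.node (.node (.leaf [1, 2, 12288, 4096, 64, 128, 12, 4, 32768, 49152, 768, 256, 16, 32, 196608, 65536, 1024, 2048]) (.leaf [1, 2, 12288, 4096, 128, 192, 4, 8, 49152, 16384, 512, 768, 16, 32, 196608, 65536, 2048, 3072])) (.node (.leaf [1, 2, 12288, 4096, 128, 192, 8, 12, 16384, 32768, 768, 256, 48, 16, 131072, 196608, 1024, 2048]) (.leaf [1, 2, 12288, 4096, 128, 192, 12, 4, 32768, 49152, 256, 512, 32, 48, 65536, 131072, 3072, 1024])))) (.node (.node (.node (.leaf [1, 2, 12288, 4096, 192, 64, 4, 8, 49152, 16384, 768, 256, 32, 48, 65536, 131072, 1024, 2048]) (.leaf [1, 2, 12288, 4096, 192, 64, 8, 12, 16384, 32768, 256, 512, 16, 32, 196608, 65536, 3072, 1024])) (.node (.leaf [1, 2, 12288, 4096, 192, 64, 12, 4, 32768, 49152, 512, 768, 48, 16, 131072, 196608, 2048, 3072]) (.leaf [1, 2, 12308, 4136, 124, 148, 4320, 8304, 20224, 34048, 246272, 82688, 4296, 8268, 69376, 132352, 247808, 84992]))) (.node (.node (.leaf [1, 2, 12308, 4136, 124, 148, 8304, 12432, 34048, 51712, 82688, 164096, 12420, 4296, 199168, 69376, 164864, 247808]) (.leaf [1, 2, 12308, 4136, 124, 148, 12432, 4320, 51712, 20224, 164096, 246272, 8268, 12420, 132352, 199168, 84992, 164864])) (.node (.leaf [1, 2, 12308, 4136, 148, 232, 4320, 8304, 20224, 34048, 82688, 164096, 8268, 12420, 132352, 199168, 164864, 247808]) (.leaf [1, 2, 12308, 4136, 148, 232, 8304, 12432, 34048, 51712, 164096, 246272, 4296, 8268, 69376, 132352, 84992, 164864])))))))) (.node (.node (.node (.node (.node (.node (.node (.leaf [1, 2, 12308, 4136, 148, 232, 12432, 4320, 51712, 20224, 246272, 82688, 12420, 4296, 199168, 69376, 247808, 84992]) (.leaf [1, 2, 12308, 4136, 232, 124, 4320, 8304, 20224, 34048, 164096, 246272, 12420, 4296, 199168, 69376, 84992, 164864])) (.node (.leaf [1, 2, 12308, 4136, 232, 124, 8304, 12432, 34048, 51712, 246272, 82688, 8268, 12420, 132352, 199168, 247808, 84992]) (.leaf [1, 2, 12308, 4136, 232, 124, 12432, 4320, 51712, 20224, 82688, 164096, 4296, 8268, 69376, 132352, 164864, 247808]))) (.node (.node (.leaf [1, 2, 12312, 4140, 108, 180, 4192, 8368, 34304, 51968, 180992, 213248, 12488, 4172, 199936, 67072, 99328, 182272]) (.leaf [1, 2, 12312, 4140, 108, 180, 8368, 12496, 51968, 19712, 213248, 98816, 8324, 12488, 133888, 199936, 216064, 99328])) (.node (.leaf [1, 2, 12312, 4140, 108, 180, 12496, 4192, 19712, 34304, 98816, 180992, 4172, 8324, 67072, 133888, 182272, 216064]) (.leaf [1, 2, 12312, 4140, 180, 216, 4192, 8368, 34304, 51968, 213248, 98816, 4172, 8324, 67072, 133888, 216064, 99328])))) (.node (.node (.node (.leaf [1, 2, 12312, 4140, 180, 216, 8368, 12496, 51968, 19712, 98816, 180992, 12488, 4172, 199936, 67072, 182272, 216064]) (.leaf [1, 2, 12312, 4140, 180, 216, 12496, 4192, 19712, 34304, 180992, 213248, 8324, 12488, 133888, 199936, 99328, 182272])) (.node (.leaf [1, 2, 12312, 4140, 216, 108, 4192, 8368, 34304, 51968, 98816, 180992, 8324, 12488, 133888, 199936, 182272, 216064]) (.leaf [1, 2, 12312, 4140, 216, 108, 8368, 12496, 51968, 19712, 180992, 213248, 4172, 8324, 67072, 133888, 99328, 182272]))) (.node (.node (.leaf [1, 2, 12312, 4140, 216, 108, 12496, 4192, 19712, 34304, 213248, 98816, 12488, 4172, 199936, 67072, 216064, 99328]) (.leaf [1, 2, 12316, 4132, 92, 164, 4256, 8432, 51456, 19968, 114944, 147968, 8392, 12364, 134656, 198400, 150528, 230400])) (.node (.leaf [1, 2, 12316, 4132, 92, 164, 8432, 12368, 19968, 34560, 147968, 230144, 4228, 8392, 67840, 134656, 116736, 150528]) (.leaf [1, 2, 12316, 4132, 92, 164, 12368, 4256, 34560, 51456, 230144, 114944, 12364, 4228, 198400, 67840, 230400, 116736]))))) (.node (.node (.node (.node (.leaf [1, 2, 12316, 4132, 164, 248, 4256, 8432, 51456, 19968, 147968, 230144, 12364, 4228, 198400, 67840, 116736, 150528]) (.leaf [1, 2, 12316, 4132, 164, 248, 8432, 12368, 19968, 34560, 230144, 114944, 8392, 12364, 134656, 198400, 230400, 116736])) (.node (.leaf [1, 2, 12316, 4132, 164, 248, 12368, 4256, 34560, 51456, 114944, 147968, 4228, 8392, 67840, 134656, 150528, 230400]) (.leaf [1, 2, 12316, 4132, 248, 92, 4256, 8432, 51456, 19968, 230144, 114944, 4228, 8392, 67840, 134656, 230400, 116736]))) (.node (.node (.leaf [1, 2, 12316, 4132, 248, 92, 8432, 12368, 19968, 34560, 114944, 147968, 12364, 4228, 198400, 67840, 150528, 230400]) (.leaf [1, 2, 12316, 4132, 248, 92, 12368, 4256, 34560, 51456, 147968, 230144, 8392, 12364, 134656, 198400, 116736, 150528])) (.node (.leaf [1, 2, 12324, 4152, 120, 156, 4208, 8336, 18688, 36352, 229888, 115456, 12484, 4168, 67328, 133376, 149504, 232448]) (.leaf [1, 2, 12324, 4152, 120, 156, 8336, 12512, 36352, 50944, 115456, 147712, 8332, 12484, 200192, 67328, 115712, 149504])))) (.node (.node (.node (.leaf [1, 2, 12324, 4152, 120, 156, 12512, 4208, 50944, 18688, 147712, 229888, 4168, 8332, 133376, 200192, 232448, 115712]) (.leaf [1, 2, 12324, 4152, 156, 228, 4208, 8336, 18688, 36352, 115456, 147712, 4168, 8332, 133376, 200192, 115712, 149504])) (.node (.leaf [1, 2, 12324, 4152, 156, 228, 8336, 12512, 36352, 50944, 147712, 229888, 12484, 4168, 67328, 133376, 232448, 115712]) (.leaf [1, 2, 12324, 4152, 156, 228, 12512, 4208, 50944, 18688, 229888, 115456, 8332, 12484, 200192, 67328, 149504, 232448]))) (.node (.node (.leaf [1, 2, 12324, 4152, 228, 120, 4208, 8336, 18688, 36352, 147712, 229888, 8332, 12484, 200192, 67328, 232448, 115712]) (.leaf [1, 2, 12324, 4152, 228, 120, 8336, 12512, 36352, 50944, 229888, 115456, 4168, 8332, 133376, 200192, 149504, 232448])) (.node (.leaf [1, 2, 12324, 4152, 228, 120, 12512, 4208, 50944, 18688, 115456, 147712, 12484, 4168, 67328, 133376, 115712, 149504]) (.leaf [1, 2, 12328, 4156, 104, 188, 4272, 8400, 36608, 50432, 164608, 246016, 8388, 12360, 197888, 68096, 246784, 83968])))))) (.node (.node (.node (.node (.node (.leaf [1, 2, 12328, 4156, 104, 188, 8400, 12384, 50432, 18944, 246016, 82432, 4236, 8388, 134912, 197888, 166912, 246784]) (.leaf [1, 2, 12328, 4156, 104, 188, 12384, 4272, 18944, 36608, 82432, 164608, 12360, 4236, 68096, 134912, 83968, 166912])) (.node (.leaf [1, 2, 12328, 4156, 188, 212, 4272, 8400, 36608, 50432, 246016, 82432, 12360, 4236, 68096, 134912, 166912, 246784]) (.leaf [1, 2, 12328, 4156, 188, 212, 8400, 12384, 50432, 18944, 82432, 164608, 8388, 12360, 197888, 68096, 83968, 166912]))) (.node (.node (.leaf [1, 2, 12328, 4156, 188, 212, 12384, 4272, 18944, 36608, 164608, 246016, 4236, 8388, 134912, 197888, 246784, 83968]) (.leaf [1, 2, 12328, 4156, 212, 104, 4272, 8400, 36608, 50432, 82432, 164608, 4236, 8388, 134912, 197888, 83968, 166912])) (.node (.leaf [1, 2, 12328, 4156, 212, 104, 8400, 12384, 50432, 18944, 164608, 246016, 12360, 4236, 68096, 134912, 246784, 83968]) (.leaf [1, 2, 12328, 4156, 212, 104, 12384, 4272, 18944, 36608, 246016, 82432, 8388, 12360, 197888, 68096, 166912, 246784])))) (.node (.node (.node (.leaf [1, 2, 12332, 4148, 88, 172, 4336, 8272, 50688, 19200, 98560, 180736, 4292, 8264, 132608, 199424, 101376, 181248]) (.leaf [1, 2, 12332, 4148, 88, 172, 8272, 12448, 19200, 36096, 180736, 213760, 12428, 4292, 68864, 132608, 215040, 101376])) (.node (.leaf [1, 2, 12332, 4148, 88, 172, 12448, 4336, 36096, 50688, 213760, 98560, 8264, 12428, 199424, 68864, 181248, 215040]) (.leaf [1, 2, 12332, 4148, 172, 244, 4336, 8272, 50688, 19200, 180736, 213760, 8264, 12428, 199424, 68864, 215040, 101376]))) (.node (.node (.leaf [1, 2, 12332, 4148, 172, 244, 8272, 12448, 19200, 36096, 213760, 98560, 4292, 8264, 132608, 199424, 181248, 215040]) (.leaf [1, 2, 12332, 4148, 172, 244, 12448, 4336, 36096, 50688, 98560, 180736, 12428, 4292, 68864, 132608, 101376, 181248])) (.node (.leaf [1, 2, 12332, 4148, 244, 88, 4336, 8272, 50688, 19200, 213760, 98560, 12428, 4292, 68864, 132608, 181248, 215040]) (.leaf [1, 2, 12332, 4148, 244, 88, 8272, 12448, 19200, 36096, 98560, 180736, 8264, 12428, 199424, 68864, 101376, 181248]))))) (.node (.node (.node (.node (.leaf [1, 2, 12332, 4148, 244, 88, 12448, 4336, 36096, 50688, 180736, 213760, 4292, 8264, 132608, 199424, 215040, 101376]) (.leaf [1, 2, 12340, 4120, 116, 152, 4240, 8416, 17920, 35584, 213504, 99072, 8396, 12356, 68352, 134400, 100352, 183296])) (.node (.leaf [1, 2, 12340, 4120, 116, 152, 8416, 12400, 35584, 52480, 99072, 180480, 4232, 8396, 198144, 68352, 214016, 100352]) (.leaf [1, 2, 12340, 4120, 116, 152, 12400, 4240, 52480, 17920, 180480, 213504, 12356, 4232, 134400, 198144, 183296, 214016]))) (.node (.node (.leaf [1, 2, 12340, 4120, 152, 236, 4240, 8416, 17920, 35584, 99072, 180480, 12356, 4232, 134400, 198144, 214016, 100352]) (.leaf [1, 2, 12340, 4120, 152, 236, 8416, 12400, 35584, 52480, 180480, 213504, 8396, 12356, 68352, 134400, 183296, 214016])) (.node (.leaf [1, 2, 12340, 4120, 152, 236, 12400, 4240, 52480, 17920, 213504, 99072, 4232, 8396, 198144, 68352, 100352, 183296]) (.leaf [1, 2, 12340, 4120, 236, 116, 4240, 8416, 17920, 35584, 180480, 213504, 4232, 8396, 198144, 68352, 183296, 214016])))) (.node (.node (.node (.leaf [1, 2, 12340, 4120, 236, 116, 8416, 12400, 35584, 52480, 213504, 99072, 12356, 4232, 134400, 198144, 100352, 183296]) (.leaf [1, 2, 12340, 4120, 236, 116, 12400, 4240, 52480, 17920, 99072, 180480, 8396, 12356, 68352, 134400, 214016, 100352])) (.node (.leaf [1, 2, 12344, 4124, 100, 184, 4304, 8288, 35072, 52736, 148224, 229632, 4300, 8260, 198912, 69120, 148480, 231424]) (.leaf [1, 2, 12344, 4124, 100, 184, 8288, 12464, 52736, 18176, 229632, 115200, 12424, 4300, 132864, 198912, 117760, 148480]))) (.node (.node (.leaf [1, 2, 12344, 4124, 100, 184, 12464, 4304, 18176, 35072, 115200, 148224, 8260, 12424, 69120, 132864, 231424, 117760]) (.leaf [1, 2, 12344, 4124, 184, 220, 4304, 8288, 35072, 52736, 229632, 115200, 8260, 12424, 69120, 132864, 117760, 148480])) (.node (.leaf [1, 2, 12344, 4124, 184, 220, 8288, 12464, 52736, 18176, 115200, 148224, 4300, 8260, 198912, 69120, 231424, 117760]) (.leaf [1, 2, 12344, 4124, 184, 220, 12464, 4304, 18176, 35072, 148224, 229632, 12424, 4300, 132864, 198912, 148480, 231424]))))))) (.node (.node (.node (.node (.node (.node (.leaf [1, 2, 12344, 4124, 220, 100, 4304, 8288, 35072, 52736, 115200, 148224, 12424, 4300, 132864, 198912, 231424, 117760]) (.leaf [1, 2, 12344, 4124, 220, 100, 8288, 12464, 52736, 18176, 148224, 229632, 8260, 12424, 69120, 132864, 148480, 231424])) (.node (.leaf [1, 2, 12344, 4124, 220, 100, 12464, 4304, 18176, 35072, 229632, 115200, 4300, 8260, 198912, 69120, 117760, 148480]) (.leaf [1, 2, 12348, 4116, 84, 168, 4176, 8352, 52992, 17664, 82176, 164352, 12492, 4164, 133632, 200448, 248832, 82944]))) (.node (.node (.leaf [1, 2, 12348, 4116, 84, 168, 8352, 12528, 17664, 35328, 164352, 246528, 8328, 12492, 66816, 133632, 165888, 248832]) (.leaf [1, 2, 12348, 4116, 84, 168, 12528, 4176, 35328, 52992, 246528, 82176, 4164, 8328, 200448, 66816, 82944, 165888])) (.node (.leaf [1, 2, 12348, 4116, 168, 252, 4176, 8352, 52992, 17664, 164352, 246528, 4164, 8328, 200448, 66816, 165888, 248832]) (.leaf [1, 2, 12348, 4116, 168, 252, 8352, 12528, 17664, 35328, 246528, 82176, 12492, 4164, 133632, 200448, 82944, 165888])))) (.node (.node (.node (.leaf [1, 2, 12348, 4116, 168, 252, 12528, 4176, 35328, 52992, 82176, 164352, 8328, 12492, 66816, 133632, 248832, 82944]) (.leaf [1, 2, 12348, 4116, 252, 84, 4176, 8352, 52992, 17664, 246528, 82176, 8328, 12492, 66816, 133632, 82944, 165888])) (.node (.leaf [1, 2, 12348, 4116, 252, 84, 8352, 12528, 17664, 35328, 82176, 164352, 4164, 8328, 200448, 66816, 248832, 82944]) (.leaf [1, 2, 12348, 4116, 252, 84, 12528, 4176, 35328, 52992, 164352, 246528, 12492, 4164, 133632, 200448, 165888, 248832]))) (.node (.node (.leaf [1, 2, 12356, 4232, 4240, 8416, 4120, 8236, 198144, 68352, 35584, 52480, 116, 152, 183296, 214016, 213504, 99072]) (.leaf [1, 2, 12356, 4232, 4240, 8416, 8236, 12340, 68352, 134400, 52480, 17920, 236, 116, 100352, 183296, 180480, 213504])) (.node (.leaf [1, 2, 12356, 4232, 4240, 8416, 12340, 4120, 134400, 198144, 17920, 35584, 152, 236, 214016, 100352, 99072, 180480]) (.leaf [1, 2, 12356, 4232, 8416, 12400, 4120, 8236, 198144, 68352, 52480, 17920, 152, 236, 214016, 100352, 180480, 213504]))))) (.node (.node (.node (.node (.leaf [1, 2, 12356, 4232, 8416, 12400, 8236, 12340, 68352, 134400, 17920, 35584, 116, 152, 183296, 214016, 99072, 180480]) (.leaf [1, 2, 12356, 4232, 8416, 12400, 12340, 4120, 134400, 198144, 35584, 52480, 236, 116, 100352, 183296, 213504, 99072])) (.node (.leaf [1, 2, 12356, 4232, 12400, 4240, 4120, 8236, 198144, 68352, 17920, 35584, 236, 116, 100352, 183296, 99072, 180480]) (.leaf [1, 2, 12356, 4232, 12400, 4240, 8236, 12340, 68352, 134400, 35584, 52480, 152, 236, 214016, 100352, 213504, 99072]))) (.node (.node (.leaf [1, 2, 12356, 4232, 12400, 4240, 12340, 4120, 134400, 198144, 52480, 17920, 116, 152, 183296, 214016, 180480, 213504]) (.leaf [1, 2, 12360, 4236, 4272, 8400, 4156, 8212, 134912, 197888, 50432, 18944, 104, 188, 83968, 166912, 164608, 246016])) (.node (.leaf [1, 2, 12360, 4236, 4272, 8400, 8212, 12328, 197888, 68096, 18944, 36608, 212, 104, 246784, 83968, 82432, 164608]) (.leaf [1, 2, 12360, 4236, 4272, 8400, 12328, 4156, 68096, 134912, 36608, 50432, 188, 212, 166912, 246784, 246016, 82432])))) (.node (.node (.node (.leaf [1, 2, 12360, 4236, 8400, 12384, 4156, 8212, 134912, 197888, 18944, 36608, 188, 212, 166912, 246784, 82432, 164608]) (.leaf [1, 2, 12360, 4236, 8400, 12384, 8212, 12328, 197888, 68096, 36608, 50432, 104, 188, 83968, 166912, 246016, 82432])) (.node (.leaf [1, 2, 12360, 4236, 8400, 12384, 12328, 4156, 68096, 134912, 50432, 18944, 212, 104, 246784, 83968, 164608, 246016]) (.leaf [1, 2, 12360, 4236, 12384, 4272, 4156, 8212, 134912, 197888, 36608, 50432, 212, 104, 246784, 83968, 246016, 82432]))) (.node (.node (.leaf [1, 2, 12360, 4236, 12384, 4272, 8212, 12328, 197888, 68096, 50432, 18944, 188, 212, 166912, 246784, 164608, 246016]) (.leaf [1, 2, 12360, 4236, 12384, 4272, 12328, 4156, 68096, 134912, 18944, 36608, 104, 188, 83968, 166912, 82432, 164608])) (.node (.leaf [1, 2, 12364, 4228, 4256, 8432, 4132, 8248, 67840, 134656, 19968, 34560, 92, 164, 230400, 116736, 114944, 147968]) (.leaf [1, 2, 12364, 4228, 4256, 8432, 8248, 12316, 134656, 198400, 34560, 51456, 248, 92, 150528, 230400, 230144, 114944])))))) (.node (.node (.node (.node (.node (.leaf [1, 2, 12364, 4228, 4256, 8432, 12316, 4132, 198400, 67840, 51456, 19968, 164, 248, 116736, 150528, 147968, 230144]) (.leaf [1, 2, 12364, 4228, 8432, 12368, 4132, 8248, 67840, 134656, 34560, 51456, 164, 248, 116736, 150528, 230144, 114944])) (.node (.leaf [1, 2, 12364, 4228, 8432, 12368, 8248, 12316, 134656, 198400, 51456, 19968, 92, 164, 230400, 116736, 147968, 230144]) (.leaf [1, 2, 12364, 4228, 8432, 12368, 12316, 4132, 198400, 67840, 19968, 34560, 248, 92, 150528, 230400, 114944, 147968]))) (.node (.node (.leaf [1, 2, 12364, 4228, 12368, 4256, 4132, 8248, 67840, 134656, 51456, 19968, 248, 92, 150528, 230400, 147968, 230144]) (.leaf [1, 2, 12364, 4228, 12368, 4256, 8248, 12316, 134656, 198400, 19968, 34560, 164, 248, 116736, 150528, 114944, 147968])) (.node (.leaf [1, 2, 12364, 4228, 12368, 4256, 12316, 4132, 198400, 67840, 34560, 51456, 92, 164, 230400, 116736, 230144, 114944]) (.leaf [1, 2, 12368, 4256, 4228, 8392, 92, 164, 230144, 114944, 116736, 150528, 4132, 8248, 51456, 19968, 134656, 198400])))) (.node (.node (.node (.leaf [1, 2, 12368, 4256, 4228, 8392, 164, 248, 114944, 147968, 150528, 230400, 12316, 4132, 34560, 51456, 67840, 134656]) (.leaf [1, 2, 12368, 4256, 4228, 8392, 248, 92, 147968, 230144, 230400, 116736, 8248, 12316, 19968, 34560, 198400, 67840])) (.node (.leaf [1, 2, 12368, 4256, 8392, 12364, 92, 164, 230144, 114944, 150528, 230400, 8248, 12316, 19968, 34560, 67840, 134656]) (.leaf [1, 2, 12368, 4256, 8392, 12364, 164, 248, 114944, 147968, 230400, 116736, 4132, 8248, 51456, 19968, 198400, 67840]))) (.node (.node (.leaf [1, 2, 12368, 4256, 8392, 12364, 248, 92, 147968, 230144, 116736, 150528, 12316, 4132, 34560, 51456, 134656, 198400]) (.leaf [1, 2, 12368, 4256, 12364, 4228, 92, 164, 230144, 114944, 230400, 116736, 12316, 4132, 34560, 51456, 198400, 67840])) (.node (.leaf [1, 2, 12368, 4256, 12364, 4228, 164, 248, 114944, 147968, 116736, 150528, 8248, 12316, 19968, 34560, 134656, 198400]) (.leaf [1, 2, 12368, 4256, 12364, 4228, 248, 92, 147968, 230144, 150528, 230400, 4132, 8248, 51456, 19968, 67840, 134656]))))) (.node (.node (.node (.node (.leaf [1, 2, 12384, 4272, 4236, 8388, 104, 188, 82432, 164608, 166912, 246784, 4156, 8212, 36608, 50432, 197888, 68096]) (.leaf [1, 2, 12384, 4272, 4236, 8388, 188, 212, 164608, 246016, 246784, 83968, 12328, 4156, 18944, 36608, 134912, 197888])) (.node (.leaf [1, 2, 12384, 4272, 4236, 8388, 212, 104, 246016, 82432, 83968, 166912, 8212, 12328, 50432, 18944, 68096, 134912]) (.leaf [1, 2, 12384, 4272, 8388, 12360, 104, 188, 82432, 164608, 246784, 83968, 8212, 12328, 50432, 18944, 134912, 197888]))) (.node (.node (.leaf [1, 2, 12384, 4272, 8388, 12360, 188, 212, 164608, 246016, 83968, 166912, 4156, 8212, 36608, 50432, 68096, 134912]) (.leaf [1, 2, 12384, 4272, 8388, 12360, 212, 104, 246016, 82432, 166912, 246784, 12328, 4156, 18944, 36608, 197888, 68096])) (.node (.leaf [1, 2, 12384, 4272, 12360, 4236, 104, 188, 82432, 164608, 83968, 166912, 12328, 4156, 18944, 36608, 68096, 134912]) (.leaf [1, 2, 12384, 4272, 12360, 4236, 188, 212, 164608, 246016, 166912, 246784, 8212, 12328, 50432, 18944, 197888, 68096])))) (.node (.node (.node (.leaf [1, 2, 12384, 4272, 12360, 4236, 212, 104, 246016, 82432, 246784, 83968, 4156, 8212, 36608, 50432, 134912, 197888]) (.leaf [1, 2, 12400, 4240, 4232, 8396, 116, 152, 180480, 213504, 214016, 100352, 4120, 8236, 17920, 35584, 68352, 134400])) (.node (.leaf [1, 2, 12400, 4240, 4232, 8396, 152, 236, 213504, 99072, 100352, 183296, 12340, 4120, 52480, 17920, 198144, 68352]) (.leaf [1, 2, 12400, 4240, 4232, 8396, 236, 116, 99072, 180480, 183296, 214016, 8236, 12340, 35584, 52480, 134400, 198144]))) (.node (.node (.leaf [1, 2, 12400, 4240, 8396, 12356, 116, 152, 180480, 213504, 100352, 183296, 8236, 12340, 35584, 52480, 198144, 68352]) (.leaf [1, 2, 12400, 4240, 8396, 12356, 152, 236, 213504, 99072, 183296, 214016, 4120, 8236, 17920, 35584, 134400, 198144])) (.node (.leaf [1, 2, 12400, 4240, 8396, 12356, 236, 116, 99072, 180480, 214016, 100352, 12340, 4120, 52480, 17920, 68352, 134400]) (.leaf [1, 2, 12400, 4240, 12356, 4232, 116, 152, 180480, 213504, 183296, 214016, 12340, 4120, 52480, 17920, 134400, 198144]))))))))))) (.node (.node (.node (.node (.node (.node (.node (.node (.node (.node (.leaf [1, 2, 12400, 4240, 12356, 4232, 152, 236, 213504, 99072, 214016, 100352, 8236, 12340, 35584, 52480, 68352, 134400]) (.leaf [1, 2, 12400, 4240, 12356, 4232, 236, 116, 99072, 180480, 100352, 183296, 4120, 8236, 17920, 35584, 198144, 68352])) (.node (.leaf [1, 2, 12420, 4296, 4320, 8304, 4136, 8252, 69376, 132352, 34048, 51712, 148, 232, 247808, 84992, 82688, 164096]) (.leaf [1, 2, 12420, 4296, 4320, 8304, 8252, 12308, 132352, 199168, 51712, 20224, 124, 148, 164864, 247808, 246272, 82688]))) (.node (.node (.leaf [1, 2, 12420, 4296, 4320, 8304, 12308, 4136, 199168, 69376, 20224, 34048, 232, 124, 84992, 164864, 164096, 246272]) (.leaf [1, 2, 12420, 4296, 8304, 12432, 4136, 8252, 69376, 132352, 51712, 20224, 232, 124, 84992, 164864, 246272, 82688])) (.node (.leaf [1, 2, 12420, 4296, 8304, 12432, 8252, 12308, 132352, 199168, 20224, 34048, 148, 232, 247808, 84992, 164096, 246272]) (.leaf [1, 2, 12420, 4296, 8304, 12432, 12308, 4136, 199168, 69376, 34048, 51712, 124, 148, 164864, 247808, 82688, 164096])))) (.node (.node (.node (.leaf [1, 2, 12420, 4296, 12432, 4320, 4136, 8252, 69376, 132352, 20224, 34048, 124, 148, 164864, 247808, 164096, 246272]) (.leaf [1, 2, 12420, 4296, 12432, 4320, 8252, 12308, 132352, 199168, 34048, 51712, 232, 124, 84992, 164864, 82688, 164096])) (.node (.leaf [1, 2, 12420, 4296, 12432, 4320, 12308, 4136, 199168, 69376, 51712, 20224, 148, 232, 247808, 84992, 246272, 82688]) (.leaf [1, 2, 12424, 4300, 4304, 8288, 4124, 8228, 198912, 69120, 52736, 18176, 184, 220, 148480, 231424, 229632, 115200]))) (.node (.node (.leaf [1, 2, 12424, 4300, 4304, 8288, 8228, 12344, 69120, 132864, 18176, 35072, 100, 184, 117760, 148480, 148224, 229632]) (.leaf [1, 2, 12424, 4300, 4304, 8288, 12344, 4124, 132864, 198912, 35072, 52736, 220, 100, 231424, 117760, 115200, 148224])) (.node (.leaf [1, 2, 12424, 4300, 8288, 12464, 4124, 8228, 198912, 69120, 18176, 35072, 220, 100, 231424, 117760, 148224, 229632]) (.leaf [1, 2, 12424, 4300, 8288, 12464, 8228, 12344, 69120, 132864, 35072, 52736, 184, 220, 148480, 231424, 115200, 148224]))))) (.node (.node (.node (.node (.leaf [1, 2, 12424, 4300, 8288, 12464, 12344, 4124, 132864, 198912, 52736, 18176, 100, 184, 117760, 148480, 229632, 115200]) (.leaf [1, 2, 12424, 4300, 12464, 4304, 4124, 8228, 198912, 69120, 35072, 52736, 100, 184, 117760, 148480, 115200, 148224])) (.node (.leaf [1, 2, 12424, 4300, 12464, 4304, 8228, 12344, 69120, 132864, 52736, 18176, 220, 100, 231424, 117760, 229632, 115200]) (.leaf [1, 2, 12424, 4300, 12464, 4304, 12344, 4124, 132864, 198912, 18176, 35072, 184, 220, 148480, 231424, 148224, 229632]))) (.node (.node (.leaf [1, 2, 12428, 4292, 4336, 8272, 4148, 8216, 132608, 199424, 19200, 36096, 172, 244, 101376, 181248, 180736, 213760]) (.leaf [1, 2, 12428, 4292, 4336, 8272, 8216, 12332, 199424, 68864, 36096, 50688, 88, 172, 215040, 101376, 98560, 180736])) (.node (.leaf [1, 2, 12428, 4292, 4336, 8272, 12332, 4148, 68864, 132608, 50688, 19200, 244, 88, 181248, 215040, 213760, 98560]) (.leaf [1, 2, 12428, 4292, 8272, 12448, 4148, 8216, 132608, 199424, 36096, 50688, 244, 88, 181248, 215040, 98560, 180736])))) (.node (.node (.node (.leaf [1, 2, 12428, 4292, 8272, 12448, 8216, 12332, 199424, 68864, 50688, 19200, 172, 244, 101376, 181248, 213760, 98560]) (.leaf [1, 2, 12428, 4292, 8272, 12448, 12332, 4148, 68864, 132608, 19200, 36096, 88, 172, 215040, 101376, 180736, 213760])) (.node (.leaf [1, 2, 12428, 4292, 12448, 4336, 4148, 8216, 132608, 199424, 50688, 19200, 88, 172, 215040, 101376, 213760, 98560]) (.leaf [1, 2, 12428, 4292, 12448, 4336, 8216, 12332, 199424, 68864, 19200, 36096, 244, 88, 181248, 215040, 180736, 213760]))) (.node (.node (.leaf [1, 2, 12428, 4292, 12448, 4336, 12332, 4148, 68864, 132608, 36096, 50688, 172, 244, 101376, 181248, 98560, 180736]) (.leaf [1, 2, 12432, 4320, 4296, 8268, 124, 148, 164096, 246272, 247808, 84992, 8252, 12308, 34048, 51712, 199168, 69376])) (.node (.leaf [1, 2, 12432, 4320, 4296, 8268, 148, 232, 246272, 82688, 84992, 164864, 4136, 8252, 20224, 34048, 132352, 199168]) (.leaf [1, 2, 12432, 4320, 4296, 8268, 232, 124, 82688, 164096, 164864, 247808, 12308, 4136, 51712, 20224, 69376, 132352])))))) (.node (.node (.node (.node (.node (.leaf [1, 2, 12432, 4320, 8268, 12420, 124, 148, 164096, 246272, 84992, 164864, 12308, 4136, 51712, 20224, 132352, 199168]) (.leaf [1, 2, 12432, 4320, 8268, 12420, 148, 232, 246272, 82688, 164864, 247808, 8252, 12308, 34048, 51712, 69376, 132352])) (.node (.leaf [1, 2, 12432, 4320, 8268, 12420, 232, 124, 82688, 164096, 247808, 84992, 4136, 8252, 20224, 34048, 199168, 69376]) (.leaf [1, 2, 12432, 4320, 12420, 4296, 124, 148, 164096, 246272, 164864, 247808, 4136, 8252, 20224, 34048, 69376, 132352]))) (.node (.node (.leaf [1, 2, 12432, 4320, 12420, 4296, 148, 232, 246272, 82688, 247808, 84992, 12308, 4136, 51712, 20224, 199168, 69376]) (.leaf [1, 2, 12432, 4320, 12420, 4296, 232, 124, 82688, 164096, 84992, 164864, 8252, 12308, 34048, 51712, 132352, 199168])) (.node (.leaf [1, 2, 12448, 4336, 4292, 8264, 88, 172, 213760, 98560, 101376, 181248, 8216, 12332, 19200, 36096, 68864, 132608]) (.leaf [1, 2, 12448, 4336, 4292, 8264, 172, 244, 98560, 180736, 181248, 215040, 4148, 8216, 50688, 19200, 199424, 68864])))) (.node (.node (.node (.leaf [1, 2, 12448, 4336, 4292, 8264, 244, 88, 180736, 213760, 215040, 101376, 12332, 4148, 36096, 50688, 132608, 199424]) (.leaf [1, 2, 12448, 4336, 8264, 12428, 88, 172, 213760, 98560, 181248, 215040, 12332, 4148, 36096, 50688, 199424, 68864])) (.node (.leaf [1, 2, 12448, 4336, 8264, 12428, 172, 244, 98560, 180736, 215040, 101376, 8216, 12332, 19200, 36096, 132608, 199424]) (.leaf [1, 2, 12448, 4336, 8264, 12428, 244, 88, 180736, 213760, 101376, 181248, 4148, 8216, 50688, 19200, 68864, 132608]))) (.node (.node (.leaf [1, 2, 12448, 4336, 12428, 4292, 88, 172, 213760, 98560, 215040, 101376, 4148, 8216, 50688, 19200, 132608, 199424]) (.leaf [1, 2, 12448, 4336, 12428, 4292, 172, 244, 98560, 180736, 101376, 181248, 12332, 4148, 36096, 50688, 68864, 132608])) (.node (.leaf [1, 2, 12448, 4336, 12428, 4292, 244, 88, 180736, 213760, 181248, 215040, 8216, 12332, 19200, 36096, 199424, 68864]) (.leaf [1, 2, 12464, 4304, 4300, 8260, 100, 184, 115200, 148224, 148480, 231424, 8228, 12344, 52736, 18176, 132864, 198912]))))) (.node (.node (.node (.node (.leaf [1, 2, 12464, 4304, 4300, 8260, 184, 220, 148224, 229632, 231424, 117760, 4124, 8228, 35072, 52736, 69120, 132864]) (.leaf [1, 2, 12464, 4304, 4300, 8260, 220, 100, 229632, 115200, 117760, 148480, 12344, 4124, 18176, 35072, 198912, 69120])) (.node (.leaf [1, 2, 12464, 4304, 8260, 12424, 100, 184, 115200, 148224, 231424, 117760, 12344, 4124, 18176, 35072, 69120, 132864]) (.leaf [1, 2, 12464, 4304, 8260, 12424, 184, 220, 148224, 229632, 117760, 148480, 8228, 12344, 52736, 18176, 198912, 69120]))) (.node (.node (.leaf [1, 2, 12464, 4304, 8260, 12424, 220, 100, 229632, 115200, 148480, 231424, 4124, 8228, 35072, 52736, 132864, 198912]) (.leaf [1, 2, 12464, 4304, 12424, 4300, 100, 184, 115200, 148224, 117760, 148480, 4124, 8228, 35072, 52736, 198912, 69120])) (.node (.leaf [1, 2, 12464, 4304, 12424, 4300, 184, 220, 148224, 229632, 148480, 231424, 12344, 4124, 18176, 35072, 132864, 198912]) (.leaf [1, 2, 12464, 4304, 12424, 4300, 220, 100, 229632, 115200, 231424, 117760, 8228, 12344, 52736, 18176, 69120, 132864])))) (.node (.node (.node (.leaf [1, 2, 12484, 4168, 4208, 8336, 4152, 8220, 133376, 200192, 36352, 50944, 228, 120, 115712, 149504, 147712, 229888]) (.leaf [1, 2, 12484, 4168, 4208, 8336, 8220, 12324, 200192, 67328, 50944, 18688, 156, 228, 232448, 115712, 115456, 147712])) (.node (.leaf [1, 2, 12484, 4168, 4208, 8336, 12324, 4152, 67328, 133376, 18688, 36352, 120, 156, 149504, 232448, 229888, 115456]) (.leaf [1, 2, 12484, 4168, 8336, 12512, 4152, 8220, 133376, 200192, 50944, 18688, 120, 156, 149504, 232448, 115456, 147712]))) (.node (.node (.leaf [1, 2, 12484, 4168, 8336, 12512, 8220, 12324, 200192, 67328, 18688, 36352, 228, 120, 115712, 149504, 229888, 115456]) (.leaf [1, 2, 12484, 4168, 8336, 12512, 12324, 4152, 67328, 133376, 36352, 50944, 156, 228, 232448, 115712, 147712, 229888])) (.node (.leaf [1, 2, 12484, 4168, 12512, 4208, 4152, 8220, 133376, 200192, 18688, 36352, 156, 228, 232448, 115712, 229888, 115456]) (.leaf [1, 2, 12484, 4168, 12512, 4208, 8220, 12324, 200192, 67328, 36352, 50944, 120, 156, 149504, 232448, 147712, 229888]))))))) (.node (.node (.node (.node (.node (.node (.leaf [1, 2, 12484, 4168, 12512, 4208, 12324, 4152, 67328, 133376, 50944, 18688, 228, 120, 115712, 149504, 115456, 147712]) (.leaf [1, 2, 12488, 4172, 4192, 8368, 4140, 8244, 67072, 133888, 51968, 19712, 216, 108, 216064, 99328, 98816, 180992])) (.node (.leaf [1, 2, 12488, 4172, 4192, 8368, 8244, 12312, 133888, 199936, 19712, 34304, 180, 216, 182272, 216064, 213248, 98816]) (.leaf [1, 2, 12488, 4172, 4192, 8368, 12312, 4140, 199936, 67072, 34304, 51968, 108, 180, 99328, 182272, 180992, 213248]))) (.node (.node (.leaf [1, 2, 12488, 4172, 8368, 12496, 4140, 8244, 67072, 133888, 19712, 34304, 108, 180, 99328, 182272, 213248, 98816]) (.leaf [1, 2, 12488, 4172, 8368, 12496, 8244, 12312, 133888, 199936, 34304, 51968, 216, 108, 216064, 99328, 180992, 213248])) (.node (.leaf [1, 2, 12488, 4172, 8368, 12496, 12312, 4140, 199936, 67072, 51968, 19712, 180, 216, 182272, 216064, 98816, 180992]) (.leaf [1, 2, 12488, 4172, 12496, 4192, 4140, 8244, 67072, 133888, 34304, 51968, 180, 216, 182272, 216064, 180992, 213248])))) (.node (.node (.node (.leaf [1, 2, 12488, 4172, 12496, 4192, 8244, 12312, 133888, 199936, 51968, 19712, 108, 180, 99328, 182272, 98816, 180992]) (.leaf [1, 2, 12488, 4172, 12496, 4192, 12312, 4140, 199936, 67072, 19712, 34304, 216, 108, 216064, 99328, 213248, 98816])) (.node (.leaf [1, 2, 12492, 4164, 4176, 8352, 4116, 8232, 200448, 66816, 17664, 35328, 252, 84, 165888, 248832, 246528, 82176]) (.leaf [1, 2, 12492, 4164, 4176, 8352, 8232, 12348, 66816, 133632, 35328, 52992, 168, 252, 82944, 165888, 164352, 246528]))) (.node (.node (.leaf [1, 2, 12492, 4164, 4176, 8352, 12348, 4116, 133632, 200448, 52992, 17664, 84, 168, 248832, 82944, 82176, 164352]) (.leaf [1, 2, 12492, 4164, 8352, 12528, 4116, 8232, 200448, 66816, 35328, 52992, 84, 168, 248832, 82944, 164352, 246528])) (.node (.leaf [1, 2, 12492, 4164, 8352, 12528, 8232, 12348, 66816, 133632, 52992, 17664, 252, 84, 165888, 248832, 82176, 164352]) (.leaf [1, 2, 12492, 4164, 8352, 12528, 12348, 4116, 133632, 200448, 17664, 35328, 168, 252, 82944, 165888, 246528, 82176]))))) (.node (.node (.node (.node (.leaf [1, 2, 12492, 4164, 12528, 4176, 4116, 8232, 200448, 66816, 52992, 17664, 168, 252, 82944, 165888, 82176, 164352]) (.leaf [1, 2, 12492, 4164, 12528, 4176, 8232, 12348, 66816, 133632, 17664, 35328, 84, 168, 248832, 82944, 246528, 82176])) (.node (.leaf [1, 2, 12492, 4164, 12528, 4176, 12348, 4116, 133632, 200448, 35328, 52992, 252, 84, 165888, 248832, 164352, 246528]) (.leaf [1, 2, 12496, 4192, 4172, 8324, 108, 180, 98816, 180992, 182272, 216064, 12312, 4140, 19712, 34304, 67072, 133888]))) (.node (.node (.leaf [1, 2, 12496, 4192, 4172, 8324, 180, 216, 180992, 213248, 216064, 99328, 8244, 12312, 51968, 19712, 199936, 67072]) (.leaf [1, 2, 12496, 4192, 4172, 8324, 216, 108, 213248, 98816, 99328, 182272, 4140, 8244, 34304, 51968, 133888, 199936])) (.node (.leaf [1, 2, 12496, 4192, 8324, 12488, 108, 180, 98816, 180992, 216064, 99328, 4140, 8244, 34304, 51968, 199936, 67072]) (.leaf [1, 2, 12496, 4192, 8324, 12488, 180, 216, 180992, 213248, 99328, 182272, 12312, 4140, 19712, 34304, 133888, 199936])))) (.node (.node (.node (.leaf [1, 2, 12496, 4192, 8324, 12488, 216, 108, 213248, 98816, 182272, 216064, 8244, 12312, 51968, 19712, 67072, 133888]) (.leaf [1, 2, 12496, 4192, 12488, 4172, 108, 180, 98816, 180992, 99328, 182272, 8244, 12312, 51968, 19712, 133888, 199936])) (.node (.leaf [1, 2, 12496, 4192, 12488, 4172, 180, 216, 180992, 213248, 182272, 216064, 4140, 8244, 34304, 51968, 67072, 133888]) (.leaf [1, 2, 12496, 4192, 12488, 4172, 216, 108, 213248, 98816, 216064, 99328, 12312, 4140, 19712, 34304, 199936, 67072]))) (.node (.node (.leaf [1, 2, 12512, 4208, 4168, 8332, 120, 156, 147712, 229888, 232448, 115712, 12324, 4152, 50944, 18688, 133376, 200192]) (.leaf [1, 2, 12512, 4208, 4168, 8332, 156, 228, 229888, 115456, 115712, 149504, 8220, 12324, 36352, 50944, 67328, 133376])) (.node (.leaf [1, 2, 12512, 4208, 4168, 8332, 228, 120, 115456, 147712, 149504, 232448, 4152, 8220, 18688, 36352, 200192, 67328]) (.leaf [1, 2, 12512, 4208, 8332, 12484, 120, 156, 147712, 229888, 115712, 149504, 4152, 8220, 18688, 36352, 67328, 133376])))))) (.node (.node (.node (.node (.node (.leaf [1, 2, 12512, 4208, 8332, 12484, 156, 228, 229888, 115456, 149504, 232448, 12324, 4152, 50944, 18688, 200192, 67328]) (.leaf [1, 2, 12512, 4208, 8332, 12484, 228, 120, 115456, 147712, 232448, 115712, 8220, 12324, 36352, 50944, 133376, 200192])) (.node (.leaf [1, 2, 12512, 4208, 12484, 4168, 120, 156, 147712, 229888, 149504, 232448, 8220, 12324, 36352, 50944, 200192, 67328]) (.leaf [1, 2, 12512, 4208, 12484, 4168, 156, 228, 229888, 115456, 232448, 115712, 4152, 8220, 18688, 36352, 133376, 200192]))) (.node (.node (.leaf [1, 2, 12512, 4208, 12484, 4168, 228, 120, 115456, 147712, 115712, 149504, 12324, 4152, 50944, 18688, 67328, 133376]) (.leaf [1, 2, 12528, 4176, 4164, 8328, 84, 168, 246528, 82176, 82944, 165888, 12348, 4116, 35328, 52992, 200448, 66816])) (.node (.leaf [1, 2, 12528, 4176, 4164, 8328, 168, 252, 82176, 164352, 165888, 248832, 8232, 12348, 17664, 35328, 133632, 200448]) (.leaf [1, 2, 12528, 4176, 4164, 8328, 252, 84, 164352, 246528, 248832, 82944, 4116, 8232, 52992, 17664, 66816, 133632])))) (.node (.node (.node (.leaf [1, 2, 12528, 4176, 8328, 12492, 84, 168, 246528, 82176, 165888, 248832, 4116, 8232, 52992, 17664, 133632, 200448]) (.leaf [1, 2, 12528, 4176, 8328, 12492, 168, 252, 82176, 164352, 248832, 82944, 12348, 4116, 35328, 52992, 66816, 133632])) (.node (.leaf [1, 2, 12528, 4176, 8328, 12492, 252, 84, 164352, 246528, 82944, 165888, 8232, 12348, 17664, 35328, 200448, 66816]) (.leaf [1, 2, 12528, 4176, 12492, 4164, 84, 168, 246528, 82176, 248832, 82944, 8232, 12348, 17664, 35328, 66816, 133632]))) (.node (.node (.leaf [1, 2, 12528, 4176, 12492, 4164, 168, 252, 82176, 164352, 82944, 165888, 4116, 8232, 52992, 17664, 200448, 66816]) (.leaf [1, 2, 12528, 4176, 12492, 4164, 252, 84, 164352, 246528, 165888, 248832, 12348, 4116, 35328, 52992, 133632, 200448])) (.node (.leaf [1, 2, 16384, 32768, 1024, 2048, 256, 512, 16, 32, 4096, 8192, 65536, 131072, 64, 128, 4, 8]) (.leaf [1, 2, 16384, 32768, 1024, 2048, 512, 768, 32, 48, 8192, 12288, 196608, 65536, 192, 64, 12, 4]))))) (.node (.node (.node (.node (.leaf [1, 2, 16384, 32768, 1024, 2048, 768, 256, 48, 16, 12288, 4096, 131072, 196608, 128, 192, 8, 12]) (.leaf [1, 2, 16384, 32768, 2048, 3072, 256, 512, 16, 32, 8192, 12288, 131072, 196608, 128, 192, 12, 4])) (.node (.leaf [1, 2, 16384, 32768, 2048, 3072, 512, 768, 32, 48, 12288, 4096, 65536, 131072, 64, 128, 8, 12]) (.leaf [1, 2, 16384, 32768, 2048, 3072, 768, 256, 48, 16, 4096, 8192, 196608, 65536, 192, 64, 4, 8]))) (.node (.node (.leaf [1, 2, 16384, 32768, 3072, 1024, 256, 512, 16, 32, 12288, 4096, 196608, 65536, 192, 64, 8, 12]) (.leaf [1, 2, 16384, 32768, 3072, 1024, 512, 768, 32, 48, 4096, 8192, 131072, 196608, 128, 192, 4, 8])) (.node (.leaf [1, 2, 16384, 32768, 3072, 1024, 768, 256, 48, 16, 8192, 12288, 65536, 131072, 64, 128, 12, 4]) (.leaf [1, 2, 17664, 35328, 82944, 165888, 82176, 164352, 4164, 8328, 4116, 8232, 66816, 133632, 84, 168, 4176, 8352])))) (.node (.node (.node (.leaf [1, 2, 17664, 35328, 82944, 165888, 164352, 246528, 8328, 12492, 8232, 12348, 200448, 66816, 252, 84, 12528, 4176]) (.leaf [1, 2, 17664, 35328, 82944, 165888, 246528, 82176, 12492, 4164, 12348, 4116, 133632, 200448, 168, 252, 8352, 12528])) (.node (.leaf [1, 2, 17664, 35328, 165888, 248832, 82176, 164352, 4164, 8328, 8232, 12348, 133632, 200448, 168, 252, 12528, 4176]) (.leaf [1, 2, 17664, 35328, 165888, 248832, 164352, 246528, 8328, 12492, 12348, 4116, 66816, 133632, 84, 168, 8352, 12528]))) (.node (.node (.leaf [1, 2, 17664, 35328, 165888, 248832, 246528, 82176, 12492, 4164, 4116, 8232, 200448, 66816, 252, 84, 4176, 8352]) (.leaf [1, 2, 17664, 35328, 248832, 82944, 82176, 164352, 4164, 8328, 12348, 4116, 200448, 66816, 252, 84, 8352, 12528])) (.node (.leaf [1, 2, 17664, 35328, 248832, 82944, 164352, 246528, 8328, 12492, 4116, 8232, 133632, 200448, 168, 252, 4176, 8352]) (.leaf [1, 2, 17664, 35328, 248832, 82944, 246528, 82176, 12492, 4164, 8232, 12348, 66816, 133632, 84, 168, 12528, 4176])))))))) (.node (.node (.node (.node (.node (.node (.node (.leaf [1, 2, 17920, 35584, 100352, 183296, 99072, 180480, 12356, 4232, 4120, 8236, 198144, 68352, 236, 116, 12400, 4240]) (.leaf [1, 2, 17920, 35584, 100352, 183296, 180480, 213504, 4232, 8396, 8236, 12340, 134400, 198144, 152, 236, 8416, 12400])) (.node (.leaf [1, 2, 17920, 35584, 100352, 183296, 213504, 99072, 8396, 12356, 12340, 4120, 68352, 134400, 116, 152, 4240, 8416]) (.leaf [1, 2, 17920, 35584, 183296, 214016, 99072, 180480, 12356, 4232, 8236, 12340, 68352, 134400, 116, 152, 8416, 12400]))) (.node (.node (.leaf [1, 2, 17920, 35584, 183296, 214016, 180480, 213504, 4232, 8396, 12340, 4120, 198144, 68352, 236, 116, 4240, 8416]) (.leaf [1, 2, 17920, 35584, 183296, 214016, 213504, 99072, 8396, 12356, 4120, 8236, 134400, 198144, 152, 236, 12400, 4240])) (.node (.leaf [1, 2, 17920, 35584, 214016, 100352, 99072, 180480, 12356, 4232, 12340, 4120, 134400, 198144, 152, 236, 4240, 8416]) (.leaf [1, 2, 17920, 35584, 214016, 100352, 180480, 213504, 4232, 8396, 4120, 8236, 68352, 134400, 116, 152, 12400, 4240])))) (.node (.node (.node (.leaf [1, 2, 17920, 35584, 214016, 100352, 213504, 99072, 8396, 12356, 8236, 12340, 198144, 68352, 236, 116, 8416, 12400]) (.leaf [1, 2, 18176, 35072, 117760, 148480, 115200, 148224, 8260, 12424, 4124, 8228, 132864, 198912, 184, 220, 8288, 12464])) (.node (.leaf [1, 2, 18176, 35072, 117760, 148480, 148224, 229632, 12424, 4300, 8228, 12344, 69120, 132864, 100, 184, 4304, 8288]) (.leaf [1, 2, 18176, 35072, 117760, 148480, 229632, 115200, 4300, 8260, 12344, 4124, 198912, 69120, 220, 100, 12464, 4304]))) (.node (.node (.leaf [1, 2, 18176, 35072, 148480, 231424, 115200, 148224, 8260, 12424, 8228, 12344, 198912, 69120, 220, 100, 4304, 8288]) (.leaf [1, 2, 18176, 35072, 148480, 231424, 148224, 229632, 12424, 4300, 12344, 4124, 132864, 198912, 184, 220, 12464, 4304])) (.node (.leaf [1, 2, 18176, 35072, 148480, 231424, 229632, 115200, 4300, 8260, 4124, 8228, 69120, 132864, 100, 184, 8288, 12464]) (.leaf [1, 2, 18176, 35072, 231424, 117760, 115200, 148224, 8260, 12424, 12344, 4124, 69120, 132864, 100, 184, 12464, 4304]))))) (.node (.node (.node (.node (.leaf [1, 2, 18176, 35072, 231424, 117760, 148224, 229632, 12424, 4300, 4124, 8228, 198912, 69120, 220, 100, 8288, 12464]) (.leaf [1, 2, 18176, 35072, 231424, 117760, 229632, 115200, 4300, 8260, 8228, 12344, 132864, 198912, 184, 220, 4304, 8288])) (.node (.leaf [1, 2, 18688, 36352, 115712, 149504, 115456, 147712, 4168, 8332, 12324, 4152, 133376, 200192, 156, 228, 4208, 8336]) (.leaf [1, 2, 18688, 36352, 115712, 149504, 147712, 229888, 8332, 12484, 4152, 8220, 67328, 133376, 120, 156, 12512, 4208]))) (.node (.node (.leaf [1, 2, 18688, 36352, 115712, 149504, 229888, 115456, 12484, 4168, 8220, 12324, 200192, 67328, 228, 120, 8336, 12512]) (.leaf [1, 2, 18688, 36352, 149504, 232448, 115456, 147712, 4168, 8332, 4152, 8220, 200192, 67328, 228, 120, 12512, 4208])) (.node (.leaf [1, 2, 18688, 36352, 149504, 232448, 147712, 229888, 8332, 12484, 8220, 12324, 133376, 200192, 156, 228, 8336, 12512]) (.leaf [1, 2, 18688, 36352, 149504, 232448, 229888, 115456, 12484, 4168, 12324, 4152, 67328, 133376, 120, 156, 4208, 8336])))) (.node (.node (.node (.leaf [1, 2, 18688, 36352, 232448, 115712, 115456, 147712, 4168, 8332, 8220, 12324, 67328, 133376, 120, 156, 8336, 12512]) (.leaf [1, 2, 18688, 36352, 232448, 115712, 147712, 229888, 8332, 12484, 12324, 4152, 200192, 67328, 228, 120, 4208, 8336])) (.node (.leaf [1, 2, 18688, 36352, 232448, 115712, 229888, 115456, 12484, 4168, 4152, 8220, 133376, 200192, 156, 228, 12512, 4208]) (.leaf [1, 2, 18944, 36608, 83968, 166912, 82432, 164608, 12360, 4236, 12328, 4156, 68096, 134912, 104, 188, 12384, 4272]))) (.node (.node (.leaf [1, 2, 18944, 36608, 83968, 166912, 164608, 246016, 4236, 8388, 4156, 8212, 197888, 68096, 212, 104, 8400, 12384]) (.leaf [1, 2, 18944, 36608, 83968, 166912, 246016, 82432, 8388, 12360, 8212, 12328, 134912, 197888, 188, 212, 4272, 8400])) (.node (.leaf [1, 2, 18944, 36608, 166912, 246784, 82432, 164608, 12360, 4236, 4156, 8212, 134912, 197888, 188, 212, 8400, 12384]) (.leaf [1, 2, 18944, 36608, 166912, 246784, 164608, 246016, 4236, 8388, 8212, 12328, 68096, 134912, 104, 188, 4272, 8400])))))) (.node (.node (.node (.node (.node (.leaf [1, 2, 18944, 36608, 166912, 246784, 246016, 82432, 8388, 12360, 12328, 4156, 197888, 68096, 212, 104, 12384, 4272]) (.leaf [1, 2, 18944, 36608, 246784, 83968, 82432, 164608, 12360, 4236, 8212, 12328, 197888, 68096, 212, 104, 4272, 8400])) (.node (.leaf [1, 2, 18944, 36608, 246784, 83968, 164608, 246016, 4236, 8388, 12328, 4156, 134912, 197888, 188, 212, 12384, 4272]) (.leaf [1, 2, 18944, 36608, 246784, 83968, 246016, 82432, 8388, 12360, 4156, 8212, 68096, 134912, 104, 188, 8400, 12384]))) (.node (.node (.leaf [1, 2, 19200, 36096, 101376, 181248, 98560, 180736, 8264, 12428, 12332, 4148, 199424, 68864, 244, 88, 8272, 12448]) (.leaf [1, 2, 19200, 36096, 101376, 181248, 180736, 213760, 12428, 4292, 4148, 8216, 132608, 199424, 172, 244, 4336, 8272])) (.node (.leaf [1, 2, 19200, 36096, 101376, 181248, 213760, 98560, 4292, 8264, 8216, 12332, 68864, 132608, 88, 172, 12448, 4336]) (.leaf [1, 2, 19200, 36096, 181248, 215040, 98560, 180736, 8264, 12428, 4148, 8216, 68864, 132608, 88, 172, 4336, 8272])))) (.node (.node (.node (.leaf [1, 2, 19200, 36096, 181248, 215040, 180736, 213760, 12428, 4292, 8216, 12332, 199424, 68864, 244, 88, 12448, 4336]) (.leaf [1, 2, 19200, 36096, 181248, 215040, 213760, 98560, 4292, 8264, 12332, 4148, 132608, 199424, 172, 244, 8272, 12448])) (.node (.leaf [1, 2, 19200, 36096, 215040, 101376, 98560, 180736, 8264, 12428, 8216, 12332, 132608, 199424, 172, 244, 12448, 4336]) (.leaf [1, 2, 19200, 36096, 215040, 101376, 180736, 213760, 12428, 4292, 12332, 4148, 68864, 132608, 88, 172, 8272, 12448]))) (.node (.node (.leaf [1, 2, 19200, 36096, 215040, 101376, 213760, 98560, 4292, 8264, 4148, 8216, 199424, 68864, 244, 88, 4336, 8272]) (.leaf [1, 2, 19712, 34304, 99328, 182272, 98816, 180992, 4172, 8324, 8244, 12312, 199936, 67072, 216, 108, 4192, 8368])) (.node (.leaf [1, 2, 19712, 34304, 99328, 182272, 180992, 213248, 8324, 12488, 12312, 4140, 133888, 199936, 180, 216, 12496, 4192]) (.leaf [1, 2, 19712, 34304, 99328, 182272, 213248, 98816, 12488, 4172, 4140, 8244, 67072, 133888, 108, 180, 8368, 12496]))))) (.node (.node (.node (.node (.leaf [1, 2, 19712, 34304, 182272, 216064, 98816, 180992, 4172, 8324, 12312, 4140, 67072, 133888, 108, 180, 12496, 4192]) (.leaf [1, 2, 19712, 34304, 182272, 216064, 180992, 213248, 8324, 12488, 4140, 8244, 199936, 67072, 216, 108, 8368, 12496])) (.node (.leaf [1, 2, 19712, 34304, 182272, 216064, 213248, 98816, 12488, 4172, 8244, 12312, 133888, 199936, 180, 216, 4192, 8368]) (.leaf [1, 2, 19712, 34304, 216064, 99328, 98816, 180992, 4172, 8324, 4140, 8244, 133888, 199936, 180, 216, 8368, 12496]))) (.node (.node (.leaf [1, 2, 19712, 34304, 216064, 99328, 180992, 213248, 8324, 12488, 8244, 12312, 67072, 133888, 108, 180, 4192, 8368]) (.leaf [1, 2, 19712, 34304, 216064, 99328, 213248, 98816, 12488, 4172, 12312, 4140, 199936, 67072, 216, 108, 12496, 4192])) (.node (.leaf [1, 2, 19968, 34560, 116736, 150528, 114944, 147968, 12364, 4228, 8248, 12316, 134656, 198400, 164, 248, 12368, 4256]) (.leaf [1, 2, 19968, 34560, 116736, 150528, 147968, 230144, 4228, 8392, 12316, 4132, 67840, 134656, 92, 164, 8432, 12368])))) (.node (.node (.node (.leaf [1, 2, 19968, 34560, 116736, 150528, 230144, 114944, 8392, 12364, 4132, 8248, 198400, 67840, 248, 92, 4256, 8432]) (.leaf [1, 2, 19968, 34560, 150528, 230400, 114944, 147968, 12364, 4228, 12316, 4132, 198400, 67840, 248, 92, 8432, 12368])) (.node (.leaf [1, 2, 19968, 34560, 150528, 230400, 147968, 230144, 4228, 8392, 4132, 8248, 134656, 198400, 164, 248, 4256, 8432]) (.leaf [1, 2, 19968, 34560, 150528, 230400, 230144, 114944, 8392, 12364, 8248, 12316, 67840, 134656, 92, 164, 12368, 4256]))) (.node (.node (.leaf [1, 2, 19968, 34560, 230400, 116736, 114944, 147968, 12364, 4228, 4132, 8248, 67840, 134656, 92, 164, 4256, 8432]) (.leaf [1, 2, 19968, 34560, 230400, 116736, 147968, 230144, 4228, 8392, 8248, 12316, 198400, 67840, 248, 92, 12368, 4256])) (.node (.leaf [1, 2, 19968, 34560, 230400, 116736, 230144, 114944, 8392, 12364, 12316, 4132, 134656, 198400, 164, 248, 8432, 12368]) (.leaf [1, 2, 20224, 34048, 84992, 164864, 82688, 164096, 8268, 12420, 8252, 12308, 69376, 132352, 124, 148, 8304, 12432]))))))) (.node (.node (.node (.node (.node (.node (.leaf [1, 2, 20224, 34048, 84992, 164864, 164096, 246272, 12420, 4296, 12308, 4136, 199168, 69376, 232, 124, 4320, 8304]) (.leaf [1, 2, 20224, 34048, 84992, 164864, 246272, 82688, 4296, 8268, 4136, 8252, 132352, 199168, 148, 232, 12432, 4320])) (.node (.leaf [1, 2, 20224, 34048, 164864, 247808, 82688, 164096, 8268, 12420, 12308, 4136, 132352, 199168, 148, 232, 4320, 8304]) (.leaf [1, 2, 20224, 34048, 164864, 247808, 164096, 246272, 12420, 4296, 4136, 8252, 69376, 132352, 124, 148, 12432, 4320]))) (.node (.node (.leaf [1, 2, 20224, 34048, 164864, 247808, 246272, 82688, 4296, 8268, 8252, 12308, 199168, 69376, 232, 124, 8304, 12432]) (.leaf [1, 2, 20224, 34048, 247808, 84992, 82688, 164096, 8268, 12420, 4136, 8252, 199168, 69376, 232, 124, 12432, 4320])) (.node (.leaf [1, 2, 20224, 34048, 247808, 84992, 164096, 246272, 12420, 4296, 8252, 12308, 132352, 199168, 148, 232, 8304, 12432]) (.leaf [1, 2, 20224, 34048, 247808, 84992, 246272, 82688, 4296, 8268, 12308, 4136, 69376, 132352, 124, 148, 4320, 8304])))) (.node (.node (.node (.leaf [1, 2, 32768, 49152, 1024, 2048, 256, 512, 32, 48, 4096, 8192, 131072, 196608, 192, 64, 8, 12]) (.leaf [1, 2, 32768, 49152, 1024, 2048, 512, 768, 48, 16, 8192, 12288, 65536, 131072, 128, 192, 4, 8])) (.node (.leaf [1, 2, 32768, 49152, 1024, 2048, 768, 256, 16, 32, 12288, 4096, 196608, 65536, 64, 128, 12, 4]) (.leaf [1, 2, 32768, 49152, 2048, 3072, 256, 512, 32, 48, 8192, 12288, 196608, 65536, 64, 128, 4, 8]))) (.node (.node (.leaf [1, 2, 32768, 49152, 2048, 3072, 512, 768, 48, 16, 12288, 4096, 131072, 196608, 192, 64, 12, 4]) (.leaf [1, 2, 32768, 49152, 2048, 3072, 768, 256, 16, 32, 4096, 8192, 65536, 131072, 128, 192, 8, 12])) (.node (.leaf [1, 2, 32768, 49152, 3072, 1024, 256, 512, 32, 48, 12288, 4096, 65536, 131072, 128, 192, 12, 4]) (.leaf [1, 2, 32768, 49152, 3072, 1024, 512, 768, 48, 16, 4096, 8192, 196608, 65536, 64, 128, 8, 12]))))) (.node (.node (.node (.node (.leaf [1, 2, 32768, 49152, 3072, 1024, 768, 256, 16, 32, 8192, 12288, 131072, 196608, 192, 64, 4, 8]) (.leaf [1, 2, 34048, 51712, 84992, 164864, 82688, 164096, 12420, 4296, 8252, 12308, 132352, 199168, 232, 124, 12432, 4320])) (.node (.leaf [1, 2, 34048, 51712, 84992, 164864, 164096, 246272, 4296, 8268, 12308, 4136, 69376, 132352, 148, 232, 8304, 12432]) (.leaf [1, 2, 34048, 51712, 84992, 164864, 246272, 82688, 8268, 12420, 4136, 8252, 199168, 69376, 124, 148, 4320, 8304]))) (.node (.node (.leaf [1, 2, 34048, 51712, 164864, 247808, 82688, 164096, 12420, 4296, 12308, 4136, 199168, 69376, 124, 148, 8304, 12432]) (.leaf [1, 2, 34048, 51712, 164864, 247808, 164096, 246272, 4296, 8268, 4136, 8252, 132352, 199168, 232, 124, 4320, 8304])) (.node (.leaf [1, 2, 34048, 51712, 164864, 247808, 246272, 82688, 8268, 12420, 8252, 12308, 69376, 132352, 148, 232, 12432, 4320]) (.leaf [1, 2, 34048, 51712, 247808, 84992, 82688, 164096, 12420, 4296, 4136, 8252, 69376, 132352, 148, 232, 4320, 8304])))) (.node (.node (.node (.leaf [1, 2, 34048, 51712, 247808, 84992, 164096, 246272, 4296, 8268, 8252, 12308, 199168, 69376, 124, 148, 12432, 4320]) (.leaf [1, 2, 34048, 51712, 247808, 84992, 246272, 82688, 8268, 12420, 12308, 4136, 132352, 199168, 232, 124, 8304, 12432])) (.node (.leaf [1, 2, 34304, 51968, 99328, 182272, 98816, 180992, 8324, 12488, 8244, 12312, 67072, 133888, 180, 216, 8368, 12496]) (.leaf [1, 2, 34304, 51968, 99328, 182272, 180992, 213248, 12488, 4172, 12312, 4140, 199936, 67072, 108, 180, 4192, 8368]))) (.node (.node (.leaf [1, 2, 34304, 51968, 99328, 182272, 213248, 98816, 4172, 8324, 4140, 8244, 133888, 199936, 216, 108, 12496, 4192]) (.leaf [1, 2, 34304, 51968, 182272, 216064, 98816, 180992, 8324, 12488, 12312, 4140, 133888, 199936, 216, 108, 4192, 8368])) (.node (.leaf [1, 2, 34304, 51968, 182272, 216064, 180992, 213248, 12488, 4172, 4140, 8244, 67072, 133888, 180, 216, 12496, 4192]) (.leaf [1, 2, 34304, 51968, 182272, 216064, 213248, 98816, 4172, 8324, 8244, 12312, 199936, 67072, 108, 180, 8368, 12496])))))) (.node (.node (.node (.node (.node (.leaf [1, 2, 34304, 51968, 216064, 99328, 98816, 180992, 8324, 12488, 4140, 8244, 199936, 67072, 108, 180, 12496, 4192]) (.leaf [1, 2, 34304, 51968, 216064, 99328, 180992, 213248, 12488, 4172, 8244, 12312, 133888, 199936, 216, 108, 8368, 12496])) (.node (.leaf [1, 2, 34304, 51968, 216064, 99328, 213248, 98816, 4172, 8324, 12312, 4140, 67072, 133888, 180, 216, 4192, 8368]) (.leaf [1, 2, 34560, 51456, 116736, 150528, 114944, 147968, 4228, 8392, 8248, 12316, 198400, 67840, 92, 164, 4256, 8432]))) (.node (.node (.leaf [1, 2, 34560, 51456, 116736, 150528, 147968, 230144, 8392, 12364, 12316, 4132, 134656, 198400, 248, 92, 12368, 4256]) (.leaf [1, 2, 34560, 51456, 116736, 150528, 230144, 114944, 12364, 4228, 4132, 8248, 67840, 134656, 164, 248, 8432, 12368])) (.node (.leaf [1, 2, 34560, 51456, 150528, 230400, 114944, 147968, 4228, 8392, 12316, 4132, 67840, 134656, 164, 248, 12368, 4256]) (.leaf [1, 2, 34560, 51456, 150528, 230400, 147968, 230144, 8392, 12364, 4132, 8248, 198400, 67840, 92, 164, 8432, 12368])))) (.node (.node (.node (.leaf [1, 2, 34560, 51456, 150528, 230400, 230144, 114944, 12364, 4228, 8248, 12316, 134656, 198400, 248, 92, 4256, 8432]) (.leaf [1, 2, 34560, 51456, 230400, 116736, 114944, 147968, 4228, 8392, 4132, 8248, 134656, 198400, 248, 92, 8432, 12368])) (.node (.leaf [1, 2, 34560, 51456, 230400, 116736, 147968, 230144, 8392, 12364, 8248, 12316, 67840, 134656, 164, 248, 4256, 8432]) (.leaf [1, 2, 34560, 51456, 230400, 116736, 230144, 114944, 12364, 4228, 12316, 4132, 198400, 67840, 92, 164, 12368, 4256]))) (.node (.node (.leaf [1, 2, 35072, 52736, 117760, 148480, 115200, 148224, 12424, 4300, 4124, 8228, 198912, 69120, 100, 184, 12464, 4304]) (.leaf [1, 2, 35072, 52736, 117760, 148480, 148224, 229632, 4300, 8260, 8228, 12344, 132864, 198912, 220, 100, 8288, 12464])) (.node (.leaf [1, 2, 35072, 52736, 117760, 148480, 229632, 115200, 8260, 12424, 12344, 4124, 69120, 132864, 184, 220, 4304, 8288]) (.leaf [1, 2, 35072, 52736, 148480, 231424, 115200, 148224, 12424, 4300, 8228, 12344, 69120, 132864, 184, 220, 8288, 12464]))))) (.node (.node (.node (.node (.leaf [1, 2, 35072, 52736, 148480, 231424, 148224, 229632, 4300, 8260, 12344, 4124, 198912, 69120, 100, 184, 4304, 8288]) (.leaf [1, 2, 35072, 52736, 148480, 231424, 229632, 115200, 8260, 12424, 4124, 8228, 132864, 198912, 220, 100, 12464, 4304])) (.node (.leaf [1, 2, 35072, 52736, 231424, 117760, 115200, 148224, 12424, 4300, 12344, 4124, 132864, 198912, 220, 100, 4304, 8288]) (.leaf [1, 2, 35072, 52736, 231424, 117760, 148224, 229632, 4300, 8260, 4124, 8228, 69120, 132864, 184, 220, 12464, 4304]))) (.node (.node (.leaf [1, 2, 35072, 52736, 231424, 117760, 229632, 115200, 8260, 12424, 8228, 12344, 198912, 69120, 100, 184, 8288, 12464]) (.leaf [1, 2, 35328, 52992, 82944, 165888, 82176, 164352, 8328, 12492, 4116, 8232, 133632, 200448, 252, 84, 8352, 12528])) (.node (.leaf [1, 2, 35328, 52992, 82944, 165888, 164352, 246528, 12492, 4164, 8232, 12348, 66816, 133632, 168, 252, 4176, 8352]) (.leaf [1, 2, 35328, 52992, 82944, 165888, 246528, 82176, 4164, 8328, 12348, 4116, 200448, 66816, 84, 168, 12528, 4176])))) (.node (.node (.node (.leaf [1, 2, 35328, 52992, 165888, 248832, 82176, 164352, 8328, 12492, 8232, 12348, 200448, 66816, 84, 168, 4176, 8352]) (.leaf [1, 2, 35328, 52992, 165888, 248832, 164352, 246528, 12492, 4164, 12348, 4116, 133632, 200448, 252, 84, 12528, 4176])) (.node (.leaf [1, 2, 35328, 52992, 165888, 248832, 246528, 82176, 4164, 8328, 4116, 8232, 66816, 133632, 168, 252, 8352, 12528]) (.leaf [1, 2, 35328, 52992, 248832, 82944, 82176, 164352, 8328, 12492, 12348, 4116, 66816, 133632, 168, 252, 12528, 4176]))) (.node (.node (.leaf [1, 2, 35328, 52992, 248832, 82944, 164352, 246528, 12492, 4164, 4116, 8232, 200448, 66816, 84, 168, 8352, 12528]) (.leaf [1, 2, 35328, 52992, 248832, 82944, 246528, 82176, 4164, 8328, 8232, 12348, 133632, 200448, 252, 84, 4176, 8352])) (.node (.leaf [1, 2, 35584, 52480, 100352, 183296, 99072, 180480, 4232, 8396, 4120, 8236, 68352, 134400, 152, 236, 4240, 8416]) (.leaf [1, 2, 35584, 52480, 100352, 183296, 180480, 213504, 8396, 12356, 8236, 12340, 198144, 68352, 116, 152, 12400, 4240]))))))))) (.node (.node (.node (.node (.node (.node (.node (.node (.leaf [1, 2, 35584, 52480, 100352, 183296, 213504, 99072, 12356, 4232, 12340, 4120, 134400, 198144, 236, 116, 8416, 12400]) (.leaf [1, 2, 35584, 52480, 183296, 214016, 99072, 180480, 4232, 8396, 8236, 12340, 134400, 198144, 236, 116, 12400, 4240])) (.node (.leaf [1, 2, 35584, 52480, 183296, 214016, 180480, 213504, 8396, 12356, 12340, 4120, 68352, 134400, 152, 236, 8416, 12400]) (.leaf [1, 2, 35584, 52480, 183296, 214016, 213504, 99072, 12356, 4232, 4120, 8236, 198144, 68352, 116, 152, 4240, 8416]))) (.node (.node (.leaf [1, 2, 35584, 52480, 214016, 100352, 99072, 180480, 4232, 8396, 12340, 4120, 198144, 68352, 116, 152, 8416, 12400]) (.leaf [1, 2, 35584, 52480, 214016, 100352, 180480, 213504, 8396, 12356, 4120, 8236, 134400, 198144, 236, 116, 4240, 8416])) (.node (.leaf [1, 2, 35584, 52480, 214016, 100352, 213504, 99072, 12356, 4232, 8236, 12340, 68352, 134400, 152, 236, 12400, 4240]) (.leaf [1, 2, 36096, 50688, 101376, 181248, 98560, 180736, 12428, 4292, 12332, 4148, 68864, 132608, 172, 244, 12448, 4336])))) (.node (.node (.node (.leaf [1, 2, 36096, 50688, 101376, 181248, 180736, 213760, 4292, 8264, 4148, 8216, 199424, 68864, 88, 172, 8272, 12448]) (.leaf [1, 2, 36096, 50688, 101376, 181248, 213760, 98560, 8264, 12428, 8216, 12332, 132608, 199424, 244, 88, 4336, 8272])) (.node (.leaf [1, 2, 36096, 50688, 181248, 215040, 98560, 180736, 12428, 4292, 4148, 8216, 132608, 199424, 244, 88, 8272, 12448]) (.leaf [1, 2, 36096, 50688, 181248, 215040, 180736, 213760, 4292, 8264, 8216, 12332, 68864, 132608, 172, 244, 4336, 8272]))) (.node (.node (.leaf [1, 2, 36096, 50688, 181248, 215040, 213760, 98560, 8264, 12428, 12332, 4148, 199424, 68864, 88, 172, 12448, 4336]) (.leaf [1, 2, 36096, 50688, 215040, 101376, 98560, 180736, 12428, 4292, 8216, 12332, 199424, 68864, 88, 172, 4336, 8272])) (.node (.leaf [1, 2, 36096, 50688, 215040, 101376, 180736, 213760, 4292, 8264, 12332, 4148, 132608, 199424, 244, 88, 12448, 4336]) (.leaf [1, 2, 36096, 50688, 215040, 101376, 213760, 98560, 8264, 12428, 4148, 8216, 68864, 132608, 172, 244, 8272, 12448]))))) (.node (.node (.node (.node (.leaf [1, 2, 36352, 50944, 115712, 149504, 115456, 147712, 8332, 12484, 12324, 4152, 200192, 67328, 120, 156, 8336, 12512]) (.leaf [1, 2, 36352, 50944, 115712, 149504, 147712, 229888, 12484, 4168, 4152, 8220, 133376, 200192, 228, 120, 4208, 8336])) (.node (.leaf [1, 2, 36352, 50944, 115712, 149504, 229888, 115456, 4168, 8332, 8220, 12324, 67328, 133376, 156, 228, 12512, 4208]) (.leaf [1, 2, 36352, 50944, 149504, 232448, 115456, 147712, 8332, 12484, 4152, 8220, 67328, 133376, 156, 228, 4208, 8336]))) (.node (.node (.leaf [1, 2, 36352, 50944, 149504, 232448, 147712, 229888, 12484, 4168, 8220, 12324, 200192, 67328, 120, 156, 12512, 4208]) (.leaf [1, 2, 36352, 50944, 149504, 232448, 229888, 115456, 4168, 8332, 12324, 4152, 133376, 200192, 228, 120, 8336, 12512])) (.node (.leaf [1, 2, 36352, 50944, 232448, 115712, 115456, 147712, 8332, 12484, 8220, 12324, 133376, 200192, 228, 120, 12512, 4208]) (.leaf [1, 2, 36352, 50944, 232448, 115712, 147712, 229888, 12484, 4168, 12324, 4152, 67328, 133376, 156, 228, 8336, 12512])))) (.node (.node (.node (.leaf [1, 2, 36352, 50944, 232448, 115712, 229888, 115456, 4168, 8332, 4152, 8220, 200192, 67328, 120, 156, 4208, 8336]) (.leaf [1, 2, 36608, 50432, 83968, 166912, 82432, 164608, 4236, 8388, 12328, 4156, 134912, 197888, 212, 104, 4272, 8400])) (.node (.leaf [1, 2, 36608, 50432, 83968, 166912, 164608, 246016, 8388, 12360, 4156, 8212, 68096, 134912, 188, 212, 12384, 4272]) (.leaf [1, 2, 36608, 50432, 83968, 166912, 246016, 82432, 12360, 4236, 8212, 12328, 197888, 68096, 104, 188, 8400, 12384]))) (.node (.node (.leaf [1, 2, 36608, 50432, 166912, 246784, 82432, 164608, 4236, 8388, 4156, 8212, 197888, 68096, 104, 188, 12384, 4272]) (.leaf [1, 2, 36608, 50432, 166912, 246784, 164608, 246016, 8388, 12360, 8212, 12328, 134912, 197888, 212, 104, 8400, 12384])) (.node (.leaf [1, 2, 36608, 50432, 166912, 246784, 246016, 82432, 12360, 4236, 12328, 4156, 68096, 134912, 188, 212, 4272, 8400]) (.leaf [1, 2, 36608, 50432, 246784, 83968, 82432, 164608, 4236, 8388, 8212, 12328, 68096, 134912, 188, 212, 8400, 12384])))))) (.node (.node (.node (.node (.node (.leaf [1, 2, 36608, 50432, 246784, 83968, 164608, 246016, 8388, 12360, 12328, 4156, 197888, 68096, 104, 188, 4272, 8400]) (.leaf [1, 2, 36608, 50432, 246784, 83968, 246016, 82432, 12360, 4236, 4156, 8212, 134912, 197888, 212, 104, 12384, 4272])) (.node (.leaf [1, 2, 49152, 16384, 1024, 2048, 256, 512, 48, 16, 4096, 8192, 196608, 65536, 128, 192, 12, 4]) (.leaf [1, 2, 49152, 16384, 1024, 2048, 512, 768, 16, 32, 8192, 12288, 131072, 196608, 64, 128, 8, 12]))) (.node (.node (.leaf [1, 2, 49152, 16384, 1024, 2048, 768, 256, 32, 48, 12288, 4096, 65536, 131072, 192, 64, 4, 8]) (.leaf [1, 2, 49152, 16384, 2048, 3072, 256, 512, 48, 16, 8192, 12288, 65536, 131072, 192, 64, 8, 12])) (.node (.leaf [1, 2, 49152, 16384, 2048, 3072, 512, 768, 16, 32, 12288, 4096, 196608, 65536, 128, 192, 4, 8]) (.leaf [1, 2, 49152, 16384, 2048, 3072, 768, 256, 32, 48, 4096, 8192, 131072, 196608, 64, 128, 12, 4])))) (.node (.node (.node (.leaf [1, 2, 49152, 16384, 3072, 1024, 256, 512, 48, 16, 12288, 4096, 131072, 196608, 64, 128, 4, 8]) (.leaf [1, 2, 49152, 16384, 3072, 1024, 512, 768, 16, 32, 4096, 8192, 65536, 131072, 192, 64, 12, 4])) (.node (.leaf [1, 2, 49152, 16384, 3072, 1024, 768, 256, 32, 48, 8192, 12288, 196608, 65536, 128, 192, 8, 12]) (.leaf [1, 2, 50432, 18944, 83968, 166912, 82432, 164608, 8388, 12360, 12328, 4156, 197888, 68096, 188, 212, 8400, 12384]))) (.node (.node (.leaf [1, 2, 50432, 18944, 83968, 166912, 164608, 246016, 12360, 4236, 4156, 8212, 134912, 197888, 104, 188, 4272, 8400]) (.leaf [1, 2, 50432, 18944, 83968, 166912, 246016, 82432, 4236, 8388, 8212, 12328, 68096, 134912, 212, 104, 12384, 4272])) (.node (.leaf [1, 2, 50432, 18944, 166912, 246784, 82432, 164608, 8388, 12360, 4156, 8212, 68096, 134912, 212, 104, 4272, 8400]) (.leaf [1, 2, 50432, 18944, 166912, 246784, 164608, 246016, 12360, 4236, 8212, 12328, 197888, 68096, 188, 212, 12384, 4272]))))) (.node (.node (.node (.node (.leaf [1, 2, 50432, 18944, 166912, 246784, 246016, 82432, 4236, 8388, 12328, 4156, 134912, 197888, 104, 188, 8400, 12384]) (.leaf [1, 2, 50432, 18944, 246784, 83968, 82432, 164608, 8388, 12360, 8212, 12328, 134912, 197888, 104, 188, 12384, 4272])) (.node (.leaf [1, 2, 50432, 18944, 246784, 83968, 164608, 246016, 12360, 4236, 12328, 4156, 68096, 134912, 212, 104, 8400, 12384]) (.leaf [1, 2, 50432, 18944, 246784, 83968, 246016, 82432, 4236, 8388, 4156, 8212, 197888, 68096, 188, 212, 4272, 8400]))) (.node (.node (.leaf [1, 2, 50688, 19200, 101376, 181248, 98560, 180736, 4292, 8264, 12332, 4148, 132608, 199424, 88, 172, 4336, 8272]) (.leaf [1, 2, 50688, 19200, 101376, 181248, 180736, 213760, 8264, 12428, 4148, 8216, 68864, 132608, 244, 88, 12448, 4336])) (.node (.leaf [1, 2, 50688, 19200, 101376, 181248, 213760, 98560, 12428, 4292, 8216, 12332, 199424, 68864, 172, 244, 8272, 12448]) (.leaf [1, 2, 50688, 19200, 181248, 215040, 98560, 180736, 4292, 8264, 4148, 8216, 199424, 68864, 172, 244, 12448, 4336])))) (.node (.node (.node (.leaf [1, 2, 50688, 19200, 181248, 215040, 180736, 213760, 8264, 12428, 8216, 12332, 132608, 199424, 88, 172, 8272, 12448]) (.leaf [1, 2, 50688, 19200, 181248, 215040, 213760, 98560, 12428, 4292, 12332, 4148, 68864, 132608, 244, 88, 4336, 8272])) (.node (.leaf [1, 2, 50688, 19200, 215040, 101376, 98560, 180736, 4292, 8264, 8216, 12332, 68864, 132608, 244, 88, 8272, 12448]) (.leaf [1, 2, 50688, 19200, 215040, 101376, 180736, 213760, 8264, 12428, 12332, 4148, 199424, 68864, 172, 244, 4336, 8272]))) (.node (.node (.leaf [1, 2, 50688, 19200, 215040, 101376, 213760, 98560, 12428, 4292, 4148, 8216, 132608, 199424, 88, 172, 12448, 4336]) (.leaf [1, 2, 50944, 18688, 115712, 149504, 115456, 147712, 12484, 4168, 12324, 4152, 67328, 133376, 228, 120, 12512, 4208])) (.node (.leaf [1, 2, 50944, 18688, 115712, 149504, 147712, 229888, 4168, 8332, 4152, 8220, 200192, 67328, 156, 228, 8336, 12512]) (.leaf [1, 2, 50944, 18688, 115712, 149504, 229888, 115456, 8332, 12484, 8220, 12324, 133376, 200192, 120, 156, 4208, 8336]))))))) (.node (.node (.node (.node (.node (.node (.leaf [1, 2, 50944, 18688, 149504, 232448, 115456, 147712, 12484, 4168, 4152, 8220, 133376, 200192, 120, 156, 8336, 12512]) (.leaf [1, 2, 50944, 18688, 149504, 232448, 147712, 229888, 4168, 8332, 8220, 12324, 67328, 133376, 228, 120, 4208, 8336])) (.node (.leaf [1, 2, 50944, 18688, 149504, 232448, 229888, 115456, 8332, 12484, 12324, 4152, 200192, 67328, 156, 228, 12512, 4208]) (.leaf [1, 2, 50944, 18688, 232448, 115712, 115456, 147712, 12484, 4168, 8220, 12324, 200192, 67328, 156, 228, 4208, 8336]))) (.node (.node (.leaf [1, 2, 50944, 18688, 232448, 115712, 147712, 229888, 4168, 8332, 12324, 4152, 133376, 200192, 120, 156, 12512, 4208]) (.leaf [1, 2, 50944, 18688, 232448, 115712, 229888, 115456, 8332, 12484, 4152, 8220, 67328, 133376, 228, 120, 8336, 12512])) (.node (.leaf [1, 2, 51456, 19968, 116736, 150528, 114944, 147968, 8392, 12364, 8248, 12316, 67840, 134656, 248, 92, 8432, 12368]) (.leaf [1, 2, 51456, 19968, 116736, 150528, 147968, 230144, 12364, 4228, 12316, 4132, 198400, 67840, 164, 248, 4256, 8432])))) (.node (.node (.node (.leaf [1, 2, 51456, 19968, 116736, 150528, 230144, 114944, 4228, 8392, 4132, 8248, 134656, 198400, 92, 164, 12368, 4256]) (.leaf [1, 2, 51456, 19968, 150528, 230400, 114944, 147968, 8392, 12364, 12316, 4132, 134656, 198400, 92, 164, 4256, 8432])) (.node (.leaf [1, 2, 51456, 19968, 150528, 230400, 147968, 230144, 12364, 4228, 4132, 8248, 67840, 134656, 248, 92, 12368, 4256]) (.leaf [1, 2, 51456, 19968, 150528, 230400, 230144, 114944, 4228, 8392, 8248, 12316, 198400, 67840, 164, 248, 8432, 12368]))) (.node (.node (.leaf [1, 2, 51456, 19968, 230400, 116736, 114944, 147968, 8392, 12364, 4132, 8248, 198400, 67840, 164, 248, 12368, 4256]) (.leaf [1, 2, 51456, 19968, 230400, 116736, 147968, 230144, 12364, 4228, 8248, 12316, 134656, 198400, 92, 164, 8432, 12368])) (.node (.leaf [1, 2, 51456, 19968, 230400, 116736, 230144, 114944, 4228, 8392, 12316, 4132, 67840, 134656, 248, 92, 4256, 8432]) (.leaf [1, 2, 51712, 20224, 84992, 164864, 82688, 164096, 4296, 8268, 8252, 12308, 199168, 69376, 148, 232, 4320, 8304]))))) (.node (.node (.node (.node (.leaf [1, 2, 51712, 20224, 84992, 164864, 164096, 246272, 8268, 12420, 12308, 4136, 132352, 199168, 124, 148, 12432, 4320]) (.leaf [1, 2, 51712, 20224, 84992, 164864, 246272, 82688, 12420, 4296, 4136, 8252, 69376, 132352, 232, 124, 8304, 12432])) (.node (.leaf [1, 2, 51712, 20224, 164864, 247808, 82688, 164096, 4296, 8268, 12308, 4136, 69376, 132352, 232, 124, 12432, 4320]) (.leaf [1, 2, 51712, 20224, 164864, 247808, 164096, 246272, 8268, 12420, 4136, 8252, 199168, 69376, 148, 232, 8304, 12432]))) (.node (.node (.leaf [1, 2, 51712, 20224, 164864, 247808, 246272, 82688, 12420, 4296, 8252, 12308, 132352, 199168, 124, 148, 4320, 8304]) (.leaf [1, 2, 51712, 20224, 247808, 84992, 82688, 164096, 4296, 8268, 4136, 8252, 132352, 199168, 124, 148, 8304, 12432])) (.node (.leaf [1, 2, 51712, 20224, 247808, 84992, 164096, 246272, 8268, 12420, 8252, 12308, 69376, 132352, 232, 124, 4320, 8304]) (.leaf [1, 2, 51712, 20224, 247808, 84992, 246272, 82688, 12420, 4296, 12308, 4136, 199168, 69376, 148, 232, 12432, 4320])))) (.node (.node (.node (.leaf [1, 2, 51968, 19712, 99328, 182272, 98816, 180992, 12488, 4172, 8244, 12312, 133888, 199936, 108, 180, 12496, 4192]) (.leaf [1, 2, 51968, 19712, 99328, 182272, 180992, 213248, 4172, 8324, 12312, 4140, 67072, 133888, 216, 108, 8368, 12496])) (.node (.leaf [1, 2, 51968, 19712, 99328, 182272, 213248, 98816, 8324, 12488, 4140, 8244, 199936, 67072, 180, 216, 4192, 8368]) (.leaf [1, 2, 51968, 19712, 182272, 216064, 98816, 180992, 12488, 4172, 12312, 4140, 199936, 67072, 180, 216, 8368, 12496]))) (.node (.node (.leaf [1, 2, 51968, 19712, 182272, 216064, 180992, 213248, 4172, 8324, 4140, 8244, 133888, 199936, 108, 180, 4192, 8368]) (.leaf [1, 2, 51968, 19712, 182272, 216064, 213248, 98816, 8324, 12488, 8244, 12312, 67072, 133888, 216, 108, 12496, 4192])) (.node (.leaf [1, 2, 51968, 19712, 216064, 99328, 98816, 180992, 12488, 4172, 4140, 8244, 67072, 133888, 216, 108, 4192, 8368]) (.leaf [1, 2, 51968, 19712, 216064, 99328, 180992, 213248, 4172, 8324, 8244, 12312, 199936, 67072, 180, 216, 12496, 4192])))))) (.node (.node (.node (.node (.node (.leaf [1, 2, 51968, 19712, 216064, 99328, 213248, 98816, 8324, 12488, 12312, 4140, 133888, 199936, 108, 180, 8368, 12496]) (.leaf [1, 2, 52480, 17920, 100352, 183296, 99072, 180480, 8396, 12356, 4120, 8236, 134400, 198144, 116, 152, 8416, 12400])) (.node (.leaf [1, 2, 52480, 17920, 100352, 183296, 180480, 213504, 12356, 4232, 8236, 12340, 68352, 134400, 236, 116, 4240, 8416]) (.leaf [1, 2, 52480, 17920, 100352, 183296, 213504, 99072, 4232, 8396, 12340, 4120, 198144, 68352, 152, 236, 12400, 4240]))) (.node (.node (.leaf [1, 2, 52480, 17920, 183296, 214016, 99072, 180480, 8396, 12356, 8236, 12340, 198144, 68352, 152, 236, 4240, 8416]) (.leaf [1, 2, 52480, 17920, 183296, 214016, 180480, 213504, 12356, 4232, 12340, 4120, 134400, 198144, 116, 152, 12400, 4240])) (.node (.leaf [1, 2, 52480, 17920, 183296, 214016, 213504, 99072, 4232, 8396, 4120, 8236, 68352, 134400, 236, 116, 8416, 12400]) (.leaf [1, 2, 52480, 17920, 214016, 100352, 99072, 180480, 8396, 12356, 12340, 4120, 68352, 134400, 236, 116, 12400, 4240])))) (.node (.node (.node (.leaf [1, 2, 52480, 17920, 214016, 100352, 180480, 213504, 12356, 4232, 4120, 8236, 198144, 68352, 152, 236, 8416, 12400]) (.leaf [1, 2, 52480, 17920, 214016, 100352, 213504, 99072, 4232, 8396, 8236, 12340, 134400, 198144, 116, 152, 4240, 8416])) (.node (.leaf [1, 2, 52736, 18176, 117760, 148480, 115200, 148224, 4300, 8260, 4124, 8228, 69120, 132864, 220, 100, 4304, 8288]) (.leaf [1, 2, 52736, 18176, 117760, 148480, 148224, 229632, 8260, 12424, 8228, 12344, 198912, 69120, 184, 220, 12464, 4304]))) (.node (.node (.leaf [1, 2, 52736, 18176, 117760, 148480, 229632, 115200, 12424, 4300, 12344, 4124, 132864, 198912, 100, 184, 8288, 12464]) (.leaf [1, 2, 52736, 18176, 148480, 231424, 115200, 148224, 4300, 8260, 8228, 12344, 132864, 198912, 100, 184, 12464, 4304])) (.node (.leaf [1, 2, 52736, 18176, 148480, 231424, 148224, 229632, 8260, 12424, 12344, 4124, 69120, 132864, 220, 100, 8288, 12464]) (.leaf [1, 2, 52736, 18176, 148480, 231424, 229632, 115200, 12424, 4300, 4124, 8228, 198912, 69120, 184, 220, 4304, 8288]))))) (.node (.node (.node (.node (.leaf [1, 2, 52736, 18176, 231424, 117760, 115200, 148224, 4300, 8260, 12344, 4124, 198912, 69120, 184, 220, 8288, 12464]) (.leaf [1, 2, 52736, 18176, 231424, 117760, 148224, 229632, 8260, 12424, 4124, 8228, 132864, 198912, 100, 184, 4304, 8288])) (.node (.leaf [1, 2, 52736, 18176, 231424, 117760, 229632, 115200, 12424, 4300, 8228, 12344, 69120, 132864, 220, 100, 12464, 4304]) (.leaf [1, 2, 52992, 17664, 82944, 165888, 82176, 164352, 12492, 4164, 4116, 8232, 200448, 66816, 168, 252, 12528, 4176]))) (.node (.node (.leaf [1, 2, 52992, 17664, 82944, 165888, 164352, 246528, 4164, 8328, 8232, 12348, 133632, 200448, 84, 168, 8352, 12528]) (.leaf [1, 2, 52992, 17664, 82944, 165888, 246528, 82176, 8328, 12492, 12348, 4116, 66816, 133632, 252, 84, 4176, 8352])) (.node (.leaf [1, 2, 52992, 17664, 165888, 248832, 82176, 164352, 12492, 4164, 8232, 12348, 66816, 133632, 252, 84, 8352, 12528]) (.leaf [1, 2, 52992, 17664, 165888, 248832, 164352, 246528, 4164, 8328, 12348, 4116, 200448, 66816, 168, 252, 4176, 8352])))) (.node (.node (.node (.leaf [1, 2, 52992, 17664, 165888, 248832, 246528, 82176, 8328, 12492, 4116, 8232, 133632, 200448, 84, 168, 12528, 4176]) (.leaf [1, 2, 52992, 17664, 248832, 82944, 82176, 164352, 12492, 4164, 12348, 4116, 133632, 200448, 84, 168, 4176, 8352])) (.node (.leaf [1, 2, 52992, 17664, 248832, 82944, 164352, 246528, 4164, 8328, 4116, 8232, 66816, 133632, 252, 84, 12528, 4176]) (.leaf [1, 2, 52992, 17664, 248832, 82944, 246528, 82176, 8328, 12492, 8232, 12348, 200448, 66816, 168, 252, 8352, 12528]))) (.node (.node (.leaf [1, 2, 65536, 131072, 256, 512, 16384, 32768, 64, 128, 16, 32, 1024, 2048, 4, 8, 4096, 8192]) (.leaf [1, 2, 65536, 131072, 256, 512, 32768, 49152, 128, 192, 32, 48, 3072, 1024, 12, 4, 12288, 4096])) (.node (.leaf [1, 2, 65536, 131072, 256, 512, 49152, 16384, 192, 64, 48, 16, 2048, 3072, 8, 12, 8192, 12288]) (.leaf [1, 2, 65536, 131072, 512, 768, 16384, 32768, 64, 128, 32, 48, 2048, 3072, 8, 12, 12288, 4096])))))))) (.node (.node (.node (.node (.node (.node (.node (.leaf [1, 2, 65536, 131072, 512, 768, 32768, 49152, 128, 192, 48, 16, 1024, 2048, 4, 8, 8192, 12288]) (.leaf [1, 2, 65536, 131072, 512, 768, 49152, 16384, 192, 64, 16, 32, 3072, 1024, 12, 4, 4096, 8192])) (.node (.leaf [1, 2, 65536, 131072, 768, 256, 16384, 32768, 64, 128, 48, 16, 3072, 1024, 12, 4, 8192, 12288]) (.leaf [1, 2, 65536, 131072, 768, 256, 32768, 49152, 128, 192, 16, 32, 2048, 3072, 8, 12, 4096, 8192]))) (.node (.node (.leaf [1, 2, 65536, 131072, 768, 256, 49152, 16384, 192, 64, 32, 48, 1024, 2048, 4, 8, 12288, 4096]) (.leaf [1, 2, 66816, 133632, 82176, 164352, 17664, 35328, 84, 168, 4164, 8328, 82944, 165888, 4176, 8352, 4116, 8232])) (.node (.leaf [1, 2, 66816, 133632, 82176, 164352, 35328, 52992, 168, 252, 8328, 12492, 248832, 82944, 12528, 4176, 12348, 4116]) (.leaf [1, 2, 66816, 133632, 82176, 164352, 52992, 17664, 252, 84, 12492, 4164, 165888, 248832, 8352, 12528, 8232, 12348])))) (.node (.node (.node (.leaf [1, 2, 66816, 133632, 164352, 246528, 17664, 35328, 84, 168, 8328, 12492, 165888, 248832, 8352, 12528, 12348, 4116]) (.leaf [1, 2, 66816, 133632, 164352, 246528, 35328, 52992, 168, 252, 12492, 4164, 82944, 165888, 4176, 8352, 8232, 12348])) (.node (.leaf [1, 2, 66816, 133632, 164352, 246528, 52992, 17664, 252, 84, 4164, 8328, 248832, 82944, 12528, 4176, 4116, 8232]) (.leaf [1, 2, 66816, 133632, 246528, 82176, 17664, 35328, 84, 168, 12492, 4164, 248832, 82944, 12528, 4176, 8232, 12348]))) (.node (.node (.leaf [1, 2, 66816, 133632, 246528, 82176, 35328, 52992, 168, 252, 4164, 8328, 165888, 248832, 8352, 12528, 4116, 8232]) (.leaf [1, 2, 66816, 133632, 246528, 82176, 52992, 17664, 252, 84, 8328, 12492, 82944, 165888, 4176, 8352, 12348, 4116])) (.node (.leaf [1, 2, 67072, 133888, 98816, 180992, 19712, 34304, 108, 180, 4172, 8324, 182272, 216064, 12496, 4192, 12312, 4140]) (.leaf [1, 2, 67072, 133888, 98816, 180992, 34304, 51968, 180, 216, 8324, 12488, 99328, 182272, 8368, 12496, 8244, 12312]))))) (.node (.node (.node (.node (.leaf [1, 2, 67072, 133888, 98816, 180992, 51968, 19712, 216, 108, 12488, 4172, 216064, 99328, 4192, 8368, 4140, 8244]) (.leaf [1, 2, 67072, 133888, 180992, 213248, 19712, 34304, 108, 180, 8324, 12488, 216064, 99328, 4192, 8368, 8244, 12312])) (.node (.leaf [1, 2, 67072, 133888, 180992, 213248, 34304, 51968, 180, 216, 12488, 4172, 182272, 216064, 12496, 4192, 4140, 8244]) (.leaf [1, 2, 67072, 133888, 180992, 213248, 51968, 19712, 216, 108, 4172, 8324, 99328, 182272, 8368, 12496, 12312, 4140]))) (.node (.node (.leaf [1, 2, 67072, 133888, 213248, 98816, 19712, 34304, 108, 180, 12488, 4172, 99328, 182272, 8368, 12496, 4140, 8244]) (.leaf [1, 2, 67072, 133888, 213248, 98816, 34304, 51968, 180, 216, 4172, 8324, 216064, 99328, 4192, 8368, 12312, 4140])) (.node (.leaf [1, 2, 67072, 133888, 213248, 98816, 51968, 19712, 216, 108, 8324, 12488, 182272, 216064, 12496, 4192, 8244, 12312]) (.leaf [1, 2, 67328, 133376, 115456, 147712, 18688, 36352, 120, 156, 4168, 8332, 232448, 115712, 8336, 12512, 8220, 12324])))) (.node (.node (.node (.leaf [1, 2, 67328, 133376, 115456, 147712, 36352, 50944, 156, 228, 8332, 12484, 149504, 232448, 4208, 8336, 4152, 8220]) (.leaf [1, 2, 67328, 133376, 115456, 147712, 50944, 18688, 228, 120, 12484, 4168, 115712, 149504, 12512, 4208, 12324, 4152])) (.node (.leaf [1, 2, 67328, 133376, 147712, 229888, 18688, 36352, 120, 156, 8332, 12484, 115712, 149504, 12512, 4208, 4152, 8220]) (.leaf [1, 2, 67328, 133376, 147712, 229888, 36352, 50944, 156, 228, 12484, 4168, 232448, 115712, 8336, 12512, 12324, 4152]))) (.node (.node (.leaf [1, 2, 67328, 133376, 147712, 229888, 50944, 18688, 228, 120, 4168, 8332, 149504, 232448, 4208, 8336, 8220, 12324]) (.leaf [1, 2, 67328, 133376, 229888, 115456, 18688, 36352, 120, 156, 12484, 4168, 149504, 232448, 4208, 8336, 12324, 4152])) (.node (.leaf [1, 2, 67328, 133376, 229888, 115456, 36352, 50944, 156, 228, 4168, 8332, 115712, 149504, 12512, 4208, 8220, 12324]) (.leaf [1, 2, 67328, 133376, 229888, 115456, 50944, 18688, 228, 120, 8332, 12484, 232448, 115712, 8336, 12512, 4152, 8220])))))) (.node (.node (.node (.node (.node (.leaf [1, 2, 67840, 134656, 114944, 147968, 19968, 34560, 92, 164, 12364, 4228, 230400, 116736, 4256, 8432, 4132, 8248]) (.leaf [1, 2, 67840, 134656, 114944, 147968, 34560, 51456, 164, 248, 4228, 8392, 150528, 230400, 12368, 4256, 12316, 4132])) (.node (.leaf [1, 2, 67840, 134656, 114944, 147968, 51456, 19968, 248, 92, 8392, 12364, 116736, 150528, 8432, 12368, 8248, 12316]) (.leaf [1, 2, 67840, 134656, 147968, 230144, 19968, 34560, 92, 164, 4228, 8392, 116736, 150528, 8432, 12368, 12316, 4132]))) (.node (.node (.leaf [1, 2, 67840, 134656, 147968, 230144, 34560, 51456, 164, 248, 8392, 12364, 230400, 116736, 4256, 8432, 8248, 12316]) (.leaf [1, 2, 67840, 134656, 147968, 230144, 51456, 19968, 248, 92, 12364, 4228, 150528, 230400, 12368, 4256, 4132, 8248])) (.node (.leaf [1, 2, 67840, 134656, 230144, 114944, 19968, 34560, 92, 164, 8392, 12364, 150528, 230400, 12368, 4256, 8248, 12316]) (.leaf [1, 2, 67840, 134656, 230144, 114944, 34560, 51456, 164, 248, 12364, 4228, 116736, 150528, 8432, 12368, 4132, 8248])))) (.node (.node (.node (.leaf [1, 2, 67840, 134656, 230144, 114944, 51456, 19968, 248, 92, 4228, 8392, 230400, 116736, 4256, 8432, 12316, 4132]) (.leaf [1, 2, 68096, 134912, 82432, 164608, 18944, 36608, 104, 188, 12360, 4236, 83968, 166912, 12384, 4272, 12328, 4156])) (.node (.leaf [1, 2, 68096, 134912, 82432, 164608, 36608, 50432, 188, 212, 4236, 8388, 246784, 83968, 8400, 12384, 8212, 12328]) (.leaf [1, 2, 68096, 134912, 82432, 164608, 50432, 18944, 212, 104, 8388, 12360, 166912, 246784, 4272, 8400, 4156, 8212]))) (.node (.node (.leaf [1, 2, 68096, 134912, 164608, 246016, 18944, 36608, 104, 188, 4236, 8388, 166912, 246784, 4272, 8400, 8212, 12328]) (.leaf [1, 2, 68096, 134912, 164608, 246016, 36608, 50432, 188, 212, 8388, 12360, 83968, 166912, 12384, 4272, 4156, 8212])) (.node (.leaf [1, 2, 68096, 134912, 164608, 246016, 50432, 18944, 212, 104, 12360, 4236, 246784, 83968, 8400, 12384, 12328, 4156]) (.leaf [1, 2, 68096, 134912, 246016, 82432, 18944, 36608, 104, 188, 8388, 12360, 246784, 83968, 8400, 12384, 4156, 8212]))))) (.node (.node (.node (.node (.leaf [1, 2, 68096, 134912, 246016, 82432, 36608, 50432, 188, 212, 12360, 4236, 166912, 246784, 4272, 8400, 12328, 4156]) (.leaf [1, 2, 68096, 134912, 246016, 82432, 50432, 18944, 212, 104, 4236, 8388, 83968, 166912, 12384, 4272, 8212, 12328])) (.node (.leaf [1, 2, 68352, 134400, 99072, 180480, 17920, 35584, 116, 152, 12356, 4232, 183296, 214016, 8416, 12400, 8236, 12340]) (.leaf [1, 2, 68352, 134400, 99072, 180480, 35584, 52480, 152, 236, 4232, 8396, 100352, 183296, 4240, 8416, 4120, 8236]))) (.node (.node (.leaf [1, 2, 68352, 134400, 99072, 180480, 52480, 17920, 236, 116, 8396, 12356, 214016, 100352, 12400, 4240, 12340, 4120]) (.leaf [1, 2, 68352, 134400, 180480, 213504, 17920, 35584, 116, 152, 4232, 8396, 214016, 100352, 12400, 4240, 4120, 8236])) (.node (.leaf [1, 2, 68352, 134400, 180480, 213504, 35584, 52480, 152, 236, 8396, 12356, 183296, 214016, 8416, 12400, 12340, 4120]) (.leaf [1, 2, 68352, 134400, 180480, 213504, 52480, 17920, 236, 116, 12356, 4232, 100352, 183296, 4240, 8416, 8236, 12340])))) (.node (.node (.node (.leaf [1, 2, 68352, 134400, 213504, 99072, 17920, 35584, 116, 152, 8396, 12356, 100352, 183296, 4240, 8416, 12340, 4120]) (.leaf [1, 2, 68352, 134400, 213504, 99072, 35584, 52480, 152, 236, 12356, 4232, 214016, 100352, 12400, 4240, 8236, 12340])) (.node (.leaf [1, 2, 68352, 134400, 213504, 99072, 52480, 17920, 236, 116, 4232, 8396, 183296, 214016, 8416, 12400, 4120, 8236]) (.leaf [1, 2, 68864, 132608, 98560, 180736, 19200, 36096, 88, 172, 8264, 12428, 181248, 215040, 4336, 8272, 4148, 8216]))) (.node (.node (.leaf [1, 2, 68864, 132608, 98560, 180736, 36096, 50688, 172, 244, 12428, 4292, 101376, 181248, 12448, 4336, 12332, 4148]) (.leaf [1, 2, 68864, 132608, 98560, 180736, 50688, 19200, 244, 88, 4292, 8264, 215040, 101376, 8272, 12448, 8216, 12332])) (.node (.leaf [1, 2, 68864, 132608, 180736, 213760, 19200, 36096, 88, 172, 12428, 4292, 215040, 101376, 8272, 12448, 12332, 4148]) (.leaf [1, 2, 68864, 132608, 180736, 213760, 36096, 50688, 172, 244, 4292, 8264, 181248, 215040, 4336, 8272, 8216, 12332]))))))) (.node (.node (.node (.node (.node (.node (.leaf [1, 2, 68864, 132608, 180736, 213760, 50688, 19200, 244, 88, 8264, 12428, 101376, 181248, 12448, 4336, 4148, 8216]) (.leaf [1, 2, 68864, 132608, 213760, 98560, 19200, 36096, 88, 172, 4292, 8264, 101376, 181248, 12448, 4336, 8216, 12332])) (.node (.leaf [1, 2, 68864, 132608, 213760, 98560, 36096, 50688, 172, 244, 8264, 12428, 215040, 101376, 8272, 12448, 4148, 8216]) (.leaf [1, 2, 68864, 132608, 213760, 98560, 50688, 19200, 244, 88, 12428, 4292, 181248, 215040, 4336, 8272, 12332, 4148]))) (.node (.node (.leaf [1, 2, 69120, 132864, 115200, 148224, 18176, 35072, 100, 184, 8260, 12424, 231424, 117760, 12464, 4304, 12344, 4124]) (.leaf [1, 2, 69120, 132864, 115200, 148224, 35072, 52736, 184, 220, 12424, 4300, 148480, 231424, 8288, 12464, 8228, 12344])) (.node (.leaf [1, 2, 69120, 132864, 115200, 148224, 52736, 18176, 220, 100, 4300, 8260, 117760, 148480, 4304, 8288, 4124, 8228]) (.leaf [1, 2, 69120, 132864, 148224, 229632, 18176, 35072, 100, 184, 12424, 4300, 117760, 148480, 4304, 8288, 8228, 12344])))) (.node (.node (.node (.leaf [1, 2, 69120, 132864, 148224, 229632, 35072, 52736, 184, 220, 4300, 8260, 231424, 117760, 12464, 4304, 4124, 8228]) (.leaf [1, 2, 69120, 132864, 148224, 229632, 52736, 18176, 220, 100, 8260, 12424, 148480, 231424, 8288, 12464, 12344, 4124])) (.node (.leaf [1, 2, 69120, 132864, 229632, 115200, 18176, 35072, 100, 184, 4300, 8260, 148480, 231424, 8288, 12464, 4124, 8228]) (.leaf [1, 2, 69120, 132864, 229632, 115200, 35072, 52736, 184, 220, 8260, 12424, 117760, 148480, 4304, 8288, 12344, 4124]))) (.node (.node (.leaf [1, 2, 69120, 132864, 229632, 115200, 52736, 18176, 220, 100, 12424, 4300, 231424, 117760, 12464, 4304, 8228, 12344]) (.leaf [1, 2, 69376, 132352, 82688, 164096, 20224, 34048, 124, 148, 8268, 12420, 84992, 164864, 8304, 12432, 8252, 12308])) (.node (.leaf [1, 2, 69376, 132352, 82688, 164096, 34048, 51712, 148, 232, 12420, 4296, 247808, 84992, 4320, 8304, 4136, 8252]) (.leaf [1, 2, 69376, 132352, 82688, 164096, 51712, 20224, 232, 124, 4296, 8268, 164864, 247808, 12432, 4320, 12308, 4136]))))) (.node (.node (.node (.node (.leaf [1, 2, 69376, 132352, 164096, 246272, 20224, 34048, 124, 148, 12420, 4296, 164864, 247808, 12432, 4320, 4136, 8252]) (.leaf [1, 2, 69376, 132352, 164096, 246272, 34048, 51712, 148, 232, 4296, 8268, 84992, 164864, 8304, 12432, 12308, 4136])) (.node (.leaf [1, 2, 69376, 132352, 164096, 246272, 51712, 20224, 232, 124, 8268, 12420, 247808, 84992, 4320, 8304, 8252, 12308]) (.leaf [1, 2, 69376, 132352, 246272, 82688, 20224, 34048, 124, 148, 4296, 8268, 247808, 84992, 4320, 8304, 12308, 4136]))) (.node (.node (.leaf [1, 2, 69376, 132352, 246272, 82688, 34048, 51712, 148, 232, 8268, 12420, 164864, 247808, 12432, 4320, 8252, 12308]) (.leaf [1, 2, 69376, 132352, 246272, 82688, 51712, 20224, 232, 124, 12420, 4296, 84992, 164864, 8304, 12432, 4136, 8252])) (.node (.leaf [1, 2, 82176, 164352, 66816, 133632, 82944, 165888, 4116, 8232, 4176, 8352, 17664, 35328, 4164, 8328, 84, 168]) (.leaf [1, 2, 82176, 164352, 66816, 133632, 165888, 248832, 8232, 12348, 8352, 12528, 52992, 17664, 12492, 4164, 252, 84])))) (.node (.node (.node (.leaf [1, 2, 82176, 164352, 66816, 133632, 248832, 82944, 12348, 4116, 12528, 4176, 35328, 52992, 8328, 12492, 168, 252]) (.leaf [1, 2, 82176, 164352, 133632, 200448, 82944, 165888, 4116, 8232, 8352, 12528, 35328, 52992, 8328, 12492, 252, 84])) (.node (.leaf [1, 2, 82176, 164352, 133632, 200448, 165888, 248832, 8232, 12348, 12528, 4176, 17664, 35328, 4164, 8328, 168, 252]) (.leaf [1, 2, 82176, 164352, 133632, 200448, 248832, 82944, 12348, 4116, 4176, 8352, 52992, 17664, 12492, 4164, 84, 168]))) (.node (.node (.leaf [1, 2, 82176, 164352, 200448, 66816, 82944, 165888, 4116, 8232, 12528, 4176, 52992, 17664, 12492, 4164, 168, 252]) (.leaf [1, 2, 82176, 164352, 200448, 66816, 165888, 248832, 8232, 12348, 4176, 8352, 35328, 52992, 8328, 12492, 84, 168])) (.node (.leaf [1, 2, 82176, 164352, 200448, 66816, 248832, 82944, 12348, 4116, 8352, 12528, 17664, 35328, 4164, 8328, 252, 84]) (.leaf [1, 2, 82432, 164608, 68096, 134912, 83968, 166912, 12328, 4156, 12384, 4272, 18944, 36608, 12360, 4236, 104, 188])))))) (.node (.node (.node (.node (.node (.leaf [1, 2, 82432, 164608, 68096, 134912, 166912, 246784, 4156, 8212, 4272, 8400, 50432, 18944, 8388, 12360, 212, 104]) (.leaf [1, 2, 82432, 164608, 68096, 134912, 246784, 83968, 8212, 12328, 8400, 12384, 36608, 50432, 4236, 8388, 188, 212])) (.node (.leaf [1, 2, 82432, 164608, 134912, 197888, 83968, 166912, 12328, 4156, 4272, 8400, 36608, 50432, 4236, 8388, 212, 104]) (.leaf [1, 2, 82432, 164608, 134912, 197888, 166912, 246784, 4156, 8212, 8400, 12384, 18944, 36608, 12360, 4236, 188, 212]))) (.node (.node (.leaf [1, 2, 82432, 164608, 134912, 197888, 246784, 83968, 8212, 12328, 12384, 4272, 50432, 18944, 8388, 12360, 104, 188]) (.leaf [1, 2, 82432, 164608, 197888, 68096, 83968, 166912, 12328, 4156, 8400, 12384, 50432, 18944, 8388, 12360, 188, 212])) (.node (.leaf [1, 2, 82432, 164608, 197888, 68096, 166912, 246784, 4156, 8212, 12384, 4272, 36608, 50432, 4236, 8388, 104, 188]) (.leaf [1, 2, 82432, 164608, 197888, 68096, 246784, 83968, 8212, 12328, 4272, 8400, 18944, 36608, 12360, 4236, 212, 104])))) (.node (.node (.node (.leaf [1, 2, 82688, 164096, 69376, 132352, 84992, 164864, 8252, 12308, 8304, 12432, 20224, 34048, 8268, 12420, 124, 148]) (.leaf [1, 2, 82688, 164096, 69376, 132352, 164864, 247808, 12308, 4136, 12432, 4320, 51712, 20224, 4296, 8268, 232, 124])) (.node (.leaf [1, 2, 82688, 164096, 69376, 132352, 247808, 84992, 4136, 8252, 4320, 8304, 34048, 51712, 12420, 4296, 148, 232]) (.leaf [1, 2, 82688, 164096, 132352, 199168, 84992, 164864, 8252, 12308, 12432, 4320, 34048, 51712, 12420, 4296, 232, 124]))) (.node (.node (.leaf [1, 2, 82688, 164096, 132352, 199168, 164864, 247808, 12308, 4136, 4320, 8304, 20224, 34048, 8268, 12420, 148, 232]) (.leaf [1, 2, 82688, 164096, 132352, 199168, 247808, 84992, 4136, 8252, 8304, 12432, 51712, 20224, 4296, 8268, 124, 148])) (.node (.leaf [1, 2, 82688, 164096, 199168, 69376, 84992, 164864, 8252, 12308, 4320, 8304, 51712, 20224, 4296, 8268, 148, 232]) (.leaf [1, 2, 82688, 164096, 199168, 69376, 164864, 247808, 12308, 4136, 8304, 12432, 34048, 51712, 12420, 4296, 124, 148]))))) (.node (.node (.node (.node (.leaf [1, 2, 82688, 164096, 199168, 69376, 247808, 84992, 4136, 8252, 12432, 4320, 20224, 34048, 8268, 12420, 232, 124]) (.leaf [1, 2, 82944, 165888, 17664, 35328, 66816, 133632, 4176, 8352, 84, 168, 82176, 164352, 4116, 8232, 4164, 8328])) (.node (.leaf [1, 2, 82944, 165888, 17664, 35328, 133632, 200448, 8352, 12528, 168, 252, 246528, 82176, 12348, 4116, 12492, 4164]) (.leaf [1, 2, 82944, 165888, 17664, 35328, 200448, 66816, 12528, 4176, 252, 84, 164352, 246528, 8232, 12348, 8328, 12492]))) (.node (.node (.leaf [1, 2, 82944, 165888, 35328, 52992, 66816, 133632, 4176, 8352, 168, 252, 164352, 246528, 8232, 12348, 12492, 4164]) (.leaf [1, 2, 82944, 165888, 35328, 52992, 133632, 200448, 8352, 12528, 252, 84, 82176, 164352, 4116, 8232, 8328, 12492])) (.node (.leaf [1, 2, 82944, 165888, 35328, 52992, 200448, 66816, 12528, 4176, 84, 168, 246528, 82176, 12348, 4116, 4164, 8328]) (.leaf [1, 2, 82944, 165888, 52992, 17664, 66816, 133632, 4176, 8352, 252, 84, 246528, 82176, 12348, 4116, 8328, 12492])))) (.node (.node (.node (.leaf [1, 2, 82944, 165888, 52992, 17664, 133632, 200448, 8352, 12528, 84, 168, 164352, 246528, 8232, 12348, 4164, 8328]) (.leaf [1, 2, 82944, 165888, 52992, 17664, 200448, 66816, 12528, 4176, 168, 252, 82176, 164352, 4116, 8232, 12492, 4164])) (.node (.leaf [1, 2, 83968, 166912, 18944, 36608, 68096, 134912, 12384, 4272, 104, 188, 82432, 164608, 12328, 4156, 12360, 4236]) (.leaf [1, 2, 83968, 166912, 18944, 36608, 134912, 197888, 4272, 8400, 188, 212, 246016, 82432, 8212, 12328, 8388, 12360]))) (.node (.node (.leaf [1, 2, 83968, 166912, 18944, 36608, 197888, 68096, 8400, 12384, 212, 104, 164608, 246016, 4156, 8212, 4236, 8388]) (.leaf [1, 2, 83968, 166912, 36608, 50432, 68096, 134912, 12384, 4272, 188, 212, 164608, 246016, 4156, 8212, 8388, 12360])) (.node (.leaf [1, 2, 83968, 166912, 36608, 50432, 134912, 197888, 4272, 8400, 212, 104, 82432, 164608, 12328, 4156, 4236, 8388]) (.leaf [1, 2, 83968, 166912, 36608, 50432, 197888, 68096, 8400, 12384, 104, 188, 246016, 82432, 8212, 12328, 12360, 4236])))))))))) (.node (.node (.node (.node (.node (.node (.node (.node (.node (.leaf [1, 2, 83968, 166912, 50432, 18944, 68096, 134912, 12384, 4272, 212, 104, 246016, 82432, 8212, 12328, 4236, 8388]) (.leaf [1, 2, 83968, 166912, 50432, 18944, 134912, 197888, 4272, 8400, 104, 188, 164608, 246016, 4156, 8212, 12360, 4236])) (.node (.leaf [1, 2, 83968, 166912, 50432, 18944, 197888, 68096, 8400, 12384, 188, 212, 82432, 164608, 12328, 4156, 8388, 12360]) (.leaf [1, 2, 84992, 164864, 20224, 34048, 69376, 132352, 8304, 12432, 124, 148, 82688, 164096, 8252, 12308, 8268, 12420]))) (.node (.node (.leaf [1, 2, 84992, 164864, 20224, 34048, 132352, 199168, 12432, 4320, 148, 232, 246272, 82688, 4136, 8252, 4296, 8268]) (.leaf [1, 2, 84992, 164864, 20224, 34048, 199168, 69376, 4320, 8304, 232, 124, 164096, 246272, 12308, 4136, 12420, 4296])) (.node (.leaf [1, 2, 84992, 164864, 34048, 51712, 69376, 132352, 8304, 12432, 148, 232, 164096, 246272, 12308, 4136, 4296, 8268]) (.leaf [1, 2, 84992, 164864, 34048, 51712, 132352, 199168, 12432, 4320, 232, 124, 82688, 164096, 8252, 12308, 12420, 4296])))) (.node (.node (.node (.leaf [1, 2, 84992, 164864, 34048, 51712, 199168, 69376, 4320, 8304, 124, 148, 246272, 82688, 4136, 8252, 8268, 12420]) (.leaf [1, 2, 84992, 164864, 51712, 20224, 69376, 132352, 8304, 12432, 232, 124, 246272, 82688, 4136, 8252, 12420, 4296])) (.node (.leaf [1, 2, 84992, 164864, 51712, 20224, 132352, 199168, 12432, 4320, 124, 148, 164096, 246272, 12308, 4136, 8268, 12420]) (.leaf [1, 2, 84992, 164864, 51712, 20224, 199168, 69376, 4320, 8304, 148, 232, 82688, 164096, 8252, 12308, 4296, 8268]))) (.node (.node (.leaf [1, 2, 98560, 180736, 68864, 132608, 101376, 181248, 12332, 4148, 12448, 4336, 36096, 50688, 12428, 4292, 172, 244]) (.leaf [1, 2, 98560, 180736, 68864, 132608, 181248, 215040, 4148, 8216, 4336, 8272, 19200, 36096, 8264, 12428, 88, 172])) (.node (.leaf [1, 2, 98560, 180736, 68864, 132608, 215040, 101376, 8216, 12332, 8272, 12448, 50688, 19200, 4292, 8264, 244, 88]) (.leaf [1, 2, 98560, 180736, 132608, 199424, 101376, 181248, 12332, 4148, 4336, 8272, 50688, 19200, 4292, 8264, 88, 172]))))) (.node (.node (.node (.node (.leaf [1, 2, 98560, 180736, 132608, 199424, 181248, 215040, 4148, 8216, 8272, 12448, 36096, 50688, 12428, 4292, 244, 88]) (.leaf [1, 2, 98560, 180736, 132608, 199424, 215040, 101376, 8216, 12332, 12448, 4336, 19200, 36096, 8264, 12428, 172, 244])) (.node (.leaf [1, 2, 98560, 180736, 199424, 68864, 101376, 181248, 12332, 4148, 8272, 12448, 19200, 36096, 8264, 12428, 244, 88]) (.leaf [1, 2, 98560, 180736, 199424, 68864, 181248, 215040, 4148, 8216, 12448, 4336, 50688, 19200, 4292, 8264, 172, 244]))) (.node (.node (.leaf [1, 2, 98560, 180736, 199424, 68864, 215040, 101376, 8216, 12332, 4336, 8272, 36096, 50688, 12428, 4292, 88, 172]) (.leaf [1, 2, 98816, 180992, 67072, 133888, 99328, 182272, 8244, 12312, 8368, 12496, 34304, 51968, 8324, 12488, 180, 216])) (.node (.leaf [1, 2, 98816, 180992, 67072, 133888, 182272, 216064, 12312, 4140, 12496, 4192, 19712, 34304, 4172, 8324, 108, 180]) (.leaf [1, 2, 98816, 180992, 67072, 133888, 216064, 99328, 4140, 8244, 4192, 8368, 51968, 19712, 12488, 4172, 216, 108])))) (.node (.node (.node (.leaf [1, 2, 98816, 180992, 133888, 199936, 99328, 182272, 8244, 12312, 12496, 4192, 51968, 19712, 12488, 4172, 108, 180]) (.leaf [1, 2, 98816, 180992, 133888, 199936, 182272, 216064, 12312, 4140, 4192, 8368, 34304, 51968, 8324, 12488, 216, 108])) (.node (.leaf [1, 2, 98816, 180992, 133888, 199936, 216064, 99328, 4140, 8244, 8368, 12496, 19712, 34304, 4172, 8324, 180, 216]) (.leaf [1, 2, 98816, 180992, 199936, 67072, 99328, 182272, 8244, 12312, 4192, 8368, 19712, 34304, 4172, 8324, 216, 108]))) (.node (.node (.leaf [1, 2, 98816, 180992, 199936, 67072, 182272, 216064, 12312, 4140, 8368, 12496, 51968, 19712, 12488, 4172, 180, 216]) (.leaf [1, 2, 98816, 180992, 199936, 67072, 216064, 99328, 4140, 8244, 12496, 4192, 34304, 51968, 8324, 12488, 108, 180])) (.node (.leaf [1, 2, 99072, 180480, 68352, 134400, 100352, 183296, 4120, 8236, 4240, 8416, 35584, 52480, 4232, 8396, 152, 236]) (.leaf [1, 2, 99072, 180480, 68352, 134400, 183296, 214016, 8236, 12340, 8416, 12400, 17920, 35584, 12356, 4232, 116, 152])))))) (.node (.node (.node (.node (.node (.leaf [1, 2, 99072, 180480, 68352, 134400, 214016, 100352, 12340, 4120, 12400, 4240, 52480, 17920, 8396, 12356, 236, 116]) (.leaf [1, 2, 99072, 180480, 134400, 198144, 100352, 183296, 4120, 8236, 8416, 12400, 52480, 17920, 8396, 12356, 116, 152])) (.node (.leaf [1, 2, 99072, 180480, 134400, 198144, 183296, 214016, 8236, 12340, 12400, 4240, 35584, 52480, 4232, 8396, 236, 116]) (.leaf [1, 2, 99072, 180480, 134400, 198144, 214016, 100352, 12340, 4120, 4240, 8416, 17920, 35584, 12356, 4232, 152, 236]))) (.node (.node (.leaf [1, 2, 99072, 180480, 198144, 68352, 100352, 183296, 4120, 8236, 12400, 4240, 17920, 35584, 12356, 4232, 236, 116]) (.leaf [1, 2, 99072, 180480, 198144, 68352, 183296, 214016, 8236, 12340, 4240, 8416, 52480, 17920, 8396, 12356, 152, 236])) (.node (.leaf [1, 2, 99072, 180480, 198144, 68352, 214016, 100352, 12340, 4120, 8416, 12400, 35584, 52480, 4232, 8396, 116, 152]) (.leaf [1, 2, 99328, 182272, 19712, 34304, 67072, 133888, 8368, 12496, 108, 180, 213248, 98816, 4140, 8244, 12488, 4172])))) (.node (.node (.node (.leaf [1, 2, 99328, 182272, 19712, 34304, 133888, 199936, 12496, 4192, 180, 216, 180992, 213248, 12312, 4140, 8324, 12488]) (.leaf [1, 2, 99328, 182272, 19712, 34304, 199936, 67072, 4192, 8368, 216, 108, 98816, 180992, 8244, 12312, 4172, 8324])) (.node (.leaf [1, 2, 99328, 182272, 34304, 51968, 67072, 133888, 8368, 12496, 180, 216, 98816, 180992, 8244, 12312, 8324, 12488]) (.leaf [1, 2, 99328, 182272, 34304, 51968, 133888, 199936, 12496, 4192, 216, 108, 213248, 98816, 4140, 8244, 4172, 8324]))) (.node (.node (.leaf [1, 2, 99328, 182272, 34304, 51968, 199936, 67072, 4192, 8368, 108, 180, 180992, 213248, 12312, 4140, 12488, 4172]) (.leaf [1, 2, 99328, 182272, 51968, 19712, 67072, 133888, 8368, 12496, 216, 108, 180992, 213248, 12312, 4140, 4172, 8324])) (.node (.leaf [1, 2, 99328, 182272, 51968, 19712, 133888, 199936, 12496, 4192, 108, 180, 98816, 180992, 8244, 12312, 12488, 4172]) (.leaf [1, 2, 99328, 182272, 51968, 19712, 199936, 67072, 4192, 8368, 180, 216, 213248, 98816, 4140, 8244, 8324, 12488]))))) (.node (.node (.node (.node (.leaf [1, 2, 100352, 183296, 17920, 35584, 68352, 134400, 4240, 8416, 116, 152, 213504, 99072, 12340, 4120, 8396, 12356]) (.leaf [1, 2, 100352, 183296, 17920, 35584, 134400, 198144, 8416, 12400, 152, 236, 180480, 213504, 8236, 12340, 4232, 8396])) (.node (.leaf [1, 2, 100352, 183296, 17920, 35584, 198144, 68352, 12400, 4240, 236, 116, 99072, 180480, 4120, 8236, 12356, 4232]) (.leaf [1, 2, 100352, 183296, 35584, 52480, 68352, 134400, 4240, 8416, 152, 236, 99072, 180480, 4120, 8236, 4232, 8396]))) (.node (.node (.leaf [1, 2, 100352, 183296, 35584, 52480, 134400, 198144, 8416, 12400, 236, 116, 213504, 99072, 12340, 4120, 12356, 4232]) (.leaf [1, 2, 100352, 183296, 35584, 52480, 198144, 68352, 12400, 4240, 116, 152, 180480, 213504, 8236, 12340, 8396, 12356])) (.node (.leaf [1, 2, 100352, 183296, 52480, 17920, 68352, 134400, 4240, 8416, 236, 116, 180480, 213504, 8236, 12340, 12356, 4232]) (.leaf [1, 2, 100352, 183296, 52480, 17920, 134400, 198144, 8416, 12400, 116, 152, 99072, 180480, 4120, 8236, 8396, 12356])))) (.node (.node (.node (.leaf [1, 2, 100352, 183296, 52480, 17920, 198144, 68352, 12400, 4240, 152, 236, 213504, 99072, 12340, 4120, 4232, 8396]) (.leaf [1, 2, 101376, 181248, 19200, 36096, 68864, 132608, 12448, 4336, 88, 172, 213760, 98560, 8216, 12332, 4292, 8264])) (.node (.leaf [1, 2, 101376, 181248, 19200, 36096, 132608, 199424, 4336, 8272, 172, 244, 180736, 213760, 4148, 8216, 12428, 4292]) (.leaf [1, 2, 101376, 181248, 19200, 36096, 199424, 68864, 8272, 12448, 244, 88, 98560, 180736, 12332, 4148, 8264, 12428]))) (.node (.node (.leaf [1, 2, 101376, 181248, 36096, 50688, 68864, 132608, 12448, 4336, 172, 244, 98560, 180736, 12332, 4148, 12428, 4292]) (.leaf [1, 2, 101376, 181248, 36096, 50688, 132608, 199424, 4336, 8272, 244, 88, 213760, 98560, 8216, 12332, 8264, 12428])) (.node (.leaf [1, 2, 101376, 181248, 36096, 50688, 199424, 68864, 8272, 12448, 88, 172, 180736, 213760, 4148, 8216, 4292, 8264]) (.leaf [1, 2, 101376, 181248, 50688, 19200, 68864, 132608, 12448, 4336, 244, 88, 180736, 213760, 4148, 8216, 8264, 12428]))))))) (.node (.node (.node (.node (.node (.node (.leaf [1, 2, 101376, 181248, 50688, 19200, 132608, 199424, 4336, 8272, 88, 172, 98560, 180736, 12332, 4148, 4292, 8264]) (.leaf [1, 2, 101376, 181248, 50688, 19200, 199424, 68864, 8272, 12448, 172, 244, 213760, 98560, 8216, 12332, 12428, 4292])) (.node (.leaf [1, 2, 114944, 147968, 67840, 134656, 116736, 150528, 8248, 12316, 8432, 12368, 51456, 19968, 8392, 12364, 248, 92]) (.leaf [1, 2, 114944, 147968, 67840, 134656, 150528, 230400, 12316, 4132, 12368, 4256, 34560, 51456, 4228, 8392, 164, 248]))) (.node (.node (.leaf [1, 2, 114944, 147968, 67840, 134656, 230400, 116736, 4132, 8248, 4256, 8432, 19968, 34560, 12364, 4228, 92, 164]) (.leaf [1, 2, 114944, 147968, 134656, 198400, 116736, 150528, 8248, 12316, 12368, 4256, 19968, 34560, 12364, 4228, 164, 248])) (.node (.leaf [1, 2, 114944, 147968, 134656, 198400, 150528, 230400, 12316, 4132, 4256, 8432, 51456, 19968, 8392, 12364, 92, 164]) (.leaf [1, 2, 114944, 147968, 134656, 198400, 230400, 116736, 4132, 8248, 8432, 12368, 34560, 51456, 4228, 8392, 248, 92])))) (.node (.node (.node (.leaf [1, 2, 114944, 147968, 198400, 67840, 116736, 150528, 8248, 12316, 4256, 8432, 34560, 51456, 4228, 8392, 92, 164]) (.leaf [1, 2, 114944, 147968, 198400, 67840, 150528, 230400, 12316, 4132, 8432, 12368, 19968, 34560, 12364, 4228, 248, 92])) (.node (.leaf [1, 2, 114944, 147968, 198400, 67840, 230400, 116736, 4132, 8248, 12368, 4256, 51456, 19968, 8392, 12364, 164, 248]) (.leaf [1, 2, 115200, 148224, 69120, 132864, 117760, 148480, 4124, 8228, 4304, 8288, 52736, 18176, 4300, 8260, 220, 100]))) (.node (.node (.leaf [1, 2, 115200, 148224, 69120, 132864, 148480, 231424, 8228, 12344, 8288, 12464, 35072, 52736, 12424, 4300, 184, 220]) (.leaf [1, 2, 115200, 148224, 69120, 132864, 231424, 117760, 12344, 4124, 12464, 4304, 18176, 35072, 8260, 12424, 100, 184])) (.node (.leaf [1, 2, 115200, 148224, 132864, 198912, 117760, 148480, 4124, 8228, 8288, 12464, 18176, 35072, 8260, 12424, 184, 220]) (.leaf [1, 2, 115200, 148224, 132864, 198912, 148480, 231424, 8228, 12344, 12464, 4304, 52736, 18176, 4300, 8260, 100, 184]))))) (.node (.node (.node (.node (.leaf [1, 2, 115200, 148224, 132864, 198912, 231424, 117760, 12344, 4124, 4304, 8288, 35072, 52736, 12424, 4300, 220, 100]) (.leaf [1, 2, 115200, 148224, 198912, 69120, 117760, 148480, 4124, 8228, 12464, 4304, 35072, 52736, 12424, 4300, 100, 184])) (.node (.leaf [1, 2, 115200, 148224, 198912, 69120, 148480, 231424, 8228, 12344, 4304, 8288, 18176, 35072, 8260, 12424, 220, 100]) (.leaf [1, 2, 115200, 148224, 198912, 69120, 231424, 117760, 12344, 4124, 8288, 12464, 52736, 18176, 4300, 8260, 184, 220]))) (.node (.node (.leaf [1, 2, 115456, 147712, 67328, 133376, 115712, 149504, 12324, 4152, 12512, 4208, 50944, 18688, 12484, 4168, 228, 120]) (.leaf [1, 2, 115456, 147712, 67328, 133376, 149504, 232448, 4152, 8220, 4208, 8336, 36352, 50944, 8332, 12484, 156, 228])) (.node (.leaf [1, 2, 115456, 147712, 67328, 133376, 232448, 115712, 8220, 12324, 8336, 12512, 18688, 36352, 4168, 8332, 120, 156]) (.leaf [1, 2, 115456, 147712, 133376, 200192, 115712, 149504, 12324, 4152, 4208, 8336, 18688, 36352, 4168, 8332, 156, 228])))) (.node (.node (.node (.leaf [1, 2, 115456, 147712, 133376, 200192, 149504, 232448, 4152, 8220, 8336, 12512, 50944, 18688, 12484, 4168, 120, 156]) (.leaf [1, 2, 115456, 147712, 133376, 200192, 232448, 115712, 8220, 12324, 12512, 4208, 36352, 50944, 8332, 12484, 228, 120])) (.node (.leaf [1, 2, 115456, 147712, 200192, 67328, 115712, 149504, 12324, 4152, 8336, 12512, 36352, 50944, 8332, 12484, 120, 156]) (.leaf [1, 2, 115456, 147712, 200192, 67328, 149504, 232448, 4152, 8220, 12512, 4208, 18688, 36352, 4168, 8332, 228, 120]))) (.node (.node (.leaf [1, 2, 115456, 147712, 200192, 67328, 232448, 115712, 8220, 12324, 4208, 8336, 50944, 18688, 12484, 4168, 156, 228]) (.leaf [1, 2, 115712, 149504, 18688, 36352, 67328, 133376, 12512, 4208, 120, 156, 147712, 229888, 4152, 8220, 8332, 12484])) (.node (.leaf [1, 2, 115712, 149504, 18688, 36352, 133376, 200192, 4208, 8336, 156, 228, 115456, 147712, 12324, 4152, 4168, 8332]) (.leaf [1, 2, 115712, 149504, 18688, 36352, 200192, 67328, 8336, 12512, 228, 120, 229888, 115456, 8220, 12324, 12484, 4168])))))) (.node (.node (.node (.node (.node (.leaf [1, 2, 115712, 149504, 36352, 50944, 67328, 133376, 12512, 4208, 156, 228, 229888, 115456, 8220, 12324, 4168, 8332]) (.leaf [1, 2, 115712, 149504, 36352, 50944, 133376, 200192, 4208, 8336, 228, 120, 147712, 229888, 4152, 8220, 12484, 4168])) (.node (.leaf [1, 2, 115712, 149504, 36352, 50944, 200192, 67328, 8336, 12512, 120, 156, 115456, 147712, 12324, 4152, 8332, 12484]) (.leaf [1, 2, 115712, 149504, 50944, 18688, 67328, 133376, 12512, 4208, 228, 120, 115456, 147712, 12324, 4152, 12484, 4168]))) (.node (.node (.leaf [1, 2, 115712, 149504, 50944, 18688, 133376, 200192, 4208, 8336, 120, 156, 229888, 115456, 8220, 12324, 8332, 12484]) (.leaf [1, 2, 115712, 149504, 50944, 18688, 200192, 67328, 8336, 12512, 156, 228, 147712, 229888, 4152, 8220, 4168, 8332])) (.node (.leaf [1, 2, 116736, 150528, 19968, 34560, 67840, 134656, 8432, 12368, 92, 164, 147968, 230144, 12316, 4132, 4228, 8392]) (.leaf [1, 2, 116736, 150528, 19968, 34560, 134656, 198400, 12368, 4256, 164, 248, 114944, 147968, 8248, 12316, 12364, 4228])))) (.node (.node (.node (.leaf [1, 2, 116736, 150528, 19968, 34560, 198400, 67840, 4256, 8432, 248, 92, 230144, 114944, 4132, 8248, 8392, 12364]) (.leaf [1, 2, 116736, 150528, 34560, 51456, 67840, 134656, 8432, 12368, 164, 248, 230144, 114944, 4132, 8248, 12364, 4228])) (.node (.leaf [1, 2, 116736, 150528, 34560, 51456, 134656, 198400, 12368, 4256, 248, 92, 147968, 230144, 12316, 4132, 8392, 12364]) (.leaf [1, 2, 116736, 150528, 34560, 51456, 198400, 67840, 4256, 8432, 92, 164, 114944, 147968, 8248, 12316, 4228, 8392]))) (.node (.node (.leaf [1, 2, 116736, 150528, 51456, 19968, 67840, 134656, 8432, 12368, 248, 92, 114944, 147968, 8248, 12316, 8392, 12364]) (.leaf [1, 2, 116736, 150528, 51456, 19968, 134656, 198400, 12368, 4256, 92, 164, 230144, 114944, 4132, 8248, 4228, 8392])) (.node (.leaf [1, 2, 116736, 150528, 51456, 19968, 198400, 67840, 4256, 8432, 164, 248, 147968, 230144, 12316, 4132, 12364, 4228]) (.leaf [1, 2, 117760, 148480, 18176, 35072, 69120, 132864, 4304, 8288, 100, 184, 148224, 229632, 8228, 12344, 12424, 4300]))))) (.node (.node (.node (.node (.leaf [1, 2, 117760, 148480, 18176, 35072, 132864, 198912, 8288, 12464, 184, 220, 115200, 148224, 4124, 8228, 8260, 12424]) (.leaf [1, 2, 117760, 148480, 18176, 35072, 198912, 69120, 12464, 4304, 220, 100, 229632, 115200, 12344, 4124, 4300, 8260])) (.node (.leaf [1, 2, 117760, 148480, 35072, 52736, 69120, 132864, 4304, 8288, 184, 220, 229632, 115200, 12344, 4124, 8260, 12424]) (.leaf [1, 2, 117760, 148480, 35072, 52736, 132864, 198912, 8288, 12464, 220, 100, 148224, 229632, 8228, 12344, 4300, 8260]))) (.node (.node (.leaf [1, 2, 117760, 148480, 35072, 52736, 198912, 69120, 12464, 4304, 100, 184, 115200, 148224, 4124, 8228, 12424, 4300]) (.leaf [1, 2, 117760, 148480, 52736, 18176, 69120, 132864, 4304, 8288, 220, 100, 115200, 148224, 4124, 8228, 4300, 8260])) (.node (.leaf [1, 2, 117760, 148480, 52736, 18176, 132864, 198912, 8288, 12464, 100, 184, 229632, 115200, 12344, 4124, 12424, 4300]) (.leaf [1, 2, 117760, 148480, 52736, 18176, 198912, 69120, 12464, 4304, 184, 220, 148224, 229632, 8228, 12344, 8260, 12424])))) (.node (.node (.node (.leaf [1, 2, 131072, 196608, 256, 512, 16384, 32768, 128, 192, 16, 32, 2048, 3072, 12, 4, 8192, 12288]) (.leaf [1, 2, 131072, 196608, 256, 512, 32768, 49152, 192, 64, 32, 48, 1024, 2048, 8, 12, 4096, 8192])) (.node (.leaf [1, 2, 131072, 196608, 256, 512, 49152, 16384, 64, 128, 48, 16, 3072, 1024, 4, 8, 12288, 4096]) (.leaf [1, 2, 131072, 196608, 512, 768, 16384, 32768, 128, 192, 32, 48, 3072, 1024, 4, 8, 4096, 8192]))) (.node (.node (.leaf [1, 2, 131072, 196608, 512, 768, 32768, 49152, 192, 64, 48, 16, 2048, 3072, 12, 4, 12288, 4096]) (.leaf [1, 2, 131072, 196608, 512, 768, 49152, 16384, 64, 128, 16, 32, 1024, 2048, 8, 12, 8192, 12288])) (.node (.leaf [1, 2, 131072, 196608, 768, 256, 16384, 32768, 128, 192, 48, 16, 1024, 2048, 8, 12, 12288, 4096]) (.leaf [1, 2, 131072, 196608, 768, 256, 32768, 49152, 192, 64, 16, 32, 3072, 1024, 4, 8, 8192, 12288])))))))) (.node (.node (.node (.node (.node (.node (.node (.leaf [1, 2, 131072, 196608, 768, 256, 49152, 16384, 64, 128, 32, 48, 2048, 3072, 12, 4, 4096, 8192]) (.leaf [1, 2, 132352, 199168, 82688, 164096, 20224, 34048, 148, 232, 8268, 12420, 164864, 247808, 4320, 8304, 12308, 4136])) (.node (.leaf [1, 2, 132352, 199168, 82688, 164096, 34048, 51712, 232, 124, 12420, 4296, 84992, 164864, 12432, 4320, 8252, 12308]) (.leaf [1, 2, 132352, 199168, 82688, 164096, 51712, 20224, 124, 148, 4296, 8268, 247808, 84992, 8304, 12432, 4136, 8252]))) (.node (.node (.leaf [1, 2, 132352, 199168, 164096, 246272, 20224, 34048, 148, 232, 12420, 4296, 247808, 84992, 8304, 12432, 8252, 12308]) (.leaf [1, 2, 132352, 199168, 164096, 246272, 34048, 51712, 232, 124, 4296, 8268, 164864, 247808, 4320, 8304, 4136, 8252])) (.node (.leaf [1, 2, 132352, 199168, 164096, 246272, 51712, 20224, 124, 148, 8268, 12420, 84992, 164864, 12432, 4320, 12308, 4136]) (.leaf [1, 2, 132352, 199168, 246272, 82688, 20224, 34048, 148, 232, 4296, 8268, 84992, 164864, 12432, 4320, 4136, 8252])))) (.node (.node (.node (.leaf [1, 2, 132352, 199168, 246272, 82688, 34048, 51712, 232, 124, 8268, 12420, 247808, 84992, 8304, 12432, 12308, 4136]) (.leaf [1, 2, 132352, 199168, 246272, 82688, 51712, 20224, 124, 148, 12420, 4296, 164864, 247808, 4320, 8304, 8252, 12308])) (.node (.leaf [1, 2, 132608, 199424, 98560, 180736, 19200, 36096, 172, 244, 8264, 12428, 215040, 101376, 12448, 4336, 8216, 12332]) (.leaf [1, 2, 132608, 199424, 98560, 180736, 36096, 50688, 244, 88, 12428, 4292, 181248, 215040, 8272, 12448, 4148, 8216]))) (.node (.node (.leaf [1, 2, 132608, 199424, 98560, 180736, 50688, 19200, 88, 172, 4292, 8264, 101376, 181248, 4336, 8272, 12332, 4148]) (.leaf [1, 2, 132608, 199424, 180736, 213760, 19200, 36096, 172, 244, 12428, 4292, 101376, 181248, 4336, 8272, 4148, 8216])) (.node (.leaf [1, 2, 132608, 199424, 180736, 213760, 36096, 50688, 244, 88, 4292, 8264, 215040, 101376, 12448, 4336, 12332, 4148]) (.leaf [1, 2, 132608, 199424, 180736, 213760, 50688, 19200, 88, 172, 8264, 12428, 181248, 215040, 8272, 12448, 8216, 12332]))))) (.node (.node (.node (.node (.leaf [1, 2, 132608, 199424, 213760, 98560, 19200, 36096, 172, 244, 4292, 8264, 181248, 215040, 8272, 12448, 12332, 4148]) (.leaf [1, 2, 132608, 199424, 213760, 98560, 36096, 50688, 244, 88, 8264, 12428, 101376, 181248, 4336, 8272, 8216, 12332])) (.node (.leaf [1, 2, 132608, 199424, 213760, 98560, 50688, 19200, 88, 172, 12428, 4292, 215040, 101376, 12448, 4336, 4148, 8216]) (.leaf [1, 2, 132864, 198912, 115200, 148224, 18176, 35072, 184, 220, 8260, 12424, 117760, 148480, 8288, 12464, 4124, 8228]))) (.node (.node (.leaf [1, 2, 132864, 198912, 115200, 148224, 35072, 52736, 220, 100, 12424, 4300, 231424, 117760, 4304, 8288, 12344, 4124]) (.leaf [1, 2, 132864, 198912, 115200, 148224, 52736, 18176, 100, 184, 4300, 8260, 148480, 231424, 12464, 4304, 8228, 12344])) (.node (.leaf [1, 2, 132864, 198912, 148224, 229632, 18176, 35072, 184, 220, 12424, 4300, 148480, 231424, 12464, 4304, 12344, 4124]) (.leaf [1, 2, 132864, 198912, 148224, 229632, 35072, 52736, 220, 100, 4300, 8260, 117760, 148480, 8288, 12464, 8228, 12344])))) (.node (.node (.node (.leaf [1, 2, 132864, 198912, 148224, 229632, 52736, 18176, 100, 184, 8260, 12424, 231424, 117760, 4304, 8288, 4124, 8228]) (.leaf [1, 2, 132864, 198912, 229632, 115200, 18176, 35072, 184, 220, 4300, 8260, 231424, 117760, 4304, 8288, 8228, 12344])) (.node (.leaf [1, 2, 132864, 198912, 229632, 115200, 35072, 52736, 220, 100, 8260, 12424, 148480, 231424, 12464, 4304, 4124, 8228]) (.leaf [1, 2, 132864, 198912, 229632, 115200, 52736, 18176, 100, 184, 12424, 4300, 117760, 148480, 8288, 12464, 12344, 4124]))) (.node (.node (.leaf [1, 2, 133376, 200192, 115456, 147712, 18688, 36352, 156, 228, 4168, 8332, 115712, 149504, 4208, 8336, 12324, 4152]) (.leaf [1, 2, 133376, 200192, 115456, 147712, 36352, 50944, 228, 120, 8332, 12484, 232448, 115712, 12512, 4208, 8220, 12324])) (.node (.leaf [1, 2, 133376, 200192, 115456, 147712, 50944, 18688, 120, 156, 12484, 4168, 149504, 232448, 8336, 12512, 4152, 8220]) (.leaf [1, 2, 133376, 200192, 147712, 229888, 18688, 36352, 156, 228, 8332, 12484, 149504, 232448, 8336, 12512, 8220, 12324])))))) (.node (.node (.node (.node (.node (.leaf [1, 2, 133376, 200192, 147712, 229888, 36352, 50944, 228, 120, 12484, 4168, 115712, 149504, 4208, 8336, 4152, 8220]) (.leaf [1, 2, 133376, 200192, 147712, 229888, 50944, 18688, 120, 156, 4168, 8332, 232448, 115712, 12512, 4208, 12324, 4152])) (.node (.leaf [1, 2, 133376, 200192, 229888, 115456, 18688, 36352, 156, 228, 12484, 4168, 232448, 115712, 12512, 4208, 4152, 8220]) (.leaf [1, 2, 133376, 200192, 229888, 115456, 36352, 50944, 228, 120, 4168, 8332, 149504, 232448, 8336, 12512, 12324, 4152]))) (.node (.node (.leaf [1, 2, 133376, 200192, 229888, 115456, 50944, 18688, 120, 156, 8332, 12484, 115712, 149504, 4208, 8336, 8220, 12324]) (.leaf [1, 2, 133632, 200448, 82176, 164352, 17664, 35328, 168, 252, 4164, 8328, 165888, 248832, 12528, 4176, 8232, 12348])) (.node (.leaf [1, 2, 133632, 200448, 82176, 164352, 35328, 52992, 252, 84, 8328, 12492, 82944, 165888, 8352, 12528, 4116, 8232]) (.leaf [1, 2, 133632, 200448, 82176, 164352, 52992, 17664, 84, 168, 12492, 4164, 248832, 82944, 4176, 8352, 12348, 4116])))) (.node (.node (.node (.leaf [1, 2, 133632, 200448, 164352, 246528, 17664, 35328, 168, 252, 8328, 12492, 248832, 82944, 4176, 8352, 4116, 8232]) (.leaf [1, 2, 133632, 200448, 164352, 246528, 35328, 52992, 252, 84, 12492, 4164, 165888, 248832, 12528, 4176, 12348, 4116])) (.node (.leaf [1, 2, 133632, 200448, 164352, 246528, 52992, 17664, 84, 168, 4164, 8328, 82944, 165888, 8352, 12528, 8232, 12348]) (.leaf [1, 2, 133632, 200448, 246528, 82176, 17664, 35328, 168, 252, 12492, 4164, 82944, 165888, 8352, 12528, 12348, 4116]))) (.node (.node (.leaf [1, 2, 133632, 200448, 246528, 82176, 35328, 52992, 252, 84, 4164, 8328, 248832, 82944, 4176, 8352, 8232, 12348]) (.leaf [1, 2, 133632, 200448, 246528, 82176, 52992, 17664, 84, 168, 8328, 12492, 165888, 248832, 12528, 4176, 4116, 8232])) (.node (.leaf [1, 2, 133888, 199936, 98816, 180992, 19712, 34304, 180, 216, 4172, 8324, 216064, 99328, 8368, 12496, 4140, 8244]) (.leaf [1, 2, 133888, 199936, 98816, 180992, 34304, 51968, 216, 108, 8324, 12488, 182272, 216064, 4192, 8368, 12312, 4140]))))) (.node (.node (.node (.node (.leaf [1, 2, 133888, 199936, 98816, 180992, 51968, 19712, 108, 180, 12488, 4172, 99328, 182272, 12496, 4192, 8244, 12312]) (.leaf [1, 2, 133888, 199936, 180992, 213248, 19712, 34304, 180, 216, 8324, 12488, 99328, 182272, 12496, 4192, 12312, 4140])) (.node (.leaf [1, 2, 133888, 199936, 180992, 213248, 34304, 51968, 216, 108, 12488, 4172, 216064, 99328, 8368, 12496, 8244, 12312]) (.leaf [1, 2, 133888, 199936, 180992, 213248, 51968, 19712, 108, 180, 4172, 8324, 182272, 216064, 4192, 8368, 4140, 8244]))) (.node (.node (.leaf [1, 2, 133888, 199936, 213248, 98816, 19712, 34304, 180, 216, 12488, 4172, 182272, 216064, 4192, 8368, 8244, 12312]) (.leaf [1, 2, 133888, 199936, 213248, 98816, 34304, 51968, 216, 108, 4172, 8324, 99328, 182272, 12496, 4192, 4140, 8244])) (.node (.leaf [1, 2, 133888, 199936, 213248, 98816, 51968, 19712, 108, 180, 8324, 12488, 216064, 99328, 8368, 12496, 12312, 4140]) (.leaf [1, 2, 134400, 198144, 99072, 180480, 17920, 35584, 152, 236, 12356, 4232, 214016, 100352, 4240, 8416, 12340, 4120])))) (.node (.node (.node (.leaf [1, 2, 134400, 198144, 99072, 180480, 35584, 52480, 236, 116, 4232, 8396, 183296, 214016, 12400, 4240, 8236, 12340]) (.leaf [1, 2, 134400, 198144, 99072, 180480, 52480, 17920, 116, 152, 8396, 12356, 100352, 183296, 8416, 12400, 4120, 8236])) (.node (.leaf [1, 2, 134400, 198144, 180480, 213504, 17920, 35584, 152, 236, 4232, 8396, 100352, 183296, 8416, 12400, 8236, 12340]) (.leaf [1, 2, 134400, 198144, 180480, 213504, 35584, 52480, 236, 116, 8396, 12356, 214016, 100352, 4240, 8416, 4120, 8236]))) (.node (.node (.leaf [1, 2, 134400, 198144, 180480, 213504, 52480, 17920, 116, 152, 12356, 4232, 183296, 214016, 12400, 4240, 12340, 4120]) (.leaf [1, 2, 134400, 198144, 213504, 99072, 17920, 35584, 152, 236, 8396, 12356, 183296, 214016, 12400, 4240, 4120, 8236])) (.node (.leaf [1, 2, 134400, 198144, 213504, 99072, 35584, 52480, 236, 116, 12356, 4232, 100352, 183296, 8416, 12400, 12340, 4120]) (.leaf [1, 2, 134400, 198144, 213504, 99072, 52480, 17920, 116, 152, 4232, 8396, 214016, 100352, 4240, 8416, 8236, 12340]))))))) (.node (.node (.node (.node (.node (.node (.leaf [1, 2, 134656, 198400, 114944, 147968, 19968, 34560, 164, 248, 12364, 4228, 116736, 150528, 12368, 4256, 8248, 12316]) (.leaf [1, 2, 134656, 198400, 114944, 147968, 34560, 51456, 248, 92, 4228, 8392, 230400, 116736, 8432, 12368, 4132, 8248])) (.node (.leaf [1, 2, 134656, 198400, 114944, 147968, 51456, 19968, 92, 164, 8392, 12364, 150528, 230400, 4256, 8432, 12316, 4132]) (.leaf [1, 2, 134656, 198400, 147968, 230144, 19968, 34560, 164, 248, 4228, 8392, 150528, 230400, 4256, 8432, 4132, 8248]))) (.node (.node (.leaf [1, 2, 134656, 198400, 147968, 230144, 34560, 51456, 248, 92, 8392, 12364, 116736, 150528, 12368, 4256, 12316, 4132]) (.leaf [1, 2, 134656, 198400, 147968, 230144, 51456, 19968, 92, 164, 12364, 4228, 230400, 116736, 8432, 12368, 8248, 12316])) (.node (.leaf [1, 2, 134656, 198400, 230144, 114944, 19968, 34560, 164, 248, 8392, 12364, 230400, 116736, 8432, 12368, 12316, 4132]) (.leaf [1, 2, 134656, 198400, 230144, 114944, 34560, 51456, 248, 92, 12364, 4228, 150528, 230400, 4256, 8432, 8248, 12316])))) (.node (.node (.node (.leaf [1, 2, 134656, 198400, 230144, 114944, 51456, 19968, 92, 164, 4228, 8392, 116736, 150528, 12368, 4256, 4132, 8248]) (.leaf [1, 2, 134912, 197888, 82432, 164608, 18944, 36608, 188, 212, 12360, 4236, 166912, 246784, 8400, 12384, 4156, 8212])) (.node (.leaf [1, 2, 134912, 197888, 82432, 164608, 36608, 50432, 212, 104, 4236, 8388, 83968, 166912, 4272, 8400, 12328, 4156]) (.leaf [1, 2, 134912, 197888, 82432, 164608, 50432, 18944, 104, 188, 8388, 12360, 246784, 83968, 12384, 4272, 8212, 12328]))) (.node (.node (.leaf [1, 2, 134912, 197888, 164608, 246016, 18944, 36608, 188, 212, 4236, 8388, 246784, 83968, 12384, 4272, 12328, 4156]) (.leaf [1, 2, 134912, 197888, 164608, 246016, 36608, 50432, 212, 104, 8388, 12360, 166912, 246784, 8400, 12384, 8212, 12328])) (.node (.leaf [1, 2, 134912, 197888, 164608, 246016, 50432, 18944, 104, 188, 12360, 4236, 83968, 166912, 4272, 8400, 4156, 8212]) (.leaf [1, 2, 134912, 197888, 246016, 82432, 18944, 36608, 188, 212, 8388, 12360, 83968, 166912, 4272, 8400, 8212, 12328]))))) (.node (.node (.node (.node (.leaf [1, 2, 134912, 197888, 246016, 82432, 36608, 50432, 212, 104, 12360, 4236, 246784, 83968, 12384, 4272, 4156, 8212]) (.leaf [1, 2, 134912, 197888, 246016, 82432, 50432, 18944, 104, 188, 4236, 8388, 166912, 246784, 8400, 12384, 12328, 4156])) (.node (.leaf [1, 2, 147712, 229888, 67328, 133376, 115712, 149504, 4152, 8220, 12512, 4208, 18688, 36352, 8332, 12484, 120, 156]) (.leaf [1, 2, 147712, 229888, 67328, 133376, 149504, 232448, 8220, 12324, 4208, 8336, 50944, 18688, 4168, 8332, 228, 120]))) (.node (.node (.leaf [1, 2, 147712, 229888, 67328, 133376, 232448, 115712, 12324, 4152, 8336, 12512, 36352, 50944, 12484, 4168, 156, 228]) (.leaf [1, 2, 147712, 229888, 133376, 200192, 115712, 149504, 4152, 8220, 4208, 8336, 36352, 50944, 12484, 4168, 228, 120])) (.node (.leaf [1, 2, 147712, 229888, 133376, 200192, 149504, 232448, 8220, 12324, 8336, 12512, 18688, 36352, 8332, 12484, 156, 228]) (.leaf [1, 2, 147712, 229888, 133376, 200192, 232448, 115712, 12324, 4152, 12512, 4208, 50944, 18688, 4168, 8332, 120, 156])))) (.node (.node (.node (.leaf [1, 2, 147712, 229888, 200192, 67328, 115712, 149504, 4152, 8220, 8336, 12512, 50944, 18688, 4168, 8332, 156, 228]) (.leaf [1, 2, 147712, 229888, 200192, 67328, 149504, 232448, 8220, 12324, 12512, 4208, 36352, 50944, 12484, 4168, 120, 156])) (.node (.leaf [1, 2, 147712, 229888, 200192, 67328, 232448, 115712, 12324, 4152, 4208, 8336, 18688, 36352, 8332, 12484, 228, 120]) (.leaf [1, 2, 147968, 230144, 67840, 134656, 116736, 150528, 12316, 4132, 8432, 12368, 19968, 34560, 4228, 8392, 92, 164]))) (.node (.node (.leaf [1, 2, 147968, 230144, 67840, 134656, 150528, 230400, 4132, 8248, 12368, 4256, 51456, 19968, 12364, 4228, 248, 92]) (.leaf [1, 2, 147968, 230144, 67840, 134656, 230400, 116736, 8248, 12316, 4256, 8432, 34560, 51456, 8392, 12364, 164, 248])) (.node (.leaf [1, 2, 147968, 230144, 134656, 198400, 116736, 150528, 12316, 4132, 12368, 4256, 34560, 51456, 8392, 12364, 248, 92]) (.leaf [1, 2, 147968, 230144, 134656, 198400, 150528, 230400, 4132, 8248, 4256, 8432, 19968, 34560, 4228, 8392, 164, 248])))))) (.node (.node (.node (.node (.node (.leaf [1, 2, 147968, 230144, 134656, 198400, 230400, 116736, 8248, 12316, 8432, 12368, 51456, 19968, 12364, 4228, 92, 164]) (.leaf [1, 2, 147968, 230144, 198400, 67840, 116736, 150528, 12316, 4132, 4256, 8432, 51456, 19968, 12364, 4228, 164, 248])) (.node (.leaf [1, 2, 147968, 230144, 198400, 67840, 150528, 230400, 4132, 8248, 8432, 12368, 34560, 51456, 8392, 12364, 92, 164]) (.leaf [1, 2, 147968, 230144, 198400, 67840, 230400, 116736, 8248, 12316, 12368, 4256, 19968, 34560, 4228, 8392, 248, 92]))) (.node (.node (.leaf [1, 2, 148224, 229632, 69120, 132864, 117760, 148480, 8228, 12344, 4304, 8288, 18176, 35072, 12424, 4300, 100, 184]) (.leaf [1, 2, 148224, 229632, 69120, 132864, 148480, 231424, 12344, 4124, 8288, 12464, 52736, 18176, 8260, 12424, 220, 100])) (.node (.leaf [1, 2, 148224, 229632, 69120, 132864, 231424, 117760, 4124, 8228, 12464, 4304, 35072, 52736, 4300, 8260, 184, 220]) (.leaf [1, 2, 148224, 229632, 132864, 198912, 117760, 148480, 8228, 12344, 8288, 12464, 35072, 52736, 4300, 8260, 220, 100])))) (.node (.node (.node (.leaf [1, 2, 148224, 229632, 132864, 198912, 148480, 231424, 12344, 4124, 12464, 4304, 18176, 35072, 12424, 4300, 184, 220]) (.leaf [1, 2, 148224, 229632, 132864, 198912, 231424, 117760, 4124, 8228, 4304, 8288, 52736, 18176, 8260, 12424, 100, 184])) (.node (.leaf [1, 2, 148224, 229632, 198912, 69120, 117760, 148480, 8228, 12344, 12464, 4304, 52736, 18176, 8260, 12424, 184, 220]) (.leaf [1, 2, 148224, 229632, 198912, 69120, 148480, 231424, 12344, 4124, 4304, 8288, 35072, 52736, 4300, 8260, 100, 184]))) (.node (.node (.leaf [1, 2, 148224, 229632, 198912, 69120, 231424, 117760, 4124, 8228, 8288, 12464, 18176, 35072, 12424, 4300, 220, 100]) (.leaf [1, 2, 148480, 231424, 18176, 35072, 69120, 132864, 8288, 12464, 100, 184, 229632, 115200, 4124, 8228, 4300, 8260])) (.node (.leaf [1, 2, 148480, 231424, 18176, 35072, 132864, 198912, 12464, 4304, 184, 220, 148224, 229632, 12344, 4124, 12424, 4300]) (.leaf [1, 2, 148480, 231424, 18176, 35072, 198912, 69120, 4304, 8288, 220, 100, 115200, 148224, 8228, 12344, 8260, 12424]))))) (.node (.node (.node (.node (.leaf [1, 2, 148480, 231424, 35072, 52736, 69120, 132864, 8288, 12464, 184, 220, 115200, 148224, 8228, 12344, 12424, 4300]) (.leaf [1, 2, 148480, 231424, 35072, 52736, 132864, 198912, 12464, 4304, 220, 100, 229632, 115200, 4124, 8228, 8260, 12424])) (.node (.leaf [1, 2, 148480, 231424, 35072, 52736, 198912, 69120, 4304, 8288, 100, 184, 148224, 229632, 12344, 4124, 4300, 8260]) (.leaf [1, 2, 148480, 231424, 52736, 18176, 69120, 132864, 8288, 12464, 220, 100, 148224, 229632, 12344, 4124, 8260, 12424]))) (.node (.node (.leaf [1, 2, 148480, 231424, 52736, 18176, 132864, 198912, 12464, 4304, 100, 184, 115200, 148224, 8228, 12344, 4300, 8260]) (.leaf [1, 2, 148480, 231424, 52736, 18176, 198912, 69120, 4304, 8288, 184, 220, 229632, 115200, 4124, 8228, 12424, 4300])) (.node (.leaf [1, 2, 149504, 232448, 18688, 36352, 67328, 133376, 4208, 8336, 120, 156, 229888, 115456, 12324, 4152, 12484, 4168]) (.leaf [1, 2, 149504, 232448, 18688, 36352, 133376, 200192, 8336, 12512, 156, 228, 147712, 229888, 8220, 12324, 8332, 12484])))) (.node (.node (.node (.leaf [1, 2, 149504, 232448, 18688, 36352, 200192, 67328, 12512, 4208, 228, 120, 115456, 147712, 4152, 8220, 4168, 8332]) (.leaf [1, 2, 149504, 232448, 36352, 50944, 67328, 133376, 4208, 8336, 156, 228, 115456, 147712, 4152, 8220, 8332, 12484])) (.node (.leaf [1, 2, 149504, 232448, 36352, 50944, 133376, 200192, 8336, 12512, 228, 120, 229888, 115456, 12324, 4152, 4168, 8332]) (.leaf [1, 2, 149504, 232448, 36352, 50944, 200192, 67328, 12512, 4208, 120, 156, 147712, 229888, 8220, 12324, 12484, 4168]))) (.node (.node (.leaf [1, 2, 149504, 232448, 50944, 18688, 67328, 133376, 4208, 8336, 228, 120, 147712, 229888, 8220, 12324, 4168, 8332]) (.leaf [1, 2, 149504, 232448, 50944, 18688, 133376, 200192, 8336, 12512, 120, 156, 115456, 147712, 4152, 8220, 12484, 4168])) (.node (.leaf [1, 2, 149504, 232448, 50944, 18688, 200192, 67328, 12512, 4208, 156, 228, 229888, 115456, 12324, 4152, 8332, 12484]) (.leaf [1, 2, 150528, 230400, 19968, 34560, 67840, 134656, 12368, 4256, 92, 164, 230144, 114944, 8248, 12316, 8392, 12364]))))))))) (.node (.node (.node (.node (.node (.node (.node (.node (.leaf [1, 2, 150528, 230400, 19968, 34560, 134656, 198400, 4256, 8432, 164, 248, 147968, 230144, 4132, 8248, 4228, 8392]) (.leaf [1, 2, 150528, 230400, 19968, 34560, 198400, 67840, 8432, 12368, 248, 92, 114944, 147968, 12316, 4132, 12364, 4228])) (.node (.leaf [1, 2, 150528, 230400, 34560, 51456, 67840, 134656, 12368, 4256, 164, 248, 114944, 147968, 12316, 4132, 4228, 8392]) (.leaf [1, 2, 150528, 230400, 34560, 51456, 134656, 198400, 4256, 8432, 248, 92, 230144, 114944, 8248, 12316, 12364, 4228]))) (.node (.node (.leaf [1, 2, 150528, 230400, 34560, 51456, 198400, 67840, 8432, 12368, 92, 164, 147968, 230144, 4132, 8248, 8392, 12364]) (.leaf [1, 2, 150528, 230400, 51456, 19968, 67840, 134656, 12368, 4256, 248, 92, 147968, 230144, 4132, 8248, 12364, 4228])) (.node (.leaf [1, 2, 150528, 230400, 51456, 19968, 134656, 198400, 4256, 8432, 92, 164, 114944, 147968, 12316, 4132, 8392, 12364]) (.leaf [1, 2, 150528, 230400, 51456, 19968, 198400, 67840, 8432, 12368, 164, 248, 230144, 114944, 8248, 12316, 4228, 8392])))) (.node (.node (.node (.leaf [1, 2, 164096, 246272, 69376, 132352, 84992, 164864, 12308, 4136, 8304, 12432, 34048, 51712, 4296, 8268, 148, 232]) (.leaf [1, 2, 164096, 246272, 69376, 132352, 164864, 247808, 4136, 8252, 12432, 4320, 20224, 34048, 12420, 4296, 124, 148])) (.node (.leaf [1, 2, 164096, 246272, 69376, 132352, 247808, 84992, 8252, 12308, 4320, 8304, 51712, 20224, 8268, 12420, 232, 124]) (.leaf [1, 2, 164096, 246272, 132352, 199168, 84992, 164864, 12308, 4136, 12432, 4320, 51712, 20224, 8268, 12420, 124, 148]))) (.node (.node (.leaf [1, 2, 164096, 246272, 132352, 199168, 164864, 247808, 4136, 8252, 4320, 8304, 34048, 51712, 4296, 8268, 232, 124]) (.leaf [1, 2, 164096, 246272, 132352, 199168, 247808, 84992, 8252, 12308, 8304, 12432, 20224, 34048, 12420, 4296, 148, 232])) (.node (.leaf [1, 2, 164096, 246272, 199168, 69376, 84992, 164864, 12308, 4136, 4320, 8304, 20224, 34048, 12420, 4296, 232, 124]) (.leaf [1, 2, 164096, 246272, 199168, 69376, 164864, 247808, 4136, 8252, 8304, 12432, 51712, 20224, 8268, 12420, 148, 232]))))) (.node (.node (.node (.node (.leaf [1, 2, 164096, 246272, 199168, 69376, 247808, 84992, 8252, 12308, 12432, 4320, 34048, 51712, 4296, 8268, 124, 148]) (.leaf [1, 2, 164352, 246528, 66816, 133632, 82944, 165888, 8232, 12348, 4176, 8352, 35328, 52992, 12492, 4164, 168, 252])) (.node (.leaf [1, 2, 164352, 246528, 66816, 133632, 165888, 248832, 12348, 4116, 8352, 12528, 17664, 35328, 8328, 12492, 84, 168]) (.leaf [1, 2, 164352, 246528, 66816, 133632, 248832, 82944, 4116, 8232, 12528, 4176, 52992, 17664, 4164, 8328, 252, 84]))) (.node (.node (.leaf [1, 2, 164352, 246528, 133632, 200448, 82944, 165888, 8232, 12348, 8352, 12528, 52992, 17664, 4164, 8328, 84, 168]) (.leaf [1, 2, 164352, 246528, 133632, 200448, 165888, 248832, 12348, 4116, 12528, 4176, 35328, 52992, 12492, 4164, 252, 84])) (.node (.leaf [1, 2, 164352, 246528, 133632, 200448, 248832, 82944, 4116, 8232, 4176, 8352, 17664, 35328, 8328, 12492, 168, 252]) (.leaf [1, 2, 164352, 246528, 200448, 66816, 82944, 165888, 8232, 12348, 12528, 4176, 17664, 35328, 8328, 12492, 252, 84])))) (.node (.node (.node (.leaf [1, 2, 164352, 246528, 200448, 66816, 165888, 248832, 12348, 4116, 4176, 8352, 52992, 17664, 4164, 8328, 168, 252]) (.leaf [1, 2, 164352, 246528, 200448, 66816, 248832, 82944, 4116, 8232, 8352, 12528, 35328, 52992, 12492, 4164, 84, 168])) (.node (.leaf [1, 2, 164608, 246016, 68096, 134912, 83968, 166912, 4156, 8212, 12384, 4272, 36608, 50432, 8388, 12360, 188, 212]) (.leaf [1, 2, 164608, 246016, 68096, 134912, 166912, 246784, 8212, 12328, 4272, 8400, 18944, 36608, 4236, 8388, 104, 188]))) (.node (.node (.leaf [1, 2, 164608, 246016, 68096, 134912, 246784, 83968, 12328, 4156, 8400, 12384, 50432, 18944, 12360, 4236, 212, 104]) (.leaf [1, 2, 164608, 246016, 134912, 197888, 83968, 166912, 4156, 8212, 4272, 8400, 50432, 18944, 12360, 4236, 104, 188])) (.node (.leaf [1, 2, 164608, 246016, 134912, 197888, 166912, 246784, 8212, 12328, 8400, 12384, 36608, 50432, 8388, 12360, 212, 104]) (.leaf [1, 2, 164608, 246016, 134912, 197888, 246784, 83968, 12328, 4156, 12384, 4272, 18944, 36608, 4236, 8388, 188, 212])))))) (.node (.node (.node (.node (.node (.leaf [1, 2, 164608, 246016, 197888, 68096, 83968, 166912, 4156, 8212, 8400, 12384, 18944, 36608, 4236, 8388, 212, 104]) (.leaf [1, 2, 164608, 246016, 197888, 68096, 166912, 246784, 8212, 12328, 12384, 4272, 50432, 18944, 12360, 4236, 188, 212])) (.node (.leaf [1, 2, 164608, 246016, 197888, 68096, 246784, 83968, 12328, 4156, 4272, 8400, 36608, 50432, 8388, 12360, 104, 188]) (.leaf [1, 2, 164864, 247808, 20224, 34048, 69376, 132352, 12432, 4320, 124, 148, 164096, 246272, 4136, 8252, 12420, 4296]))) (.node (.node (.leaf [1, 2, 164864, 247808, 20224, 34048, 132352, 199168, 4320, 8304, 148, 232, 82688, 164096, 12308, 4136, 8268, 12420]) (.leaf [1, 2, 164864, 247808, 20224, 34048, 199168, 69376, 8304, 12432, 232, 124, 246272, 82688, 8252, 12308, 4296, 8268])) (.node (.leaf [1, 2, 164864, 247808, 34048, 51712, 69376, 132352, 12432, 4320, 148, 232, 246272, 82688, 8252, 12308, 8268, 12420]) (.leaf [1, 2, 164864, 247808, 34048, 51712, 132352, 199168, 4320, 8304, 232, 124, 164096, 246272, 4136, 8252, 4296, 8268])))) (.node (.node (.node (.leaf [1, 2, 164864, 247808, 34048, 51712, 199168, 69376, 8304, 12432, 124, 148, 82688, 164096, 12308, 4136, 12420, 4296]) (.leaf [1, 2, 164864, 247808, 51712, 20224, 69376, 132352, 12432, 4320, 232, 124, 82688, 164096, 12308, 4136, 4296, 8268])) (.node (.leaf [1, 2, 164864, 247808, 51712, 20224, 132352, 199168, 4320, 8304, 124, 148, 246272, 82688, 8252, 12308, 12420, 4296]) (.leaf [1, 2, 164864, 247808, 51712, 20224, 199168, 69376, 8304, 12432, 148, 232, 164096, 246272, 4136, 8252, 8268, 12420]))) (.node (.node (.leaf [1, 2, 165888, 248832, 17664, 35328, 66816, 133632, 8352, 12528, 84, 168, 164352, 246528, 12348, 4116, 8328, 12492]) (.leaf [1, 2, 165888, 248832, 17664, 35328, 133632, 200448, 12528, 4176, 168, 252, 82176, 164352, 8232, 12348, 4164, 8328])) (.node (.leaf [1, 2, 165888, 248832, 17664, 35328, 200448, 66816, 4176, 8352, 252, 84, 246528, 82176, 4116, 8232, 12492, 4164]) (.leaf [1, 2, 165888, 248832, 35328, 52992, 66816, 133632, 8352, 12528, 168, 252, 246528, 82176, 4116, 8232, 4164, 8328]))))) (.node (.node (.node (.node (.leaf [1, 2, 165888, 248832, 35328, 52992, 133632, 200448, 12528, 4176, 252, 84, 164352, 246528, 12348, 4116, 12492, 4164]) (.leaf [1, 2, 165888, 248832, 35328, 52992, 200448, 66816, 4176, 8352, 84, 168, 82176, 164352, 8232, 12348, 8328, 12492])) (.node (.leaf [1, 2, 165888, 248832, 52992, 17664, 66816, 133632, 8352, 12528, 252, 84, 82176, 164352, 8232, 12348, 12492, 4164]) (.leaf [1, 2, 165888, 248832, 52992, 17664, 133632, 200448, 12528, 4176, 84, 168, 246528, 82176, 4116, 8232, 8328, 12492]))) (.node (.node (.leaf [1, 2, 165888, 248832, 52992, 17664, 200448, 66816, 4176, 8352, 168, 252, 164352, 246528, 12348, 4116, 4164, 8328]) (.leaf [1, 2, 166912, 246784, 18944, 36608, 68096, 134912, 4272, 8400, 104, 188, 164608, 246016, 8212, 12328, 4236, 8388])) (.node (.leaf [1, 2, 166912, 246784, 18944, 36608, 134912, 197888, 8400, 12384, 188, 212, 82432, 164608, 4156, 8212, 12360, 4236]) (.leaf [1, 2, 166912, 246784, 18944, 36608, 197888, 68096, 12384, 4272, 212, 104, 246016, 82432, 12328, 4156, 8388, 12360])))) (.node (.node (.node (.leaf [1, 2, 166912, 246784, 36608, 50432, 68096, 134912, 4272, 8400, 188, 212, 246016, 82432, 12328, 4156, 12360, 4236]) (.leaf [1, 2, 166912, 246784, 36608, 50432, 134912, 197888, 8400, 12384, 212, 104, 164608, 246016, 8212, 12328, 8388, 12360])) (.node (.leaf [1, 2, 166912, 246784, 36608, 50432, 197888, 68096, 12384, 4272, 104, 188, 82432, 164608, 4156, 8212, 4236, 8388]) (.leaf [1, 2, 166912, 246784, 50432, 18944, 68096, 134912, 4272, 8400, 212, 104, 82432, 164608, 4156, 8212, 8388, 12360]))) (.node (.node (.leaf [1, 2, 166912, 246784, 50432, 18944, 134912, 197888, 8400, 12384, 104, 188, 246016, 82432, 12328, 4156, 4236, 8388]) (.leaf [1, 2, 166912, 246784, 50432, 18944, 197888, 68096, 12384, 4272, 188, 212, 164608, 246016, 8212, 12328, 12360, 4236])) (.node (.leaf [1, 2, 180480, 213504, 68352, 134400, 100352, 183296, 8236, 12340, 4240, 8416, 52480, 17920, 12356, 4232, 236, 116]) (.leaf [1, 2, 180480, 213504, 68352, 134400, 183296, 214016, 12340, 4120, 8416, 12400, 35584, 52480, 8396, 12356, 152, 236]))))))) (.node (.node (.node (.node (.node (.node (.leaf [1, 2, 180480, 213504, 68352, 134400, 214016, 100352, 4120, 8236, 12400, 4240, 17920, 35584, 4232, 8396, 116, 152]) (.leaf [1, 2, 180480, 213504, 134400, 198144, 100352, 183296, 8236, 12340, 8416, 12400, 17920, 35584, 4232, 8396, 152, 236])) (.node (.leaf [1, 2, 180480, 213504, 134400, 198144, 183296, 214016, 12340, 4120, 12400, 4240, 52480, 17920, 12356, 4232, 116, 152]) (.leaf [1, 2, 180480, 213504, 134400, 198144, 214016, 100352, 4120, 8236, 4240, 8416, 35584, 52480, 8396, 12356, 236, 116]))) (.node (.node (.leaf [1, 2, 180480, 213504, 198144, 68352, 100352, 183296, 8236, 12340, 12400, 4240, 35584, 52480, 8396, 12356, 116, 152]) (.leaf [1, 2, 180480, 213504, 198144, 68352, 183296, 214016, 12340, 4120, 4240, 8416, 17920, 35584, 4232, 8396, 236, 116])) (.node (.leaf [1, 2, 180480, 213504, 198144, 68352, 214016, 100352, 4120, 8236, 8416, 12400, 52480, 17920, 12356, 4232, 152, 236]) (.leaf [1, 2, 180736, 213760, 68864, 132608, 101376, 181248, 4148, 8216, 12448, 4336, 50688, 19200, 8264, 12428, 244, 88])))) (.node (.node (.node (.leaf [1, 2, 180736, 213760, 68864, 132608, 181248, 215040, 8216, 12332, 4336, 8272, 36096, 50688, 4292, 8264, 172, 244]) (.leaf [1, 2, 180736, 213760, 68864, 132608, 215040, 101376, 12332, 4148, 8272, 12448, 19200, 36096, 12428, 4292, 88, 172])) (.node (.leaf [1, 2, 180736, 213760, 132608, 199424, 101376, 181248, 4148, 8216, 4336, 8272, 19200, 36096, 12428, 4292, 172, 244]) (.leaf [1, 2, 180736, 213760, 132608, 199424, 181248, 215040, 8216, 12332, 8272, 12448, 50688, 19200, 8264, 12428, 88, 172]))) (.node (.node (.leaf [1, 2, 180736, 213760, 132608, 199424, 215040, 101376, 12332, 4148, 12448, 4336, 36096, 50688, 4292, 8264, 244, 88]) (.leaf [1, 2, 180736, 213760, 199424, 68864, 101376, 181248, 4148, 8216, 8272, 12448, 36096, 50688, 4292, 8264, 88, 172])) (.node (.leaf [1, 2, 180736, 213760, 199424, 68864, 181248, 215040, 8216, 12332, 12448, 4336, 19200, 36096, 12428, 4292, 244, 88]) (.leaf [1, 2, 180736, 213760, 199424, 68864, 215040, 101376, 12332, 4148, 4336, 8272, 50688, 19200, 8264, 12428, 172, 244]))))) (.node (.node (.node (.node (.leaf [1, 2, 180992, 213248, 67072, 133888, 99328, 182272, 12312, 4140, 8368, 12496, 51968, 19712, 4172, 8324, 216, 108]) (.leaf [1, 2, 180992, 213248, 67072, 133888, 182272, 216064, 4140, 8244, 12496, 4192, 34304, 51968, 12488, 4172, 180, 216])) (.node (.leaf [1, 2, 180992, 213248, 67072, 133888, 216064, 99328, 8244, 12312, 4192, 8368, 19712, 34304, 8324, 12488, 108, 180]) (.leaf [1, 2, 180992, 213248, 133888, 199936, 99328, 182272, 12312, 4140, 12496, 4192, 19712, 34304, 8324, 12488, 180, 216]))) (.node (.node (.leaf [1, 2, 180992, 213248, 133888, 199936, 182272, 216064, 4140, 8244, 4192, 8368, 51968, 19712, 4172, 8324, 108, 180]) (.leaf [1, 2, 180992, 213248, 133888, 199936, 216064, 99328, 8244, 12312, 8368, 12496, 34304, 51968, 12488, 4172, 216, 108])) (.node (.leaf [1, 2, 180992, 213248, 199936, 67072, 99328, 182272, 12312, 4140, 4192, 8368, 34304, 51968, 12488, 4172, 108, 180]) (.leaf [1, 2, 180992, 213248, 199936, 67072, 182272, 216064, 4140, 8244, 8368, 12496, 19712, 34304, 8324, 12488, 216, 108])))) (.node (.node (.node (.leaf [1, 2, 180992, 213248, 199936, 67072, 216064, 99328, 8244, 12312, 12496, 4192, 51968, 19712, 4172, 8324, 180, 216]) (.leaf [1, 2, 181248, 215040, 19200, 36096, 68864, 132608, 4336, 8272, 88, 172, 98560, 180736, 4148, 8216, 8264, 12428])) (.node (.leaf [1, 2, 181248, 215040, 19200, 36096, 132608, 199424, 8272, 12448, 172, 244, 213760, 98560, 12332, 4148, 4292, 8264]) (.leaf [1, 2, 181248, 215040, 19200, 36096, 199424, 68864, 12448, 4336, 244, 88, 180736, 213760, 8216, 12332, 12428, 4292]))) (.node (.node (.leaf [1, 2, 181248, 215040, 36096, 50688, 68864, 132608, 4336, 8272, 172, 244, 180736, 213760, 8216, 12332, 4292, 8264]) (.leaf [1, 2, 181248, 215040, 36096, 50688, 132608, 199424, 8272, 12448, 244, 88, 98560, 180736, 4148, 8216, 12428, 4292])) (.node (.leaf [1, 2, 181248, 215040, 36096, 50688, 199424, 68864, 12448, 4336, 88, 172, 213760, 98560, 12332, 4148, 8264, 12428]) (.leaf [1, 2, 181248, 215040, 50688, 19200, 68864, 132608, 4336, 8272, 244, 88, 213760, 98560, 12332, 4148, 12428, 4292])))))) (.node (.node (.node (.node (.node (.leaf [1, 2, 181248, 215040, 50688, 19200, 132608, 199424, 8272, 12448, 88, 172, 180736, 213760, 8216, 12332, 8264, 12428]) (.leaf [1, 2, 181248, 215040, 50688, 19200, 199424, 68864, 12448, 4336, 172, 244, 98560, 180736, 4148, 8216, 4292, 8264])) (.node (.leaf [1, 2, 182272, 216064, 19712, 34304, 67072, 133888, 12496, 4192, 108, 180, 98816, 180992, 12312, 4140, 4172, 8324]) (.leaf [1, 2, 182272, 216064, 19712, 34304, 133888, 199936, 4192, 8368, 180, 216, 213248, 98816, 8244, 12312, 12488, 4172]))) (.node (.node (.leaf [1, 2, 182272, 216064, 19712, 34304, 199936, 67072, 8368, 12496, 216, 108, 180992, 213248, 4140, 8244, 8324, 12488]) (.leaf [1, 2, 182272, 216064, 34304, 51968, 67072, 133888, 12496, 4192, 180, 216, 180992, 213248, 4140, 8244, 12488, 4172])) (.node (.leaf [1, 2, 182272, 216064, 34304, 51968, 133888, 199936, 4192, 8368, 216, 108, 98816, 180992, 12312, 4140, 8324, 12488]) (.leaf [1, 2, 182272, 216064, 34304, 51968, 199936, 67072, 8368, 12496, 108, 180, 213248, 98816, 8244, 12312, 4172, 8324])))) (.node (.node (.node (.leaf [1, 2, 182272, 216064, 51968, 19712, 67072, 133888, 12496, 4192, 216, 108, 213248, 98816, 8244, 12312, 8324, 12488]) (.leaf [1, 2, 182272, 216064, 51968, 19712, 133888, 199936, 4192, 8368, 108, 180, 180992, 213248, 4140, 8244, 4172, 8324])) (.node (.leaf [1, 2, 182272, 216064, 51968, 19712, 199936, 67072, 8368, 12496, 180, 216, 98816, 180992, 12312, 4140, 12488, 4172]) (.leaf [1, 2, 183296, 214016, 17920, 35584, 68352, 134400, 8416, 12400, 116, 152, 99072, 180480, 8236, 12340, 12356, 4232]))) (.node (.node (.leaf [1, 2, 183296, 214016, 17920, 35584, 134400, 198144, 12400, 4240, 152, 236, 213504, 99072, 4120, 8236, 8396, 12356]) (.leaf [1, 2, 183296, 214016, 17920, 35584, 198144, 68352, 4240, 8416, 236, 116, 180480, 213504, 12340, 4120, 4232, 8396])) (.node (.leaf [1, 2, 183296, 214016, 35584, 52480, 68352, 134400, 8416, 12400, 152, 236, 180480, 213504, 12340, 4120, 8396, 12356]) (.leaf [1, 2, 183296, 214016, 35584, 52480, 134400, 198144, 12400, 4240, 236, 116, 99072, 180480, 8236, 12340, 4232, 8396]))))) (.node (.node (.node (.node (.leaf [1, 2, 183296, 214016, 35584, 52480, 198144, 68352, 4240, 8416, 116, 152, 213504, 99072, 4120, 8236, 12356, 4232]) (.leaf [1, 2, 183296, 214016, 52480, 17920, 68352, 134400, 8416, 12400, 236, 116, 213504, 99072, 4120, 8236, 4232, 8396])) (.node (.leaf [1, 2, 183296, 214016, 52480, 17920, 134400, 198144, 12400, 4240, 116, 152, 180480, 213504, 12340, 4120, 12356, 4232]) (.leaf [1, 2, 183296, 214016, 52480, 17920, 198144, 68352, 4240, 8416, 152, 236, 99072, 180480, 8236, 12340, 8396, 12356]))) (.node (.node (.leaf [1, 2, 196608, 65536, 256, 512, 16384, 32768, 192, 64, 16, 32, 3072, 1024, 8, 12, 12288, 4096]) (.leaf [1, 2, 196608, 65536, 256, 512, 32768, 49152, 64, 128, 32, 48, 2048, 3072, 4, 8, 8192, 12288])) (.node (.leaf [1, 2, 196608, 65536, 256, 512, 49152, 16384, 128, 192, 48, 16, 1024, 2048, 12, 4, 4096, 8192]) (.leaf [1, 2, 196608, 65536, 512, 768, 16384, 32768, 192, 64, 32, 48, 1024, 2048, 12, 4, 8192, 12288])))) (.node (.node (.node (.leaf [1, 2, 196608, 65536, 512, 768, 32768, 49152, 64, 128, 48, 16, 3072, 1024, 8, 12, 4096, 8192]) (.leaf [1, 2, 196608, 65536, 512, 768, 49152, 16384, 128, 192, 16, 32, 2048, 3072, 4, 8, 12288, 4096])) (.node (.leaf [1, 2, 196608, 65536, 768, 256, 16384, 32768, 192, 64, 48, 16, 2048, 3072, 4, 8, 4096, 8192]) (.leaf [1, 2, 196608, 65536, 768, 256, 32768, 49152, 64, 128, 16, 32, 1024, 2048, 12, 4, 12288, 4096]))) (.node (.node (.leaf [1, 2, 196608, 65536, 768, 256, 49152, 16384, 128, 192, 32, 48, 3072, 1024, 8, 12, 8192, 12288]) (.leaf [1, 2, 197888, 68096, 82432, 164608, 18944, 36608, 212, 104, 12360, 4236, 246784, 83968, 4272, 8400, 8212, 12328])) (.node (.leaf [1, 2, 197888, 68096, 82432, 164608, 36608, 50432, 104, 188, 4236, 8388, 166912, 246784, 12384, 4272, 4156, 8212]) (.leaf [1, 2, 197888, 68096, 82432, 164608, 50432, 18944, 188, 212, 8388, 12360, 83968, 166912, 8400, 12384, 12328, 4156])))))))) (.node (.node (.node (.node (.node (.node (.node (.leaf [1, 2, 197888, 68096, 164608, 246016, 18944, 36608, 212, 104, 4236, 8388, 83968, 166912, 8400, 12384, 4156, 8212]) (.leaf [1, 2, 197888, 68096, 164608, 246016, 36608, 50432, 104, 188, 8388, 12360, 246784, 83968, 4272, 8400, 12328, 4156])) (.node (.leaf [1, 2, 197888, 68096, 164608, 246016, 50432, 18944, 188, 212, 12360, 4236, 166912, 246784, 12384, 4272, 8212, 12328]) (.leaf [1, 2, 197888, 68096, 246016, 82432, 18944, 36608, 212, 104, 8388, 12360, 166912, 246784, 12384, 4272, 12328, 4156]))) (.node (.node (.leaf [1, 2, 197888, 68096, 246016, 82432, 36608, 50432, 104, 188, 12360, 4236, 83968, 166912, 8400, 12384, 8212, 12328]) (.leaf [1, 2, 197888, 68096, 246016, 82432, 50432, 18944, 188, 212, 4236, 8388, 246784, 83968, 4272, 8400, 4156, 8212])) (.node (.leaf [1, 2, 198144, 68352, 99072, 180480, 17920, 35584, 236, 116, 12356, 4232, 100352, 183296, 12400, 4240, 4120, 8236]) (.leaf [1, 2, 198144, 68352, 99072, 180480, 35584, 52480, 116, 152, 4232, 8396, 214016, 100352, 8416, 12400, 12340, 4120])))) (.node (.node (.node (.leaf [1, 2, 198144, 68352, 99072, 180480, 52480, 17920, 152, 236, 8396, 12356, 183296, 214016, 4240, 8416, 8236, 12340]) (.leaf [1, 2, 198144, 68352, 180480, 213504, 17920, 35584, 236, 116, 4232, 8396, 183296, 214016, 4240, 8416, 12340, 4120])) (.node (.leaf [1, 2, 198144, 68352, 180480, 213504, 35584, 52480, 116, 152, 8396, 12356, 100352, 183296, 12400, 4240, 8236, 12340]) (.leaf [1, 2, 198144, 68352, 180480, 213504, 52480, 17920, 152, 236, 12356, 4232, 214016, 100352, 8416, 12400, 4120, 8236]))) (.node (.node (.leaf [1, 2, 198144, 68352, 213504, 99072, 17920, 35584, 236, 116, 8396, 12356, 214016, 100352, 8416, 12400, 8236, 12340]) (.leaf [1, 2, 198144, 68352, 213504, 99072, 35584, 52480, 116, 152, 12356, 4232, 183296, 214016, 4240, 8416, 4120, 8236])) (.node (.leaf [1, 2, 198144, 68352, 213504, 99072, 52480, 17920, 152, 236, 4232, 8396, 100352, 183296, 12400, 4240, 12340, 4120]) (.leaf [1, 2, 198400, 67840, 114944, 147968, 19968, 34560, 248, 92, 12364, 4228, 150528, 230400, 8432, 12368, 12316, 4132]))))) (.node (.node (.node (.node (.leaf [1, 2, 198400, 67840, 114944, 147968, 34560, 51456, 92, 164, 4228, 8392, 116736, 150528, 4256, 8432, 8248, 12316]) (.leaf [1, 2, 198400, 67840, 114944, 147968, 51456, 19968, 164, 248, 8392, 12364, 230400, 116736, 12368, 4256, 4132, 8248])) (.node (.leaf [1, 2, 198400, 67840, 147968, 230144, 19968, 34560, 248, 92, 4228, 8392, 230400, 116736, 12368, 4256, 8248, 12316]) (.leaf [1, 2, 198400, 67840, 147968, 230144, 34560, 51456, 92, 164, 8392, 12364, 150528, 230400, 8432, 12368, 4132, 8248]))) (.node (.node (.leaf [1, 2, 198400, 67840, 147968, 230144, 51456, 19968, 164, 248, 12364, 4228, 116736, 150528, 4256, 8432, 12316, 4132]) (.leaf [1, 2, 198400, 67840, 230144, 114944, 19968, 34560, 248, 92, 8392, 12364, 116736, 150528, 4256, 8432, 4132, 8248])) (.node (.leaf [1, 2, 198400, 67840, 230144, 114944, 34560, 51456, 92, 164, 12364, 4228, 230400, 116736, 12368, 4256, 12316, 4132]) (.leaf [1, 2, 198400, 67840, 230144, 114944, 51456, 19968, 164, 248, 4228, 8392, 150528, 230400, 8432, 12368, 8248, 12316])))) (.node (.node (.node (.leaf [1, 2, 198912, 69120, 115200, 148224, 18176, 35072, 220, 100, 8260, 12424, 148480, 231424, 4304, 8288, 8228, 12344]) (.leaf [1, 2, 198912, 69120, 115200, 148224, 35072, 52736, 100, 184, 12424, 4300, 117760, 148480, 12464, 4304, 4124, 8228])) (.node (.leaf [1, 2, 198912, 69120, 115200, 148224, 52736, 18176, 184, 220, 4300, 8260, 231424, 117760, 8288, 12464, 12344, 4124]) (.leaf [1, 2, 198912, 69120, 148224, 229632, 18176, 35072, 220, 100, 12424, 4300, 231424, 117760, 8288, 12464, 4124, 8228]))) (.node (.node (.leaf [1, 2, 198912, 69120, 148224, 229632, 35072, 52736, 100, 184, 4300, 8260, 148480, 231424, 4304, 8288, 12344, 4124]) (.leaf [1, 2, 198912, 69120, 148224, 229632, 52736, 18176, 184, 220, 8260, 12424, 117760, 148480, 12464, 4304, 8228, 12344])) (.node (.leaf [1, 2, 198912, 69120, 229632, 115200, 18176, 35072, 220, 100, 4300, 8260, 117760, 148480, 12464, 4304, 12344, 4124]) (.leaf [1, 2, 198912, 69120, 229632, 115200, 35072, 52736, 100, 184, 8260, 12424, 231424, 117760, 8288, 12464, 8228, 12344])))))) (.node (.node (.node (.node (.node (.leaf [1, 2, 198912, 69120, 229632, 115200, 52736, 18176, 184, 220, 12424, 4300, 148480, 231424, 4304, 8288, 4124, 8228]) (.leaf [1, 2, 199168, 69376, 82688, 164096, 20224, 34048, 232, 124, 8268, 12420, 247808, 84992, 12432, 4320, 4136, 8252])) (.node (.leaf [1, 2, 199168, 69376, 82688, 164096, 34048, 51712, 124, 148, 12420, 4296, 164864, 247808, 8304, 12432, 12308, 4136]) (.leaf [1, 2, 199168, 69376, 82688, 164096, 51712, 20224, 148, 232, 4296, 8268, 84992, 164864, 4320, 8304, 8252, 12308]))) (.node (.node (.leaf [1, 2, 199168, 69376, 164096, 246272, 20224, 34048, 232, 124, 12420, 4296, 84992, 164864, 4320, 8304, 12308, 4136]) (.leaf [1, 2, 199168, 69376, 164096, 246272, 34048, 51712, 124, 148, 4296, 8268, 247808, 84992, 12432, 4320, 8252, 12308])) (.node (.leaf [1, 2, 199168, 69376, 164096, 246272, 51712, 20224, 148, 232, 8268, 12420, 164864, 247808, 8304, 12432, 4136, 8252]) (.leaf [1, 2, 199168, 69376, 246272, 82688, 20224, 34048, 232, 124, 4296, 8268, 164864, 247808, 8304, 12432, 8252, 12308])))) (.node (.node (.node (.leaf [1, 2, 199168, 69376, 246272, 82688, 34048, 51712, 124, 148, 8268, 12420, 84992, 164864, 4320, 8304, 4136, 8252]) (.leaf [1, 2, 199168, 69376, 246272, 82688, 51712, 20224, 148, 232, 12420, 4296, 247808, 84992, 12432, 4320, 12308, 4136])) (.node (.leaf [1, 2, 199424, 68864, 98560, 180736, 19200, 36096, 244, 88, 8264, 12428, 101376, 181248, 8272, 12448, 12332, 4148]) (.leaf [1, 2, 199424, 68864, 98560, 180736, 36096, 50688, 88, 172, 12428, 4292, 215040, 101376, 4336, 8272, 8216, 12332]))) (.node (.node (.leaf [1, 2, 199424, 68864, 98560, 180736, 50688, 19200, 172, 244, 4292, 8264, 181248, 215040, 12448, 4336, 4148, 8216]) (.leaf [1, 2, 199424, 68864, 180736, 213760, 19200, 36096, 244, 88, 12428, 4292, 181248, 215040, 12448, 4336, 8216, 12332])) (.node (.leaf [1, 2, 199424, 68864, 180736, 213760, 36096, 50688, 88, 172, 4292, 8264, 101376, 181248, 8272, 12448, 4148, 8216]) (.leaf [1, 2, 199424, 68864, 180736, 213760, 50688, 19200, 172, 244, 8264, 12428, 215040, 101376, 4336, 8272, 12332, 4148]))))) (.node (.node (.node (.node (.leaf [1, 2, 199424, 68864, 213760, 98560, 19200, 36096, 244, 88, 4292, 8264, 215040, 101376, 4336, 8272, 4148, 8216]) (.leaf [1, 2, 199424, 68864, 213760, 98560, 36096, 50688, 88, 172, 8264, 12428, 181248, 215040, 12448, 4336, 12332, 4148])) (.node (.leaf [1, 2, 199424, 68864, 213760, 98560, 50688, 19200, 172, 244, 12428, 4292, 101376, 181248, 8272, 12448, 8216, 12332]) (.leaf [1, 2, 199936, 67072, 98816, 180992, 19712, 34304, 216, 108, 4172, 8324, 99328, 182272, 4192, 8368, 8244, 12312]))) (.node (.node (.leaf [1, 2, 199936, 67072, 98816, 180992, 34304, 51968, 108, 180, 8324, 12488, 216064, 99328, 12496, 4192, 4140, 8244]) (.leaf [1, 2, 199936, 67072, 98816, 180992, 51968, 19712, 180, 216, 12488, 4172, 182272, 216064, 8368, 12496, 12312, 4140])) (.node (.leaf [1, 2, 199936, 67072, 180992, 213248, 19712, 34304, 216, 108, 8324, 12488, 182272, 216064, 8368, 12496, 4140, 8244]) (.leaf [1, 2, 199936, 67072, 180992, 213248, 34304, 51968, 108, 180, 12488, 4172, 99328, 182272, 4192, 8368, 12312, 4140])))) (.node (.node (.node (.leaf [1, 2, 199936, 67072, 180992, 213248, 51968, 19712, 180, 216, 4172, 8324, 216064, 99328, 12496, 4192, 8244, 12312]) (.leaf [1, 2, 199936, 67072, 213248, 98816, 19712, 34304, 216, 108, 12488, 4172, 216064, 99328, 12496, 4192, 12312, 4140])) (.node (.leaf [1, 2, 199936, 67072, 213248, 98816, 34304, 51968, 108, 180, 4172, 8324, 182272, 216064, 8368, 12496, 8244, 12312]) (.leaf [1, 2, 199936, 67072, 213248, 98816, 51968, 19712, 180, 216, 8324, 12488, 99328, 182272, 4192, 8368, 4140, 8244]))) (.node (.node (.leaf [1, 2, 200192, 67328, 115456, 147712, 18688, 36352, 228, 120, 4168, 8332, 149504, 232448, 12512, 4208, 4152, 8220]) (.leaf [1, 2, 200192, 67328, 115456, 147712, 36352, 50944, 120, 156, 8332, 12484, 115712, 149504, 8336, 12512, 12324, 4152])) (.node (.leaf [1, 2, 200192, 67328, 115456, 147712, 50944, 18688, 156, 228, 12484, 4168, 232448, 115712, 4208, 8336, 8220, 12324]) (.leaf [1, 2, 200192, 67328, 147712, 229888, 18688, 36352, 228, 120, 8332, 12484, 232448, 115712, 4208, 8336, 12324, 4152]))))))) (.node (.node (.node (.node (.node (.node (.leaf [1, 2, 200192, 67328, 147712, 229888, 36352, 50944, 120, 156, 12484, 4168, 149504, 232448, 12512, 4208, 8220, 12324]) (.leaf [1, 2, 200192, 67328, 147712, 229888, 50944, 18688, 156, 228, 4168, 8332, 115712, 149504, 8336, 12512, 4152, 8220])) (.node (.leaf [1, 2, 200192, 67328, 229888, 115456, 18688, 36352, 228, 120, 12484, 4168, 115712, 149504, 8336, 12512, 8220, 12324]) (.leaf [1, 2, 200192, 67328, 229888, 115456, 36352, 50944, 120, 156, 4168, 8332, 232448, 115712, 4208, 8336, 4152, 8220]))) (.node (.node (.leaf [1, 2, 200192, 67328, 229888, 115456, 50944, 18688, 156, 228, 8332, 12484, 149504, 232448, 12512, 4208, 12324, 4152]) (.leaf [1, 2, 200448, 66816, 82176, 164352, 17664, 35328, 252, 84, 4164, 8328, 248832, 82944, 8352, 12528, 12348, 4116])) (.node (.leaf [1, 2, 200448, 66816, 82176, 164352, 35328, 52992, 84, 168, 8328, 12492, 165888, 248832, 4176, 8352, 8232, 12348]) (.leaf [1, 2, 200448, 66816, 82176, 164352, 52992, 17664, 168, 252, 12492, 4164, 82944, 165888, 12528, 4176, 4116, 8232])))) (.node (.node (.node (.leaf [1, 2, 200448, 66816, 164352, 246528, 17664, 35328, 252, 84, 8328, 12492, 82944, 165888, 12528, 4176, 8232, 12348]) (.leaf [1, 2, 200448, 66816, 164352, 246528, 35328, 52992, 84, 168, 12492, 4164, 248832, 82944, 8352, 12528, 4116, 8232])) (.node (.leaf [1, 2, 200448, 66816, 164352, 246528, 52992, 17664, 168, 252, 4164, 8328, 165888, 248832, 4176, 8352, 12348, 4116]) (.leaf [1, 2, 200448, 66816, 246528, 82176, 17664, 35328, 252, 84, 12492, 4164, 165888, 248832, 4176, 8352, 4116, 8232]))) (.node (.node (.leaf [1, 2, 200448, 66816, 246528, 82176, 35328, 52992, 84, 168, 4164, 8328, 82944, 165888, 12528, 4176, 12348, 4116]) (.leaf [1, 2, 200448, 66816, 246528, 82176, 52992, 17664, 168, 252, 8328, 12492, 248832, 82944, 8352, 12528, 8232, 12348])) (.node (.leaf [1, 2, 213248, 98816, 67072, 133888, 99328, 182272, 4140, 8244, 8368, 12496, 19712, 34304, 12488, 4172, 108, 180]) (.leaf [1, 2, 213248, 98816, 67072, 133888, 182272, 216064, 8244, 12312, 12496, 4192, 51968, 19712, 8324, 12488, 216, 108]))))) (.node (.node (.node (.node (.leaf [1, 2, 213248, 98816, 67072, 133888, 216064, 99328, 12312, 4140, 4192, 8368, 34304, 51968, 4172, 8324, 180, 216]) (.leaf [1, 2, 213248, 98816, 133888, 199936, 99328, 182272, 4140, 8244, 12496, 4192, 34304, 51968, 4172, 8324, 216, 108])) (.node (.leaf [1, 2, 213248, 98816, 133888, 199936, 182272, 216064, 8244, 12312, 4192, 8368, 19712, 34304, 12488, 4172, 180, 216]) (.leaf [1, 2, 213248, 98816, 133888, 199936, 216064, 99328, 12312, 4140, 8368, 12496, 51968, 19712, 8324, 12488, 108, 180]))) (.node (.node (.leaf [1, 2, 213248, 98816, 199936, 67072, 99328, 182272, 4140, 8244, 4192, 8368, 51968, 19712, 8324, 12488, 180, 216]) (.leaf [1, 2, 213248, 98816, 199936, 67072, 182272, 216064, 8244, 12312, 8368, 12496, 34304, 51968, 4172, 8324, 108, 180])) (.node (.leaf [1, 2, 213248, 98816, 199936, 67072, 216064, 99328, 12312, 4140, 12496, 4192, 19712, 34304, 12488, 4172, 216, 108]) (.leaf [1, 2, 213504, 99072, 68352, 134400, 100352, 183296, 12340, 4120, 4240, 8416, 17920, 35584, 8396, 12356, 116, 152])))) (.node (.node (.node (.leaf [1, 2, 213504, 99072, 68352, 134400, 183296, 214016, 4120, 8236, 8416, 12400, 52480, 17920, 4232, 8396, 236, 116]) (.leaf [1, 2, 213504, 99072, 68352, 134400, 214016, 100352, 8236, 12340, 12400, 4240, 35584, 52480, 12356, 4232, 152, 236])) (.node (.leaf [1, 2, 213504, 99072, 134400, 198144, 100352, 183296, 12340, 4120, 8416, 12400, 35584, 52480, 12356, 4232, 236, 116]) (.leaf [1, 2, 213504, 99072, 134400, 198144, 183296, 214016, 4120, 8236, 12400, 4240, 17920, 35584, 8396, 12356, 152, 236]))) (.node (.node (.leaf [1, 2, 213504, 99072, 134400, 198144, 214016, 100352, 8236, 12340, 4240, 8416, 52480, 17920, 4232, 8396, 116, 152]) (.leaf [1, 2, 213504, 99072, 198144, 68352, 100352, 183296, 12340, 4120, 12400, 4240, 52480, 17920, 4232, 8396, 152, 236])) (.node (.leaf [1, 2, 213504, 99072, 198144, 68352, 183296, 214016, 4120, 8236, 4240, 8416, 35584, 52480, 12356, 4232, 116, 152]) (.leaf [1, 2, 213504, 99072, 198144, 68352, 214016, 100352, 8236, 12340, 8416, 12400, 17920, 35584, 8396, 12356, 236, 116])))))) (.node (.node (.node (.node (.node (.leaf [1, 2, 213760, 98560, 68864, 132608, 101376, 181248, 8216, 12332, 12448, 4336, 19200, 36096, 4292, 8264, 88, 172]) (.leaf [1, 2, 213760, 98560, 68864, 132608, 181248, 215040, 12332, 4148, 4336, 8272, 50688, 19200, 12428, 4292, 244, 88])) (.node (.leaf [1, 2, 213760, 98560, 68864, 132608, 215040, 101376, 4148, 8216, 8272, 12448, 36096, 50688, 8264, 12428, 172, 244]) (.leaf [1, 2, 213760, 98560, 132608, 199424, 101376, 181248, 8216, 12332, 4336, 8272, 36096, 50688, 8264, 12428, 244, 88]))) (.node (.node (.leaf [1, 2, 213760, 98560, 132608, 199424, 181248, 215040, 12332, 4148, 8272, 12448, 19200, 36096, 4292, 8264, 172, 244]) (.leaf [1, 2, 213760, 98560, 132608, 199424, 215040, 101376, 4148, 8216, 12448, 4336, 50688, 19200, 12428, 4292, 88, 172])) (.node (.leaf [1, 2, 213760, 98560, 199424, 68864, 101376, 181248, 8216, 12332, 8272, 12448, 50688, 19200, 12428, 4292, 172, 244]) (.leaf [1, 2, 213760, 98560, 199424, 68864, 181248, 215040, 12332, 4148, 12448, 4336, 36096, 50688, 8264, 12428, 88, 172])))) (.node (.node (.node (.leaf [1, 2, 213760, 98560, 199424, 68864, 215040, 101376, 4148, 8216, 4336, 8272, 19200, 36096, 4292, 8264, 244, 88]) (.leaf [1, 2, 214016, 100352, 17920, 35584, 68352, 134400, 12400, 4240, 116, 152, 180480, 213504, 4120, 8236, 4232, 8396])) (.node (.leaf [1, 2, 214016, 100352, 17920, 35584, 134400, 198144, 4240, 8416, 152, 236, 99072, 180480, 12340, 4120, 12356, 4232]) (.leaf [1, 2, 214016, 100352, 17920, 35584, 198144, 68352, 8416, 12400, 236, 116, 213504, 99072, 8236, 12340, 8396, 12356]))) (.node (.node (.leaf [1, 2, 214016, 100352, 35584, 52480, 68352, 134400, 12400, 4240, 152, 236, 213504, 99072, 8236, 12340, 12356, 4232]) (.leaf [1, 2, 214016, 100352, 35584, 52480, 134400, 198144, 4240, 8416, 236, 116, 180480, 213504, 4120, 8236, 8396, 12356])) (.node (.leaf [1, 2, 214016, 100352, 35584, 52480, 198144, 68352, 8416, 12400, 116, 152, 99072, 180480, 12340, 4120, 4232, 8396]) (.leaf [1, 2, 214016, 100352, 52480, 17920, 68352, 134400, 12400, 4240, 236, 116, 99072, 180480, 12340, 4120, 8396, 12356]))))) (.node (.node (.node (.node (.leaf [1, 2, 214016, 100352, 52480, 17920, 134400, 198144, 4240, 8416, 116, 152, 213504, 99072, 8236, 12340, 4232, 8396]) (.leaf [1, 2, 214016, 100352, 52480, 17920, 198144, 68352, 8416, 12400, 152, 236, 180480, 213504, 4120, 8236, 12356, 4232])) (.node (.leaf [1, 2, 215040, 101376, 19200, 36096, 68864, 132608, 8272, 12448, 88, 172, 180736, 213760, 12332, 4148, 12428, 4292]) (.leaf [1, 2, 215040, 101376, 19200, 36096, 132608, 199424, 12448, 4336, 172, 244, 98560, 180736, 8216, 12332, 8264, 12428]))) (.node (.node (.leaf [1, 2, 215040, 101376, 19200, 36096, 199424, 68864, 4336, 8272, 244, 88, 213760, 98560, 4148, 8216, 4292, 8264]) (.leaf [1, 2, 215040, 101376, 36096, 50688, 68864, 132608, 8272, 12448, 172, 244, 213760, 98560, 4148, 8216, 8264, 12428])) (.node (.leaf [1, 2, 215040, 101376, 36096, 50688, 132608, 199424, 12448, 4336, 244, 88, 180736, 213760, 12332, 4148, 4292, 8264]) (.leaf [1, 2, 215040, 101376, 36096, 50688, 199424, 68864, 4336, 8272, 88, 172, 98560, 180736, 8216, 12332, 12428, 4292])))) (.node (.node (.node (.leaf [1, 2, 215040, 101376, 50688, 19200, 68864, 132608, 8272, 12448, 244, 88, 98560, 180736, 8216, 12332, 4292, 8264]) (.leaf [1, 2, 215040, 101376, 50688, 19200, 132608, 199424, 12448, 4336, 88, 172, 213760, 98560, 4148, 8216, 12428, 4292])) (.node (.leaf [1, 2, 215040, 101376, 50688, 19200, 199424, 68864, 4336, 8272, 172, 244, 180736, 213760, 12332, 4148, 8264, 12428]) (.leaf [1, 2, 216064, 99328, 19712, 34304, 67072, 133888, 4192, 8368, 108, 180, 180992, 213248, 8244, 12312, 8324, 12488]))) (.node (.node (.leaf [1, 2, 216064, 99328, 19712, 34304, 133888, 199936, 8368, 12496, 180, 216, 98816, 180992, 4140, 8244, 4172, 8324]) (.leaf [1, 2, 216064, 99328, 19712, 34304, 199936, 67072, 12496, 4192, 216, 108, 213248, 98816, 12312, 4140, 12488, 4172])) (.node (.leaf [1, 2, 216064, 99328, 34304, 51968, 67072, 133888, 4192, 8368, 180, 216, 213248, 98816, 12312, 4140, 4172, 8324]) (.leaf [1, 2, 216064, 99328, 34304, 51968, 133888, 199936, 8368, 12496, 216, 108, 180992, 213248, 8244, 12312, 12488, 4172])))))))))))) (.node (.node (.node (.node (.node (.node (.node (.node (.node (.node (.node (.leaf [1, 2, 216064, 99328, 34304, 51968, 199936, 67072, 12496, 4192, 108, 180, 98816, 180992, 4140, 8244, 8324, 12488]) (.leaf [1, 2, 216064, 99328, 51968, 19712, 67072, 133888, 4192, 8368, 216, 108, 98816, 180992, 4140, 8244, 12488, 4172])) (.node (.leaf [1, 2, 216064, 99328, 51968, 19712, 133888, 199936, 8368, 12496, 108, 180, 213248, 98816, 12312, 4140, 8324, 12488]) (.leaf [1, 2, 216064, 99328, 51968, 19712, 199936, 67072, 12496, 4192, 180, 216, 180992, 213248, 8244, 12312, 4172, 8324]))) (.node (.node (.leaf [1, 2, 229632, 115200, 69120, 132864, 117760, 148480, 12344, 4124, 4304, 8288, 35072, 52736, 8260, 12424, 184, 220]) (.leaf [1, 2, 229632, 115200, 69120, 132864, 148480, 231424, 4124, 8228, 8288, 12464, 18176, 35072, 4300, 8260, 100, 184])) (.node (.leaf [1, 2, 229632, 115200, 69120, 132864, 231424, 117760, 8228, 12344, 12464, 4304, 52736, 18176, 12424, 4300, 220, 100]) (.leaf [1, 2, 229632, 115200, 132864, 198912, 117760, 148480, 12344, 4124, 8288, 12464, 52736, 18176, 12424, 4300, 100, 184])))) (.node (.node (.node (.leaf [1, 2, 229632, 115200, 132864, 198912, 148480, 231424, 4124, 8228, 12464, 4304, 35072, 52736, 8260, 12424, 220, 100]) (.leaf [1, 2, 229632, 115200, 132864, 198912, 231424, 117760, 8228, 12344, 4304, 8288, 18176, 35072, 4300, 8260, 184, 220])) (.node (.leaf [1, 2, 229632, 115200, 198912, 69120, 117760, 148480, 12344, 4124, 12464, 4304, 18176, 35072, 4300, 8260, 220, 100]) (.leaf [1, 2, 229632, 115200, 198912, 69120, 148480, 231424, 4124, 8228, 4304, 8288, 52736, 18176, 12424, 4300, 184, 220]))) (.node (.node (.leaf [1, 2, 229632, 115200, 198912, 69120, 231424, 117760, 8228, 12344, 8288, 12464, 35072, 52736, 8260, 12424, 100, 184]) (.leaf [1, 2, 229888, 115456, 67328, 133376, 115712, 149504, 8220, 12324, 12512, 4208, 36352, 50944, 4168, 8332, 156, 228])) (.node (.leaf [1, 2, 229888, 115456, 67328, 133376, 149504, 232448, 12324, 4152, 4208, 8336, 18688, 36352, 12484, 4168, 120, 156]) (.leaf [1, 2, 229888, 115456, 67328, 133376, 232448, 115712, 4152, 8220, 8336, 12512, 50944, 18688, 8332, 12484, 228, 120]))))) (.node (.node (.node (.node (.leaf [1, 2, 229888, 115456, 133376, 200192, 115712, 149504, 8220, 12324, 4208, 8336, 50944, 18688, 8332, 12484, 120, 156]) (.leaf [1, 2, 229888, 115456, 133376, 200192, 149504, 232448, 12324, 4152, 8336, 12512, 36352, 50944, 4168, 8332, 228, 120])) (.node (.leaf [1, 2, 229888, 115456, 133376, 200192, 232448, 115712, 4152, 8220, 12512, 4208, 18688, 36352, 12484, 4168, 156, 228]) (.leaf [1, 2, 229888, 115456, 200192, 67328, 115712, 149504, 8220, 12324, 8336, 12512, 18688, 36352, 12484, 4168, 228, 120]))) (.node (.node (.leaf [1, 2, 229888, 115456, 200192, 67328, 149504, 232448, 12324, 4152, 12512, 4208, 50944, 18688, 8332, 12484, 156, 228]) (.leaf [1, 2, 229888, 115456, 200192, 67328, 232448, 115712, 4152, 8220, 4208, 8336, 36352, 50944, 4168, 8332, 120, 156])) (.node (.leaf [1, 2, 230144, 114944, 67840, 134656, 116736, 150528, 4132, 8248, 8432, 12368, 34560, 51456, 12364, 4228, 164, 248]) (.leaf [1, 2, 230144, 114944, 67840, 134656, 150528, 230400, 8248, 12316, 12368, 4256, 19968, 34560, 8392, 12364, 92, 164])))) (.node (.node (.node (.leaf [1, 2, 230144, 114944, 67840, 134656, 230400, 116736, 12316, 4132, 4256, 8432, 51456, 19968, 4228, 8392, 248, 92]) (.leaf [1, 2, 230144, 114944, 134656, 198400, 116736, 150528, 4132, 8248, 12368, 4256, 51456, 19968, 4228, 8392, 92, 164])) (.node (.leaf [1, 2, 230144, 114944, 134656, 198400, 150528, 230400, 8248, 12316, 4256, 8432, 34560, 51456, 12364, 4228, 248, 92]) (.leaf [1, 2, 230144, 114944, 134656, 198400, 230400, 116736, 12316, 4132, 8432, 12368, 19968, 34560, 8392, 12364, 164, 248]))) (.node (.node (.leaf [1, 2, 230144, 114944, 198400, 67840, 116736, 150528, 4132, 8248, 4256, 8432, 19968, 34560, 8392, 12364, 248, 92]) (.leaf [1, 2, 230144, 114944, 198400, 67840, 150528, 230400, 8248, 12316, 8432, 12368, 51456, 19968, 4228, 8392, 164, 248])) (.node (.leaf [1, 2, 230144, 114944, 198400, 67840, 230400, 116736, 12316, 4132, 12368, 4256, 34560, 51456, 12364, 4228, 92, 164]) (.leaf [1, 2, 230400, 116736, 19968, 34560, 67840, 134656, 4256, 8432, 92, 164, 114944, 147968, 4132, 8248, 12364, 4228])))))) (.node (.node (.node (.node (.node (.leaf [1, 2, 230400, 116736, 19968, 34560, 134656, 198400, 8432, 12368, 164, 248, 230144, 114944, 12316, 4132, 8392, 12364]) (.leaf [1, 2, 230400, 116736, 19968, 34560, 198400, 67840, 12368, 4256, 248, 92, 147968, 230144, 8248, 12316, 4228, 8392])) (.node (.leaf [1, 2, 230400, 116736, 34560, 51456, 67840, 134656, 4256, 8432, 164, 248, 147968, 230144, 8248, 12316, 8392, 12364]) (.leaf [1, 2, 230400, 116736, 34560, 51456, 134656, 198400, 8432, 12368, 248, 92, 114944, 147968, 4132, 8248, 4228, 8392]))) (.node (.node (.leaf [1, 2, 230400, 116736, 34560, 51456, 198400, 67840, 12368, 4256, 92, 164, 230144, 114944, 12316, 4132, 12364, 4228]) (.leaf [1, 2, 230400, 116736, 51456, 19968, 67840, 134656, 4256, 8432, 248, 92, 230144, 114944, 12316, 4132, 4228, 8392])) (.node (.leaf [1, 2, 230400, 116736, 51456, 19968, 134656, 198400, 8432, 12368, 92, 164, 147968, 230144, 8248, 12316, 12364, 4228]) (.leaf [1, 2, 230400, 116736, 51456, 19968, 198400, 67840, 12368, 4256, 164, 248, 114944, 147968, 4132, 8248, 8392, 12364])))) (.node (.node (.node (.leaf [1, 2, 231424, 117760, 18176, 35072, 69120, 132864, 12464, 4304, 100, 184, 115200, 148224, 12344, 4124, 8260, 12424]) (.leaf [1, 2, 231424, 117760, 18176, 35072, 132864, 198912, 4304, 8288, 184, 220, 229632, 115200, 8228, 12344, 4300, 8260])) (.node (.leaf [1, 2, 231424, 117760, 18176, 35072, 198912, 69120, 8288, 12464, 220, 100, 148224, 229632, 4124, 8228, 12424, 4300]) (.leaf [1, 2, 231424, 117760, 35072, 52736, 69120, 132864, 12464, 4304, 184, 220, 148224, 229632, 4124, 8228, 4300, 8260]))) (.node (.node (.leaf [1, 2, 231424, 117760, 35072, 52736, 132864, 198912, 4304, 8288, 220, 100, 115200, 148224, 12344, 4124, 12424, 4300]) (.leaf [1, 2, 231424, 117760, 35072, 52736, 198912, 69120, 8288, 12464, 100, 184, 229632, 115200, 8228, 12344, 8260, 12424])) (.node (.leaf [1, 2, 231424, 117760, 52736, 18176, 69120, 132864, 12464, 4304, 220, 100, 229632, 115200, 8228, 12344, 12424, 4300]) (.leaf [1, 2, 231424, 117760, 52736, 18176, 132864, 198912, 4304, 8288, 100, 184, 148224, 229632, 4124, 8228, 8260, 12424]))))) (.node (.node (.node (.node (.leaf [1, 2, 231424, 117760, 52736, 18176, 198912, 69120, 8288, 12464, 184, 220, 115200, 148224, 12344, 4124, 4300, 8260]) (.leaf [1, 2, 232448, 115712, 18688, 36352, 67328, 133376, 8336, 12512, 120, 156, 115456, 147712, 8220, 12324, 4168, 8332])) (.node (.leaf [1, 2, 232448, 115712, 18688, 36352, 133376, 200192, 12512, 4208, 156, 228, 229888, 115456, 4152, 8220, 12484, 4168]) (.leaf [1, 2, 232448, 115712, 18688, 36352, 200192, 67328, 4208, 8336, 228, 120, 147712, 229888, 12324, 4152, 8332, 12484]))) (.node (.node (.leaf [1, 2, 232448, 115712, 36352, 50944, 67328, 133376, 8336, 12512, 156, 228, 147712, 229888, 12324, 4152, 12484, 4168]) (.leaf [1, 2, 232448, 115712, 36352, 50944, 133376, 200192, 12512, 4208, 228, 120, 115456, 147712, 8220, 12324, 8332, 12484])) (.node (.leaf [1, 2, 232448, 115712, 36352, 50944, 200192, 67328, 4208, 8336, 120, 156, 229888, 115456, 4152, 8220, 4168, 8332]) (.leaf [1, 2, 232448, 115712, 50944, 18688, 67328, 133376, 8336, 12512, 228, 120, 229888, 115456, 4152, 8220, 8332, 12484])))) (.node (.node (.node (.leaf [1, 2, 232448, 115712, 50944, 18688, 133376, 200192, 12512, 4208, 120, 156, 147712, 229888, 12324, 4152, 4168, 8332]) (.leaf [1, 2, 232448, 115712, 50944, 18688, 200192, 67328, 4208, 8336, 156, 228, 115456, 147712, 8220, 12324, 12484, 4168])) (.node (.leaf [1, 2, 246016, 82432, 68096, 134912, 83968, 166912, 8212, 12328, 12384, 4272, 50432, 18944, 4236, 8388, 212, 104]) (.leaf [1, 2, 246016, 82432, 68096, 134912, 166912, 246784, 12328, 4156, 4272, 8400, 36608, 50432, 12360, 4236, 188, 212]))) (.node (.node (.leaf [1, 2, 246016, 82432, 68096, 134912, 246784, 83968, 4156, 8212, 8400, 12384, 18944, 36608, 8388, 12360, 104, 188]) (.leaf [1, 2, 246016, 82432, 134912, 197888, 83968, 166912, 8212, 12328, 4272, 8400, 18944, 36608, 8388, 12360, 188, 212])) (.node (.leaf [1, 2, 246016, 82432, 134912, 197888, 166912, 246784, 12328, 4156, 8400, 12384, 50432, 18944, 4236, 8388, 104, 188]) (.leaf [1, 2, 246016, 82432, 134912, 197888, 246784, 83968, 4156, 8212, 12384, 4272, 36608, 50432, 12360, 4236, 212, 104]))))))) (.node (.node (.node (.node (.node (.node (.leaf [1, 2, 246016, 82432, 197888, 68096, 83968, 166912, 8212, 12328, 8400, 12384, 36608, 50432, 12360, 4236, 104, 188]) (.leaf [1, 2, 246016, 82432, 197888, 68096, 166912, 246784, 12328, 4156, 12384, 4272, 18944, 36608, 8388, 12360, 212, 104])) (.node (.leaf [1, 2, 246016, 82432, 197888, 68096, 246784, 83968, 4156, 8212, 4272, 8400, 50432, 18944, 4236, 8388, 188, 212]) (.leaf [1, 2, 246272, 82688, 69376, 132352, 84992, 164864, 4136, 8252, 8304, 12432, 51712, 20224, 12420, 4296, 232, 124]))) (.node (.node (.leaf [1, 2, 246272, 82688, 69376, 132352, 164864, 247808, 8252, 12308, 12432, 4320, 34048, 51712, 8268, 12420, 148, 232]) (.leaf [1, 2, 246272, 82688, 69376, 132352, 247808, 84992, 12308, 4136, 4320, 8304, 20224, 34048, 4296, 8268, 124, 148])) (.node (.leaf [1, 2, 246272, 82688, 132352, 199168, 84992, 164864, 4136, 8252, 12432, 4320, 20224, 34048, 4296, 8268, 148, 232]) (.leaf [1, 2, 246272, 82688, 132352, 199168, 164864, 247808, 8252, 12308, 4320, 8304, 51712, 20224, 12420, 4296, 124, 148])))) (.node (.node (.node (.leaf [1, 2, 246272, 82688, 132352, 199168, 247808, 84992, 12308, 4136, 8304, 12432, 34048, 51712, 8268, 12420, 232, 124]) (.leaf [1, 2, 246272, 82688, 199168, 69376, 84992, 164864, 4136, 8252, 4320, 8304, 34048, 51712, 8268, 12420, 124, 148])) (.node (.leaf [1, 2, 246272, 82688, 199168, 69376, 164864, 247808, 8252, 12308, 8304, 12432, 20224, 34048, 4296, 8268, 232, 124]) (.leaf [1, 2, 246272, 82688, 199168, 69376, 247808, 84992, 12308, 4136, 12432, 4320, 51712, 20224, 12420, 4296, 148, 232]))) (.node (.node (.leaf [1, 2, 246528, 82176, 66816, 133632, 82944, 165888, 12348, 4116, 4176, 8352, 52992, 17664, 8328, 12492, 252, 84]) (.leaf [1, 2, 246528, 82176, 66816, 133632, 165888, 248832, 4116, 8232, 8352, 12528, 35328, 52992, 4164, 8328, 168, 252])) (.node (.leaf [1, 2, 246528, 82176, 66816, 133632, 248832, 82944, 8232, 12348, 12528, 4176, 17664, 35328, 12492, 4164, 84, 168]) (.leaf [1, 2, 246528, 82176, 133632, 200448, 82944, 165888, 12348, 4116, 8352, 12528, 17664, 35328, 12492, 4164, 168, 252]))))) (.node (.node (.node (.node (.leaf [1, 2, 246528, 82176, 133632, 200448, 165888, 248832, 4116, 8232, 12528, 4176, 52992, 17664, 8328, 12492, 84, 168]) (.leaf [1, 2, 246528, 82176, 133632, 200448, 248832, 82944, 8232, 12348, 4176, 8352, 35328, 52992, 4164, 8328, 252, 84])) (.node (.leaf [1, 2, 246528, 82176, 200448, 66816, 82944, 165888, 12348, 4116, 12528, 4176, 35328, 52992, 4164, 8328, 84, 168]) (.leaf [1, 2, 246528, 82176, 200448, 66816, 165888, 248832, 4116, 8232, 4176, 8352, 17664, 35328, 12492, 4164, 252, 84]))) (.node (.node (.leaf [1, 2, 246528, 82176, 200448, 66816, 248832, 82944, 8232, 12348, 8352, 12528, 52992, 17664, 8328, 12492, 168, 252]) (.leaf [1, 2, 246784, 83968, 18944, 36608, 68096, 134912, 8400, 12384, 104, 188, 246016, 82432, 4156, 8212, 8388, 12360])) (.node (.leaf [1, 2, 246784, 83968, 18944, 36608, 134912, 197888, 12384, 4272, 188, 212, 164608, 246016, 12328, 4156, 4236, 8388]) (.leaf [1, 2, 246784, 83968, 18944, 36608, 197888, 68096, 4272, 8400, 212, 104, 82432, 164608, 8212, 12328, 12360, 4236])))) (.node (.node (.node (.leaf [1, 2, 246784, 83968, 36608, 50432, 68096, 134912, 8400, 12384, 188, 212, 82432, 164608, 8212, 12328, 4236, 8388]) (.leaf [1, 2, 246784, 83968, 36608, 50432, 134912, 197888, 12384, 4272, 212, 104, 246016, 82432, 4156, 8212, 12360, 4236])) (.node (.leaf [1, 2, 246784, 83968, 36608, 50432, 197888, 68096, 4272, 8400, 104, 188, 164608, 246016, 12328, 4156, 8388, 12360]) (.leaf [1, 2, 246784, 83968, 50432, 18944, 68096, 134912, 8400, 12384, 212, 104, 164608, 246016, 12328, 4156, 12360, 4236]))) (.node (.node (.leaf [1, 2, 246784, 83968, 50432, 18944, 134912, 197888, 12384, 4272, 104, 188, 82432, 164608, 8212, 12328, 8388, 12360]) (.leaf [1, 2, 246784, 83968, 50432, 18944, 197888, 68096, 4272, 8400, 188, 212, 246016, 82432, 4156, 8212, 4236, 8388])) (.node (.leaf [1, 2, 247808, 84992, 20224, 34048, 69376, 132352, 4320, 8304, 124, 148, 246272, 82688, 12308, 4136, 4296, 8268]) (.leaf [1, 2, 247808, 84992, 20224, 34048, 132352, 199168, 8304, 12432, 148, 232, 164096, 246272, 8252, 12308, 12420, 4296])))))) (.node (.node (.node (.node (.node (.leaf [1, 2, 247808, 84992, 20224, 34048, 199168, 69376, 12432, 4320, 232, 124, 82688, 164096, 4136, 8252, 8268, 12420]) (.leaf [1, 2, 247808, 84992, 34048, 51712, 69376, 132352, 4320, 8304, 148, 232, 82688, 164096, 4136, 8252, 12420, 4296])) (.node (.leaf [1, 2, 247808, 84992, 34048, 51712, 132352, 199168, 8304, 12432, 232, 124, 246272, 82688, 12308, 4136, 8268, 12420]) (.leaf [1, 2, 247808, 84992, 34048, 51712, 199168, 69376, 12432, 4320, 124, 148, 164096, 246272, 8252, 12308, 4296, 8268]))) (.node (.node (.leaf [1, 2, 247808, 84992, 51712, 20224, 69376, 132352, 4320, 8304, 232, 124, 164096, 246272, 8252, 12308, 8268, 12420]) (.leaf [1, 2, 247808, 84992, 51712, 20224, 132352, 199168, 8304, 12432, 124, 148, 82688, 164096, 4136, 8252, 4296, 8268])) (.node (.leaf [1, 2, 247808, 84992, 51712, 20224, 199168, 69376, 12432, 4320, 148, 232, 246272, 82688, 12308, 4136, 12420, 4296]) (.leaf [1, 2, 248832, 82944, 17664, 35328, 66816, 133632, 12528, 4176, 84, 168, 246528, 82176, 8232, 12348, 12492, 4164])))) (.node (.node (.node (.leaf [1, 2, 248832, 82944, 17664, 35328, 133632, 200448, 4176, 8352, 168, 252, 164352, 246528, 4116, 8232, 8328, 12492]) (.leaf [1, 2, 248832, 82944, 17664, 35328, 200448, 66816, 8352, 12528, 252, 84, 82176, 164352, 12348, 4116, 4164, 8328])) (.node (.leaf [1, 2, 248832, 82944, 35328, 52992, 66816, 133632, 12528, 4176, 168, 252, 82176, 164352, 12348, 4116, 8328, 12492]) (.leaf [1, 2, 248832, 82944, 35328, 52992, 133632, 200448, 4176, 8352, 252, 84, 246528, 82176, 8232, 12348, 4164, 8328]))) (.node (.node (.leaf [1, 2, 248832, 82944, 35328, 52992, 200448, 66816, 8352, 12528, 84, 168, 164352, 246528, 4116, 8232, 12492, 4164]) (.leaf [1, 2, 248832, 82944, 52992, 17664, 66816, 133632, 12528, 4176, 252, 84, 164352, 246528, 4116, 8232, 4164, 8328])) (.node (.leaf [1, 2, 248832, 82944, 52992, 17664, 133632, 200448, 4176, 8352, 84, 168, 82176, 164352, 12348, 4116, 12492, 4164]) (.leaf [1, 2, 248832, 82944, 52992, 17664, 200448, 66816, 8352, 12528, 168, 252, 246528, 82176, 8232, 12348, 8328, 12492]))))) (.node (.node (.node (.node (.leaf []) (.leaf [])) (.node (.leaf []) (.leaf []))) (.node (.node (.leaf []) (.leaf [])) (.node (.leaf []) (.leaf [])))) (.node (.node (.node (.leaf []) (.leaf [])) (.node (.leaf []) (.leaf []))) (.node (.node (.leaf []) (.leaf [])) (.node (.leaf []) (.leaf [])))))))) (.node (.node (.node (.node (.node (.node (.node (.leaf []) (.leaf [])) (.node (.leaf []) (.leaf []))) (.node (.node (.leaf []) (.leaf [])) (.node (.leaf []) (.leaf [])))) (.node (.node (.node (.leaf []) (.leaf [])) (.node (.leaf []) (.leaf []))) (.node (.node (.leaf []) (.leaf [])) (.node (.leaf []) (.leaf []))))) (.node (.node (.node (.node (.leaf []) (.leaf [])) (.node (.leaf []) (.leaf []))) (.node (.node (.leaf []) (.leaf [])) (.node (.leaf []) (.leaf [])))) (.node (.node (.node (.leaf []) (.leaf [])) (.node (.leaf []) (.leaf []))) (.node (.node (.leaf []) (.leaf [])) (.node (.leaf []) (.leaf [])))))) (.node (.node (.node (.node (.node (.leaf []) (.leaf [])) (.node (.leaf []) (.leaf []))) (.node (.node (.leaf []) (.leaf [])) (.node (.leaf []) (.leaf [])))) (.node (.node (.node (.leaf []) (.leaf [])) (.node (.leaf []) (.leaf []))) (.node (.node (.leaf []) (.leaf [])) (.node (.leaf []) (.leaf []))))) (.node (.node (.node (.node (.leaf []) (.leaf [])) (.node (.leaf []) (.leaf []))) (.node (.node (.leaf []) (.leaf [])) (.node (.leaf []) (.leaf [])))) (.node (.node (.node (.leaf []) (.leaf [])) (.node (.leaf []) (.leaf []))) (.node (.node (.leaf []) (.leaf [])) (.node (.leaf []) (.leaf []))))))) (.node (.node (.node (.node (.node (.node (.leaf []) (.leaf [])) (.node (.leaf []) (.leaf []))) (.node (.node (.leaf []) (.leaf [])) (.node (.leaf []) (.leaf [])))) (.node (.node (.node (.leaf []) (.leaf [])) (.node (.leaf []) (.leaf []))) (.node (.node (.leaf []) (.leaf [])) (.node (.leaf []) (.leaf []))))) (.node (.node (.node (.node (.leaf []) (.leaf [])) (.node (.leaf []) (.leaf []))) (.node (.node (.leaf []) (.leaf [])) (.node (.leaf []) (.leaf [])))) (.node (.node (.node (.leaf []) (.leaf [])) (.node (.leaf []) (.leaf []))) (.node (.node (.leaf []) (.leaf [])) (.node (.leaf []) (.leaf [])))))) (.node (.node (.node (.node (.node (.leaf []) (.leaf [])) (.node (.leaf []) (.leaf []))) (.node (.node (.leaf []) (.leaf [])) (.node (.leaf []) (.leaf [])))) (.node (.node (.node (.leaf []) (.leaf [])) (.node (.leaf []) (.leaf []))) (.node (.node (.leaf []) (.leaf [])) (.node (.leaf []) (.leaf []))))) (.node (.node (.node (.node (.leaf []) (.leaf [])) (.node (.leaf []) (.leaf []))) (.node (.node (.leaf []) (.leaf [])) (.node (.leaf []) (.leaf [])))) (.node (.node (.node (.leaf []) (.leaf [])) (.node (.leaf []) (.leaf []))) (.node (.node (.leaf []) (.leaf [])) (.node (.leaf []) (.leaf []))))))))) (.node (.node (.node (.node (.node (.node (.node (.node (.leaf []) (.leaf [])) (.node (.leaf []) (.leaf []))) (.node (.node (.leaf []) (.leaf [])) (.node (.leaf []) (.leaf [])))) (.node (.node (.node (.leaf []) (.leaf [])) (.node (.leaf []) (.leaf []))) (.node (.node (.leaf []) (.leaf [])) (.node (.leaf []) (.leaf []))))) (.node (.node (.node (.node (.leaf []) (.leaf [])) (.node (.leaf []) (.leaf []))) (.node (.node (.leaf []) (.leaf [])) (.node (.leaf []) (.leaf [])))) (.node (.node (.node (.leaf []) (.leaf [])) (.node (.leaf []) (.leaf []))) (.node (.node (.leaf []) (.leaf [])) (.node (.leaf []) (.leaf [])))))) (.node (.node (.node (.node (.node (.leaf []) (.leaf [])) (.node (.leaf []) (.leaf []))) (.node (.node (.leaf []) (.leaf [])) (.node (.leaf []) (.leaf [])))) (.node (.node (.node (.leaf []) (.leaf [])) (.node (.leaf []) (.leaf []))) (.node (.node (.leaf []) (.leaf [])) (.node (.leaf []) (.leaf []))))) (.node (.node (.node (.node (.leaf []) (.leaf [])) (.node (.leaf []) (.leaf []))) (.node (.node (.leaf []) (.leaf [])) (.node (.leaf []) (.leaf [])))) (.node (.node (.node (.leaf []) (.leaf [])) (.node (.leaf []) (.leaf []))) (.node (.node (.leaf []) (.leaf [])) (.node (.leaf []) (.leaf []))))))) (.node (.node (.node (.node (.node (.node (.leaf []) (.leaf [])) (.node (.leaf []) (.leaf []))) (.node (.node (.leaf []) (.leaf [])) (.node (.leaf []) (.leaf [])))) (.node (.node (.node (.leaf []) (.leaf [])) (.node (.leaf []) (.leaf []))) (.node (.node (.leaf []) (.leaf [])) (.node (.leaf []) (.leaf []))))) (.node (.node (.node (.node (.leaf []) (.leaf [])) (.node (.leaf []) (.leaf []))) (.node (.node (.leaf []) (.leaf [])) (.node (.leaf []) (.leaf [])))) (.node (.node (.node (.leaf []) (.leaf [])) (.node (.leaf []) (.leaf []))) (.node (.node (.leaf []) (.leaf [])) (.node (.leaf []) (.leaf [])))))) (.node (.node (.node (.node (.node (.leaf []) (.leaf [])) (.node (.leaf []) (.leaf []))) (.node (.node (.leaf []) (.leaf [])) (.node (.leaf []) (.leaf [])))) (.node (.node (.node (.leaf []) (.leaf [])) (.node (.leaf []) (.leaf []))) (.node (.node (.leaf []) (.leaf [])) (.node (.leaf []) (.leaf []))))) (.node (.node (.node (.node (.leaf []) (.leaf [])) (.node (.leaf []) (.leaf []))) (.node (.node (.leaf []) (.leaf [])) (.node (.leaf []) (.leaf [])))) (.node (.node (.node (.leaf []) (.leaf [])) (.node (.leaf []) (.leaf []))) (.node (.node (.leaf []) (.leaf [])) (.node (.leaf []) (.leaf [])))))))) (.node (.node (.node (.node (.node (.node (.node (.leaf []) (.leaf [])) (.node (.leaf []) (.leaf []))) (.node (.node (.leaf []) (.leaf [])) (.node (.leaf []) (.leaf [])))) (.node (.node (.node (.leaf []) (.leaf [])) (.node (.leaf []) (.leaf []))) (.node (.node (.leaf []) (.leaf [])) (.node (.leaf []) (.leaf []))))) (.node (.node (.node (.node (.leaf []) (.leaf [])) (.node (.leaf []) (.leaf []))) (.node (.node (.leaf []) (.leaf [])) (.node (.leaf []) (.leaf [])))) (.node (.node (.node (.leaf []) (.leaf [])) (.node (.leaf []) (.leaf []))) (.node (.node (.leaf []) (.leaf [])) (.node (.leaf []) (.leaf [])))))) (.node (.node (.node (.node (.node (.leaf []) (.leaf [])) (.node (.leaf []) (.leaf []))) (.node (.node (.leaf []) (.leaf [])) (.node (.leaf []) (.leaf [])))) (.node (.node (.node (.leaf []) (.leaf [])) (.node (.leaf []) (.leaf []))) (.node (.node (.leaf []) (.leaf [])) (.node (.leaf []) (.leaf []))))) (.node (.node (.node (.node (.leaf []) (.leaf [])) (.node (.leaf []) (.leaf []))) (.node (.node (.leaf []) (.leaf [])) (.node (.leaf []) (.leaf [])))) (.node (.node (.node (.leaf []) (.leaf [])) (.node (.leaf []) (.leaf []))) (.node (.node (.leaf []) (.leaf [])) (.node (.leaf []) (.leaf []))))))) (.node (.node (.node (.node (.node (.node (.leaf []) (.leaf [])) (.node (.leaf []) (.leaf []))) (.node (.node (.leaf []) (.leaf [])) (.node (.leaf []) (.leaf [])))) (.node (.node (.node (.leaf []) (.leaf [])) (.node (.leaf []) (.leaf []))) (.node (.node (.leaf []) (.leaf [])) (.node (.leaf []) (.leaf []))))) (.node (.node (.node (.node (.leaf []) (.leaf [])) (.node (.leaf []) (.leaf []))) (.node (.node (.leaf []) (.leaf [])) (.node (.leaf []) (.leaf [])))) (.node (.node (.node (.leaf []) (.leaf [])) (.node (.leaf []) (.leaf []))) (.node (.node (.leaf []) (.leaf [])) (.node (.leaf []) (.leaf [])))))) (.node (.node (.node (.node (.node (.leaf []) (.leaf [])) (.node (.leaf []) (.leaf []))) (.node (.node (.leaf []) (.leaf [])) (.node (.leaf []) (.leaf [])))) (.node (.node (.node (.leaf []) (.leaf [])) (.node (.leaf []) (.leaf []))) (.node (.node (.leaf []) (.leaf [])) (.node (.leaf []) (.leaf []))))) (.node (.node (.node (.node (.leaf []) (.leaf [])) (.node (.leaf []) (.leaf []))) (.node (.node (.leaf []) (.leaf [])) (.node (.leaf []) (.leaf [])))) (.node (.node (.node (.leaf []) (.leaf [])) (.node (.leaf []) (.leaf []))) (.node (.node (.leaf []) (.leaf [])) (.node (.leaf []) (.leaf [])))))))))) (.node (.node (.node (.node (.node (.node (.node (.node (.node (.leaf []) (.leaf [])) (.node (.leaf []) (.leaf []))) (.node (.node (.leaf []) (.leaf [])) (.node (.leaf []) (.leaf [])))) (.node (.node (.node (.leaf []) (.leaf [])) (.node (.leaf []) (.leaf []))) (.node (.node (.leaf []) (.leaf [])) (.node (.leaf []) (.leaf []))))) (.node (.node (.node (.node (.leaf []) (.leaf [])) (.node (.leaf []) (.leaf []))) (.node (.node (.leaf []) (.leaf [])) (.node (.leaf []) (.leaf [])))) (.node (.node (.node (.leaf []) (.leaf [])) (.node (.leaf []) (.leaf []))) (.node (.node (.leaf []) (.leaf [])) (.node (.leaf []) (.leaf [])))))) (.node (.node (.node (.node (.node (.leaf []) (.leaf [])) (.node (.leaf []) (.leaf []))) (.node (.node (.leaf []) (.leaf [])) (.node (.leaf []) (.leaf [])))) (.node (.node (.node (.leaf []) (.leaf [])) (.node (.leaf []) (.leaf []))) (.node (.node (.leaf []) (.leaf [])) (.node (.leaf []) (.leaf []))))) (.node (.node (.node (.node (.leaf []) (.leaf [])) (.node (.leaf []) (.leaf []))) (.node (.node (.leaf []) (.leaf [])) (.node (.leaf []) (.leaf [])))) (.node (.node (.node (.leaf []) (.leaf [])) (.node (.leaf []) (.leaf []))) (.node (.node (.leaf []) (.leaf [])) (.node (.leaf []) (.leaf []))))))) (.node (.node (.node (.node (.node (.node (.leaf []) (.leaf [])) (.node (.leaf []) (.leaf []))) (.node (.node (.leaf []) (.leaf [])) (.node (.leaf []) (.leaf [])))) (.node (.node (.node (.leaf []) (.leaf [])) (.node (.leaf []) (.leaf []))) (.node (.node (.leaf []) (.leaf [])) (.node (.leaf []) (.leaf []))))) (.node (.node (.node (.node (.leaf []) (.leaf [])) (.node (.leaf []) (.leaf []))) (.node (.node (.leaf []) (.leaf [])) (.node (.leaf []) (.leaf [])))) (.node (.node (.node (.leaf []) (.leaf [])) (.node (.leaf []) (.leaf []))) (.node (.node (.leaf []) (.leaf [])) (.node (.leaf []) (.leaf [])))))) (.node (.node (.node (.node (.node (.leaf []) (.leaf [])) (.node (.leaf []) (.leaf []))) (.node (.node (.leaf []) (.leaf [])) (.node (.leaf []) (.leaf [])))) (.node (.node (.node (.leaf []) (.leaf [])) (.node (.leaf []) (.leaf []))) (.node (.node (.leaf []) (.leaf [])) (.node (.leaf []) (.leaf []))))) (.node (.node (.node (.node (.leaf []) (.leaf [])) (.node (.leaf []) (.leaf []))) (.node (.node (.leaf []) (.leaf [])) (.node (.leaf []) (.leaf [])))) (.node (.node (.node (.leaf []) (.leaf [])) (.node (.leaf []) (.leaf []))) (.node (.node (.leaf []) (.leaf [])) (.node (.leaf []) (.leaf [])))))))) (.node (.node (.node (.node (.node (.node (.node (.leaf []) (.leaf [])) (.node (.leaf []) (.leaf []))) (.node (.node (.leaf []) (.leaf [])) (.node (.leaf []) (.leaf [])))) (.node (.node (.node (.leaf []) (.leaf [])) (.node (.leaf []) (.leaf []))) (.node (.node (.leaf []) (.leaf [])) (.node (.leaf []) (.leaf []))))) (.node (.node (.node (.node (.leaf []) (.leaf [])) (.node (.leaf []) (.leaf []))) (.node (.node (.leaf []) (.leaf [])) (.node (.leaf []) (.leaf [])))) (.node (.node (.node (.leaf []) (.leaf [])) (.node (.leaf []) (.leaf []))) (.node (.node (.leaf []) (.leaf [])) (.node (.leaf []) (.leaf [])))))) (.node (.node (.node (.node (.node (.leaf []) (.leaf [])) (.node (.leaf []) (.leaf []))) (.node (.node (.leaf []) (.leaf [])) (.node (.leaf []) (.leaf [])))) (.node (.node (.node (.leaf []) (.leaf [])) (.node (.leaf []) (.leaf []))) (.node (.node (.leaf []) (.leaf [])) (.node (.leaf []) (.leaf []))))) (.node (.node (.node (.node (.leaf []) (.leaf [])) (.node (.leaf []) (.leaf []))) (.node (.node (.leaf []) (.leaf [])) (.node (.leaf []) (.leaf [])))) (.node (.node (.node (.leaf []) (.leaf [])) (.node (.leaf []) (.leaf []))) (.node (.node (.leaf []) (.leaf [])) (.node (.leaf []) (.leaf []))))))) (.node (.node (.node (.node (.node (.node (.leaf []) (.leaf [])) (.node (.leaf []) (.leaf []))) (.node (.node (.leaf []) (.leaf [])) (.node (.leaf []) (.leaf [])))) (.node (.node (.node (.leaf []) (.leaf [])) (.node (.leaf []) (.leaf []))) (.node (.node (.leaf []) (.leaf [])) (.node (.leaf []) (.leaf []))))) (.node (.node (.node (.node (.leaf []) (.leaf [])) (.node (.leaf []) (.leaf []))) (.node (.node (.leaf []) (.leaf [])) (.node (.leaf []) (.leaf [])))) (.node (.node (.node (.leaf []) (.leaf [])) (.node (.leaf []) (.leaf []))) (.node (.node (.leaf []) (.leaf [])) (.node (.leaf []) (.leaf [])))))) (.node (.node (.node (.node (.node (.leaf []) (.leaf [])) (.node (.leaf []) (.leaf []))) (.node (.node (.leaf []) (.leaf [])) (.node (.leaf []) (.leaf [])))) (.node (.node (.node (.leaf []) (.leaf [])) (.node (.leaf []) (.leaf []))) (.node (.node (.leaf []) (.leaf [])) (.node (.leaf []) (.leaf []))))) (.node (.node (.node (.node (.leaf []) (.leaf [])) (.node (.leaf []) (.leaf []))) (.node (.node (.leaf []) (.leaf [])) (.node (.leaf []) (.leaf [])))) (.node (.node (.node (.leaf []) (.leaf [])) (.node (.leaf []) (.leaf []))) (.node (.node (.leaf []) (.leaf [])) (.node (.leaf []) (.leaf []))))))))) (.node (.node (.node (.node (.node (.node (.node (.node (.leaf []) (.leaf [])) (.node (.leaf []) (.leaf []))) (.node (.node (.leaf []) (.leaf [])) (.node (.leaf []) (.leaf [])))) (.node (.node (.node (.leaf []) (.leaf [])) (.node (.leaf []) (.leaf []))) (.node (.node (.leaf []) (.leaf [])) (.node (.leaf []) (.leaf []))))) (.node (.node (.node (.node (.leaf []) (.leaf [])) (.node (.leaf []) (.leaf []))) (.node (.node (.leaf []) (.leaf [])) (.node (.leaf []) (.leaf [])))) (.node (.node (.node (.leaf []) (.leaf [])) (.node (.leaf []) (.leaf []))) (.node (.node (.leaf []) (.leaf [])) (.node (.leaf []) (.leaf [])))))) (.node (.node (.node (.node (.node (.leaf []) (.leaf [])) (.node (.leaf []) (.leaf []))) (.node (.node (.leaf []) (.leaf [])) (.node (.leaf []) (.leaf [])))) (.node (.node (.node (.leaf []) (.leaf [])) (.node (.leaf []) (.leaf []))) (.node (.node (.leaf []) (.leaf [])) (.node (.leaf []) (.leaf []))))) (.node (.node (.node (.node (.leaf []) (.leaf [])) (.node (.leaf []) (.leaf []))) (.node (.node (.leaf []) (.leaf [])) (.node (.leaf []) (.leaf [])))) (.node (.node (.node (.leaf []) (.leaf [])) (.node (.leaf []) (.leaf []))) (.node (.node (.leaf []) (.leaf [])) (.node (.leaf []) (.leaf []))))))) (.node (.node (.node (.node (.node (.node (.leaf []) (.leaf [])) (.node (.leaf []) (.leaf []))) (.node (.node (.leaf []) (.leaf [])) (.node (.leaf []) (.leaf [])))) (.node (.node (.node (.leaf []) (.leaf [])) (.node (.leaf []) (.leaf []))) (.node (.node (.leaf []) (.leaf [])) (.node (.leaf []) (.leaf []))))) (.node (.node (.node (.node (.leaf []) (.leaf [])) (.node (.leaf []) (.leaf []))) (.node (.node (.leaf []) (.leaf [])) (.node (.leaf []) (.leaf [])))) (.node (.node (.node (.leaf []) (.leaf [])) (.node (.leaf []) (.leaf []))) (.node (.node (.leaf []) (.leaf [])) (.node (.leaf []) (.leaf [])))))) (.node (.node (.node (.node (.node (.leaf []) (.leaf [])) (.node (.leaf []) (.leaf []))) (.node (.node (.leaf []) (.leaf [])) (.node (.leaf []) (.leaf [])))) (.node (.node (.node (.leaf []) (.leaf [])) (.node (.leaf []) (.leaf []))) (.node (.node (.leaf []) (.leaf [])) (.node (.leaf []) (.leaf []))))) (.node (.node (.node (.node (.leaf []) (.leaf [])) (.node (.leaf []) (.leaf []))) (.node (.node (.leaf []) (.leaf [])) (.node (.leaf []) (.leaf [])))) (.node (.node (.node (.leaf []) (.leaf [])) (.node (.leaf []) (.leaf []))) (.node (.node (.leaf []) (.leaf [])) (.node (.leaf []) (.leaf [])))))))) (.node (.node (.node (.node (.node (.node (.node (.leaf []) (.leaf [])) (.node (.leaf []) (.leaf []))) (.node (.node (.leaf []) (.leaf [])) (.node (.leaf []) (.leaf [])))) (.node (.node (.node (.leaf []) (.leaf [])) (.node (.leaf []) (.leaf []))) (.node (.node (.leaf []) (.leaf [])) (.node (.leaf []) (.leaf []))))) (.node (.node (.node (.node (.leaf []) (.leaf [])) (.node (.leaf []) (.leaf []))) (.node (.node (.leaf []) (.leaf [])) (.node (.leaf []) (.leaf [])))) (.node (.node (.node (.leaf []) (.leaf [])) (.node (.leaf []) (.leaf []))) (.node (.node (.leaf []) (.leaf [])) (.node (.leaf []) (.leaf [])))))) (.node (.node (.node (.node (.node (.leaf []) (.leaf [])) (.node (.leaf []) (.leaf []))) (.node (.node (.leaf []) (.leaf [])) (.node (.leaf []) (.leaf [])))) (.node (.node (.node (.leaf []) (.leaf [])) (.node (.leaf []) (.leaf []))) (.node (.node (.leaf []) (.leaf [])) (.node (.leaf []) (.leaf []))))) (.node (.node (.node (.node (.leaf []) (.leaf [])) (.node (.leaf []) (.leaf []))) (.node (.node (.leaf []) (.leaf [])) (.node (.leaf []) (.leaf [])))) (.node (.node (.node (.leaf []) (.leaf [])) (.node (.leaf []) (.leaf []))) (.node (.node (.leaf []) (.leaf [])) (.node (.leaf []) (.leaf []))))))) (.node (.node (.node (.node (.node (.node (.leaf []) (.leaf [])) (.node (.leaf []) (.leaf []))) (.node (.node (.leaf []) (.leaf [])) (.node (.leaf []) (.leaf [])))) (.node (.node (.node (.leaf []) (.leaf [])) (.node (.leaf []) (.leaf []))) (.node (.node (.leaf []) (.leaf [])) (.node (.leaf []) (.leaf []))))) (.node (.node (.node (.node (.leaf []) (.leaf [])) (.node (.leaf []) (.leaf []))) (.node (.node (.leaf []) (.leaf [])) (.node (.leaf []) (.leaf [])))) (.node (.node (.node (.leaf []) (.leaf [])) (.node (.leaf []) (.leaf []))) (.node (.node (.leaf []) (.leaf [])) (.node (.leaf []) (.leaf [])))))) (.node (.node (.node (.node (.node (.leaf []) (.leaf [])) (.node (.leaf []) (.leaf []))) (.node (.node (.leaf []) (.leaf [])) (.node (.leaf []) (.leaf [])))) (.node (.node (.node (.leaf []) (.leaf [])) (.node (.leaf []) (.leaf []))) (.node (.node (.leaf []) (.leaf [])) (.node (.leaf []) (.leaf []))))) (.node (.node (.node (.node (.leaf []) (.leaf [])) (.node (.leaf []) (.leaf []))) (.node (.node (.leaf []) (.leaf [])) (.node (.leaf []) (.leaf [])))) (.node (.node (.node (.leaf []) (.leaf [])) (.node (.leaf []) (.leaf []))) (.node (.node (.leaf []) (.leaf [])) (.node (.leaf []) (.leaf []))))))))))) (.node (.node (.node (.node (.node (.node (.node (.node (.node (.node (.leaf []) (.leaf [])) (.node (.leaf []) (.leaf []))) (.node (.node (.leaf []) (.leaf [])) (.node (.leaf []) (.leaf [])))) (.node (.node (.node (.leaf []) (.leaf [])) (.node (.leaf []) (.leaf []))) (.node (.node (.leaf []) (.leaf [])) (.node (.leaf []) (.leaf []))))) (.node (.node (.node (.node (.leaf []) (.leaf [])) (.node (.leaf []) (.leaf []))) (.node (.node (.leaf []) (.leaf [])) (.node (.leaf []) (.leaf [])))) (.node (.node (.node (.leaf []) (.leaf [])) (.node (.leaf []) (.leaf []))) (.node (.node (.leaf []) (.leaf [])) (.node (.leaf []) (.leaf [])))))) (.node (.node (.node (.node (.node (.leaf []) (.leaf [])) (.node (.leaf []) (.leaf []))) (.node (.node (.leaf []) (.leaf [])) (.node (.leaf []) (.leaf [])))) (.node (.node (.node (.leaf []) (.leaf [])) (.node (.leaf []) (.leaf []))) (.node (.node (.leaf []) (.leaf [])) (.node (.leaf []) (.leaf []))))) (.node (.node (.node (.node (.leaf []) (.leaf [])) (.node (.leaf []) (.leaf []))) (.node (.node (.leaf []) (.leaf [])) (.node (.leaf []) (.leaf [])))) (.node (.node (.node (.leaf []) (.leaf [])) (.node (.leaf []) (.leaf []))) (.node (.node (.leaf []) (.leaf [])) (.node (.leaf []) (.leaf []))))))) (.node (.node (.node (.node (.node (.node (.leaf []) (.leaf [])) (.node (.leaf []) (.leaf []))) (.node (.node (.leaf []) (.leaf [])) (.node (.leaf []) (.leaf [])))) (.node (.node (.node (.leaf []) (.leaf [])) (.node (.leaf []) (.leaf []))) (.node (.node (.leaf []) (.leaf [])) (.node (.leaf []) (.leaf []))))) (.node (.node (.node (.node (.leaf []) (.leaf [])) (.node (.leaf []) (.leaf []))) (.node (.node (.leaf []) (.leaf [])) (.node (.leaf []) (.leaf [])))) (.node (.node (.node (.leaf []) (.leaf [])) (.node (.leaf []) (.leaf []))) (.node (.node (.leaf []) (.leaf [])) (.node (.leaf []) (.leaf [])))))) (.node (.node (.node (.node (.node (.leaf []) (.leaf [])) (.node (.leaf []) (.leaf []))) (.node (.node (.leaf []) (.leaf [])) (.node (.leaf []) (.leaf [])))) (.node (.node (.node (.leaf []) (.leaf [])) (.node (.leaf []) (.leaf []))) (.node (.node (.leaf []) (.leaf [])) (.node (.leaf []) (.leaf []))))) (.node (.node (.node (.node (.leaf []) (.leaf [])) (.node (.leaf []) (.leaf []))) (.node (.node (.leaf []) (.leaf [])) (.node (.leaf []) (.leaf [])))) (.node (.node (.node (.leaf []) (.leaf [])) (.node (.leaf []) (.leaf []))) (.node (.node (.leaf []) (.leaf [])) (.node (.leaf []) (.leaf [])))))))) (.node (.node (.node (.node (.node (.node (.node (.leaf []) (.leaf [])) (.node (.leaf []) (.leaf []))) (.node (.node (.leaf []) (.leaf [])) (.node (.leaf []) (.leaf [])))) (.node (.node (.node (.leaf []) (.leaf [])) (.node (.leaf []) (.leaf []))) (.node (.node (.leaf []) (.leaf [])) (.node (.leaf []) (.leaf []))))) (.node (.node (.node (.node (.leaf []) (.leaf [])) (.node (.leaf []) (.leaf []))) (.node (.node (.leaf []) (.leaf [])) (.node (.leaf []) (.leaf [])))) (.node (.node (.node (.leaf []) (.leaf [])) (.node (.leaf []) (.leaf []))) (.node (.node (.leaf []) (.leaf [])) (.node (.leaf []) (.leaf [])))))) (.node (.node (.node (.node (.node (.leaf []) (.leaf [])) (.node (.leaf []) (.leaf []))) (.node (.node (.leaf []) (.leaf [])) (.node (.leaf []) (.leaf [])))) (.node (.node (.node (.leaf []) (.leaf [])) (.node (.leaf []) (.leaf []))) (.node (.node (.leaf []) (.leaf [])) (.node (.leaf []) (.leaf []))))) (.node (.node (.node (.node (.leaf []) (.leaf [])) (.node (.leaf []) (.leaf []))) (.node (.node (.leaf []) (.leaf [])) (.node (.leaf []) (.leaf [])))) (.node (.node (.node (.leaf []) (.leaf [])) (.node (.leaf []) (.leaf []))) (.node (.node (.leaf []) (.leaf [])) (.node (.leaf []) (.leaf []))))))) (.node (.node (.node (.node (.node (.node (.leaf []) (.leaf [])) (.node (.leaf []) (.leaf []))) (.node (.node (.leaf []) (.leaf [])) (.node (.leaf []) (.leaf [])))) (.node (.node (.node (.leaf []) (.leaf [])) (.node (.leaf []) (.leaf []))) (.node (.node (.leaf []) (.leaf [])) (.node (.leaf []) (.leaf []))))) (.node (.node (.node (.node (.leaf []) (.leaf [])) (.node (.leaf []) (.leaf []))) (.node (.node (.leaf []) (.leaf [])) (.node (.leaf []) (.leaf [])))) (.node (.node (.node (.leaf []) (.leaf [])) (.node (.leaf []) (.leaf []))) (.node (.node (.leaf []) (.leaf [])) (.node (.leaf []) (.leaf [])))))) (.node (.node (.node (.node (.node (.leaf []) (.leaf [])) (.node (.leaf []) (.leaf []))) (.node (.node (.leaf []) (.leaf [])) (.node (.leaf []) (.leaf [])))) (.node (.node (.node (.leaf []) (.leaf [])) (.node (.leaf []) (.leaf []))) (.node (.node (.leaf []) (.leaf [])) (.node (.leaf []) (.leaf []))))) (.node (.node (.node (.node (.leaf []) (.leaf [])) (.node (.leaf []) (.leaf []))) (.node (.node (.leaf []) (.leaf [])) (.node (.leaf []) (.leaf [])))) (.node (.node (.node (.leaf []) (.leaf [])) (.node (.leaf []) (.leaf []))) (.node (.node (.leaf []) (.leaf [])) (.node (.leaf []) (.leaf []))))))))) (.node (.node (.node (.node (.node (.node (.node (.node (.leaf []) (.leaf [])) (.node (.leaf []) (.leaf []))) (.node (.node (.leaf []) (.leaf [])) (.node (.leaf []) (.leaf [])))) (.node (.node (.node (.leaf []) (.leaf [])) (.node (.leaf []) (.leaf []))) (.node (.node (.leaf []) (.leaf [])) (.node (.leaf []) (.leaf []))))) (.node (.node (.node (.node (.leaf []) (.leaf [])) (.node (.leaf []) (.leaf []))) (.node (.node (.leaf []) (.leaf [])) (.node (.leaf []) (.leaf [])))) (.node (.node (.node (.leaf []) (.leaf [])) (.node (.leaf []) (.leaf []))) (.node (.node (.leaf []) (.leaf [])) (.node (.leaf []) (.leaf [])))))) (.node (.node (.node (.node (.node (.leaf []) (.leaf [])) (.node (.leaf []) (.leaf []))) (.node (.node (.leaf []) (.leaf [])) (.node (.leaf []) (.leaf [])))) (.node (.node (.node (.leaf []) (.leaf [])) (.node (.leaf []) (.leaf []))) (.node (.node (.leaf []) (.leaf [])) (.node (.leaf []) (.leaf []))))) (.node (.node (.node (.node (.leaf []) (.leaf [])) (.node (.leaf []) (.leaf []))) (.node (.node (.leaf []) (.leaf [])) (.node (.leaf []) (.leaf [])))) (.node (.node (.node (.leaf []) (.leaf [])) (.node (.leaf []) (.leaf []))) (.node (.node (.leaf []) (.leaf [])) (.node (.leaf []) (.leaf []))))))) (.node (.node (.node (.node (.node (.node (.leaf []) (.leaf [])) (.node (.leaf []) (.leaf []))) (.node (.node (.leaf []) (.leaf [])) (.node (.leaf []) (.leaf [])))) (.node (.node (.node (.leaf []) (.leaf [])) (.node (.leaf []) (.leaf []))) (.node (.node (.leaf []) (.leaf [])) (.node (.leaf []) (.leaf []))))) (.node (.node (.node (.node (.leaf []) (.leaf [])) (.node (.leaf []) (.leaf []))) (.node (.node (.leaf []) (.leaf [])) (.node (.leaf []) (.leaf [])))) (.node (.node (.node (.leaf []) (.leaf [])) (.node (.leaf []) (.leaf []))) (.node (.node (.leaf []) (.leaf [])) (.node (.leaf []) (.leaf [])))))) (.node (.node (.node (.node (.node (.leaf []) (.leaf [])) (.node (.leaf []) (.leaf []))) (.node (.node (.leaf []) (.leaf [])) (.node (.leaf []) (.leaf [])))) (.node (.node (.node (.leaf []) (.leaf [])) (.node (.leaf []) (.leaf []))) (.node (.node (.leaf []) (.leaf [])) (.node (.leaf []) (.leaf []))))) (.node (.node (.node (.node (.leaf []) (.leaf [])) (.node (.leaf []) (.leaf []))) (.node (.node (.leaf []) (.leaf [])) (.node (.leaf []) (.leaf [])))) (.node (.node (.node (.leaf []) (.leaf [])) (.node (.leaf []) (.leaf []))) (.node (.node (.leaf []) (.leaf [])) (.node (.leaf []) (.leaf [])))))))) (.node (.node (.node (.node (.node (.node (.node (.leaf []) (.leaf [])) (.node (.leaf []) (.leaf []))) (.node (.node (.leaf []) (.leaf [])) (.node (.leaf []) (.leaf [])))) (.node (.node (.node (.leaf []) (.leaf [])) (.node (.leaf []) (.leaf []))) (.node (.node (.leaf []) (.leaf [])) (.node (.leaf []) (.leaf []))))) (.node (.node (.node (.node (.leaf []) (.leaf [])) (.node (.leaf []) (.leaf []))) (.node (.node (.leaf []) (.leaf [])) (.node (.leaf []) (.leaf [])))) (.node (.node (.node (.leaf []) (.leaf [])) (.node (.leaf []) (.leaf []))) (.node (.node (.leaf []) (.leaf [])) (.node (.leaf []) (.leaf [])))))) (.node (.node (.node (.node (.node (.leaf []) (.leaf [])) (.node (.leaf []) (.leaf []))) (.node (.node (.leaf []) (.leaf [])) (.node (.leaf []) (.leaf [])))) (.node (.node (.node (.leaf []) (.leaf [])) (.node (.leaf []) (.leaf []))) (.node (.node (.leaf []) (.leaf [])) (.node (.leaf []) (.leaf []))))) (.node (.node (.node (.node (.leaf []) (.leaf [])) (.node (.leaf []) (.leaf []))) (.node (.node (.leaf []) (.leaf [])) (.node (.leaf []) (.leaf [])))) (.node (.node (.node (.leaf []) (.leaf [])) (.node (.leaf []) (.leaf []))) (.node (.node (.leaf []) (.leaf [])) (.node (.leaf []) (.leaf []))))))) (.node (.node (.node (.node (.node (.node (.leaf []) (.leaf [])) (.node (.leaf []) (.leaf []))) (.node (.node (.leaf []) (.leaf [])) (.node (.leaf []) (.leaf [])))) (.node (.node (.node (.leaf []) (.leaf [])) (.node (.leaf []) (.leaf []))) (.node (.node (.leaf []) (.leaf [])) (.node (.leaf []) (.leaf []))))) (.node (.node (.node (.node (.leaf []) (.leaf [])) (.node (.leaf []) (.leaf []))) (.node (.node (.leaf []) (.leaf [])) (.node (.leaf []) (.leaf [])))) (.node (.node (.node (.leaf []) (.leaf [])) (.node (.leaf []) (.leaf []))) (.node (.node (.leaf []) (.leaf [])) (.node (.leaf []) (.leaf [])))))) (.node (.node (.node (.node (.node (.leaf []) (.leaf [])) (.node (.leaf []) (.leaf []))) (.node (.node (.leaf []) (.leaf [])) (.node (.leaf []) (.leaf [])))) (.node (.node (.node (.leaf []) (.leaf [])) (.node (.leaf []) (.leaf []))) (.node (.node (.leaf []) (.leaf [])) (.node (.leaf []) (.leaf []))))) (.node (.node (.node (.node (.leaf []) (.leaf [])) (.node (.leaf []) (.leaf []))) (.node (.node (.leaf []) (.leaf [])) (.node (.leaf []) (.leaf [])))) (.node (.node (.node (.leaf []) (.leaf [])) (.node (.leaf []) (.leaf []))) (.node (.node (.leaf []) (.leaf [])) (.node (.leaf []) (.leaf [])))))))))) (.node (.node (.node (.node (.node (.node (.node (.node (.node (.leaf []) (.leaf [])) (.node (.leaf []) (.leaf []))) (.node (.node (.leaf []) (.leaf [])) (.node (.leaf []) (.leaf [])))) (.node (.node (.node (.leaf []) (.leaf [])) (.node (.leaf []) (.leaf []))) (.node (.node (.leaf []) (.leaf [])) (.node (.leaf []) (.leaf []))))) (.node (.node (.node (.node (.leaf []) (.leaf [])) (.node (.leaf []) (.leaf []))) (.node (.node (.leaf []) (.leaf [])) (.node (.leaf []) (.leaf [])))) (.node (.node (.node (.leaf []) (.leaf [])) (.node (.leaf []) (.leaf []))) (.node (.node (.leaf []) (.leaf [])) (.node (.leaf []) (.leaf [])))))) (.node (.node (.node (.node (.node (.leaf []) (.leaf [])) (.node (.leaf []) (.leaf []))) (.node (.node (.leaf []) (.leaf [])) (.node (.leaf []) (.leaf [])))) (.node (.node (.node (.leaf []) (.leaf [])) (.node (.leaf []) (.leaf []))) (.node (.node (.leaf []) (.leaf [])) (.node (.leaf []) (.leaf []))))) (.node (.node (.node (.node (.leaf []) (.leaf [])) (.node (.leaf []) (.leaf []))) (.node (.node (.leaf []) (.leaf [])) (.node (.leaf []) (.leaf [])))) (.node (.node (.node (.leaf []) (.leaf [])) (.node (.leaf []) (.leaf []))) (.node (.node (.leaf []) (.leaf [])) (.node (.leaf []) (.leaf []))))))) (.node (.node (.node (.node (.node (.node (.leaf []) (.leaf [])) (.node (.leaf []) (.leaf []))) (.node (.node (.leaf []) (.leaf [])) (.node (.leaf []) (.leaf [])))) (.node (.node (.node (.leaf []) (.leaf [])) (.node (.leaf []) (.leaf []))) (.node (.node (.leaf []) (.leaf [])) (.node (.leaf []) (.leaf []))))) (.node (.node (.node (.node (.leaf []) (.leaf [])) (.node (.leaf []) (.leaf []))) (.node (.node (.leaf []) (.leaf [])) (.node (.leaf []) (.leaf [])))) (.node (.node (.node (.leaf []) (.leaf [])) (.node (.leaf []) (.leaf []))) (.node (.node (.leaf []) (.leaf [])) (.node (.leaf []) (.leaf [])))))) (.node (.node (.node (.node (.node (.leaf []) (.leaf [])) (.node (.leaf []) (.leaf []))) (.node (.node (.leaf []) (.leaf [])) (.node (.leaf []) (.leaf [])))) (.node (.node (.node (.leaf []) (.leaf [])) (.node (.leaf []) (.leaf []))) (.node (.node (.leaf []) (.leaf [])) (.node (.leaf []) (.leaf []))))) (.node (.node (.node (.node (.leaf []) (.leaf [])) (.node (.leaf []) (.leaf []))) (.node (.node (.leaf []) (.leaf [])) (.node (.leaf []) (.leaf [])))) (.node (.node (.node (.leaf []) (.leaf [])) (.node (.leaf []) (.leaf []))) (.node (.node (.leaf []) (.leaf [])) (.node (.leaf []) (.leaf [])))))))) (.node (.node (.node (.node (.node (.node (.node (.leaf []) (.leaf [])) (.node (.leaf []) (.leaf []))) (.node (.node (.leaf []) (.leaf [])) (.node (.leaf []) (.leaf [])))) (.node (.node (.node (.leaf []) (.leaf [])) (.node (.leaf []) (.leaf []))) (.node (.node (.leaf []) (.leaf [])) (.node (.leaf []) (.leaf []))))) (.node (.node (.node (.node (.leaf []) (.leaf [])) (.node (.leaf []) (.leaf []))) (.node (.node (.leaf []) (.leaf [])) (.node (.leaf []) (.leaf [])))) (.node (.node (.node (.leaf []) (.leaf [])) (.node (.leaf []) (.leaf []))) (.node (.node (.leaf []) (.leaf [])) (.node (.leaf []) (.leaf [])))))) (.node (.node (.node (.node (.node (.leaf []) (.leaf [])) (.node (.leaf []) (.leaf []))) (.node (.node (.leaf []) (.leaf [])) (.node (.leaf []) (.leaf [])))) (.node (.node (.node (.leaf []) (.leaf [])) (.node (.leaf []) (.leaf []))) (.node (.node (.leaf []) (.leaf [])) (.node (.leaf []) (.leaf []))))) (.node (.node (.node (.node (.leaf []) (.leaf [])) (.node (.leaf []) (.leaf []))) (.node (.node (.leaf []) (.leaf [])) (.node (.leaf []) (.leaf [])))) (.node (.node (.node (.leaf []) (.leaf [])) (.node (.leaf []) (.leaf []))) (.node (.node (.leaf []) (.leaf [])) (.node (.leaf []) (.leaf []))))))) (.node (.node (.node (.node (.node (.node (.leaf []) (.leaf [])) (.node (.leaf []) (.leaf []))) (.node (.node (.leaf []) (.leaf [])) (.node (.leaf []) (.leaf [])))) (.node (.node (.node (.leaf []) (.leaf [])) (.node (.leaf []) (.leaf []))) (.node (.node (.leaf []) (.leaf [])) (.node (.leaf []) (.leaf []))))) (.node (.node (.node (.node (.leaf []) (.leaf [])) (.node (.leaf []) (.leaf []))) (.node (.node (.leaf []) (.leaf [])) (.node (.leaf []) (.leaf [])))) (.node (.node (.node (.leaf []) (.leaf [])) (.node (.leaf []) (.leaf []))) (.node (.node (.leaf []) (.leaf [])) (.node (.leaf []) (.leaf [])))))) (.node (.node (.node (.node (.node (.leaf []) (.leaf [])) (.node (.leaf []) (.leaf []))) (.node (.node (.leaf []) (.leaf [])) (.node (.leaf []) (.leaf [])))) (.node (.node (.node (.leaf []) (.leaf [])) (.node (.leaf []) (.leaf []))) (.node (.node (.leaf []) (.leaf [])) (.node (.leaf []) (.leaf []))))) (.node (.node (.node (.node (.leaf []) (.leaf [])) (.node (.leaf []) (.leaf []))) (.node (.node (.leaf []) (.leaf [])) (.node (.leaf []) (.leaf [])))) (.node (.node (.node (.leaf []) (.leaf [])) (.node (.leaf []) (.leaf []))) (.node (.node (.leaf []) (.leaf [])) (.node (.leaf []) (.leaf []))))))))) (.node (.node (.node (.node (.node (.node (.node (.node (.leaf []) (.leaf [])) (.node (.leaf []) (.leaf []))) (.node (.node (.leaf []) (.leaf [])) (.node (.leaf []) (.leaf [])))) (.node (.node (.node (.leaf []) (.leaf [])) (.node (.leaf []) (.leaf []))) (.node (.node (.leaf []) (.leaf [])) (.node (.leaf []) (.leaf []))))) (.node (.node (.node (.node (.leaf []) (.leaf [])) (.node (.leaf []) (.leaf []))) (.node (.node (.leaf []) (.leaf [])) (.node (.leaf []) (.leaf [])))) (.node (.node (.node (.leaf []) (.leaf [])) (.node (.leaf []) (.leaf []))) (.node (.node (.leaf []) (.leaf [])) (.node (.leaf []) (.leaf [])))))) (.node (.node (.node (.node (.node (.leaf []) (.leaf [])) (.node (.leaf []) (.leaf []))) (.node (.node (.leaf []) (.leaf [])) (.node (.leaf []) (.leaf [])))) (.node (.node (.node (.leaf []) (.leaf [])) (.node (.leaf []) (.leaf []))) (.node (.node (.leaf []) (.leaf [])) (.node (.leaf []) (.leaf []))))) (.node (.node (.node (.node (.leaf []) (.leaf [])) (.node (.leaf []) (.leaf []))) (.node (.node (.leaf []) (.leaf [])) (.node (.leaf []) (.leaf [])))) (.node (.node (.node (.leaf []) (.leaf [])) (.node (.leaf []) (.leaf []))) (.node (.node (.leaf []) (.leaf [])) (.node (.leaf []) (.leaf []))))))) (.node (.node (.node (.node (.node (.node (.leaf []) (.leaf [])) (.node (.leaf []) (.leaf []))) (.node (.node (.leaf []) (.leaf [])) (.node (.leaf []) (.leaf [])))) (.node (.node (.node (.leaf []) (.leaf [])) (.node (.leaf []) (.leaf []))) (.node (.node (.leaf []) (.leaf [])) (.node (.leaf []) (.leaf []))))) (.node (.node (.node (.node (.leaf []) (.leaf [])) (.node (.leaf []) (.leaf []))) (.node (.node (.leaf []) (.leaf [])) (.node (.leaf []) (.leaf [])))) (.node (.node (.node (.leaf []) (.leaf [])) (.node (.leaf []) (.leaf []))) (.node (.node (.leaf []) (.leaf [])) (.node (.leaf []) (.leaf [])))))) (.node (.node (.node (.node (.node (.leaf []) (.leaf [])) (.node (.leaf []) (.leaf []))) (.node (.node (.leaf []) (.leaf [])) (.node (.leaf []) (.leaf [])))) (.node (.node (.node (.leaf []) (.leaf [])) (.node (.leaf []) (.leaf []))) (.node (.node (.leaf []) (.leaf [])) (.node (.leaf []) (.leaf []))))) (.node (.node (.node (.node (.leaf []) (.leaf [])) (.node (.leaf []) (.leaf []))) (.node (.node (.leaf []) (.leaf [])) (.node (.leaf []) (.leaf [])))) (.node (.node (.node (.leaf []) (.leaf [])) (.node (.leaf []) (.leaf []))) (.node (.node (.leaf []) (.leaf [])) (.node (.leaf []) (.leaf [])))))))) (.node (.node (.node (.node (.node (.node (.node (.leaf []) (.leaf [])) (.node (.leaf []) (.leaf []))) (.node (.node (.leaf []) (.leaf [])) (.node (.leaf []) (.leaf [])))) (.node (.node (.node (.leaf []) (.leaf [])) (.node (.leaf []) (.leaf []))) (.node (.node (.leaf []) (.leaf [])) (.node (.leaf []) (.leaf []))))) (.node (.node (.node (.node (.leaf []) (.leaf [])) (.node (.leaf []) (.leaf []))) (.node (.node (.leaf []) (.leaf [])) (.node (.leaf []) (.leaf [])))) (.node (.node (.node (.leaf []) (.leaf [])) (.node (.leaf []) (.leaf []))) (.node (.node (.leaf []) (.leaf [])) (.node (.leaf []) (.leaf [])))))) (.node (.node (.node (.node (.node (.leaf []) (.leaf [])) (.node (.leaf []) (.leaf []))) (.node (.node (.leaf []) (.leaf [])) (.node (.leaf []) (.leaf [])))) (.node (.node (.node (.leaf []) (.leaf [])) (.node (.leaf []) (.leaf []))) (.node (.node (.leaf []) (.leaf [])) (.node (.leaf []) (.leaf []))))) (.node (.node (.node (.node (.leaf []) (.leaf [])) (.node (.leaf []) (.leaf []))) (.node (.node (.leaf []) (.leaf [])) (.node (.leaf []) (.leaf [])))) (.node (.node (.node (.leaf []) (.leaf [])) (.node (.leaf []) (.leaf []))) (.node (.node (.leaf []) (.leaf [])) (.node (.leaf []) (.leaf []))))))) (.node (.node (.node (.node (.node (.node (.leaf []) (.leaf [])) (.node (.leaf []) (.leaf []))) (.node (.node (.leaf []) (.leaf [])) (.node (.leaf []) (.leaf [])))) (.node (.node (.node (.leaf []) (.leaf [])) (.node (.leaf []) (.leaf []))) (.node (.node (.leaf []) (.leaf [])) (.node (.leaf []) (.leaf []))))) (.node (.node (.node (.node (.leaf []) (.leaf [])) (.node (.leaf []) (.leaf []))) (.node (.node (.leaf []) (.leaf [])) (.node (.leaf []) (.leaf [])))) (.node (.node (.node (.leaf []) (.leaf [])) (.node (.leaf []) (.leaf []))) (.node (.node (.leaf []) (.leaf [])) (.node (.leaf []) (.leaf [])))))) (.node (.node (.node (.node (.node (.leaf []) (.leaf [])) (.node (.leaf []) (.leaf []))) (.node (.node (.leaf []) (.leaf [])) (.node (.leaf []) (.leaf [])))) (.node (.node (.node (.leaf []) (.leaf [])) (.node (.leaf []) (.leaf []))) (.node (.node (.leaf []) (.leaf [])) (.node (.leaf []) (.leaf []))))) (.node (.node (.node (.node (.leaf []) (.leaf [])) (.node (.leaf []) (.leaf []))) (.node (.node (.leaf []) (.leaf [])) (.node (.leaf []) (.leaf [])))) (.node (.node (.node (.leaf []) (.leaf [])) (.node (.leaf []) (.leaf []))) (.node (.node (.leaf []) (.leaf [])) (.node (.leaf []) (.leaf []))))))))))))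
def EtabT : BT ℕ := .node (.node (.node (.node (.node (.node (.node (.node (.node (.node (.node (.node (.leaf 1494679290990) (.leaf 1217577344838497742423151)) (.node (.leaf 2424529362837244290139248) (.leaf 2424547809018333686596721))) (.node (.node (.leaf 25973017909056067077234) (.leaf 25991464090184118240371)) (.node (.leaf 2424603149813517653771380) (.leaf 2424621595994645704934517)))) (.node (.node (.node (.leaf 26046804322418131993718) (.leaf 2424658489482724424746184)) (.node (.leaf 30566256620408272848073) (.leaf 2424695382970880433915082))) (.node (.node (.leaf 2424713829714919783793867) (.leaf 30621596289653678474444)) (.node (.leaf 2424750723203075792962765) (.leaf 2424769169384203844125902))))) (.node (.node (.node (.node (.leaf 2424787617254181755552975) (.leaf 30695383265965696812240)) (.node (.leaf 2424326448089436328166690) (.leaf 2424344895396464286172451))) (.node (.node (.leaf 35233282871099759789348) (.leaf 35251729052189156246821)) (.node (.leaf 35270176922167067673894) (.leaf 2424418681246837742961959)))) (.node (.node (.node (.leaf 35307069847373123421480) (.leaf 35325516591451128005929)) (.node (.leaf 2424474021479071756715306) (.leaf 5976746214006696378719))) (.node (.node (.leaf 5995193521034654384480) (.leaf 6013640828049727488353)) (.node (.leaf 6032087009152008847714) (.leaf 2438917822658487937859939)))))) (.node (.node (.node (.node (.node (.leaf 1218149193348528641147236) (.leaf 2438788695449980561064293)) (.node (.leaf 2438807142757008519070054) (.leaf 2438770247580002649833831))) (.node (.node (.leaf 2440504242646683790999912) (.leaf 6161214215533397475689)) (.node (.leaf 6179660959598517158250) (.leaf 2440559582878879150047595)))) (.node (.node (.node (.leaf 2440578029622957154632044) (.leaf 6235001191793876205933)) (.node (.leaf 6253448498834719113582) (.leaf 2440467349158527782420847))) (.node (.node (.leaf 1224015257961816520786288) (.leaf 6308788169201131258225)) (.node (.leaf 2442182896358478007632242) (.leaf 2442146002870321998659955))))) (.node (.node (.node (.node (.leaf 2442219789283645408674164) (.leaf 2442238236590673366679925)) (.node (.leaf 2442201343102517357707638) (.leaf 6419467507730597216631))) (.node (.node (.leaf 6437915377708508643704) (.leaf 2442090663201037938917753)) (.node (.leaf 20918608344065618673988) (.leaf 20937056214030645199173)))) (.node (.node (.node (.leaf 2443843103319489706787142) (.leaf 2443861550626530549694791)) (.node (.leaf 2443879997370595669377352) (.leaf 2443898443551723720540489))) (.node (.node (.leaf 2443750869036162615935306) (.leaf 2443769316906127642460491)) (.node (.leaf 1216212285214106162233676) (.leaf 27559436498887851508855))))))) (.node (.node (.node (.node (.node (.node (.leaf 1215917137597235078038648) (.leaf 1215935584341300197721209)) (.node (.leaf 1215954031648302385923194) (.leaf 1215972477829430437086331))) (.node (.node (.leaf 1215990924010545603347580) (.leaf 2446185840386604001133693)) (.node (.leaf 2446204287130682005718142) (.leaf 1216046264242779617100927)))) (.node (.node (.node (.leaf 1224605553774382841726161) (.leaf 32226464156825383273682)) (.node (.leaf 32244910900890502759635) (.leaf 2446278074106908155118804))) (.node (.node (.leaf 2446241180900240007759061) (.leaf 32300250851649539802326)) (.node (.leaf 2446333414620578490287319) (.leaf 1224568661130651762689240))))) (.node (.node (.node (.node (.leaf 2446314967595025508992217) (.leaf 36856596637872991438123)) (.node (.leaf 1228128882455441396794668) (.leaf 1228147329199506516477229))) (.node (.node (.leaf 2446038266715450689520942) (.leaf 2446056712896578740487471)) (.node (.leaf 2446019819408422731515184) (.leaf 2445927585688071363888433)))) (.node (.node (.node (.leaf 2445946032995099321697586) (.leaf 2445909137818093452461363)) (.node (.leaf 1225103616425248485606546) (.leaf 1225122063169326490190995))) (.node (.node (.leaf 1225085169681170481022100) (.leaf 1225158956938918821364885)) (.node (.leaf 2447126624050714990675094) (.leaf 1225140509913365840069783)))))) (.node (.node (.node (.node (.node (.leaf 1225048276193014471853208) (.leaf 1225066722937092476437657)) (.node (.leaf 1225029828885986513847450) (.leaf 32521611778360775214316))) (.node (.node (.leaf 2447384879312107402429677) (.leaf 1217429770890490795590894)) (.node (.leaf 1217448217071631731655919) (.leaf 2447274198284728076797168)))) (.node (.node (.node (.leaf 32392485132803352036593) (.leaf 32466270983176808629490)) (.node (.leaf 2447329537953973482423539) (.leaf 32447824802048757662964))) (.node (.node (.leaf 37170191284961330267462) (.leaf 37133298359768159618375)) (.node (.leaf 1211250111625823843648840) (.leaf 1211323898883610838697289))))) (.node (.node (.node (.node (.leaf 1211342345627688843281738) (.leaf 37041064076453953471819)) (.node (.leaf 2446905263403288223876428) (.leaf 2446923710147366228460877))) (.node (.node (.leaf 37096404308687967225166) (.leaf 2448085854743651706340525)) (.node (.leaf 1228626944825888625919150) (.leaf 27946818967774100784303)))) (.node (.node (.node (.leaf 28020606506997417247920) (.leaf 28039053532550398346417)) (.node (.leaf 2448122748513244036924594) (.leaf 2448196535208081078551731))) (.node (.node (.leaf 2448214982515109036360884) (.leaf 2448178088464003073967285)) (.node (.leaf 2448344109160593382835463) (.leaf 1210918070233562222429448)))))))) (.node (.node (.node (.node (.node (.node (.node (.leaf 2448381003493161437037833) (.leaf 2448233428414689033913610)) (.node (.leaf 2448251875721716991722763) (.leaf 2448270322465782111405324))) (.node (.node (.leaf 1211065644186134719497485) (.leaf 1211028750979466571941134)) (.node (.leaf 2448325662979452447163663) (.leaf 37262425287887205893473)))) (.node (.node (.node (.leaf 2447956727816550544311650) (.leaf 1216765688667895304357219)) (.node (.leaf 1216784134567561263711588) (.leaf 2448012067767309581354341))) (.node (.node (.leaf 1216821028055704387978598) (.leaf 1216839475081270254175591)) (.node (.leaf 2447901387021405232432488) (.leaf 2447919833765470352115049))))) (.node (.node (.node (.node (.leaf 22578816999588012163405) (.leaf 2448473235519075229368654)) (.node (.leaf 22615709924781183009103) (.leaf 22634157231822025916752))) (.node (.node (.leaf 22652603412937192178001) (.leaf 2448547022495387247706450)) (.node (.leaf 22689496901067431543123) (.leaf 22707943645132551225684)))) (.node (.node (.node (.leaf 22726390389210555810133) (.leaf 2450815973149208199234688)) (.node (.leaf 28647795806706109777025) (.leaf 2450797526405130194846850))) (.node (.node (.leaf 28684689294862118945923) (.leaf 28703136038940123530372)) (.node (.leaf 28666242550784114558085) (.leaf 28574009111907723445382)))))) (.node (.node (.node (.node (.node (.leaf 2450723739428869716706439) (.leaf 28555561804879765636232)) (.node (.leaf 2450908207151000178722010) (.leaf 2450926652769178276267227))) (.node (.node (.leaf 33259481825073362633948) (.leaf 1220418143432703791269085)) (.node (.leaf 33351715263949753353438) (.leaf 2450945100639117532595423)))) (.node (.node (.node (.leaf 2451018887615429550933216) (.leaf 2451037333796557601899745)) (.node (.leaf 2451000440871351546348770) (.leaf 37926508075751916504372))) (.node (.node (.leaf 37944955101304897602869) (.leaf 37908061331673911919926)) (.node (.leaf 2450557718732163347907895) (.leaf 38000295052063934645560))))) (.node (.node (.node (.node (.leaf 1212818084311445605123385) (.leaf 2450613058401408753534266)) (.node (.leaf 1212854978644000774620475) (.leaf 2450649952171026854315324))) (.node (.node (.leaf 2451793649738525204677787) (.leaf 2451812097045553162486940)) (.node (.leaf 2451775203838872130225309) (.leaf 2451848990533709171262622)))) (.node (.node (.node (.leaf 1219883187289546084713631) (.leaf 2451830543789631166678176)) (.node (.leaf 2451738310069279799051425) (.leaf 2451756756813357803439266))) (.node (.node (.leaf 2451719863888151747888291) (.leaf 2451885883740317191374069)) (.node (.leaf 33388608749958279398646) (.leaf 1220584163845749012432119))))))) (.node (.node (.node (.node (.node (.node (.leaf 1220602610589801247212792) (.leaf 33443948419203685025017)) (.node (.leaf 2451978117742130651399418) (.leaf 33480842470309647615227))) (.node (.node (.leaf 1220676397566113265550588) (.leaf 1220694843184278478390525)) (.node (.leaf 38018741231005897590095) (.leaf 2451664523937362671109456)))) (.node (.node (.node (.leaf 38055635282098975081809) (.leaf 2451590736679601446258002)) (.node (.leaf 38092528207317915927891) (.leaf 2451572289654048464962900))) (.node (.node (.leaf 2451646076067371874583893) (.leaf 38147869283938204517718)) (.node (.leaf 1226856056549348190455127) (.leaf 29035177712642324956342))))) (.node (.node (.node (.node (.leaf 2452789774764017049207991) (.leaf 29016730968564320371896)) (.node (.leaf 2452826668252173058376889) (.leaf 2452845114151826132829370))) (.node (.node (.leaf 2452863561458841205736635) (.leaf 2452715987787743686165692)) (.node (.leaf 2452734434250346714039485) (.leaf 1212190895293370777797822)))) (.node (.node (.node (.leaf 33683756937690670105872) (.leaf 1227446352923734888416529)) (.node (.leaf 2452900455509874208015634) (.leaf 2452974241923197618226451))) (.node (.node (.leaf 2452937348998004447577364) (.leaf 1227464798541874331452693)) (.node (.leaf 33628415861031726220566) (.leaf 1227391012691500874663191)))))) (.node (.node (.node (.node (.node (.leaf 33609969679903675057432) (.leaf 38332335599866292929898)) (.node (.leaf 2452697541043622762251627) (.leaf 1220750184262045523838316))) (.node (.node (.leaf 1220768631850561343456621) (.leaf 1220787078594639348041070)) (.node (.leaf 38203209517258823173487) (.leaf 38276995930582233187696)))) (.node (.node (.node (.leaf 38240102723914085827953) (.leaf 38258549186504228799858)) (.node (.leaf 2453103368281623590273366) (.leaf 2453121816151588616798551))) (.node (.node (.leaf 24275917454403669655896) (.leaf 24294363635544605720921)) (.node (.leaf 2453177155820872677130586) (.leaf 24331257123687729987931))))) (.node (.node (.node (.node (.leaf 1226800715749547133436252) (.leaf 24368150048855131029853)) (.node (.leaf 2453084922100482654798174) (.leaf 1226025953631317673313417))) (.node (.node (.leaf 29662366449414021579914) (.leaf 2455482999399981284131979)) (.node (.leaf 29588580036077726860428) (.leaf 29551685984984649368717)))) (.node (.node (.node (.leaf 29570132729049769051278) (.leaf 1226136634095747046114447)) (.node (.leaf 29607026498654985127056) (.leaf 1226173527865365147092113))) (.node (.node (.leaf 1213924889800348946859235) (.leaf 2455612126889890580268260)) (.node (.leaf 34329393262913664189669) (.leaf 1213980229751107983901926))))))))) (.node (.node (.node (.node (.node (.node (.node (.node (.leaf 34200265772944195781863) (.leaf 34218712798484291978472)) (.node (.leaf 34292499211846356894953) (.leaf 1214054016164470048818410))) (.node (.node (.leaf 1214017122394839062938859) (.leaf 2455243190882576630940989)) (.node (.leaf 1219311338225515944412478) (.leaf 1219274445300309888664895)))) (.node (.node (.node (.leaf 1219348232276583252297024) (.leaf 2455261638471053796050241)) (.node (.leaf 2455280085496593892246850) (.leaf 1219237551249203926074691))) (.node (.node (.leaf 1219255998556231884080452) (.leaf 38922631974368947602757)) (.node (.leaf 2456479123859276163843236) (.leaf 2456497570321879191520421))))) (.node (.node (.node (.node (.leaf 2456516017065944311202982) (.leaf 2456368443394846791632039)) (.node (.leaf 29865280632073003926696) (.leaf 1213648188637177423332521))) (.node (.node (.leaf 29736152579102042490026) (.leaf 29754600449079953720491)) (.node (.leaf 29717706116499014616236) (.leaf 2456626697248825734268158)))) (.node (.node (.node (.leaf 1225380317305012297139455) (.leaf 34421627262592565970176)) (.node (.leaf 1225417210793168306308353) (.leaf 2456645144837341554083074))) (.node (.node (.leaf 34476966368926672880899) (.leaf 1225472551588352273483012)) (.node (.leaf 1225490998332430278067461) (.leaf 2456552910835502324843782)))))) (.node (.node (.node (.node (.node (.leaf 2456220868316318586307928) (.leaf 1222816219878831084864857)) (.node (.leaf 1222834667185846157968730) (.leaf 1222742432902506181625179))) (.node (.node (.leaf 2456294655855541902574940) (.leaf 2456257762085910916891997)) (.node (.leaf 2456331549343697911940446) (.leaf 1222760879928072047822175)))) (.node (.node (.node (.leaf 2456313103162569860777312) (.leaf 29883727377211883717823)) (.node (.leaf 1218813276978894152926400) (.leaf 1218776383209263167046849))) (.node (.node (.leaf 29939067890920874181826) (.leaf 2457364567294438775915715)) (.node (.leaf 2457383014038503895401668) (.leaf 1218739489439632181167301))))) (.node (.node (.node (.node (.leaf 2457419907526634134373574) (.leaf 30031301611259356710087)) (.node (.leaf 1222355051559476933428505) (.leaf 2457622821429892665967898))) (.node (.node (.leaf 2457585927941736656995611) (.leaf 2457659714355098721322268)) (.node (.leaf 2457678161662126679131421) (.leaf 2457641267611020716737822)))) (.node (.node (.node (.leaf 34642987629639512687903) (.leaf 1222262817839138450113824)) (.node (.leaf 2457530587709541297947937) (.leaf 1225195849865417662268787))) (.node (.node (.leaf 2457216993060335490631028) (.leaf 1225232742790610833114485)) (.node (.leaf 39236226059581156296054) (.leaf 2457272333292530849678711))))))) (.node (.node (.node (.node (.node (.node (.leaf 39273120110674233984376) (.leaf 1225306529766897081648505)) (.node (.leaf 39310013598843128055162) (.leaf 39328460342908247737723))) (.node (.node (.leaf 996125028202089611291) (.leaf 2418091448313379710959644)) (.node (.leaf 1033019642245120720925) (.leaf 2418128341801548605030430)))) (.node (.node (.node (.leaf 1069913693351083311135) (.leaf 2418165235289691729297440)) (.node (.leaf 1106806055620070539297) (.leaf 2418036108644134305923106))) (.node (.node (.leaf 1235138644354563650158627) (.leaf 2418239022263813332598820)) (.node (.leaf 2674779299686377717797) (.leaf 2418275915751956456865830))))) (.node (.node (.node (.node (.leaf 2418294363058997299773479) (.leaf 2418312809803062419456040)) (.node (.leaf 2418331255984190470619177) (.leaf 2418183682594567927562282))) (.node (.node (.leaf 2785460327104358645803) (.leaf 2418220576082711051829292)) (.node (.leaf 4316539523337468313645) (.leaf 4334987393302494838830)))) (.node (.node (.node (.leaf 2417943874922661988991023) (.leaf 4371880318521435488304)) (.node (.leaf 4390327062586555170865) (.leaf 4408773806664559755314))) (.node (.node (.leaf 2417851639513473646002227) (.leaf 4445666731870615502900)) (.node (.leaf 4464114038898573508661) (.leaf 498063497442425766266)))))) (.node (.node (.node (.node (.node (.leaf 2418995339332234857939323) (.leaf 2418958445281141780447612)) (.node (.leaf 2418866212123727481143677) (.leaf 2418884658867805485728126))) (.node (.node (.leaf 2418847764253762454815103) (.leaf 608744524860406694272)) (.node (.leaf 2418939999100039499481473) (.leaf 645636887116509020546)))) (.node (.node (.node (.leaf 664084756978463998582) (.leaf 682531501056468583031)) (.node (.leaf 700978245134473167480) (.leaf 2420526418527334086214265))) (.node (.node (.leaf 2420544865834362044220026) (.leaf 1232426973253406562058875)) (.node (.leaf 2420581759322518053388924) (.leaf 2420600205503646104552061))))) (.node (.node (.node (.node (.leaf 1232482313204165599101566) (.leaf 2422297305958435981034354)) (.node (.leaf 2422315753265463939040115) (.leaf 2422278859214370861548404))) (.node (.node (.leaf 885445122964573258613) (.leaf 903892429992531264374)) (.node (.leaf 2422168178749941489337207) (.leaf 940784792248633590648)))) (.node (.node (.node (.leaf 2422260413033268580582265) (.leaf 2422223519545125456511866)) (.node (.leaf 1210087965622438417335676) (.leaf 2424031300188057953633661))) (.node (.node (.leaf 2423994406699914829563262) (.leaf 2424068194239176801125759)) (.node (.leaf 2424086640420291967387008) (.leaf 6567042021414731515265)))))))) (.node (.node (.node (.node (.node (.node (.node (.leaf 6585489891405527844226) (.leaf 2424141981215475934561667)) (.node (.leaf 6622382253648745268612) (.leaf 1209921944647959366206961))) (.node (.node (.leaf 1209940392517924392732146) (.leaf 1209958839262002397316595)) (.node (.leaf 26120591587596738037236) (.leaf 2439674139729147148764661)))) (.node (.node (.node (.leaf 26157485075739862304246) (.leaf 1210032625675338692429303)) (.node (.leaf 26194378845370848183800) (.leaf 26212824745023922636281))) (.node (.node (.leaf 2440116861305385431860775) (.leaf 2440135308049450551346728)) (.node (.leaf 30713831143356738766377) (.leaf 2440172201537619445024298))))) (.node (.node (.node (.node (.leaf 2440190648281684564510251) (.leaf 2440153754793541440439852)) (.node (.leaf 30842958351864115562029) (.leaf 2440245988795354900268590))) (.node (.node (.leaf 30824511607786110977583) (.leaf 1224439533078329340528221)) (.node (.leaf 1224457979259444506789470) (.leaf 1224421086897201289365087)))) (.node (.node (.node (.leaf 1224494873873513307702880) (.leaf 1224513320617578427385441)) (.node (.leaf 2439176077357660590769762) (.leaf 35509983758152112670307))) (.node (.node (.leaf 1224402640153149054584420) (.leaf 1224365747227955883738725)) (.node (.leaf 1228829858728713353889280) (.leaf 1228792965240570229622273)))))) (.node (.node (.node (.node (.node (.leaf 2441260559435880956560898) (.leaf 2441334346412141434701306)) (.node (.leaf 2441352792874744462378491) (.leaf 1228700731238705229989372))) (.node (.node (.leaf 2441389686644375448454653) (.leaf 2441408132825503499421182)) (.node (.leaf 2441371240463260282193407) (.leaf 31027425790440782628406)))) (.node (.node (.node (.leaf 30990532302297658558007) (.leaf 2441777068832804521444920)) (.node (.leaf 2441850854964678724552240) (.leaf 30879851837868286346801))) (.node (.node (.leaf 30898298018996337509938) (.leaf 2441906195478349060310579)) (.node (.leaf 1211545259250073681659444) (.leaf 1211563705994151686243893))))) (.node (.node (.node (.node (.leaf 35639110964469030979180) (.leaf 2440780944089895747585645)) (.node (.leaf 2440799391678398682302062) (.leaf 2440817837859526733661798))) (.node (.node (.leaf 2440836284885079714760295) (.leaf 35565325114095574582888)) (.node (.leaf 35583771858173579363945) (.leaf 35602218602251583751786)))) (.node (.node (.node (.leaf 35620665346329588336235) (.leaf 1224937596011722228106758)) (.node (.leaf 1224956041911375302559239) (.leaf 2442939213429137230464520))) (.node (.node (.leaf 1224992936243917587154441) (.leaf 2442976107198742446736906)) (.node (.leaf 2442994553661332589512203) (.leaf 26434186235776111543811))))))) (.node (.node (.node (.node (.node (.node (.leaf 1224900702242091242227204) (.leaf 1224863809035410209768965)) (.node (.leaf 2443418828493492774307388) (.leaf 31119659793375248385597))) (.node (.node (.leaf 1216894814751065415616062) (.leaf 31156553000056280843839)) (.node (.leaf 31175000025609262138944) (.leaf 2443511062776819865552449)))) (.node (.node (.node (.leaf 2443529509520872100529721) (.leaf 2443547955983475128403514)) (.node (.leaf 2443566403009015224600123) (.leaf 1210752049537500131296882))) (.node (.node (.leaf 2442459598646114850702963) (.leaf 35749791992943550465652)) (.node (.leaf 35823578406305615185525) (.leaf 35842025713333573191286))))) (.node (.node (.node (.node (.leaf 35805132788127517640311) (.leaf 1210862729439018205382255)) (.node (.leaf 1210881176464571186677360) (.leaf 35694451760748192007793))) (.node (.node (.leaf 1208925819901511515243990) (.leaf 28075946455909548492247)) (.node (.leaf 2444617867137413791483352) (.leaf 1208981161822556734555609)))) (.node (.node (.node (.leaf 2444654760344056169235930) (.leaf 1209018055310699858822619)) (.node (.leaf 28168180176273801610716) (.leaf 1209054948798855867991517))) (.node (.node (.leaf 1209073395542933872575966) (.leaf 2445115928382888896366092)) (.node (.leaf 32742972987951508948493) (.leaf 2445097482483235822110222)))))) (.node (.node (.node (.node (.node (.leaf 32779867039057471538703) (.leaf 32798312938710545991184)) (.node (.leaf 32761419169079560308241) (.leaf 32835206989777853285906))) (.node (.node (.leaf 2445189715640650121217555) (.leaf 2445208162666190217610772)) (.node (.leaf 37391551650118546359874) (.leaf 2444119804765884284601923)))) (.node (.node (.node (.leaf 2444082911840691113952836) (.leaf 37446893289727443076677)) (.node (.leaf 37409999238634365584966) (.leaf 37428446264187346880071))) (.node (.node (.leaf 1223590983691863229924936) (.leaf 1223609430435941234509385)) (.node (.leaf 37483786214946383922762) (.leaf 1209423883120944929768837))))) (.node (.node (.node (.node (.leaf 21103077199590687769990) (.leaf 21121523943668692354439)) (.node (.leaf 1209479223916128896943496) (.leaf 1209497670660194016626057))) (.node (.node (.leaf 21176863612952752686474) (.leaf 1209534564148324255991179)) (.node (.leaf 2445706225041288825275788) (.leaf 1209571456510567473415565)))) (.node (.node (.node (.leaf 21398225102605448578466) (.leaf 2446591668754679471277472)) (.node (.leaf 1229604622542793470969249) (.leaf 1229623068723921522132389))) (.node (.node (.leaf 1229641515186524550006179) (.leaf 1229659962212077531301284)) (.node (.leaf 21342885433321388246440) (.leaf 2446702349500583820199334)))))))))) (.node (.node (.node (.node (.node (.node (.node (.node (.node (.leaf 21324438126306315339175) (.leaf 2447569345347243459806652)) (.node (.leaf 2447587791809846487680445) (.leaf 2447606239679811514205627))) (.node (.node (.leaf 2447624686705377379812799) (.leaf 21564245800372621542848)) (.node (.leaf 21527352593691589281214) (.leaf 21435119154776543462850)))) (.node (.node (.node (.leaf 1224107492246947498493379) (.leaf 2447716919862765909706177)) (.node (.leaf 2449303339850747003143647) (.leaf 2449321786594825007531488))) (.node (.node (.leaf 2449284893388156860171745) (.leaf 2449358680645930969728482)) (.node (.leaf 2449377126827059020695011) (.leaf 2449340233901865850045924))))) (.node (.node (.node (.node (.leaf 2449247999618551644095973) (.leaf 1226579355387538171561446)) (.node (.leaf 2449229552874486524413415) (.leaf 33775990374733064504853))) (.node (.node (.leaf 33794436837323207280150) (.leaf 2449819849247713536247319)) (.node (.leaf 2449838295428815817213464) (.leaf 1214404504861732403480089)))) (.node (.node (.node (.leaf 2449875189198433917994522) (.leaf 33720650423974027462171)) (.node (.leaf 2449746061708451564488220) (.leaf 2449764509015479522493981))) (.node (.node (.leaf 38443016625403073070667) (.leaf 1219403571379867932427852)) (.node (.leaf 38424570444275022104141) (.leaf 1219440465712448871728718)))))) (.node (.node (.node (.node (.node (.leaf 2448842171530374920472143) (.leaf 38479910113559082436176)) (.node (.leaf 38387676674644036617809) (.leaf 2448731491065906893555282))) (.node (.node (.leaf 38369229086141102098003) (.leaf 2450281017290149711578510)) (.node (.leaf 2450299464034227715966351) (.leaf 2450317910215342882227600)))) (.node (.node (.node (.leaf 22855518168123966096785) (.leaf 1226191974609898418210194)) (.node (.leaf 2450373251010526848812435) (.leaf 22744837703655939179924))) (.node (.node (.leaf 2450244124364943655634325) (.leaf 2450262570827533798606230)) (.node (.leaf 1213887996029081578440107) (.leaf 2451295587649084780643753))))) (.node (.node (.node (.node (.leaf 22929304860766235264426) (.leaf 2451332481700203627742638)) (.node (.leaf 1213740421513546243048876) (.leaf 2451369374625396798391725))) (.node (.node (.leaf 2451221801798685554247089) (.leaf 2451240247979800720311727)) (.node (.leaf 2451258695286828678317488) (.leaf 23206005741474956445125)))) (.node (.node (.node (.leaf 23224451641128030897606) (.leaf 23187559841834767091140)) (.node (.leaf 2452328605599782726993352) (.leaf 2452347053188285661709769))) (.node (.node (.leaf 1218979297394520649434567) (.leaf 23150666353665873413579)) (.node (.leaf 1219016191164112980608460) (.leaf 1219034637063766055060938))))))) (.node (.node (.node (.node (.node (.node (.leaf 30160428536462111147496) (.leaf 2453988813127081627026921)) (.node (.leaf 2454007260434096699934186) (.leaf 1221672520901097424094699))) (.node (.node (.leaf 30068194534635766810092) (.leaf 1221654075001444349642221)) (.node (.leaf 30105088585703074104814) (.leaf 2453933473457797566694895)))) (.node (.node (.node (.leaf 1221543395099926275556848) (.leaf 2454505321679571728467486)) (.node (.leaf 34845901812569114740255) (.leaf 1220252122733222906168864))) (.node (.node (.leaf 1220270569195825934042657) (.leaf 1220289016502853892048418)) (.node (.leaf 2454376194752552213480995) (.leaf 2454449981728851346720292))))) (.node (.node (.node (.node (.leaf 1220344356172137952380453) (.leaf 2454431534984786227234342)) (.node (.leaf 2453490750192640736101972) (.leaf 1212338469525657314985557))) (.node (.node (.leaf 1212301576037514190718550) (.leaf 1212375363013787554350679)) (.node (.leaf 2453398517598137735710296) (.leaf 39365353829191604897369)))) (.node (.node (.node (.leaf 1212264682549358181549658) (.leaf 2453453857830371748873819)) (.node (.leaf 1212246235242330223543900) (.leaf 1221949223191487409423767))) (.node (.node (.leaf 2455003384054532972676504) (.leaf 24552617778510364214681)) (.node (.leaf 1222004563423721423177114) (.leaf 1222023009604849474340251)))))) (.node (.node (.node (.node (.node (.leaf 1221986117242606256915868) (.leaf 1221893882959253395670429)) (.node (.leaf 2454948043540823982212510) (.leaf 2454966490566376963311007))) (.node (.node (.leaf 1219717167156408177198516) (.leaf 24626405878540437947826)) (.node (.leaf 2456017954694943054955955) (.leaf 2455870380460895581767095)))) (.node (.node (.node (.leaf 24681745829299474990517) (.leaf 2455907274511988659455414)) (.node (.leaf 1219827847902312526710202) (.leaf 2455944167437168945399224))) (.node (.node (.leaf 2455962615025658995213753) (.leaf 1211987981390610474337742)) (.node (.leaf 2456995632694881918846415) (.leaf 24737085781110751036877))))) (.node (.node (.node (.node (.leaf 1212043321622844488091089) (.leaf 24829320345912819189202)) (.node (.leaf 2456903399256005527733712) (.leaf 1211932640595426507163092))) (.node (.node (.leaf 1211951088183916556977621) (.leaf 24847766527015099958739)) (.node (.leaf 1212412256220537306285688) (.leaf 2424197321448057848333945)))) (.node (.node (.node (.leaf 2424160427396964770842234) (.leaf 6696169793271501948539)) (.node (.leaf 1212486042915361463010940) (.leaf 6733063562889602926205))) (.node (.node (.leaf 2424289554605510802736766) (.leaf 6769956769570635384447)) (.node (.leaf 2424271106735532891506304) (.leaf 1213076338729190504335088)))))))) (.node (.node (.node (.node (.node (.node (.node (.leaf 1213094786317693439051505) (.leaf 26618653114860291950322)) (.node (.leaf 26692440935597240223475) (.leaf 2439858607170137658558196))) (.node (.node (.leaf 26673994472994212546293) (.leaf 2439895500658293667727085)) (.node (.leaf 2439913947120896695600878) (.leaf 2439877053351265709917935)))) (.node (.node (.node (.leaf 2440301329590787973646118) (.leaf 31267233465817131517735)) (.node (.leaf 31285679928407274293032) (.leaf 1227815287806957132449577))) (.node (.node (.leaf 2440319775771890255202090) (.leaf 31341020442077610051371)) (.node (.leaf 2440412009492267392436003) (.leaf 31211892670633164343076))))) (.node (.node (.node (.node (.leaf 31230340259123213960997) (.leaf 2439268311359736033707868)) (.node (.leaf 35934259716491396450141) (.leaf 1221709415518606493812574))) (.node (.node (.leaf 1221783202494918512150367) (.leaf 35989599385775456782176)) (.node (.leaf 36008046411315552978785) (.leaf 2439378991824165406508889)))) (.node (.node (.node (.leaf 1221856989752666852493146) (.leaf 2439415885030833553868635)) (.node (.leaf 1227261884919712831375094) (.leaf 26729334140087889495799))) (.node (.node (.leaf 26747781165640870594296) (.leaf 2441518814134606905018105)) (.node (.leaf 1227335671896011964811002) (.leaf 26803121116399907636987)))))) (.node (.node (.node (.node (.node (.leaf 1227206545250467425748732) (.leaf 1227224991994532545431293)) (.node (.leaf 2441555707622762913597182) (.leaf 31377913646619691058988))) (.node (.node (.leaf 1211600598919598260160301) (.leaf 31414807134762815325998)) (.node (.leaf 2441979982454884417079087) (.leaf 31451700622880169789232)))) (.node (.node (.node (.leaf 1211674385895871623792433) (.leaf 1211692833202912466700082)) (.node (.leaf 2442053769149708573804339) (.leaf 1211729726691055590967092))) (.node (.node (.leaf 36044940178768982968162) (.leaf 1219661827205735039502179)) (.node (.leaf 36026493716165955094372) (.leaf 2441002305581992217020261))))) (.node (.node (.node (.node (.leaf 1219551146459830689990502) (.leaf 2440983858556439235725159)) (.node (.leaf 2441057644969762645935976) (.leaf 2441076090869402835289961))) (.node (.node (.leaf 1219624933154629076911978) (.leaf 2443086787100458074965765)) (.node (.leaf 2443105234407486032774918) (.leaf 2443123681151564037359367)))) (.node (.node (.node (.leaf 2443142127332692088719103) (.leaf 26913801581924474685184)) (.node (.leaf 1221119119425737722234625) (.leaf 1221192906683511832381186))) (.node (.node (.leaf 26969142377108441859843) (.leaf 26987588839711469733636)) (.node (.leaf 2443603296497420353079099) (.leaf 2443621742678548404045628))))))) (.node (.node (.node (.node (.node (.node (.leaf 2443584849190405279975229) (.leaf 1220086101476036222715701)) (.node (.leaf 2443677082910743762503478) (.leaf 2443640189422600638433079))) (.node (.node (.leaf 2443713976961849725290296) (.leaf 31636168064716806948665)) (.node (.leaf 2443695529091884698765114) (.leaf 36340088085022049372017)))) (.node (.node (.node (.leaf 2442588725010446409140082) (.leaf 2442607172035999390435187)) (.node (.leaf 1211803514231429959255915) (.leaf 36192514132449553090412))) (.node (.node (.leaf 1211840407719585968424813) (.leaf 2442736299525968859432814)) (.node (.leaf 2442699405756350758651759) (.leaf 36266301108722916722544))))) (.node (.node (.node (.node (.leaf 1214644312535072880592594) (.leaf 1214662758716188046853843)) (.node (.leaf 1214625865228044922586836) (.leaf 28260413897016031643349))) (.node (.node (.leaf 2444765440808884993918678) (.leaf 28241967434413003769559)) (.node (.leaf 1214588972302838866839256) (.leaf 1214607419046903986521817)))) (.node (.node (.node (.leaf 28297307385172040222426) (.leaf 1226431781998078836672264)) (.node (.leaf 2445355737463612836808457) (.leaf 2445374183644728002873098))) (.node (.node (.leaf 32872100196862603560715) (.leaf 2445245056154758534465292)) (.node (.leaf 2445263502617348677240589) (.leaf 32927440710532938729230)))))) (.node (.node (.node (.node (.node (.leaf 32945887173135966603023) (.leaf 1226357994740291841623824)) (.node (.leaf 2444378059746248421607230) (.leaf 37668254218989913114431))) (.node (.node (.leaf 37631360167896835622720) (.leaf 1223092921320771755706177)) (.node (.leaf 2444285825462947100559170) (.leaf 37520679703467463411523)))) (.node (.node (.node (.leaf 2444322719232578086438724) (.leaf 37612913986794554656581)) (.node (.leaf 2444304272488512966952774) (.leaf 1214312271145134836680322))) (.node (.node (.leaf 1214330717607724979652227) (.leaf 21582692264268399838849)) (.node (.leaf 2445743118248227572745861) (.leaf 21674926829070467991174))))) (.node (.node (.node (.node (.leaf 1214349164633290845849220) (.leaf 2445798458198947954493064)) (.node (.leaf 21730266779790849738377) (.leaf 1214238483605872864921223))) (.node (.node (.leaf 1225767698649785302058652) (.leaf 2446868370197492005996189)) (.node (.leaf 2446886816941570010384030) (.leaf 1225823038882019315811999)))) (.node (.node (.node (.leaf 2446757689451587657074336) (.leaf 2446776136477140638172833)) (.node (.leaf 1225712358980501241726626) (.leaf 1225730805161629292889763))) (.node (.node (.leaf 1225693912236436122044068) (.leaf 22006967939831370483385)) (.node (.leaf 21970075014638199834295) (.leaf 2447882940841149080012472))))))))) (.node (.node (.node (.node (.node (.node (.node (.node (.leaf 2447735366607101606823612) (.leaf 22025414120972306745018)) (.node (.leaf 22043861427987379848891) (.leaf 2447790707120771942581951))) (.node (.node (.leaf 2447809154146324923877053) (.leaf 1222687093234970172982974)) (.node (.leaf 2449414020597050792347355) (.leaf 29219644870435624912604)))) (.node (.node (.node (.leaf 1228995879143034180339421) (.leaf 29311878872287738857182)) (.node (.leaf 2449487807291887833384671) (.leaf 1228885198678604807538400))) (.node (.node (.leaf 29367219104521752610529) (.leaf 29330325334903651829474)) (.node (.leaf 29348771797506679703267) (.leaf 1209091842287449963824913))))) (.node (.node (.node (.node (.leaf 33886670839553259603730) (.leaf 2449930529149592367990547)) (.node (.leaf 1209147182519645322872596) (.leaf 33942010508798665230101))) (.node (.node (.leaf 1209184076007788447139606) (.leaf 1209202522188929383204631)) (.node (.leaf 33997351303982632404760) (.leaf 1209239415677072507471641)))) (.node (.node (.node (.leaf 2448934405532587806754631) (.leaf 1217964726749880012900168)) (.node (.leaf 38516804165030111807305) (.leaf 2448989745483346843797322))) (.node (.node (.leaf 2448952851995203719726923) (.leaf 38572143834314172139340)) (.node (.leaf 1217890938929143064430413) (.leaf 2449008192227399078184782)))))) (.node (.node (.node (.node (.node (.leaf 38627484629459484018511) (.leaf 1229457047466734838679179)) (.node (.leaf 2450410145343326842914444) (.leaf 23298239463157801879178))) (.node (.node (.leaf 23372027002419772851854) (.leaf 23390473746497777436303)) (.node (.leaf 23353579976866791753357) (.leaf 2450502378500728257119889)))) (.node (.node (.node (.leaf 23279793282029750519442) (.leaf 23242900075348718257808)) (.node (.leaf 1209589904378664189167269) (.leaf 2451406268395233927825062))) (.node (.node (.leaf 1209626797866807313434279) (.leaf 1209645244610898202920616)) (.node (.leaf 2451461608908942918289065) (.leaf 2451480055090070969452202))))) (.node (.node (.node (.node (.leaf 1209700585406043515389611) (.leaf 1209719031587158681650860)) (.node (.leaf 23556493596541435250349) (.leaf 2452383946676647827343042))) (.node (.node (.leaf 1218462788560671528519360) (.leaf 23704068394655584487105)) (.node (.leaf 2452439286908881841096389) (.leaf 2452457733090009892259523)))) (.node (.node (.node (.leaf 1218536575536983546857156) (.leaf 1218389001021409556760264)) (.node (.leaf 1218407447484012584634054) (.leaf 1218425895353990496061127))) (.node (.node (.leaf 30308003052388298983140) (.leaf 30271109282770198202085)) (.node (.leaf 2454117940335975562020582) (.leaf 2454191727312287580161767))))))) (.node (.node (.node (.node (.node (.node (.leaf 30326449233529235244776) (.leaf 30344895977594354927337)) (.node (.leaf 1224808468519888743106282) (.leaf 2454044153359676429174507))) (.node (.node (.leaf 30234215513126328010476) (.leaf 2454616002707350473213722)) (.node (.leaf 1216507433123692152555291) (.leaf 2454597555400335400109852)))) (.node (.node (.node (.leaf 2454671342376634532955933) (.leaf 34993474921133279348510)) (.node (.leaf 2454652894506669506430751) (.leaf 1216488986942589871195936))) (.node (.node (.leaf 34882795019653860558625) (.leaf 2454542215168140041062178)) (.node (.leaf 2453601431220419487074128) (.leaf 39605162065507797305169))))) (.node (.node (.node (.node (.leaf 39568268295889696524114) (.leaf 39642055553638036277075)) (.node (.leaf 2453675217633730011596628) (.leaf 2453693664940757969602389))) (.node (.node (.leaf 2453546090988185473320790) (.leaf 2453564538013725569517399)) (.node (.leaf 39512928063655682770776) (.leaf 25032234250550065759892)))) (.node (.node (.node (.leaf 2455114064519207166215829) (.leaf 2455132511263285170800275)) (.node (.leaf 2455150958007363175384727) (.leaf 1224273512945023929288344))) (.node (.node (.leaf 24903106479105620641430) (.leaf 24976893455366099175066)) (.node (.leaf 24995340199444103759515) (.leaf 2455077171031051157636761)))))) (.node (.node (.node (.node (.node (.leaf 2456091741952949084030638) (.leaf 2456110188415552111707823)) (.node (.leaf 2456128635159617231390384) (.leaf 25179807919517256582833))) (.node (.node (.leaf 2456165528929261101582002) (.leaf 2456183974828901291132595)) (.node (.leaf 25069127455049229665972) (.leaf 25087574199127234053813)))) (.node (.node (.node (.leaf 2456073295490333171058358) (.leaf 2457087865289591073408715)) (.node (.leaf 25235147871328537675465) (.leaf 2457124759340684150900426))) (.node (.node (.leaf 2457143206084775039993550) (.leaf 2457161652828840159479500)) (.node (.leaf 2457180099572918164063949) (.leaf 2457032525620307013076689))))) (.node (.node (.node (.node (.leaf 2457050972645847109273295) (.leaf 2457069419108450137147088)) (.node (.leaf 2423846832746942917445492) (.leaf 6825297563942861408117))) (.node (.node (.leaf 2423828385439914959636342) (.leaf 1214791885923810660976503)) (.node (.leaf 2423920619723242050881400) (.leaf 6899083977304926324601)))) (.node (.node (.node (.leaf 6917530158445862389626) (.leaf 2423975959955476064634747)) (.node (.leaf 2423939066467332940564348) (.leaf 1214072463471665510549487))) (.node (.node (.leaf 2439434331493024237357040) (.leaf 2439452779363002148784113)) (.node (.leaf 27098268741813633943529) (.leaf 2439489672569683181242346)))))))) (.node (.node (.node (.node (.node (.node (.node (.leaf 1214164696910580556761067) (.leaf 2439581906008546687649772)) (.node (.leaf 2439545012520403563579373) (.leaf 27135163074368803637230))) (.node (.node (.leaf 2439932394145869901334565) (.leaf 1225859933216155033274406)) (.node (.leaf 2439969287634025910306855) (.leaf 2439987734378103915087903)))) (.node (.node (.node (.leaf 1225915272885439093606432) (.leaf 1225933719910992074901537)) (.node (.leaf 1226007506324341254916130) (.leaf 31783742017937864394787))) (.node (.node (.leaf 2440079967817018961102884) (.leaf 2438954716428552732674139)) (.node (.leaf 2438973163172630737061980) (.leaf 2438936269121537659570269))))) (.node (.node (.node (.node (.leaf 2439010057223698044553301) (.leaf 2439028502841876142098518)) (.node (.leaf 2438991610479632924870743) (.leaf 2439065397455932058306648))) (.node (.node (.leaf 2439083843074110155851865) (.leaf 36413875061943992584282)) (.node (.leaf 27282736743327469996021) (.leaf 27301183487405474580470)))) (.node (.node (.node (.leaf 2441131432508586551674871) (.leaf 27338076412611530328056)) (.node (.leaf 27356523438164511623161) (.leaf 1225583232052983509747706))) (.node (.node (.leaf 2441205219203397823694834) (.leaf 27245843255171461416947)) (.node (.leaf 27264289154811650770932) (.leaf 31949762712410772408363)))))) (.node (.node (.node (.node (.node (.leaf 1213426827426839406053420) (.leaf 2441592601391814029936685)) (.node (.leaf 32005103507594739583022) (.leaf 1213482167659073419806767))) (.node (.node (.leaf 31986656200566781773872) (.leaf 31894422480215413950504)) (.node (.leaf 31912869787243371956265) (.leaf 2441703281574807080732714)))) (.node (.node (.node (.leaf 2440633370418574896203873) (.leaf 1219145318089753811880034)) (.node (.leaf 36598342500520705919075) (.leaf 36672129476794069551204))) (.node (.node (.leaf 1219200658603424147638373) (.leaf 36653682451241088256102)) (.node (.leaf 1219071531113441793542238) (.leaf 1219089977294569844705375))))) (.node (.node (.node (.node (.leaf 36543002268286692165728) (.leaf 27411863389980099414011)) (.node (.leaf 2442791639757777708976124) (.leaf 2442754745706684631484413))) (.node (.node (.leaf 2442828532682996649232382) (.leaf 2442846979427061768718335)) (.node (.leaf 2442810086501868598069248) (.leaf 1222465731742641782917121)))) (.node (.node (.node (.leaf 27540991442899521243138) (.leaf 1222447285280038755043331)) (.node (.leaf 32078889922013384542257) (.leaf 32041996996807328991282))) (.node (.node (.leaf 2443271254822133267499059) (.leaf 2443345040954020355704884)) (.node (.leaf 1218702596233006983284789) (.leaf 2443326594772892304541750))))))) (.node (.node (.node (.node (.node (.node (.leaf 1218573469024512490801207) (.leaf 1218591916050052587194424)) (.node (.leaf 1218555022280434486216761) (.leaf 1213242359142824136018023))) (.node (.node (.leaf 2442275130642213062248552) (.leaf 1213279253756867167127657)) (.node (.leaf 1213297699937969448487018) (.leaf 1213316146682034568169579)))) (.node (.node (.node (.leaf 1213334593426112572754028) (.leaf 36801255279034643777645)) (.node (.leaf 1213371486351318628501614) (.leaf 2442404257006295509502063))) (.node (.node (.leaf 2444470292340016946218958) (.leaf 1212688957381003000416207)) (.node (.leaf 2444507186954059977131984) (.leaf 2444525633698112211519441))))) (.node (.node (.node (.node (.leaf 1212578276916534972909522) (.leaf 28500222132146812684243)) (.node (.leaf 1212670511199874949253076) (.leaf 28426434874385587832789))) (.node (.node (.leaf 1212652063892846991247318) (.leaf 33130354894583538649092)) (.node (.leaf 2444968355274341892556805) (.leaf 33111908150505534261254)))) (.node (.node (.node (.leaf 33185694563867598981127) (.leaf 1227593926873966628309000)) (.node (.leaf 33167248382739548014601) (.leaf 33075013536449618642954))) (.node (.node (.leaf 33038120892731424704523) (.leaf 2444931461504698022365196)) (.node (.leaf 2443990678119927420946490) (.leaf 2444009124301055471913019)))))) (.node (.node (.node (.node (.node (.leaf 2443972230812912347842620) (.leaf 2444046018070686457399357)) (.node (.leaf 2444064463970339531655230) (.leaf 2444027571045146361006143))) (.node (.node (.leaf 2443935337324782108477504) (.leaf 2443953784350335089576001)) (.node (.leaf 2443916890017767035373634) (.leaf 22117648404896364365695)))) (.node (.node (.node (.leaf 1213020998496552763656061) (.leaf 2445503310574788307519358)) (.node (.leaf 2445521757881829150033794) (.leaf 22136095148974368360320))) (.node (.node (.leaf 2445558650807022320682881) (.leaf 2445411075728511262852997)) (.node (.leaf 1212965658827268703324035) (.leaf 2445447970905504247187332))))) (.node (.node (.node (.node (.leaf 22375903101230070957977) (.leaf 22394349563833098831770)) (.node (.leaf 2446499435034083281274776) (.leaf 22265222073850745325468))) (.node (.node (.leaf 22283668817928749909917) (.leaf 2446554775266317295028123)) (.node (.leaf 1227132757710763072358303) (.leaf 22339009050124108957600)))) (.node (.node (.node (.leaf 22302115561980984887198) (.leaf 2447458665726994193319859)) (.node (.leaf 1220989992779746506573748) (.leaf 1221008438960861672834997))) (.node (.node (.leaf 22523476491969283884982) (.leaf 2447532452984781187581879)) (.node (.leaf 22560370261587384666040) (.leaf 2447403325213285202855865))))))))))) (.node (.node (.node (.node (.node (.node (.node (.node (.node (.node (.leaf 2447421771957363207243706) (.leaf 1220953099291577612502971)) (.node (.leaf 2449192659667393181452247) (.leaf 1228368690406700617697240))) (.node (.node (.leaf 2449174213204803038676953) (.leaf 2449081979484438785951706)) (.node (.leaf 29422559054486218803163) (.leaf 2449063531895948736333788)))) (.node (.node (.node (.leaf 2449137319153722846283741) (.leaf 29477898723770279135198)) (.node (.leaf 2449118872691132703508447) (.leaf 1210493795117753777326093))) (.node (.node (.leaf 1210512241861818897008654) (.leaf 34163372562840062003215)) (.node (.leaf 34071138560975062960144) (.leaf 1210567580968114349213713))))) (.node (.node (.node (.node (.leaf 1210530688605871131789330) (.leaf 34126478511734099413011)) (.node (.leaf 2449635381243622745901076) (.leaf 1210420008141441758988309))) (.node (.node (.leaf 1216304519500993781565507) (.leaf 2448676150833312091408452)) (.node (.leaf 1216286072756915776981061) (.leaf 38682824860937577760838)))) (.node (.node (.node (.leaf 2448565470368882719197255) (.leaf 1216341413270624767445064)) (.node (.leaf 38738164530182982797385) (.leaf 1216267626294312749107274))) (.node (.node (.leaf 38775058018326106867787) (.leaf 1227852181576283175651208)) (.node (.leaf 23796302115642640893830) (.leaf 2450207230876568609097607)))))) (.node (.node (.node (.node (.node (.leaf 2450059656642521135908747) (.leaf 23851642347876654647177)) (.node (.leaf 1227944414733710360250250) (.leaf 1227962861759237571741582))) (.node (.node (.leaf 1227981308221840599615372) (.leaf 2450151890081384642512781)) (.node (.leaf 23925429603468861573026) (.leaf 2451184908028835515729827)))) (.node (.node (.node (.leaf 2451203354491438543407009) (.leaf 23980769554227898615717)) (.node (.leaf 23999215735343064876966) (.leaf 1211194771394096636037028))) (.node (.node (.leaf 2451111121052536382293928) (.leaf 24054556249013400045481)) (.node (.leaf 24017662760870275778471) (.leaf 1216636560615431148275644))))) (.node (.node (.node (.node (.leaf 24202129921227631036349) (.leaf 1216618114152841005303742)) (.node (.leaf 1216691900566190185318335) (.leaf 24091450301223188957120))) (.node (.node (.leaf 1216673454385075019057089) (.leaf 24128343226390589409218)) (.node (.leaf 2452125691696193487243203) (.leaf 2452144138440271491631044)))) (.node (.node (.node (.leaf 30400236490508770805728) (.leaf 1223277388761014930638817)) (.node (.leaf 30381789183480812996578) (.leaf 2453804345967441557063651))) (.node (.node (.leaf 30474023748295765854180) (.leaf 30437129978664780171237)) (.node (.leaf 2453859685636686962100198) (.leaf 1223222048810255893596135))))))) (.node (.node (.node (.node (.node (.node (.leaf 2453841238611133981001704) (.leaf 35067263022537755527190)) (.node (.leaf 1217854045721774837205015) (.leaf 1217872492747327818500120))) (.node (.node (.leaf 1217724918231792483108889) (.leaf 2454302408057341500852250)) (.node (.leaf 2454265514287723400071195) (.leaf 35177943487005782444060)))) (.node (.node (.node (.leaf 2454357748008100537894941) (.leaf 1217817152233657482741790)) (.node (.leaf 2453214049312623511603276) (.leaf 2453232496901113561417805))) (.node (.node (.leaf 1209294756471637999355982) (.leaf 1209313202652740280715343)) (.node (.leaf 2453287836851833943754832) (.leaf 1209350096140883404982353))))) (.node (.node (.node (.node (.leaf 39789628379567593359442) (.leaf 39808075123632713042003)) (.node (.leaf 1209405436373117418735700) (.leaf 2454708235867642426296209))) (.node (.node (.leaf 1223775451136032004966287) (.leaf 25530296058609978967952)) (.node (.leaf 2454763576662826393470868) (.leaf 2454782022843954444634002)))) (.node (.node (.node (.leaf 25419615594180606756755) (.leaf 25493401726016154568599)) (.node (.leaf 25456509363772937340821) (.leaf 2454855809820227807676310))) (.node (.node (.leaf 2455704360889887284397995) (.leaf 25659423546436239689644)) (.node (.leaf 1218370554838791151945642) (.leaf 1218222980886218654877614)))))) (.node (.node (.node (.node (.node (.leaf 2455778147303249348724655) (.leaf 2455796594328789445117869)) (.node (.leaf 2455815040509891726477233) (.leaf 25604082469777295804338))) (.node (.node (.leaf 25567189263096263542704) (.leaf 1209755925075984705718213)) (.node (.leaf 1209774371820049825400774) (.leaf 25770103449006549960647)))) (.node (.node (.node (.leaf 1209811264745268766050248) (.leaf 1209829712052283839154121)) (.node (.leaf 25825443681240563713994) (.leaf 1209866604414514171676619))) (.node (.node (.leaf 1209885052284479198201804) (.leaf 2456848058179101763373005)) (.node (.leaf 281625400246326) (.leaf 2434158562397934310260791))))) (.node (.node (.node (.node (.leaf 2434121669472741139611704) (.leaf 55342202670619557945)) (.node (.leaf 2434213903193079622729786) (.leaf 92235690813743824955))) (.node (.node (.leaf 2434250796681248516800572) (.leaf 2434269243425313636483133)) (.node (.leaf 2434232349374220558991422) (.leaf 1162146006456346804719)))) (.node (.node (.node (.leaf 2436058577322763685462512) (.leaf 1215437521965406950064625)) (.node (.leaf 1215455969272447792972274) (.leaf 1215474416016512912654835))) (.node (.node (.leaf 1215492861634691010396660) (.leaf 1215511309504681806725621)) (.node (.leaf 1215529756248746926408182) (.leaf 1215548201866925024150007)))))))) (.node (.node (.node (.node (.node (.node (.node (.leaf 1245265907693380690903548) (.leaf 2436132364859852509413885)) (.node (.leaf 2436150811603917629096443) (.leaf 2877694610530250785279))) (.node (.node (.leaf 2436187704529136569156096) (.leaf 2436206151836151642259966)) (.node (.leaf 2436224598580242531942905) (.leaf 2436243045605795513041402)))) (.node (.node (.node (.leaf 2436261491505435702591992) (.leaf 1240875582323440862102025)) (.node (.leaf 4501007808611146334727) (.leaf 1240857136142325695840776))) (.node (.node (.leaf 1240930923118624829276675) (.leaf 2435929450676132610834945)) (.node (.leaf 1240912475811609756172802) (.leaf 1240820242091245503054342))))) (.node (.node (.node (.node (.leaf 1240838689398273461060100) (.leaf 2435781876160610160345605)) (.node (.leaf 2437017807733048657773293) (.leaf 1234234755020868965630699))) (.node (.node (.leaf 1234253201483459108602604) (.leaf 2437073148809707601658608)) (.node (.leaf 1733996198576892347118) (.leaf 2437054702065629597270767)))) (.node (.node (.node (.leaf 1234160967481645648577267) (.leaf 1789336712285882221297)) (.node (.leaf 1807782893401048482546) (.leaf 3320415623779871949559))) (.node (.node (.leaf 2437220722760119779721976) (.leaf 1248328067491018449617657)) (.node (.leaf 3375756418963839124218) (.leaf 3394202881566866998011)))))) (.node (.node (.node (.node (.node (.leaf 3412649907119848096508) (.leaf 1248291173439938256831220)) (.node (.leaf 3449543395275856872181) (.leaf 2437183829553477401772790))) (.node (.node (.leaf 1243255212871830636659460) (.leaf 4999070179994685014789)) (.node (.leaf 5017516924072689402627) (.leaf 1243144532407401263858430)))) (.node (.node (.node (.leaf 5054410130753721467647) (.leaf 2436870234342339519578877)) (.node (.leaf 5091302774497685406465) (.leaf 2436907127830495528944386))) (.node (.node (.leaf 5128196544115786187520) (.leaf 1232943482372789403780072)) (.node (.leaf 2437958592525271425287145) (.leaf 1232980375860945412948967))))) (.node (.node (.node (.node (.leaf 2437995485731952457155563) (.leaf 1232851249215387988984812)) (.node (.leaf 2250505314154386162666) (.leaf 2268951776757414036462))) (.node (.node (.leaf 1232906589166147026027503) (.leaf 1232925035347275077190637)) (.node (.leaf 1246870774709234044568565) (.leaf 2438198399633110786835443)))) (.node (.node (.node (.leaf 2438161506144967662765044) (.leaf 2438235293121279681102840)) (.node (.leaf 2438253739865344800588790) (.leaf 2438216846377201676518391))) (.node (.node (.leaf 3929159022710226289650) (.leaf 2438143059963865381209072)) (.node (.leaf 2438106166194247280428017) (.leaf 2437921698754566732579839))))))) (.node (.node (.node (.node (.node (.node (.leaf 2437884805547898585023488) (.leaf 5515579014097205330945)) (.node (.leaf 2437811018290137359778809) (.leaf 1242628023573376049284090))) (.node (.node (.leaf 1242646470035966192255995) (.leaf 1242720256449328257172476)) (.node (.leaf 5607812734500112565245) (.leaf 1242701809986725229298686)))) (.node (.node (.node (.leaf 2424842957203708205334672) (.leaf 2424861403947773325017233)) (.node (.leaf 2424824509896680247525522) (.leaf 2424898297435903564382355))) (.node (.node (.leaf 2424916743617018730643604) (.leaf 258256387515805139093)) (.node (.leaf 276702568656741204118) (.leaf 2424972083849252744396951))))) (.node (.node (.node (.node (.leaf 313596056799865471128) (.leaf 1328167547656449950251)) (.node (.leaf 1346614854684407759404) (.leaf 2426779865335278839595565))) (.node (.node (.leaf 2426687632177877424800293) (.leaf 2426650737845309370401318)) (.node (.leaf 1248457194420421672239655) (.leaf 2426742971847161485132328)))) (.node (.node (.node (.leaf 1248494087908590566310441) (.leaf 1248512534652655685993002)) (.node (.leaf 2426816758539786565911087) (.leaf 3006820974724326359600))) (.node (.node (.leaf 3025268563227261076014) (.leaf 1233662905389666919055922)) (.node (.leaf 3062161769908292944435) (.leaf 1233699799440772881646129)))))) (.node (.node (.node (.node (.node (.leaf 2426927440130154499670581) (.leaf 3117502002142306697782)) (.node (.leaf 2426964333336835532128820) (.leaf 2426558504686795524932156))) (.node (.node (.leaf 2426576951430860644418106) (.leaf 2426540057942717520347707)) (.node (.leaf 1238791100243249114317375) (.leaf 2426632291663094658171453)))) (.node (.node (.node (.leaf 2426595398174951534101054) (.leaf 2426503164454600165884473)) (.node (.leaf 1238643525727713778926135) (.leaf 2426484716021672301036088))) (.node (.node (.leaf 1826229919039966348073) (.leaf 2427739096589988661560103)) (.node (.leaf 1244675611603754619634472) (.leaf 1244749398017103799649059))))) (.node (.node (.node (.node (.leaf 1244767845324131757654817) (.leaf 1244730952398938586809122)) (.node (.leaf 1936909820558039843622) (.leaf 1955356846111021138724))) (.node (.node (.leaf 1244620271371559260586789) (.leaf 2427960456672287773950762)) (.node (.leaf 1215585096478816276644651) (.leaf 1215603543222894281229100)))) (.node (.node (.node (.leaf 1215621989404035217294125) (.leaf 3560223296866828944174)) (.node (.leaf 2427831329182305420641071) (.leaf 1215677330199219184468784))) (.node (.node (.leaf 1215695776380334350730033) (.leaf 3634009710228893860658)) (.node (.leaf 2427480841890399388894007) (.leaf 5165090595307622826808))))))))) (.node (.node (.node (.node (.node (.node (.node (.node (.leaf 2427517735660017489675062) (.leaf 1236024088350636090655546)) (.node (.leaf 2427554628866711406445371) (.leaf 5238877290131778962233))) (.node (.node (.leaf 2427591522354867415810868) (.leaf 2427609968817470443488053)) (.node (.leaf 2427628415843010539881267) (.leaf 2324292009077373797412)))) (.node (.node (.node (.leaf 1246096010897460324926501) (.leaf 2428679880537786508182563)) (.node (.leaf 1245966883688965832442910) (.leaf 2398079266851483354143))) (.node (.node (.leaf 2416526010929487741981) (.leaf 1246022223921199846196257)) (.node (.leaf 2428772113976701554000930) (.leaf 2428790561002254535099424))))) (.node (.node (.node (.node (.leaf 1231061914756701595108392) (.leaf 2428901241183035624326182)) (.node (.leaf 2428864347976354592064551) (.leaf 4039839205776235365419))) (.node (.node (.leaf 2428956581133794661368873) (.leaf 4076731849494429500458)) (.node (.leaf 4095178875060295107630) (.leaf 4113626463563229824044)))) (.node (.node (.node (.leaf 2428809006899734302884909) (.leaf 1237223126996923667317810)) (.node (.leaf 5663152685332144522291) (.leaf 5681599429410148910132))) (.node (.node (.leaf 5700045610538200269877) (.leaf 5718492917566158275638)) (.node (.leaf 5736939098694209242167) (.leaf 1237167787046203284980783)))))) (.node (.node (.node (.node (.node (.leaf 2428532305458240331449392) (.leaf 2428550752765268289258545)) (.node (.leaf 332043363879383138538) (.leaf 2429509983454386807374059))) (.node (.node (.leaf 368936852022507405548) (.leaf 387383033124788764909)) (.node (.leaf 2429565323968057143132398) (.leaf 424276521267913031919)))) (.node (.node (.node (.leaf 1248715447989210450821360) (.leaf 2429620662792916273332465)) (.node (.leaf 479616753501926785266) (.leaf 2431446891867518277321310))) (.node (.node (.leaf 1243052298125457151885919) (.leaf 2431428445404928134349408)) (.node (.leaf 1243089192176563114476129) (.leaf 1567975502218480386658))))) (.node (.node (.node (.node (.leaf 1586422246296484774499) (.leaf 2431391551353847941562971)) (.node (.leaf 1242996958174736769548892) (.leaf 1641761352630591095389))) (.node (.node (.leaf 1237942550577829172806251) (.leaf 1237960997321894292488812)) (.node (.leaf 3191289260002330804842) (.leaf 1237831869831924823294565)))) (.node (.node (.node (.leaf 2431539125585735028048486) (.leaf 3246628929286390547044)) (.node (.leaf 3265075673377280229992) (.leaf 3283523261867330044521))) (.node (.node (.leaf 3301969442995381011047) (.leaf 4814601895146151543407)) (.node (.leaf 4833048920699132838509) (.leaf 2431188637449403972387438))))))) (.node (.node (.node (.node (.node (.node (.leaf 2431262424707190967239282) (.leaf 2431280871169793995113072)) (.node (.leaf 2431243977963112962851441) (.leaf 1231836677727585142702709))) (.node (.node (.leaf 1231855124471663147287155) (.leaf 4962176410707256148596)) (.node (.leaf 2432369228508185076761436) (.leaf 2432387675815200149668698)))) (.node (.node (.node (.leaf 2432350782327057025598299) (.leaf 2432424569303369043936095)) (.node (.leaf 2432443015484484210000733) (.leaf 2432406121996341085930334))) (.node (.node (.leaf 2432313888838939671135065) (.leaf 2432332335583004790621015)) (.node (.leaf 2139824568439046210392) (.leaf 3652457298817805124454))))) (.node (.node (.node (.node (.leaf 2432572142972306180342631) (.leaf 3689351349910882616168)) (.node (.leaf 1237352254485926768870240) (.leaf 3726244275129822675809))) (.node (.node (.leaf 3744691582144895779682) (.leaf 3763137763285832041315)) (.node (.leaf 2432516803303060774716260) (.leaf 3800031251428956111717)))) (.node (.node (.node (.leaf 5312663985054700536682) (.leaf 5331111292082658542443)) (.node (.leaf 1230656086388243919668073) (.leaf 1230508511872708584276845))) (.node (.node (.leaf 5386451524316671705966) (.leaf 5404897986919699579756)) (.node (.leaf 5423345012472680874864) (.leaf 2432258548887106853667697)))))) (.node (.node (.node (.node (.node (.leaf 2432276995349709881541487) (.leaf 1239953245402510258209879)) (.node (.leaf 2433310012737457889477720) (.leaf 2433328459762997985870934))) (.node (.node (.leaf 2545652938086420317274) (.leaf 2433365352688216925930587)) (.node (.leaf 2433383798869332092191833) (.leaf 2600993451795410781268)))) (.node (.node (.node (.leaf 2619439632923461747797) (.leaf 2637886376988581430355)) (.node (.leaf 4150519107367339295844) (.leaf 2433549820689722116473954))) (.node (.node (.leaf 1235544472722308361028707) (.leaf 1235618260543032424596574)) (.node (.leaf 2433605161203431106937948) (.leaf 2433568267433813005960285))))) (.node (.node (.node (.node (.leaf 4261200134785319634017) (.leaf 1235526026541206079669343)) (.node (.leaf 2433457586969383633159264) (.leaf 1215732669869701540676709))) (.node (.node (.leaf 1215751117176716613780582) (.leaf 5847619563235174450279)) (.node (.leaf 5866066307326063936616) (.leaf 5884513614341137040489)))) (.node (.node (.node (.leaf 1215824903590078678697066) (.leaf 1215843349771219614762091)) (.node (.leaf 5939853846575150793836) (.leaf 2433199332553429666563181))) (.node (.node (.leaf 1236485256105433970900992) (.leaf 6991317974522848018433)) (.node (.leaf 7009764718600852602882) (.leaf 2418663297939058432999427)))))))) (.node (.node (.node (.node (.node (.node (.node (.leaf 7046658206718207066116) (.leaf 7065104387846258229253)) (.node (.leaf 2418552617474629060788230) (.leaf 2418515723986485936717831))) (.node (.node (.leaf 7120444620080271982600) (.leaf 1214902565824697374867843)) (.node (.leaf 1214921013131712447971716) (.leaf 2419806996075678502617477)))) (.node (.node (.node (.leaf 1214957906619842687336838) (.leaf 2419677869148607447826823)) (.node (.leaf 9223373729960970224008) (.leaf 1215013246852076701090185))) (.node (.node (.leaf 2419733209099366484869514) (.leaf 9278713399245030556043)) (.node (.leaf 1245468821878543684010403) (.leaf 10145711494427551072673))))) (.node (.node (.node (.node (.leaf 10164157675555602039202) (.leaf 2419936123563496301396390)) (.node (.leaf 10201052289611518247332) (.leaf 10219498470739569213861))) (.node (.node (.leaf 1245579502061536734806432) (.leaf 1245597949087076831199646)) (.node (.leaf 10274838984448559677855) (.leaf 11123389212912922919360)))) (.node (.node (.node (.leaf 11141835956978042405313) (.leaf 11160281856631116857791)) (.node (.leaf 1240561987674570050699706) (.leaf 11197175626262102737339))) (.node (.node (.leaf 2419640975940882829279673) (.leaf 11234069677342295720381)) (.node (.leaf 11252516139932438495678) (.leaf 2419530295476414802362812)))))) (.node (.node (.node (.node (.node (.leaf 2421430309835558385484423) (.leaf 2421393416347415261217413)) (.node (.leaf 2421411862528543312380550) (.leaf 2421485648941853837099649))) (.node (.node (.leaf 1234493008875294544233087) (.leaf 2421467203323688624259712)) (.node (.leaf 2421374969603324371731076) (.leaf 2421338075833706270753410)))) (.node (.node (.node (.leaf 2421356522859259252048515) (.leaf 10311731628063682658971)) (.node (.leaf 2421614776992634412794524) (.leaf 1247848451582499938501274))) (.node (.node (.leaf 1247922238558799071937182) (.leaf 10385518604375700800159)) (.node (.leaf 10348625679182530151069) (.leaf 10422412655481662997153))))) (.node (.node (.node (.node (.leaf 10440859962509620806306) (.leaf 2421577883504517058331296)) (.node (.leaf 1243771721424771716547256) (.leaf 2421172054854485608956601))) (.node (.node (.leaf 1243753274680706596864698) (.leaf 2421264289137812699808443)) (.node (.leaf 2421227395649669575541436) (.leaf 2421245842112272603415229)))) (.node (.node (.node (.leaf 11418536555043549479605) (.leaf 2421282735881864934589110)) (.node (.leaf 2421301182625942939173559) (.leaf 9500075735478721184639))) (.node (.node (.leaf 9463181402910666982272) (.leaf 9481627865500809757566)) (.node (.leaf 2423090516520734441145218) (.leaf 2423053623314066293785475))))))) (.node (.node (.node (.node (.node (.node (.leaf 9536968942121098937217) (.leaf 9610755918433116685180)) (.node (.leaf 2423108964109250260370301) (.leaf 1232500761078331103642491))) (.node (.node (.leaf 2423256537215233215890332) (.leaf 1247368836236622143161245)) (.node (.leaf 10477751761815768007582) (.leaf 1247405729724778152330134)))) (.node (.node (.node (.leaf 10514646094409592406935) (.leaf 2423293431266339178480536)) (.node (.leaf 1247295048697398826107801) (.leaf 2423164303213419756061594))) (.node (.node (.leaf 2423182750520434828968859) (.leaf 2422979835773747794478003)) (.node (.leaf 2422942942004129693696945) (.leaf 2422961389874094720025522))))) (.node (.node (.node (.node (.leaf 2422869156153743351808950) (.leaf 11510770838435059598260)) (.node (.leaf 2422850709409665347224501) (.leaf 1242203748460011440571321))) (.node (.node (.leaf 11566110507680465224631) (.leaf 1242185301434458459276216)) (.node (.leaf 8633076793762557722687) (.leaf 8651525226690422571072)))) (.node (.node (.node (.leaf 1234861944038389742174273) (.leaf 2435044006962046229741634)) (.node (.leaf 1234898837526507096637507) (.leaf 1234917283707635147800644))) (.node (.node (.leaf 1234935731014663105806405) (.leaf 1234954177758741110390854)) (.node (.leaf 1234972623939869161553991) (.leaf 9629202660402322735198)))))) (.node (.node (.node (.node (.node (.leaf 9647649404480327319647) (.leaf 9666096430033308418141)) (.node (.leaf 1240986263350150173425761) (.leaf 1241004709531278224588898))) (.node (.node (.leaf 2435246920863238891044960) (.leaf 9739883124870349652059)) (.node (.leaf 9758329587473377525852) (.leaf 9776776613026358624346)))) (.node (.node (.node (.leaf 2434933325933584608264317) (.leaf 2434896433008391437418619)) (.node (.leaf 2434914880033944418713724) (.leaf 10680666229286952829047))) (.node (.node (.leaf 10699113536314910638197) (.leaf 10717560561867891933302)) (.node (.leaf 10736007587382218129530) (.leaf 2434841092494682446954616))))) (.node (.node (.node (.node (.leaf 1244970759789674510811257) (.leaf 1229844427957548086067668)) (.node (.leaf 1229862875827513112592853) (.leaf 7175785696850860835286))) (.node (.node (.leaf 7194232440903095615959) (.leaf 1229918216622658425061848)) (.node (.leaf 1229936663366736429646297) (.leaf 7249572110187155947994)))) (.node (.node (.node (.leaf 2436519746484013081362907) (.leaf 7286465598330280215004)) (.node (.leaf 2437571210896124342764244) (.leaf 7710740993410393375445))) (.node (.node (.leaf 1233127949528465225548499) (.leaf 7747634763041378861783)) (.node (.leaf 7766080944169429828312) (.leaf 1233017269908460782879446)))))))))) (.node (.node (.node (.node (.node (.node (.node (.node (.node (.leaf 2437515870382454007005905) (.leaf 1233054162833666838627026)) (.node (.leaf 7673847786768015622864) (.leaf 2438585781820234205955028))) (.node (.node (.leaf 2438548888332091081884626) (.leaf 2438567334794681224659923)) (.node (.leaf 2438475101637279810454478) (.leaf 8153462851248145761228)))) (.node (.node (.node (.leaf 1234105627527377623253965) (.leaf 1234013393806987600331729)) (.node (.leaf 2438493548381332044841935) (.leaf 1233994947062909595747280))) (.node (.node (.leaf 8799098616364538003617) (.leaf 2425783741437112786747551)) (.node (.leaf 2425802188181190791332000) (.leaf 2425654614510041732153499))))) (.node (.node (.node (.node (.leaf 8872886155587854860441) (.leaf 8891332618190882734234)) (.node (.leaf 2425709954179325791895710) (.leaf 8928226106346891313308))) (.node (.node (.leaf 2425746847667481800867997) (.leaf 2425820634360115506184372)) (.node (.leaf 9813669819707383480501) (.leaf 9832117408210318196918)))) (.node (.node (.node (.leaf 9850563589338368966839) (.leaf 1238809546986545434853560)) (.node (.leaf 9887457358969354649785) (.leaf 1238901781269872526295226))) (.node (.node (.leaf 1238864887500254425317563) (.leaf 1238883334525807406612668)) (.node (.leaf 10791347538179869180115) (.leaf 2425562380225658041598164)))))) (.node (.node (.node (.node (.node (.leaf 2425580827251211022893266) (.leaf 10846687770413882933462)) (.node (.leaf 2425617720176417078640855) (.leaf 10883581540044868616405))) (.node (.node (.leaf 2425488593812295976878288) (.leaf 10920474746687245779153)) (.node (.leaf 2425525487018977009139919) (.leaf 1247700877628381253206544)))) (.node (.node (.node (.leaf 1247663984140238128939537) (.leaf 2427296374447295807422994)) (.node (.leaf 2427148800494671771533834) (.leaf 7378699881751923589643))) (.node (.node (.leaf 1247737771397986469282316) (.leaf 7415593651382909075981)) (.node (.leaf 2427222587470983789085198) (.leaf 2427241034496536770380303))))) (.node (.node (.node (.node (.leaf 7858314946116080567047) (.leaf 1246262031872012390499080)) (.node (.leaf 7895208434259204637446) (.leaf 2428163370855715708142346))) (.node (.node (.leaf 7932102203903075025675) (.leaf 7950548947968194511625)) (.node (.leaf 2428218711369424698606349) (.leaf 2428237157832027726480142)))) (.node (.node (.node (.leaf 2428200264906821670732556) (.leaf 1244528038210610202805255)) (.node (.leaf 1244546484954675322487813) (.leaf 2429270175781651906888710))) (.node (.node (.leaf 8301037085428800095242) (.leaf 2429141049136094483710984)) (.node (.leaf 1244564930572866305131529) (.leaf 2429233282856445851141124))))))) (.node (.node (.node (.node (.node (.node (.leaf 2429196388805339888747522) (.leaf 2429214836112367846556675)) (.node (.leaf 8965119313066591191287) (.leaf 2430395426892628888649976))) (.node (.node (.leaf 2430358533967435717804278) (.leaf 2430432320662221219234042)) (.node (.leaf 2430450767687774200529147) (.leaf 2430413874199631076262137)))) (.node (.node (.node (.leaf 2430321639916316870312180) (.leaf 2430340087223344828317941)) (.node (.leaf 1247497963447470277722355) (.leaf 2430598340512294957089046))) (.node (.node (.leaf 1232150271250062126022932) (.leaf 2430579894612654767538453)) (.node (.leaf 10016584286040385388816) (.leaf 1232039592474482613485838))))) (.node (.node (.node (.node (.leaf 10053477774196394361103) (.leaf 1232076485962638622654739)) (.node (.leaf 2430561448431552486179089) (.leaf 10108817443480454693138))) (.node (.node (.leaf 10957367671931971109161) (.leaf 2430174066807074052505898)) (.node (.leaf 2430137172755980974817579) (.leaf 2430210959732280108253484)))) (.node (.node (.node (.leaf 2430229406757833089548589) (.leaf 11049601955271947256110)) (.node (.leaf 1237665849136554221895983) (.leaf 2430284747271503424717104))) (.node (.node (.leaf 1237647402111014125502769) (.leaf 1243919294530441087353411)) (.node (.leaf 7489379501915266220612) (.leaf 1243900848630788012900933)))))) (.node (.node (.node (.node (.node (.leaf 2431797379719891846890054) (.leaf 7544720860010531521095)) (.node (.leaf 7563167322600674296392) (.leaf 7581613503741610558016))) (.node (.node (.leaf 2431871167259153818649153) (.leaf 2431889614284693914845762)) (.node (.leaf 2432922631389790078698307) (.leaf 2432941077570905244762948)))) (.node (.node (.node (.leaf 1240100819632980024230722) (.leaf 2432811950643885729186621)) (.node (.leaf 2432830397669425825383230) (.leaf 2432793504181282701312828))) (.node (.node (.leaf 7968995129229368099648) (.leaf 2432885737338709885715265)) (.node (.leaf 2432848844413516715066175) (.leaf 1241392090592287035229242))))) (.node (.node (.node (.node (.leaf 1241355197667093864383544) (.leaf 1241373644411171868967993)) (.node (.leaf 1241447431387471002403901) (.leaf 2433789628642789538464827))) (.node (.node (.leaf 8503951270355558073404) (.leaf 2433881861518703091057728)) (.node (.leaf 8540844758472911946814) (.leaf 1241318304741887808635967)))) (.node (.node (.node (.leaf 2418773978403913027616777) (.leaf 2418737084352819950125066)) (.node (.leaf 2418755531659847908130827) (.leaf 11676790969601577189388))) (.node (.node (.leaf 2418792424022065355751437) (.leaf 2418810871892043267178510)) (.node (.leaf 2418718638171679014453263) (.leaf 2418681744683535890382864)))))))) (.node (.node (.node (.node (.node (.node (.node (.leaf 11769023564091693269009) (.leaf 13816613286034555928974)) (.node (.leaf 1248088259539419926299020) (.leaf 13798166823431528055181))) (.node (.node (.leaf 13871954081218522513809) (.leaf 2420175931238864010936719)) (.node (.leaf 2420194378264404107133328) (.leaf 13927293750463928140180)))) (.node (.node (.node (.leaf 13890400262320804069778) (.leaf 13908847569335876977043)) (.node (.leaf 14812737463863044538795) (.leaf 1234419221334224391242156))) (.node (.node (.leaf 2420360398958902781411754) (.leaf 1234456115666766675837358)) (.node (.leaf 2420397292165558044262831) (.leaf 2420415738909623163748781))))) (.node (.node (.node (.node (.leaf 2420489525604460204786088) (.leaf 2420452632679267034137001)) (.node (.leaf 2420471078860382200201639) (.leaf 1239215375920341065531848))) (.node (.node (.leaf 1239233822664419070116297) (.leaf 1239196928894788084236746)) (.node (.leaf 1239270715589625125863874) (.leaf 2420120591005547634753987)))) (.node (.node (.node (.leaf 1239252268845547121279428) (.leaf 2420046803747786409312709)) (.node (.leaf 15882648902699818942918) (.leaf 15901095646764938428871))) (.node (.node (.leaf 2421928371081351284458127) (.leaf 2421891478437620205421200)) (.node (.leaf 13982634827045552784014) (.leaf 14001080726711512334985)))))) (.node (.node (.node (.node (.node (.leaf 2421946818106904265753226) (.leaf 2421965265695407200469640)) (.node (.leaf 1245431928392715547116172) (.leaf 14074867702971990868621))) (.node (.node (.leaf 2421854585230939173552779) (.leaf 1215068587082300670149283)) (.node (.leaf 1215087033826365789831844) (.leaf 1215105480570443794416293)))) (.node (.node (.node (.leaf 2422039052106565839487654) (.leaf 2422002158336934853804711)) (.node (.leaf 1215160820802639153463976) (.leaf 1215179268109679996371625))) (.node (.node (.leaf 1215197714853745116054186) (.leaf 15089438343403448631979)) (.node (.leaf 15937989416292831462083) (.leaf 1235360005845904197747393))))) (.node (.node (.node (.node (.leaf 15974882622960978821826) (.leaf 1235396899615548068528838)) (.node (.leaf 2421725458021349429347012) (.leaf 16030222292245039153861))) (.node (.node (.leaf 2421817691460264475361984) (.leaf 16067116624825978651326)) (.node (.leaf 2421799244716186470777535) (.leaf 2423533238660219014873991)))) (.node (.node (.node (.leaf 1246557179781259078402952) (.leaf 2423514791916153895191433)) (.node (.leaf 2423588578329503074616202) (.leaf 2423551684841359950349195))) (.node (.node (.leaf 2423570132148387908354956) (.leaf 2423643919124648387085188)) (.node (.leaf 2423607025917980239528837) (.leaf 14222442218558869341062))))))) (.node (.node (.node (.node (.node (.node (.leaf 1230490065409426951570343) (.leaf 2423717705535858615976869)) (.node (.leaf 2423736152842886573982630) (.leaf 2423809939819147052123041))) (.node (.node (.leaf 2423773045768053974434719) (.leaf 2423791493075081932440480)) (.node (.leaf 2423699258791767726490532) (.leaf 2423662365866574555644834)))) (.node (.node (.node (.leaf 15218565833437395878819) (.leaf 16122456575585020019643)) (.node (.leaf 16140903319663024407484) (.leaf 16104009268569946915770))) (.node (.node (.leaf 16177796807819033772990) (.leaf 2423330324474330138084287)) (.node (.leaf 16159350063753914090429) (.leaf 16233137321528023647169))))) (.node (.node (.node (.node (.leaf 16251583784131051324354) (.leaf 16214690295987927253952)) (.node (.leaf 1243531913471768738922568) (.leaf 13300104452009327132745))) (.node (.node (.leaf 13318551196087331520586) (.leaf 13336998221640313012299)) (.node (.leaf 13355444965718317596748) (.leaf 2435505175001205333950541)))) (.node (.node (.node (.leaf 13392338735310648180814) (.leaf 2435597409565968746807375)) (.node (.leaf 13429231941991680442448) (.leaf 2435689643002719114756199))) (.node (.node (.leaf 2435708089746797119340648) (.leaf 1239418289541188305616998)) (.node (.leaf 2435744982671964519792746) (.leaf 2435763429416042524377195)))))) (.node (.node (.node (.node (.node (.leaf 2435726535364949446688873) (.leaf 2435634303051960077713508)) (.node (.leaf 1239399843360047369551973) (.leaf 2435615855463470027898979))) (.node (.node (.leaf 1233958053859368184381574) (.leaf 1233976500603446188966020)) (.node (.leaf 2435394495098604894290053) (.leaf 1233847373394938811580544)))) (.node (.node (.node (.leaf 15347693324583697907838) (.leaf 1233828926087923738476671)) (.node (.leaf 1233902713064222871912579) (.leaf 1233921159808300876497025))) (.node (.node (.leaf 2435339154866409535242370) (.leaf 1247202815538648791581151)) (.node (.leaf 2436722660669214789534173) (.leaf 1247184368794583671898590))))) (.node (.node (.node (.node (.leaf 1247258155207932851913186) (.leaf 1247221262845689634488800)) (.node (.leaf 11824364640866618114529) (.leaf 11842812229330897732069))) (.node (.node (.leaf 2436667320436980775780835) (.leaf 1247129029125299611566564)) (.node (.leaf 12285533524102727467740) (.leaf 2437737231593208683889373)))) (.node (.node (.node (.leaf 2437755678337273803375326) (.leaf 2437608104384662651798239)) (.node (.leaf 12359320500376090510048) (.leaf 1246612519728199889519329))) (.node (.node (.leaf 2437663444335421688840921) (.leaf 12414661295560057684698)) (.node (.leaf 12433108039625177170651) (.leaf 1244933866017539558999004))))))))) (.node (.node (.node (.node (.node (.node (.node (.node (.leaf 2438751802517266997576669) (.leaf 2438714907903223966663643)) (.node (.leaf 2438622675308772505289686) (.leaf 2438641122052837624775639))) (.node (.node (.leaf 2438604228564694500705237) (.leaf 2438678015541006519043033)) (.node (.leaf 2438696462285071638528986) (.leaf 2438659568233978561037272)))) (.node (.node (.node (.leaf 13447678967583291343018) (.leaf 2426263357346198204711080)) (.node (.leaf 13484572455739300315305) (.leaf 2426189569525487026634916))) (.node (.node (.leaf 2426152676318818879078562) (.leaf 13539912125023360647331)) (.node (.leaf 2426244910602107315224743) (.leaf 1236319236538978343387301))))) (.node (.node (.node (.node (.leaf 1236337683001581371261094) (.leaf 2426355590501460736475325)) (.node (.leaf 1239492076236042527113406) (.leaf 1239510523543070485119167))) (.node (.node (.leaf 1239528970287109834997952) (.leaf 1239547415905287932739777)) (.node (.leaf 14536036584288230899906) (.leaf 14554482765416282063043)))) (.node (.node (.node (.leaf 2426429377196272008495300) (.leaf 1239621202881599951077573)) (.node (.leaf 2426078889622886649430236) (.leaf 1244435803367378289754333))) (.node (.node (.leaf 15476820533129766961371) (.leaf 15495267277207771152607)) (.node (.leaf 15513713458335822315744) (.leaf 15532159639463873282270)))))) (.node (.node (.node (.node (.node (.leaf 1244362017235529856254169) (.leaf 15569054253519789490394)) (.node (.leaf 2426005102083676217278680) (.leaf 2427462395144328502772251))) (.node (.node (.leaf 12082619339476551598617) (.leaf 1231393956149070590509594)) (.node (.leaf 2427351714961374107271701) (.leaf 2427314820628806053069331)))) (.node (.node (.node (.leaf 2427333267091396195844628) (.leaf 2427407055193569465729560)) (.node (.leaf 12027279670192491266582) (.leaf 1231338615916836576756247))) (.node (.node (.leaf 1231504636613457013637903) (.leaf 12470000683476461355792)) (.node (.leaf 1231541529538650184483601) (.leaf 2428310945090158266614546))))) (.node (.node (.node (.node (.leaf 2428329390989798456165139) (.leaf 12543787659749824987924)) (.node (.leaf 1231615316514936433017621) (.leaf 1231633763259001552700182))) (.node (.node (.leaf 1231652210003079557284631) (.leaf 1233478437384923307508751)) (.node (.leaf 13023403568654888010768) (.leaf 2429417749734619501167630)))) (.node (.node (.node (.leaf 13060297619760850207762) (.leaf 13078743800888901174291)) (.node (.leaf 13097189982016952337425) (.leaf 1233423098278627855303692))) (.node (.node (.leaf 12968063336459528963085) (.leaf 12986510080537533547531)) (.node (.leaf 2430856595776161293336832) (.leaf 2430875042801714274435329))))))) (.node (.node (.node (.node (.node (.node (.leaf 2430893489545792279019775) (.leaf 1230988127501736393572611)) (.node (.leaf 1230951233732118292594948) (.leaf 2430948829215076339351810))) (.node (.node (.leaf 13724380128714684760317) (.leaf 2430819702569480260681982)) (.node (.leaf 2430838149313558265266428) (.leaf 1246372712901470480892191)))) (.node (.node (.node (.leaf 1246335818850377403203869) (.leaf 2431114850754000046588190)) (.node (.leaf 14665164074309263622425) (.leaf 2430985723263979038376215))) (.node (.node (.leaf 1246409605826650766835992) (.leaf 1246317371261861583585564)) (.node (.leaf 1246280478618143389450522) (.leaf 14757398076174262468891))))) (.node (.node (.node (.node (.leaf 15605947741675787518258) (.leaf 15624395048703745327411)) (.node (.leaf 15642841511306773201204) (.leaf 2430690575359890588696885))) (.node (.node (.leaf 15679734155037851648310) (.leaf 2430727468848046597669175)) (.node (.leaf 1241226070461562899333432) (.leaf 1241189177536369728487737)))) (.node (.node (.node (.leaf 2430782809361755588133178) (.leaf 1235894961984655267856974)) (.node (.leaf 1235913408447245410828876) (.leaf 12267087061800308769357))) (.node (.node (.leaf 2432000294468069189288529) (.leaf 1235968748960954401292879)) (.node (.leaf 1235931855191336300315216) (.leaf 1235839621189471300682315)))))) (.node (.node (.node (.node (.node (.leaf 12193299804013313917513) (.leaf 2432037187393236589740618)) (.node (.leaf 2433070205061308501590859) (.leaf 2433088651523911529268044))) (.node (.node (.leaf 12654469250238044504909) (.leaf 12672915994277394580293)) (.node (.leaf 1239086248146362588922694) (.leaf 12709809200958426841927)))) (.node (.node (.node (.leaf 12728255382086477611848) (.leaf 12746701281739551867721)) (.node (.leaf 1238994014144536243995466) (.leaf 1237610508901979450967106))) (.node (.node (.leaf 2434103223010932682916931) (.leaf 1237592062157901446382657)) (.node (.leaf 2433974095802425305531461) (.leaf 2433992542546503310115910))))) (.node (.node (.node (.node (.leaf 2433955648495397347525700) (.leaf 2434029436034659319284808)) (.node (.leaf 1237573615413862096503881) (.leaf 2434010989290581314700359))) (.node (.node (.leaf 2418441937010972823388178) (.leaf 2418405043522829699317779)) (.node (.leaf 16306923169573648597012) (.leaf 2418497276117268275593237)))) (.node (.node (.node (.leaf 2418460383755025058365462) (.leaf 1248198939718895398879255)) (.node (.leaf 16380710145847012229144) (.leaf 2418349702727645732732953))) (.node (.node (.leaf 1248254279951129412632602) (.leaf 1242554235473092564418966)) (.node (.leaf 18465193074303363252631) (.leaf 1242535789291977398157717)))))))) (.node (.node (.node (.node (.node (.node (.node (.leaf 1242609576549751508304281) (.leaf 2419179806777623447601562)) (.node (.leaf 1242591130087161365332376) (.leaf 2419272040779475561742748))) (.node (.node (.leaf 2419235147572807414186397) (.leaf 18538978924728359256475)) (.node (.leaf 19442870789528858198451) (.leaf 2419345827753597132014004)))) (.node (.node (.node (.leaf 1238440612386937061245365) (.leaf 1238348378666572808126902)) (.node (.leaf 19516657484365899039159) (.leaf 2419419614729909149761976))) (.node (.node (.leaf 2419493400580269721649584) (.leaf 2419456508218026504225201)) (.node (.leaf 19535104509893110727090) (.leaf 2419106019518779854422483))))) (.node (.node (.node (.node (.leaf 1232279399585933994099153) (.leaf 1232297846611486975394258)) (.node (.leaf 2419161359750975212880333) (.leaf 1232168719684415920013771))) (.node (.node (.leaf 2419142913851335023329740) (.leaf 2419050679849495794090448)) (.node (.leaf 2419013785235452762980814) (.leaf 20531227846543691219407)))) (.node (.node (.node (.leaf 1242037727764855587537559) (.leaf 1242056174508933592122008)) (.node (.leaf 2420913801001932630917785) (.leaf 1242093067997089601290897))) (.node (.node (.leaf 1242111514178217652454034) (.leaf 18668107259045447271059)) (.node (.leaf 18741894235357465019028) (.leaf 1242000833150838326231701)))))) (.node (.node (.node (.node (.node (.leaf 2420858460206787318448790) (.leaf 1236946426116884977877678)) (.node (.leaf 2421116714903125252637356) (.leaf 19608891486114929312429))) (.node (.node (.leaf 2421042928489788957328049) (.leaf 2421006035001645833257647)) (.node (.leaf 19664231155398989054640) (.leaf 2421098268159034362954420)))) (.node (.node (.node (.leaf 19701125206479182037682) (.leaf 1236872638577623006118579)) (.node (.leaf 1230250257737748626801355) (.leaf 1230268705044776584807116))) (.node (.node (.leaf 2420692440353466489176778) (.leaf 2420766227329739852808910)) (.node (.leaf 1230324044714021990433487) (.leaf 20660355899385797018317))))) (.node (.node (.node (.node (.leaf 20734142594222838055624) (.leaf 20697249106079713985225)) (.node (.leaf 20715695568669856760519) (.leaf 1240156159869380156261266))) (.node (.node (.leaf 2422500221555260253930384) (.leaf 1240137712280877221544849)) (.node (.leaf 1240211499538664216593301) (.leaf 2422555561506019290973075)))) (.node (.node (.node (.leaf 1240193053076061188719508) (.leaf 2422647794381984383566735)) (.node (.leaf 2422610901456778328015757) (.leaf 2422629347919381355692942))) (.node (.node (.leaf 1235193985148450537210799) (.leaf 19774911619867010270128)) (.node (.leaf 1235175538967322486047662) (.leaf 19811805108035904537513))))))) (.node (.node (.node (.node (.node (.node (.leaf 2422776921869802055730090) (.leaf 2422795369176830013735848)) (.node (.leaf 19867145621706240295852) (.leaf 2422666241123859052102573))) (.node (.node (.leaf 2422684688149412033397675) (.leaf 1215234607780316971402179)) (.node (.leaf 20771036082417448715204) (.leaf 20789482826495453299653)))) (.node (.node (.node (.leaf 20807929007597734659014) (.leaf 1215308395319527403553735)) (.node (.leaf 1215326842063605408138184) (.leaf 1215345287118846437360585))) (.node (.node (.leaf 1215363734988811463885770) (.leaf 20900163290924826100683)) (.node (.leaf 17930236933250208825425) (.leaf 17948684240278166634578))))) (.node (.node (.node (.node (.leaf 2434490604921782409625683) (.leaf 1246981454895259342274644)) (.node (.leaf 1246944560844166264586325) (.leaf 2434545945154016422789206))) (.node (.node (.leaf 2434564391335144474148951) (.leaf 2434582838360697455247448)) (.node (.leaf 1247018347820478282924121) (.leaf 18926361955503625207920)))) (.node (.node (.node (.leaf 2434693518260012159991921) (.leaf 2434711966129990071418991)) (.node (.leaf 2434730412874068076200051) (.leaf 2434748858492246173745268))) (.node (.node (.leaf 19018595112943694512242) (.leaf 2434619731846650095272045)) (.node (.leaf 19055488601061048385646) (.leaf 2434656624771856150823020)))))) (.node (.node (.node (.node (.node (.leaf 2434398371200348678586511) (.leaf 1238200804433633435910285)) (.node (.leaf 19959379061785232670862) (.leaf 2434287690735880651669641))) (.node (.node (.leaf 2434306136917008702636167) (.leaf 1238274591409906799542408)) (.node (.leaf 2434343030405164711411852) (.leaf 1238145464482874398867594)))) (.node (.node (.node (.leaf 20070059526214604882059) (.leaf 16491391173346580103655)) (.node (.leaf 2436427513327363334013416) (.leaf 2436390618150357464580582))) (.node (.node (.leaf 2436298385274431026495978) (.leaf 2436316832299984007791083)) (.node (.leaf 2436279939093302975332841) (.leaf 16436051504101174477293))))) (.node (.node (.node (.node (.leaf 16454497685229225640430) (.leaf 2436335279607011965796844)) (.node (.leaf 1240709561625020833923815) (.leaf 17063240802512800580325))) (.node (.node (.leaf 17081686702165874836198) (.leaf 16934113594018308686570)) (.node (.leaf 16952560338083428369128) (.leaf 2437294510017296862085865)))) (.node (.node (.node (.leaf 16989453263263713723108) (.leaf 17007900288803810116322)) (.node (.leaf 2437349850249492220543715) (.leaf 2438382867073255159301092))) (.node (.node (.leaf 1241853260320588028249061) (.leaf 1241871706783191056122854)) (.node (.leaf 17487515634758917686238) (.leaf 17505962378836922074079)))))))))))) (.node (.node (.node (.node (.node (.node (.node (.node (.node (.node (.node (.leaf 2438309080941368071488480) (.leaf 17542855866992930849761)) (.node (.leaf 1241797919806879037785058) (.leaf 2438364421173602084652003))) (.node (.node (.leaf 1231301722714106914209971) (.leaf 1231320169176709942083761)) (.node (.leaf 2425267232884966232424626) (.leaf 1231191041686727587987629)))) (.node (.node (.node (.leaf 1231209488430805592572075) (.leaf 2425156552139061882912940)) (.node (.leaf 18206938094420220313776) (.leaf 1231264828663039606325422))) (.node (.node (.leaf 1231227935174896482058415) (.leaf 2425341018733200847012038)) (.node (.leaf 19110829396283716993223) (.leaf 2425322572552085680750792))))) (.node (.node (.node (.node (.leaf 2425396360091334767608009) (.leaf 19166168502617823903946)) (.node (.leaf 1245893096992805940887755) (.leaf 19203062835160107909324))) (.node (.node (.leaf 19221509579238112493773) (.leaf 2425433252735040076251342)) (.node (.leaf 2425064318699090312691941) (.leaf 2425082765161693340565734)))) (.node (.node (.node (.leaf 2425045871673550216298724) (.leaf 20143846502526635344104)) (.node (.leaf 2425138104830938745602281) (.leaf 2425101211342795621335271))) (.node (.node (.leaf 2425008978185381322227938) (.leaf 1241724132551737742590179)) (.node (.leaf 2424990530315416295702753) (.leaf 16657412433080153276963)))))) (.node (.node (.node (.node (.node (.leaf 2427130352625471208423972) (.leaf 1236282343047506619466274)) (.node (.leaf 1236190108764205297828381) (.leaf 2427019673286941742465566))) (.node (.node (.leaf 2426982779235848664973852) (.leaf 2427056566775110636732960)) (.node (.leaf 2427075012956225802797601) (.leaf 1236227003096786237129247)))) (.node (.node (.node (.leaf 17210814473743456731930) (.leaf 1238532846105909744960280)) (.node (.leaf 17247708243374442414873) (.leaf 2428015796903907689104157))) (.node (.node (.leaf 1238588186056668782002971) (.leaf 2427997350722792522842908)) (.node (.leaf 2428071137699053000983328) (.leaf 1238477505592200754496286))))) (.node (.node (.node (.node (.leaf 1238495952336278759080735) (.leaf 17598196099347190252567)) (.node (.leaf 2429104155367253748941848) (.leaf 17635089868965291033625))) (.node (.node (.leaf 17653535768592595289114) (.leaf 2428993475184260698145819)) (.node (.leaf 2429011921083900887499804) (.leaf 2429030368672416707314708)))) (.node (.node (.node (.leaf 2429048814853544758477845) (.leaf 1238034784297428921746454)) (.node (.leaf 2429897365647497410642185) (.leaf 18280725633682207998218))) (.node (.node (.leaf 18299172377760212386056) (.leaf 1235673600778152656371980)) (.node (.leaf 18336065302966267740429) (.leaf 2429934258572716350701835))))))) (.node (.node (.node (.node (.node (.node (.leaf 1235728940728911693414662) (.leaf 18391406379625211625735)) (.node (.leaf 18409852279278285881605) (.leaf 2430118726292755183960360))) (.node (.node (.leaf 19276850092985735708966) (.leaf 1239713438009613965656359)) (.node (.leaf 2430008046109800788459810) (.leaf 1239750331216294998114592)))) (.node (.node (.node (.leaf 1239768777960373002699041) (.leaf 2430063386060521170207013)) (.node (.leaf 1239639650751826970607907) (.leaf 2430044939034981073813796))) (.node (.node (.leaf 2429676003873131433558331) (.leaf 2429639110666463286198588)) (.node (.leaf 1244159102488048269918525) (.leaf 1244177548669137666375998))))) (.node (.node (.node (.node (.leaf 1244195996539115577803071) (.leaf 20346760405909717451072)) (.node (.leaf 1244232889464321633550657) (.leaf 1244251336208399638135106))) (.node (.node (.leaf 20402100638143731204419) (.leaf 2431760486795463134216790)) (.node (.leaf 16841879029503968215639) (.leaf 2431742039488448061112917)))) (.node (.node (.node (.leaf 2431649806049558784705113) (.leaf 16897219261737981379162)) (.node (.leaf 2431631359586968641733208) (.leaf 16768092616180558201427))) (.node (.node (.leaf 16786539360258562589268) (.leaf 16804985541386613752402)) (.node (.leaf 1231744444005425593254742) (.leaf 17395281633130105406292)))))) (.node (.node (.node (.node (.node (.leaf 2432756610975379028706133) (.leaf 2432664376692077707658064)) (.node (.leaf 2432627483203934583587662) (.leaf 1231781337775056579134287))) (.node (.node (.leaf 2432719717205748042826579) (.leaf 1231707550798744560796497)) (.node (.leaf 1231670657310588551627602) (.leaf 17764216233180864316490)))) (.node (.node (.node (.leaf 1233183290324697164743755) (.leaf 1233201737068775169328204)) (.node (.leaf 1233220183249877450687565) (.leaf 17838003772391296468046))) (.node (.node (.leaf 1233257076738020574954575) (.leaf 17874896134660283696208)) (.node (.leaf 1233293969663226630702161) (.leaf 17911790185753361384530))))) (.node (.node (.node (.node (.leaf 0) (.leaf 0)) (.node (.leaf 0) (.leaf 0))) (.node (.node (.leaf 0) (.leaf 0)) (.node (.leaf 0) (.leaf 0)))) (.node (.node (.node (.leaf 0) (.leaf 0)) (.node (.leaf 0) (.leaf 0))) (.node (.node (.leaf 0) (.leaf 0)) (.node (.leaf 0) (.leaf 0)))))))) (.node (.node (.node (.node (.node (.node (.node (.leaf 0) (.leaf 0)) (.node (.leaf 0) (.leaf 0))) (.node (.node (.leaf 0) (.leaf 0)) (.node (.leaf 0) (.leaf 0)))) (.node (.node (.node (.leaf 0) (.leaf 0)) (.node (.leaf 0) (.leaf 0))) (.node (.node (.leaf 0) (.leaf 0)) (.node (.leaf 0) (.leaf 0))))) (.node (.node (.node (.node (.leaf 0) (.leaf 0)) (.node (.leaf 0) (.leaf 0))) (.node (.node (.leaf 0) (.leaf 0)) (.node (.leaf 0) (.leaf 0)))) (.node (.node (.node (.leaf 0) (.leaf 0)) (.node (.leaf 0) (.leaf 0))) (.node (.node (.leaf 0) (.leaf 0)) (.node (.leaf 0) (.leaf 0)))))) (.node (.node (.node (.node (.node (.leaf 0) (.leaf 0)) (.node (.leaf 0) (.leaf 0))) (.node (.node (.leaf 0) (.leaf 0)) (.node (.leaf 0) (.leaf 0)))) (.node (.node (.node (.leaf 0) (.leaf 0)) (.node (.leaf 0) (.leaf 0))) (.node (.node (.leaf 0) (.leaf 0)) (.node (.leaf 0) (.leaf 0))))) (.node (.node (.node (.node (.leaf 0) (.leaf 0)) (.node (.leaf 0) (.leaf 0))) (.node (.node (.leaf 0) (.leaf 0)) (.node (.leaf 0) (.leaf 0)))) (.node (.node (.node (.leaf 0) (.leaf 0)) (.node (.leaf 0) (.leaf 0))) (.node (.node (.leaf 0) (.leaf 0)) (.node (.leaf 0) (.leaf 0))))))) (.node (.node (.node (.node (.node (.node (.leaf 0) (.leaf 0)) (.node (.leaf 0) (.leaf 0))) (.node (.node (.leaf 0) (.leaf 0)) (.node (.leaf 0) (.leaf 0)))) (.node (.node (.node (.leaf 0) (.leaf 0)) (.node (.leaf 0) (.leaf 0))) (.node (.node (.leaf 0) (.leaf 0)) (.node (.leaf 0) (.leaf 0))))) (.node (.node (.node (.node (.leaf 0) (.leaf 0)) (.node (.leaf 0) (.leaf 0))) (.node (.node (.leaf 0) (.leaf 0)) (.node (.leaf 0) (.leaf 0)))) (.node (.node (.node (.leaf 0) (.leaf 0)) (.node (.leaf 0) (.leaf 0))) (.node (.node (.leaf 0) (.leaf 0)) (.node (.leaf 0) (.leaf 0)))))) (.node (.node (.node (.node (.node (.leaf 0) (.leaf 0)) (.node (.leaf 0) (.leaf 0))) (.node (.node (.leaf 0) (.leaf 0)) (.node (.leaf 0) (.leaf 0)))) (.node (.node (.node (.leaf 0) (.leaf 0)) (.node (.leaf 0) (.leaf 0))) (.node (.node (.leaf 0) (.leaf 0)) (.node (.leaf 0) (.leaf 0))))) (.node (.node (.node (.node (.leaf 0) (.leaf 0)) (.node (.leaf 0) (.leaf 0))) (.node (.node (.leaf 0) (.leaf 0)) (.node (.leaf 0) (.leaf 0)))) (.node (.node (.node (.leaf 0) (.leaf 0)) (.node (.leaf 0) (.leaf 0))) (.node (.node (.leaf 0) (.leaf 0)) (.node (.leaf 0) (.leaf 0))))))))) (.node (.node (.node (.node (.node (.node (.node (.node (.leaf 0) (.leaf 0)) (.node (.leaf 0) (.leaf 0))) (.node (.node (.leaf 0) (.leaf 0)) (.node (.leaf 0) (.leaf 0)))) (.node (.node (.node (.leaf 0) (.leaf 0)) (.node (.leaf 0) (.leaf 0))) (.node (.node (.leaf 0) (.leaf 0)) (.node (.leaf 0) (.leaf 0))))) (.node (.node (.node (.node (.leaf 0) (.leaf 0)) (.node (.leaf 0) (.leaf 0))) (.node (.node (.leaf 0) (.leaf 0)) (.node (.leaf 0) (.leaf 0)))) (.node (.node (.node (.leaf 0) (.leaf 0)) (.node (.leaf 0) (.leaf 0))) (.node (.node (.leaf 0) (.leaf 0)) (.node (.leaf 0) (.leaf 0)))))) (.node (.node (.node (.node (.node (.leaf 0) (.leaf 0)) (.node (.leaf 0) (.leaf 0))) (.node (.node (.leaf 0) (.leaf 0)) (.node (.leaf 0) (.leaf 0)))) (.node (.node (.node (.leaf 0) (.leaf 0)) (.node (.leaf 0) (.leaf 0))) (.node (.node (.leaf 0) (.leaf 0)) (.node (.leaf 0) (.leaf 0))))) (.node (.node (.node (.node (.leaf 0) (.leaf 0)) (.node (.leaf 0) (.leaf 0))) (.node (.node (.leaf 0) (.leaf 0)) (.node (.leaf 0) (.leaf 0)))) (.node (.node (.node (.leaf 0) (.leaf 0)) (.node (.leaf 0) (.leaf 0))) (.node (.node (.leaf 0) (.leaf 0)) (.node (.leaf 0) (.leaf 0))))))) (.node (.node (.node (.node (.node (.node (.leaf 0) (.leaf 0)) (.node (.leaf 0) (.leaf 0))) (.node (.node (.leaf 0) (.leaf 0)) (.node (.leaf 0) (.leaf 0)))) (.node (.node (.node (.leaf 0) (.leaf 0)) (.node (.leaf 0) (.leaf 0))) (.node (.node (.leaf 0) (.leaf 0)) (.node (.leaf 0) (.leaf 0))))) (.node (.node (.node (.node (.leaf 0) (.leaf 0)) (.node (.leaf 0) (.leaf 0))) (.node (.node (.leaf 0) (.leaf 0)) (.node (.leaf 0) (.leaf 0)))) (.node (.node (.node (.leaf 0) (.leaf 0)) (.node (.leaf 0) (.leaf 0))) (.node (.node (.leaf 0) (.leaf 0)) (.node (.leaf 0) (.leaf 0)))))) (.node (.node (.node (.node (.node (.leaf 0) (.leaf 0)) (.node (.leaf 0) (.leaf 0))) (.node (.node (.leaf 0) (.leaf 0)) (.node (.leaf 0) (.leaf 0)))) (.node (.node (.node (.leaf 0) (.leaf 0)) (.node (.leaf 0) (.leaf 0))) (.node (.node (.leaf 0) (.leaf 0)) (.node (.leaf 0) (.leaf 0))))) (.node (.node (.node (.node (.leaf 0) (.leaf 0)) (.node (.leaf 0) (.leaf 0))) (.node (.node (.leaf 0) (.leaf 0)) (.node (.leaf 0) (.leaf 0)))) (.node (.node (.node (.leaf 0) (.leaf 0)) (.node (.leaf 0) (.leaf 0))) (.node (.node (.leaf 0) (.leaf 0)) (.node (.leaf 0) (.leaf 0)))))))) (.node (.node (.node (.node (.node (.node (.node (.leaf 0) (.leaf 0)) (.node (.leaf 0) (.leaf 0))) (.node (.node (.leaf 0) (.leaf 0)) (.node (.leaf 0) (.leaf 0)))) (.node (.node (.node (.leaf 0) (.leaf 0)) (.node (.leaf 0) (.leaf 0))) (.node (.node (.leaf 0) (.leaf 0)) (.node (.leaf 0) (.leaf 0))))) (.node (.node (.node (.node (.leaf 0) (.leaf 0)) (.node (.leaf 0) (.leaf 0))) (.node (.node (.leaf 0) (.leaf 0)) (.node (.leaf 0) (.leaf 0)))) (.node (.node (.node (.leaf 0) (.leaf 0)) (.node (.leaf 0) (.leaf 0))) (.node (.node (.leaf 0) (.leaf 0)) (.node (.leaf 0) (.leaf 0)))))) (.node (.node (.node (.node (.node (.leaf 0) (.leaf 0)) (.node (.leaf 0) (.leaf 0))) (.node (.node (.leaf 0) (.leaf 0)) (.node (.leaf 0) (.leaf 0)))) (.node (.node (.node (.leaf 0) (.leaf 0)) (.node (.leaf 0) (.leaf 0))) (.node (.node (.leaf 0) (.leaf 0)) (.node (.leaf 0) (.leaf 0))))) (.node (.node (.node (.node (.leaf 0) (.leaf 0)) (.node (.leaf 0) (.leaf 0))) (.node (.node (.leaf 0) (.leaf 0)) (.node (.leaf 0) (.leaf 0)))) (.node (.node (.node (.leaf 0) (.leaf 0)) (.node (.leaf 0) (.leaf 0))) (.node (.node (.leaf 0) (.leaf 0)) (.node (.leaf 0) (.leaf 0))))))) (.node (.node (.node (.node (.node (.node (.leaf 0) (.leaf 0)) (.node (.leaf 0) (.leaf 0))) (.node (.node (.leaf 0) (.leaf 0)) (.node (.leaf 0) (.leaf 0)))) (.node (.node (.node (.leaf 0) (.leaf 0)) (.node (.leaf 0) (.leaf 0))) (.node (.node (.leaf 0) (.leaf 0)) (.node (.leaf 0) (.leaf 0))))) (.node (.node (.node (.node (.leaf 0) (.leaf 0)) (.node (.leaf 0) (.leaf 0))) (.node (.node (.leaf 0) (.leaf 0)) (.node (.leaf 0) (.leaf 0)))) (.node (.node (.node (.leaf 0) (.leaf 0)) (.node (.leaf 0) (.leaf 0))) (.node (.node (.leaf 0) (.leaf 0)) (.node (.leaf 0) (.leaf 0)))))) (.node (.node (.node (.node (.node (.leaf 0) (.leaf 0)) (.node (.leaf 0) (.leaf 0))) (.node (.node (.leaf 0) (.leaf 0)) (.node (.leaf 0) (.leaf 0)))) (.node (.node (.node (.leaf 0) (.leaf 0)) (.node (.leaf 0) (.leaf 0))) (.node (.node (.leaf 0) (.leaf 0)) (.node (.leaf 0) (.leaf 0))))) (.node (.node (.node (.node (.leaf 0) (.leaf 0)) (.node (.leaf 0) (.leaf 0))) (.node (.node (.leaf 0) (.leaf 0)) (.node (.leaf 0) (.leaf 0)))) (.node (.node (.node (.leaf 0) (.leaf 0)) (.node (.leaf 0) (.leaf 0))) (.node (.node (.leaf 0) (.leaf 0)) (.node (.leaf 0) (.leaf 0)))))))))) (.node (.node (.node (.node (.node (.node (.node (.node (.node (.leaf 0) (.leaf 0)) (.node (.leaf 0) (.leaf 0))) (.node (.node (.leaf 0) (.leaf 0)) (.node (.leaf 0) (.leaf 0)))) (.node (.node (.node (.leaf 0) (.leaf 0)) (.node (.leaf 0) (.leaf 0))) (.node (.node (.leaf 0) (.leaf 0)) (.node (.leaf 0) (.leaf 0))))) (.node (.node (.node (.node (.leaf 0) (.leaf 0)) (.node (.leaf 0) (.leaf 0))) (.node (.node (.leaf 0) (.leaf 0)) (.node (.leaf 0) (.leaf 0)))) (.node (.node (.node (.leaf 0) (.leaf 0)) (.node (.leaf 0) (.leaf 0))) (.node (.node (.leaf 0) (.leaf 0)) (.node (.leaf 0) (.leaf 0)))))) (.node (.node (.node (.node (.node (.leaf 0) (.leaf 0)) (.node (.leaf 0) (.leaf 0))) (.node (.node (.leaf 0) (.leaf 0)) (.node (.leaf 0) (.leaf 0)))) (.node (.node (.node (.leaf 0) (.leaf 0)) (.node (.leaf 0) (.leaf 0))) (.node (.node (.leaf 0) (.leaf 0)) (.node (.leaf 0) (.leaf 0))))) (.node (.node (.node (.node (.leaf 0) (.leaf 0)) (.node (.leaf 0) (.leaf 0))) (.node (.node (.leaf 0) (.leaf 0)) (.node (.leaf 0) (.leaf 0)))) (.node (.node (.node (.leaf 0) (.leaf 0)) (.node (.leaf 0) (.leaf 0))) (.node (.node (.leaf 0) (.leaf 0)) (.node (.leaf 0) (.leaf 0))))))) (.node (.node (.node (.node (.node (.node (.leaf 0) (.leaf 0)) (.node (.leaf 0) (.leaf 0))) (.node (.node (.leaf 0) (.leaf 0)) (.node (.leaf 0) (.leaf 0)))) (.node (.node (.node (.leaf 0) (.leaf 0)) (.node (.leaf 0) (.leaf 0))) (.node (.node (.leaf 0) (.leaf 0)) (.node (.leaf 0) (.leaf 0))))) (.node (.node (.node (.node (.leaf 0) (.leaf 0)) (.node (.leaf 0) (.leaf 0))) (.node (.node (.leaf 0) (.leaf 0)) (.node (.leaf 0) (.leaf 0)))) (.node (.node (.node (.leaf 0) (.leaf 0)) (.node (.leaf 0) (.leaf 0))) (.node (.node (.leaf 0) (.leaf 0)) (.node (.leaf 0) (.leaf 0)))))) (.node (.node (.node (.node (.node (.leaf 0) (.leaf 0)) (.node (.leaf 0) (.leaf 0))) (.node (.node (.leaf 0) (.leaf 0)) (.node (.leaf 0) (.leaf 0)))) (.node (.node (.node (.leaf 0) (.leaf 0)) (.node (.leaf 0) (.leaf 0))) (.node (.node (.leaf 0) (.leaf 0)) (.node (.leaf 0) (.leaf 0))))) (.node (.node (.node (.node (.leaf 0) (.leaf 0)) (.node (.leaf 0) (.leaf 0))) (.node (.node (.leaf 0) (.leaf 0)) (.node (.leaf 0) (.leaf 0)))) (.node (.node (.node (.leaf 0) (.leaf 0)) (.node (.leaf 0) (.leaf 0))) (.node (.node (.leaf 0) (.leaf 0)) (.node (.leaf 0) (.leaf 0)))))))) (.node (.node (.node (.node (.node (.node (.node (.leaf 0) (.leaf 0)) (.node (.leaf 0) (.leaf 0))) (.node (.node (.leaf 0) (.leaf 0)) (.node (.leaf 0) (.leaf 0)))) (.node (.node (.node (.leaf 0) (.leaf 0)) (.node (.leaf 0) (.leaf 0))) (.node (.node (.leaf 0) (.leaf 0)) (.node (.leaf 0) (.leaf 0))))) (.node (.node (.node (.node (.leaf 0) (.leaf 0)) (.node (.leaf 0) (.leaf 0))) (.node (.node (.leaf 0) (.leaf 0)) (.node (.leaf 0) (.leaf 0)))) (.node (.node (.node (.leaf 0) (.leaf 0)) (.node (.leaf 0) (.leaf 0))) (.node (.node (.leaf 0) (.leaf 0)) (.node (.leaf 0) (.leaf 0)))))) (.node (.node (.node (.node (.node (.leaf 0) (.leaf 0)) (.node (.leaf 0) (.leaf 0))) (.node (.node (.leaf 0) (.leaf 0)) (.node (.leaf 0) (.leaf 0)))) (.node (.node (.node (.leaf 0) (.leaf 0)) (.node (.leaf 0) (.leaf 0))) (.node (.node (.leaf 0) (.leaf 0)) (.node (.leaf 0) (.leaf 0))))) (.node (.node (.node (.node (.leaf 0) (.leaf 0)) (.node (.leaf 0) (.leaf 0))) (.node (.node (.leaf 0) (.leaf 0)) (.node (.leaf 0) (.leaf 0)))) (.node (.node (.node (.leaf 0) (.leaf 0)) (.node (.leaf 0) (.leaf 0))) (.node (.node (.leaf 0) (.leaf 0)) (.node (.leaf 0) (.leaf 0))))))) (.node (.node (.node (.node (.node (.node (.leaf 0) (.leaf 0)) (.node (.leaf 0) (.leaf 0))) (.node (.node (.leaf 0) (.leaf 0)) (.node (.leaf 0) (.leaf 0)))) (.node (.node (.node (.leaf 0) (.leaf 0)) (.node (.leaf 0) (.leaf 0))) (.node (.node (.leaf 0) (.leaf 0)) (.node (.leaf 0) (.leaf 0))))) (.node (.node (.node (.node (.leaf 0) (.leaf 0)) (.node (.leaf 0) (.leaf 0))) (.node (.node (.leaf 0) (.leaf 0)) (.node (.leaf 0) (.leaf 0)))) (.node (.node (.node (.leaf 0) (.leaf 0)) (.node (.leaf 0) (.leaf 0))) (.node (.node (.leaf 0) (.leaf 0)) (.node (.leaf 0) (.leaf 0)))))) (.node (.node (.node (.node (.node (.leaf 0) (.leaf 0)) (.node (.leaf 0) (.leaf 0))) (.node (.node (.leaf 0) (.leaf 0)) (.node (.leaf 0) (.leaf 0)))) (.node (.node (.node (.leaf 0) (.leaf 0)) (.node (.leaf 0) (.leaf 0))) (.node (.node (.leaf 0) (.leaf 0)) (.node (.leaf 0) (.leaf 0))))) (.node (.node (.node (.node (.leaf 0) (.leaf 0)) (.node (.leaf 0) (.leaf 0))) (.node (.node (.leaf 0) (.leaf 0)) (.node (.leaf 0) (.leaf 0)))) (.node (.node (.node (.leaf 0) (.leaf 0)) (.node (.leaf 0) (.leaf 0))) (.node (.node (.leaf 0) (.leaf 0)) (.node (.leaf 0) (.leaf 0))))))))) (.node (.node (.node (.node (.node (.node (.node (.node (.leaf 0) (.leaf 0)) (.node (.leaf 0) (.leaf 0))) (.node (.node (.leaf 0) (.leaf 0)) (.node (.leaf 0) (.leaf 0)))) (.node (.node (.node (.leaf 0) (.leaf 0)) (.node (.leaf 0) (.leaf 0))) (.node (.node (.leaf 0) (.leaf 0)) (.node (.leaf 0) (.leaf 0))))) (.node (.node (.node (.node (.leaf 0) (.leaf 0)) (.node (.leaf 0) (.leaf 0))) (.node (.node (.leaf 0) (.leaf 0)) (.node (.leaf 0) (.leaf 0)))) (.node (.node (.node (.leaf 0) (.leaf 0)) (.node (.leaf 0) (.leaf 0))) (.node (.node (.leaf 0) (.leaf 0)) (.node (.leaf 0) (.leaf 0)))))) (.node (.node (.node (.node (.node (.leaf 0) (.leaf 0)) (.node (.leaf 0) (.leaf 0))) (.node (.node (.leaf 0) (.leaf 0)) (.node (.leaf 0) (.leaf 0)))) (.node (.node (.node (.leaf 0) (.leaf 0)) (.node (.leaf 0) (.leaf 0))) (.node (.node (.leaf 0) (.leaf 0)) (.node (.leaf 0) (.leaf 0))))) (.node (.node (.node (.node (.leaf 0) (.leaf 0)) (.node (.leaf 0) (.leaf 0))) (.node (.node (.leaf 0) (.leaf 0)) (.node (.leaf 0) (.leaf 0)))) (.node (.node (.node (.leaf 0) (.leaf 0)) (.node (.leaf 0) (.leaf 0))) (.node (.node (.leaf 0) (.leaf 0)) (.node (.leaf 0) (.leaf 0))))))) (.node (.node (.node (.node (.node (.node (.leaf 0) (.leaf 0)) (.node (.leaf 0) (.leaf 0))) (.node (.node (.leaf 0) (.leaf 0)) (.node (.leaf 0) (.leaf 0)))) (.node (.node (.node (.leaf 0) (.leaf 0)) (.node (.leaf 0) (.leaf 0))) (.node (.node (.leaf 0) (.leaf 0)) (.node (.leaf 0) (.leaf 0))))) (.node (.node (.node (.node (.leaf 0) (.leaf 0)) (.node (.leaf 0) (.leaf 0))) (.node (.node (.leaf 0) (.leaf 0)) (.node (.leaf 0) (.leaf 0)))) (.node (.node (.node (.leaf 0) (.leaf 0)) (.node (.leaf 0) (.leaf 0))) (.node (.node (.leaf 0) (.leaf 0)) (.node (.leaf 0) (.leaf 0)))))) (.node (.node (.node (.node (.node (.leaf 0) (.leaf 0)) (.node (.leaf 0) (.leaf 0))) (.node (.node (.leaf 0) (.leaf 0)) (.node (.leaf 0) (.leaf 0)))) (.node (.node (.node (.leaf 0) (.leaf 0)) (.node (.leaf 0) (.leaf 0))) (.node (.node (.leaf 0) (.leaf 0)) (.node (.leaf 0) (.leaf 0))))) (.node (.node (.node (.node (.leaf 0) (.leaf 0)) (.node (.leaf 0) (.leaf 0))) (.node (.node (.leaf 0) (.leaf 0)) (.node (.leaf 0) (.leaf 0)))) (.node (.node (.node (.leaf 0) (.leaf 0)) (.node (.leaf 0) (.leaf 0))) (.node (.node (.leaf 0) (.leaf 0)) (.node (.leaf 0) (.leaf 0)))))))) (.node (.node (.node (.node (.node (.node (.node (.leaf 0) (.leaf 0)) (.node (.leaf 0) (.leaf 0))) (.node (.node (.leaf 0) (.leaf 0)) (.node (.leaf 0) (.leaf 0)))) (.node (.node (.node (.leaf 0) (.leaf 0)) (.node (.leaf 0) (.leaf 0))) (.node (.node (.leaf 0) (.leaf 0)) (.node (.leaf 0) (.leaf 0))))) (.node (.node (.node (.node (.leaf 0) (.leaf 0)) (.node (.leaf 0) (.leaf 0))) (.node (.node (.leaf 0) (.leaf 0)) (.node (.leaf 0) (.leaf 0)))) (.node (.node (.node (.leaf 0) (.leaf 0)) (.node (.leaf 0) (.leaf 0))) (.node (.node (.leaf 0) (.leaf 0)) (.node (.leaf 0) (.leaf 0)))))) (.node (.node (.node (.node (.node (.leaf 0) (.leaf 0)) (.node (.leaf 0) (.leaf 0))) (.node (.node (.leaf 0) (.leaf 0)) (.node (.leaf 0) (.leaf 0)))) (.node (.node (.node (.leaf 0) (.leaf 0)) (.node (.leaf 0) (.leaf 0))) (.node (.node (.leaf 0) (.leaf 0)) (.node (.leaf 0) (.leaf 0))))) (.node (.node (.node (.node (.leaf 0) (.leaf 0)) (.node (.leaf 0) (.leaf 0))) (.node (.node (.leaf 0) (.leaf 0)) (.node (.leaf 0) (.leaf 0)))) (.node (.node (.node (.leaf 0) (.leaf 0)) (.node (.leaf 0) (.leaf 0))) (.node (.node (.leaf 0) (.leaf 0)) (.node (.leaf 0) (.leaf 0))))))) (.node (.node (.node (.node (.node (.node (.leaf 0) (.leaf 0)) (.node (.leaf 0) (.leaf 0))) (.node (.node (.leaf 0) (.leaf 0)) (.node (.leaf 0) (.leaf 0)))) (.node (.node (.node (.leaf 0) (.leaf 0)) (.node (.leaf 0) (.leaf 0))) (.node (.node (.leaf 0) (.leaf 0)) (.node (.leaf 0) (.leaf 0))))) (.node (.node (.node (.node (.leaf 0) (.leaf 0)) (.node (.leaf 0) (.leaf 0))) (.node (.node (.leaf 0) (.leaf 0)) (.node (.leaf 0) (.leaf 0)))) (.node (.node (.node (.leaf 0) (.leaf 0)) (.node (.leaf 0) (.leaf 0))) (.node (.node (.leaf 0) (.leaf 0)) (.node (.leaf 0) (.leaf 0)))))) (.node (.node (.node (.node (.node (.leaf 0) (.leaf 0)) (.node (.leaf 0) (.leaf 0))) (.node (.node (.leaf 0) (.leaf 0)) (.node (.leaf 0) (.leaf 0)))) (.node (.node (.node (.leaf 0) (.leaf 0)) (.node (.leaf 0) (.leaf 0))) (.node (.node (.leaf 0) (.leaf 0)) (.node (.leaf 0) (.leaf 0))))) (.node (.node (.node (.node (.leaf 0) (.leaf 0)) (.node (.leaf 0) (.leaf 0))) (.node (.node (.leaf 0) (.leaf 0)) (.node (.leaf 0) (.leaf 0)))) (.node (.node (.node (.leaf 0) (.leaf 0)) (.node (.leaf 0) (.leaf 0))) (.node (.node (.leaf 0) (.leaf 0)) (.node (.leaf 0) (.leaf 0))))))))))) (.node (.node (.node (.node (.node (.node (.node (.node (.node (.node (.leaf 0) (.leaf 0)) (.node (.leaf 0) (.leaf 0))) (.node (.node (.leaf 0) (.leaf 0)) (.node (.leaf 0) (.leaf 0)))) (.node (.node (.node (.leaf 0) (.leaf 0)) (.node (.leaf 0) (.leaf 0))) (.node (.node (.leaf 0) (.leaf 0)) (.node (.leaf 0) (.leaf 0))))) (.node (.node (.node (.node (.leaf 0) (.leaf 0)) (.node (.leaf 0) (.leaf 0))) (.node (.node (.leaf 0) (.leaf 0)) (.node (.leaf 0) (.leaf 0)))) (.node (.node (.node (.leaf 0) (.leaf 0)) (.node (.leaf 0) (.leaf 0))) (.node (.node (.leaf 0) (.leaf 0)) (.node (.leaf 0) (.leaf 0)))))) (.node (.node (.node (.node (.node (.leaf 0) (.leaf 0)) (.node (.leaf 0) (.leaf 0))) (.node (.node (.leaf 0) (.leaf 0)) (.node (.leaf 0) (.leaf 0)))) (.node (.node (.node (.leaf 0) (.leaf 0)) (.node (.leaf 0) (.leaf 0))) (.node (.node (.leaf 0) (.leaf 0)) (.node (.leaf 0) (.leaf 0))))) (.node (.node (.node (.node (.leaf 0) (.leaf 0)) (.node (.leaf 0) (.leaf 0))) (.node (.node (.leaf 0) (.leaf 0)) (.node (.leaf 0) (.leaf 0)))) (.node (.node (.node (.leaf 0) (.leaf 0)) (.node (.leaf 0) (.leaf 0))) (.node (.node (.leaf 0) (.leaf 0)) (.node (.leaf 0) (.leaf 0))))))) (.node (.node (.node (.node (.node (.node (.leaf 0) (.leaf 0)) (.node (.leaf 0) (.leaf 0))) (.node (.node (.leaf 0) (.leaf 0)) (.node (.leaf 0) (.leaf 0)))) (.node (.node (.node (.leaf 0) (.leaf 0)) (.node (.leaf 0) (.leaf 0))) (.node (.node (.leaf 0) (.leaf 0)) (.node (.leaf 0) (.leaf 0))))) (.node (.node (.node (.node (.leaf 0) (.leaf 0)) (.node (.leaf 0) (.leaf 0))) (.node (.node (.leaf 0) (.leaf 0)) (.node (.leaf 0) (.leaf 0)))) (.node (.node (.node (.leaf 0) (.leaf 0)) (.node (.leaf 0) (.leaf 0))) (.node (.node (.leaf 0) (.leaf 0)) (.node (.leaf 0) (.leaf 0)))))) (.node (.node (.node (.node (.node (.leaf 0) (.leaf 0)) (.node (.leaf 0) (.leaf 0))) (.node (.node (.leaf 0) (.leaf 0)) (.node (.leaf 0) (.leaf 0)))) (.node (.node (.node (.leaf 0) (.leaf 0)) (.node (.leaf 0) (.leaf 0))) (.node (.node (.leaf 0) (.leaf 0)) (.node (.leaf 0) (.leaf 0))))) (.node (.node (.node (.node (.leaf 0) (.leaf 0)) (.node (.leaf 0) (.leaf 0))) (.node (.node (.leaf 0) (.leaf 0)) (.node (.leaf 0) (.leaf 0)))) (.node (.node (.node (.leaf 0) (.leaf 0)) (.node (.leaf 0) (.leaf 0))) (.node (.node (.leaf 0) (.leaf 0)) (.node (.leaf 0) (.leaf 0)))))))) (.node (.node (.node (.node (.node (.node (.node (.leaf 0) (.leaf 0)) (.node (.leaf 0) (.leaf 0))) (.node (.node (.leaf 0) (.leaf 0)) (.node (.leaf 0) (.leaf 0)))) (.node (.node (.node (.leaf 0) (.leaf 0)) (.node (.leaf 0) (.leaf 0))) (.node (.node (.leaf 0) (.leaf 0)) (.node (.leaf 0) (.leaf 0))))) (.node (.node (.node (.node (.leaf 0) (.leaf 0)) (.node (.leaf 0) (.leaf 0))) (.node (.node (.leaf 0) (.leaf 0)) (.node (.leaf 0) (.leaf 0)))) (.node (.node (.node (.leaf 0) (.leaf 0)) (.node (.leaf 0) (.leaf 0))) (.node (.node (.leaf 0) (.leaf 0)) (.node (.leaf 0) (.leaf 0)))))) (.node (.node (.node (.node (.node (.leaf 0) (.leaf 0)) (.node (.leaf 0) (.leaf 0))) (.node (.node (.leaf 0) (.leaf 0)) (.node (.leaf 0) (.leaf 0)))) (.node (.node (.node (.leaf 0) (.leaf 0)) (.node (.leaf 0) (.leaf 0))) (.node (.node (.leaf 0) (.leaf 0)) (.node (.leaf 0) (.leaf 0))))) (.node (.node (.node (.node (.leaf 0) (.leaf 0)) (.node (.leaf 0) (.leaf 0))) (.node (.node (.leaf 0) (.leaf 0)) (.node (.leaf 0) (.leaf 0)))) (.node (.node (.node (.leaf 0) (.leaf 0)) (.node (.leaf 0) (.leaf 0))) (.node (.node (.leaf 0) (.leaf 0)) (.node (.leaf 0) (.leaf 0))))))) (.node (.node (.node (.node (.node (.node (.leaf 0) (.leaf 0)) (.node (.leaf 0) (.leaf 0))) (.node (.node (.leaf 0) (.leaf 0)) (.node (.leaf 0) (.leaf 0)))) (.node (.node (.node (.leaf 0) (.leaf 0)) (.node (.leaf 0) (.leaf 0))) (.node (.node (.leaf 0) (.leaf 0)) (.node (.leaf 0) (.leaf 0))))) (.node (.node (.node (.node (.leaf 0) (.leaf 0)) (.node (.leaf 0) (.leaf 0))) (.node (.node (.leaf 0) (.leaf 0)) (.node (.leaf 0) (.leaf 0)))) (.node (.node (.node (.leaf 0) (.leaf 0)) (.node (.leaf 0) (.leaf 0))) (.node (.node (.leaf 0) (.leaf 0)) (.node (.leaf 0) (.leaf 0)))))) (.node (.node (.node (.node (.node (.leaf 0) (.leaf 0)) (.node (.leaf 0) (.leaf 0))) (.node (.node (.leaf 0) (.leaf 0)) (.node (.leaf 0) (.leaf 0)))) (.node (.node (.node (.leaf 0) (.leaf 0)) (.node (.leaf 0) (.leaf 0))) (.node (.node (.leaf 0) (.leaf 0)) (.node (.leaf 0) (.leaf 0))))) (.node (.node (.node (.node (.leaf 0) (.leaf 0)) (.node (.leaf 0) (.leaf 0))) (.node (.node (.leaf 0) (.leaf 0)) (.node (.leaf 0) (.leaf 0)))) (.node (.node (.node (.leaf 0) (.leaf 0)) (.node (.leaf 0) (.leaf 0))) (.node (.node (.leaf 0) (.leaf 0)) (.node (.leaf 0) (.leaf 0))))))))) (.node (.node (.node (.node (.node (.node (.node (.node (.leaf 0) (.leaf 0)) (.node (.leaf 0) (.leaf 0))) (.node (.node (.leaf 0) (.leaf 0)) (.node (.leaf 0) (.leaf 0)))) (.node (.node (.node (.leaf 0) (.leaf 0)) (.node (.leaf 0) (.leaf 0))) (.node (.node (.leaf 0) (.leaf 0)) (.node (.leaf 0) (.leaf 0))))) (.node (.node (.node (.node (.leaf 0) (.leaf 0)) (.node (.leaf 0) (.leaf 0))) (.node (.node (.leaf 0) (.leaf 0)) (.node (.leaf 0) (.leaf 0)))) (.node (.node (.node (.leaf 0) (.leaf 0)) (.node (.leaf 0) (.leaf 0))) (.node (.node (.leaf 0) (.leaf 0)) (.node (.leaf 0) (.leaf 0)))))) (.node (.node (.node (.node (.node (.leaf 0) (.leaf 0)) (.node (.leaf 0) (.leaf 0))) (.node (.node (.leaf 0) (.leaf 0)) (.node (.leaf 0) (.leaf 0)))) (.node (.node (.node (.leaf 0) (.leaf 0)) (.node (.leaf 0) (.leaf 0))) (.node (.node (.leaf 0) (.leaf 0)) (.node (.leaf 0) (.leaf 0))))) (.node (.node (.node (.node (.leaf 0) (.leaf 0)) (.node (.leaf 0) (.leaf 0))) (.node (.node (.leaf 0) (.leaf 0)) (.node (.leaf 0) (.leaf 0)))) (.node (.node (.node (.leaf 0) (.leaf 0)) (.node (.leaf 0) (.leaf 0))) (.node (.node (.leaf 0) (.leaf 0)) (.node (.leaf 0) (.leaf 0))))))) (.node (.node (.node (.node (.node (.node (.leaf 0) (.leaf 0)) (.node (.leaf 0) (.leaf 0))) (.node (.node (.leaf 0) (.leaf 0)) (.node (.leaf 0) (.leaf 0)))) (.node (.node (.node (.leaf 0) (.leaf 0)) (.node (.leaf 0) (.leaf 0))) (.node (.node (.leaf 0) (.leaf 0)) (.node (.leaf 0) (.leaf 0))))) (.node (.node (.node (.node (.leaf 0) (.leaf 0)) (.node (.leaf 0) (.leaf 0))) (.node (.node (.leaf 0) (.leaf 0)) (.node (.leaf 0) (.leaf 0)))) (.node (.node (.node (.leaf 0) (.leaf 0)) (.node (.leaf 0) (.leaf 0))) (.node (.node (.leaf 0) (.leaf 0)) (.node (.leaf 0) (.leaf 0)))))) (.node (.node (.node (.node (.node (.leaf 0) (.leaf 0)) (.node (.leaf 0) (.leaf 0))) (.node (.node (.leaf 0) (.leaf 0)) (.node (.leaf 0) (.leaf 0)))) (.node (.node (.node (.leaf 0) (.leaf 0)) (.node (.leaf 0) (.leaf 0))) (.node (.node (.leaf 0) (.leaf 0)) (.node (.leaf 0) (.leaf 0))))) (.node (.node (.node (.node (.leaf 0) (.leaf 0)) (.node (.leaf 0) (.leaf 0))) (.node (.node (.leaf 0) (.leaf 0)) (.node (.leaf 0) (.leaf 0)))) (.node (.node (.node (.leaf 0) (.leaf 0)) (.node (.leaf 0) (.leaf 0))) (.node (.node (.leaf 0) (.leaf 0)) (.node (.leaf 0) (.leaf 0)))))))) (.node (.node (.node (.node (.node (.node (.node (.leaf 0) (.leaf 0)) (.node (.leaf 0) (.leaf 0))) (.node (.node (.leaf 0) (.leaf 0)) (.node (.leaf 0) (.leaf 0)))) (.node (.node (.node (.leaf 0) (.leaf 0)) (.node (.leaf 0) (.leaf 0))) (.node (.node (.leaf 0) (.leaf 0)) (.node (.leaf 0) (.leaf 0))))) (.node (.node (.node (.node (.leaf 0) (.leaf 0)) (.node (.leaf 0) (.leaf 0))) (.node (.node (.leaf 0) (.leaf 0)) (.node (.leaf 0) (.leaf 0)))) (.node (.node (.node (.leaf 0) (.leaf 0)) (.node (.leaf 0) (.leaf 0))) (.node (.node (.leaf 0) (.leaf 0)) (.node (.leaf 0) (.leaf 0)))))) (.node (.node (.node (.node (.node (.leaf 0) (.leaf 0)) (.node (.leaf 0) (.leaf 0))) (.node (.node (.leaf 0) (.leaf 0)) (.node (.leaf 0) (.leaf 0)))) (.node (.node (.node (.leaf 0) (.leaf 0)) (.node (.leaf 0) (.leaf 0))) (.node (.node (.leaf 0) (.leaf 0)) (.node (.leaf 0) (.leaf 0))))) (.node (.node (.node (.node (.leaf 0) (.leaf 0)) (.node (.leaf 0) (.leaf 0))) (.node (.node (.leaf 0) (.leaf 0)) (.node (.leaf 0) (.leaf 0)))) (.node (.node (.node (.leaf 0) (.leaf 0)) (.node (.leaf 0) (.leaf 0))) (.node (.node (.leaf 0) (.leaf 0)) (.node (.leaf 0) (.leaf 0))))))) (.node (.node (.node (.node (.node (.node (.leaf 0) (.leaf 0)) (.node (.leaf 0) (.leaf 0))) (.node (.node (.leaf 0) (.leaf 0)) (.node (.leaf 0) (.leaf 0)))) (.node (.node (.node (.leaf 0) (.leaf 0)) (.node (.leaf 0) (.leaf 0))) (.node (.node (.leaf 0) (.leaf 0)) (.node (.leaf 0) (.leaf 0))))) (.node (.node (.node (.node (.leaf 0) (.leaf 0)) (.node (.leaf 0) (.leaf 0))) (.node (.node (.leaf 0) (.leaf 0)) (.node (.leaf 0) (.leaf 0)))) (.node (.node (.node (.leaf 0) (.leaf 0)) (.node (.leaf 0) (.leaf 0))) (.node (.node (.leaf 0) (.leaf 0)) (.node (.leaf 0) (.leaf 0)))))) (.node (.node (.node (.node (.node (.leaf 0) (.leaf 0)) (.node (.leaf 0) (.leaf 0))) (.node (.node (.leaf 0) (.leaf 0)) (.node (.leaf 0) (.leaf 0)))) (.node (.node (.node (.leaf 0) (.leaf 0)) (.node (.leaf 0) (.leaf 0))) (.node (.node (.leaf 0) (.leaf 0)) (.node (.leaf 0) (.leaf 0))))) (.node (.node (.node (.node (.leaf 0) (.leaf 0)) (.node (.leaf 0) (.leaf 0))) (.node (.node (.leaf 0) (.leaf 0)) (.node (.leaf 0) (.leaf 0)))) (.node (.node (.node (.leaf 0) (.leaf 0)) (.node (.leaf 0) (.leaf 0))) (.node (.node (.leaf 0) (.leaf 0)) (.node (.leaf 0) (.leaf 0)))))))))) (.node (.node (.node (.node (.node (.node (.node (.node (.node (.leaf 0) (.leaf 0)) (.node (.leaf 0) (.leaf 0))) (.node (.node (.leaf 0) (.leaf 0)) (.node (.leaf 0) (.leaf 0)))) (.node (.node (.node (.leaf 0) (.leaf 0)) (.node (.leaf 0) (.leaf 0))) (.node (.node (.leaf 0) (.leaf 0)) (.node (.leaf 0) (.leaf 0))))) (.node (.node (.node (.node (.leaf 0) (.leaf 0)) (.node (.leaf 0) (.leaf 0))) (.node (.node (.leaf 0) (.leaf 0)) (.node (.leaf 0) (.leaf 0)))) (.node (.node (.node (.leaf 0) (.leaf 0)) (.node (.leaf 0) (.leaf 0))) (.node (.node (.leaf 0) (.leaf 0)) (.node (.leaf 0) (.leaf 0)))))) (.node (.node (.node (.node (.node (.leaf 0) (.leaf 0)) (.node (.leaf 0) (.leaf 0))) (.node (.node (.leaf 0) (.leaf 0)) (.node (.leaf 0) (.leaf 0)))) (.node (.node (.node (.leaf 0) (.leaf 0)) (.node (.leaf 0) (.leaf 0))) (.node (.node (.leaf 0) (.leaf 0)) (.node (.leaf 0) (.leaf 0))))) (.node (.node (.node (.node (.leaf 0) (.leaf 0)) (.node (.leaf 0) (.leaf 0))) (.node (.node (.leaf 0) (.leaf 0)) (.node (.leaf 0) (.leaf 0)))) (.node (.node (.node (.leaf 0) (.leaf 0)) (.node (.leaf 0) (.leaf 0))) (.node (.node (.leaf 0) (.leaf 0)) (.node (.leaf 0) (.leaf 0))))))) (.node (.node (.node (.node (.node (.node (.leaf 0) (.leaf 0)) (.node (.leaf 0) (.leaf 0))) (.node (.node (.leaf 0) (.leaf 0)) (.node (.leaf 0) (.leaf 0)))) (.node (.node (.node (.leaf 0) (.leaf 0)) (.node (.leaf 0) (.leaf 0))) (.node (.node (.leaf 0) (.leaf 0)) (.node (.leaf 0) (.leaf 0))))) (.node (.node (.node (.node (.leaf 0) (.leaf 0)) (.node (.leaf 0) (.leaf 0))) (.node (.node (.leaf 0) (.leaf 0)) (.node (.leaf 0) (.leaf 0)))) (.node (.node (.node (.leaf 0) (.leaf 0)) (.node (.leaf 0) (.leaf 0))) (.node (.node (.leaf 0) (.leaf 0)) (.node (.leaf 0) (.leaf 0)))))) (.node (.node (.node (.node (.node (.leaf 0) (.leaf 0)) (.node (.leaf 0) (.leaf 0))) (.node (.node (.leaf 0) (.leaf 0)) (.node (.leaf 0) (.leaf 0)))) (.node (.node (.node (.leaf 0) (.leaf 0)) (.node (.leaf 0) (.leaf 0))) (.node (.node (.leaf 0) (.leaf 0)) (.node (.leaf 0) (.leaf 0))))) (.node (.node (.node (.node (.leaf 0) (.leaf 0)) (.node (.leaf 0) (.leaf 0))) (.node (.node (.leaf 0) (.leaf 0)) (.node (.leaf 0) (.leaf 0)))) (.node (.node (.node (.leaf 0) (.leaf 0)) (.node (.leaf 0) (.leaf 0))) (.node (.node (.leaf 0) (.leaf 0)) (.node (.leaf 0) (.leaf 0)))))))) (.node (.node (.node (.node (.node (.node (.node (.leaf 0) (.leaf 0)) (.node (.leaf 0) (.leaf 0))) (.node (.node (.leaf 0) (.leaf 0)) (.node (.leaf 0) (.leaf 0)))) (.node (.node (.node (.leaf 0) (.leaf 0)) (.node (.leaf 0) (.leaf 0))) (.node (.node (.leaf 0) (.leaf 0)) (.node (.leaf 0) (.leaf 0))))) (.node (.node (.node (.node (.leaf 0) (.leaf 0)) (.node (.leaf 0) (.leaf 0))) (.node (.node (.leaf 0) (.leaf 0)) (.node (.leaf 0) (.leaf 0)))) (.node (.node (.node (.leaf 0) (.leaf 0)) (.node (.leaf 0) (.leaf 0))) (.node (.node (.leaf 0) (.leaf 0)) (.node (.leaf 0) (.leaf 0)))))) (.node (.node (.node (.node (.node (.leaf 0) (.leaf 0)) (.node (.leaf 0) (.leaf 0))) (.node (.node (.leaf 0) (.leaf 0)) (.node (.leaf 0) (.leaf 0)))) (.node (.node (.node (.leaf 0) (.leaf 0)) (.node (.leaf 0) (.leaf 0))) (.node (.node (.leaf 0) (.leaf 0)) (.node (.leaf 0) (.leaf 0))))) (.node (.node (.node (.node (.leaf 0) (.leaf 0)) (.node (.leaf 0) (.leaf 0))) (.node (.node (.leaf 0) (.leaf 0)) (.node (.leaf 0) (.leaf 0)))) (.node (.node (.node (.leaf 0) (.leaf 0)) (.node (.leaf 0) (.leaf 0))) (.node (.node (.leaf 0) (.leaf 0)) (.node (.leaf 0) (.leaf 0))))))) (.node (.node (.node (.node (.node (.node (.leaf 0) (.leaf 0)) (.node (.leaf 0) (.leaf 0))) (.node (.node (.leaf 0) (.leaf 0)) (.node (.leaf 0) (.leaf 0)))) (.node (.node (.node (.leaf 0) (.leaf 0)) (.node (.leaf 0) (.leaf 0))) (.node (.node (.leaf 0) (.leaf 0)) (.node (.leaf 0) (.leaf 0))))) (.node (.node (.node (.node (.leaf 0) (.leaf 0)) (.node (.leaf 0) (.leaf 0))) (.node (.node (.leaf 0) (.leaf 0)) (.node (.leaf 0) (.leaf 0)))) (.node (.node (.node (.leaf 0) (.leaf 0)) (.node (.leaf 0) (.leaf 0))) (.node (.node (.leaf 0) (.leaf 0)) (.node (.leaf 0) (.leaf 0)))))) (.node (.node (.node (.node (.node (.leaf 0) (.leaf 0)) (.node (.leaf 0) (.leaf 0))) (.node (.node (.leaf 0) (.leaf 0)) (.node (.leaf 0) (.leaf 0)))) (.node (.node (.node (.leaf 0) (.leaf 0)) (.node (.leaf 0) (.leaf 0))) (.node (.node (.leaf 0) (.leaf 0)) (.node (.leaf 0) (.leaf 0))))) (.node (.node (.node (.node (.leaf 0) (.leaf 0)) (.node (.leaf 0) (.leaf 0))) (.node (.node (.leaf 0) (.leaf 0)) (.node (.leaf 0) (.leaf 0)))) (.node (.node (.node (.leaf 0) (.leaf 0)) (.node (.leaf 0) (.leaf 0))) (.node (.node (.leaf 0) (.leaf 0)) (.node (.leaf 0) (.leaf 0))))))))) (.node (.node (.node (.node (.node (.node (.node (.node (.leaf 0) (.leaf 0)) (.node (.leaf 0) (.leaf 0))) (.node (.node (.leaf 0) (.leaf 0)) (.node (.leaf 0) (.leaf 0)))) (.node (.node (.node (.leaf 0) (.leaf 0)) (.node (.leaf 0) (.leaf 0))) (.node (.node (.leaf 0) (.leaf 0)) (.node (.leaf 0) (.leaf 0))))) (.node (.node (.node (.node (.leaf 0) (.leaf 0)) (.node (.leaf 0) (.leaf 0))) (.node (.node (.leaf 0) (.leaf 0)) (.node (.leaf 0) (.leaf 0)))) (.node (.node (.node (.leaf 0) (.leaf 0)) (.node (.leaf 0) (.leaf 0))) (.node (.node (.leaf 0) (.leaf 0)) (.node (.leaf 0) (.leaf 0)))))) (.node (.node (.node (.node (.node (.leaf 0) (.leaf 0)) (.node (.leaf 0) (.leaf 0))) (.node (.node (.leaf 0) (.leaf 0)) (.node (.leaf 0) (.leaf 0)))) (.node (.node (.node (.leaf 0) (.leaf 0)) (.node (.leaf 0) (.leaf 0))) (.node (.node (.leaf 0) (.leaf 0)) (.node (.leaf 0) (.leaf 0))))) (.node (.node (.node (.node (.leaf 0) (.leaf 0)) (.node (.leaf 0) (.leaf 0))) (.node (.node (.leaf 0) (.leaf 0)) (.node (.leaf 0) (.leaf 0)))) (.node (.node (.node (.leaf 0) (.leaf 0)) (.node (.leaf 0) (.leaf 0))) (.node (.node (.leaf 0) (.leaf 0)) (.node (.leaf 0) (.leaf 0))))))) (.node (.node (.node (.node (.node (.node (.leaf 0) (.leaf 0)) (.node (.leaf 0) (.leaf 0))) (.node (.node (.leaf 0) (.leaf 0)) (.node (.leaf 0) (.leaf 0)))) (.node (.node (.node (.leaf 0) (.leaf 0)) (.node (.leaf 0) (.leaf 0))) (.node (.node (.leaf 0) (.leaf 0)) (.node (.leaf 0) (.leaf 0))))) (.node (.node (.node (.node (.leaf 0) (.leaf 0)) (.node (.leaf 0) (.leaf 0))) (.node (.node (.leaf 0) (.leaf 0)) (.node (.leaf 0) (.leaf 0)))) (.node (.node (.node (.leaf 0) (.leaf 0)) (.node (.leaf 0) (.leaf 0))) (.node (.node (.leaf 0) (.leaf 0)) (.node (.leaf 0) (.leaf 0)))))) (.node (.node (.node (.node (.node (.leaf 0) (.leaf 0)) (.node (.leaf 0) (.leaf 0))) (.node (.node (.leaf 0) (.leaf 0)) (.node (.leaf 0) (.leaf 0)))) (.node (.node (.node (.leaf 0) (.leaf 0)) (.node (.leaf 0) (.leaf 0))) (.node (.node (.leaf 0) (.leaf 0)) (.node (.leaf 0) (.leaf 0))))) (.node (.node (.node (.node (.leaf 0) (.leaf 0)) (.node (.leaf 0) (.leaf 0))) (.node (.node (.leaf 0) (.leaf 0)) (.node (.leaf 0) (.leaf 0)))) (.node (.node (.node (.leaf 0) (.leaf 0)) (.node (.leaf 0) (.leaf 0))) (.node (.node (.leaf 0) (.leaf 0)) (.node (.leaf 0) (.leaf 0)))))))) (.node (.node (.node (.node (.node (.node (.node (.leaf 0) (.leaf 0)) (.node (.leaf 0) (.leaf 0))) (.node (.node (.leaf 0) (.leaf 0)) (.node (.leaf 0) (.leaf 0)))) (.node (.node (.node (.leaf 0) (.leaf 0)) (.node (.leaf 0) (.leaf 0))) (.node (.node (.leaf 0) (.leaf 0)) (.node (.leaf 0) (.leaf 0))))) (.node (.node (.node (.node (.leaf 0) (.leaf 0)) (.node (.leaf 0) (.leaf 0))) (.node (.node (.leaf 0) (.leaf 0)) (.node (.leaf 0) (.leaf 0)))) (.node (.node (.node (.leaf 0) (.leaf 0)) (.node (.leaf 0) (.leaf 0))) (.node (.node (.leaf 0) (.leaf 0)) (.node (.leaf 0) (.leaf 0)))))) (.node (.node (.node (.node (.node (.leaf 0) (.leaf 0)) (.node (.leaf 0) (.leaf 0))) (.node (.node (.leaf 0) (.leaf 0)) (.node (.leaf 0) (.leaf 0)))) (.node (.node (.node (.leaf 0) (.leaf 0)) (.node (.leaf 0) (.leaf 0))) (.node (.node (.leaf 0) (.leaf 0)) (.node (.leaf 0) (.leaf 0))))) (.node (.node (.node (.node (.leaf 0) (.leaf 0)) (.node (.leaf 0) (.leaf 0))) (.node (.node (.leaf 0) (.leaf 0)) (.node (.leaf 0) (.leaf 0)))) (.node (.node (.node (.leaf 0) (.leaf 0)) (.node (.leaf 0) (.leaf 0))) (.node (.node (.leaf 0) (.leaf 0)) (.node (.leaf 0) (.leaf 0))))))) (.node (.node (.node (.node (.node (.node (.leaf 0) (.leaf 0)) (.node (.leaf 0) (.leaf 0))) (.node (.node (.leaf 0) (.leaf 0)) (.node (.leaf 0) (.leaf 0)))) (.node (.node (.node (.leaf 0) (.leaf 0)) (.node (.leaf 0) (.leaf 0))) (.node (.node (.leaf 0) (.leaf 0)) (.node (.leaf 0) (.leaf 0))))) (.node (.node (.node (.node (.leaf 0) (.leaf 0)) (.node (.leaf 0) (.leaf 0))) (.node (.node (.leaf 0) (.leaf 0)) (.node (.leaf 0) (.leaf 0)))) (.node (.node (.node (.leaf 0) (.leaf 0)) (.node (.leaf 0) (.leaf 0))) (.node (.node (.leaf 0) (.leaf 0)) (.node (.leaf 0) (.leaf 0)))))) (.node (.node (.node (.node (.node (.leaf 0) (.leaf 0)) (.node (.leaf 0) (.leaf 0))) (.node (.node (.leaf 0) (.leaf 0)) (.node (.leaf 0) (.leaf 0)))) (.node (.node (.node (.leaf 0) (.leaf 0)) (.node (.leaf 0) (.leaf 0))) (.node (.node (.leaf 0) (.leaf 0)) (.node (.leaf 0) (.leaf 0))))) (.node (.node (.node (.node (.leaf 0) (.leaf 0)) (.node (.leaf 0) (.leaf 0))) (.node (.node (.leaf 0) (.leaf 0)) (.node (.leaf 0) (.leaf 0)))) (.node (.node (.node (.leaf 0) (.leaf 0)) (.node (.leaf 0) (.leaf 0))) (.node (.node (.leaf 0) (.leaf 0)) (.node (.leaf 0) (.leaf 0))))))))))))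

def ELM : Listed where
  n := 2160
  ng := 3
  gen := fun k => cond (Nat.beq k 0) Eg0E (cond (Nat.beq k 1) Eg1E Eg2E)
  elt := fun i => BT.get EeltT 2048 i
  keyF := keyF
  tab := fun k i => fld (BT.get EtabT 2048 i) k
  i1 := 0
  dep := fun i => fld (BT.get EtabT 2048 i) 3
  par := fun i => fld (BT.get EtabT 2048 i) 4
  pg := fun i => fld (BT.get EtabT 2048 i) 5

def EuT : BT (List ℕ) := .node (.node (.node (.node (.node (.node (.node (.leaf [1, 2, 4, 8, 16, 32, 64, 128, 256, 512, 1024, 2048, 4096, 8192, 16384, 32768, 65536, 131072]) (.leaf [83221, 166442, 183109, 216458, 183121, 216482, 81984, 163968, 87101, 174102, 86313, 172606, 5396, 10792, 65661, 131222, 16489, 32958])) (.node (.leaf [12477, 4310, 111292, 185300, 199936, 67072, 228472, 103580, 169260, 256564, 98925, 181174, 46712, 56220, 94084, 177608, 111313, 185186]) (.leaf [84144, 167120, 217200, 106640, 17215, 33045, 48351, 54373, 43672, 65516, 146432, 201728, 79777, 137714, 128897, 154050, 32755, 38225]))) (.node (.node (.leaf [82040, 163996, 219432, 110140, 50949, 18698, 205347,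 78641, 47233, 56514, 211117, 72950, 126007, 160793, 210680, 72540, 208276, 79592]) (.leaf [118616, 148908, 85330, 165539, 210037, 71834, 130086, 152635, 185146, 221471, 39970, 58419, 7231, 9237, 221868, 111604, 253662, 92007])) (.node (.leaf [134782, 198551, 94002, 177427, 178918, 253819, 228472, 103580, 152997, 240378, 228391, 103481, 228005, 106490, 178768, 253856, 200045, 67254]) (.leaf [199491, 68993, 207841, 81266, 114293, 186266, 208248, 79516, 215625, 102286, 161718, 235995, 58825, 31310, 16324, 5448, 121337, 159326])))) (.node (.node (.node (.leaf [227833, 106078, 194014, 219751, 93159, 179577, 37230, 58039, 35894, 50203, 212773, 70970, 4650, 9023, 165151, 248357, 38105, 59502]) (.leaf [5629, 10838, 48702, 55063, 224234, 114047, 259701, 88986, 81507, 137137, 114460, 185636, 95073, 168370, 74911, 145637, 205020, 77924])) (.node (.leaf [46073, 53598, 100589, 183414, 136896, 207680, 177776, 252816, 204177, 75490, 42174, 63703, 155929, 242222, 237249, 124738, 151343, 230709]) (.leaf [23480, 44508, 79507, 138209, 53227, 17789, 151077, 231226,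 140419, 211137, 257411, 95937, 91108, 176504, 174163, 261281, 193326, 217399]))) (.node (.node (.leaf [138635, 206541, 88072, 175116, 172606, 258839, 127433, 152142, 41872, 61920, 2057, 3086, 150923, 231117, 218115, 108545, 217239, 106729]) (.leaf [197402, 65839, 7653, 9850, 45973, 53738, 131648, 197504, 192947, 217809, 131194, 196767, 192956, 217812, 56330, 25615, 18037, 35738])) (.node (.leaf [99226, 180719, 170097, 257170, 74347, 144317, 154504, 241100, 229924, 115512, 66333, 131366, 260445, 89766, 96327, 171145, 116114, 150243]) (.leaf [128887, 154009, 9185, 12658, 194882, 220803, 24987, 45805, 141317, 211978, 155823, 241909, 260827, 89965, 171786, 255247, 185037, 222022]))))) (.node (.node (.node (.node (.leaf [215263, 101477, 193566, 219175, 184700, 221844, 171078, 255115, 250979, 92337, 138744, 206428, 52612, 18120, 222424, 112748, 4146, 8211]) (.leaf [59854, 32327, 204760, 75116, 132482, 199363, 6476, 11908, 248265, 85582, 203441, 77778, 113561, 187886, 190038, 228267, 177770, 252863])) (.node (.leaf [30522, 39199, 120334, 158471,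 76350, 147223, 91168, 178224, 17487, 34949, 5080, 8556, 64883, 22161, 167314, 247523, 156082, 242387]) (.leaf [12190, 13799, 69731, 139441, 69640, 139276, 104112, 191440, 49170, 16419, 209969, 71698, 70193, 140050, 104065, 191426, 198119, 68217]))) (.node (.node (.leaf [76273, 147026, 244349, 122774, 94611, 168673, 49261, 16566, 93815, 178073, 23218, 45011, 210096, 71888, 246110, 82599, 184664, 221868]) (.leaf [69302, 133083, 155034, 239343, 108360, 194956, 12159, 13717, 230069, 115674, 12980, 5080, 89159, 173193, 208038, 79099, 239515, 129517])) (.node (.leaf [22041, 43822, 228530, 103635, 105854, 190103, 162398, 237479, 153739, 240845, 142371, 209969, 11724, 13892, 43388, 65172, 25727, 47253]) (.leaf [45399, 53929, 173057, 260098, 89061, 175482, 28593, 46546, 222993, 112930, 71698, 142371, 198503, 68025, 230359, 115049, 177931, 252173])))) (.node (.node (.node (.leaf [183228, 216532, 76408, 147356, 31274, 40767, 104076, 191428, 168932, 254328, 45011, 62817, 54644, 27288, 8346, 12527, 166912, 246784]) (.leaf [190974, 228951, 7142, 11643,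 90579, 176737, 222451, 112721, 83197, 165974, 8556, 12980, 135019, 198077, 32650, 38351, 10892, 16324])) (.node (.leaf [188204, 222516, 186566, 224331, 186152, 223548, 37042, 57555, 50636, 19012, 257240, 95340, 121093, 159242, 132158, 198679, 209795, 70081]) (.leaf [244495, 122117, 81362, 136803, 261327, 87109, 13759, 6869, 183309, 214022, 119666, 156051, 181961, 215886, 32504, 38748, 90732, 177076]))) (.node (.node (.leaf [197161, 66366, 151442, 230883, 243490, 121139, 220984, 107804, 6467, 11905, 242401, 119666, 16404, 32808, 194597, 220218, 148230, 229643]) (.leaf [196926, 66071, 200619, 67069, 253073, 91362, 58769, 31458, 10974, 16231, 170164, 257240, 122607, 157557, 132052, 196968, 150809, 230958])) (.node (.leaf [222516, 113176, 44626, 63395, 211540, 73640, 115099, 148205, 90129, 176162, 156051, 242401, 69039, 132853, 243102, 121575, 20691, 41057]) (.leaf [47119, 56325, 45424, 53904, 119119, 156293, 65850, 131615, 243336, 121804, 95340, 170164, 118906, 155807, 134465, 198274, 107628, 194740])))))) (.node (.node (.node (.node (.node (.leaf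 [29335, 37865, 68000, 134896, 203558, 77115, 24584, 45068, 123006, 159895, 98573, 180742, 250626, 90371, 137862, 208843, 209757, 70054]) (.leaf [211049, 72894, 247614, 84247, 155255, 239513, 27895, 46169, 124891, 162157, 101658, 181807, 120285, 158310, 45566, 53847, 139693, 209654])) (.node (.leaf [129221, 154698, 86587, 172829, 170220, 257140, 45685, 54170, 89754, 174063, 215861, 101658, 76426, 147407, 20137, 34814, 145844, 204504]) (.leaf [130569, 153358, 93570, 177859, 201010, 74259, 16613, 32890, 178259, 253089, 52064, 19888, 75848, 146572, 178234, 252959, 192009, 227086]))) (.node (.node (.leaf [88685, 176054, 247668, 84376, 71416, 142172, 98135, 169385, 187012, 225224, 180742, 213771, 85531, 165677, 34719, 51685, 8668, 12900]) (.leaf [121318, 159355, 109472, 196080, 219871, 110437, 170126, 257223, 199813, 66762, 34512, 52064, 113603, 187713, 142257, 212434, 32143, 38597])) (.node (.leaf [133501, 200342, 9003, 12605, 19619, 34033, 248521, 85838, 84878, 167367, 204465, 75730, 217376, 107056, 194498, 219459, 201924, 75848]) (.leaf [205471,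 78821, 82810, 164255, 69395, 132385, 192993, 217714, 238092, 127748, 10073, 14766, 198337, 68418, 204023, 74841, 1248, 2160])))) (.node (.node (.node (.leaf [223741, 114262, 169658, 256991, 255927, 96729, 207162, 81439, 165053, 248022, 92128, 178544, 200534, 66987, 128037, 153658, 173904, 260512]) (.leaf [226074, 102703, 9752, 15148, 136062, 205207, 68533, 134618, 78557, 136038, 213108, 98456, 183066, 216367, 189441, 227330, 52674, 17987])) (.node (.leaf [119613, 155926, 190318, 227767, 221053, 107926, 157208, 244524, 224294, 111675, 92371, 179297, 85064, 165004, 115941, 149626, 176641, 250626]) (.leaf [121887, 156709, 255840, 96688, 26492, 47508, 160570, 233759, 259976, 88524, 145300, 203240, 184, 220, 117506, 150787, 154908, 239140]))) (.node (.node (.leaf [186136, 223532, 103195, 188717, 217232, 106720, 218139, 108589, 182019, 215297, 138684, 206548, 102536, 188620, 56764, 26324, 152, 236]) (.leaf [185033, 222030, 224529, 112162, 72900, 140360, 5090, 8563, 33072, 49680, 183283, 216401, 228226, 105923, 24674, 45235, 63113, 23502])) (.node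 (.leaf [45805, 54134, 160700, 233940, 28674, 36867, 183529, 214142, 82622, 164823, 136119, 205273, 67248, 134096, 149198, 232263, 242493, 119062]) (.leaf [28579, 46577, 206667, 80269, 151801, 237662, 158123, 245501, 223867, 114589, 222909, 113622, 7917, 10102, 251329, 92738, 94325, 168090]))))) (.node (.node (.node (.node (.leaf [259547, 88685, 119590, 155963, 10761, 16142, 57749, 29418, 65719, 131289, 126635, 161789, 113930, 185871, 258261, 86122, 184089, 214318]) (.leaf [32718, 38215, 127745, 151810, 61504, 20608, 199723, 66621, 164606, 246615, 234820, 125576, 150946, 231155, 216459, 100045, 209731, 70017])) (.node (.leaf [128063, 153621, 152668, 239780, 100173, 182662, 201481, 73998, 113259, 188349, 57958, 29627, 86551, 172841, 12846, 4919, 166748, 249252]) (.leaf [140375, 211113, 260040, 88396, 1214, 2263, 192838, 217739, 238162, 127907, 7927, 10073, 91940, 178488, 97554, 169507, 69610, 132479]))) (.node (.node (.leaf [225609, 103054, 56199, 28105, 125505, 163714, 175896, 259372, 117164, 151284, 253584, 92128, 192529, 217122, 2914, 3507,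 76932, 144584]) (.leaf [15967, 6053, 71861, 142554, 175161, 259102, 139520, 209408, 198317, 68598, 77436, 145300, 146375, 204105, 258173, 86166, 50275, 18609])) (.node (.leaf [1168, 2272, 208713, 79246, 209020, 69780, 208697, 79134, 4327, 8313, 99303, 180601, 4980, 8600, 103395, 188785, 36868, 57352]) (.leaf [219482, 110255, 155903, 241749, 221521, 111266, 88569, 175710, 59722, 32399, 133363, 199761, 102257, 181650, 211275, 73357, 39602, 61395])))) (.node (.node (.node (.leaf [189383, 225609, 229560, 114908, 203883, 74941, 3366, 1595, 112882, 187475, 234277, 123194, 153657, 240670, 21162, 41983, 121600, 158976]) (.leaf [214309, 100922, 69804, 139508, 191514, 226351, 258047, 95573, 133426, 200211, 178544, 253584, 88799, 175973, 237996, 127732, 223800, 114460])) (.node (.leaf [235222, 125803, 19093, 36842, 151429, 230858, 223302, 113803, 234460, 123236, 239369, 129294, 93165, 179574, 161596, 235796, 53327, 24709]) (.leaf [190907, 229085, 258330, 86575, 235994, 126575, 94382, 168183, 86347, 172685, 179297, 251058, 21737, 43134, 56388, 25736,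 90640, 176928]))) (.node (.node (.leaf [60202, 32063, 237362, 124179, 136429, 206966, 180144, 251344, 89430, 173739, 138810, 206623, 18984, 36668, 164982, 247963, 191899, 227053]) (.leaf [76243, 147041, 170921, 257534, 133448, 200332, 260789, 90074, 42224, 63568, 14766, 7927, 46267, 55517, 44685, 63430, 133615, 200309])) (.node (.leaf [203870, 74919, 94812, 168868, 129170, 154851, 231336, 117244, 173999, 260597, 149697, 232514, 109422, 196023, 90281, 176382, 79499, 138189]) (.leaf [96461, 171078, 189959, 228105, 219441, 110098, 5443, 10881, 82892, 164164, 191729, 226386, 103585, 190706, 20792, 41500, 199738, 66591]))))))) (.node (.node (.node (.node (.node (.node (.leaf [30894, 40183, 175554, 259651, 219871, 110437, 150303, 232741, 95643, 170733, 216401, 100002, 110318, 194423, 177422, 252423, 59503, 31925]) (.leaf [103790, 191159, 217387, 107069, 58708, 31400, 110869, 184874, 256471, 97897, 125576, 163788, 35303, 52857, 100814, 183879, 105321, 191934])) (.node (.leaf [85682, 165843, 31181, 40518, 241566, 128487, 35017, 52302, 222056, 111036,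 92512, 179888, 6283, 11469, 11609, 13998, 176590, 250439]) (.leaf [184503, 221401, 120930, 158899, 6244, 11448, 72927, 140389, 88666, 176047, 91818, 179199, 184220, 214500, 30419, 39777, 148397, 229878]))) (.node (.node (.leaf [42096, 63632, 100815, 183877, 123729, 160162, 166833, 249298, 156664, 242012, 145923, 204545, 139739, 209517, 49695, 17189, 150646, 230555]) (.leaf [512, 768, 77872, 135184, 4115, 8225, 65586, 131091, 52228, 17416, 1096, 2188, 135171, 204801, 17472, 34944, 32908, 49348])) (.node (.leaf [211, 97, 61116, 30676, 160980, 235624, 148224, 229632, 81466, 136991, 137167, 207173, 69296, 133072, 131940, 197048, 144304, 201168]) (.leaf [12390, 4283, 246272, 82688, 203448, 77788, 173068, 260100, 140622, 211591, 121312, 159344, 32516, 38152, 207423, 81685, 231316, 117224])))) (.node (.node (.node (.leaf [3, 1, 92, 164, 4132, 8248, 4228, 8392, 150528, 230400, 198400, 67840, 12368, 4256, 114944, 147968, 19968, 34560]) (.leaf [2, 3, 12512, 4208, 8332, 12484, 228, 120, 229888, 115456, 149504, 232448, 8220, 12324, 18688, 36352, 67328,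 133376])) (.node (.leaf []) (.leaf []))) (.node (.node (.leaf []) (.leaf [])) (.node (.leaf []) (.leaf []))))) (.node (.node (.node (.node (.leaf []) (.leaf [])) (.node (.leaf []) (.leaf []))) (.node (.node (.leaf []) (.leaf [])) (.node (.leaf []) (.leaf [])))) (.node (.node (.node (.leaf []) (.leaf [])) (.node (.leaf []) (.leaf []))) (.node (.node (.leaf []) (.leaf [])) (.node (.leaf []) (.leaf [])))))) (.node (.node (.node (.node (.node (.leaf []) (.leaf [])) (.node (.leaf []) (.leaf []))) (.node (.node (.leaf []) (.leaf [])) (.node (.leaf []) (.leaf [])))) (.node (.node (.node (.leaf []) (.leaf [])) (.node (.leaf []) (.leaf []))) (.node (.node (.leaf []) (.leaf [])) (.node (.leaf []) (.leaf []))))) (.node (.node (.node (.node (.leaf []) (.leaf [])) (.node (.leaf []) (.leaf []))) (.node (.node (.leaf []) (.leaf [])) (.node (.leaf []) (.leaf [])))) (.node (.node (.node (.leaf []) (.leaf [])) (.node (.leaf []) (.leaf []))) (.node (.node (.leaf []) (.leaf [])) (.node (.leaf []) (.leaf [])))))))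
def EuijT : BT ℕ := .node (.node (.node (.node (.node (.node (.node (.leaf 0) (.leaf 0)) (.node (.leaf 65537) (.leaf 65538))) (.node (.node (.leaf 65540) (.leaf 65541)) (.node (.leaf 65542) (.leaf 65544)))) (.node (.node (.node (.leaf 65548) (.leaf 65553)) (.node (.leaf 65554) (.leaf 131073))) (.node (.node (.leaf 131074) (.leaf 131075)) (.node (.leaf 131079) (.leaf 131092))))) (.node (.node (.node (.node (.leaf 131101) (.leaf 131106)) (.node (.leaf 196609) (.leaf 196610))) (.node (.node (.leaf 196611) (.leaf 196613)) (.node (.leaf 196614) (.leaf 196615)))) (.node (.node (.node (.leaf 196616) (.leaf 196617)) (.node (.leaf 196618) (.leaf 196620))) (.node (.node (.leaf 196621) (.leaf 196622)) (.node (.leaf 196625) (.leaf 196626)))))) (.node (.node (.node (.node (.node (.leaf 196628) (.leaf 196629)) (.node (.leaf 196630) (.leaf 196631))) (.node (.node (.leaf 196633) (.leaf 196635)) (.node (.leaf 196637) (.leaf 196638)))) (.node (.node (.node (.leaf 196640) (.leaf 196641)) (.node (.leaf 196643) (.leaf 196645))) (.node (.node (.leaf 196654) (.leaf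 196657)) (.node (.leaf 196658) (.leaf 196662))))) (.node (.node (.node (.node (.leaf 196664) (.leaf 196669)) (.node (.leaf 196673) (.leaf 196676))) (.node (.node (.leaf 196678) (.leaf 196682)) (.node (.leaf 196683) (.leaf 196684)))) (.node (.node (.node (.leaf 196693) (.leaf 196708)) (.node (.leaf 196710) (.leaf 196711))) (.node (.node (.leaf 196713) (.leaf 196715)) (.node (.leaf 196726) (.leaf 196729))))))) (.node (.node (.node (.node (.node (.node (.leaf 196733) (.leaf 196739)) (.node (.leaf 262150) (.leaf 262179))) (.node (.node (.leaf 262212) (.leaf 393230)) (.node (.leaf 1179655) (.leaf 1441854)))) (.node (.node (.node (.leaf 2555940) (.leaf 4194326)) (.node (.leaf 0) (.leaf 0))) (.node (.node (.leaf 0) (.leaf 0)) (.node (.leaf 0) (.leaf 0))))) (.node (.node (.node (.node (.leaf 0) (.leaf 0)) (.node (.leaf 0) (.leaf 0))) (.node (.node (.leaf 0) (.leaf 0)) (.node (.leaf 0) (.leaf 0)))) (.node (.node (.node (.leaf 0) (.leaf 0)) (.node (.leaf 0) (.leaf 0))) (.node (.node (.leaf 0) (.leaf 0)) (.node (.leaf 0) (.leaf 0)))))) (.node (.node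 (.node (.node (.node (.leaf 0) (.leaf 0)) (.node (.leaf 0) (.leaf 0))) (.node (.node (.leaf 0) (.leaf 0)) (.node (.leaf 0) (.leaf 0)))) (.node (.node (.node (.leaf 0) (.leaf 0)) (.node (.leaf 0) (.leaf 0))) (.node (.node (.leaf 0) (.leaf 0)) (.node (.leaf 0) (.leaf 0))))) (.node (.node (.node (.node (.leaf 0) (.leaf 0)) (.node (.leaf 0) (.leaf 0))) (.node (.node (.leaf 0) (.leaf 0)) (.node (.leaf 0) (.leaf 0)))) (.node (.node (.node (.leaf 0) (.leaf 0)) (.node (.leaf 0) (.leaf 0))) (.node (.node (.leaf 0) (.leaf 0)) (.node (.leaf 0) (.leaf 0)))))))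
def EaT : BT ℕ := .node (.node (.node (.node (.node (.node (.node (.node (.leaf 1973801615891216990208) (.leaf 2158276938090875650252)) (.node (.leaf 1531096083842652176583) (.leaf 848564019849192997172))) (.node (.node (.leaf 1033026394251461656658) (.leaf 2342752260367842804017)) (.node (.leaf 1660220477849357975849) (.leaf 1346621888045413236810)))) (.node (.node (.node (.leaf 16044597663170740) (.leaf 2029154796489574711375)) (.node (.leaf 867024274743264215221) (.leaf 2176733815310997913680))) (.node (.node (.leaf 1494206536392140456008) (.leaf 1678679606727560003784)) (.node (.leaf 996143039134473453874) (.leaf 2361205478297303711949))))) (.node (.node (.node (.node (.leaf 1992275945062406422831) (.leaf 1365078765265533731114)) (.node (.leaf 682552049296632053843) (.leaf 1512667354236165095723))) (.node (.node (.leaf 830133882867822362705) (.leaf 2195190974006095118640)) (.node (.leaf 2324324375070323507278) (.leaf 1697132543298008318025)))) (.node (.node (.node (.leaf 1014600197829570658486) (.leaf 701009489324973818163)) (.node (.leaf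 2010726911192053645518) (.leaf 1328195691623522238662))) (.node (.node (.leaf 2287396546614967730469) (.leaf 2213640814274483847288)) (.node (.leaf 2250524169284081942694) (.leaf 1789335301406232936616)))))) (.node (.node (.node (.node (.node (.leaf 1715577879945288155431) (.leaf 1752461798020802019453)) (.node (.leaf 793211966039819550984) (.leaf 719454263103898058846))) (.node (.node (.leaf 756337336638537138397) (.leaf 516531633597111336984)) (.node (.leaf 1235967318901571190796) (.leaf 295158882823707165050)))) (.node (.node (.node (.leaf 2305854268384567623789) (.leaf 405864961664939131513)) (.node (.leaf 1770923741769023881427) (.leaf 18470669884820620152))) (.node (.node (.leaf 737893407374711324950) (.leaf 1199052720027818459141)) (.node (.leaf 1881570428848999890964) (.leaf 645654338564991090705))))) (.node (.node (.node (.node (.leaf 258256106019242378100) (.leaf 2268950365710261354748)) (.node (.leaf 368948955497914237311) (.leaf 1734006609629078290543))) (.node (.node (.leaf 147593093343369167486) (.leaf 811676724542103421106))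 (.node (.leaf 608760005889561526279) (.leaf 1272853488648055750678)))) (.node (.node (.node (.leaf 1844675814853214208010) (.leaf 221363180838962463351)) (.node (.leaf 2232056596135114899665) (.leaf 498091926629762663286))) (.node (.node (.leaf 1807809911519816843521) (.leaf 110697634849644151169)) (.node (.leaf 774778451225597444228) (.leaf 959265594927593291871))))))) (.node (.node (.node (.node (.node (.node (.leaf 885446811921727357147) (.leaf 922350433245610967305)) (.node (.leaf 2453449894762204561529) (.leaf 2379633926506105733287))) (.node (.node (.leaf 2416538110663996342563) (.leaf 1457327966667594989864)) (.node (.leaf 1383510591152592650363) (.leaf 1420414212360513913001)))) (.node (.node (.node (.leaf 1217488486616091590679) (.leaf 1955376826955886428171)) (.node (.leaf 553412455344808132616) (.leaf 202923473635369877890))) (.node (.node (.leaf 903898904050059247749) (.leaf 479637019777427505784)) (.node (.leaf 2471884253962708779215) (.leaf 92237942922705109879))))) (.node (.node (.node (.node (.leaf 1438851104818628460799) (.leaf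 627199713127508607001)) (.node (.leaf 1180614701768582496269) (.leaf 1918497131017900523521))) (.node (.node (.leaf 332053778354611618681) (.leaf 977689539541074247956)) (.node (.leaf 442759575720866677115) (.leaf 2435007654245179326574)))) (.node (.node (.node (.leaf 55365002465771651706) (.leaf 1401977601441805172948)) (.node (.leaf 1826257218212750491666) (.leaf 590322269105302077455))) (.node (.node (.leaf 1309722488446730502147) (.leaf 239833850264205853308)) (.node (.leaf 940809562239770689715) (.leaf 350516003693762511730)))))) (.node (.node (.node (.node (.node (.leaf 2398105440394945822973) (.leaf 129130023716709597565)) (.node (.leaf 1475744029994612818032) (.leaf 1623340218849756381308))) (.node (.node (.leaf 1549541983517190324394) (.leaf 1586425901476757766438)) (.node (.leaf 1125278410407585120476) (.leaf 1051481301090905948426)))) (.node (.node (.node (.leaf 1088364656100502274141) (.leaf 2121400901727032901797)) (.node (.leaf 2047605199669255471396) (.leaf 2084489680694722756730))) (.node (.node (.leaf 534961207723012063248)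 (.leaf 1254387604237274578948)) (.node (.leaf 1936940778905521553427) (.leaf 276711012871577534846))))) (.node (.node (.node (.node (.leaf 1604874897367460806769) (.leaf 387388944176483533437)) (.node (.leaf 1069917630603361976497) (.leaf 166053066745284920179))) (.node (.node (.leaf 2139853275334636339454) (.leaf 1900033217022152278025)) (.node (.leaf 664089823549436657670) (.leaf 1162178935193194135573)))) (.node (.node (.node (.leaf 184501217880333353845) (.leaf 1568006742015179096320)) (.node (.leaf 461173950150767935872) (.leaf 1143704325354492788870))) (.node (.node (.leaf 73804709643576672886) (.leaf 2102948246734633959632)) (.node (.leaf 1291282781298979569678) (.leaf 1863144513884911632386)))))))) (.node (.node (.node (.node (.node (.node (.node (.leaf 571885095155030360090) (.leaf 313606471326647845499)) (.node (.leaf 1641771763283313426642) (.leaf 424311987217926194042))) (.node (.node (.leaf 1106841799501761216789) (.leaf 36917976912784392572)) (.node (.leaf 2066059543593105948780) (.leaf 0)))) (.node (.node (.node (.leaf 0) (.leaf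 0)) (.node (.leaf 0) (.leaf 0))) (.node (.node (.leaf 0) (.leaf 0)) (.node (.leaf 0) (.leaf 0))))) (.node (.node (.node (.node (.leaf 0) (.leaf 0)) (.node (.leaf 0) (.leaf 0))) (.node (.node (.leaf 0) (.leaf 0)) (.node (.leaf 0) (.leaf 0)))) (.node (.node (.node (.leaf 0) (.leaf 0)) (.node (.leaf 0) (.leaf 0))) (.node (.node (.leaf 0) (.leaf 0)) (.node (.leaf 0) (.leaf 0)))))) (.node (.node (.node (.node (.node (.leaf 0) (.leaf 0)) (.node (.leaf 0) (.leaf 0))) (.node (.node (.leaf 0) (.leaf 0)) (.node (.leaf 0) (.leaf 0)))) (.node (.node (.node (.leaf 0) (.leaf 0)) (.node (.leaf 0) (.leaf 0))) (.node (.node (.leaf 0) (.leaf 0)) (.node (.leaf 0) (.leaf 0))))) (.node (.node (.node (.node (.leaf 0) (.leaf 0)) (.node (.leaf 0) (.leaf 0))) (.node (.node (.leaf 0) (.leaf 0)) (.node (.leaf 0) (.leaf 0)))) (.node (.node (.node (.leaf 0) (.leaf 0)) (.node (.leaf 0) (.leaf 0))) (.node (.node (.leaf 0) (.leaf 0)) (.node (.leaf 0) (.leaf 0))))))) (.node (.node (.node (.node (.node (.node (.leaf 0) (.leaf 0)) (.node (.leaf 0) (.leaf 0))) (.node (.node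 (.leaf 0) (.leaf 0)) (.node (.leaf 0) (.leaf 0)))) (.node (.node (.node (.leaf 0) (.leaf 0)) (.node (.leaf 0) (.leaf 0))) (.node (.node (.leaf 0) (.leaf 0)) (.node (.leaf 0) (.leaf 0))))) (.node (.node (.node (.node (.leaf 0) (.leaf 0)) (.node (.leaf 0) (.leaf 0))) (.node (.node (.leaf 0) (.leaf 0)) (.node (.leaf 0) (.leaf 0)))) (.node (.node (.node (.leaf 0) (.leaf 0)) (.node (.leaf 0) (.leaf 0))) (.node (.node (.leaf 0) (.leaf 0)) (.node (.leaf 0) (.leaf 0)))))) (.node (.node (.node (.node (.node (.leaf 0) (.leaf 0)) (.node (.leaf 0) (.leaf 0))) (.node (.node (.leaf 0) (.leaf 0)) (.node (.leaf 0) (.leaf 0)))) (.node (.node (.node (.leaf 0) (.leaf 0)) (.node (.leaf 0) (.leaf 0))) (.node (.node (.leaf 0) (.leaf 0)) (.node (.leaf 0) (.leaf 0))))) (.node (.node (.node (.node (.leaf 0) (.leaf 0)) (.node (.leaf 0) (.leaf 0))) (.node (.node (.leaf 0) (.leaf 0)) (.node (.leaf 0) (.leaf 0)))) (.node (.node (.node (.leaf 0) (.leaf 0)) (.node (.leaf 0) (.leaf 0))) (.node (.node (.leaf 0) (.leaf 0)) (.node (.leaf 0) (.leaf 0))))))))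
def EtaT : BT (List ℕ) := .node (.node (.node (.node (.node (.node (.node (.node (.leaf [83221, 166442, 183109, 216458, 183121, 216482, 81984, 163968, 87101, 174102, 86313, 172606, 5396, 10792, 65661, 131222, 16489, 32958]) (.leaf [83221, 166442, 19437, 36214, 193617, 219298, 73361, 141282, 184700, 221844, 227713, 106178, 237881, 127518, 146561, 201922, 24168, 42940])) (.node (.leaf [83221, 166442, 19437, 36214, 219298, 109811, 141282, 211315, 221844, 111592, 190275, 227713, 237881, 127518, 146561, 201922, 42940, 63956]) (.leaf [83221, 166442, 68537, 134622, 103411, 188753, 63923, 24273, 160724, 233832, 243306, 121791, 242733, 120886, 207061, 81002, 63208, 23420]))) (.node (.node (.leaf [83221, 166442, 134622, 198247, 103411, 188753, 42850, 63923, 160724, 233832, 159189, 243306, 158747, 242733, 207061, 81002, 44436, 63208]) (.leaf [83221, 166442, 36214, 50843, 193617, 219298, 211315, 73361, 184700, 221844, 190275, 227713, 152359, 237881, 146561, 201922, 63956, 24168])) (.node (.leaf [83221, 166442, 36214, 50843, 219298, 109811, 73361, 141282,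 221844, 111592, 106178, 190275, 152359, 237881, 146561, 201922, 24168, 42940]) (.leaf [83221, 166442, 50843, 19437, 219298, 109811, 211315, 73361, 221844, 111592, 227713, 106178, 127518, 152359, 146561, 201922, 63956, 24168])))) (.node (.node (.node (.leaf [83221, 166442, 198247, 68537, 103411, 188753, 24273, 42850, 160724, 233832, 121791, 159189, 120886, 158747, 207061, 81002, 23420, 44436]) (.leaf [83221, 166442, 50843, 19437, 193617, 219298, 141282, 211315, 184700, 221844, 106178, 190275, 127518, 152359, 146561, 201922, 42940, 63956])) (.node (.leaf [83221, 166442, 198247, 68537, 103411, 188753, 42850, 63923, 233832, 123580, 159189, 243306, 242733, 120886, 136383, 207061, 63208, 23420]) (.leaf [83221, 166442, 50843, 19437, 193617, 219298, 211315, 73361, 221844, 111592, 190275, 227713, 237881, 127518, 75843, 146561, 24168, 42940]))) (.node (.node (.leaf [83221, 166442, 50843, 19437, 219298, 109811, 73361, 141282, 111592, 184700, 106178, 190275, 237881, 127518, 75843, 146561, 42940, 63956]) (.leaf [83221, 166442, 19437, 36214, 219298, 109811,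 211315, 73361, 111592, 184700, 227713, 106178, 152359, 237881, 75843, 146561, 24168, 42940])) (.node (.leaf [83221, 166442, 68537, 134622, 103411, 188753, 24273, 42850, 233832, 123580, 121791, 159189, 158747, 242733, 136383, 207061, 44436, 63208]) (.leaf [83221, 166442, 19437, 36214, 193617, 219298, 141282, 211315, 221844, 111592, 106178, 190275, 152359, 237881, 75843, 146561, 63956, 24168]))))) (.node (.node (.node (.node (.leaf [83221, 166442, 36214, 50843, 193617, 219298, 73361, 141282, 221844, 111592, 227713, 106178, 127518, 152359, 75843, 146561, 42940, 63956]) (.leaf [83221, 166442, 36214, 50843, 219298, 109811, 141282, 211315, 111592, 184700, 190275, 227713, 127518, 152359, 75843, 146561, 63956, 24168])) (.node (.leaf [83221, 166442, 134622, 198247, 103411, 188753, 63923, 24273, 233832, 123580, 243306, 121791, 120886, 158747, 136383, 207061, 23420, 44436]) (.leaf [83221, 166442, 36214, 50843, 219298, 109811, 211315, 73361, 184700, 221844, 227713, 106178, 237881, 127518, 201922, 75843, 42940, 63956]))) (.node (.node (.leaf [83221, 166442,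 134622, 198247, 103411, 188753, 24273, 42850, 123580, 160724, 121791, 159189, 242733, 120886, 81002, 136383, 63208, 23420]) (.leaf [83221, 166442, 36214, 50843, 193617, 219298, 141282, 211315, 111592, 184700, 106178, 190275, 237881, 127518, 201922, 75843, 24168, 42940])) (.node (.leaf [83221, 166442, 50843, 19437, 193617, 219298, 73361, 141282, 111592, 184700, 227713, 106178, 152359, 237881, 201922, 75843, 63956, 24168]) (.leaf [83221, 166442, 50843, 19437, 219298, 109811, 141282, 211315, 184700, 221844, 190275, 227713, 152359, 237881, 201922, 75843, 24168, 42940])))) (.node (.node (.node (.leaf [83221, 166442, 198247, 68537, 103411, 188753, 63923, 24273, 123580, 160724, 243306, 121791, 158747, 242733, 81002, 136383, 44436, 63208]) (.leaf [83221, 166442, 68537, 134622, 103411, 188753, 42850, 63923, 123580, 160724, 159189, 243306, 120886, 158747, 81002, 136383, 23420, 44436])) (.node (.leaf [83221, 166442, 19437, 36214, 193617, 219298, 211315, 73361, 111592, 184700, 190275, 227713, 127518, 152359, 201922, 75843, 42940, 63956]) (.leaf [83221,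 166442, 19437, 36214, 219298, 109811, 73361, 141282, 184700, 221844, 106178, 190275, 127518, 152359, 201922, 75843, 63956, 24168]))) (.node (.node (.leaf [83221, 166442, 68525, 134646, 188741, 225930, 242745, 120862, 58049, 29506, 73340, 141204, 24261, 42826, 185448, 223420, 108481, 194882]) (.leaf [83221, 166442, 134646, 198235, 188741, 225930, 120862, 158759, 37251, 58049, 141204, 211432, 24261, 42826, 223420, 113876, 108481, 194882])) (.node (.leaf [83221, 166442, 198235, 68525, 188741, 225930, 158759, 242745, 29506, 37251, 211432, 73340, 24261, 42826, 113876, 185448, 108481, 194882]) (.leaf [83221, 166442, 198235, 68525, 225930, 103375, 120862, 158759, 58049, 29506, 211432, 73340, 63887, 24261, 223420, 113876, 108481, 194882])))))) (.node (.node (.node (.node (.node (.leaf [83221, 166442, 68525, 134646, 225930, 103375, 158759, 242745, 37251, 58049, 73340, 141204, 63887, 24261, 113876, 185448, 108481, 194882]) (.leaf [83221, 166442, 134646, 198235, 225930, 103375, 242745, 120862, 29506, 37251, 141204, 211432, 63887, 24261, 185448, 223420,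 108481, 194882])) (.node (.leaf [83221, 166442, 36190, 50855, 109775, 193605, 152347, 237869, 45973, 53738, 142780, 210644, 141258, 211279, 163048, 234620, 128661, 154602]) (.leaf [83221, 166442, 50855, 19449, 109775, 193605, 237869, 127542, 25215, 45973, 210644, 72552, 141258, 211279, 234620, 125076, 128661, 154602]))) (.node (.node (.leaf [83221, 166442, 19449, 36190, 109775, 193605, 127542, 152347, 53738, 25215, 72552, 142780, 141258, 211279, 125076, 163048, 128661, 154602]) (.leaf [83221, 166442, 100047, 183109, 100083, 183121, 81984, 163968, 261163, 87101, 258839, 86313, 10792, 16188, 65661, 131222, 16489, 32958])) (.node (.leaf [83221, 166442, 216458, 100047, 216482, 100083, 81984, 163968, 174102, 261163, 172606, 258839, 16188, 5396, 65661, 131222, 16489, 32958]) (.leaf [83221, 166442, 5396, 10792, 81984, 163968, 183109, 216458, 65661, 131222, 87101, 174102, 183121, 216482, 16489, 32958, 86313, 172606])))) (.node (.node (.node (.leaf [83221, 166442, 232237, 118070, 188025, 223134, 25069, 45686, 144317, 201174, 157693, 244054, 79021,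 137462, 59625, 31870, 129449, 155390]) (.leaf [83221, 166442, 10792, 16188, 163968, 245952, 183109, 216458, 131222, 196843, 174102, 261163, 100083, 183121, 16489, 32958, 86313, 172606])) (.node (.leaf [83221, 166442, 118070, 149019, 223134, 113127, 25069, 45686, 201174, 74347, 244054, 122539, 207963, 79021, 59625, 31870, 129449, 155390]) (.leaf [83221, 166442, 16188, 5396, 245952, 81984, 183109, 216458, 196843, 65661, 261163, 87101, 216482, 100083, 16489, 32958, 86313, 172606]))) (.node (.node (.leaf [83221, 166442, 149031, 232249, 113115, 188013, 79033, 137438, 135595, 205565, 191851, 227005, 45662, 54183, 48297, 54526, 110057, 194174]) (.leaf [83221, 166442, 183109, 216458, 216482, 100083, 245952, 81984, 261163, 87101, 86313, 172606, 16188, 5396, 196843, 65661, 16489, 32958])) (.node (.leaf [83221, 166442, 100047, 183109, 183121, 216482, 245952, 81984, 174102, 261163, 258839, 86313, 5396, 10792, 196843, 65661, 16489, 32958]) (.leaf [83221, 166442, 216458, 100047, 100083, 183121, 245952, 81984, 87101, 174102, 172606, 258839, 10792, 16188,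 196843, 65661, 16489, 32958]))))) (.node (.node (.node (.node (.leaf [83221, 166442, 16188, 5396, 81984, 163968, 100047, 183109, 131222, 196843, 261163, 87101, 183121, 216482, 49367, 16489, 86313, 172606]) (.leaf [83221, 166442, 149019, 232237, 188025, 223134, 54171, 25069, 201174, 74347, 122539, 157693, 79021, 137462, 38039, 59625, 129449, 155390])) (.node (.leaf [83221, 166442, 5396, 10792, 163968, 245952, 100047, 183109, 196843, 65661, 87101, 174102, 100083, 183121, 49367, 16489, 86313, 172606]) (.leaf [83221, 166442, 232237, 118070, 223134, 113127, 54171, 25069, 74347, 144317, 157693, 244054, 207963, 79021, 38039, 59625, 129449, 155390]))) (.node (.node (.leaf [83221, 166442, 10792, 16188, 245952, 81984, 100047, 183109, 65661, 131222, 174102, 261163, 216482, 100083, 49367, 16489, 86313, 172606]) (.leaf [83221, 166442, 118046, 149031, 113115, 188013, 207975, 79033, 205565, 78678, 105430, 191851, 45662, 54183, 26711, 48297, 110057, 194174])) (.node (.leaf [83221, 166442, 183109, 216458, 100083, 183121, 163968, 245952, 174102, 261163, 86313,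 172606, 10792, 16188, 131222, 196843, 16489, 32958]) (.leaf [83221, 166442, 100047, 183109, 216482, 100083, 163968, 245952, 87101, 174102, 258839, 86313, 16188, 5396, 131222, 196843, 16489, 32958])))) (.node (.node (.node (.leaf [83221, 166442, 216458, 100047, 183121, 216482, 163968, 245952, 261163, 87101, 172606, 258839, 5396, 10792, 131222, 196843, 16489, 32958]) (.leaf [83221, 166442, 10792, 16188, 81984, 163968, 216458, 100047, 196843, 65661, 174102, 261163, 183121, 216482, 32958, 49367, 86313, 172606])) (.node (.leaf [83221, 166442, 118070, 149019, 188025, 223134, 45686, 54171, 74347, 144317, 244054, 122539, 79021, 137462, 31870, 38039, 129449, 155390]) (.leaf [83221, 166442, 16188, 5396, 163968, 245952, 216458, 100047, 65661, 131222, 261163, 87101, 100083, 183121, 32958, 49367, 86313, 172606]))) (.node (.node (.leaf [83221, 166442, 149019, 232237, 223134, 113127, 45686, 54171, 144317, 201174, 122539, 157693, 207963, 79021, 31870, 38039, 129449, 155390]) (.leaf [83221, 166442, 5396, 10792, 245952, 81984, 216458, 100047, 131222, 196843,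 87101, 174102, 216482, 100083, 32958, 49367, 86313, 172606])) (.node (.leaf [83221, 166442, 232249, 118046, 113115, 188013, 137438, 207975, 78678, 135595, 227005, 105430, 45662, 54183, 54526, 26711, 110057, 194174]) (.leaf [83221, 166442, 50855, 19449, 109775, 193605, 127542, 152347, 45973, 53738, 72552, 142780, 73349, 141258, 163048, 234620, 241023, 128661]))))))) (.node (.node (.node (.node (.node (.node (.leaf [83221, 166442, 19449, 36190, 109775, 193605, 152347, 237869, 25215, 45973, 142780, 210644, 73349, 141258, 234620, 125076, 241023, 128661]) (.leaf [83221, 166442, 36190, 50855, 109775, 193605, 237869, 127542, 53738, 25215, 210644, 72552, 73349, 141258, 125076, 163048, 241023, 128661])) (.node (.leaf [83221, 166442, 134646, 198235, 188741, 225930, 158759, 242745, 58049, 29506, 211432, 73340, 63887, 24261, 185448, 223420, 220803, 108481]) (.leaf [83221, 166442, 198235, 68525, 188741, 225930, 242745, 120862, 37251, 58049, 73340, 141204, 63887, 24261, 223420, 113876, 220803, 108481]))) (.node (.node (.leaf [83221, 166442, 68525, 134646,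 188741, 225930, 120862, 158759, 29506, 37251, 141204, 211432, 63887, 24261, 113876, 185448, 220803, 108481]) (.leaf [83221, 166442, 68525, 134646, 225930, 103375, 242745, 120862, 58049, 29506, 141204, 211432, 42826, 63887, 223420, 113876, 220803, 108481])) (.node (.leaf [83221, 166442, 134646, 198235, 225930, 103375, 120862, 158759, 37251, 58049, 211432, 73340, 42826, 63887, 113876, 185448, 220803, 108481]) (.leaf [83221, 166442, 198235, 68525, 225930, 103375, 158759, 242745, 29506, 37251, 73340, 141204, 42826, 63887, 185448, 223420, 220803, 108481])))) (.node (.node (.node (.leaf [83221, 166442, 100047, 183109, 216482, 100083, 245952, 81984, 174102, 261163, 86313, 172606, 10792, 16188, 65661, 131222, 49367, 16489]) (.leaf [83221, 166442, 216458, 100047, 183121, 216482, 245952, 81984, 87101, 174102, 258839, 86313, 16188, 5396, 65661, 131222, 49367, 16489])) (.node (.leaf [83221, 166442, 183109, 216458, 100083, 183121, 245952, 81984, 261163, 87101, 172606, 258839, 5396, 10792, 65661, 131222, 49367, 16489]) (.leaf [83221, 166442, 5396, 10792,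 245952, 81984, 100047, 183109, 196843, 65661, 174102, 261163, 183121, 216482, 16489, 32958, 258839, 86313]))) (.node (.node (.leaf [83221, 166442, 232249, 118046, 113115, 188013, 207975, 79033, 135595, 205565, 105430, 191851, 25081, 45662, 48297, 54526, 220055, 110057]) (.leaf [83221, 166442, 10792, 16188, 81984, 163968, 100047, 183109, 65661, 131222, 261163, 87101, 100083, 183121, 16489, 32958, 258839, 86313])) (.node (.leaf [83221, 166442, 118070, 149019, 188025, 223134, 54171, 25069, 144317, 201174, 122539, 157693, 207963, 79021, 59625, 31870, 239447, 129449]) (.leaf [83221, 166442, 16188, 5396, 163968, 245952, 100047, 183109, 131222, 196843, 87101, 174102, 216482, 100083, 16489, 32958, 258839, 86313]))))) (.node (.node (.node (.node (.leaf [83221, 166442, 149019, 232237, 223134, 113127, 54171, 25069, 201174, 74347, 157693, 244054, 137462, 207963, 59625, 31870, 239447, 129449]) (.leaf [83221, 166442, 100047, 183109, 100083, 183121, 163968, 245952, 87101, 174102, 86313, 172606, 5396, 10792, 196843, 65661, 49367, 16489])) (.node (.leaf [83221,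 166442, 216458, 100047, 216482, 100083, 163968, 245952, 261163, 87101, 258839, 86313, 10792, 16188, 196843, 65661, 49367, 16489]) (.leaf [83221, 166442, 183109, 216458, 183121, 216482, 163968, 245952, 174102, 261163, 172606, 258839, 16188, 5396, 196843, 65661, 49367, 16489]))) (.node (.node (.leaf [83221, 166442, 16188, 5396, 245952, 81984, 216458, 100047, 65661, 131222, 87101, 174102, 183121, 216482, 49367, 16489, 258839, 86313]) (.leaf [83221, 166442, 149031, 232249, 113115, 188013, 137438, 207975, 205565, 78678, 227005, 105430, 25081, 45662, 26711, 48297, 220055, 110057])) (.node (.leaf [83221, 166442, 5396, 10792, 81984, 163968, 216458, 100047, 131222, 196843, 174102, 261163, 100083, 183121, 49367, 16489, 258839, 86313]) (.leaf [83221, 166442, 232237, 118070, 188025, 223134, 45686, 54171, 201174, 74347, 244054, 122539, 207963, 79021, 38039, 59625, 239447, 129449])))) (.node (.node (.node (.leaf [83221, 166442, 10792, 16188, 163968, 245952, 216458, 100047, 196843, 65661, 261163, 87101, 216482, 100083, 49367, 16489, 258839, 86313]) (.leaf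 [83221, 166442, 118070, 149019, 223134, 113127, 45686, 54171, 74347, 144317, 122539, 157693, 137462, 207963, 38039, 59625, 239447, 129449])) (.node (.leaf [83221, 166442, 100047, 183109, 183121, 216482, 81984, 163968, 261163, 87101, 86313, 172606, 16188, 5396, 131222, 196843, 49367, 16489]) (.leaf [83221, 166442, 216458, 100047, 100083, 183121, 81984, 163968, 174102, 261163, 258839, 86313, 5396, 10792, 131222, 196843, 49367, 16489]))) (.node (.node (.leaf [83221, 166442, 183109, 216458, 216482, 100083, 81984, 163968, 87101, 174102, 172606, 258839, 10792, 16188, 131222, 196843, 49367, 16489]) (.leaf [83221, 166442, 10792, 16188, 245952, 81984, 183109, 216458, 131222, 196843, 261163, 87101, 183121, 216482, 32958, 49367, 258839, 86313])) (.node (.leaf [83221, 166442, 118046, 149031, 113115, 188013, 79033, 137438, 78678, 135595, 191851, 227005, 25081, 45662, 54526, 26711, 220055, 110057]) (.leaf [83221, 166442, 16188, 5396, 81984, 163968, 183109, 216458, 196843, 65661, 87101, 174102, 100083, 183121, 32958, 49367, 258839, 86313])))))) (.node (.node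 (.node (.node (.node (.leaf [83221, 166442, 149019, 232237, 188025, 223134, 25069, 45686, 74347, 144317, 157693, 244054, 207963, 79021, 31870, 38039, 239447, 129449]) (.leaf [83221, 166442, 5396, 10792, 163968, 245952, 183109, 216458, 65661, 131222, 174102, 261163, 216482, 100083, 32958, 49367, 258839, 86313])) (.node (.leaf [83221, 166442, 232237, 118070, 223134, 113127, 25069, 45686, 144317, 201174, 244054, 122539, 137462, 207963, 31870, 38039, 239447, 129449]) (.leaf [83221, 166442, 134646, 198235, 225930, 103375, 158759, 242745, 58049, 29506, 73340, 141204, 24261, 42826, 223420, 113876, 194882, 220803]))) (.node (.node (.leaf [83221, 166442, 198235, 68525, 225930, 103375, 242745, 120862, 37251, 58049, 141204, 211432, 24261, 42826, 113876, 185448, 194882, 220803]) (.leaf [83221, 166442, 68525, 134646, 225930, 103375, 120862, 158759, 29506, 37251, 211432, 73340, 24261, 42826, 185448, 223420, 194882, 220803])) (.node (.leaf [83221, 166442, 19449, 36190, 109775, 193605, 237869, 127542, 45973, 53738, 210644, 72552, 211279, 73349, 163048, 234620,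 154602, 241023]) (.leaf [83221, 166442, 36190, 50855, 109775, 193605, 127542, 152347, 25215, 45973, 72552, 142780, 211279, 73349, 234620, 125076, 154602, 241023])))) (.node (.node (.node (.leaf [83221, 166442, 50855, 19449, 109775, 193605, 152347, 237869, 53738, 25215, 142780, 210644, 211279, 73349, 125076, 163048, 154602, 241023]) (.leaf [83221, 166442, 198235, 68525, 188741, 225930, 120862, 158759, 58049, 29506, 141204, 211432, 42826, 63887, 185448, 223420, 194882, 220803])) (.node (.leaf [83221, 166442, 68525, 134646, 188741, 225930, 158759, 242745, 37251, 58049, 211432, 73340, 42826, 63887, 223420, 113876, 194882, 220803]) (.leaf [83221, 166442, 134646, 198235, 188741, 225930, 242745, 120862, 29506, 37251, 73340, 141204, 42826, 63887, 113876, 185448, 194882, 220803]))) (.node (.node (.leaf [83221, 166442, 216458, 100047, 100083, 183121, 163968, 245952, 261163, 87101, 86313, 172606, 16188, 5396, 65661, 131222, 32958, 49367]) (.leaf [83221, 166442, 183109, 216458, 216482, 100083, 163968, 245952, 174102, 261163, 258839, 86313, 5396, 10792,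 65661, 131222, 32958, 49367])) (.node (.leaf [83221, 166442, 100047, 183109, 183121, 216482, 163968, 245952, 87101, 174102, 172606, 258839, 10792, 16188, 65661, 131222, 32958, 49367]) (.leaf [83221, 166442, 5396, 10792, 163968, 245952, 216458, 100047, 131222, 196843, 261163, 87101, 183121, 216482, 16489, 32958, 172606, 258839]))))) (.node (.node (.node (.node (.leaf [83221, 166442, 232237, 118070, 223134, 113127, 45686, 54171, 201174, 74347, 122539, 157693, 79021, 137462, 59625, 31870, 155390, 239447]) (.leaf [83221, 166442, 10792, 16188, 245952, 81984, 216458, 100047, 196843, 65661, 87101, 174102, 100083, 183121, 16489, 32958, 172606, 258839])) (.node (.leaf [83221, 166442, 118046, 149031, 113115, 188013, 137438, 207975, 135595, 205565, 227005, 105430, 54183, 25081, 48297, 54526, 194174, 220055]) (.leaf [83221, 166442, 16188, 5396, 81984, 163968, 216458, 100047, 65661, 131222, 174102, 261163, 216482, 100083, 16489, 32958, 172606, 258839]))) (.node (.node (.leaf [83221, 166442, 149019, 232237, 188025, 223134, 45686, 54171, 144317, 201174,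 244054, 122539, 137462, 207963, 59625, 31870, 155390, 239447]) (.leaf [83221, 166442, 216458, 100047, 183121, 216482, 81984, 163968, 174102, 261163, 86313, 172606, 10792, 16188, 196843, 65661, 32958, 49367])) (.node (.leaf [83221, 166442, 183109, 216458, 100083, 183121, 81984, 163968, 87101, 174102, 258839, 86313, 16188, 5396, 196843, 65661, 32958, 49367]) (.leaf [83221, 166442, 100047, 183109, 216482, 100083, 81984, 163968, 261163, 87101, 172606, 258839, 5396, 10792, 196843, 65661, 32958, 49367])))) (.node (.node (.node (.leaf [83221, 166442, 16188, 5396, 163968, 245952, 183109, 216458, 196843, 65661, 174102, 261163, 183121, 216482, 49367, 16489, 172606, 258839]) (.leaf [83221, 166442, 149019, 232237, 223134, 113127, 25069, 45686, 74347, 144317, 244054, 122539, 79021, 137462, 38039, 59625, 155390, 239447])) (.node (.leaf [83221, 166442, 5396, 10792, 245952, 81984, 183109, 216458, 65661, 131222, 261163, 87101, 100083, 183121, 49367, 16489, 172606, 258839]) (.leaf [83221, 166442, 232249, 118046, 113115, 188013, 79033, 137438, 205565, 78678,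 191851, 227005, 54183, 25081, 26711, 48297, 194174, 220055]))) (.node (.node (.leaf [83221, 166442, 10792, 16188, 81984, 163968, 183109, 216458, 131222, 196843, 87101, 174102, 216482, 100083, 49367, 16489, 172606, 258839]) (.leaf [83221, 166442, 118070, 149019, 188025, 223134, 25069, 45686, 201174, 74347, 157693, 244054, 137462, 207963, 38039, 59625, 155390, 239447])) (.node (.leaf [83221, 166442, 216458, 100047, 216482, 100083, 245952, 81984, 87101, 174102, 86313, 172606, 5396, 10792, 131222, 196843, 32958, 49367]) (.leaf [83221, 166442, 183109, 216458, 183121, 216482, 245952, 81984, 261163, 87101, 258839, 86313, 10792, 16188, 131222, 196843, 32958, 49367])))))))) (.node (.node (.node (.node (.node (.node (.node (.leaf [83221, 166442, 100047, 183109, 100083, 183121, 245952, 81984, 174102, 261163, 172606, 258839, 16188, 5396, 131222, 196843, 32958, 49367]) (.leaf [83221, 166442, 10792, 16188, 163968, 245952, 100047, 183109, 65661, 131222, 87101, 174102, 183121, 216482, 32958, 49367, 172606, 258839])) (.node (.leaf [83221, 166442, 118070, 149019,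 223134, 113127, 54171, 25069, 144317, 201174, 157693, 244054, 79021, 137462, 31870, 38039, 155390, 239447]) (.leaf [83221, 166442, 16188, 5396, 245952, 81984, 100047, 183109, 131222, 196843, 174102, 261163, 100083, 183121, 32958, 49367, 172606, 258839]))) (.node (.node (.leaf [83221, 166442, 149031, 232249, 113115, 188013, 207975, 79033, 78678, 135595, 105430, 191851, 54183, 25081, 54526, 26711, 194174, 220055]) (.leaf [83221, 166442, 5396, 10792, 81984, 163968, 100047, 183109, 196843, 65661, 261163, 87101, 216482, 100083, 32958, 49367, 172606, 258839])) (.node (.leaf [83221, 166442, 232237, 118070, 188025, 223134, 54171, 25069, 74347, 144317, 122539, 157693, 137462, 207963, 31870, 38039, 155390, 239447]) (.leaf [])))) (.node (.node (.node (.leaf []) (.leaf [])) (.node (.leaf []) (.leaf []))) (.node (.node (.leaf []) (.leaf [])) (.node (.leaf []) (.leaf []))))) (.node (.node (.node (.node (.leaf []) (.leaf [])) (.node (.leaf []) (.leaf []))) (.node (.node (.leaf []) (.leaf [])) (.node (.leaf []) (.leaf [])))) (.node (.node (.node (.leaf [])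 (.leaf [])) (.node (.leaf []) (.leaf []))) (.node (.node (.leaf []) (.leaf [])) (.node (.leaf []) (.leaf [])))))) (.node (.node (.node (.node (.node (.leaf []) (.leaf [])) (.node (.leaf []) (.leaf []))) (.node (.node (.leaf []) (.leaf [])) (.node (.leaf []) (.leaf [])))) (.node (.node (.node (.leaf []) (.leaf [])) (.node (.leaf []) (.leaf []))) (.node (.node (.leaf []) (.leaf [])) (.node (.leaf []) (.leaf []))))) (.node (.node (.node (.node (.leaf []) (.leaf [])) (.node (.leaf []) (.leaf []))) (.node (.node (.leaf []) (.leaf [])) (.node (.leaf []) (.leaf [])))) (.node (.node (.node (.leaf []) (.leaf [])) (.node (.leaf []) (.leaf []))) (.node (.node (.leaf []) (.leaf [])) (.node (.leaf []) (.leaf []))))))) (.node (.node (.node (.node (.node (.node (.leaf []) (.leaf [])) (.node (.leaf []) (.leaf []))) (.node (.node (.leaf []) (.leaf [])) (.node (.leaf []) (.leaf [])))) (.node (.node (.node (.leaf []) (.leaf [])) (.node (.leaf []) (.leaf []))) (.node (.node (.leaf []) (.leaf [])) (.node (.leaf []) (.leaf []))))) (.node (.node (.node (.node (.leaf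 []) (.leaf [])) (.node (.leaf []) (.leaf []))) (.node (.node (.leaf []) (.leaf [])) (.node (.leaf []) (.leaf [])))) (.node (.node (.node (.leaf []) (.leaf [])) (.node (.leaf []) (.leaf []))) (.node (.node (.leaf []) (.leaf [])) (.node (.leaf []) (.leaf [])))))) (.node (.node (.node (.node (.node (.leaf []) (.leaf [])) (.node (.leaf []) (.leaf []))) (.node (.node (.leaf []) (.leaf [])) (.node (.leaf []) (.leaf [])))) (.node (.node (.node (.leaf []) (.leaf [])) (.node (.leaf []) (.leaf []))) (.node (.node (.leaf []) (.leaf [])) (.node (.leaf []) (.leaf []))))) (.node (.node (.node (.node (.leaf []) (.leaf [])) (.node (.leaf []) (.leaf []))) (.node (.node (.leaf []) (.leaf [])) (.node (.leaf []) (.leaf [])))) (.node (.node (.node (.leaf []) (.leaf [])) (.node (.leaf []) (.leaf []))) (.node (.node (.leaf []) (.leaf [])) (.node (.leaf []) (.leaf []))))))))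
def EkT : BT ℕ := .node (.node (.node (.node (.node (.node (.node (.node (.node (.node (.node (.node (.leaf 0) (.leaf 0)) (.node (.leaf 0) (.leaf 0))) (.node (.node (.leaf 0) (.leaf 0)) (.node (.leaf 0) (.leaf 0)))) (.node (.node (.node (.leaf 0) (.leaf 0)) (.node (.leaf 0) (.leaf 0))) (.node (.node (.leaf 0) (.leaf 0)) (.node (.leaf 0) (.leaf 0))))) (.node (.node (.node (.node (.leaf 0) (.leaf 0)) (.node (.leaf 0) (.leaf 0))) (.node (.node (.leaf 0) (.leaf 0)) (.node (.leaf 0) (.leaf 0)))) (.node (.node (.node (.leaf 0) (.leaf 0)) (.node (.leaf 0) (.leaf 468))) (.node (.node (.leaf 0) (.leaf 0)) (.node (.leaf 0) (.leaf 0)))))) (.node (.node (.node (.node (.node (.leaf 0) (.leaf 0)) (.node (.leaf 0) (.leaf 0))) (.node (.node (.leaf 0) (.leaf 0)) (.node (.leaf 0) (.leaf 0)))) (.node (.node (.node (.leaf 0) (.leaf 0)) (.node (.leaf 0) (.leaf 0))) (.node (.node (.leaf 0) (.leaf 0)) (.node (.leaf 0) (.leaf 0))))) (.node (.node (.node (.node (.leaf 0) (.leaf 0)) (.node (.leaf 0) (.leaf 0))) (.node (.node (.leaf 0) (.leaf 0)) (.node (.leaf 0) (.leaf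 0)))) (.node (.node (.node (.leaf 0) (.leaf 0)) (.node (.leaf 0) (.leaf 0))) (.node (.node (.leaf 0) (.leaf 0)) (.node (.leaf 0) (.leaf 0))))))) (.node (.node (.node (.node (.node (.node (.leaf 0) (.leaf 0)) (.node (.leaf 0) (.leaf 0))) (.node (.node (.leaf 0) (.leaf 0)) (.node (.leaf 0) (.leaf 0)))) (.node (.node (.node (.leaf 0) (.leaf 0)) (.node (.leaf 0) (.leaf 0))) (.node (.node (.leaf 0) (.leaf 0)) (.node (.leaf 0) (.leaf 0))))) (.node (.node (.node (.node (.leaf 0) (.leaf 0)) (.node (.leaf 0) (.leaf 0))) (.node (.node (.leaf 0) (.leaf 0)) (.node (.leaf 0) (.leaf 0)))) (.node (.node (.node (.leaf 0) (.leaf 0)) (.node (.leaf 0) (.leaf 0))) (.node (.node (.leaf 0) (.leaf 0)) (.node (.leaf 0) (.leaf 0)))))) (.node (.node (.node (.node (.node (.leaf 0) (.leaf 0)) (.node (.leaf 0) (.leaf 0))) (.node (.node (.leaf 0) (.leaf 0)) (.node (.leaf 0) (.leaf 0)))) (.node (.node (.node (.leaf 0) (.leaf 0)) (.node (.leaf 0) (.leaf 0))) (.node (.node (.leaf 0) (.leaf 0)) (.node (.leaf 0) (.leaf 0))))) (.node (.node (.node (.node (.leaf 0) (.leaf 0))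 (.node (.leaf 0) (.leaf 0))) (.node (.node (.leaf 0) (.leaf 0)) (.node (.leaf 0) (.leaf 0)))) (.node (.node (.node (.leaf 0) (.leaf 0)) (.node (.leaf 0) (.leaf 0))) (.node (.node (.leaf 0) (.leaf 0)) (.node (.leaf 0) (.leaf 0)))))))) (.node (.node (.node (.node (.node (.node (.node (.leaf 0) (.leaf 0)) (.node (.leaf 0) (.leaf 0))) (.node (.node (.leaf 0) (.leaf 0)) (.node (.leaf 0) (.leaf 0)))) (.node (.node (.node (.leaf 0) (.leaf 0)) (.node (.leaf 0) (.leaf 0))) (.node (.node (.leaf 0) (.leaf 0)) (.node (.leaf 0) (.leaf 0))))) (.node (.node (.node (.node (.leaf 0) (.leaf 0)) (.node (.leaf 0) (.leaf 0))) (.node (.node (.leaf 0) (.leaf 0)) (.node (.leaf 0) (.leaf 0)))) (.node (.node (.node (.leaf 0) (.leaf 0)) (.node (.leaf 0) (.leaf 0))) (.node (.node (.leaf 0) (.leaf 0)) (.node (.leaf 0) (.leaf 0)))))) (.node (.node (.node (.node (.node (.leaf 0) (.leaf 0)) (.node (.leaf 0) (.leaf 0))) (.node (.node (.leaf 0) (.leaf 0)) (.node (.leaf 0) (.leaf 0)))) (.node (.node (.node (.leaf 0) (.leaf 0)) (.node (.leaf 0) (.leaf 0))) (.node (.node (.leaf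 0) (.leaf 0)) (.node (.leaf 0) (.leaf 0))))) (.node (.node (.node (.node (.leaf 0) (.leaf 0)) (.node (.leaf 0) (.leaf 0))) (.node (.node (.leaf 0) (.leaf 0)) (.node (.leaf 0) (.leaf 0)))) (.node (.node (.node (.leaf 0) (.leaf 0)) (.node (.leaf 0) (.leaf 0))) (.node (.node (.leaf 0) (.leaf 0)) (.node (.leaf 0) (.leaf 0))))))) (.node (.node (.node (.node (.node (.node (.leaf 0) (.leaf 0)) (.node (.leaf 0) (.leaf 0))) (.node (.node (.leaf 0) (.leaf 0)) (.node (.leaf 0) (.leaf 0)))) (.node (.node (.node (.leaf 0) (.leaf 0)) (.node (.leaf 0) (.leaf 0))) (.node (.node (.leaf 0) (.leaf 0)) (.node (.leaf 0) (.leaf 0))))) (.node (.node (.node (.node (.leaf 0) (.leaf 0)) (.node (.leaf 0) (.leaf 0))) (.node (.node (.leaf 0) (.leaf 0)) (.node (.leaf 0) (.leaf 0)))) (.node (.node (.node (.leaf 0) (.leaf 0)) (.node (.leaf 0) (.leaf 0))) (.node (.node (.leaf 0) (.leaf 0)) (.node (.leaf 0) (.leaf 0)))))) (.node (.node (.node (.node (.node (.leaf 0) (.leaf 0)) (.node (.leaf 0) (.leaf 0))) (.node (.node (.leaf 0) (.leaf 0)) (.node (.leaf 0) (.leaf 0)))) (.node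 (.node (.node (.leaf 0) (.leaf 0)) (.node (.leaf 0) (.leaf 0))) (.node (.node (.leaf 0) (.leaf 0)) (.node (.leaf 0) (.leaf 0))))) (.node (.node (.node (.node (.leaf 0) (.leaf 0)) (.node (.leaf 0) (.leaf 0))) (.node (.node (.leaf 0) (.leaf 0)) (.node (.leaf 0) (.leaf 0)))) (.node (.node (.node (.leaf 0) (.leaf 0)) (.node (.leaf 0) (.leaf 0))) (.node (.node (.leaf 0) (.leaf 0)) (.node (.leaf 0) (.leaf 0))))))))) (.node (.node (.node (.node (.node (.node (.node (.node (.leaf 0) (.leaf 0)) (.node (.leaf 0) (.leaf 0))) (.node (.node (.leaf 0) (.leaf 0)) (.node (.leaf 0) (.leaf 0)))) (.node (.node (.node (.leaf 0) (.leaf 0)) (.node (.leaf 0) (.leaf 0))) (.node (.node (.leaf 0) (.leaf 0)) (.node (.leaf 0) (.leaf 0))))) (.node (.node (.node (.node (.leaf 0) (.leaf 0)) (.node (.leaf 0) (.leaf 0))) (.node (.node (.leaf 0) (.leaf 0)) (.node (.leaf 0) (.leaf 0)))) (.node (.node (.node (.leaf 0) (.leaf 0)) (.node (.leaf 0) (.leaf 0))) (.node (.node (.leaf 0) (.leaf 0)) (.node (.leaf 0) (.leaf 0)))))) (.node (.node (.node (.node (.node (.leaf 0) (.leaf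 0)) (.node (.leaf 0) (.leaf 0))) (.node (.node (.leaf 0) (.leaf 0)) (.node (.leaf 0) (.leaf 0)))) (.node (.node (.node (.leaf 0) (.leaf 0)) (.node (.leaf 0) (.leaf 0))) (.node (.node (.leaf 0) (.leaf 0)) (.node (.leaf 0) (.leaf 0))))) (.node (.node (.node (.node (.leaf 0) (.leaf 0)) (.node (.leaf 0) (.leaf 0))) (.node (.node (.leaf 0) (.leaf 0)) (.node (.leaf 0) (.leaf 0)))) (.node (.node (.node (.leaf 0) (.leaf 0)) (.node (.leaf 0) (.leaf 0))) (.node (.node (.leaf 0) (.leaf 0)) (.node (.leaf 0) (.leaf 0))))))) (.node (.node (.node (.node (.node (.node (.leaf 0) (.leaf 0)) (.node (.leaf 0) (.leaf 0))) (.node (.node (.leaf 0) (.leaf 0)) (.node (.leaf 0) (.leaf 0)))) (.node (.node (.node (.leaf 0) (.leaf 0)) (.node (.leaf 0) (.leaf 0))) (.node (.node (.leaf 0) (.leaf 0)) (.node (.leaf 0) (.leaf 0))))) (.node (.node (.node (.node (.leaf 0) (.leaf 0)) (.node (.leaf 0) (.leaf 0))) (.node (.node (.leaf 0) (.leaf 0)) (.node (.leaf 0) (.leaf 0)))) (.node (.node (.node (.leaf 0) (.leaf 0)) (.node (.leaf 0) (.leaf 0))) (.node (.node (.leaf 0) (.leaf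 0)) (.node (.leaf 0) (.leaf 0)))))) (.node (.node (.node (.node (.node (.leaf 0) (.leaf 0)) (.node (.leaf 0) (.leaf 0))) (.node (.node (.leaf 0) (.leaf 0)) (.node (.leaf 0) (.leaf 0)))) (.node (.node (.node (.leaf 0) (.leaf 0)) (.node (.leaf 0) (.leaf 0))) (.node (.node (.leaf 0) (.leaf 0)) (.node (.leaf 0) (.leaf 0))))) (.node (.node (.node (.node (.leaf 0) (.leaf 0)) (.node (.leaf 0) (.leaf 0))) (.node (.node (.leaf 0) (.leaf 0)) (.node (.leaf 0) (.leaf 0)))) (.node (.node (.node (.leaf 0) (.leaf 0)) (.node (.leaf 0) (.leaf 0))) (.node (.node (.leaf 0) (.leaf 0)) (.node (.leaf 0) (.leaf 0)))))))) (.node (.node (.node (.node (.node (.node (.node (.leaf 0) (.leaf 0)) (.node (.leaf 0) (.leaf 0))) (.node (.node (.leaf 0) (.leaf 0)) (.node (.leaf 0) (.leaf 0)))) (.node (.node (.node (.leaf 0) (.leaf 0)) (.node (.leaf 0) (.leaf 0))) (.node (.node (.leaf 0) (.leaf 0)) (.node (.leaf 0) (.leaf 0))))) (.node (.node (.node (.node (.leaf 0) (.leaf 0)) (.node (.leaf 0) (.leaf 0))) (.node (.node (.leaf 0) (.leaf 0)) (.node (.leaf 0) (.leaf 0)))) (.node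 (.node (.node (.leaf 0) (.leaf 0)) (.node (.leaf 0) (.leaf 0))) (.node (.node (.leaf 0) (.leaf 0)) (.node (.leaf 0) (.leaf 0)))))) (.node (.node (.node (.node (.node (.leaf 0) (.leaf 0)) (.node (.leaf 0) (.leaf 0))) (.node (.node (.leaf 0) (.leaf 0)) (.node (.leaf 0) (.leaf 0)))) (.node (.node (.node (.leaf 0) (.leaf 0)) (.node (.leaf 0) (.leaf 0))) (.node (.node (.leaf 0) (.leaf 0)) (.node (.leaf 0) (.leaf 0))))) (.node (.node (.node (.node (.leaf 0) (.leaf 0)) (.node (.leaf 0) (.leaf 0))) (.node (.node (.leaf 0) (.leaf 0)) (.node (.leaf 0) (.leaf 0)))) (.node (.node (.node (.leaf 0) (.leaf 0)) (.node (.leaf 0) (.leaf 0))) (.node (.node (.leaf 0) (.leaf 0)) (.node (.leaf 0) (.leaf 0))))))) (.node (.node (.node (.node (.node (.node (.leaf 0) (.leaf 0)) (.node (.leaf 0) (.leaf 0))) (.node (.node (.leaf 0) (.leaf 0)) (.node (.leaf 0) (.leaf 0)))) (.node (.node (.node (.leaf 0) (.leaf 0)) (.node (.leaf 0) (.leaf 0))) (.node (.node (.leaf 0) (.leaf 0)) (.node (.leaf 0) (.leaf 0))))) (.node (.node (.node (.node (.leaf 0) (.leaf 0)) (.node (.leaf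 0) (.leaf 0))) (.node (.node (.leaf 27) (.leaf 0)) (.node (.leaf 0) (.leaf 0)))) (.node (.node (.node (.leaf 0) (.leaf 0)) (.node (.leaf 0) (.leaf 0))) (.node (.node (.leaf 0) (.leaf 0)) (.node (.leaf 0) (.leaf 0)))))) (.node (.node (.node (.node (.node (.leaf 0) (.leaf 0)) (.node (.leaf 0) (.leaf 0))) (.node (.node (.leaf 0) (.leaf 0)) (.node (.leaf 0) (.leaf 0)))) (.node (.node (.node (.leaf 0) (.leaf 0)) (.node (.leaf 0) (.leaf 0))) (.node (.node (.leaf 0) (.leaf 0)) (.node (.leaf 0) (.leaf 495))))) (.node (.node (.node (.node (.leaf 0) (.leaf 0)) (.node (.leaf 0) (.leaf 0))) (.node (.node (.leaf 0) (.leaf 0)) (.node (.leaf 0) (.leaf 0)))) (.node (.node (.node (.leaf 0) (.leaf 0)) (.node (.leaf 0) (.leaf 0))) (.node (.node (.leaf 0) (.leaf 0)) (.node (.leaf 0) (.leaf 0)))))))))) (.node (.node (.node (.node (.node (.node (.node (.node (.node (.leaf 0) (.leaf 0)) (.node (.leaf 0) (.leaf 0))) (.node (.node (.leaf 0) (.leaf 0)) (.node (.leaf 0) (.leaf 0)))) (.node (.node (.node (.leaf 0) (.leaf 0)) (.node (.leaf 0) (.leaf 0))) (.node (.node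 (.leaf 0) (.leaf 0)) (.node (.leaf 0) (.leaf 0))))) (.node (.node (.node (.node (.leaf 0) (.leaf 0)) (.node (.leaf 0) (.leaf 0))) (.node (.node (.leaf 0) (.leaf 0)) (.node (.leaf 0) (.leaf 0)))) (.node (.node (.node (.leaf 0) (.leaf 0)) (.node (.leaf 0) (.leaf 0))) (.node (.node (.leaf 0) (.leaf 0)) (.node (.leaf 0) (.leaf 0)))))) (.node (.node (.node (.node (.node (.leaf 0) (.leaf 0)) (.node (.leaf 0) (.leaf 0))) (.node (.node (.leaf 0) (.leaf 0)) (.node (.leaf 0) (.leaf 0)))) (.node (.node (.node (.leaf 0) (.leaf 0)) (.node (.leaf 0) (.leaf 0))) (.node (.node (.leaf 0) (.leaf 0)) (.node (.leaf 0) (.leaf 0))))) (.node (.node (.node (.node (.leaf 0) (.leaf 0)) (.node (.leaf 0) (.leaf 0))) (.node (.node (.leaf 0) (.leaf 0)) (.node (.leaf 0) (.leaf 0)))) (.node (.node (.node (.leaf 0) (.leaf 0)) (.node (.leaf 0) (.leaf 0))) (.node (.node (.leaf 0) (.leaf 0)) (.node (.leaf 0) (.leaf 0))))))) (.node (.node (.node (.node (.node (.node (.leaf 0) (.leaf 0)) (.node (.leaf 0) (.leaf 0))) (.node (.node (.leaf 0) (.leaf 0)) (.node (.leaf 0) (.leaf 0))))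 (.node (.node (.node (.leaf 0) (.leaf 0)) (.node (.leaf 0) (.leaf 0))) (.node (.node (.leaf 0) (.leaf 0)) (.node (.leaf 0) (.leaf 0))))) (.node (.node (.node (.node (.leaf 0) (.leaf 0)) (.node (.leaf 0) (.leaf 0))) (.node (.node (.leaf 0) (.leaf 0)) (.node (.leaf 0) (.leaf 0)))) (.node (.node (.node (.leaf 0) (.leaf 0)) (.node (.leaf 0) (.leaf 0))) (.node (.node (.leaf 0) (.leaf 0)) (.node (.leaf 0) (.leaf 0)))))) (.node (.node (.node (.node (.node (.leaf 0) (.leaf 0)) (.node (.leaf 0) (.leaf 0))) (.node (.node (.leaf 0) (.leaf 0)) (.node (.leaf 0) (.leaf 0)))) (.node (.node (.node (.leaf 0) (.leaf 0)) (.node (.leaf 0) (.leaf 0))) (.node (.node (.leaf 0) (.leaf 0)) (.node (.leaf 0) (.leaf 0))))) (.node (.node (.node (.node (.leaf 0) (.leaf 0)) (.node (.leaf 0) (.leaf 0))) (.node (.node (.leaf 0) (.leaf 0)) (.node (.leaf 0) (.leaf 0)))) (.node (.node (.node (.leaf 0) (.leaf 0)) (.node (.leaf 0) (.leaf 0))) (.node (.node (.leaf 0) (.leaf 0)) (.node (.leaf 0) (.leaf 0)))))))) (.node (.node (.node (.node (.node (.node (.node (.leaf 0) (.leaf 0))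 (.node (.leaf 0) (.leaf 0))) (.node (.node (.leaf 0) (.leaf 0)) (.node (.leaf 0) (.leaf 0)))) (.node (.node (.node (.leaf 0) (.leaf 0)) (.node (.leaf 0) (.leaf 0))) (.node (.node (.leaf 0) (.leaf 0)) (.node (.leaf 0) (.leaf 0))))) (.node (.node (.node (.node (.leaf 0) (.leaf 0)) (.node (.leaf 0) (.leaf 0))) (.node (.node (.leaf 0) (.leaf 0)) (.node (.leaf 0) (.leaf 0)))) (.node (.node (.node (.leaf 0) (.leaf 0)) (.node (.leaf 0) (.leaf 0))) (.node (.node (.leaf 0) (.leaf 0)) (.node (.leaf 0) (.leaf 0)))))) (.node (.node (.node (.node (.node (.leaf 0) (.leaf 0)) (.node (.leaf 0) (.leaf 0))) (.node (.node (.leaf 0) (.leaf 0)) (.node (.leaf 0) (.leaf 0)))) (.node (.node (.node (.leaf 0) (.leaf 0)) (.node (.leaf 0) (.leaf 0))) (.node (.node (.leaf 0) (.leaf 0)) (.node (.leaf 0) (.leaf 0))))) (.node (.node (.node (.node (.leaf 0) (.leaf 0)) (.node (.leaf 0) (.leaf 0))) (.node (.node (.leaf 0) (.leaf 0)) (.node (.leaf 0) (.leaf 0)))) (.node (.node (.node (.leaf 0) (.leaf 0)) (.node (.leaf 0) (.leaf 0))) (.node (.node (.leaf 0) (.leaf 0)) (.node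 (.leaf 0) (.leaf 0))))))) (.node (.node (.node (.node (.node (.node (.leaf 0) (.leaf 0)) (.node (.leaf 0) (.leaf 0))) (.node (.node (.leaf 0) (.leaf 0)) (.node (.leaf 0) (.leaf 0)))) (.node (.node (.node (.leaf 0) (.leaf 0)) (.node (.leaf 0) (.leaf 0))) (.node (.node (.leaf 0) (.leaf 0)) (.node (.leaf 0) (.leaf 0))))) (.node (.node (.node (.node (.leaf 0) (.leaf 0)) (.node (.leaf 0) (.leaf 0))) (.node (.node (.leaf 0) (.leaf 0)) (.node (.leaf 0) (.leaf 0)))) (.node (.node (.node (.leaf 0) (.leaf 0)) (.node (.leaf 0) (.leaf 0))) (.node (.node (.leaf 0) (.leaf 0)) (.node (.leaf 0) (.leaf 0)))))) (.node (.node (.node (.node (.node (.leaf 0) (.leaf 0)) (.node (.leaf 0) (.leaf 0))) (.node (.node (.leaf 0) (.leaf 0)) (.node (.leaf 0) (.leaf 0)))) (.node (.node (.node (.leaf 0) (.leaf 0)) (.node (.leaf 0) (.leaf 0))) (.node (.node (.leaf 0) (.leaf 0)) (.node (.leaf 0) (.leaf 0))))) (.node (.node (.node (.node (.leaf 0) (.leaf 0)) (.node (.leaf 0) (.leaf 0))) (.node (.node (.leaf 0) (.leaf 0)) (.node (.leaf 0) (.leaf 0)))) (.node (.node (.node (.leaf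 0) (.leaf 0)) (.node (.leaf 0) (.leaf 0))) (.node (.node (.leaf 0) (.leaf 0)) (.node (.leaf 0) (.leaf 0))))))))) (.node (.node (.node (.node (.node (.node (.node (.node (.leaf 0) (.leaf 0)) (.node (.leaf 0) (.leaf 0))) (.node (.node (.leaf 0) (.leaf 0)) (.node (.leaf 0) (.leaf 0)))) (.node (.node (.node (.leaf 0) (.leaf 0)) (.node (.leaf 0) (.leaf 0))) (.node (.node (.leaf 0) (.leaf 0)) (.node (.leaf 0) (.leaf 0))))) (.node (.node (.node (.node (.leaf 0) (.leaf 0)) (.node (.leaf 0) (.leaf 0))) (.node (.node (.leaf 0) (.leaf 0)) (.node (.leaf 0) (.leaf 0)))) (.node (.node (.node (.leaf 0) (.leaf 0)) (.node (.leaf 0) (.leaf 0))) (.node (.node (.leaf 0) (.leaf 0)) (.node (.leaf 0) (.leaf 0)))))) (.node (.node (.node (.node (.node (.leaf 0) (.leaf 0)) (.node (.leaf 0) (.leaf 0))) (.node (.node (.leaf 0) (.leaf 0)) (.node (.leaf 0) (.leaf 0)))) (.node (.node (.node (.leaf 0) (.leaf 0)) (.node (.leaf 0) (.leaf 0))) (.node (.node (.leaf 0) (.leaf 0)) (.node (.leaf 0) (.leaf 0))))) (.node (.node (.node (.node (.leaf 0) (.leaf 0)) (.node (.leaf 0)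 (.leaf 0))) (.node (.node (.leaf 0) (.leaf 0)) (.node (.leaf 0) (.leaf 0)))) (.node (.node (.node (.leaf 0) (.leaf 0)) (.node (.leaf 0) (.leaf 0))) (.node (.node (.leaf 0) (.leaf 0)) (.node (.leaf 0) (.leaf 1032))))))) (.node (.node (.node (.node (.node (.node (.leaf 0) (.leaf 0)) (.node (.leaf 0) (.leaf 0))) (.node (.node (.leaf 0) (.leaf 0)) (.node (.leaf 0) (.leaf 0)))) (.node (.node (.node (.leaf 0) (.leaf 0)) (.node (.leaf 0) (.leaf 0))) (.node (.node (.leaf 0) (.leaf 0)) (.node (.leaf 0) (.leaf 0))))) (.node (.node (.node (.node (.leaf 0) (.leaf 0)) (.node (.leaf 0) (.leaf 0))) (.node (.node (.leaf 0) (.leaf 0)) (.node (.leaf 0) (.leaf 0)))) (.node (.node (.node (.leaf 0) (.leaf 0)) (.node (.leaf 858) (.leaf 0))) (.node (.node (.leaf 0) (.leaf 0)) (.node (.leaf 0) (.leaf 0)))))) (.node (.node (.node (.node (.node (.leaf 0) (.leaf 0)) (.node (.leaf 0) (.leaf 0))) (.node (.node (.leaf 0) (.leaf 0)) (.node (.leaf 0) (.leaf 0)))) (.node (.node (.node (.leaf 0) (.leaf 0)) (.node (.leaf 0) (.leaf 0))) (.node (.node (.leaf 0) (.leaf 0)) (.node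 (.leaf 0) (.leaf 0))))) (.node (.node (.node (.node (.leaf 0) (.leaf 0)) (.node (.leaf 0) (.leaf 0))) (.node (.node (.leaf 0) (.leaf 0)) (.node (.leaf 0) (.leaf 0)))) (.node (.node (.node (.leaf 0) (.leaf 0)) (.node (.leaf 0) (.leaf 0))) (.node (.node (.leaf 0) (.leaf 0)) (.node (.leaf 0) (.leaf 0)))))))) (.node (.node (.node (.node (.node (.node (.node (.leaf 0) (.leaf 0)) (.node (.leaf 0) (.leaf 0))) (.node (.node (.leaf 0) (.leaf 0)) (.node (.leaf 0) (.leaf 0)))) (.node (.node (.node (.leaf 0) (.leaf 0)) (.node (.leaf 0) (.leaf 0))) (.node (.node (.leaf 0) (.leaf 0)) (.node (.leaf 0) (.leaf 0))))) (.node (.node (.node (.node (.leaf 0) (.leaf 0)) (.node (.leaf 0) (.leaf 0))) (.node (.node (.leaf 0) (.leaf 0)) (.node (.leaf 0) (.leaf 0)))) (.node (.node (.node (.leaf 0) (.leaf 0)) (.node (.leaf 0) (.leaf 0))) (.node (.node (.leaf 0) (.leaf 0)) (.node (.leaf 0) (.leaf 0)))))) (.node (.node (.node (.node (.node (.leaf 0) (.leaf 0)) (.node (.leaf 0) (.leaf 0))) (.node (.node (.leaf 0) (.leaf 0)) (.node (.leaf 0) (.leaf 0)))) (.node (.node (.node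 (.leaf 0) (.leaf 0)) (.node (.leaf 0) (.leaf 0))) (.node (.node (.leaf 0) (.leaf 0)) (.node (.leaf 0) (.leaf 0))))) (.node (.node (.node (.node (.leaf 0) (.leaf 0)) (.node (.leaf 0) (.leaf 0))) (.node (.node (.leaf 0) (.leaf 0)) (.node (.leaf 0) (.leaf 0)))) (.node (.node (.node (.leaf 0) (.leaf 0)) (.node (.leaf 0) (.leaf 0))) (.node (.node (.leaf 0) (.leaf 0)) (.node (.leaf 0) (.leaf 0))))))) (.node (.node (.node (.node (.node (.node (.leaf 0) (.leaf 0)) (.node (.leaf 0) (.leaf 0))) (.node (.node (.leaf 0) (.leaf 0)) (.node (.leaf 0) (.leaf 0)))) (.node (.node (.node (.leaf 0) (.leaf 0)) (.node (.leaf 0) (.leaf 0))) (.node (.node (.leaf 0) (.leaf 0)) (.node (.leaf 0) (.leaf 0))))) (.node (.node (.node (.node (.leaf 0) (.leaf 0)) (.node (.leaf 0) (.leaf 0))) (.node (.node (.leaf 0) (.leaf 0)) (.node (.leaf 0) (.leaf 0)))) (.node (.node (.node (.leaf 0) (.leaf 0)) (.node (.leaf 0) (.leaf 0))) (.node (.node (.leaf 0) (.leaf 0)) (.node (.leaf 0) (.leaf 0)))))) (.node (.node (.node (.node (.node (.leaf 0) (.leaf 0)) (.node (.leaf 0) (.leaf 0)))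 (.node (.node (.leaf 0) (.leaf 0)) (.node (.leaf 0) (.leaf 0)))) (.node (.node (.node (.leaf 0) (.leaf 0)) (.node (.leaf 0) (.leaf 0))) (.node (.node (.leaf 0) (.leaf 0)) (.node (.leaf 0) (.leaf 0))))) (.node (.node (.node (.node (.leaf 0) (.leaf 0)) (.node (.leaf 0) (.leaf 0))) (.node (.node (.leaf 0) (.leaf 0)) (.node (.leaf 0) (.leaf 0)))) (.node (.node (.node (.leaf 0) (.leaf 0)) (.node (.leaf 0) (.leaf 0))) (.node (.node (.leaf 0) (.leaf 0)) (.node (.leaf 0) (.leaf 0))))))))))) (.node (.node (.node (.node (.node (.node (.node (.node (.node (.node (.leaf 0) (.leaf 0)) (.node (.leaf 0) (.leaf 0))) (.node (.node (.leaf 0) (.leaf 0)) (.node (.leaf 0) (.leaf 0)))) (.node (.node (.node (.leaf 831) (.leaf 0)) (.node (.leaf 0) (.leaf 0))) (.node (.node (.leaf 0) (.leaf 0)) (.node (.leaf 0) (.leaf 0))))) (.node (.node (.node (.node (.leaf 0) (.leaf 0)) (.node (.leaf 0) (.leaf 0))) (.node (.node (.leaf 0) (.leaf 0)) (.node (.leaf 0) (.leaf 0)))) (.node (.node (.node (.leaf 0) (.leaf 0)) (.node (.leaf 0) (.leaf 0))) (.node (.node (.leaf 0) (.leaf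 0)) (.node (.leaf 0) (.leaf 0)))))) (.node (.node (.node (.node (.node (.leaf 0) (.leaf 0)) (.node (.leaf 0) (.leaf 1059))) (.node (.node (.leaf 0) (.leaf 0)) (.node (.leaf 0) (.leaf 0)))) (.node (.node (.node (.leaf 0) (.leaf 0)) (.node (.leaf 0) (.leaf 0))) (.node (.node (.leaf 0) (.leaf 0)) (.node (.leaf 0) (.leaf 0))))) (.node (.node (.node (.node (.leaf 0) (.leaf 0)) (.node (.leaf 0) (.leaf 0))) (.node (.node (.leaf 0) (.leaf 0)) (.node (.leaf 0) (.leaf 0)))) (.node (.node (.node (.leaf 0) (.leaf 0)) (.node (.leaf 0) (.leaf 0))) (.node (.node (.leaf 0) (.leaf 0)) (.node (.leaf 0) (.leaf 0))))))) (.node (.node (.node (.node (.node (.node (.leaf 0) (.leaf 0)) (.node (.leaf 0) (.leaf 0))) (.node (.node (.leaf 0) (.leaf 0)) (.node (.leaf 0) (.leaf 0)))) (.node (.node (.node (.leaf 0) (.leaf 0)) (.node (.leaf 0) (.leaf 0))) (.node (.node (.leaf 0) (.leaf 0)) (.node (.leaf 0) (.leaf 0))))) (.node (.node (.node (.node (.leaf 0) (.leaf 0)) (.node (.leaf 0) (.leaf 0))) (.node (.node (.leaf 0) (.leaf 0)) (.node (.leaf 0) (.leaf 0)))) (.node (.node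 (.node (.leaf 0) (.leaf 0)) (.node (.leaf 0) (.leaf 0))) (.node (.node (.leaf 0) (.leaf 0)) (.node (.leaf 0) (.leaf 0)))))) (.node (.node (.node (.node (.node (.leaf 0) (.leaf 0)) (.node (.leaf 0) (.leaf 0))) (.node (.node (.leaf 0) (.leaf 0)) (.node (.leaf 0) (.leaf 0)))) (.node (.node (.node (.leaf 0) (.leaf 0)) (.node (.leaf 0) (.leaf 0))) (.node (.node (.leaf 0) (.leaf 0)) (.node (.leaf 0) (.leaf 0))))) (.node (.node (.node (.node (.leaf 0) (.leaf 0)) (.node (.leaf 0) (.leaf 0))) (.node (.node (.leaf 0) (.leaf 0)) (.node (.leaf 0) (.leaf 0)))) (.node (.node (.node (.leaf 0) (.leaf 0)) (.node (.leaf 0) (.leaf 0))) (.node (.node (.leaf 0) (.leaf 0)) (.node (.leaf 0) (.leaf 0)))))))) (.node (.node (.node (.node (.node (.node (.node (.leaf 0) (.leaf 0)) (.node (.leaf 0) (.leaf 0))) (.node (.node (.leaf 0) (.leaf 0)) (.node (.leaf 0) (.leaf 0)))) (.node (.node (.node (.leaf 0) (.leaf 0)) (.node (.leaf 0) (.leaf 0))) (.node (.node (.leaf 0) (.leaf 0)) (.node (.leaf 0) (.leaf 0))))) (.node (.node (.node (.node (.leaf 0) (.leaf 0)) (.node (.leaf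 0) (.leaf 0))) (.node (.node (.leaf 0) (.leaf 0)) (.node (.leaf 0) (.leaf 0)))) (.node (.node (.node (.leaf 0) (.leaf 0)) (.node (.leaf 0) (.leaf 0))) (.node (.node (.leaf 0) (.leaf 0)) (.node (.leaf 0) (.leaf 0)))))) (.node (.node (.node (.node (.node (.leaf 0) (.leaf 0)) (.node (.leaf 0) (.leaf 0))) (.node (.node (.leaf 0) (.leaf 0)) (.node (.leaf 0) (.leaf 0)))) (.node (.node (.node (.leaf 0) (.leaf 0)) (.node (.leaf 0) (.leaf 0))) (.node (.node (.leaf 0) (.leaf 0)) (.node (.leaf 0) (.leaf 0))))) (.node (.node (.node (.node (.leaf 0) (.leaf 0)) (.node (.leaf 0) (.leaf 0))) (.node (.node (.leaf 0) (.leaf 0)) (.node (.leaf 0) (.leaf 0)))) (.node (.node (.node (.leaf 0) (.leaf 0)) (.node (.leaf 0) (.leaf 0))) (.node (.node (.leaf 0) (.leaf 0)) (.node (.leaf 0) (.leaf 0))))))) (.node (.node (.node (.node (.node (.node (.leaf 0) (.leaf 0)) (.node (.leaf 0) (.leaf 0))) (.node (.node (.leaf 0) (.leaf 0)) (.node (.leaf 0) (.leaf 0)))) (.node (.node (.node (.leaf 0) (.leaf 0)) (.node (.leaf 0) (.leaf 0))) (.node (.node (.leaf 0) (.leaf 0)) (.node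 (.leaf 0) (.leaf 0))))) (.node (.node (.node (.node (.leaf 0) (.leaf 0)) (.node (.leaf 0) (.leaf 0))) (.node (.node (.leaf 0) (.leaf 0)) (.node (.leaf 0) (.leaf 0)))) (.node (.node (.node (.leaf 0) (.leaf 0)) (.node (.leaf 0) (.leaf 0))) (.node (.node (.leaf 0) (.leaf 0)) (.node (.leaf 0) (.leaf 0)))))) (.node (.node (.node (.node (.node (.leaf 0) (.leaf 0)) (.node (.leaf 0) (.leaf 0))) (.node (.node (.leaf 0) (.leaf 0)) (.node (.leaf 0) (.leaf 0)))) (.node (.node (.node (.leaf 0) (.leaf 0)) (.node (.leaf 0) (.leaf 0))) (.node (.node (.leaf 0) (.leaf 0)) (.node (.leaf 1763) (.leaf 0))))) (.node (.node (.node (.node (.leaf 0) (.leaf 0)) (.node (.leaf 0) (.leaf 0))) (.node (.node (.leaf 0) (.leaf 0)) (.node (.leaf 0) (.leaf 0)))) (.node (.node (.node (.leaf 0) (.leaf 0)) (.node (.leaf 0) (.leaf 0))) (.node (.node (.leaf 0) (.leaf 0)) (.node (.leaf 0) (.leaf 0))))))))) (.node (.node (.node (.node (.node (.node (.node (.node (.leaf 0) (.leaf 0)) (.node (.leaf 0) (.leaf 0))) (.node (.node (.leaf 0) (.leaf 0)) (.node (.leaf 0) (.leaf 0)))) (.node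 (.node (.node (.leaf 0) (.leaf 0)) (.node (.leaf 0) (.leaf 0))) (.node (.node (.leaf 0) (.leaf 0)) (.node (.leaf 0) (.leaf 0))))) (.node (.node (.node (.node (.leaf 0) (.leaf 0)) (.node (.leaf 0) (.leaf 0))) (.node (.node (.leaf 0) (.leaf 0)) (.node (.leaf 0) (.leaf 0)))) (.node (.node (.node (.leaf 0) (.leaf 0)) (.node (.leaf 0) (.leaf 0))) (.node (.node (.leaf 0) (.leaf 0)) (.node (.leaf 0) (.leaf 0)))))) (.node (.node (.node (.node (.node (.leaf 0) (.leaf 0)) (.node (.leaf 0) (.leaf 0))) (.node (.node (.leaf 0) (.leaf 0)) (.node (.leaf 0) (.leaf 0)))) (.node (.node (.node (.leaf 0) (.leaf 0)) (.node (.leaf 0) (.leaf 0))) (.node (.node (.leaf 0) (.leaf 0)) (.node (.leaf 0) (.leaf 0))))) (.node (.node (.node (.node (.leaf 0) (.leaf 0)) (.node (.leaf 0) (.leaf 0))) (.node (.node (.leaf 0) (.leaf 0)) (.node (.leaf 0) (.leaf 0)))) (.node (.node (.node (.leaf 0) (.leaf 0)) (.node (.leaf 0) (.leaf 0))) (.node (.node (.leaf 0) (.leaf 0)) (.node (.leaf 0) (.leaf 0))))))) (.node (.node (.node (.node (.node (.node (.leaf 0) (.leaf 0)) (.node (.leaf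 0) (.leaf 0))) (.node (.node (.leaf 0) (.leaf 0)) (.node (.leaf 0) (.leaf 0)))) (.node (.node (.node (.leaf 0) (.leaf 0)) (.node (.leaf 0) (.leaf 0))) (.node (.node (.leaf 0) (.leaf 0)) (.node (.leaf 0) (.leaf 0))))) (.node (.node (.node (.node (.leaf 0) (.leaf 0)) (.node (.leaf 0) (.leaf 0))) (.node (.node (.leaf 0) (.leaf 0)) (.node (.leaf 0) (.leaf 0)))) (.node (.node (.node (.leaf 0) (.leaf 0)) (.node (.leaf 0) (.leaf 0))) (.node (.node (.leaf 0) (.leaf 0)) (.node (.leaf 0) (.leaf 0)))))) (.node (.node (.node (.node (.node (.leaf 0) (.leaf 0)) (.node (.leaf 2020) (.leaf 0))) (.node (.node (.leaf 0) (.leaf 0)) (.node (.leaf 0) (.leaf 0)))) (.node (.node (.node (.leaf 0) (.leaf 0)) (.node (.leaf 0) (.leaf 0))) (.node (.node (.leaf 0) (.leaf 0)) (.node (.leaf 0) (.leaf 0))))) (.node (.node (.node (.node (.leaf 0) (.leaf 0)) (.node (.leaf 0) (.leaf 0))) (.node (.node (.leaf 0) (.leaf 0)) (.node (.leaf 0) (.leaf 0)))) (.node (.node (.node (.leaf 0) (.leaf 0)) (.node (.leaf 0) (.leaf 0))) (.node (.node (.leaf 0) (.leaf 0)) (.node (.leaf 0) (.leaf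 0)))))))) (.node (.node (.node (.node (.node (.node (.node (.leaf 0) (.leaf 0)) (.node (.leaf 0) (.leaf 0))) (.node (.node (.leaf 0) (.leaf 0)) (.node (.leaf 0) (.leaf 0)))) (.node (.node (.node (.leaf 0) (.leaf 0)) (.node (.leaf 0) (.leaf 0))) (.node (.node (.leaf 0) (.leaf 0)) (.node (.leaf 0) (.leaf 0))))) (.node (.node (.node (.node (.leaf 0) (.leaf 0)) (.node (.leaf 0) (.leaf 0))) (.node (.node (.leaf 0) (.leaf 0)) (.node (.leaf 0) (.leaf 0)))) (.node (.node (.node (.leaf 0) (.leaf 0)) (.node (.leaf 0) (.leaf 0))) (.node (.node (.leaf 0) (.leaf 0)) (.node (.leaf 0) (.leaf 0)))))) (.node (.node (.node (.node (.node (.leaf 0) (.leaf 0)) (.node (.leaf 0) (.leaf 0))) (.node (.node (.leaf 0) (.leaf 0)) (.node (.leaf 0) (.leaf 0)))) (.node (.node (.node (.leaf 0) (.leaf 0)) (.node (.leaf 0) (.leaf 0))) (.node (.node (.leaf 0) (.leaf 0)) (.node (.leaf 0) (.leaf 0))))) (.node (.node (.node (.node (.leaf 0) (.leaf 0)) (.node (.leaf 0) (.leaf 0))) (.node (.node (.leaf 0) (.leaf 0)) (.node (.leaf 0) (.leaf 0)))) (.node (.node (.node (.leaf 0) (.leaf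 0)) (.node (.leaf 0) (.leaf 0))) (.node (.node (.leaf 0) (.leaf 0)) (.node (.leaf 0) (.leaf 0))))))) (.node (.node (.node (.node (.node (.node (.leaf 0) (.leaf 0)) (.node (.leaf 0) (.leaf 0))) (.node (.node (.leaf 0) (.leaf 0)) (.node (.leaf 0) (.leaf 0)))) (.node (.node (.node (.leaf 0) (.leaf 0)) (.node (.leaf 0) (.leaf 0))) (.node (.node (.leaf 0) (.leaf 0)) (.node (.leaf 0) (.leaf 0))))) (.node (.node (.node (.node (.leaf 0) (.leaf 0)) (.node (.leaf 0) (.leaf 0))) (.node (.node (.leaf 0) (.leaf 0)) (.node (.leaf 0) (.leaf 0)))) (.node (.node (.node (.leaf 0) (.leaf 0)) (.node (.leaf 0) (.leaf 0))) (.node (.node (.leaf 0) (.leaf 0)) (.node (.leaf 0) (.leaf 0)))))) (.node (.node (.node (.node (.node (.leaf 0) (.leaf 0)) (.node (.leaf 0) (.leaf 0))) (.node (.node (.leaf 0) (.leaf 0)) (.node (.leaf 0) (.leaf 0)))) (.node (.node (.node (.leaf 0) (.leaf 0)) (.node (.leaf 0) (.leaf 0))) (.node (.node (.leaf 0) (.leaf 0)) (.node (.leaf 0) (.leaf 0))))) (.node (.node (.node (.node (.leaf 0) (.leaf 0)) (.node (.leaf 0) (.leaf 0))) (.node (.node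 (.leaf 0) (.leaf 0)) (.node (.leaf 0) (.leaf 0)))) (.node (.node (.node (.leaf 0) (.leaf 0)) (.node (.leaf 0) (.leaf 0))) (.node (.node (.leaf 0) (.leaf 0)) (.node (.leaf 0) (.leaf 0)))))))))) (.node (.node (.node (.node (.node (.node (.node (.node (.node (.leaf 0) (.leaf 0)) (.node (.leaf 0) (.leaf 0))) (.node (.node (.leaf 0) (.leaf 0)) (.node (.leaf 0) (.leaf 0)))) (.node (.node (.node (.leaf 0) (.leaf 0)) (.node (.leaf 0) (.leaf 0))) (.node (.node (.leaf 0) (.leaf 0)) (.node (.leaf 0) (.leaf 0))))) (.node (.node (.node (.node (.leaf 0) (.leaf 0)) (.node (.leaf 0) (.leaf 0))) (.node (.node (.leaf 0) (.leaf 0)) (.node (.leaf 0) (.leaf 0)))) (.node (.node (.node (.leaf 0) (.leaf 0)) (.node (.leaf 0) (.leaf 0))) (.node (.node (.leaf 0) (.leaf 0)) (.node (.leaf 0) (.leaf 0)))))) (.node (.node (.node (.node (.node (.leaf 0) (.leaf 0)) (.node (.leaf 0) (.leaf 0))) (.node (.node (.leaf 0) (.leaf 0)) (.node (.leaf 0) (.leaf 0)))) (.node (.node (.node (.leaf 0) (.leaf 0)) (.node (.leaf 0) (.leaf 0))) (.node (.node (.leaf 0) (.leaf 0)) (.node (.leaf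 0) (.leaf 0))))) (.node (.node (.node (.node (.leaf 0) (.leaf 0)) (.node (.leaf 0) (.leaf 0))) (.node (.node (.leaf 0) (.leaf 0)) (.node (.leaf 1650) (.leaf 0)))) (.node (.node (.node (.leaf 0) (.leaf 0)) (.node (.leaf 0) (.leaf 0))) (.node (.node (.leaf 0) (.leaf 0)) (.node (.leaf 0) (.leaf 0))))))) (.node (.node (.node (.node (.node (.node (.leaf 0) (.leaf 0)) (.node (.leaf 0) (.leaf 0))) (.node (.node (.leaf 0) (.leaf 0)) (.node (.leaf 0) (.leaf 0)))) (.node (.node (.node (.leaf 0) (.leaf 0)) (.node (.leaf 0) (.leaf 0))) (.node (.node (.leaf 0) (.leaf 0)) (.node (.leaf 0) (.leaf 0))))) (.node (.node (.node (.node (.leaf 0) (.leaf 0)) (.node (.leaf 0) (.leaf 0))) (.node (.node (.leaf 0) (.leaf 0)) (.node (.leaf 0) (.leaf 0)))) (.node (.node (.node (.leaf 0) (.leaf 0)) (.node (.leaf 0) (.leaf 0))) (.node (.node (.leaf 0) (.leaf 0)) (.node (.leaf 0) (.leaf 0)))))) (.node (.node (.node (.node (.node (.leaf 0) (.leaf 0)) (.node (.leaf 0) (.leaf 0))) (.node (.node (.leaf 0) (.leaf 0)) (.node (.leaf 0) (.leaf 0)))) (.node (.node (.node (.leaf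 0) (.leaf 0)) (.node (.leaf 0) (.leaf 0))) (.node (.node (.leaf 0) (.leaf 0)) (.node (.leaf 0) (.leaf 0))))) (.node (.node (.node (.node (.leaf 0) (.leaf 0)) (.node (.leaf 1590) (.leaf 0))) (.node (.node (.leaf 0) (.leaf 0)) (.node (.leaf 0) (.leaf 0)))) (.node (.node (.node (.leaf 0) (.leaf 0)) (.node (.leaf 0) (.leaf 0))) (.node (.node (.leaf 0) (.leaf 0)) (.node (.leaf 0) (.leaf 0)))))))) (.node (.node (.node (.node (.node (.node (.node (.leaf 0) (.leaf 0)) (.node (.leaf 0) (.leaf 0))) (.node (.node (.leaf 0) (.leaf 0)) (.node (.leaf 0) (.leaf 0)))) (.node (.node (.node (.leaf 0) (.leaf 0)) (.node (.leaf 0) (.leaf 0))) (.node (.node (.leaf 0) (.leaf 0)) (.node (.leaf 0) (.leaf 0))))) (.node (.node (.node (.node (.leaf 1938) (.leaf 0)) (.node (.leaf 0) (.leaf 0))) (.node (.node (.leaf 0) (.leaf 0)) (.node (.leaf 0) (.leaf 0)))) (.node (.node (.node (.leaf 0) (.leaf 0)) (.node (.leaf 0) (.leaf 0))) (.node (.node (.leaf 0) (.leaf 0)) (.node (.leaf 0) (.leaf 0)))))) (.node (.node (.node (.node (.node (.leaf 0) (.leaf 0)) (.node (.leaf 0) (.leaf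 0))) (.node (.node (.leaf 0) (.leaf 0)) (.node (.leaf 0) (.leaf 0)))) (.node (.node (.node (.leaf 0) (.leaf 0)) (.node (.leaf 0) (.leaf 0))) (.node (.node (.leaf 0) (.leaf 0)) (.node (.leaf 0) (.leaf 0))))) (.node (.node (.node (.node (.leaf 0) (.leaf 0)) (.node (.leaf 0) (.leaf 0))) (.node (.node (.leaf 0) (.leaf 0)) (.node (.leaf 0) (.leaf 0)))) (.node (.node (.node (.leaf 0) (.leaf 0)) (.node (.leaf 0) (.leaf 0))) (.node (.node (.leaf 0) (.leaf 0)) (.node (.leaf 0) (.leaf 0))))))) (.node (.node (.node (.node (.node (.node (.leaf 0) (.leaf 0)) (.node (.leaf 0) (.leaf 0))) (.node (.node (.leaf 0) (.leaf 0)) (.node (.leaf 0) (.leaf 0)))) (.node (.node (.node (.leaf 0) (.leaf 0)) (.node (.leaf 0) (.leaf 0))) (.node (.node (.leaf 0) (.leaf 0)) (.node (.leaf 0) (.leaf 0))))) (.node (.node (.node (.node (.leaf 0) (.leaf 0)) (.node (.leaf 0) (.leaf 0))) (.node (.node (.leaf 0) (.leaf 0)) (.node (.leaf 0) (.leaf 0)))) (.node (.node (.node (.leaf 0) (.leaf 0)) (.node (.leaf 0) (.leaf 0))) (.node (.node (.leaf 0) (.leaf 0)) (.node (.leaf 0) (.leaf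 0)))))) (.node (.node (.node (.node (.node (.leaf 0) (.leaf 0)) (.node (.leaf 0) (.leaf 1262))) (.node (.node (.leaf 0) (.leaf 0)) (.node (.leaf 0) (.leaf 0)))) (.node (.node (.node (.leaf 0) (.leaf 0)) (.node (.leaf 0) (.leaf 0))) (.node (.node (.leaf 0) (.leaf 0)) (.node (.leaf 0) (.leaf 0))))) (.node (.node (.node (.node (.leaf 0) (.leaf 0)) (.node (.leaf 0) (.leaf 0))) (.node (.node (.leaf 0) (.leaf 0)) (.node (.leaf 0) (.leaf 0)))) (.node (.node (.node (.leaf 0) (.leaf 0)) (.node (.leaf 0) (.leaf 0))) (.node (.node (.leaf 0) (.leaf 0)) (.node (.leaf 0) (.leaf 0))))))))) (.node (.node (.node (.node (.node (.node (.node (.node (.leaf 0) (.leaf 0)) (.node (.leaf 0) (.leaf 0))) (.node (.node (.leaf 0) (.leaf 0)) (.node (.leaf 0) (.leaf 0)))) (.node (.node (.node (.leaf 0) (.leaf 0)) (.node (.leaf 0) (.leaf 0))) (.node (.node (.leaf 0) (.leaf 0)) (.node (.leaf 0) (.leaf 0))))) (.node (.node (.node (.node (.leaf 0) (.leaf 0)) (.node (.leaf 0) (.leaf 0))) (.node (.node (.leaf 0) (.leaf 0)) (.node (.leaf 0) (.leaf 0)))) (.node (.node (.node (.leaf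 0) (.leaf 0)) (.node (.leaf 0) (.leaf 0))) (.node (.node (.leaf 0) (.leaf 0)) (.node (.leaf 0) (.leaf 0)))))) (.node (.node (.node (.node (.node (.leaf 0) (.leaf 0)) (.node (.leaf 0) (.leaf 0))) (.node (.node (.leaf 0) (.leaf 0)) (.node (.leaf 0) (.leaf 0)))) (.node (.node (.node (.leaf 0) (.leaf 0)) (.node (.leaf 0) (.leaf 0))) (.node (.node (.leaf 0) (.leaf 0)) (.node (.leaf 0) (.leaf 0))))) (.node (.node (.node (.node (.leaf 0) (.leaf 0)) (.node (.leaf 0) (.leaf 0))) (.node (.node (.leaf 0) (.leaf 0)) (.node (.leaf 0) (.leaf 0)))) (.node (.node (.node (.leaf 0) (.leaf 0)) (.node (.leaf 0) (.leaf 0))) (.node (.node (.leaf 0) (.leaf 0)) (.node (.leaf 0) (.leaf 0))))))) (.node (.node (.node (.node (.node (.node (.leaf 0) (.leaf 0)) (.node (.leaf 0) (.leaf 0))) (.node (.node (.leaf 0) (.leaf 0)) (.node (.leaf 0) (.leaf 0)))) (.node (.node (.node (.leaf 0) (.leaf 0)) (.node (.leaf 0) (.leaf 0))) (.node (.node (.leaf 0) (.leaf 0)) (.node (.leaf 0) (.leaf 0))))) (.node (.node (.node (.node (.leaf 0) (.leaf 0)) (.node (.leaf 0) (.leaf 0))) (.node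 (.node (.leaf 0) (.leaf 0)) (.node (.leaf 0) (.leaf 0)))) (.node (.node (.node (.leaf 0) (.leaf 0)) (.node (.leaf 0) (.leaf 0))) (.node (.node (.leaf 0) (.leaf 0)) (.node (.leaf 0) (.leaf 0)))))) (.node (.node (.node (.node (.node (.leaf 0) (.leaf 0)) (.node (.leaf 0) (.leaf 0))) (.node (.node (.leaf 0) (.leaf 0)) (.node (.leaf 0) (.leaf 0)))) (.node (.node (.node (.leaf 0) (.leaf 0)) (.node (.leaf 0) (.leaf 0))) (.node (.node (.leaf 0) (.leaf 0)) (.node (.leaf 0) (.leaf 0))))) (.node (.node (.node (.node (.leaf 0) (.leaf 0)) (.node (.leaf 0) (.leaf 0))) (.node (.node (.leaf 0) (.leaf 0)) (.node (.leaf 0) (.leaf 0)))) (.node (.node (.node (.leaf 0) (.leaf 0)) (.node (.leaf 0) (.leaf 0))) (.node (.node (.leaf 0) (.leaf 0)) (.node (.leaf 0) (.leaf 0)))))))) (.node (.node (.node (.node (.node (.node (.node (.leaf 0) (.leaf 0)) (.node (.leaf 0) (.leaf 0))) (.node (.node (.leaf 0) (.leaf 0)) (.node (.leaf 0) (.leaf 0)))) (.node (.node (.node (.leaf 0) (.leaf 0)) (.node (.leaf 0) (.leaf 0))) (.node (.node (.leaf 0) (.leaf 0)) (.node (.leaf 0) (.leaf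 0))))) (.node (.node (.node (.node (.leaf 0) (.leaf 0)) (.node (.leaf 1680) (.leaf 0))) (.node (.node (.leaf 0) (.leaf 0)) (.node (.leaf 0) (.leaf 0)))) (.node (.node (.node (.leaf 0) (.leaf 0)) (.node (.leaf 0) (.leaf 0))) (.node (.node (.leaf 0) (.leaf 0)) (.node (.leaf 0) (.leaf 0)))))) (.node (.node (.node (.node (.node (.leaf 0) (.leaf 0)) (.node (.leaf 0) (.leaf 0))) (.node (.node (.leaf 0) (.leaf 0)) (.node (.leaf 0) (.leaf 0)))) (.node (.node (.node (.leaf 0) (.leaf 0)) (.node (.leaf 0) (.leaf 0))) (.node (.node (.leaf 0) (.leaf 0)) (.node (.leaf 0) (.leaf 0))))) (.node (.node (.node (.node (.leaf 0) (.leaf 0)) (.node (.leaf 0) (.leaf 0))) (.node (.node (.leaf 0) (.leaf 0)) (.node (.leaf 0) (.leaf 0)))) (.node (.node (.node (.leaf 0) (.leaf 0)) (.node (.leaf 0) (.leaf 0))) (.node (.node (.leaf 0) (.leaf 0)) (.node (.leaf 0) (.leaf 0))))))) (.node (.node (.node (.node (.node (.node (.leaf 0) (.leaf 0)) (.node (.leaf 0) (.leaf 0))) (.node (.node (.leaf 0) (.leaf 0)) (.node (.leaf 0) (.leaf 0)))) (.node (.node (.node (.leaf 0) (.leaf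 0)) (.node (.leaf 0) (.leaf 0))) (.node (.node (.leaf 0) (.leaf 0)) (.node (.leaf 0) (.leaf 0))))) (.node (.node (.node (.node (.leaf 0) (.leaf 0)) (.node (.leaf 0) (.leaf 0))) (.node (.node (.leaf 0) (.leaf 0)) (.node (.leaf 0) (.leaf 0)))) (.node (.node (.node (.leaf 0) (.leaf 0)) (.node (.leaf 0) (.leaf 0))) (.node (.node (.leaf 0) (.leaf 0)) (.node (.leaf 0) (.leaf 0)))))) (.node (.node (.node (.node (.node (.leaf 0) (.leaf 0)) (.node (.leaf 0) (.leaf 0))) (.node (.node (.leaf 1378) (.leaf 0)) (.node (.leaf 0) (.leaf 0)))) (.node (.node (.node (.leaf 0) (.leaf 0)) (.node (.leaf 0) (.leaf 0))) (.node (.node (.leaf 0) (.leaf 0)) (.node (.leaf 0) (.leaf 0))))) (.node (.node (.node (.node (.leaf 0) (.leaf 0)) (.node (.leaf 0) (.leaf 0))) (.node (.node (.leaf 0) (.leaf 0)) (.node (.leaf 0) (.leaf 0)))) (.node (.node (.node (.leaf 0) (.leaf 0)) (.node (.leaf 0) (.leaf 0))) (.node (.node (.leaf 0) (.leaf 0)) (.node (.leaf 0) (.leaf 0)))))))))))) (.node (.node (.node (.node (.node (.node (.node (.node (.node (.node (.node (.leaf 0) (.leaf 0))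 (.node (.leaf 0) (.leaf 0))) (.node (.node (.leaf 0) (.leaf 0)) (.node (.leaf 0) (.leaf 0)))) (.node (.node (.node (.leaf 0) (.leaf 0)) (.node (.leaf 0) (.leaf 0))) (.node (.node (.leaf 0) (.leaf 0)) (.node (.leaf 0) (.leaf 0))))) (.node (.node (.node (.node (.leaf 0) (.leaf 0)) (.node (.leaf 0) (.leaf 0))) (.node (.node (.leaf 0) (.leaf 0)) (.node (.leaf 0) (.leaf 0)))) (.node (.node (.node (.leaf 0) (.leaf 0)) (.node (.leaf 0) (.leaf 0))) (.node (.node (.leaf 0) (.leaf 0)) (.node (.leaf 0) (.leaf 0)))))) (.node (.node (.node (.node (.node (.leaf 0) (.leaf 0)) (.node (.leaf 0) (.leaf 0))) (.node (.node (.leaf 0) (.leaf 0)) (.node (.leaf 0) (.leaf 0)))) (.node (.node (.node (.leaf 0) (.leaf 0)) (.node (.leaf 0) (.leaf 0))) (.node (.node (.leaf 0) (.leaf 0)) (.node (.leaf 0) (.leaf 0))))) (.node (.node (.node (.node (.leaf 0) (.leaf 0)) (.node (.leaf 0) (.leaf 0))) (.node (.node (.leaf 0) (.leaf 0)) (.node (.leaf 0) (.leaf 0)))) (.node (.node (.node (.leaf 0) (.leaf 0)) (.node (.leaf 0) (.leaf 0))) (.node (.node (.leaf 0) (.leaf 0)) (.node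 (.leaf 0) (.leaf 0))))))) (.node (.node (.node (.node (.node (.node (.leaf 0) (.leaf 0)) (.node (.leaf 0) (.leaf 0))) (.node (.node (.leaf 0) (.leaf 0)) (.node (.leaf 0) (.leaf 0)))) (.node (.node (.node (.leaf 0) (.leaf 0)) (.node (.leaf 0) (.leaf 0))) (.node (.node (.leaf 0) (.leaf 0)) (.node (.leaf 0) (.leaf 0))))) (.node (.node (.node (.node (.leaf 0) (.leaf 0)) (.node (.leaf 0) (.leaf 0))) (.node (.node (.leaf 0) (.leaf 0)) (.node (.leaf 0) (.leaf 0)))) (.node (.node (.node (.leaf 0) (.leaf 0)) (.node (.leaf 0) (.leaf 0))) (.node (.node (.leaf 0) (.leaf 0)) (.node (.leaf 0) (.leaf 0)))))) (.node (.node (.node (.node (.node (.leaf 0) (.leaf 0)) (.node (.leaf 0) (.leaf 0))) (.node (.node (.leaf 0) (.leaf 0)) (.node (.leaf 0) (.leaf 0)))) (.node (.node (.node (.leaf 0) (.leaf 0)) (.node (.leaf 0) (.leaf 0))) (.node (.node (.leaf 0) (.leaf 0)) (.node (.leaf 0) (.leaf 0))))) (.node (.node (.node (.node (.leaf 0) (.leaf 0)) (.node (.leaf 0) (.leaf 0))) (.node (.node (.leaf 0) (.leaf 0)) (.node (.leaf 0) (.leaf 0)))) (.node (.node (.node (.leaf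 0) (.leaf 0)) (.node (.leaf 0) (.leaf 0))) (.node (.node (.leaf 0) (.leaf 0)) (.node (.leaf 0) (.leaf 0)))))))) (.node (.node (.node (.node (.node (.node (.node (.leaf 0) (.leaf 0)) (.node (.leaf 0) (.leaf 0))) (.node (.node (.leaf 0) (.leaf 0)) (.node (.leaf 0) (.leaf 0)))) (.node (.node (.node (.leaf 0) (.leaf 0)) (.node (.leaf 0) (.leaf 0))) (.node (.node (.leaf 0) (.leaf 0)) (.node (.leaf 0) (.leaf 0))))) (.node (.node (.node (.node (.leaf 0) (.leaf 0)) (.node (.leaf 0) (.leaf 0))) (.node (.node (.leaf 0) (.leaf 0)) (.node (.leaf 0) (.leaf 0)))) (.node (.node (.node (.leaf 0) (.leaf 0)) (.node (.leaf 0) (.leaf 0))) (.node (.node (.leaf 0) (.leaf 0)) (.node (.leaf 0) (.leaf 0)))))) (.node (.node (.node (.node (.node (.leaf 0) (.leaf 0)) (.node (.leaf 0) (.leaf 0))) (.node (.node (.leaf 0) (.leaf 0)) (.node (.leaf 0) (.leaf 0)))) (.node (.node (.node (.leaf 0) (.leaf 0)) (.node (.leaf 0) (.leaf 0))) (.node (.node (.leaf 0) (.leaf 0)) (.node (.leaf 0) (.leaf 0))))) (.node (.node (.node (.node (.leaf 0) (.leaf 0)) (.node (.leaf 0) (.leaf 0)))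 (.node (.node (.leaf 0) (.leaf 0)) (.node (.leaf 0) (.leaf 0)))) (.node (.node (.node (.leaf 0) (.leaf 0)) (.node (.leaf 0) (.leaf 0))) (.node (.node (.leaf 0) (.leaf 0)) (.node (.leaf 0) (.leaf 0))))))) (.node (.node (.node (.node (.node (.node (.leaf 0) (.leaf 0)) (.node (.leaf 0) (.leaf 0))) (.node (.node (.leaf 0) (.leaf 0)) (.node (.leaf 0) (.leaf 0)))) (.node (.node (.node (.leaf 0) (.leaf 0)) (.node (.leaf 0) (.leaf 0))) (.node (.node (.leaf 0) (.leaf 0)) (.node (.leaf 0) (.leaf 0))))) (.node (.node (.node (.node (.leaf 0) (.leaf 0)) (.node (.leaf 0) (.leaf 0))) (.node (.node (.leaf 0) (.leaf 0)) (.node (.leaf 0) (.leaf 0)))) (.node (.node (.node (.leaf 0) (.leaf 0)) (.node (.leaf 0) (.leaf 0))) (.node (.node (.leaf 0) (.leaf 0)) (.node (.leaf 0) (.leaf 0)))))) (.node (.node (.node (.node (.node (.leaf 0) (.leaf 0)) (.node (.leaf 0) (.leaf 0))) (.node (.node (.leaf 0) (.leaf 0)) (.node (.leaf 0) (.leaf 0)))) (.node (.node (.node (.leaf 0) (.leaf 0)) (.node (.leaf 0) (.leaf 0))) (.node (.node (.leaf 0) (.leaf 0)) (.node (.leaf 0) (.leaf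 0))))) (.node (.node (.node (.node (.leaf 0) (.leaf 0)) (.node (.leaf 0) (.leaf 0))) (.node (.node (.leaf 0) (.leaf 0)) (.node (.leaf 0) (.leaf 0)))) (.node (.node (.node (.leaf 0) (.leaf 0)) (.node (.leaf 0) (.leaf 0))) (.node (.node (.leaf 0) (.leaf 0)) (.node (.leaf 0) (.leaf 0))))))))) (.node (.node (.node (.node (.node (.node (.node (.node (.leaf 0) (.leaf 0)) (.node (.leaf 0) (.leaf 0))) (.node (.node (.leaf 0) (.leaf 0)) (.node (.leaf 0) (.leaf 0)))) (.node (.node (.node (.leaf 0) (.leaf 0)) (.node (.leaf 0) (.leaf 0))) (.node (.node (.leaf 0) (.leaf 0)) (.node (.leaf 0) (.leaf 0))))) (.node (.node (.node (.node (.leaf 0) (.leaf 0)) (.node (.leaf 0) (.leaf 0))) (.node (.node (.leaf 0) (.leaf 0)) (.node (.leaf 0) (.leaf 0)))) (.node (.node (.node (.leaf 0) (.leaf 0)) (.node (.leaf 0) (.leaf 0))) (.node (.node (.leaf 0) (.leaf 0)) (.node (.leaf 0) (.leaf 0)))))) (.node (.node (.node (.node (.node (.leaf 0) (.leaf 0)) (.node (.leaf 0) (.leaf 0))) (.node (.node (.leaf 0) (.leaf 0)) (.node (.leaf 0) (.leaf 0)))) (.node (.node (.node (.leaf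 0) (.leaf 0)) (.node (.leaf 0) (.leaf 0))) (.node (.node (.leaf 0) (.leaf 0)) (.node (.leaf 0) (.leaf 0))))) (.node (.node (.node (.node (.leaf 0) (.leaf 0)) (.node (.leaf 0) (.leaf 0))) (.node (.node (.leaf 0) (.leaf 0)) (.node (.leaf 0) (.leaf 0)))) (.node (.node (.node (.leaf 0) (.leaf 0)) (.node (.leaf 0) (.leaf 0))) (.node (.node (.leaf 0) (.leaf 0)) (.node (.leaf 0) (.leaf 0))))))) (.node (.node (.node (.node (.node (.node (.leaf 0) (.leaf 0)) (.node (.leaf 0) (.leaf 0))) (.node (.node (.leaf 0) (.leaf 0)) (.node (.leaf 0) (.leaf 0)))) (.node (.node (.node (.leaf 0) (.leaf 0)) (.node (.leaf 0) (.leaf 0))) (.node (.node (.leaf 0) (.leaf 0)) (.node (.leaf 0) (.leaf 0))))) (.node (.node (.node (.node (.leaf 0) (.leaf 0)) (.node (.leaf 0) (.leaf 0))) (.node (.node (.leaf 0) (.leaf 0)) (.node (.leaf 0) (.leaf 0)))) (.node (.node (.node (.leaf 0) (.leaf 0)) (.node (.leaf 0) (.leaf 0))) (.node (.node (.leaf 0) (.leaf 0)) (.node (.leaf 0) (.leaf 0)))))) (.node (.node (.node (.node (.node (.leaf 0) (.leaf 0)) (.node (.leaf 0) (.leaf 0))) (.node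 (.node (.leaf 0) (.leaf 0)) (.node (.leaf 0) (.leaf 0)))) (.node (.node (.node (.leaf 0) (.leaf 0)) (.node (.leaf 0) (.leaf 0))) (.node (.node (.leaf 0) (.leaf 0)) (.node (.leaf 0) (.leaf 0))))) (.node (.node (.node (.node (.leaf 0) (.leaf 0)) (.node (.leaf 0) (.leaf 0))) (.node (.node (.leaf 0) (.leaf 0)) (.node (.leaf 0) (.leaf 0)))) (.node (.node (.node (.leaf 0) (.leaf 0)) (.node (.leaf 0) (.leaf 0))) (.node (.node (.leaf 0) (.leaf 0)) (.node (.leaf 0) (.leaf 0)))))))) (.node (.node (.node (.node (.node (.node (.node (.leaf 0) (.leaf 0)) (.node (.leaf 0) (.leaf 0))) (.node (.node (.leaf 0) (.leaf 0)) (.node (.leaf 0) (.leaf 0)))) (.node (.node (.node (.leaf 0) (.leaf 0)) (.node (.leaf 0) (.leaf 0))) (.node (.node (.leaf 0) (.leaf 0)) (.node (.leaf 0) (.leaf 0))))) (.node (.node (.node (.node (.leaf 0) (.leaf 0)) (.node (.leaf 0) (.leaf 0))) (.node (.node (.leaf 0) (.leaf 0)) (.node (.leaf 0) (.leaf 0)))) (.node (.node (.node (.leaf 0) (.leaf 0)) (.node (.leaf 0) (.leaf 0))) (.node (.node (.leaf 0) (.leaf 0)) (.node (.leaf 0) (.leaf 0))))))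 (.node (.node (.node (.node (.node (.leaf 0) (.leaf 0)) (.node (.leaf 0) (.leaf 0))) (.node (.node (.leaf 0) (.leaf 0)) (.node (.leaf 0) (.leaf 0)))) (.node (.node (.node (.leaf 0) (.leaf 0)) (.node (.leaf 0) (.leaf 0))) (.node (.node (.leaf 0) (.leaf 0)) (.node (.leaf 0) (.leaf 0))))) (.node (.node (.node (.node (.leaf 0) (.leaf 0)) (.node (.leaf 0) (.leaf 0))) (.node (.node (.leaf 0) (.leaf 0)) (.node (.leaf 0) (.leaf 0)))) (.node (.node (.node (.leaf 0) (.leaf 0)) (.node (.leaf 0) (.leaf 0))) (.node (.node (.leaf 0) (.leaf 0)) (.node (.leaf 0) (.leaf 0))))))) (.node (.node (.node (.node (.node (.node (.leaf 0) (.leaf 0)) (.node (.leaf 0) (.leaf 0))) (.node (.node (.leaf 0) (.leaf 0)) (.node (.leaf 0) (.leaf 0)))) (.node (.node (.node (.leaf 0) (.leaf 0)) (.node (.leaf 0) (.leaf 0))) (.node (.node (.leaf 0) (.leaf 0)) (.node (.leaf 0) (.leaf 0))))) (.node (.node (.node (.node (.leaf 0) (.leaf 0)) (.node (.leaf 0) (.leaf 0))) (.node (.node (.leaf 0) (.leaf 0)) (.node (.leaf 0) (.leaf 0)))) (.node (.node (.node (.leaf 0) (.leaf 0)) (.node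 (.leaf 0) (.leaf 0))) (.node (.node (.leaf 0) (.leaf 0)) (.node (.leaf 0) (.leaf 0)))))) (.node (.node (.node (.node (.node (.leaf 0) (.leaf 0)) (.node (.leaf 0) (.leaf 0))) (.node (.node (.leaf 0) (.leaf 0)) (.node (.leaf 0) (.leaf 0)))) (.node (.node (.node (.leaf 0) (.leaf 0)) (.node (.leaf 0) (.leaf 0))) (.node (.node (.leaf 0) (.leaf 0)) (.node (.leaf 0) (.leaf 0))))) (.node (.node (.node (.node (.leaf 0) (.leaf 0)) (.node (.leaf 0) (.leaf 0))) (.node (.node (.leaf 0) (.leaf 0)) (.node (.leaf 0) (.leaf 0)))) (.node (.node (.node (.leaf 0) (.leaf 0)) (.node (.leaf 0) (.leaf 0))) (.node (.node (.leaf 0) (.leaf 0)) (.node (.leaf 0) (.leaf 0)))))))))) (.node (.node (.node (.node (.node (.node (.node (.node (.node (.leaf 0) (.leaf 0)) (.node (.leaf 0) (.leaf 0))) (.node (.node (.leaf 0) (.leaf 0)) (.node (.leaf 0) (.leaf 0)))) (.node (.node (.node (.leaf 0) (.leaf 0)) (.node (.leaf 0) (.leaf 0))) (.node (.node (.leaf 0) (.leaf 0)) (.node (.leaf 0) (.leaf 0))))) (.node (.node (.node (.node (.leaf 0) (.leaf 0)) (.node (.leaf 0) (.leaf 0))) (.node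 (.node (.leaf 0) (.leaf 0)) (.node (.leaf 0) (.leaf 0)))) (.node (.node (.node (.leaf 0) (.leaf 0)) (.node (.leaf 0) (.leaf 0))) (.node (.node (.leaf 0) (.leaf 0)) (.node (.leaf 0) (.leaf 0)))))) (.node (.node (.node (.node (.node (.leaf 0) (.leaf 0)) (.node (.leaf 0) (.leaf 0))) (.node (.node (.leaf 0) (.leaf 0)) (.node (.leaf 0) (.leaf 0)))) (.node (.node (.node (.leaf 0) (.leaf 0)) (.node (.leaf 0) (.leaf 0))) (.node (.node (.leaf 0) (.leaf 0)) (.node (.leaf 0) (.leaf 0))))) (.node (.node (.node (.node (.leaf 0) (.leaf 0)) (.node (.leaf 0) (.leaf 0))) (.node (.node (.leaf 0) (.leaf 0)) (.node (.leaf 0) (.leaf 0)))) (.node (.node (.node (.leaf 0) (.leaf 0)) (.node (.leaf 0) (.leaf 0))) (.node (.node (.leaf 0) (.leaf 0)) (.node (.leaf 0) (.leaf 0))))))) (.node (.node (.node (.node (.node (.node (.leaf 0) (.leaf 0)) (.node (.leaf 0) (.leaf 0))) (.node (.node (.leaf 0) (.leaf 0)) (.node (.leaf 0) (.leaf 0)))) (.node (.node (.node (.leaf 0) (.leaf 0)) (.node (.leaf 0) (.leaf 0))) (.node (.node (.leaf 0) (.leaf 0)) (.node (.leaf 0) (.leaf 0)))))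 (.node (.node (.node (.node (.leaf 0) (.leaf 0)) (.node (.leaf 0) (.leaf 0))) (.node (.node (.leaf 0) (.leaf 0)) (.node (.leaf 0) (.leaf 0)))) (.node (.node (.node (.leaf 0) (.leaf 0)) (.node (.leaf 0) (.leaf 0))) (.node (.node (.leaf 0) (.leaf 0)) (.node (.leaf 0) (.leaf 0)))))) (.node (.node (.node (.node (.node (.leaf 0) (.leaf 0)) (.node (.leaf 0) (.leaf 0))) (.node (.node (.leaf 0) (.leaf 0)) (.node (.leaf 0) (.leaf 0)))) (.node (.node (.node (.leaf 0) (.leaf 0)) (.node (.leaf 0) (.leaf 0))) (.node (.node (.leaf 0) (.leaf 0)) (.node (.leaf 0) (.leaf 0))))) (.node (.node (.node (.node (.leaf 0) (.leaf 0)) (.node (.leaf 0) (.leaf 0))) (.node (.node (.leaf 0) (.leaf 0)) (.node (.leaf 0) (.leaf 0)))) (.node (.node (.node (.leaf 0) (.leaf 0)) (.node (.leaf 0) (.leaf 0))) (.node (.node (.leaf 0) (.leaf 0)) (.node (.leaf 0) (.leaf 0)))))))) (.node (.node (.node (.node (.node (.node (.node (.leaf 0) (.leaf 0)) (.node (.leaf 0) (.leaf 0))) (.node (.node (.leaf 0) (.leaf 0)) (.node (.leaf 0) (.leaf 0)))) (.node (.node (.node (.leaf 0) (.leaf 0))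 (.node (.leaf 0) (.leaf 0))) (.node (.node (.leaf 0) (.leaf 0)) (.node (.leaf 0) (.leaf 0))))) (.node (.node (.node (.node (.leaf 0) (.leaf 0)) (.node (.leaf 0) (.leaf 0))) (.node (.node (.leaf 0) (.leaf 0)) (.node (.leaf 0) (.leaf 0)))) (.node (.node (.node (.leaf 0) (.leaf 0)) (.node (.leaf 0) (.leaf 0))) (.node (.node (.leaf 0) (.leaf 0)) (.node (.leaf 0) (.leaf 0)))))) (.node (.node (.node (.node (.node (.leaf 0) (.leaf 0)) (.node (.leaf 0) (.leaf 0))) (.node (.node (.leaf 0) (.leaf 0)) (.node (.leaf 0) (.leaf 0)))) (.node (.node (.node (.leaf 0) (.leaf 0)) (.node (.leaf 0) (.leaf 0))) (.node (.node (.leaf 0) (.leaf 0)) (.node (.leaf 0) (.leaf 0))))) (.node (.node (.node (.node (.leaf 0) (.leaf 0)) (.node (.leaf 0) (.leaf 0))) (.node (.node (.leaf 0) (.leaf 0)) (.node (.leaf 0) (.leaf 0)))) (.node (.node (.node (.leaf 0) (.leaf 0)) (.node (.leaf 0) (.leaf 0))) (.node (.node (.leaf 0) (.leaf 0)) (.node (.leaf 0) (.leaf 0))))))) (.node (.node (.node (.node (.node (.node (.leaf 0) (.leaf 0)) (.node (.leaf 0) (.leaf 0))) (.node (.node (.leaf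 0) (.leaf 0)) (.node (.leaf 0) (.leaf 0)))) (.node (.node (.node (.leaf 0) (.leaf 0)) (.node (.leaf 0) (.leaf 0))) (.node (.node (.leaf 0) (.leaf 0)) (.node (.leaf 0) (.leaf 0))))) (.node (.node (.node (.node (.leaf 0) (.leaf 0)) (.node (.leaf 0) (.leaf 0))) (.node (.node (.leaf 0) (.leaf 0)) (.node (.leaf 0) (.leaf 0)))) (.node (.node (.node (.leaf 0) (.leaf 0)) (.node (.leaf 0) (.leaf 0))) (.node (.node (.leaf 0) (.leaf 0)) (.node (.leaf 0) (.leaf 0)))))) (.node (.node (.node (.node (.node (.leaf 0) (.leaf 0)) (.node (.leaf 0) (.leaf 0))) (.node (.node (.leaf 0) (.leaf 0)) (.node (.leaf 0) (.leaf 0)))) (.node (.node (.node (.leaf 0) (.leaf 0)) (.node (.leaf 0) (.leaf 0))) (.node (.node (.leaf 0) (.leaf 0)) (.node (.leaf 0) (.leaf 0))))) (.node (.node (.node (.node (.leaf 0) (.leaf 0)) (.node (.leaf 0) (.leaf 0))) (.node (.node (.leaf 0) (.leaf 0)) (.node (.leaf 0) (.leaf 0)))) (.node (.node (.node (.leaf 0) (.leaf 0)) (.node (.leaf 0) (.leaf 0))) (.node (.node (.leaf 0) (.leaf 0)) (.node (.leaf 0) (.leaf 0))))))))) (.node (.node (.node (.node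 (.node (.node (.node (.node (.leaf 0) (.leaf 0)) (.node (.leaf 0) (.leaf 0))) (.node (.node (.leaf 0) (.leaf 0)) (.node (.leaf 0) (.leaf 0)))) (.node (.node (.node (.leaf 0) (.leaf 0)) (.node (.leaf 0) (.leaf 0))) (.node (.node (.leaf 0) (.leaf 0)) (.node (.leaf 0) (.leaf 0))))) (.node (.node (.node (.node (.leaf 0) (.leaf 0)) (.node (.leaf 0) (.leaf 0))) (.node (.node (.leaf 0) (.leaf 0)) (.node (.leaf 0) (.leaf 0)))) (.node (.node (.node (.leaf 0) (.leaf 0)) (.node (.leaf 0) (.leaf 0))) (.node (.node (.leaf 0) (.leaf 0)) (.node (.leaf 0) (.leaf 0)))))) (.node (.node (.node (.node (.node (.leaf 0) (.leaf 0)) (.node (.leaf 0) (.leaf 0))) (.node (.node (.leaf 0) (.leaf 0)) (.node (.leaf 0) (.leaf 0)))) (.node (.node (.node (.leaf 0) (.leaf 0)) (.node (.leaf 0) (.leaf 0))) (.node (.node (.leaf 0) (.leaf 0)) (.node (.leaf 0) (.leaf 0))))) (.node (.node (.node (.node (.leaf 0) (.leaf 0)) (.node (.leaf 0) (.leaf 0))) (.node (.node (.leaf 0) (.leaf 0)) (.node (.leaf 0) (.leaf 0)))) (.node (.node (.node (.leaf 0) (.leaf 0)) (.node (.leaf 0) (.leaf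 0))) (.node (.node (.leaf 0) (.leaf 0)) (.node (.leaf 0) (.leaf 0))))))) (.node (.node (.node (.node (.node (.node (.leaf 0) (.leaf 0)) (.node (.leaf 0) (.leaf 0))) (.node (.node (.leaf 0) (.leaf 0)) (.node (.leaf 0) (.leaf 0)))) (.node (.node (.node (.leaf 0) (.leaf 0)) (.node (.leaf 0) (.leaf 0))) (.node (.node (.leaf 0) (.leaf 0)) (.node (.leaf 0) (.leaf 0))))) (.node (.node (.node (.node (.leaf 0) (.leaf 0)) (.node (.leaf 0) (.leaf 0))) (.node (.node (.leaf 0) (.leaf 0)) (.node (.leaf 0) (.leaf 0)))) (.node (.node (.node (.leaf 0) (.leaf 0)) (.node (.leaf 0) (.leaf 0))) (.node (.node (.leaf 0) (.leaf 0)) (.node (.leaf 0) (.leaf 0)))))) (.node (.node (.node (.node (.node (.leaf 0) (.leaf 0)) (.node (.leaf 0) (.leaf 0))) (.node (.node (.leaf 0) (.leaf 0)) (.node (.leaf 0) (.leaf 0)))) (.node (.node (.node (.leaf 0) (.leaf 0)) (.node (.leaf 0) (.leaf 0))) (.node (.node (.leaf 0) (.leaf 0)) (.node (.leaf 0) (.leaf 0))))) (.node (.node (.node (.node (.leaf 0) (.leaf 0)) (.node (.leaf 0) (.leaf 0))) (.node (.node (.leaf 0) (.leaf 0)) (.node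 (.leaf 0) (.leaf 0)))) (.node (.node (.node (.leaf 0) (.leaf 0)) (.node (.leaf 0) (.leaf 0))) (.node (.node (.leaf 0) (.leaf 0)) (.node (.leaf 0) (.leaf 0)))))))) (.node (.node (.node (.node (.node (.node (.node (.leaf 0) (.leaf 0)) (.node (.leaf 0) (.leaf 0))) (.node (.node (.leaf 0) (.leaf 0)) (.node (.leaf 0) (.leaf 0)))) (.node (.node (.node (.leaf 0) (.leaf 0)) (.node (.leaf 0) (.leaf 0))) (.node (.node (.leaf 0) (.leaf 0)) (.node (.leaf 0) (.leaf 0))))) (.node (.node (.node (.node (.leaf 0) (.leaf 0)) (.node (.leaf 0) (.leaf 0))) (.node (.node (.leaf 0) (.leaf 0)) (.node (.leaf 0) (.leaf 0)))) (.node (.node (.node (.leaf 0) (.leaf 0)) (.node (.leaf 0) (.leaf 0))) (.node (.node (.leaf 0) (.leaf 0)) (.node (.leaf 0) (.leaf 0)))))) (.node (.node (.node (.node (.node (.leaf 0) (.leaf 0)) (.node (.leaf 0) (.leaf 0))) (.node (.node (.leaf 0) (.leaf 0)) (.node (.leaf 0) (.leaf 0)))) (.node (.node (.node (.leaf 0) (.leaf 0)) (.node (.leaf 0) (.leaf 0))) (.node (.node (.leaf 0) (.leaf 0)) (.node (.leaf 0) (.leaf 0))))) (.node (.node (.node (.node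 (.leaf 0) (.leaf 0)) (.node (.leaf 0) (.leaf 0))) (.node (.node (.leaf 0) (.leaf 0)) (.node (.leaf 0) (.leaf 0)))) (.node (.node (.node (.leaf 0) (.leaf 0)) (.node (.leaf 0) (.leaf 0))) (.node (.node (.leaf 0) (.leaf 0)) (.node (.leaf 0) (.leaf 0))))))) (.node (.node (.node (.node (.node (.node (.leaf 0) (.leaf 0)) (.node (.leaf 0) (.leaf 0))) (.node (.node (.leaf 0) (.leaf 0)) (.node (.leaf 0) (.leaf 0)))) (.node (.node (.node (.leaf 0) (.leaf 0)) (.node (.leaf 0) (.leaf 0))) (.node (.node (.leaf 0) (.leaf 0)) (.node (.leaf 0) (.leaf 0))))) (.node (.node (.node (.node (.leaf 0) (.leaf 0)) (.node (.leaf 0) (.leaf 0))) (.node (.node (.leaf 0) (.leaf 0)) (.node (.leaf 0) (.leaf 0)))) (.node (.node (.node (.leaf 0) (.leaf 0)) (.node (.leaf 0) (.leaf 0))) (.node (.node (.leaf 0) (.leaf 0)) (.node (.leaf 0) (.leaf 0)))))) (.node (.node (.node (.node (.node (.leaf 0) (.leaf 0)) (.node (.leaf 0) (.leaf 0))) (.node (.node (.leaf 0) (.leaf 0)) (.node (.leaf 0) (.leaf 0)))) (.node (.node (.node (.leaf 0) (.leaf 0)) (.node (.leaf 0) (.leaf 0))) (.node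 (.node (.leaf 0) (.leaf 0)) (.node (.leaf 0) (.leaf 0))))) (.node (.node (.node (.node (.leaf 0) (.leaf 0)) (.node (.leaf 0) (.leaf 0))) (.node (.node (.leaf 0) (.leaf 0)) (.node (.leaf 0) (.leaf 0)))) (.node (.node (.node (.leaf 0) (.leaf 0)) (.node (.leaf 0) (.leaf 0))) (.node (.node (.leaf 0) (.leaf 0)) (.node (.leaf 0) (.leaf 0))))))))))) (.node (.node (.node (.node (.node (.node (.node (.node (.node (.node (.leaf 0) (.leaf 0)) (.node (.leaf 0) (.leaf 0))) (.node (.node (.leaf 0) (.leaf 0)) (.node (.leaf 0) (.leaf 0)))) (.node (.node (.node (.leaf 0) (.leaf 0)) (.node (.leaf 0) (.leaf 0))) (.node (.node (.leaf 0) (.leaf 0)) (.node (.leaf 0) (.leaf 0))))) (.node (.node (.node (.node (.leaf 0) (.leaf 0)) (.node (.leaf 0) (.leaf 0))) (.node (.node (.leaf 0) (.leaf 0)) (.node (.leaf 0) (.leaf 0)))) (.node (.node (.node (.leaf 0) (.leaf 0)) (.node (.leaf 0) (.leaf 0))) (.node (.node (.leaf 0) (.leaf 0)) (.node (.leaf 0) (.leaf 0)))))) (.node (.node (.node (.node (.node (.leaf 0) (.leaf 0)) (.node (.leaf 0) (.leaf 0))) (.node (.node (.leaf 0)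 (.leaf 0)) (.node (.leaf 0) (.leaf 0)))) (.node (.node (.node (.leaf 0) (.leaf 0)) (.node (.leaf 0) (.leaf 0))) (.node (.node (.leaf 0) (.leaf 0)) (.node (.leaf 0) (.leaf 0))))) (.node (.node (.node (.node (.leaf 0) (.leaf 0)) (.node (.leaf 0) (.leaf 0))) (.node (.node (.leaf 0) (.leaf 0)) (.node (.leaf 0) (.leaf 0)))) (.node (.node (.node (.leaf 0) (.leaf 0)) (.node (.leaf 0) (.leaf 0))) (.node (.node (.leaf 0) (.leaf 0)) (.node (.leaf 0) (.leaf 0))))))) (.node (.node (.node (.node (.node (.node (.leaf 0) (.leaf 0)) (.node (.leaf 0) (.leaf 0))) (.node (.node (.leaf 0) (.leaf 0)) (.node (.leaf 0) (.leaf 0)))) (.node (.node (.node (.leaf 0) (.leaf 0)) (.node (.leaf 0) (.leaf 0))) (.node (.node (.leaf 0) (.leaf 0)) (.node (.leaf 0) (.leaf 0))))) (.node (.node (.node (.node (.leaf 0) (.leaf 0)) (.node (.leaf 0) (.leaf 0))) (.node (.node (.leaf 0) (.leaf 0)) (.node (.leaf 0) (.leaf 0)))) (.node (.node (.node (.leaf 0) (.leaf 0)) (.node (.leaf 0) (.leaf 0))) (.node (.node (.leaf 0) (.leaf 0)) (.node (.leaf 0) (.leaf 0)))))) (.node (.node (.node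 (.node (.node (.leaf 0) (.leaf 0)) (.node (.leaf 0) (.leaf 0))) (.node (.node (.leaf 0) (.leaf 0)) (.node (.leaf 0) (.leaf 0)))) (.node (.node (.node (.leaf 0) (.leaf 0)) (.node (.leaf 0) (.leaf 0))) (.node (.node (.leaf 0) (.leaf 0)) (.node (.leaf 0) (.leaf 0))))) (.node (.node (.node (.node (.leaf 0) (.leaf 0)) (.node (.leaf 0) (.leaf 0))) (.node (.node (.leaf 0) (.leaf 0)) (.node (.leaf 0) (.leaf 0)))) (.node (.node (.node (.leaf 0) (.leaf 0)) (.node (.leaf 0) (.leaf 0))) (.node (.node (.leaf 0) (.leaf 0)) (.node (.leaf 0) (.leaf 0)))))))) (.node (.node (.node (.node (.node (.node (.node (.leaf 0) (.leaf 0)) (.node (.leaf 0) (.leaf 0))) (.node (.node (.leaf 0) (.leaf 0)) (.node (.leaf 0) (.leaf 0)))) (.node (.node (.node (.leaf 0) (.leaf 0)) (.node (.leaf 0) (.leaf 0))) (.node (.node (.leaf 0) (.leaf 0)) (.node (.leaf 0) (.leaf 0))))) (.node (.node (.node (.node (.leaf 0) (.leaf 0)) (.node (.leaf 0) (.leaf 0))) (.node (.node (.leaf 0) (.leaf 0)) (.node (.leaf 0) (.leaf 0)))) (.node (.node (.node (.leaf 0) (.leaf 0)) (.node (.leaf 0) (.leaf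 0))) (.node (.node (.leaf 0) (.leaf 0)) (.node (.leaf 0) (.leaf 0)))))) (.node (.node (.node (.node (.node (.leaf 0) (.leaf 0)) (.node (.leaf 0) (.leaf 0))) (.node (.node (.leaf 0) (.leaf 0)) (.node (.leaf 0) (.leaf 0)))) (.node (.node (.node (.leaf 0) (.leaf 0)) (.node (.leaf 0) (.leaf 0))) (.node (.node (.leaf 0) (.leaf 0)) (.node (.leaf 0) (.leaf 0))))) (.node (.node (.node (.node (.leaf 0) (.leaf 0)) (.node (.leaf 0) (.leaf 0))) (.node (.node (.leaf 0) (.leaf 0)) (.node (.leaf 0) (.leaf 0)))) (.node (.node (.node (.leaf 0) (.leaf 0)) (.node (.leaf 0) (.leaf 0))) (.node (.node (.leaf 0) (.leaf 0)) (.node (.leaf 0) (.leaf 0))))))) (.node (.node (.node (.node (.node (.node (.leaf 0) (.leaf 0)) (.node (.leaf 0) (.leaf 0))) (.node (.node (.leaf 0) (.leaf 0)) (.node (.leaf 0) (.leaf 0)))) (.node (.node (.node (.leaf 0) (.leaf 0)) (.node (.leaf 0) (.leaf 0))) (.node (.node (.leaf 0) (.leaf 0)) (.node (.leaf 0) (.leaf 0))))) (.node (.node (.node (.node (.leaf 0) (.leaf 0)) (.node (.leaf 0) (.leaf 0))) (.node (.node (.leaf 0) (.leaf 0)) (.node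 (.leaf 0) (.leaf 0)))) (.node (.node (.node (.leaf 0) (.leaf 0)) (.node (.leaf 0) (.leaf 0))) (.node (.node (.leaf 0) (.leaf 0)) (.node (.leaf 0) (.leaf 0)))))) (.node (.node (.node (.node (.node (.leaf 0) (.leaf 0)) (.node (.leaf 0) (.leaf 0))) (.node (.node (.leaf 0) (.leaf 0)) (.node (.leaf 0) (.leaf 0)))) (.node (.node (.node (.leaf 0) (.leaf 0)) (.node (.leaf 0) (.leaf 0))) (.node (.node (.leaf 0) (.leaf 0)) (.node (.leaf 0) (.leaf 0))))) (.node (.node (.node (.node (.leaf 0) (.leaf 0)) (.node (.leaf 0) (.leaf 0))) (.node (.node (.leaf 0) (.leaf 0)) (.node (.leaf 0) (.leaf 0)))) (.node (.node (.node (.leaf 0) (.leaf 0)) (.node (.leaf 0) (.leaf 0))) (.node (.node (.leaf 0) (.leaf 0)) (.node (.leaf 0) (.leaf 0))))))))) (.node (.node (.node (.node (.node (.node (.node (.node (.leaf 0) (.leaf 0)) (.node (.leaf 0) (.leaf 0))) (.node (.node (.leaf 0) (.leaf 0)) (.node (.leaf 0) (.leaf 0)))) (.node (.node (.node (.leaf 0) (.leaf 0)) (.node (.leaf 0) (.leaf 0))) (.node (.node (.leaf 0) (.leaf 0)) (.node (.leaf 0) (.leaf 0))))) (.node (.node (.node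 (.node (.leaf 0) (.leaf 0)) (.node (.leaf 0) (.leaf 0))) (.node (.node (.leaf 0) (.leaf 0)) (.node (.leaf 0) (.leaf 0)))) (.node (.node (.node (.leaf 0) (.leaf 0)) (.node (.leaf 0) (.leaf 0))) (.node (.node (.leaf 0) (.leaf 0)) (.node (.leaf 0) (.leaf 0)))))) (.node (.node (.node (.node (.node (.leaf 0) (.leaf 0)) (.node (.leaf 0) (.leaf 0))) (.node (.node (.leaf 0) (.leaf 0)) (.node (.leaf 0) (.leaf 0)))) (.node (.node (.node (.leaf 0) (.leaf 0)) (.node (.leaf 0) (.leaf 0))) (.node (.node (.leaf 0) (.leaf 0)) (.node (.leaf 0) (.leaf 0))))) (.node (.node (.node (.node (.leaf 0) (.leaf 0)) (.node (.leaf 0) (.leaf 0))) (.node (.node (.leaf 0) (.leaf 0)) (.node (.leaf 0) (.leaf 0)))) (.node (.node (.node (.leaf 0) (.leaf 0)) (.node (.leaf 0) (.leaf 0))) (.node (.node (.leaf 0) (.leaf 0)) (.node (.leaf 0) (.leaf 0))))))) (.node (.node (.node (.node (.node (.node (.leaf 0) (.leaf 0)) (.node (.leaf 0) (.leaf 0))) (.node (.node (.leaf 0) (.leaf 0)) (.node (.leaf 0) (.leaf 0)))) (.node (.node (.node (.leaf 0) (.leaf 0)) (.node (.leaf 0) (.leaf 0)))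 (.node (.node (.leaf 0) (.leaf 0)) (.node (.leaf 0) (.leaf 0))))) (.node (.node (.node (.node (.leaf 0) (.leaf 0)) (.node (.leaf 0) (.leaf 0))) (.node (.node (.leaf 0) (.leaf 0)) (.node (.leaf 0) (.leaf 0)))) (.node (.node (.node (.leaf 0) (.leaf 0)) (.node (.leaf 0) (.leaf 0))) (.node (.node (.leaf 0) (.leaf 0)) (.node (.leaf 0) (.leaf 0)))))) (.node (.node (.node (.node (.node (.leaf 0) (.leaf 0)) (.node (.leaf 0) (.leaf 0))) (.node (.node (.leaf 0) (.leaf 0)) (.node (.leaf 0) (.leaf 0)))) (.node (.node (.node (.leaf 0) (.leaf 0)) (.node (.leaf 0) (.leaf 0))) (.node (.node (.leaf 0) (.leaf 0)) (.node (.leaf 0) (.leaf 0))))) (.node (.node (.node (.node (.leaf 0) (.leaf 0)) (.node (.leaf 0) (.leaf 0))) (.node (.node (.leaf 0) (.leaf 0)) (.node (.leaf 0) (.leaf 0)))) (.node (.node (.node (.leaf 0) (.leaf 0)) (.node (.leaf 0) (.leaf 0))) (.node (.node (.leaf 0) (.leaf 0)) (.node (.leaf 0) (.leaf 0)))))))) (.node (.node (.node (.node (.node (.node (.node (.leaf 0) (.leaf 0)) (.node (.leaf 0) (.leaf 0))) (.node (.node (.leaf 0) (.leaf 0)) (.node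 (.leaf 0) (.leaf 0)))) (.node (.node (.node (.leaf 0) (.leaf 0)) (.node (.leaf 0) (.leaf 0))) (.node (.node (.leaf 0) (.leaf 0)) (.node (.leaf 0) (.leaf 0))))) (.node (.node (.node (.node (.leaf 0) (.leaf 0)) (.node (.leaf 0) (.leaf 0))) (.node (.node (.leaf 0) (.leaf 0)) (.node (.leaf 0) (.leaf 0)))) (.node (.node (.node (.leaf 0) (.leaf 0)) (.node (.leaf 0) (.leaf 0))) (.node (.node (.leaf 0) (.leaf 0)) (.node (.leaf 0) (.leaf 0)))))) (.node (.node (.node (.node (.node (.leaf 0) (.leaf 0)) (.node (.leaf 0) (.leaf 0))) (.node (.node (.leaf 0) (.leaf 0)) (.node (.leaf 0) (.leaf 0)))) (.node (.node (.node (.leaf 0) (.leaf 0)) (.node (.leaf 0) (.leaf 0))) (.node (.node (.leaf 0) (.leaf 0)) (.node (.leaf 0) (.leaf 0))))) (.node (.node (.node (.node (.leaf 0) (.leaf 0)) (.node (.leaf 0) (.leaf 0))) (.node (.node (.leaf 0) (.leaf 0)) (.node (.leaf 0) (.leaf 0)))) (.node (.node (.node (.leaf 0) (.leaf 0)) (.node (.leaf 0) (.leaf 0))) (.node (.node (.leaf 0) (.leaf 0)) (.node (.leaf 0) (.leaf 0))))))) (.node (.node (.node (.node (.node (.node (.leaf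 0) (.leaf 0)) (.node (.leaf 0) (.leaf 0))) (.node (.node (.leaf 0) (.leaf 0)) (.node (.leaf 0) (.leaf 0)))) (.node (.node (.node (.leaf 0) (.leaf 0)) (.node (.leaf 0) (.leaf 0))) (.node (.node (.leaf 0) (.leaf 0)) (.node (.leaf 0) (.leaf 0))))) (.node (.node (.node (.node (.leaf 0) (.leaf 0)) (.node (.leaf 0) (.leaf 0))) (.node (.node (.leaf 0) (.leaf 0)) (.node (.leaf 0) (.leaf 0)))) (.node (.node (.node (.leaf 0) (.leaf 0)) (.node (.leaf 0) (.leaf 0))) (.node (.node (.leaf 0) (.leaf 0)) (.node (.leaf 0) (.leaf 0)))))) (.node (.node (.node (.node (.node (.leaf 0) (.leaf 0)) (.node (.leaf 0) (.leaf 0))) (.node (.node (.leaf 0) (.leaf 0)) (.node (.leaf 0) (.leaf 0)))) (.node (.node (.node (.leaf 0) (.leaf 0)) (.node (.leaf 0) (.leaf 0))) (.node (.node (.leaf 0) (.leaf 0)) (.node (.leaf 0) (.leaf 0))))) (.node (.node (.node (.node (.leaf 0) (.leaf 0)) (.node (.leaf 0) (.leaf 0))) (.node (.node (.leaf 0) (.leaf 0)) (.node (.leaf 0) (.leaf 0)))) (.node (.node (.node (.leaf 0) (.leaf 0)) (.node (.leaf 0) (.leaf 0))) (.node (.node (.leaf 0) (.leaf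 0)) (.node (.leaf 0) (.leaf 0)))))))))) (.node (.node (.node (.node (.node (.node (.node (.node (.node (.leaf 0) (.leaf 0)) (.node (.leaf 0) (.leaf 0))) (.node (.node (.leaf 0) (.leaf 0)) (.node (.leaf 0) (.leaf 0)))) (.node (.node (.node (.leaf 0) (.leaf 0)) (.node (.leaf 0) (.leaf 0))) (.node (.node (.leaf 0) (.leaf 0)) (.node (.leaf 0) (.leaf 0))))) (.node (.node (.node (.node (.leaf 0) (.leaf 0)) (.node (.leaf 0) (.leaf 0))) (.node (.node (.leaf 0) (.leaf 0)) (.node (.leaf 0) (.leaf 0)))) (.node (.node (.node (.leaf 0) (.leaf 0)) (.node (.leaf 0) (.leaf 0))) (.node (.node (.leaf 0) (.leaf 0)) (.node (.leaf 0) (.leaf 0)))))) (.node (.node (.node (.node (.node (.leaf 0) (.leaf 0)) (.node (.leaf 0) (.leaf 0))) (.node (.node (.leaf 0) (.leaf 0)) (.node (.leaf 0) (.leaf 0)))) (.node (.node (.node (.leaf 0) (.leaf 0)) (.node (.leaf 0) (.leaf 0))) (.node (.node (.leaf 0) (.leaf 0)) (.node (.leaf 0) (.leaf 0))))) (.node (.node (.node (.node (.leaf 0) (.leaf 0)) (.node (.leaf 0) (.leaf 0))) (.node (.node (.leaf 0) (.leaf 0)) (.node (.leaf 0) (.leaf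 0)))) (.node (.node (.node (.leaf 0) (.leaf 0)) (.node (.leaf 0) (.leaf 0))) (.node (.node (.leaf 0) (.leaf 0)) (.node (.leaf 0) (.leaf 0))))))) (.node (.node (.node (.node (.node (.node (.leaf 0) (.leaf 0)) (.node (.leaf 0) (.leaf 0))) (.node (.node (.leaf 0) (.leaf 0)) (.node (.leaf 0) (.leaf 0)))) (.node (.node (.node (.leaf 0) (.leaf 0)) (.node (.leaf 0) (.leaf 0))) (.node (.node (.leaf 0) (.leaf 0)) (.node (.leaf 0) (.leaf 0))))) (.node (.node (.node (.node (.leaf 0) (.leaf 0)) (.node (.leaf 0) (.leaf 0))) (.node (.node (.leaf 0) (.leaf 0)) (.node (.leaf 0) (.leaf 0)))) (.node (.node (.node (.leaf 0) (.leaf 0)) (.node (.leaf 0) (.leaf 0))) (.node (.node (.leaf 0) (.leaf 0)) (.node (.leaf 0) (.leaf 0)))))) (.node (.node (.node (.node (.node (.leaf 0) (.leaf 0)) (.node (.leaf 0) (.leaf 0))) (.node (.node (.leaf 0) (.leaf 0)) (.node (.leaf 0) (.leaf 0)))) (.node (.node (.node (.leaf 0) (.leaf 0)) (.node (.leaf 0) (.leaf 0))) (.node (.node (.leaf 0) (.leaf 0)) (.node (.leaf 0) (.leaf 0))))) (.node (.node (.node (.node (.leaf 0) (.leaf 0))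 (.node (.leaf 0) (.leaf 0))) (.node (.node (.leaf 0) (.leaf 0)) (.node (.leaf 0) (.leaf 0)))) (.node (.node (.node (.leaf 0) (.leaf 0)) (.node (.leaf 0) (.leaf 0))) (.node (.node (.leaf 0) (.leaf 0)) (.node (.leaf 0) (.leaf 0)))))))) (.node (.node (.node (.node (.node (.node (.node (.leaf 0) (.leaf 0)) (.node (.leaf 0) (.leaf 0))) (.node (.node (.leaf 0) (.leaf 0)) (.node (.leaf 0) (.leaf 0)))) (.node (.node (.node (.leaf 0) (.leaf 0)) (.node (.leaf 0) (.leaf 0))) (.node (.node (.leaf 0) (.leaf 0)) (.node (.leaf 0) (.leaf 0))))) (.node (.node (.node (.node (.leaf 0) (.leaf 0)) (.node (.leaf 0) (.leaf 0))) (.node (.node (.leaf 0) (.leaf 0)) (.node (.leaf 0) (.leaf 0)))) (.node (.node (.node (.leaf 0) (.leaf 0)) (.node (.leaf 0) (.leaf 0))) (.node (.node (.leaf 0) (.leaf 0)) (.node (.leaf 0) (.leaf 0)))))) (.node (.node (.node (.node (.node (.leaf 0) (.leaf 0)) (.node (.leaf 0) (.leaf 0))) (.node (.node (.leaf 0) (.leaf 0)) (.node (.leaf 0) (.leaf 0)))) (.node (.node (.node (.leaf 0) (.leaf 0)) (.node (.leaf 0) (.leaf 0))) (.node (.node (.leaf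 0) (.leaf 0)) (.node (.leaf 0) (.leaf 0))))) (.node (.node (.node (.node (.leaf 0) (.leaf 0)) (.node (.leaf 0) (.leaf 0))) (.node (.node (.leaf 0) (.leaf 0)) (.node (.leaf 0) (.leaf 0)))) (.node (.node (.node (.leaf 0) (.leaf 0)) (.node (.leaf 0) (.leaf 0))) (.node (.node (.leaf 0) (.leaf 0)) (.node (.leaf 0) (.leaf 0))))))) (.node (.node (.node (.node (.node (.node (.leaf 0) (.leaf 0)) (.node (.leaf 0) (.leaf 0))) (.node (.node (.leaf 0) (.leaf 0)) (.node (.leaf 0) (.leaf 0)))) (.node (.node (.node (.leaf 0) (.leaf 0)) (.node (.leaf 0) (.leaf 0))) (.node (.node (.leaf 0) (.leaf 0)) (.node (.leaf 0) (.leaf 0))))) (.node (.node (.node (.node (.leaf 0) (.leaf 0)) (.node (.leaf 0) (.leaf 0))) (.node (.node (.leaf 0) (.leaf 0)) (.node (.leaf 0) (.leaf 0)))) (.node (.node (.node (.leaf 0) (.leaf 0)) (.node (.leaf 0) (.leaf 0))) (.node (.node (.leaf 0) (.leaf 0)) (.node (.leaf 0) (.leaf 0)))))) (.node (.node (.node (.node (.node (.leaf 0) (.leaf 0)) (.node (.leaf 0) (.leaf 0))) (.node (.node (.leaf 0) (.leaf 0)) (.node (.leaf 0) (.leaf 0)))) (.node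 (.node (.node (.leaf 0) (.leaf 0)) (.node (.leaf 0) (.leaf 0))) (.node (.node (.leaf 0) (.leaf 0)) (.node (.leaf 0) (.leaf 0))))) (.node (.node (.node (.node (.leaf 0) (.leaf 0)) (.node (.leaf 0) (.leaf 0))) (.node (.node (.leaf 0) (.leaf 0)) (.node (.leaf 0) (.leaf 0)))) (.node (.node (.node (.leaf 0) (.leaf 0)) (.node (.leaf 0) (.leaf 0))) (.node (.node (.leaf 0) (.leaf 0)) (.node (.leaf 0) (.leaf 0))))))))) (.node (.node (.node (.node (.node (.node (.node (.node (.leaf 0) (.leaf 0)) (.node (.leaf 0) (.leaf 0))) (.node (.node (.leaf 0) (.leaf 0)) (.node (.leaf 0) (.leaf 0)))) (.node (.node (.node (.leaf 0) (.leaf 0)) (.node (.leaf 0) (.leaf 0))) (.node (.node (.leaf 0) (.leaf 0)) (.node (.leaf 0) (.leaf 0))))) (.node (.node (.node (.node (.leaf 0) (.leaf 0)) (.node (.leaf 0) (.leaf 0))) (.node (.node (.leaf 0) (.leaf 0)) (.node (.leaf 0) (.leaf 0)))) (.node (.node (.node (.leaf 0) (.leaf 0)) (.node (.leaf 0) (.leaf 0))) (.node (.node (.leaf 0) (.leaf 0)) (.node (.leaf 0) (.leaf 0)))))) (.node (.node (.node (.node (.node (.leaf 0) (.leaf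 0)) (.node (.leaf 0) (.leaf 0))) (.node (.node (.leaf 0) (.leaf 0)) (.node (.leaf 0) (.leaf 0)))) (.node (.node (.node (.leaf 0) (.leaf 0)) (.node (.leaf 0) (.leaf 0))) (.node (.node (.leaf 0) (.leaf 0)) (.node (.leaf 0) (.leaf 0))))) (.node (.node (.node (.node (.leaf 0) (.leaf 0)) (.node (.leaf 0) (.leaf 0))) (.node (.node (.leaf 0) (.leaf 0)) (.node (.leaf 0) (.leaf 0)))) (.node (.node (.node (.leaf 0) (.leaf 0)) (.node (.leaf 0) (.leaf 0))) (.node (.node (.leaf 0) (.leaf 0)) (.node (.leaf 0) (.leaf 0))))))) (.node (.node (.node (.node (.node (.node (.leaf 0) (.leaf 0)) (.node (.leaf 0) (.leaf 0))) (.node (.node (.leaf 0) (.leaf 0)) (.node (.leaf 0) (.leaf 0)))) (.node (.node (.node (.leaf 0) (.leaf 0)) (.node (.leaf 0) (.leaf 0))) (.node (.node (.leaf 0) (.leaf 0)) (.node (.leaf 0) (.leaf 0))))) (.node (.node (.node (.node (.leaf 0) (.leaf 0)) (.node (.leaf 0) (.leaf 0))) (.node (.node (.leaf 0) (.leaf 0)) (.node (.leaf 0) (.leaf 0)))) (.node (.node (.node (.leaf 0) (.leaf 0)) (.node (.leaf 0) (.leaf 0))) (.node (.node (.leaf 0) (.leaf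 0)) (.node (.leaf 0) (.leaf 0)))))) (.node (.node (.node (.node (.node (.leaf 0) (.leaf 0)) (.node (.leaf 0) (.leaf 0))) (.node (.node (.leaf 0) (.leaf 0)) (.node (.leaf 0) (.leaf 0)))) (.node (.node (.node (.leaf 0) (.leaf 0)) (.node (.leaf 0) (.leaf 0))) (.node (.node (.leaf 0) (.leaf 0)) (.node (.leaf 0) (.leaf 0))))) (.node (.node (.node (.node (.leaf 0) (.leaf 0)) (.node (.leaf 0) (.leaf 0))) (.node (.node (.leaf 0) (.leaf 0)) (.node (.leaf 0) (.leaf 0)))) (.node (.node (.node (.leaf 0) (.leaf 0)) (.node (.leaf 0) (.leaf 0))) (.node (.node (.leaf 0) (.leaf 0)) (.node (.leaf 0) (.leaf 0)))))))) (.node (.node (.node (.node (.node (.node (.node (.leaf 0) (.leaf 0)) (.node (.leaf 0) (.leaf 0))) (.node (.node (.leaf 0) (.leaf 0)) (.node (.leaf 0) (.leaf 0)))) (.node (.node (.node (.leaf 0) (.leaf 0)) (.node (.leaf 0) (.leaf 0))) (.node (.node (.leaf 0) (.leaf 0)) (.node (.leaf 0) (.leaf 0))))) (.node (.node (.node (.node (.leaf 0) (.leaf 0)) (.node (.leaf 0) (.leaf 0))) (.node (.node (.leaf 0) (.leaf 0)) (.node (.leaf 0) (.leaf 0)))) (.node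 (.node (.node (.leaf 0) (.leaf 0)) (.node (.leaf 0) (.leaf 0))) (.node (.node (.leaf 0) (.leaf 0)) (.node (.leaf 0) (.leaf 0)))))) (.node (.node (.node (.node (.node (.leaf 0) (.leaf 0)) (.node (.leaf 0) (.leaf 0))) (.node (.node (.leaf 0) (.leaf 0)) (.node (.leaf 0) (.leaf 0)))) (.node (.node (.node (.leaf 0) (.leaf 0)) (.node (.leaf 0) (.leaf 0))) (.node (.node (.leaf 0) (.leaf 0)) (.node (.leaf 0) (.leaf 0))))) (.node (.node (.node (.node (.leaf 0) (.leaf 0)) (.node (.leaf 0) (.leaf 0))) (.node (.node (.leaf 0) (.leaf 0)) (.node (.leaf 0) (.leaf 0)))) (.node (.node (.node (.leaf 0) (.leaf 0)) (.node (.leaf 0) (.leaf 0))) (.node (.node (.leaf 0) (.leaf 0)) (.node (.leaf 0) (.leaf 0))))))) (.node (.node (.node (.node (.node (.node (.leaf 0) (.leaf 0)) (.node (.leaf 0) (.leaf 0))) (.node (.node (.leaf 0) (.leaf 0)) (.node (.leaf 0) (.leaf 0)))) (.node (.node (.node (.leaf 0) (.leaf 0)) (.node (.leaf 0) (.leaf 0))) (.node (.node (.leaf 0) (.leaf 0)) (.node (.leaf 0) (.leaf 0))))) (.node (.node (.node (.node (.leaf 0) (.leaf 0)) (.node (.leaf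 0) (.leaf 0))) (.node (.node (.leaf 0) (.leaf 0)) (.node (.leaf 0) (.leaf 0)))) (.node (.node (.node (.leaf 0) (.leaf 0)) (.node (.leaf 0) (.leaf 0))) (.node (.node (.leaf 0) (.leaf 0)) (.node (.leaf 0) (.leaf 0)))))) (.node (.node (.node (.node (.node (.leaf 0) (.leaf 0)) (.node (.leaf 0) (.leaf 0))) (.node (.node (.leaf 0) (.leaf 0)) (.node (.leaf 0) (.leaf 0)))) (.node (.node (.node (.leaf 0) (.leaf 0)) (.node (.leaf 0) (.leaf 0))) (.node (.node (.leaf 0) (.leaf 0)) (.node (.leaf 0) (.leaf 0))))) (.node (.node (.node (.node (.leaf 0) (.leaf 0)) (.node (.leaf 0) (.leaf 0))) (.node (.node (.leaf 0) (.leaf 0)) (.node (.leaf 0) (.leaf 0)))) (.node (.node (.node (.leaf 0) (.leaf 0)) (.node (.leaf 0) (.leaf 0))) (.node (.node (.leaf 0) (.leaf 0)) (.node (.leaf 0) (.leaf 0))))))))))))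
def EdcT : BT ℕ := .node (.node (.node (.node (.node (.node (.node (.node (.node (.node (.node (.node (.node (.node (.leaf 1) (.leaf 2126008811520)) (.node (.leaf 3569130602497) (.leaf 2126016151553))) (.node (.node (.leaf 3685083316225) (.leaf 2126009008129)) (.node (.leaf 3685097930753) (.leaf 4548380524545)))) (.node (.node (.node (.leaf 2126009860097) (.leaf 4548386422785)) (.node (.leaf 4548371808257) (.leaf 2031530868738))) (.node (.node (.leaf 21490237442) (.leaf 3350080782338)) (.node (.leaf 2010045677570) (.leaf 3341494255618))))) (.node (.node (.node (.node (.leaf 3332898619394) (.leaf 4672928153602)) (.node (.leaf 39780355) (.leaf 40042499))) (.node (.node (.leaf 36241411) (.leaf 49741827)) (.node (.leaf 50003971) (.leaf 70582275)))) (.node (.node (.node (.leaf 66977795) (.leaf 70516739)) (.node (.leaf 66846723) (.leaf 70647811))) (.node (.node (.leaf 39911427) (.leaf 36306947)) (.node (.leaf 50069507) (.leaf 56885251)))))) (.node (.node (.node (.node (.node (.leaf 56950787) (.leaf 49872899)) (.node (.leaf 70451203) (.leaf 70713347))) (.node (.node (.leaf 36175875) (.leaf 39976963)) (.node (.leaf 55377923) (.leaf 65273859)))) (.node (.node (.node (.leaf 34209795) (.leaf 54919171)) (.node (.leaf 68550659) (.leaf 74121219))) (.node (.node (.leaf 73859075) (.leaf 59047939)) (.node (.leaf 25690115) (.leaf 32899075))))) (.node (.node (.node (.node (.leaf 53149699) (.leaf 25821187)) (.node (.leaf 47906819) (.leaf 34734083))) (.node (.node (.leaf 54984707) (.leaf 32964611)) (.node (.leaf 25886723) (.leaf 29884419)))) (.node (.node (.node (.leaf 60686339) (.leaf 64946179)) (.node (.leaf 37879811) (.leaf 47775747))) (.node (.node (.leaf 65404931) (.leaf 55312387)) (.node (.leaf 32833539) (.leaf 59310083))))))) (.node (.node (.node (.node (.node (.node (.leaf 45547523) (.leaf 63635459)) (.node (.leaf 50003972) (.leaf 68550660))) (.node (.node (.leaf 34734084) (.leaf 36306950)) (.node (.leaf 2439568818194) (.leaf 2628530077718)))) (.node (.node (.node (.leaf 3002196623399) (.leaf 210458509376)) (.node (.leaf 876173328385) (.leaf 2))) (.node (.node (.leaf 11) (.leaf 18)) (.node (.leaf 5544809594889) (.leaf 6592843284493))))) (.node (.node (.node (.node (.leaf 51542491147) (.leaf 3959982653444)) (.node (.leaf 6592810254351) (.leaf 4432426893330))) (.node (.node (.leaf 4380922675213) (.leaf 7640820023306)) (.node (.leaf 4325080956968) (.leaf 3612084404270)))) (.node (.node (.node (.leaf 7215560523822) (.leaf 5536281001993)) (.node (.leaf 6910655201288) (.leaf 1881242271752))) (.node (.node (.leaf 6726041075756) (.leaf 7288610291771)) (.node (.leaf 5364446396452) (.leaf 1327187951624)))))) (.node (.node (.node (.node (.node (.leaf 4990855741472) (.leaf 4432432070712)) (.node (.leaf 3135334907971) (.leaf 7026617024537))) (.node (.node (.leaf 4625798594586) (.leaf 7194099843120)) (.node (.leaf 6777470648354) (.leaf 6987952881705)))) (.node (.node (.node (.leaf 1219889528862) (.leaf 5892769710111)) (.node (.leaf 5059515908103) (.leaf 5682244091938))) (.node (.node (.leaf 6988002230305) (.leaf 1327212265475)) (.node (.leaf 2838975348752) (.leaf 6313701670949))))) (.node (.node (.node (.node (.leaf 184742248473) (.leaf 1327144960045)) (.node (.leaf 2525523804191) (.leaf 3135360401475))) (.node (.node (.leaf 4990875926560) (.leaf 8156170682372)) (.node (.leaf 8156214984708) (.leaf 4990800298049)))) (.node (.node (.node (.leaf 343631003713) (.leaf 3685086920711)) (.node (.leaf 6554121404476) (.leaf 5102554316832))) (.node (.node (.leaf 214834544677) (.leaf 803184377894)) (.node (.leaf 4625776050202) (.leaf 7348818018372)))))))) (.node (.node (.node (.node (.node (.node (.node (.leaf 6103210459191) (.leaf 6103160062007)) (.node (.leaf 2126112555012) (.leaf 6987970510889))) (.node (.node (.leaf 7194078150704) (.leaf 7288631001147)) (.node (.leaf 7507609583658) (.leaf 7271400276025)))) (.node (.node (.node (.leaf 8065948713013) (.leaf 5935668002850)) (.node (.leaf 1112459182114) (.leaf 7086759346181))) (.node (.node (.leaf 7486208671777) (.leaf 7486262935585)) (.node (.leaf 7275690000431) (.leaf 5798231801910))))) (.node (.node (.node (.node (.leaf 4694415769636) (.leaf 7739537817647)) (.node (.leaf 4337931452455) (.leaf 1258430529600))) (.node (.node (.leaf 854698491905) (.leaf 3)) (.node (.leaf 12) (.leaf 19)))) (.node (.node (.node (.leaf 1782511108099) (.leaf 2194729402407)) (.node (.leaf 369423745029) (.leaf 1791084265475))) (.node (.node (.leaf 7365981437955) (.leaf 5510557007898)) (.node (.leaf 5626425770001) (.leaf 6481231085601)))))) (.node (.node (.node (.node (.node (.leaf 1374499766307) (.leaf 3848380809253)) (.node (.leaf 5373040984087) (.leaf 3831111942161))) (.node (.node (.leaf 38785646624) (.leaf 2405284904965)) (.node (.leaf 4746074587140) (.leaf 6086060474392)))) (.node (.node (.node (.leaf 2057320857617) (.leaf 7211280171075)) (.node (.leaf 2701590200361) (.leaf 5188325998648))) (.node (.node (.leaf 7554899509295) (.leaf 5806834450442)) (.node (.leaf 8023122051140) (.leaf 5712413655045))))) (.node (.node (.node (.node (.leaf 2057301458970) (.leaf 5635111911492)) (.node (.leaf 5927162871876) (.leaf 6532779409476))) (.node (.node (.leaf 7700948975658) (.leaf 6575598534667)) (.node (.leaf 5845572255748) (.leaf 4634273185844)))) (.node (.node (.node (.leaf 7705188302908) (.leaf 7374559510542)) (.node (.leaf 1636479205400) (.leaf 8710212026435))) (.node (.node (.leaf 2967916576773) (.leaf 1103848538142)) (.node (.leaf 5819715223574) (.leaf 859056701457))))))) (.node (.node (.node (.node (.node (.node (.leaf 5261354926143) (.leaf 9208512905246)) (.node (.leaf 7322938769416) (.leaf 4067377545241))) (.node (.node (.leaf 7610740244522) (.leaf 3496166948890)) (.node (.leaf 6910632591420) (.leaf 6760282849296)))) (.node (.node (.node (.leaf 7138262712335) (.leaf 652854034470)) (.node (.leaf 8856260640793) (.leaf 1614977499144))) (.node (.node (.leaf 107405770781) (.leaf 227685629985)) (.node (.leaf 4075967545370) (.leaf 9083874705475))))) (.node (.node (.node (.node (.leaf 3058051121211) (.leaf 2259214860304)) (.node (.leaf 2576986013713) (.leaf 6966530670646))) (.node (.node (.leaf 4483951296576) (.leaf 240609263621)) (.node (.leaf 2456798167052) (.leaf 7683820421157)))) (.node (.node (.node (.leaf 3092403912730) (.leaf 5020908585004)) (.node (.leaf 4234899554334) (.leaf 5897018605610))) (.node (.node (.leaf 2576994861095) (.leaf 4312152277056)) (.node (.leaf 1322849927169) (.leaf 8675949477891)))))) (.node (.node (.node (.node (.node (.leaf 13) (.leaf 20)) (.node (.leaf 6279257784341) (.leaf 5514742333494))) (.node (.node (.leaf 6652936454201) (.leaf 3500445007933)) (.node (.leaf 8581357436945) (.leaf 3363029516296)))) (.node (.node (.node (.leaf 1571967991826) (.leaf 1322902552636)) (.node (.leaf 7748136599557) (.leaf 8568466243634))) (.node (.node (.leaf 7597909999646) (.leaf 6665812836398)) (.node (.leaf 7301486280720) (.leaf 4239155068961))))) (.node (.node (.node (.node (.leaf 6219112710193) (.leaf 7026675613701)) (.node (.leaf 3251330809861) (.leaf 2976488423459))) (.node (.node (.leaf 3788271321125) (.leaf 6927803088919)) (.node (.leaf 8216318377987) (.leaf 3367314260027)))) (.node (.node (.node (.leaf 8310829809702) (.leaf 1099512807445)) (.node (.leaf 5076790149139) (.leaf 3238414188614))) (.node (.node (.leaf 1155355312149) (.leaf 8791837442069)) (.node (.leaf 5042361663548) (.leaf 3247084863523))))))))) (.node (.node (.node (.node (.node (.node (.node (.node (.leaf 3577755402274) (.leaf 270623440917)) (.node (.leaf 700118794267) (.leaf 717273366548))) (.node (.node (.leaf 4664447926340) (.leaf 189028433950)) (.node (.leaf 1378696167479) (.leaf 163216424980)))) (.node (.node (.node (.leaf 4187619983379) (.leaf 777490202650)) (.node (.leaf 3676509175871) (.leaf 2972166914080))) (.node (.node (.leaf 4303562866712) (.leaf 6992249028641)) (.node (.leaf 4599958405182) (.leaf 111739273221))))) (.node (.node (.node (.node (.leaf 7447542628378) (.leaf 601421185043)) (.node (.leaf 1657916883006) (.leaf 2366621220883))) (.node (.node (.leaf 5592096636954) (.leaf 2370903670796)) (.node (.leaf 2452443365422) (.leaf 8023046488085)))) (.node (.node (.node (.leaf 841876963344) (.leaf 8800480329732)) (.node (.leaf 3096710545455) (.leaf 4883389415436))) (.node (.node (.leaf 4535543332886) (.leaf 5716652064776)) (.node (.leaf 5849859751962) (.leaf 781716160570)))))) (.node (.node (.node (.node (.node (.leaf 5738095771682) (.leaf 4947863142447)) (.node (.leaf 6043026653196) (.leaf 854716973067))) (.node (.node (.leaf 2370869592093) (.leaf 2714426933312)) (.node (.leaf 141748404263) (.leaf 1206890922048)))) (.node (.node (.node (.leaf 352187318273) (.leaf 4)) (.node (.leaf 21474836492) (.leaf 682989191182))) (.node (.node (.leaf 3504797188115) (.leaf 223371329598)) (.node (.leaf 3792530571290) (.leaf 8589989183555))))) (.node (.node (.node (.node (.leaf 837550014532) (.leaf 5506179203114)) (.node (.leaf 786006343718) (.leaf 7640797937729))) (.node (.node (.leaf 1902785265696) (.leaf 2701584039949)) (.node (.leaf 6253508165682) (.leaf 8847697575944)))) (.node (.node (.node (.leaf 6652964306991) (.leaf 6609987043390)) (.node (.leaf 1881219072020) (.leaf 4857644646410))) (.node (.node (.leaf 6743171072063) (.leaf 7950014283831)) (.node (.leaf 1571974152252) (.leaf 1649393729604))))))) (.node (.node (.node (.node (.node (.node (.leaf 6365209296934) (.leaf 6910679515190)) (.node (.leaf 9191233683504) (.leaf 8409598197765))) (.node (.node (.leaf 5832575221821) (.leaf 8478317936676)) (.node (.leaf 5935648473124) (.leaf 390911557700)))) (.node (.node (.node (.leaf 6296453054477) (.leaf 9208479809574)) (.node (.leaf 1305720586285) (.leaf 8044541116419))) (.node (.node (.leaf 2430958764083) (.leaf 3813973426195)) (.node (.leaf 4909206274089) (.leaf 8469708210243))))) (.node (.node (.node (.node (.leaf 3182581383208) (.leaf 914919194681)) (.node (.leaf 5450332831761) (.leaf 1924270784577))) (.node (.node (.leaf 9131138809901) (.leaf 5162566418463)) (.node (.leaf 9122533146692) (.leaf 4797486137404)))) (.node (.node (.node (.leaf 8074546380858) (.leaf 17254055977)) (.node (.leaf 4209177985050) (.leaf 5746705432600))) (.node (.node (.leaf 1073749622851) (.leaf 6120330231870)) (.node (.leaf 6751695929386) (.leaf 25868435510)))))) (.node (.node (.node (.node (.node (.leaf 8143264022594) (.leaf 3646445846569)) (.node (.leaf 4282107428889) (.leaf 9186937470996))) (.node (.node (.leaf 3195494858806) (.leaf 4419545399337)) (.node (.leaf 2233400623166) (.leaf 6030223409163)))) (.node (.node (.node (.leaf 1898408771587) (.leaf 2611437174838)) (.node (.leaf 7426031550502) (.leaf 5433177407518))) (.node (.node (.leaf 262026428437) (.leaf 2778862321675)) (.node (.leaf 682916315172) (.leaf 5317198020650))))) (.node (.node (.node (.node (.leaf 4179017662503) (.leaf 1026502295616)) (.node (.leaf 1309965025281) (.leaf 5))) (.node (.node (.leaf 3483231125515) (.leaf 21)) (.node (.leaf 1782515761170) (.leaf 3311464873987)))) (.node (.node (.node (.leaf 1391668822049) (.leaf 223458033699)) (.node (.leaf 6416732782634) (.leaf 8783276212258))) (.node (.node (.leaf 2572730695703) (.leaf 1112438079505)) (.node (.leaf 1374490656771) (.leaf 5686616784920)))))))) (.node (.node (.node (.node (.node (.node (.node (.leaf 7318681157688) (.leaf 8289316306971)) (.node (.leaf 2624344293409) (.leaf 6996507951166))) (.node (.node (.leaf 326453690433) (.leaf 5669357944858)) (.node (.leaf 3457522401306) (.leaf 2160447193092)))) (.node (.node (.node (.leaf 8181950119961) (.leaf 8847681912888)) (.node (.leaf 4612808179758) (.leaf 1095274594338))) (.node (.node (.leaf 1563381661706) (.leaf 5677965639736)) (.node (.leaf 3577818775578) (.leaf 4475445706820))))) (.node (.node (.node (.node (.leaf 8924979462199) (.leaf 7803971502087)) (.node (.leaf 2233415237650) (.leaf 5630748065796))) (.node (.node (.leaf 3075203792930) (.leaf 6695868170274)) (.node (.leaf 3891294044220) (.leaf 841819488301)))) (.node (.node (.node (.leaf 2839010148409) (.leaf 554125426758)) (.node (.leaf 5441847427077) (.leaf 1301420179506))) (.node (.node (.leaf 3470377549885) (.leaf 3431682932774)) (.node (.leaf 8057406685226) (.leaf 4754551078956)))))) (.node (.node (.node (.node (.node (.leaf 2014398906372) (.leaf 4879110176830)) (.node (.leaf 330728865834) (.leaf 6713110495258))) (.node (.node (.leaf 4333744160800) (.leaf 3642148388900)) (.node (.leaf 438165045267) (.leaf 7898515767326)))) (.node (.node (.node (.leaf 8551323598895) (.leaf 4565651292190)) (.node (.leaf 811858788385) (.leaf 2241996128287))) (.node (.node (.leaf 5325781794858) (.leaf 6756015865892)) (.node (.leaf 9053823827998) (.leaf 9135484502040))))) (.node (.node (.node (.node (.leaf 1198407811077) (.leaf 6051648962604)) (.node (.leaf 8010129604679) (.leaf 6279313620997))) (.node (.node (.leaf 1559175036981) (.leaf 5523330957328)) (.node (.leaf 6618653261892) (.leaf 8662974988342)))) (.node (.node (.node (.leaf 2860494356510) (.leaf 8985097142319)) (.node (.leaf 2138908196903) (.leaf 2748784181312))) (.node (.node (.leaf 1275605286913) (.leaf 6)) (.node (.leaf 4642860498953) (.leaf 22))))))) (.node (.node (.node (.node (.node (.node (.leaf 66) (.leaf 4900661952531)) (.node (.leaf 1662233870355) (.leaf 7795392184383))) (.node (.node (.leaf 3766723477515) (.leaf 528325672975)) (.node (.leaf 4574228774916) (.leaf 6880581451811)))) (.node (.node (.node (.leaf 1829740871706) (.leaf 8568532566048)) (.node (.leaf 8693048999992) (.leaf 2766021197841))) (.node (.node (.leaf 4986489077793) (.leaf 8598539010090)) (.node (.leaf 382268866617) (.leaf 2310755057696))))) (.node (.node (.node (.node (.leaf 2237728686118) (.leaf 1730929492028)) (.node (.leaf 3788263325699) (.leaf 7550652579858))) (.node (.node (.leaf 3582008295437) (.leaf 1241354665988)) (.node (.leaf 8680160362503) (.leaf 3199883935777)))) (.node (.node (.node (.leaf 3277093863460) (.leaf 4368016801821)) (.node (.leaf 4947842629666) (.leaf 5025151123496))) (.node (.node (.leaf 2190482800700) (.leaf 7859888980001)) (.node (.leaf 7301463867458) (.leaf 1529020743738)))))) (.node (.node (.node (.node (.node (.leaf 6348030345283) (.leaf 9255750205472)) (.node (.leaf 7670877651003) (.leaf 670019813446))) (.node (.node (.leaf 6317963214890) (.leaf 979313360922)) (.node (.leaf 8650066952234) (.leaf 1606327795757)))) (.node (.node (.node (.leaf 1640684519485) (.leaf 2478240956461)) (.node (.leaf 3586416771098) (.leaf 6086039568416))) (.node (.node (.leaf 841827352642) (.leaf 7391762710547)) (.node (.leaf 184769970181) (.leaf 3212693471284))))) (.node (.node (.node (.node (.leaf 7159757078596) (.leaf 4110377418789)) (.node (.leaf 1292804292627) (.leaf 1739564711979))) (.node (.node (.leaf 6051655319620) (.leaf 8190528585735)) (.node (.leaf 2276371726349) (.leaf 7683717070873)))) (.node (.node (.node (.leaf 7885653082144) (.leaf 8864938262554)) (.node (.leaf 6356558086165) (.leaf 2757395218464))) (.node (.node (.leaf 4698701561881) (.leaf 8040182710309)) (.node (.leaf 7344444080162) (.leaf 4514051457073)))))))))) (.node (.node (.node (.node (.node (.node (.node (.node (.node (.leaf 6373746802722) (.leaf 7391730532396)) (.node (.leaf 8581349900317) (.leaf 4453901533210))) (.node (.node (.leaf 2997901656103) (.leaf 1919855493184)) (.node (.leaf 317827579905) (.leaf 2010075365380)))) (.node (.node (.node (.leaf 14) (.leaf 23)) (.node (.leaf 717290995761) (.leaf 6944989315077))) (.node (.node (.leaf 785983406125) (.leaf 524028542997)) (.node (.leaf 1696535347252) (.leaf 1305709510688))))) (.node (.node (.node (.node (.leaf 4887730389016) (.leaf 7640807374851)) (.node (.leaf 6584243650609) (.leaf 2916387782713))) (.node (.node (.leaf 3096796200979) (.leaf 5196917178408)) (.node (.leaf 7327277449271) (.leaf 3539073368094)))) (.node (.node (.node (.leaf 70) (.leaf 3457496383539)) (.node (.leaf 4123192066118) (.leaf 322139979797))) (.node (.node (.leaf 4106083106846) (.leaf 6498340896817)) (.node (.leaf 3178293690419) (.leaf 3105370013718)))))) (.node (.node (.node (.node (.node (.leaf 3285653389373) (.leaf 1872639885317)) (.node (.leaf 2886233817136) (.leaf 6459643527213))) (.node (.node (.leaf 472447975469) (.leaf 5755312537668)) (.node (.leaf 6060202852402) (.leaf 343602692144)))) (.node (.node (.node (.leaf 4256342671429) (.leaf 1327148433454)) (.node (.leaf 2753122664508) (.leaf 7370167222295))) (.node (.node (.leaf 2022956007477) (.leaf 206226128941)) (.node (.leaf 5433267060760) (.leaf 7327235702806))))) (.node (.node (.node (.node (.leaf 5609319563296) (.leaf 6210552332298)) (.node (.leaf 8924958556221) (.leaf 5226979917831))) (.node (.node (.leaf 3753835692078) (.leaf 231932887084)) (.node (.leaf 1675072700458) (.leaf 5879881531420)))) (.node (.node (.node (.leaf 3341542031376) (.leaf 7365880905795)) (.node (.leaf 3139685974077) (.leaf 7602099454014))) (.node (.node (.leaf 4707319480380) (.leaf 6068822016043)) (.node (.leaf 2890544840710) (.leaf 3015072612387))))))) (.node (.node (.node (.node (.node (.node (.leaf 8336608264218) (.leaf 3826825035820)) (.node (.leaf 6575644409911) (.leaf 1722320158757))) (.node (.node (.leaf 6695978926148) (.leaf 7481901711376)) (.node (.leaf 1846905274373) (.leaf 214779625505)))) (.node (.node (.node (.leaf 6210582151194) (.leaf 3521924104244)) (.node (.leaf 4977872076841) (.leaf 9217091633196))) (.node (.node (.leaf 1760969359427) (.leaf 4737464074266)) (.node (.leaf 1254144933927) (.leaf 1219775823936))))) (.node (.node (.node (.node (.leaf 773094113281) (.leaf 7)) (.node (.leaf 30066540558) (.leaf 24))) (.node (.node (.leaf 6747439431687) (.leaf 3311423324201)) (.node (.leaf 4694477963321) (.leaf 223433654304)))) (.node (.node (.node (.leaf 7365996052504) (.leaf 390857424946)) (.node (.leaf 2783181275196) (.leaf 1378702655504))) (.node (.node (.leaf 5939975618563) (.leaf 1039502016536)) (.node (.leaf 9036722012190) (.leaf 6966461071377)))))) (.node (.node (.node (.node (.node (.leaf 5811119652927) (.leaf 9156905795633)) (.node (.leaf 7426071658502) (.leaf 240586195012))) (.node (.node (.leaf 4733118054441) (.leaf 416639025159)) (.node (.leaf 2053001117719) (.leaf 7997301719050)))) (.node (.node (.node (.leaf 1855563497498) (.leaf 4917744828420)) (.node (.leaf 2267804598340) (.leaf 1202636455983))) (.node (.node (.leaf 1756676489250) (.leaf 1649274912833)) (.node (.leaf 3092449001540) (.leaf 730147913784))))) (.node (.node (.node (.node (.leaf 1090924445705) (.leaf 8504056545291)) (.node (.leaf 296399470611) (.leaf 6335159926852))) (.node (.node (.leaf 4917754658856) (.leaf 8620001656899)) (.node (.leaf 1498992082989) (.leaf 7748136927299)))) (.node (.node (.node (.leaf 1812558708793) (.leaf 8624350756868)) (.node (.leaf 7640761892890) (.leaf 3818246635572))) (.node (.node (.leaf 1331540000822) (.leaf 4694410657833)) (.node (.leaf 2650046595089) (.leaf 7563506483226)))))))) (.node (.node (.node (.node (.node (.node (.node (.leaf 1550498529331) (.leaf 5377341456417)) (.node (.leaf 6910653628441) (.leaf 6700164775996))) (.node (.node (.leaf 5373060972578) (.leaf 2340781096965)) (.node (.leaf 8869148098577) (.leaf 352280969248)))) (.node (.node (.node (.leaf 7726716354567) (.leaf 8504148885537)) (.node (.leaf 4595621494839) (.leaf 7627880398875))) (.node (.node (.leaf 7645086416947) (.leaf 1211233992740)) (.node (.leaf 5708045484081) (.leaf 485369577514))))) (.node (.node (.node (.node (.leaf 6691574644807) (.leaf 1821150347307)) (.node (.leaf 8482569125922) (.leaf 6111763628070))) (.node (.node (.leaf 7348740489226) (.leaf 4393770024971)) (.node (.leaf 1189711642663) (.leaf 382361796634)))) (.node (.node (.node (.leaf 4492550275111) (.leaf 1078041903168)) (.node (.leaf 339302416385) (.leaf 7572110049285))) (.node (.node (.leaf 4651480252429) (.leaf 25)) (.node (.leaf 536928452641) (.leaf 4900664377347)))))) (.node (.node (.node (.node (.node (.leaf 7696641490949) (.leaf 1404520300604)) (.node (.leaf 6579903070271) (.leaf 7383060119592))) (.node (.node (.leaf 7417433751590) (.leaf 6657250623533)) (.node (.leaf 7267127066649) (.leaf 7700927348777)))) (.node (.node (.node (.leaf 9204184776727) (.leaf 4123178500159)) (.node (.leaf 4496881352763) (.leaf 4243534774291))) (.node (.node (.leaf 7181191282701) (.leaf 652908494851)) (.node (.leaf 3736623513656) (.leaf 7834109542404))))) (.node (.node (.node (.node (.leaf 5772453543939) (.leaf 665772490796)) (.node (.leaf 1524722958377) (.leaf 8332329746465))) (.node (.node (.leaf 1460303429636) (.leaf 1095308869652)) (.node (.leaf 4174817853459) (.leaf 5665078444099)))) (.node (.node (.node (.leaf 5858399879194) (.leaf 2512589946918)) (.node (.leaf 3229868949559) (.leaf 5351595245633))) (.node (.node (.leaf 3122442797120) (.leaf 5738129719346)) (.node (.leaf 4153253363771) (.leaf 3719497711642))))))) (.node (.node (.node (.node (.node (.node (.leaf 1241293520938) (.leaf 807503724574)) (.node (.leaf 2701562544158) (.leaf 502577496081))) (.node (.node (.leaf 339307528202) (.leaf 8967973830661)) (.node (.leaf 5716663271440) (.leaf 4973708836868)))) (.node (.node (.node (.leaf 5501871849519) (.leaf 2375131463722)) (.node (.leaf 3573474525239) (.leaf 8173452722244))) (.node (.node (.leaf 1576302870593) (.leaf 3655031062546)) (.node (.leaf 1984311525442) (.leaf 5673701081107))))) (.node (.node (.node (.node (.leaf 4183397367862) (.leaf 6597180391429)) (.node (.leaf 6330782253065) (.leaf 150379036695))) (.node (.node (.leaf 6786063925264) (.leaf 5613619642401)) (.node (.leaf 8628704182291) (.leaf 6330816331829)))) (.node (.node (.node (.leaf 957889511448) (.leaf 8512660963391)) (.node (.leaf 210525880375) (.leaf 8495555280933))) (.node (.node (.leaf 7679418499136) (.leaf 6854808043577)) (.node (.leaf 7949986037801) (.leaf 6116059381814)))))) (.node (.node (.node (.node (.node (.leaf 4904855601219) (.leaf 2546979569690)) (.node (.leaf 81618862119) (.leaf 4621389922368))) (.node (.node (.leaf 777389080577) (.leaf 2010100924423)) (.node (.leaf 1881211207681) (.leaf 26)))) (.node (.node (.node (.leaf 7675173863484) (.leaf 4793202180153)) (.node (.leaf 2336506970128) (.leaf 3685102190639))) (.node (.node (.leaf 1099569430538) (.leaf 227652468740)) (.node (.leaf 5879867179053) (.leaf 6829132611587))))) (.node (.node (.node (.node (.leaf 6597131108413) (.leaf 7696610754584)) (.node (.leaf 30116872221) (.leaf 566946168900))) (.node (.node (.leaf 743155761170) (.leaf 197586976800)) (.node (.leaf 8323770023940) (.leaf 4552673067041)))) (.node (.node (.node (.leaf 3440294166553) (.leaf 6133217099788)) (.node (.leaf 167614021662) (.leaf 1872607117363))) (.node (.node (.leaf 4445344825376) (.leaf 4131836002337)) (.node (.leaf 1516154585120) (.leaf 3032322867257))))))))) (.node (.node (.node (.node (.node (.node (.node (.node (.leaf 5690866139193) (.leaf 2018651865129)) (.node (.leaf 5948603498529) (.leaf 8963664183338))) (.node (.node (.leaf 532625293356) (.leaf 4986497794114)) (.node (.leaf 3122521112602) (.leaf 4380920512572)))) (.node (.node (.node (.leaf 4256329826334) (.leaf 2156107268164)) (.node (.leaf 519726366730) (.leaf 322125561923))) (.node (.node (.leaf 1279957008415) (.leaf 5231282487364)) (.node (.leaf 8568507531319) (.leaf 8272138993670))))) (.node (.node (.node (.node (.leaf 7980092948510) (.leaf 2907707277325)) (.node (.leaf 1125344018484) (.leaf 5562042482704))) (.node (.node (.leaf 1670759514138) (.leaf 6227745177649)) (.node (.leaf 292079468597) (.leaf 3655032242205)))) (.node (.node (.node (.leaf 3423100665911) (.leaf 6850589294618)) (.node (.leaf 8667251343402) (.leaf 6910620926014))) (.node (.node (.leaf 3874129772554) (.leaf 5781057896481)) (.node (.leaf 8710251413533) (.leaf 1623582965793)))))) (.node (.node (.node (.node (.node (.leaf 9075271335980) (.leaf 3697984405538)) (.node (.leaf 8216301535279) (.leaf 9101068402718))) (.node (.node (.leaf 6506979590149) (.leaf 5347237953594)) (.node (.leaf 7503323332656) (.leaf 2040142233649)))) (.node (.node (.node (.leaf 5282812461074) (.leaf 7984371138614)) (.node (.leaf 2229104541732) (.leaf 7271399686172))) (.node (.node (.leaf 360791736359) (.leaf 3148216139840)) (.node (.leaf 343597383681) (.leaf 2924876333063))))) (.node (.node (.node (.node (.leaf 4672926187534) (.leaf 249116557317)) (.node (.leaf 3534782988302) (.leaf 7696617242680))) (.node (.node (.leaf 476769943593) (.leaf 2967876796449)) (.node (.leaf 7761064034308) (.leaf 7748206002200)))) (.node (.node (.node (.leaf 6665858383931) (.leaf 4239238037509)) (.node (.leaf 2263497048068) (.leaf 2839003398185))) (.node (.node (.leaf 3637912076306) (.leaf 7073836236819)) (.node (.leaf 6438239666220) (.leaf 8448282722357))))))) (.node (.node (.node (.node (.node (.node (.leaf 1176829755462) (.leaf 3779631644698)) (.node (.leaf 6283586830395) (.leaf 5531955953704))) (.node (.node (.leaf 4217759399966) (.leaf 6472536883268)) (.node (.leaf 3457450508311) (.leaf 4698712571930)))) (.node (.node (.node (.leaf 9238497722396) (.leaf 7086706524177)) (.node (.leaf 1292807045186) (.leaf 6708744355910))) (.node (.node (.leaf 472469405725) (.leaf 708700667933)) (.node (.leaf 8044495831045) (.leaf 296487223328))))) (.node (.node (.node (.node (.leaf 2890621452292) (.leaf 7464663449632)) (.node (.leaf 2753166639124) (.leaf 7370185113650))) (.node (.node (.leaf 4990759075881) (.leaf 1331448643654)) (.node (.leaf 5729500332087) (.leaf 6395274919955)))) (.node (.node (.node (.leaf 8847711862816) (.leaf 51591249930)) (.node (.leaf 5016528158725) (.leaf 3315778912298))) (.node (.node (.leaf 7194071269384) (.leaf 7237022646295)) (.node (.leaf 3070979538987) (.leaf 6850561638426)))))) (.node (.node (.node (.node (.node (.leaf 6983709753374) (.leaf 7460414685243)) (.node (.leaf 3998636900411) (.leaf 1597756604482))) (.node (.node (.leaf 8216316149807) (.leaf 2817510211609)) (.node (.leaf 9212777398327) (.leaf 5342996267032)))) (.node (.node (.node (.leaf 4904954429462) (.leaf 214749151295)) (.node (.leaf 3332987551798) (.leaf 2632902443039))) (.node (.node (.leaf 2426709213192) (.leaf 6622850514955)) (.node (.leaf 1898411065399) (.leaf 8272156098566))))) (.node (.node (.node (.node (.leaf 6210537783316) (.leaf 8714508107812)) (.node (.leaf 9264323100696) (.leaf 7065313017900))) (.node (.node (.leaf 2392342921246) (.leaf 7636479901743)) (.node (.leaf 2482505580583) (.leaf 51544719424)))) (.node (.node (.node (.leaf 309237645313) (.leaf 8)) (.node (.leaf 2778857734156) (.leaf 27))) (.node (.node (.leaf 760229855238) (.leaf 8529835917369)) (.node (.leaf 1232688250915) (.leaf 5227045781549)))))))) (.node (.node (.node (.node (.node (.node (.node (.leaf 9113947865096) (.leaf 3264263749651)) (.node (.leaf 5742397227034) (.leaf 3947098734608))) (.node (.node (.leaf 3994425491482) (.leaf 541282598945)) (.node (.leaf 6232048533533) (.leaf 5866979000368)))) (.node (.node (.node (.leaf 9156959862795) (.leaf 2117466062872)) (.node (.leaf 5012271333379) (.leaf 2100295696431))) (.node (.node (.leaf 5600698826771) (.leaf 3380225507359)) (.node (.leaf 8594244894782) (.leaf 8972233670664))))) (.node (.node (.node (.node (.leaf 609973239812) (.leaf 34402205759)) (.node (.leaf 4595644301335) (.leaf 2229092614212))) (.node (.node (.leaf 837563056189) (.leaf 5879839916095)) (.node (.leaf 3092427833352) (.leaf 4518382731267)))) (.node (.node (.node (.leaf 1572089888772) (.leaf 5235587809305)) (.node (.leaf 9135453241359) (.leaf 1859825565699))) (.node (.node (.leaf 4338006556696) (.leaf 6665861988385)) (.node (.leaf 6730287022085) (.leaf 4316465201222)))))) (.node (.node (.node (.node (.node (.leaf 3766687825935) (.leaf 8504149344313)) (.node (.leaf 4441022660643) (.leaf 3887003009058))) (.node (.node (.leaf 77370949649) (.leaf 5149740367877)) (.node (.leaf 8143296593983) (.leaf 4599973543957)))) (.node (.node (.node (.leaf 1988705583128) (.leaf 7679403556901)) (.node (.leaf 5832621293618) (.leaf 1687977132091))) (.node (.node (.leaf 2207645892616) (.leaf 3990043557893)) (.node (.leaf 3268489248787) (.leaf 3947137990664))))) (.node (.node (.node (.node (.leaf 4694425731095) (.leaf 3062388883460)) (.node (.leaf 6000073703449) (.leaf 1713737236499))) (.node (.node (.leaf 2044422520864) (.leaf 6365157457979)) (.node (.leaf 914876989496) (.leaf 5025237041184)))) (.node (.node (.node (.leaf 6962142576711) (.leaf 6279258046467)) (.node (.leaf 1898492919840) (.leaf 1438815420442))) (.node (.node (.leaf 4806081380398) (.leaf 4690162352139)) (.node (.leaf 7765306114077) (.leaf 1705205825562))))))) (.node (.node (.node (.node (.node (.node (.leaf 3509002764327) (.leaf 4002914631744)) (.node (.leaf 858993459201) (.leaf 2010114097157))) (.node (.node (.leaf 3341491109892) (.leaf 28)) (.node (.leaf 652883460155) (.leaf 6064591667219)))) (.node (.node (.node (.leaf 463860138038) (.leaf 2765993541692)) (.node (.leaf 1640747630608) (.leaf 262079447072))) (.node (.node (.leaf 1164029067295) (.leaf 2435259236357)) (.node (.leaf 399521415194) (.leaf 2439586906153))))) (.node (.node (.node (.node (.leaf 665779765269) (.leaf 8096020037684)) (.node (.leaf 8920708612134) (.leaf 1361521672211))) (.node (.node (.leaf 4737380057126) (.leaf 4900579246085)) (.node (.leaf 3440297246742) (.leaf 4127601852442)))) (.node (.node (.node (.leaf 6352292806661) (.leaf 8456871280670)) (.node (.leaf 1400191451186) (.leaf 7091047759931))) (.node (.node (.leaf 5995774803989) (.leaf 7739546402879)) (.node (.leaf 502534111300) (.leaf 3955799097374)))))) (.node (.node (.node (.node (.node (.leaf 343602167858) (.leaf 9040968679434)) (.node (.leaf 8435371016222) (.leaf 4273501896716))) (.node (.node (.leaf 2667194744858) (.leaf 4316501311512)) (.node (.leaf 6369460224005) (.leaf 1584911810612)))) (.node (.node (.node (.leaf 8675858513933) (.leaf 3801072730153)) (.node (.leaf 2108830187558) (.leaf 1335752523823))) (.node (.node (.leaf 5725210345497) (.leaf 3015085916164)) (.node (.leaf 1279987941420) (.leaf 1597868408856))))) (.node (.node (.node (.node (.leaf 3960059723781) (.leaf 7752514011190)) (.node (.leaf 8564292583429) (.leaf 4221971923001))) (.node (.node (.leaf 1542017056792) (.leaf 3655078314007)) (.node (.leaf 3904194936884) (.leaf 279262265374)))) (.node (.node (.node (.leaf 2409511977020) (.leaf 2014378590256)) (.node (.leaf 3530532782136) (.leaf 2735970582561))) (.node (.node (.leaf 4436841398275) (.leaf 3479035707396)) (.node (.leaf 7589267111953) (.leaf 1082362232886))))))))))) (.node (.node (.node (.node (.node (.node (.node (.node (.node (.node (.leaf 352260325402) (.leaf 2521176670235)) (.node (.leaf 8748941639683) (.leaf 3010851700801))) (.node (.node (.leaf 5875530727495) (.leaf 2894817525787)) (.node (.leaf 5085289119751) (.leaf 4282140459019)))) (.node (.node (.node (.leaf 2134631514179) (.leaf 8937874653212)) (.node (.leaf 21489319975) (.leaf 2615640195136))) (.node (.node (.leaf 1314259992577) (.leaf 3088106913799)) (.node (.leaf 511113756683) (.leaf 29))))) (.node (.node (.node (.node (.leaf 4836137435153) (.leaf 5201305141316)) (.node (.leaf 69) (.leaf 3560572715015))) (.node (.node (.leaf 5493296267281) (.leaf 6511269969952)) (.node (.leaf 8293595938861) (.leaf 2723098198047)))) (.node (.node (.node (.leaf 5463208165382) (.leaf 2203371175968)) (.node (.leaf 6605746667525) (.leaf 2766004682801))) (.node (.node (.leaf 455292682300) (.leaf 1881229426756)) (.node (.leaf 7984434774060) (.leaf 5171156746307)))))) (.node (.node (.node (.node (.node (.leaf 7511930437676) (.leaf 2886244565001)) (.node (.leaf 6163400884256) (.leaf 2624247431215))) (.node (.node (.leaf 9114013597720) (.leaf 3143937884222)) (.node (.leaf 3698006753314) (.leaf 3358674911249)))) (.node (.node (.node (.leaf 5218389196871) (.leaf 1069464682563)) (.node (.leaf 4694410199081) (.leaf 7168331481117))) (.node (.node (.leaf 747437817875) (.leaf 8757572993029)) (.node (.leaf 996506206249) (.leaf 8937910042681))))) (.node (.node (.node (.node (.leaf 9028074536992) (.leaf 214813048870)) (.node (.leaf 5489108910110) (.leaf 1825390329886))) (.node (.node (.leaf 5673661038622) (.leaf 9259977408533)) (.node (.leaf 7786797531181) (.leaf 9186973319236)))) (.node (.node (.node (.leaf 4093106585653) (.leaf 9268620754979)) (.node (.leaf 2641464721431) (.leaf 3135405359148))) (.node (.node (.leaf 9204159283219) (.leaf 3457471086612)) (.node (.leaf 2349364740118) (.leaf 3487569084435))))))) (.node (.node (.node (.node (.node (.node (.leaf 128885391421) (.leaf 3637883437073)) (.node (.leaf 8177658363921) (.leaf 4080272343087))) (.node (.node (.leaf 4007278477318) (.leaf 7778280407097)) (.node (.leaf 5411682320446) (.leaf 953532350487)))) (.node (.node (.node (.leaf 4784659562543) (.leaf 8323677552656)) (.node (.leaf 9049536725017) (.leaf 7868392144904))) (.node (.node (.leaf 764512763929) (.leaf 17268408344)) (.node (.leaf 1825423949885) (.leaf 7164051456059))))) (.node (.node (.node (.node (.leaf 6051624058906) (.leaf 6532672192566)) (.node (.leaf 2349352812583) (.leaf 5347241689130))) (.node (.node (.leaf 3491822895143) (.leaf 2370827059264)) (.node (.leaf 880468295681) (.leaf 7215627763716)))) (.node (.node (.node (.leaf 4599942152203) (.leaf 7271426031619)) (.node (.leaf 8564189691934) (.leaf 6120330690574))) (.node (.node (.leaf 6390977789986) (.leaf 4153267912769)) (.node (.leaf 4252040298527) (.leaf 7477562114056)))))) (.node (.node (.node (.node (.node (.leaf 4007246888966) (.leaf 8482700001313)) (.node (.leaf 8083144048645) (.leaf 5957210734625))) (.node (.node (.leaf 2186250420255) (.leaf 8319438422049)) (.node (.leaf 3577811238966) (.leaf 1915647819780)))) (.node (.node (.node (.leaf 223429459971) (.leaf 5781073100847)) (.node (.leaf 846124154902) (.leaf 781719633949))) (.node (.node (.leaf 1138247532568) (.leaf 4402385059859)) (.node (.leaf 2070217162769) (.leaf 3431711703099))))) (.node (.node (.node (.node (.leaf 8929278951487) (.leaf 6068899872798)) (.node (.leaf 4823304044578) (.leaf 541223747646))) (.node (.node (.leaf 1039406137361) (.leaf 4518415761438)) (.node (.leaf 257766457389) (.leaf 6047323258897)))) (.node (.node (.node (.leaf 7662334640147) (.leaf 300691423281)) (.node (.leaf 7000820023331) (.leaf 5411768172563))) (.node (.node (.leaf 2409615130650) (.leaf 3839729401923)) (.node (.leaf 5733810176035) (.leaf 2705857773612)))))))) (.node (.node (.node (.node (.node (.node (.node (.leaf 9028082204677) (.leaf 7662284898367)) (.node (.leaf 6412474187787) (.leaf 4694415114279))) (.node (.node (.leaf 9096755347473) (.leaf 9101055819796)) (.node (.leaf 2783259131935) (.leaf 2804692549700)))) (.node (.node (.node (.leaf 1103931703331) (.leaf 2104573427772)) (.node (.leaf 3891322552324) (.leaf 7018013786156))) (.node (.node (.leaf 253502292022) (.leaf 562752323614)) (.node (.leaf 4161928232990) (.leaf 8980838088760))))) (.node (.node (.node (.node (.leaf 8491158798384) (.leaf 4930635366463)) (.node (.leaf 8388113268796) (.leaf 201903046708))) (.node (.node (.leaf 7881303851076) (.leaf 7829832597537)) (.node (.leaf 7172599447623) (.leaf 6279252410378)))) (.node (.node (.node (.leaf 1017913344026) (.leaf 8684464963634)) (.node (.leaf 5261394640952) (.leaf 7211341905964))) (.node (.node (.leaf 8508333162563) (.leaf 1408779092010)) (.node (.leaf 1176835522599) (.leaf 3397324243008)))))) (.node (.node (.node (.node (.node (.leaf 1301375090689) (.leaf 2010114097155)) (.node (.leaf 4642863775748) (.leaf 3753803579397))) (.node (.node (.leaf 5871252602938) (.leaf 6567032520710)) (.node (.leaf 3801104449573) (.leaf 2791742242860)))) (.node (.node (.node (.leaf 846169047057) (.leaf 4797518905394)) (.node (.leaf 511102681137) (.leaf 7941529272353))) (.node (.node (.leaf 6652906962997) (.leaf 1919860932611)) (.node (.leaf 6713109184543) (.leaf 3715160080392))))) (.node (.node (.node (.node (.leaf 6090317234228) (.leaf 515416195088)) (.node (.leaf 8774682279946) (.leaf 2014391762947))) (.node (.node (.leaf 3440316448771) (.leaf 1997197475895)) (.node (.leaf 5295710928919) (.leaf 4118882680868)))) (.node (.node (.node (.leaf 4608516554755) (.leaf 416713932804)) (.node (.leaf 5755364704282) (.leaf 6532667867139))) (.node (.node (.leaf 6124722847812) (.leaf 2345107587102)) (.node (.leaf 8864921026590) (.leaf 5476149755928))))))) (.node (.node (.node (.node (.node (.node (.leaf 897671495724) (.leaf 5909937651772)) (.node (.leaf 1958544539676) (.leaf 3337223274551))) (.node (.node (.leaf 5789713301507) (.leaf 1743890415648)) (.node (.leaf 4965030232088) (.leaf 4771770925097)))) (.node (.node (.node (.leaf 7237081694229) (.leaf 8272171696149)) (.node (.leaf 1984318537775) (.leaf 8710197280773))) (.node (.node (.leaf 678675152928) (.leaf 8491183964202)) (.node (.leaf 5501898719295) (.leaf 897670840331))))) (.node (.node (.node (.node (.leaf 6502709526531) (.leaf 1348633296942)) (.node (.leaf 743046316093) (.leaf 2091700387907))) (.node (.node (.leaf 7159728439304) (.leaf 2366616698904)) (.node (.leaf 5115367981111) (.leaf 2607098560578)))) (.node (.node (.node (.leaf 5793946861591) (.leaf 8169147727903)) (.node (.leaf 4956492333059) (.leaf 6390947774489))) (.node (.node (.leaf 2830480900107) (.leaf 6060287590426)) (.node (.leaf 6803292487705) (.leaf 1924172021783)))))) (.node (.node (.node (.node (.node (.leaf 1374453235773) (.leaf 5347242541085)) (.node (.leaf 7391654182960) (.leaf 3955731398724))) (.node (.node (.leaf 6403869704226) (.leaf 5630793941036)) (.node (.leaf 3985746165796) (.leaf 919139647554)))) (.node (.node (.node (.leaf 3929909559335) (.leaf 4707289268288)) (.node (.leaf 1279900254209) (.leaf 9))) (.node (.node (.leaf 2211929325580) (.leaf 30)) (.node (.leaf 5360156409863) (.leaf 6940795469856))))) (.node (.node (.node (.node (.leaf 5991567851539) (.leaf 6829111181342)) (.node (.leaf 687207153710) (.leaf 5626462928906))) (.node (.node (.leaf 7065229262862) (.leaf 7640763727880)) (.node (.leaf 4599940710416) (.leaf 2203348303922)))) (.node (.node (.node (.leaf 4737390936074) (.leaf 828977250310)) (.node (.leaf 3702302638139) (.leaf 5196961415193))) (.node (.node (.leaf 4449608007700) (.leaf 2542628634674)) (.node (.leaf 2113138851899) (.leaf 180461043736))))))))) (.node (.node (.node (.node (.node (.node (.node (.node (.leaf 7743841697852) (.leaf 8087445897273)) (.node (.leaf 5068126027802) (.leaf 6910611226671))) (.node (.node (.leaf 3285745336346) (.leaf 4711599112207)) (.node (.leaf 2491116159004) (.leaf 8688724541469)))) (.node (.node (.node (.leaf 472541757470) (.leaf 9161183789107)) (.node (.leaf 1361584980033) (.leaf 4952202608693))) (.node (.node (.leaf 9251385311286) (.leaf 1941369782304)) (.node (.leaf 2753153925142) (.leaf 1829659803699))))) (.node (.node (.node (.node (.leaf 1400217337922) (.leaf 3882718265374)) (.node (.leaf 481089486890) (.leaf 2924913033252))) (.node (.node (.leaf 4990829133859) (.leaf 1065274507283)) (.node (.leaf 47302443027) (.leaf 6429683482656)))) (.node (.node (.node (.leaf 60132360211) (.leaf 5033715826751)) (.node (.leaf 4243510919180) (.leaf 7623636156441))) (.node (.node (.leaf 8791799103547) (.leaf 3680806371338)) (.node (.leaf 7924296056869) (.leaf 1842565218356)))))) (.node (.node (.node (.node (.node (.leaf 5102459224089) (.leaf 588465569834)) (.node (.leaf 1572066426915) (.leaf 4806128304152))) (.node (.node (.leaf 7426005991467) (.leaf 1739510120508)) (.node (.leaf 463871934470) (.leaf 6799066136595)))) (.node (.node (.node (.leaf 3594915610656) (.leaf 3822545338385)) (.node (.leaf 7649435254810) (.leaf 7950057799701))) (.node (.node (.leaf 6210581037091) (.leaf 3848340897819)) (.node (.leaf 3801101959187) (.leaf 3813989023755))))) (.node (.node (.node (.node (.leaf 541227679774) (.leaf 1340138127386)) (.node (.leaf 2448145842215) (.leaf 528286089280))) (.node (.node (.leaf 356482285569) (.leaf 10)) (.node (.leaf 2576997285902) (.leaf 31)))) (.node (.node (.node (.leaf 8564194410548) (.leaf 7228568961029)) (.node (.leaf 2920587526197) (.leaf 7954279759903))) (.node (.node (.leaf 3105309720591) (.leaf 8444014952516)) (.node (.leaf 9212774514713) (.leaf 2718761091089))))))) (.node (.node (.node (.node (.node (.node (.leaf 7185522688025) (.leaf 206177501213)) (.node (.leaf 3457508507669) (.leaf 2675851395105))) (.node (.node (.leaf 5373060055087) (.leaf 7709471408155)) (.node (.leaf 1030879903775) (.leaf 4952107188247)))) (.node (.node (.node (.leaf 17228627996) (.leaf 2534046629902)) (.node (.leaf 7232792690709) (.leaf 8164744364078))) (.node (.node (.leaf 7288579096603) (.leaf 1387295997994)) (.node (.leaf 4200500035630) (.leaf 5368747130932))))) (.node (.node (.node (.node (.leaf 2422414049328) (.leaf 863317000255)) (.node (.leaf 4466776801342) (.leaf 5866938040372))) (.node (.node (.leaf 4002922823725) (.leaf 1636453842961)) (.node (.leaf 5561994444852) (.leaf 1670841434116)))) (.node (.node (.node (.leaf 5935731507224) (.leaf 6665825353731)) (.node (.leaf 3792548069441) (.leaf 1258454057027))) (.node (.node (.leaf 8521237856271) (.leaf 5368848711685)) (.node (.leaf 38708903994) (.leaf 1876967030788)))))) (.node (.node (.node (.node (.node (.leaf 6498352365628) (.leaf 8628724563971)) (.node (.leaf 6017295450127) (.leaf 1632156647473))) (.node (.node (.leaf 6197713502232) (.leaf 2370879750185)) (.node (.leaf 7318693150760) (.leaf 6313605791774)))) (.node (.node (.node (.leaf 8821885829163) (.leaf 7640780832787)) (.node (.leaf 9062430212122) (.leaf 8650139369504))) (.node (.node (.leaf 6378046423054) (.leaf 8289334984751)) (.node (.leaf 2564185391130) (.leaf 6970791166004))))) (.node (.node (.node (.node (.leaf 8353780662327) (.leaf 1855507398693)) (.node (.leaf 4471142416410) (.leaf 5523370475536))) (.node (.node (.leaf 3238418382912) (.leaf 1971399622667)) (.node (.leaf 8254934679608) (.leaf 8044486918163)))) (.node (.node (.node (.leaf 528299917321) (.leaf 8435342704694)) (.node (.leaf 111716794397) (.leaf 5089566588975))) (.node (.node (.leaf 2886232506407) (.leaf 3959964958784)) (.node (.leaf 1284195221505) (.leaf 2010114097158)))))))) (.node (.node (.node (.node (.node (.node (.node (.leaf 1065168207884) (.leaf 7271453884440)) (.node (.leaf 2808938758200) (.leaf 7503442870302))) (.node (.node (.leaf 674387329061) (.leaf 4028717269009)) (.node (.leaf 4776015233045) (.leaf 5909949382699)))) (.node (.node (.node (.leaf 7537709350954) (.leaf 270627438609)) (.node (.leaf 3762402230325) (.leaf 7516245131280))) (.node (.node (.leaf 330753769505) (.leaf 8637291954244)) (.node (.leaf 360778891283) (.leaf 9156912152579))))) (.node (.node (.node (.node (.leaf 360915861508) (.leaf 5828289036316)) (.node (.leaf 6777507020821) (.leaf 2705899520007))) (.node (.node (.leaf 6755988668435) (.leaf 4333661257754)) (.node (.leaf 6343683866686) (.leaf 979308249121)))) (.node (.node (.node (.leaf 343605379081) (.leaf 6408148090904)) (.node (.leaf 5325765214236) (.leaf 6357005))) (.node (.node (.leaf 7048078295106) (.leaf 730173931523)) (.node (.leaf 8259333914656) (.leaf 7803996798992)))))) (.node (.node (.node (.node (.node (.leaf 5647895625737) (.leaf 4634299269181)) (.node (.leaf 1636417142812) (.leaf 6408146976819))) (.node (.node (.leaf 7348753137690) (.leaf 7172617011270)) (.node (.leaf 6962241732643) (.leaf 2735938928659)))) (.node (.node (.node (.leaf 8972237340710) (.leaf 6940672458767)) (.node (.leaf 8568557731909) (.leaf 8976612327454))) (.node (.node (.leaf 786050777126) (.leaf 2302114660371)) (.node (.leaf 5690842939407) (.leaf 9169830150175))))) (.node (.node (.node (.node (.leaf 2766046953496) (.leaf 249177178168)) (.node (.leaf 7086830125082) (.leaf 2761735602237))) (.node (.node (.leaf 2856188575804) (.leaf 8572795617288)) (.node (.leaf 6043127840772) (.leaf 5940001964055)))) (.node (.node (.node (.leaf 2761680224299) (.leaf 3882750181396)) (.node (.leaf 837584814136) (.leaf 4574176739389))) (.node (.node (.leaf 3586396651550) (.leaf 6721682931745)) (.node (.leaf 3285669576768) (.leaf 1971465748484))))))) (.node (.node (.node (.node (.node (.node (.leaf 5824013074480) (.leaf 7683747741734)) (.node (.leaf 3835509932097) (.leaf 5514763960374))) (.node (.node (.leaf 1322882695235) (.leaf 9088175767599)) (.node (.leaf 575540101159) (.leaf 4715879202880)))) (.node (.node (.node (.leaf 347892350977) (.leaf 2010075365384)) (.node (.leaf 15) (.leaf 32))) (.node (.node (.leaf 1580576276505) (.leaf 7932903030803)) (.node (.leaf 8525599014977) (.leaf 6128973709371))))) (.node (.node (.node (.node (.leaf 6511184117819) (.leaf 5695129124895)) (.node (.leaf 2929254727712) (.leaf 1017987072057))) (.node (.node (.leaf 249216368675) (.leaf 3277079773197)) (.node (.leaf 5119650299971) (.leaf 8005845319723)))) (.node (.node (.node (.leaf 4870556876810) (.leaf 7735297835068)) (.node (.leaf 4934945538090) (.leaf 3994346717203))) (.node (.node (.leaf 7623572914237) (.leaf 9032344338438)) (.node (.leaf 5772476219449) (.leaf 992150618171)))))) (.node (.node (.node (.node (.node (.leaf 5841160765497) (.leaf 8864933478404)) (.node (.leaf 4853313437702) (.leaf 2336518111291))) (.node (.node (.leaf 7267098230831) (.leaf 3650763817005)) (.node (.leaf 2817510015037) (.leaf 2224847912992)))) (.node (.node (.node (.leaf 7018000809992) (.leaf 6094679310362)) (.node (.leaf 3122479562813) (.leaf 4080291282969))) (.node (.node (.leaf 21491941395) (.leaf 3281438441525)) (.node (.leaf 6107538587666) (.leaf 7490444263469))))) (.node (.node (.node (.node (.leaf 111782002712) (.leaf 1279967494167)) (.node (.leaf 6816143704081) (.leaf 665745227783))) (.node (.node (.leaf 1649323081775) (.leaf 5974311370762)) (.node (.leaf 1967116845105) (.leaf 5901368426515)))) (.node (.node (.node (.leaf 850474106913) (.leaf 7310096269371)) (.node (.leaf 5282842083361) (.leaf 8693015248956))) (.node (.node (.leaf 5003698896945) (.leaf 7696614031382)) (.node (.leaf 5128231583761) (.leaf 3629267288097)))))))))) (.node (.node (.node (.node (.node (.node (.node (.node (.node (.leaf 880522362932) (.leaf 2413807796280)) (.node (.leaf 4926379327526) (.leaf 2551274668057))) (.node (.node (.leaf 7404537446419) (.leaf 6249285419013)) (.node (.leaf 2705833918481) (.leaf 5235597967410)))) (.node (.node (.node (.leaf 210496520195) (.leaf 9079564009534)) (.node (.leaf 8924987981890) (.leaf 1322853924897))) (.node (.node (.leaf 1533319118870) (.leaf 6927804399660)) (.node (.leaf 3715152412711) (.leaf 6038766157872))))) (.node (.node (.node (.node (.leaf 682914283559) (.leaf 3878360580160)) (.node (.leaf 1305670057985) (.leaf 3998623465478))) (.node (.node (.leaf 1073757683724) (.leaf 33)) (.node (.leaf 7275763138563) (.leaf 1189847302212)))) (.node (.node (.node (.leaf 1155404267581) (.leaf 8933572608029)) (.node (.leaf 7898496172057) (.leaf 3289982959661))) (.node (.node (.leaf 8190518886404) (.leaf 7640818253831)) (.node (.leaf 2418073141291) (.leaf 3345836277784)))))) (.node (.node (.node (.node (.node (.leaf 4110339145732) (.leaf 7237072912389)) (.node (.leaf 7984372908093) (.leaf 7254200287298))) (.node (.node (.leaf 3882757193748) (.leaf 5123917283365)) (.node (.leaf 936411463698) (.leaf 8972204965926)))) (.node (.node (.node (.leaf 8607135432764) (.leaf 1447472857113)) (.node (.leaf 816095625275) (.leaf 3878403571740))) (.node (.node (.leaf 4625689542720) (.leaf 8212031864884)) (.node (.leaf 5467548811290) (.leaf 8976592666654))))) (.node (.node (.node (.node (.leaf 472447189031) (.leaf 4479652397089)) (.node (.leaf 3143985397809) (.leaf 4501182677047))) (.node (.node (.leaf 7537692049415) (.leaf 5282865414201)) (.node (.leaf 3573456896024) (.leaf 8886349135896)))) (.node (.node (.node (.leaf 7056706109477) (.leaf 3092431503401)) (.node (.leaf 7537718198310) (.leaf 9028121985044))) (.node (.node (.leaf 7881274753055) (.leaf 6992297656339)) (.node (.leaf 8602844069893) (.leaf 953606733877))))))) (.node (.node (.node (.node (.node (.node (.leaf 8370927501368) (.leaf 9045230157840)) (.node (.leaf 1675075715096) (.leaf 1168300048401))) (.node (.node (.leaf 8624311631908) (.leaf 6927804399653)) (.node (.leaf 3058018943012) (.leaf 8319477874741)))) (.node (.node (.node (.leaf 2074568425526) (.leaf 5317175607358)) (.node (.leaf 1984277119024) (.leaf 5385931194414))) (.node (.node (.leaf 1524785020954) (.leaf 8366737391646)) (.node (.leaf 3345787322391) (.leaf 7056706109459))))) (.node (.node (.node (.node (.leaf 2426721075268) (.leaf 3410233983035)) (.node (.leaf 8937959063557) (.leaf 1455999090738))) (.node (.node (.leaf 2168990269468) (.leaf 6631453491222)) (.node (.leaf 2491106721817) (.leaf 1696570146827)))) (.node (.node (.node (.leaf 7219842973763) (.leaf 5712336846895)) (.node (.leaf 695799185447) (.leaf 661430075456))) (.node (.node (.leaf 335007449089) (.leaf 7086804172803)) (.node (.leaf 2529777287179) (.leaf 34)))))) (.node (.node (.node (.node (.node (.leaf 3848399749155) (.leaf 2001456201751)) (.node (.leaf 6837683617825) (.leaf 2993680089132))) (.node (.node (.leaf 6416791699475) (.leaf 549820825663)) (.node (.leaf 1271380836394) (.leaf 468183613456)))) (.node (.node (.node (.leaf 1327169404954) (.leaf 5544822243386)) (.node (.leaf 6902071230531) (.leaf 3500482756676))) (.node (.node (.leaf 1945672548384) (.leaf 210494619700)) (.node (.leaf 5012239482888) (.leaf 8860567470102))))) (.node (.node (.node (.node (.leaf 7692294881329) (.leaf 6159048638487)) (.node (.leaf 3551938674708) (.leaf 7778214019118))) (.node (.node (.leaf 1305793003550) (.leaf 9053845454865)) (.node (.leaf 6433861730356) (.leaf 8169084682257)))) (.node (.node (.node (.leaf 1683628228679) (.leaf 4930703392800)) (.node (.leaf 4776047738929) (.leaf 923461419014))) (.node (.node (.leaf 803236937759) (.leaf 3500424691728)) (.node (.leaf 824748539930) (.leaf 4634338197507)))))))) (.node (.node (.node (.node (.node (.node (.node (.leaf 970764517408) (.leaf 5484727107589)) (.node (.leaf 3311420375047) (.leaf 8877774078022))) (.node (.node (.leaf 2559831638065) (.leaf 395226447886)) (.node (.leaf 7640760713241) (.leaf 5506162753569)))) (.node (.node (.node (.leaf 1189820170272) (.leaf 5463207444502)) (.node (.leaf 974960918540) (.leaf 7000840273943))) (.node (.node (.leaf 330797088787) (.leaf 5364467105822)) (.node (.leaf 8525534068739) (.leaf 4106076291140))))) (.node (.node (.node (.node (.leaf 3294297587775) (.leaf 6816136429592)) (.node (.leaf 8190564565047) (.leaf 4904986542110))) (.node (.node (.leaf 4037334335535) (.leaf 3547707932679)) (.node (.leaf 7125361098814) (.leaf 532665270294)))) (.node (.node (.node (.leaf 545519435826) (.leaf 4698728628243)) (.node (.leaf 3212641370136) (.leaf 6013018898451))) (.node (.node (.leaf 73) (.leaf 8078880276486)) (.node (.leaf 4737368784951) (.leaf 721592123443)))))) (.node (.node (.node (.node (.node (.leaf 6012969812031) (.leaf 927771000843)) (.node (.leaf 3448875253796) (.leaf 2027307466778))) (.node (.node (.leaf 4466780471335) (.leaf 3753806528576)) (.node (.leaf 313532612609) (.leaf 2010075365386)))) (.node (.node (.node (.leaf 5162567532559) (.leaf 35)) (.node (.leaf 4325133844504) (.leaf 4870585122881))) (.node (.node (.leaf 7481864159266) (.leaf 6219167563806)) (.node (.leaf 5995775328301) (.leaf 3281356980267))))) (.node (.node (.node (.node (.leaf 5626442285065) (.leaf 4544136085551)) (.node (.leaf 6652952772611) (.leaf 7984396238894))) (.node (.node (.leaf 4294982107169) (.leaf 7438913634316)) (.node (.leaf 3358674976808) (.leaf 7314425446411)))) (.node (.node (.node (.leaf 2637122699273) (.leaf 4033003257875)) (.node (.leaf 6141851271203) (.leaf 1919990300705))) (.node (.node (.leaf 3320101470238) (.leaf 1778158600255)) (.node (.leaf 6322247630872) (.leaf 5536341229601))))))) (.node (.node (.node (.node (.node (.node (.leaf 4410985676845) (.leaf 5892752998436)) (.node (.leaf 266299244591) (.leaf 1498959380516))) (.node (.node (.leaf 2705870225414) (.leaf 5304318230536)) (.node (.leaf 5682296586303) (.leaf 3431686340614)))) (.node (.node (.node (.leaf 6554156597276) (.leaf 5342976213025)) (.node (.leaf 2362264715285) (.leaf 9152633438234))) (.node (.node (.leaf 3178319249460) (.leaf 3002183974957)) (.node (.leaf 5136822108200) (.leaf 2267746795542))))) (.node (.node (.node (.node (.leaf 373741846582) (.leaf 2070216114208)) (.node (.leaf 2830389411900) (.leaf 5506250178591))) (.node (.node (.leaf 3994431848452) (.leaf 3096735514684)) (.node (.leaf 8521283862566) (.leaf 1554834260015)))) (.node (.node (.node (.leaf 850443436062) (.leaf 7288594497573)) (.node (.leaf 6777464291390) (.leaf 1065166241828))) (.node (.node (.leaf 6077416800281) (.leaf 1546248585272)) (.node (.leaf 3805359570990) (.leaf 5501946494980)))))) (.node (.node (.node (.node (.node (.leaf 3131032272934) (.leaf 8607194808353)) (.node (.leaf 7194128744481) (.leaf 9071056977923))) (.node (.node (.leaf 6043042971676) (.leaf 5076705280056)) (.node (.leaf 4561269620770) (.leaf 1292910460993)))) (.node (.node (.node (.leaf 7679493472282) (.leaf 3955675627524)) (.node (.leaf 9225617473577) (.leaf 6369462452278))) (.node (.node (.leaf 1769588326430) (.leaf 5188341071938)) (.node (.leaf 1782425911335) (.leaf 2095949152320))))) (.node (.node (.node (.node (.leaf 781684047873) (.leaf 7391678955529)) (.node (.leaf 3298576433166) (.leaf 618568613907))) (.node (.node (.leaf 369383112717) (.leaf 511173787658)) (.node (.leaf 2010147192862) (.leaf 7017981476920)))) (.node (.node (.node (.leaf 5184026443788) (.leaf 7215598469169)) (.node (.leaf 8053103984680) (.leaf 1803980374020))) (.node (.node (.leaf 1129613295624) (.leaf 8774665306115)) (.node (.leaf 4466767888401) (.leaf 7692294488068))))))))) (.node (.node (.node (.node (.node (.node (.node (.node (.leaf 5415976501311) (.leaf 5025148764212)) (.node (.leaf 1782415818822) (.leaf 262022037541))) (.node (.node (.leaf 4990755995699) (.leaf 8791845699615)) (.node (.leaf 734555602974) (.leaf 8469714370593)))) (.node (.node (.node (.leaf 5016552800272) (.leaf 3393031831600)) (.node (.leaf 2491123499034) (.leaf 6025876799541))) (.node (.node (.leaf 2250585538594) (.leaf 5540577738793)) (.node (.leaf 1786748862494) (.leaf 4243516293173))))) (.node (.node (.node (.node (.leaf 1189777309713) (.leaf 5458957565999)) (.node (.leaf 1086648746014) (.leaf 3414502146089))) (.node (.node (.leaf 1451712577586) (.leaf 571237924880)) (.node (.leaf 4990855151636) (.leaf 4217712934953)))) (.node (.node (.node (.leaf 4329358229535) (.leaf 6987946459166)) (.node (.leaf 5325768491069) (.leaf 1584861347875))) (.node (.node (.leaf 244876967977) (.leaf 3156845985797)) (.node (.leaf 4724481261577) (.leaf 2224823533576)))))) (.node (.node (.node (.node (.node (.leaf 2469607702549) (.leaf 3844005691445)) (.node (.leaf 5746775818259) (.leaf 1267048448051))) (.node (.node (.leaf 1017926451253) (.leaf 8431048785975)) (.node (.leaf 7649385971738) (.leaf 3466079502364)))) (.node (.node (.node (.leaf 7267099344961) (.leaf 7688062828594)) (.node (.leaf 5063770112055) (.leaf 8714494672925))) (.node (.node (.leaf 3075239116810) (.leaf 3998661017605)) (.node (.leaf 5557713895490) (.leaf 17207132185))))) (.node (.node (.node (.node (.leaf 4329340534845) (.leaf 1331468632090)) (.node (.leaf 7443209257018) (.leaf 8456874491961))) (.node (.node (.leaf 6219127783452) (.leaf 6030156234796)) (.node (.leaf 3547690631197) (.leaf 1490383470634)))) (.node (.node (.node (.leaf 1984289374247) (.leaf 3264180256832)) (.node (.leaf 1318554959873) (.leaf 6829125009413))) (.node (.node (.leaf 3289960022030) (.leaf 36)) (.node (.leaf 2808912019459) (.leaf 5025118355478))))))) (.node (.node (.node (.node (.node (.node (.leaf 4359427457084) (.leaf 6678762291253)) (.node (.leaf 1709427720234) (.leaf 6863416328211))) (.node (.node (.leaf 3380205060115) (.leaf 9247192580129)) (.node (.leaf 8748861685821) (.leaf 682931716112)))) (.node (.node (.node (.leaf 7640792039471) (.leaf 1455994306613)) (.node (.leaf 1168280911889) (.leaf 4067419160602))) (.node (.node (.leaf 5012287389701) (.leaf 6004391542804)) (.node (.leaf 7550592352303) (.leaf 4093143482425))))) (.node (.node (.node (.node (.leaf 751637102620) (.leaf 7387410006079)) (.node (.leaf 7554865627199) (.leaf 4221983850513))) (.node (.node (.leaf 3594958798867) (.leaf 7413136949252)) (.node (.leaf 2233399050306) (.leaf 644385931296)))) (.node (.node (.node (.leaf 51599900704) (.leaf 6545621516299)) (.node (.leaf 4724515012665) (.leaf 3818227433531))) (.node (.node (.leaf 4939248042034) (.leaf 3161172213814)) (.node (.leaf 5781127888928) (.leaf 545492762684)))))) (.node (.node (.node (.node (.node (.leaf 3594905059332) (.leaf 2426665173031)) (.node (.leaf 5871220752433) (.leaf 4041683370008))) (.node (.node (.leaf 7640763727904) (.leaf 1868373426188)) (.node (.leaf 158923948064) (.leaf 4694410657849)))) (.node (.node (.node (.leaf 1984413499416) (.leaf 7881329279023)) (.node (.leaf 7610766655507) (.leaf 7159752884227))) (.node (.node (.leaf 8525592657952) (.leaf 9204217872404)) (.node (.leaf 9040948559937) (.leaf 7859804373042))))) (.node (.node (.node (.node (.leaf 1486066024490) (.leaf 4870621167648)) (.node (.leaf 4389461884985) (.leaf 2877641326613))) (.node (.node (.leaf 4191974391830) (.leaf 7138311012357)) (.node (.leaf 8259330703382) (.leaf 5927148519454)))) (.node (.node (.node (.leaf 5708030279743) (.leaf 1206949511228)) (.node (.leaf 1211200372800) (.leaf 1352934686738))) (.node (.node (.leaf 3517601153086) (.leaf 3577769361432)) (.node (.leaf 8254958010376) (.leaf 6678696296492)))))))) (.node (.node (.node (.node (.node (.node (.node (.leaf 1984291405860) (.leaf 5854092984362)) (.node (.leaf 2229102510119) (.leaf 2254862942272))) (.node (.node (.leaf 884763262977) (.leaf 5420356861956)) (.node (.leaf 6936402919433) (.leaf 403805896737)))) (.node (.node (.node (.leaf 6867694649368) (.leaf 1859763306557)) (.node (.leaf 6653010051103) (.leaf 4007222968328))) (.node (.node (.leaf 386607939588) (.leaf 8598579052550)) (.node (.leaf 3599207235608) (.leaf 5025127530530))))) (.node (.node (.node (.node (.leaf 249249333251) (.leaf 2362316030009)) (.node (.leaf 8804697571375) (.leaf 3418820050977))) (.node (.node (.leaf 2950714753028) (.leaf 51542949932)) (.node (.leaf 4733083058208) (.leaf 5952858947653)))) (.node (.node (.node (.leaf 8443933294658) (.leaf 5205517140016)) (.node (.leaf 4982167175213) (.leaf 2276395974716))) (.node (.node (.leaf 1554869059641) (.leaf 8306472255547)) (.node (.leaf 1361594023947) (.leaf 6008667439171)))))) (.node (.node (.node (.node (.node (.leaf 6210526707758) (.leaf 721622990889)) (.node (.leaf 1589216935990) (.leaf 6717405134879))) (.node (.node (.leaf 846174093375) (.leaf 2456774508550)) (.node (.leaf 1284220190768) (.leaf 5738184179747)))) (.node (.node (.node (.leaf 6322226987049) (.leaf 4780346834996)) (.node (.leaf 6528397738000) (.leaf 5385891020867))) (.node (.node (.leaf 7408926654495) (.leaf 5978652868633)) (.node (.leaf 1838290960425) (.leaf 68848255000))))) (.node (.node (.node (.node (.leaf 2001504567303) (.leaf 8989382279217)) (.node (.leaf 5660783673412) (.leaf 5179860123680))) (.node (.node (.leaf 5257051308066) (.leaf 3586400124947)) (.node (.leaf 8332366446622) (.leaf 1108175290373)))) (.node (.node (.node (.leaf 2516939309109) (.leaf 5974326902836)) (.node (.leaf 8254970855471) (.leaf 8757499396143))) (.node (.node (.leaf 378061848641) (.leaf 3453216030767)) (.node (.leaf 2211989749797) (.leaf 618499276804))))))) (.node (.node (.node (.node (.node (.node (.leaf 592753066047) (.leaf 682909302848)) (.node (.leaf 2546982977583) (.leaf 6695934689294))) (.node (.node (.leaf 373662679045) (.leaf 4599985537061)) (.node (.leaf 6884933959706) (.leaf 8778946510904)))) (.node (.node (.node (.leaf 5282867445767) (.leaf 4814716403723)) (.node (.leaf 3556279058462) (.leaf 6859077779504))) (.node (.node (.leaf 1859735322663) (.leaf 4041569337408)) (.node (.leaf 850403524609) (.leaf 4148942077958))))) (.node (.node (.node (.node (.leaf 2538340745227) (.leaf 37)) (.node (.leaf 7275752390661) (.leaf 5033740206143))) (.node (.node (.leaf 7434618077238) (.leaf 8469785542689)) (.node (.leaf 4917756428322) (.leaf 3728168845342)))) (.node (.node (.node (.leaf 6030202437648) (.leaf 8899188097030)) (.node (.leaf 2418082316291) (.leaf 8302245445673))) (.node (.node (.leaf 1580607340551) (.leaf 5381601230851)) (.node (.leaf 4973584515116) (.leaf 4909157253173)))))) (.node (.node (.node (.node (.node (.leaf 1619278823468) (.leaf 5141129527319)) (.node (.leaf 4853333753883) (.leaf 2164703494184))) (.node (.node (.leaf 7885697450016) (.leaf 4067367452699)) (.node (.leaf 9135463268389) (.leaf 914878431287)))) (.node (.node (.node (.leaf 4310630471) (.leaf 3212636061748)) (.node (.leaf 8864946716698) (.leaf 7013693718558))) (.node (.node (.leaf 4157537714246) (.leaf 6390959833121)) (.node (.leaf 455335739402) (.leaf 7151181496376))))) (.node (.node (.node (.node (.leaf 1344358776843) (.leaf 3530487496745)) (.node (.leaf 8684429967419) (.leaf 7670857465915))) (.node (.node (.leaf 8035884335132) (.leaf 17230463043)) (.node (.leaf 3504706289685) (.leaf 1855497109567)))) (.node (.node (.node (.leaf 6068810743852) (.leaf 3491880828932)) (.node (.leaf 592816504889) (.leaf 8740397449248))) (.node (.node (.leaf 4806139052100) (.leaf 133197987895)) (.node (.leaf 7907078570039) (.leaf 3586385838110)))))))))))) (.node (.node (.node (.node (.node (.node (.node (.node (.node (.node (.node (.leaf 3676549218365) (.leaf 3728156983320)) (.node (.leaf 919129751574) (.leaf 3766730948640))) (.node (.node (.leaf 2302121607187) (.leaf 5579283562522)) (.node (.leaf 133145165836) (.leaf 1992896479282)))) (.node (.node (.node (.leaf 3453223632938) (.leaf 214749937691)) (.node (.leaf 8499777830929) (.leaf 8998036570177))) (.node (.node (.leaf 5416000028724) (.leaf 3865523191850)) (.node (.leaf 1559150002179) (.leaf 6030259388421))))) (.node (.node (.node (.node (.leaf 6210581037081) (.leaf 3577728008233)) (.node (.leaf 4492545753137) (.leaf 7533398589494))) (.node (.node (.leaf 6897722720285) (.leaf 4067424534554)) (.node (.leaf 3143930544167) (.leaf 107379294272)))) (.node (.node (.node (.leaf 1258425417729) (.leaf 4836137107458)) (.node (.leaf 3135431245828) (.leaf 3960058019844))) (.node (.node (.leaf 3496168587273) (.leaf 8332334268420)) (.node (.leaf 275013238815) (.leaf 2439599620114)))))) (.node (.node (.node (.node (.node (.leaf 4380867100685) (.leaf 4110312407105)) (.node (.leaf 3783874183183) (.leaf 146056806410))) (.node (.node (.leaf 7206964428846) (.leaf 6219173134346)) (.node (.leaf 4295016120360) (.leaf 5308602253314)))) (.node (.node (.node (.leaf 6219142463498) (.leaf 4217675776046)) (.node (.leaf 6519805509655) (.leaf 3577716408387))) (.node (.node (.leaf 4990836867104) (.leaf 7507656179754)) (.node (.leaf 5364420509732) (.leaf 6829028409374))))) (.node (.node (.node (.node (.leaf 7288608784443) (.leaf 8594265538614)) (.node (.leaf 4196205920290) (.leaf 2525527408671))) (.node (.node (.leaf 4625798987802) (.leaf 1219793256478)) (.node (.leaf 6987923718185) (.leaf 7194084900912)))) (.node (.node (.node (.leaf 1327175827459) (.leaf 4432464052227)) (.node (.leaf 6554195787796) (.leaf 5059502014471))) (.node (.node (.leaf 4080241737789) (.leaf 2276342169623)) (.node (.leaf 4990868127776) (.leaf 1327202172931))))))) (.node (.node (.node (.node (.node (.node (.leaf 5682308841493) (.leaf 914877055017)) (.node (.leaf 184728354841) (.leaf 1627850473524))) (.node (.node (.leaf 1627796602941) (.leaf 8272156033069)) (.node (.leaf 1992908079121) (.leaf 7043766747150)))) (.node (.node (.node (.leaf 9225618456582) (.leaf 8658674974786)) (.node (.leaf 803217014822) (.leaf 214831857701))) (.node (.node (.leaf 5102456274997) (.leaf 7967187992628)) (.node (.leaf 6094681079851) (.leaf 6249259860011))))) (.node (.node (.node (.node (.leaf 7086705279041) (.leaf 5003670716421)) (.node (.leaf 7507617644586) (.leaf 6554200965140))) (.node (.node (.leaf 7194115702832) (.leaf 6798995947581)) (.node (.leaf 8066004877359) (.leaf 6249258745899)))) (.node (.node (.node (.leaf 794591428674) (.leaf 7086712225799)) (.node (.leaf 7945828368388) (.leaf 8585664200708))) (.node (.node (.leaf 506946715653) (.leaf 6476824182803)) (.node (.leaf 6987921293375) (.leaf 6605672284208)))))) (.node (.node (.node (.node (.node (.leaf 2641419370535) (.leaf 3100971499584)) (.node (.leaf 515396075521) (.leaf 3685138169861))) (.node (.node (.leaf 16) (.leaf 38)) (.node (.leaf 5497609584696) (.leaf 7413237088288)))) (.node (.node (.node (.leaf 7434613686292) (.leaf 6472552874052)) (.node (.leaf 6691661152288) (.leaf 7520561659934))) (.node (.node (.leaf 6725930516518) (.leaf 4239262810142)) (.node (.leaf 5665088208944) (.leaf 3367265239085))))) (.node (.node (.node (.node (.leaf 9045247524869) (.leaf 652922257476)) (.node (.leaf 4264913600534) (.leaf 420995137568))) (.node (.node (.leaf 9268577173555) (.leaf 3796846968865)) (.node (.leaf 4788965408838) (.leaf 2164681932824)))) (.node (.node (.node (.leaf 2053033951282) (.leaf 2156084658217)) (.node (.leaf 9135412609062) (.leaf 2641445781553))) (.node (.node (.leaf 2534096502809) (.leaf 1623548428318)) (.node (.leaf 5325777535031) (.leaf 8976600072195)))))))) (.node (.node (.node (.node (.node (.node (.node (.leaf 3470398128151) (.leaf 7481937756193)) (.node (.leaf 4947840073768) (.leaf 3848348041233))) (.node (.node (.leaf 2637218447428) (.leaf 7464659845166)) (.node (.leaf 2186152509475) (.leaf 4746002825240)))) (.node (.node (.node (.leaf 8641574862872) (.leaf 7091088785413)) (.node (.leaf 3350214606851) (.leaf 5540580425745))) (.node (.node (.leaf 936369913894) (.leaf 184725733388)) (.node (.leaf 171845419040) (.leaf 7013754798113))))) (.node (.node (.node (.node (.leaf 5093876301876) (.leaf 9002308993079)) (.node (.leaf 1550531297311) (.leaf 9075270746135))) (.node (.node (.leaf 2014349099067) (.leaf 6322219974716)) (.node (.leaf 8821940617269) (.leaf 3887074181152)))) (.node (.node (.node (.leaf 4797619634195) (.leaf 5879851843632)) (.node (.leaf 3302929596481) (.leaf 115975585828))) (.node (.node (.leaf 459577163824) (.leaf 8435321077767)) (.node (.leaf 4677257265211) (.leaf 3775344345149)))))) (.node (.node (.node (.node (.node (.leaf 3448908415038) (.leaf 2357951070231)) (.node (.leaf 8010137534498) (.leaf 3131118256154))) (.node (.node (.leaf 6949278908487) (.leaf 6854790807571)) (.node (.leaf 6691613704224) (.leaf 8061702897697)))) (.node (.node (.node (.leaf 9088161415207) (.leaf 378047758379)) (.node (.leaf 2220512575527) (.leaf 597005566016))) (.node (.node (.leaf 712964571137) (.leaf 7215653191685)) (.node (.leaf 5673689415693) (.leaf 39))))) (.node (.node (.node (.node (.leaf 6506882662405) (.leaf 1597777969199)) (.node (.leaf 463927574570) (.leaf 4252018737181))) (.node (.node (.leaf 4024395104299) (.leaf 6399534497832)) (.node (.leaf 6451062964275) (.leaf 8779050385440)))) (.node (.node (.node (.leaf 1829674876969) (.leaf 4398165262360)) (.node (.leaf 7529152118816) (.leaf 9144007524400))) (.node (.node (.leaf 7481899745343) (.leaf 227663609922)) (.node (.leaf 7821158907933) (.leaf 2542647705623))))))) (.node (.node (.node (.node (.node (.node (.leaf 4453886197782) (.leaf 5531960213542)) (.node (.leaf 5407401574461) (.leaf 4256355516472))) (.node (.node (.leaf 9023795560464) (.leaf 4290694676492)) (.node (.leaf 2572711624759) (.leaf 6352319152132)))) (.node (.node (.node (.leaf 2169019760665) (.leaf 4368020602940)) (.node (.leaf 1060867670075) (.leaf 5338659029013))) (.node (.node (.leaf 1138195955780) (.leaf 7396033495075)) (.node (.leaf 227706798105) (.leaf 2018677555242))))) (.node (.node (.node (.node (.leaf 6322210537535) (.leaf 7228494381072)) (.node (.leaf 7215632154677) (.leaf 1099522506791))) (.node (.node (.leaf 893360996362) (.leaf 914843238431)) (.node (.leaf 8641567784993) (.leaf 1803931353092)))) (.node (.node (.node (.leaf 9131101257765) (.leaf 8323670016013)) (.node (.leaf 1799596408855) (.leaf 8250639974447))) (.node (.node (.leaf 8160496779311) (.leaf 17253990426)) (.node (.leaf 51553239070) (.leaf 6915036872723)))))) (.node (.node (.node (.node (.node (.leaf 7305790947391) (.leaf 2461066199052)) (.node (.leaf 8177643618315) (.leaf 936370110506))) (.node (.node (.leaf 5858388738095) (.leaf 8418155888678)) (.node (.leaf 4595618676792) (.leaf 8143377793043)))) (.node (.node (.node (.leaf 4419594747959) (.leaf 2392356814890)) (.node (.leaf 6077517725726) (.leaf 8555602247696))) (.node (.node (.leaf 1211215708186) (.leaf 7288566186015)) (.node (.leaf 6983622393873) (.leaf 7310091092004))))) (.node (.node (.node (.node (.leaf 4406746415123) (.leaf 5635045195808)) (.node (.leaf 7207046348844) (.leaf 4136144338987))) (.node (.node (.leaf 2379426365479) (.leaf 4363691884608)) (.node (.leaf 721554505729) (.leaf 116031750148)))) (.node (.node (.node (.leaf 3332962254864) (.leaf 1649365483532)) (.node (.leaf 3410275729458) (.leaf 8869144428594))) (.node (.node (.leaf 6287942418485) (.leaf 7537689493538)) (.node (.leaf 8886374825988) (.leaf 5695151931455))))))))) (.node (.node (.node (.node (.node (.node (.node (.node (.leaf 511102681134) (.leaf 6927830089744)) (.node (.leaf 1005034733606) (.leaf 3672251170826))) (.node (.node (.leaf 8761827655748) (.leaf 8770354020368)) (.node (.leaf 3358711545898) (.leaf 635677245503)))) (.node (.node (.node (.leaf 3715212181511) (.leaf 3642143014928)) (.node (.leaf 1683657130010) (.leaf 4806160941060))) (.node (.node (.leaf 2899110658101) (.leaf 992141770779)) (.node (.leaf 6867666403364) (.leaf 3758111129617))))) (.node (.node (.node (.node (.leaf 1370183368747) (.leaf 81663557685)) (.node (.leaf 1477485789246) (.leaf 8121853345851))) (.node (.node (.leaf 2327975493652) (.leaf 4569862635535)) (.node (.leaf 4634280656929) (.leaf 7443295109125)))) (.node (.node (.node (.leaf 7722443603994) (.leaf 3247017033761)) (.node (.leaf 622859976723) (.leaf 4690162024478))) (.node (.node (.leaf 6820495687723) (.leaf 2070236102661)) (.node (.leaf 8087482204184) (.leaf 2323592708163)))))) (.node (.node (.node (.node (.node (.leaf 2851869753391) (.leaf 4642887827494)) (.node (.leaf 3702298705983) (.leaf 8989470294081))) (.node (.node (.leaf 2456742395912) (.leaf 8070257180705)) (.node (.leaf 3706685947937) (.leaf 2607072804894)))) (.node (.node (.node (.leaf 5476101128251) (.leaf 7168305463347)) (.node (.leaf 4677223448642) (.leaf 3191167713316))) (.node (.node (.leaf 6077394255894) (.leaf 8826168934406)) (.node (.leaf 6416729505801) (.leaf 4080235708448))))) (.node (.node (.node (.node (.leaf 4501153710106) (.leaf 6214882295863)) (.node (.leaf 8942193672198) (.leaf 2164778336291))) (.node (.node (.leaf 3161148162074) (.leaf 588415631369)) (.node (.leaf 8199103316034) (.leaf 1189759156261)))) (.node (.node (.node (.leaf 6631479181368) (.leaf 7683756261383)) (.node (.leaf 3272819146801) (.leaf 8658667569171))) (.node (.node (.leaf 3758223589406) (.leaf 6983629930562)) (.node (.leaf 3551952437287) (.leaf 4372281819200))))))) (.node (.node (.node (.node (.node (.node (.leaf 1267015352321) (.leaf 3685151342595)) (.node (.leaf 4754651348996) (.leaf 40))) (.node (.node (.leaf 201916219425) (.leaf 9126938607619)) (.node (.leaf 7013781012510) (.leaf 4591348744255)))) (.node (.node (.node (.leaf 2985029533751) (.leaf 5257046655014)) (.node (.leaf 7417518882840) (.leaf 2435288137735))) (.node (.node (.leaf 545461829697) (.leaf 7984455090208)) (.node (.leaf 3229929832453) (.leaf 1709415202850))))) (.node (.node (.node (.node (.leaf 2186165420099) (.leaf 5407420645418)) (.node (.leaf 3972880465972) (.leaf 5781122383929))) (.node (.node (.leaf 8229189582884) (.leaf 5819768635424)) (.node (.leaf 6622872666171) (.leaf 6064541859895)))) (.node (.node (.node (.leaf 9247087001653) (.leaf 1812507459633)) (.node (.leaf 8426807296012) (.leaf 7962913472535))) (.node (.node (.leaf 9217034747929) (.leaf 3955763183619)) (.node (.leaf 6073107283990) (.leaf 8551300661297)))))) (.node (.node (.node (.node (.node (.leaf 4346580631607) (.leaf 6219170709529)) (.node (.leaf 3122442797091) (.leaf 8761754583076))) (.node (.node (.leaf 2701542948910) (.leaf 3710883135547)) (.node (.leaf 1752406032429) (.leaf 7314418565123)))) (.node (.node (.node (.leaf 6914920677379) (.leaf 3908481777706)) (.node (.leaf 5892768464955) (.leaf 103116374019))) (.node (.node (.leaf 1163957960736) (.leaf 5184077299764)) (.node (.leaf 8547059433477) (.leaf 5411716136985))))) (.node (.node (.node (.node (.leaf 4827581382683) (.leaf 6064501424184)) (.node (.leaf 4913484202009) (.leaf 2349418741790))) (.node (.node (.leaf 4823319773239) (.leaf 6640099655717)) (.node (.leaf 2688680853551) (.leaf 8259285155895)))) (.node (.node (.node (.leaf 1073803034634) (.leaf 68763189307)) (.node (.leaf 4587085824060) (.leaf 6317957382152))) (.node (.node (.leaf 7215569305644) (.leaf 9079669784606)) (.node (.leaf 5991615496260) (.leaf 5033707438127)))))))) (.node (.node (.node (.node (.node (.node (.node (.leaf 2357979840546) (.leaf 4136150302744)) (.node (.leaf 2491130183746) (.leaf 5892747624507))) (.node (.node (.leaf 7949987872824) (.leaf 8770372501537)) (.node (.leaf 1606325436455) (.leaf 2529737113622)))) (.node (.node (.node (.leaf 3697981325351) (.leaf 476746481728)) (.node (.leaf 536870912001) (.leaf 4548437999622))) (.node (.node (.leaf 2040147869705) (.leaf 41)) (.node (.leaf 6536990490630) (.leaf 919242735684))))) (.node (.node (.node (.node (.leaf 4393790341169) (.leaf 1387407343684)) (.node (.leaf 588429131788) (.leaf 3904140541967))) (.node (.node (.leaf 4767458328592) (.leaf 7078211747859)) (.node (.leaf 2671503671330) (.leaf 7700918960173)))) (.node (.node (.node (.leaf 1417370271807) (.leaf 8405257355291)) (.node (.leaf 2985024880651) (.leaf 1245593075744))) (.node (.node (.leaf 4999367884832) (.leaf 8121831456815)) (.node (.leaf 6816144162844) (.leaf 2576986537994)))))) (.node (.node (.node (.node (.node (.leaf 2628520837146) (.leaf 7829767127054)) (.node (.leaf 4063093063725) (.leaf 4780301090840))) (.node (.node (.leaf 5922794635305) (.leaf 7692355043353)) (.node (.leaf 3882771152931) (.leaf 5798281936966)))) (.node (.node (.node (.leaf 7237024677895) (.leaf 2512564912152)) (.node (.leaf 1464648269854) (.leaf 5841194647587))) (.node (.node (.leaf 3088084238348) (.leaf 7434641997882)) (.node (.leaf 3259959214150) (.leaf 9156872175670))))) (.node (.node (.node (.node (.leaf 8886335307800) (.leaf 1864022097959)) (.node (.leaf 6721684045879) (.leaf 5089630158880))) (.node (.node (.leaf 5970091442195) (.leaf 7408871014406)) (.node (.leaf 12910264365) (.leaf 9169853153312)))) (.node (.node (.node (.leaf 7116794036287) (.leaf 8714505814035)) (.node (.leaf 901965348935) (.leaf 3586329411645))) (.node (.node (.leaf 8907769511940) (.leaf 8211998244916)) (.node (.leaf 4265004695557) (.leaf 996556734490))))))) (.node (.node (.node (.node (.node (.node (.leaf 6128947232837) (.leaf 5776760176694)) (.node (.leaf 2452545536005) (.leaf 3375878045741))) (.node (.node (.leaf 2894895710245) (.leaf 6347996921905)) (.node (.leaf 8607125536828) (.leaf 5467538980890)))) (.node (.node (.node (.leaf 6403802071064) (.leaf 4556973932588)) (.node (.leaf 1142529130522) (.leaf 4990788501549))) (.node (.node (.leaf 3264239829045) (.leaf 5798245564443)) (.node (.leaf 5690861486115) (.leaf 5905628135456))))) (.node (.node (.node (.node (.leaf 2181855707154) (.leaf 6038730113078)) (.node (.leaf 3277074530343) (.leaf 2083064250432))) (.node (.node (.leaf 1133871366145) (.leaf 2126078214148)) (.node (.leaf 17) (.leaf 6863416786985)))) (.node (.node (.node (.leaf 1645079232544) (.leaf 605671784505)) (.node (.leaf 5755318435846) (.leaf 5166858764356))) (.node (.node (.leaf 7507614498856) (.leaf 4870537019448)) (.node (.leaf 6597166497796) (.leaf 7778257338410)))))) (.node (.node (.node (.node (.node (.leaf 2061714128920) (.leaf 1649278779457)) (.node (.leaf 6232027955252) (.leaf 6756066983948))) (.node (.node (.leaf 6519771365387) (.leaf 9096763539471)) (.node (.leaf 223380635656) (.leaf 4608536608790)))) (.node (.node (.node (.leaf 4363734417445) (.leaf 4329433137157)) (.node (.leaf 3440316317748) (.leaf 2753141997631))) (.node (.node (.leaf 5201244127282) (.leaf 420921016367)) (.node (.leaf 4986510114863) (.leaf 171875041333))))) (.node (.node (.node (.node (.leaf 5493275099191) (.leaf 1155348299803)) (.node (.leaf 8740289380415) (.leaf 4548402020403))) (.node (.node (.leaf 7782567837701) (.leaf 2134603726867)) (.node (.leaf 708768170019) (.leaf 803261972483)))) (.node (.node (.node (.leaf 8070293422130) (.leaf 5776824139798)) (.node (.leaf 2641435951166) (.leaf 1327217639465))) (.node (.node (.leaf 8585652469769) (.leaf 2267748302887)) (.node (.leaf 549761581111) (.leaf 1297095589905)))))))))) (.node (.node (.node (.node (.node (.node (.node (.node (.node (.leaf 5703778369552) (.leaf 2641510662181)) (.node (.leaf 378003783684) (.leaf 1189724028995))) (.node (.node (.leaf 4402403016725) (.leaf 4797515890720)) (.node (.leaf 601433374744) (.leaf 7121141235736)))) (.node (.node (.node (.leaf 5385928376337) (.leaf 3912721235990)) (.node (.leaf 6090267164743) (.leaf 6416724656138))) (.node (.node (.leaf 2456752488511) (.leaf 5501935616011)) (.node (.leaf 7898471858231) (.leaf 7146842292285))))) (.node (.node (.node (.node (.leaf 1679435104280) (.leaf 9135501213753)) (.node (.leaf 2418127994905) (.leaf 1572010393619))) (.node (.node (.leaf 2783226495047) (.leaf 1821084745735)) (.node (.leaf 7275722964998) (.leaf 8259283976213)))) (.node (.node (.node (.leaf 5085250125843) (.leaf 1563388477459)) (.node (.leaf 8014460354620) (.leaf 6996543209520))) (.node (.node (.leaf 2087368589351) (.leaf 2684359671872)) (.node (.leaf 403726925825) (.leaf 3685136400391)))))) (.node (.node (.node (.node (.node (.leaf 4642915876881) (.leaf 42)) (.node (.leaf 67) (.leaf 9126915735596))) (.node (.node (.leaf 4527007006725) (.leaf 1194021879858)) (.node (.leaf 197671976990) (.leaf 5879836311584)))) (.node (.node (.node (.leaf 4466820907029) (.leaf 2568403419170)) (.node (.leaf 3474664652856) (.leaf 3345830969382))) (.node (.node (.leaf 8362320068665) (.leaf 5866987323455)) (.node (.leaf 2061590331411) (.leaf 1082431242272))))) (.node (.node (.node (.node (.leaf 3990155624467) (.leaf 6360938184709)) (.node (.leaf 6777460031551) (.leaf 1232753066041))) (.node (.node (.leaf 8452572971038) (.leaf 6700211568666)) (.node (.leaf 8452587913235) (.leaf 987864498235)))) (.node (.node (.node (.leaf 9191233683491) (.leaf 5377362952255)) (.node (.leaf 1176872878128) (.leaf 6867692027962))) (.node (.node (.leaf 5935648997413) (.leaf 6519812980804)) (.node (.leaf 7851269095434) (.leaf 6502610829329))))))) (.node (.node (.node (.node (.node (.node (.leaf 7537688772660) (.leaf 3397450137635)) (.node (.leaf 3586384134179) (.leaf 8426797137936))) (.node (.node (.leaf 5712392028217) (.leaf 3131094990893)) (.node (.leaf 4037275484188) (.leaf 3109662556214)))) (.node (.node (.node (.leaf 2482567249988) (.leaf 3023663267848)) (.node (.leaf 8542782029893) (.leaf 4471093067805))) (.node (.node (.leaf 2259186286655) (.leaf 2920645722154)) (.node (.leaf 4952175083551) (.leaf 7615113527364))))) (.node (.node (.node (.node (.leaf 2546979110962) (.leaf 803163078715)) (.node (.leaf 369400414276) (.leaf 6197711274016))) (.node (.node (.leaf 4471096541226) (.leaf 5373014114357)) (.node (.leaf 2830428799044) (.leaf 9204180123707)))) (.node (.node (.node (.leaf 5368727797802) (.leaf 274884198430)) (.node (.leaf 601356828688) (.leaf 4492583960595))) (.node (.node (.leaf 6356579385397) (.leaf 7877050630188)) (.node (.leaf 5802505994306) (.leaf 5119689228292)))))) (.node (.node (.node (.node (.node (.leaf 8199093682240) (.leaf 6854859816984)) (.node (.leaf 670124277765) (.leaf 5033767338017))) (.node (.node (.leaf 2495382159430) (.leaf 7662227750966)) (.node (.leaf 3972859232295) (.leaf 249113215040)))) (.node (.node (.node (.leaf 949187772417) (.leaf 6829125009411)) (.node (.leaf 9058121875469) (.leaf 2357997076485))) (.node (.node (.leaf 1889821655083) (.leaf 4647181221947)) (.node (.leaf 463863087128) (.leaf 7692335775791))))) (.node (.node (.node (.node (.leaf 1709430800387) (.leaf 4093121265672)) (.node (.leaf 3083816534042) (.leaf 1194129686532))) (.node (.node (.leaf 6472561983556) (.leaf 541182066730)) (.node (.leaf 399508176926) (.leaf 4531281461301)))) (.node (.node (.node (.leaf 5059517284386) (.leaf 4174801076244)) (.node (.leaf 176187768846) (.leaf 1666512781359))) (.node (.node (.leaf 6352302833683) (.leaf 8078922416152)) (.node (.leaf 5158276235306) (.leaf 3058153160734)))))))) (.node (.node (.node (.node (.node (.node (.node (.leaf 7898498727988) (.leaf 2014416994337)) (.node (.leaf 7988680327191) (.leaf 3972873257007))) (.node (.node (.leaf 6210539159577) (.leaf 9083942469650)) (.node (.leaf 8946418319368) (.leaf 5866976968712)))) (.node (.node (.node (.leaf 9036735381528) (.leaf 9208469389337)) (.node (.leaf 5871256403976) (.leaf 8207718416389))) (.node (.node (.leaf 970682859540) (.leaf 781706199046)) (.node (.leaf 1808262692883) (.leaf 72))))) (.node (.node (.node (.node (.leaf 5540515676192) (.leaf 7241416376323)) (.node (.leaf 7889878253585) (.leaf 8156146499589))) (.node (.node (.leaf 12935561219) (.leaf 3861208956966)) (.node (.leaf 3410232934426) (.leaf 7451834253335)))) (.node (.node (.node (.leaf 1988585390123) (.leaf 5622128771076)) (.node (.leaf 420966826025) (.leaf 7864092983314))) (.node (.node (.leaf 5592074223662) (.leaf 6352268689469)) (.node (.leaf 1155435986988) (.leaf 6575637790780)))))) (.node (.node (.node (.node (.node (.leaf 1949945561115) (.leaf 5497663651864)) (.node (.leaf 5063791935544) (.leaf 962097905711))) (.node (.node (.leaf 4599939334176) (.leaf 5450324377622)) (.node (.leaf 1198354726975) (.leaf 1125314330685)))) (.node (.node (.node (.leaf 502512549959) (.leaf 3045152129031)) (.node (.leaf 3663664513076) (.leaf 8688754819131))) (.node (.node (.leaf 7486145364024) (.leaf 5016577114144)) (.node (.leaf 2138917371924) (.leaf 571232026646))))) (.node (.node (.node (.node (.leaf 717274021927) (.leaf 3461748752448)) (.node (.leaf 103079215105) (.leaf 1855501631490))) (.node (.node (.leaf 4651487985673) (.leaf 43)) (.node (.leaf 1464610717727) (.leaf 2323702480907)))) (.node (.node (.node (.leaf 1387280203791) (.leaf 8040188215311)) (.node (.leaf 2439635992594) (.leaf 7713764737033))) (.node (.node (.leaf 4037361336385) (.leaf 3294269276168)) (.node (.leaf 8572780019758) (.leaf 1730942926856))))))) (.node (.node (.node (.node (.node (.node (.leaf 8804739579914) (.leaf 8774632800266)) (.node (.leaf 4741670109192) (.leaf 5428875427848))) (.node (.node (.leaf 4114588631074) (.leaf 6798955315261)) (.node (.leaf 5300127531013) (.leaf 6987972935713)))) (.node (.node (.node (.leaf 1327251521539) (.leaf 214774448165)) (.node (.leaf 7507633438739) (.leaf 5991512408099))) (.node (.node (.leaf 34370617393) (.leaf 214788341819)) (.node (.leaf 4990752849952) (.leaf 1662162829325))))) (.node (.node (.node (.node (.leaf 7018027745336) (.leaf 34370617409)) (.node (.leaf 4990824415282) (.leaf 347958738960))) (.node (.node (.leaf 5003705647167) (.leaf 4196217258018)) (.node (.leaf 5364499742739) (.leaf 1219805184030)))) (.node (.node (.node (.leaf 8066020999201) (.leaf 5003755192325)) (.node (.leaf 5991485800483) (.leaf 6781823877188))) (.node (.node (.leaf 7271451983914) (.leaf 7086784708673)) (.node (.leaf 103125680145) (.leaf 1219841294366)))))) (.node (.node (.node (.node (.node (.leaf 511166119946) (.leaf 6094573469739)) (.node (.leaf 5905705795617) (.leaf 511150915594))) (.node (.node (.leaf 4990752915481) (.leaf 180453703701)) (.node (.leaf 4114585616418) (.leaf 5905688821793)))) (.node (.node (.node (.leaf 8156252667908) (.leaf 4625711300634)) (.node (.leaf 167517683719) (.leaf 6987970510881))) (.node (.node (.leaf 8065949433894) (.leaf 3685135155223)) (.node (.leaf 4990755340348) (.leaf 3294319673397))))) (.node (.node (.node (.node (.leaf 3680793198658) (.leaf 8272136896553)) (.node (.leaf 4196253564962) (.leaf 5394480234515))) (.node (.node (.leaf 85976219660) (.leaf 1782429581335)) (.node (.leaf 8023035478023) (.leaf 1211238580269)))) (.node (.node (.node (.leaf 1189767741470) (.leaf 4501138702362)) (.node (.leaf 2619944534055) (.leaf 4230547898432))) (.node (.node (.leaf 51539607553) (.leaf 2916360912898)) (.node (.leaf 7245620051969) (.leaf 4741721817106))))))))) (.node (.node (.node (.node (.node (.node (.node (.node (.leaf 7215629795393) (.leaf 3384445042731)) (.node (.leaf 3972859822093) (.leaf 1116695363597))) (.node (.node (.leaf 3569223008267) (.leaf 4651452137481)) (.node (.leaf 3917018824708) (.leaf 7215578546186)))) (.node (.node (.node (.leaf 781720944648) (.leaf 6966473457674)) (.node (.leaf 3603501416494) (.leaf 3612091088942))) (.node (.node (.leaf 8804751441930) (.leaf 42980212746)) (.node (.leaf 8675867426822) (.leaf 5003704074303))))) (.node (.node (.node (.node (.leaf 4625750556698) (.leaf 8272164159529)) (.node (.leaf 6781802971204) (.leaf 347932852240))) (.node (.node (.leaf 5892724293663) (.leaf 4990754684988)) (.node (.leaf 167511130119) (.leaf 6987958452257)))) (.node (.node (.node (.leaf 5991496744995) (.leaf 8065950285847)) (.node (.leaf 4114594791458) (.leaf 575597117456))) (.node (.node (.leaf 9251379609636) (.leaf 8066000093217)) (.node (.leaf 8306528419846) (.leaf 914854641689)))))) (.node (.node (.node (.node (.node (.leaf 8332241010755) (.leaf 9156879253548)) (.node (.leaf 214761537573) (.leaf 1219820584990))) (.node (.node (.leaf 4990787518524) (.leaf 6872053448730)) (.node (.leaf 7507663847443) (.leaf 1219780018183)))) (.node (.node (.node (.leaf 8899226239037) (.leaf 9156885020716)) (.node (.leaf 5394479972371) (.leaf 5905705599009))) (.node (.node (.leaf 1477490901058) (.leaf 5394548064275)) (.node (.leaf 4990803509298) (.leaf 5905620926512))))) (.node (.node (.node (.node (.leaf 8675840032774) (.leaf 794576420930)) (.node (.leaf 1627932655619) (.leaf 5102527578166))) (.node (.node (.leaf 5042325946413) (.leaf 8272167501865)) (.node (.leaf 1662161387533) (.leaf 2525553426489)))) (.node (.node (.node (.leaf 4990802395168) (.leaf 4196232658978)) (.node (.leaf 6094565539883) (.leaf 214818750523))) (.node (.node (.leaf 914878758937) (.leaf 8474034307079)) (.node (.leaf 8134707380257) (.leaf 687296479265))))))) (.node (.node (.node (.node (.node (.node (.leaf 7799661264929) (.leaf 3002186203197)) (.node (.leaf 8873411936319) (.leaf 5639322402863))) (.node (.node (.leaf 4277801910311) (.leaf 2040114577472)) (.node (.leaf 1623497637889) (.leaf 270586478593)))) (.node (.node (.node (.leaf 3538948) (.leaf 7143429)) (.node (.leaf 3538946) (.leaf 3538951))) (.node (.node (.leaf 7572109918213) (.leaf 3538949)) (.node (.leaf 7215627632644) (.leaf 2924923912199))))) (.node (.node (.node (.node (.leaf 7215655288836) (.leaf 21478375436)) (.node (.leaf 30068310027) (.leaf 4651453710349))) (.node (.node (.leaf 3491811033099) (.leaf 6936376377353)) (.node (.leaf 4754651414532) (.leaf 3332923064336)))) (.node (.node (.node (.leaf 4166197837838) (.leaf 7143445)) (.node (.leaf 3538969) (.leaf 3538968))) (.node (.node (.leaf 7143449) (.leaf 7143442)) (.node (.leaf 3538965) (.leaf 3538964)))))) (.node (.node (.node (.node (.node (.leaf 3753826582533) (.leaf 7271435337731)) (.node (.leaf 3753830252549) (.leaf 249177178117))) (.node (.node (.leaf 249136021509) (.leaf 7271447920643)) (.node (.leaf 403853082657) (.leaf 618575626259)))) (.node (.node (.node (.leaf 3538980) (.leaf 403814088737)) (.node (.leaf 3538978) (.leaf 7143457))) (.node (.node (.leaf 4990760321064) (.leaf 29556777)) (.node (.leaf 4128810) (.leaf 2357979578373))))) (.node (.node (.node (.node (.leaf 4128808) (.leaf 197610635276)) (.node (.leaf 2534048530469) (.leaf 25777995820))) (.node (.node (.leaf 579847782435) (.leaf 24772657)) (.node (.leaf 4024424988679) (.leaf 25362479)))) (.node (.node (.node (.leaf 6811822063632) (.leaf 6811825668112)) (.node (.leaf 4432477290522) (.leaf 24772662))) (.node (.node (.leaf 25362485) (.leaf 6120342945845)) (.node (.leaf 3917039468548) (.leaf 4128827)))))))) (.node (.node (.node (.node (.node (.node (.node (.leaf 7507617185813) (.leaf 4128825)) (.node (.leaf 7507613777941) (.leaf 2594265301046))) (.node (.node (.leaf 3569120968741) (.leaf 5441729790008)) (.node (.leaf 3036574842885) (.leaf 41549834)))) (.node (.node (.node (.leaf 536933105697) (.leaf 201894068257)) (.node (.leaf 7945785376836) (.leaf 476796157993))) (.node (.node (.leaf 9156971855916) (.leaf 8757464596534)) (.node (.leaf 188993044519) (.leaf 4367986851904))))) (.node (.node (.node (.node (.leaf 468151435265) (.leaf 549759352833)) (.node (.leaf 2010069467140) (.leaf 7143431))) (.node (.node (.leaf 2010053083140) (.leaf 25362435)) (.node (.leaf 8675924180995) (.leaf 28442627)))) (.node (.node (.node (.leaf 7143434) (.leaf 3088134438919)) (.node (.leaf 28442632) (.leaf 25362446))) (.node (.node (.leaf 4599912595470) (.leaf 3341494255625)) (.node (.leaf 21481979916) (.leaf 4651457970191)))))) (.node (.node (.node (.node (.node (.leaf 4642884419601) (.leaf 3135431180292)) (.node (.leaf 25362455) (.leaf 7143448))) (.node (.node (.leaf 28442646) (.leaf 25362451)) (.node (.leaf 7143444) (.leaf 4166202621966)))) (.node (.node (.node (.leaf 28442643) (.leaf 2628520378390)) (.node (.leaf 4990759206940) (.leaf 7143455))) (.node (.node (.leaf 7143450) (.leaf 28442654)) (.node (.leaf 7143453) (.leaf 28442651))))) (.node (.node (.node (.node (.leaf 28442659) (.leaf 25362469)) (.node (.leaf 7271395491864) (.leaf 7143456))) (.node (.node (.leaf 7271440187416) (.leaf 618589585427)) (.node (.leaf 7143466) (.leaf 2358001074181)))) (.node (.node (.node (.leaf 3538982) (.leaf 3538983)) (.node (.leaf 28442662) (.leaf 3925657387016))) (.node (.node (.leaf 24772653) (.leaf 9156885282853)) (.node (.leaf 4990758682627) (.leaf 4947914457118))))))) (.node (.node (.node (.node (.node (.node (.leaf 7267127066648) (.leaf 4947927367710)) (.node (.leaf 7271404470323) (.leaf 7143474))) (.node (.node (.leaf 7894171254821) (.leaf 3538999)) (.node (.leaf 8388663) (.leaf 8388662)))) (.node (.node (.node (.leaf 5347322888227) (.leaf 1206907240492)) (.node (.leaf 28442684) (.leaf 1112480940076))) (.node (.node (.leaf 7143482) (.leaf 8658685853731)) (.node (.leaf 8066004615171) (.leaf 8332374507524))))) (.node (.node (.node (.node (.leaf 4492570198050) (.leaf 7215555411979)) (.node (.leaf 6279274102805) (.leaf 5497569411128))) (.node (.node (.leaf 5781033582651) (.leaf 5991558807571)) (.node (.leaf 2650018480148) (.leaf 3139731128363)))) (.node (.node (.node (.leaf 68733960231) (.leaf 1864020918336)) (.node (.leaf 2718714298369) (.leaf 6313653174281))) (.node (.node (.leaf 206168064002) (.leaf 7447537844258)) (.node (.leaf 6451076726819) (.leaf 3191168106546)))))) (.node (.node (.node (.node (.node (.leaf 3689438117895) (.leaf 5557701050400)) (.node (.leaf 2903484858380) (.leaf 292074225665))) (.node (.node (.leaf 3423124389904) (.leaf 4110312603713)) (.node (.leaf 193294303275) (.leaf 1112459444248)))) (.node (.node (.node (.leaf 3410295324691) (.leaf 8534141763647)) (.node (.leaf 5338650705928) (.leaf 2740241956913))) (.node (.node (.leaf 3801066176577) (.leaf 3169721450529)) (.node (.leaf 5162682417184) (.leaf 7743848644655))))) (.node (.node (.node (.node (.leaf 2435278962729) (.leaf 8680254079000)) (.node (.leaf 3075222994954) (.leaf 7645172203523))) (.node (.node (.leaf 4217661685801) (.leaf 7799730667545)) (.node (.leaf 6008685789220) (.leaf 8572810690611)))) (.node (.node (.node (.leaf 4299270848519) (.leaf 3998617960453)) (.node (.leaf 4990826905620) (.leaf 962081914917))) (.node (.node (.leaf 6562713763875) (.leaf 1498976223282)) (.node (.leaf 6859071881286) (.leaf 9156921393197))))))))))) (.node (.node (.node (.node (.node (.node (.node (.node (.node (.node (.leaf 8065969815603) (.leaf 472481333278)) (.node (.leaf 7804019933252) (.leaf 94563008544))) (.node (.node (.leaf 6906323664938) (.leaf 3435983405088)) (.node (.leaf 9143986159661) (.leaf 4818969231421)))) (.node (.node (.node (.leaf 2224833429512) (.leaf 8693137014817)) (.node (.leaf 9186944548935) (.leaf 3569179033606))) (.node (.node (.leaf 184697487406) (.leaf 8731674476559)) (.node (.leaf 6416712400925) (.leaf 4909193756689))))) (.node (.node (.node (.node (.leaf 1537645936645) (.leaf 2117431263275)) (.node (.leaf 3715178037276) (.leaf 3307138187325))) (.node (.node (.leaf 2461031923749) (.leaf 1181119021124)) (.node (.leaf 8461147242556) (.leaf 463861186588)))) (.node (.node (.node (.leaf 4904864645178) (.leaf 2886261014551)) (.node (.leaf 6378137976858) (.leaf 2121718300703))) (.node (.node (.leaf 2869044510780) (.leaf 3375901900823)) (.node (.leaf 4187687550981) (.leaf 5952848199687)))))) (.node (.node (.node (.node (.node (.leaf 2422471262238) (.leaf 1443116417066)) (.node (.leaf 2190447804455) (.leaf 2263452876864))) (.node (.node (.leaf 906238099457) (.leaf 6902063693833)) (.node (.leaf 8285007773697) (.leaf 3569212719134)))) (.node (.node (.node (.leaf 8602882015288) (.leaf 6829049249841)) (.node (.leaf 1030808010767) (.leaf 996501684274))) (.node (.node (.leaf 6631470596104) (.leaf 81625743362)) (.node (.leaf 3083790319656) (.leaf 7215561965571))))) (.node (.node (.node (.node (.leaf 137500164099) (.leaf 8680190640166)) (.node (.leaf 5669405196338) (.leaf 8894947262481))) (.node (.node (.leaf 2211967074321) (.leaf 670085087264)) (.node (.leaf 3569219665924) (.leaf 6081730641980)))) (.node (.node (.node (.leaf 7924233011237) (.leaf 3813950685252)) (.node (.leaf 4741678235655) (.leaf 5544928149507))) (.node (.node (.leaf 1679339749418) (.leaf 1580671172632)) (.node (.leaf 7816859615276) (.leaf 1675073355799))))))) (.node (.node (.node (.node (.node (.node (.leaf 184715378728) (.leaf 7842631319619)) (.node (.leaf 2323663224843) (.leaf 2770265505832))) (.node (.node (.leaf 4990844010518) (.leaf 674396962881)) (.node (.leaf 5634999779381) (.leaf 8967960985624)))) (.node (.node (.node (.leaf 7842611593252) (.leaf 9156891049987)) (.node (.leaf 3835460780082) (.leaf 1756646932550))) (.node (.node (.leaf 734561370142) (.leaf 3414513877033)) (.node (.leaf 2319282667530) (.leaf 81720573976))))) (.node (.node (.node (.node (.leaf 8169063514116) (.leaf 2650052755460)) (.node (.leaf 8757506605079) (.leaf 2731672535100))) (.node (.node (.leaf 9195526291504) (.leaf 3968569835535)) (.node (.leaf 1846883450937) (.leaf 8791805788191)))) (.node (.node (.node (.leaf 8469746286625) (.leaf 3766749036596)) (.node (.leaf 1627900870675) (.leaf 7434652155959))) (.node (.node (.leaf 5136815030304) (.leaf 262010503205)) (.node (.leaf 5544836333597) (.leaf 9096743551025)))))) (.node (.node (.node (.node (.node (.leaf 2899153911863) (.leaf 1477485789232)) (.node (.leaf 8190601986070) (.leaf 1133889388604))) (.node (.node (.leaf 1017957711927) (.leaf 850465128493)) (.node (.leaf 6979338960908) (.leaf 7086798012484)))) (.node (.node (.node (.leaf 5282860171316) (.leaf 8834883911712)) (.node (.leaf 6652943138876) (.leaf 2937867337754))) (.node (.node (.leaf 3599197077543) (.leaf 2413776732224)) (.node (.leaf 3813930958849) (.leaf 2920592769033))))) (.node (.node (.node (.node (.leaf 8048817143821) (.leaf 4634286489612)) (.node (.leaf 6081763868729) (.leaf 4999357464608))) (.node (.node (.leaf 4432453173297) (.leaf 4557007224838)) (.node (.leaf 4733174415392) (.leaf 8766051254276)))) (.node (.node (.node (.leaf 8323671326776) (.leaf 7481864290321)) (.node (.leaf 2422438559768) (.leaf 3251337101327))) (.node (.node (.leaf 3874102902829) (.leaf 2637227753476)) (.node (.leaf 2233400819762) (.leaf 3290018086928)))))))) (.node (.node (.node (.node (.node (.node (.node (.leaf 3500433014791) (.leaf 7666526650383)) (.node (.leaf 5265692295174) (.leaf 1739471061052))) (.node (.node (.leaf 6871955603459) (.leaf 8066048262181)) (.node (.leaf 3697984536602) (.leaf 4990856658979)))) (.node (.node (.node (.leaf 3569157996605) (.leaf 6919286161438)) (.node (.leaf 7052383289400) (.leaf 3766739075134))) (.node (.node (.leaf 8181934194733) (.leaf 5012255866925)) (.node (.leaf 184686608387) (.leaf 8791814111291))))) (.node (.node (.node (.node (.leaf 4183422337092) (.leaf 8658655772724)) (.node (.leaf 227773972499) (.leaf 4518380240949))) (.node (.node (.leaf 5544876834819) (.leaf 9156956520451)) (.node (.leaf 8383878529059) (.leaf 253465526284)))) (.node (.node (.node (.leaf 8005859082288) (.leaf 8323717660682)) (.node (.leaf 6524060303420) (.leaf 1786843955230))) (.node (.node (.leaf 5918570643460) (.leaf 8160464338992)) (.node (.leaf 2031618818081) (.leaf 6558461526061)))))) (.node (.node (.node (.node (.node (.leaf 4282088554546) (.leaf 1202608799768)) (.node (.leaf 1894170230852) (.leaf 4024421777413))) (.node (.node (.leaf 7902759354402) (.leaf 8658670518292)) (.node (.leaf 4737424162884) (.leaf 1374430953531)))) (.node (.node (.node (.leaf 2602781245464) (.leaf 4849039507492)) (.node (.leaf 2168977489960) (.leaf 8967980711960))) (.node (.node (.leaf 5248516358212) (.leaf 3620784832577)) (.node (.leaf 2250568040482) (.leaf 8349541400641))))) (.node (.node (.node (.node (.leaf 682922344501) (.leaf 8684435406877)) (.node (.leaf 6760330952754) (.leaf 2409519513634))) (.node (.node (.leaf 4380887089182) (.leaf 3272778842176)) (.node (.leaf 4823262756903) (.leaf 4166123388992)))) (.node (.node (.node (.leaf 1194000908289) (.leaf 2834693423113)) (.node (.leaf 6940704768013) (.leaf 3925618982920))) (.node (.node (.leaf 5549124812821) (.leaf 6012992290873)) (.node (.leaf 5231321022483) (.leaf 1039393488909))))))) (.node (.node (.node (.node (.node (.node (.leaf 2555552595992) (.leaf 7391713034244)) (.node (.leaf 1700844011588) (.leaf 1413049483327))) (.node (.node (.leaf 816058597414) (.leaf 2877656465418)) (.node (.leaf 3693696974907) (.leaf 6219172151342)))) (.node (.node (.node (.leaf 3410237063187) (.leaf 8572781461514)) (.node (.leaf 5063833288772) (.leaf 8353733410865))) (.node (.node (.leaf 2856274427934) (.leaf 6987955175447)) (.node (.leaf 7606467821605) (.leaf 5746713755667))))) (.node (.node (.node (.node (.leaf 6571439292484) (.leaf 8181957787681)) (.node (.leaf 5604948312068) (.leaf 4441007325213))) (.node (.node (.leaf 2057357754429) (.leaf 7580726591553)) (.node (.leaf 7017980231706) (.leaf 3028008828935)))) (.node (.node (.node (.leaf 4505448022040) (.leaf 5824005013520)) (.node (.leaf 9062387810319) (.leaf 2847586910276))) (.node (.node (.leaf 2701540130844) (.leaf 2907738210342)) (.node (.leaf 8680200994840) (.leaf 4587086741549)))))) (.node (.node (.node (.node (.node (.leaf 6137560956985) (.leaf 597072412706)) (.node (.leaf 9161200828467) (.leaf 6829006913540))) (.node (.node (.leaf 6051693592587) (.leaf 3805379624996)) (.node (.leaf 3783887945743) (.leaf 9174072295495)))) (.node (.node (.node (.leaf 1236955299855) (.leaf 2121737175071)) (.node (.leaf 2113137541179) (.leaf 1773944963102))) (.node (.node (.leaf 4823335698467) (.leaf 992159334445)) (.node (.leaf 9131134550057) (.leaf 1017930186805))))) (.node (.node (.node (.node (.leaf 2023037992991) (.leaf 116049051705)) (.node (.leaf 1322928963610) (.leaf 1786714390557))) (.node (.node (.leaf 6773227454500) (.leaf 1498965016626)) (.node (.leaf 622831599668) (.leaf 6554148798518)))) (.node (.node (.node (.leaf 6489707642946) (.leaf 240576888842)) (.node (.leaf 5136833708066) (.leaf 9161210069043))) (.node (.node (.leaf 5604962926655) (.leaf 8031721488417)) (.node (.leaf 974975336487) (.leaf 77329858586))))))))) (.node (.node (.node (.node (.node (.node (.node (.node (.leaf 4389471060007) (.leaf 816048898112)) (.node (.leaf 21474836481) (.leaf 3212642025478))) (.node (.node (.leaf 2220519260172) (.leaf 579840835619)) (.node (.leaf 5617866113058) (.leaf 944954671110)))) (.node (.node (.node (.leaf 7791174484037) (.leaf 996462624837)) (.node (.leaf 4260653498424) (.leaf 2684369109037))) (.node (.node (.leaf 3384479973418) (.leaf 6902071885827)) (.node (.leaf 4320747061291) (.leaf 8508398436384))))) (.node (.node (.node (.node (.leaf 7048157528132) (.leaf 824644403261)) (.node (.leaf 5514777395224) (.leaf 3655064748057))) (.node (.node (.leaf 8242164989985) (.leaf 5987250864177)) (.node (.leaf 979261325338) (.leaf 5531959558178)))) (.node (.node (.node (.leaf 6790386024467) (.leaf 7541969911863)) (.node (.leaf 3371565383686) (.leaf 9126829096988))) (.node (.node (.leaf 6317928349738) (.leaf 7224146133021)) (.node (.leaf 5901338804265) (.leaf 7159759110212)))))) (.node (.node (.node (.node (.node (.leaf 8645789155388) (.leaf 8190559518727)) (.node (.leaf 4926337056793) (.leaf 111723937826))) (.node (.node (.leaf 55901945889) (.leaf 6597103452215)) (.node (.leaf 8190519869470) (.leaf 4462532100137)))) (.node (.node (.node (.leaf 1176884346910) (.leaf 4947903315971)) (.node (.leaf 3148212666381) (.leaf 717268516933))) (.node (.node (.leaf 4140416761881) (.leaf 459666489363)) (.node (.leaf 5596422209606) (.leaf 4423874183185))))) (.node (.node (.node (.node (.leaf 7301563809827) (.leaf 4282102775870)) (.node (.leaf 7348706279450) (.leaf 4672936280131))) (.node (.node (.leaf 2723056320527) (.leaf 1125290606608)) (.node (.leaf 1425980981316) (.leaf 1400279990277)))) (.node (.node (.node (.leaf 6116093919293) (.leaf 7808323878944)) (.node (.leaf 6481120591940) (.leaf 3646445846561))) (.node (.node (.leaf 5991522631730) (.leaf 6665828237322)) (.node (.leaf 2757406490659) (.leaf 1082363346989))))))) (.node (.node (.node (.node (.node (.node (.leaf 4002965684280) (.leaf 5562004340798)) (.node (.leaf 3393071415357) (.leaf 7249990975514))) (.node (.node (.leaf 4131767451709) (.leaf 3032251760710)) (.node (.leaf 3736718802977) (.leaf 1288547991597)))) (.node (.node (.node (.leaf 1206902325284) (.leaf 2632923283482)) (.node (.leaf 249122586663) (.leaf 3229820518464))) (.node (.node (.leaf 85899345921) (.leaf 8323756720133)) (.node (.leaf 3144021180420) (.leaf 44))))) (.node (.node (.node (.node (.leaf 9208412373036) (.leaf 4956464349189)) (.node (.leaf 1374466736182) (.leaf 3088176971844))) (.node (.node (.leaf 2190525792324) (.leaf 3620674142250)) (.node (.leaf 1735167967255) (.leaf 6433879687202)))) (.node (.node (.node (.leaf 6640093429763) (.leaf 5708104138757)) (.node (.leaf 4638676746271) (.leaf 8894948638769))) (.node (.node (.leaf 3526254592022) (.leaf 3792528801830)) (.node (.leaf 5119644925997) (.leaf 1288501461057)))))) (.node (.node (.node (.node (.node (.leaf 2675827998746) (.leaf 7215617146901)) (.node (.leaf 2585578045459) (.leaf 2907766915089))) (.node (.node (.leaf 8813289865254) (.leaf 326447333430)) (.node (.leaf 7181236502575) (.leaf 5184026181682)))) (.node (.node (.node (.leaf 6790352601125) (.leaf 7494740541454)) (.node (.leaf 7018049437759) (.leaf 5712394059809))) (.node (.node (.leaf 8551280934940) (.leaf 3105302577196)) (.node (.leaf 5862685147140) (.leaf 1185434566716))))) (.node (.node (.node (.node (.leaf 270586019876) (.leaf 4015872409632)) (.node (.leaf 7722419290154) (.leaf 68779442206))) (.node (.node (.leaf 2628521623564) (.leaf 8388150951948)) (.node (.leaf 8890623131689) (.leaf 1812516896776)))) (.node (.node (.node (.leaf 7825528717330) (.leaf 5261405782032)) (.node (.leaf 3504711335986) (.leaf 5265710252052))) (.node (.node (.leaf 120262164528) (.leaf 4741653004356)) (.node (.leaf 8718865203265) (.leaf 4827569061914)))))))) (.node (.node (.node (.node (.node (.node (.node (.leaf 3826830016530) (.leaf 8787511672867)) (.node (.leaf 7825457348645) (.leaf 2057343729672))) (.node (.node (.leaf 1653573615638) (.leaf 1374399823894)) (.node (.leaf 1838248362039) (.leaf 5746743574565)))) (.node (.node (.node (.leaf 6777498173488) (.leaf 2551262806020)) (.node (.leaf 8177667276830) (.leaf 5089547452420))) (.node (.node (.leaf 8847731130394) (.leaf 5042322866226)) (.node (.leaf 6283547181081) (.leaf 1898378625091))))) (.node (.node (.node (.node (.leaf 3736642715690) (.leaf 644249157693)) (.node (.leaf 6184819228732) (.leaf 7116773392432))) (.node (.node (.leaf 455281016871) (.leaf 3947080056896)) (.node (.leaf 73014444033) (.leaf 3569119592458)))) (.node (.node (.node (.leaf 9049531940877) (.leaf 730188283936)) (.node (.leaf 6223479898144) (.leaf 3375874637876))) (.node (.node (.leaf 8791822696459) (.leaf 2147578740804)) (.node (.leaf 3144049885203) (.leaf 5720913149962)))))) (.node (.node (.node (.node (.node (.leaf 5295715188761) (.leaf 103125745670)) (.node (.leaf 5493296595010) (.leaf 8899249111105))) (.node (.node (.leaf 3582007050297) (.leaf 6695969357859)) (.node (.leaf 7228436250661) (.leaf 6472527511567)))) (.node (.node (.node (.leaf 1267015811110) (.leaf 3096694161422)) (.node (.leaf 107438735365) (.leaf 7945798156291))) (.node (.node (.leaf 970745184293) (.leaf 5166932819987)) (.node (.leaf 4668752592928) (.leaf 541176168495))))) (.node (.node (.node (.node (.leaf 6043068727315) (.leaf 1288607105054)) (.node (.leaf 7726679326769) (.leaf 3131096432647))) (.node (.node (.leaf 1597745004576) (.leaf 8353815658526)) (.node (.leaf 5544894070816) (.leaf 3466093002784)))) (.node (.node (.node (.leaf 3075222601735) (.leaf 545544339521)) (.node (.leaf 6171925676061) (.leaf 4290762702874))) (.node (.node (.leaf 5136849240122) (.leaf 2224833101829)) (.node (.leaf 1249932541956) (.leaf 5991564247062))))))) (.node (.node (.node (.node (.node (.node (.leaf 4385262010387) (.leaf 2718717968399)) (.node (.leaf 5368750014484) (.leaf 4539893940228))) (.node (.node (.leaf 5785352208397) (.leaf 3792476176407)) (.node (.leaf 803216621596) (.leaf 2370874572825)))) (.node (.node (.node (.leaf 2224800989193) (.leaf 5871236218901)) (.node (.leaf 6111758319632) (.leaf 3070920753169))) (.node (.node (.leaf 2267808399394) (.leaf 4333629603870)) (.node (.leaf 463885762620) (.leaf 8117555888191))))) (.node (.node (.node (.node (.leaf 6103156719651) (.leaf 1121021394968)) (.node (.leaf 6846215159874) (.leaf 2121810444341))) (.node (.node (.leaf 7705178275857) (.leaf 3590642925620)) (.node (.leaf 4325054545986) (.leaf 6738817712161)))) (.node (.node (.node (.leaf 4544102006817) (.leaf 5824027361347)) (.node (.leaf 1589168898100) (.leaf 3551974260742))) (.node (.node (.leaf 8452571660332) (.leaf 3182572142614)) (.node (.leaf 584130035751) (.leaf 356487397440)))))) (.node (.node (.node (.node (.node (.leaf 3796751089665) (.leaf 115994787846)) (.node (.leaf 3341516996624) (.leaf 9156881809445))) (.node (.node (.leaf 3728077357101) (.leaf 6944986955824)) (.node (.leaf 837578195004) (.leaf 4475386331167)))) (.node (.node (.node (.leaf 4024428199992) (.leaf 6622963433503)) (.node (.leaf 1224164245530) (.leaf 3925618196527))) (.node (.node (.leaf 983630151715) (.leaf 944897851396)) (.node (.leaf 2095963832341) (.leaf 5970076893190))))) (.node (.node (.node (.node (.leaf 3358677205022) (.leaf 712977612843)) (.node (.leaf 3500464865310) (.leaf 8998035587137))) (.node (.node (.leaf 6116063641661) (.leaf 2314999038003)) (.node (.leaf 3972872863811) (.leaf 3728106586136)))) (.node (.node (.node (.leaf 3414558375969) (.leaf 7932929048611)) (.node (.leaf 2572697534489) (.leaf 5334376382482))) (.node (.node (.leaf 8035904585756) (.leaf 2349402292256)) (.node (.leaf 1060889821207) (.leaf 4020120453150)))))))))) (.node (.node (.node (.node (.node (.node (.node (.node (.node (.leaf 98801811501) (.leaf 2993692803103)) (.node (.leaf 760258953241) (.leaf 3367254556683))) (.node (.node (.leaf 3813961236547) (.leaf 1554787270676)) (.node (.leaf 55893426208) (.leaf 3040856768542)))) (.node (.node (.node (.leaf 6515499270193) (.leaf 8770425257988)) (.node (.leaf 4977892065286) (.leaf 2598456590348))) (.node (.node (.leaf 519733837847) (.leaf 5287125385268)) (.node (.leaf 8615714488334) (.leaf 5579246272538))))) (.node (.node (.node (.node (.leaf 6949299683394) (.leaf 2040113201183)) (.node (.leaf 6622840946712) (.leaf 2143202705424))) (.node (.node (.leaf 3474678546483) (.leaf 5244214902790)) (.node (.leaf 3908466311174) (.leaf 8267816894480)))) (.node (.node (.node (.leaf 2972133359674) (.leaf 4110419165214)) (.node (.leaf 7550603558971) (.leaf 7267151446077))) (.node (.node (.leaf 8186262978618) (.leaf 3672207392813)) (.node (.leaf 6627177725960) (.leaf 9174063579179)))))) (.node (.node (.node (.node (.node (.leaf 2491084505143) (.leaf 6017284767752)) (.node (.leaf 4131861954628) (.leaf 7310035058727))) (.node (.node (.leaf 9264255926323) (.leaf 9268562952199)) (.node (.leaf 7692333023295) (.leaf 6240623525954)))) (.node (.node (.node (.leaf 1245554999335) (.leaf 2001459871808)) (.node (.leaf 1082331758593) (.leaf 7215655157763))) (.node (.node (.leaf 21531066385) (.leaf 45)) (.node (.leaf 3367291846717) (.leaf 2796066570267))))) (.node (.node (.node (.node (.leaf 1305713967151) (.leaf 6979340599352)) (.node (.leaf 3294265147444) (.leaf 2220547309589))) (.node (.node (.leaf 7370262773779) (.leaf 1713771774009)) (.node (.leaf 983637098499) (.leaf 5708093784067)))) (.node (.node (.node (.leaf 2654323802141) (.leaf 2482495553555)) (.node (.leaf 1198349025341) (.leaf 2568449425460))) (.node (.node (.leaf 8589999079484) (.leaf 7151152398346)) (.node (.leaf 5463251156997) (.leaf 9260031213599))))))) (.node (.node (.node (.node (.node (.node (.leaf 4776051605520) (.leaf 7159747838001)) (.node (.leaf 3457466630147) (.leaf 5626529775621))) (.node (.node (.leaf 7181210222654) (.leaf 8744575762456)) (.node (.leaf 7640815763514) (.leaf 7803982053394)))) (.node (.node (.node (.leaf 7018001989659) (.leaf 2770362433550)) (.node (.leaf 4926359142456) (.leaf 296445476867))) (.node (.node (.leaf 5592078811146) (.leaf 6330855325741)) (.node (.leaf 4449589985350) (.leaf 7460391026714))))) (.node (.node (.node (.node (.leaf 55881367577) (.leaf 3435981373510)) (.node (.leaf 2220638535712) (.leaf 6627151839235))) (.node (.node (.leaf 2022948732975) (.leaf 51589939203)) (.node (.leaf 6494038917143) (.leaf 3861192769560)))) (.node (.node (.node (.leaf 8422525304851) (.leaf 1894104039443)) (.node (.leaf 2637115228231) (.leaf 420989108257))) (.node (.node (.leaf 3036620783649) (.leaf 3328656932874)) (.node (.leaf 2242059698195) (.leaf 1911293870114)))))) (.node (.node (.node (.node (.node (.leaf 2692987944976) (.leaf 193309638703)) (.node (.leaf 2693039456289) (.leaf 5678008238125))) (.node (.node (.leaf 8675896852513) (.leaf 7541974695988)) (.node (.leaf 7499029938218) (.leaf 6953565618220)))) (.node (.node (.node (.leaf 7898494533649) (.leaf 5428904460322)) (.node (.leaf 4814709063705) (.leaf 17244684322))) (.node (.node (.leaf 6098944131104) (.leaf 7370242457670)) (.node (.leaf 6648713904154) (.leaf 5128327135264))))) (.node (.node (.node (.node (.leaf 2315119951902) (.leaf 8091760525360)) (.node (.leaf 1962814537767) (.leaf 3496108490816))) (.node (.node (.leaf 1644972474369) (.leaf 7735276339209)) (.node (.leaf 223379849230) (.leaf 46)))) (.node (.node (.node (.leaf 73029582858) (.leaf 4058830995513)) (.node (.leaf 1838248493101) (.leaf 8147628458016))) (.node (.node (.leaf 81706418200) (.leaf 5420302139441)) (.node (.leaf 7761078059027) (.leaf 6902023847946)))))))) (.node (.node (.node (.node (.node (.node (.node (.leaf 777390981135) (.leaf 1357212221447)) (.node (.leaf 2340792827944) (.leaf 2937798262833))) (.node (.node (.leaf 7614986977339) (.leaf 5282839658513)) (.node (.leaf 3702352445444) (.leaf 4406654205967)))) (.node (.node (.node (.leaf 1408765198373) (.leaf 1318594478110)) (.node (.leaf 463890481180) (.leaf 472494178334))) (.node (.node (.leaf 2594242232340) (.leaf 2491100954692)) (.node (.leaf 5738084106298) (.leaf 7739551514683))))) (.node (.node (.node (.node (.leaf 1941462384672) (.leaf 5600681197574)) (.node (.leaf 7370192781363) (.leaf 6408097497153))) (.node (.node (.leaf 5102422065214) (.leaf 2564106944532)) (.node (.leaf 180504756248) (.leaf 8461137674300)))) (.node (.node (.node (.leaf 180527038467) (.leaf 1121003044921)) (.node (.leaf 8224876527625) (.leaf 3805380870189))) (.node (.node (.leaf 8667302002704) (.leaf 8925024223251)) (.node (.leaf 4204798148667) (.leaf 6571334238276)))))) (.node (.node (.node (.node (.node (.leaf 7657951658014) (.leaf 7902762106914)) (.node (.leaf 8383793791011) (.leaf 3891249414172))) (.node (.node (.leaf 2276468719619) (.leaf 3813944852548)) (.node (.leaf 7426078998571) (.leaf 4827559690300)))) (.node (.node (.node (.leaf 7636487897103) (.leaf 2856224161822)) (.node (.leaf 1426021285918) (.leaf 3088099573813))) (.node (.node (.leaf 7245661601821) (.leaf 6871960191035)) (.node (.leaf 2645719318563) (.leaf 4423819067406))))) (.node (.node (.node (.node (.leaf 9083902558253) (.leaf 5970112544837)) (.node (.leaf 7580649193537) (.leaf 6944965984319))) (.node (.node (.leaf 8431135490051) (.leaf 3569220321284)) (.node (.leaf 3856910712893) (.leaf 1649289461796)))) (.node (.node (.node (.leaf 7851224793137) (.leaf 34402598946)) (.node (.leaf 9161180250148) (.leaf 7434613948463))) (.node (.node (.leaf 4415240863783) (.leaf 4702994300992)) (.node (.leaf 476741369857) (.leaf 2495380258822))))))) (.node (.node (.node (.node (.node (.node (.leaf 4642861416459) (.leaf 4990760517635)) (.node (.leaf 5871287271449) (.leaf 8405392228385))) (.node (.node (.leaf 987893334077) (.leaf 4715905286205)) (.node (.leaf 6902035382319) (.leaf 2096040181790)))) (.node (.node (.node (.leaf 5785324159018) (.leaf 6902042001473)) (.node (.leaf 7563492524065) (.leaf 4840480899122))) (.node (.node (.leaf 8057389056052) (.leaf 412375056403)) (.node (.leaf 7408859742245) (.leaf 266347806753))))) (.node (.node (.node (.node (.leaf 1864062599184) (.leaf 4977919000582)) (.node (.leaf 5089621114912) (.leaf 8851960823834))) (.node (.node (.leaf 1151090098196) (.leaf 7267133030461)) (.node (.leaf 665722683453) (.leaf 2177588854833)))) (.node (.node (.node (.leaf 6721673166903) (.leaf 3874184626206)) (.node (.leaf 5974338699313) (.leaf 4265006399493))) (.node (.node (.leaf 7550621253691) (.leaf 3375864021037)) (.node (.leaf 2577011441672) (.leaf 137549643800)))))) (.node (.node (.node (.node (.node (.leaf 3122479693844) (.leaf 6622900060184)) (.node (.leaf 3663693086725) (.leaf 5557700001853))) (.node (.node (.leaf 2190448001056) (.leaf 8469793800197)) (.node (.leaf 7237028020266) (.leaf 717264781318)))) (.node (.node (.node (.leaf 4050215960639) (.leaf 103144030218)) (.node (.leaf 6545630035998) (.leaf 3955691618320))) (.node (.node (.leaf 6622858903588) (.leaf 1670744440849)) (.node (.leaf 1052393472005) (.leaf 7013702696987))))) (.node (.node (.node (.node (.leaf 743135117347) (.leaf 1503254216740)) (.node (.leaf 8130415951880) (.leaf 7666582618150))) (.node (.node (.leaf 6103194664966) (.leaf 94571790389)) (.node (.leaf 6717363191831) (.leaf 5570651226169)))) (.node (.node (.node (.leaf 923428126741) (.leaf 3758134984749)) (.node (.leaf 4372280442891) (.leaf 1108174635014))) (.node (.node (.leaf 5403071152184) (.leaf 558351187997)) (.node (.leaf 9230011662341) (.leaf 7009465729048))))))))) (.node (.node (.node (.node (.node (.node (.node (.node (.leaf 4131766796352) (.leaf 2194750308388)) (.node (.leaf 6927825895455) (.leaf 6970859192353))) (.node (.node (.leaf 2095946137667) (.leaf 5390236516394)) (.node (.leaf 4526910013479) (.leaf 2946352676928)))) (.node (.node (.node (.leaf 2740189134849) (.leaf 6829125009412)) (.node (.leaf 21477457929) (.leaf 7533495648261))) (.node (.node (.leaf 6360888770612) (.leaf 5025115340821)) (.node (.leaf 545491648515) (.leaf 7993028444191))))) (.node (.node (.node (.node (.leaf 7271502577732) (.leaf 6365151428621)) (.node (.leaf 94498390020) (.leaf 2735986901018))) (.node (.node (.leaf 6987948556348) (.leaf 1662187733021)) (.node (.leaf 9264306126853) (.leaf 1039438643250)))) (.node (.node (.node (.leaf 3152517857286) (.leaf 7086708162587)) (.node (.leaf 1486120026122) (.leaf 1022221811753))) (.node (.node (.leaf 1198328512568) (.leaf 4290779611158)) (.node (.leaf 970744004611) (.leaf 7052409700362)))))) (.node (.node (.node (.node (.node (.leaf 4234869800968) (.leaf 184702795818)) (.node (.leaf 5261348110404) (.leaf 7258520551492))) (.node (.node (.leaf 7237024940100) (.leaf 3620770742340)) (.node (.leaf 7241384329284) (.leaf 8353815003139)))) (.node (.node (.node (.leaf 2813312892965) (.leaf 7546321633327)) (.node (.leaf 3083789860882) (.leaf 4368023224324))) (.node (.node (.leaf 4947817070615) (.leaf 6751698354232)) (.node (.leaf 3079569145893) (.leaf 1786775076867))))) (.node (.node (.node (.node (.leaf 38686490637) (.leaf 6644385906718)) (.node (.leaf 8272124968972) (.leaf 4350803968012))) (.node (.node (.leaf 9144037015611) (.leaf 2233393152061)) (.node (.leaf 5665133559817) (.leaf 5699494084676)))) (.node (.node (.node (.leaf 1559085056025) (.leaf 2297853640772)) (.node (.leaf 3088221012000) (.leaf 5755279704095))) (.node (.node (.leaf 5570652602386) (.leaf 3844038197297)) (.node (.leaf 3315776487485) (.leaf 7069558177834))))))) (.node (.node (.node (.node (.node (.node (.leaf 5901362200598) (.leaf 3307253530643)) (.node (.leaf 3715163422725) (.leaf 7851204083728))) (.node (.node (.leaf 7133978558514) (.leaf 5613642186787)) (.node (.leaf 5823984107548) (.leaf 5334413213755)))) (.node (.node (.node (.leaf 1559079288898) (.leaf 8212056834102)) (.node (.leaf 8349433266197) (.leaf 6747524825118))) (.node (.node (.leaf 1541925371919) (.leaf 554105569321)) (.node (.leaf 3513369165844) (.leaf 5089574060086))))) (.node (.node (.node (.node (.leaf 3045146296359) (.leaf 2203323334720)) (.node (.leaf 764504178689) (.leaf 3569185456136))) (.node (.node (.leaf 3341515227149) (.leaf 3809648050195)) (.node (.leaf 7902870044676) (.leaf 2018731556878)))) (.node (.node (.node (.leaf 1297085235231) (.leaf 223410651192)) (.node (.leaf 1133887619081) (.leaf 5295717613614))) (.node (.node (.leaf 5093863587874) (.leaf 347925053485)) (.node (.leaf 3470381023265) (.leaf 8976506880062)))))) (.node (.node (.node (.node (.node (.leaf 3951484338181) (.leaf 5046611279915)) (.node (.leaf 4226254897206) (.leaf 6532691132433))) (.node (.node (.leaf 8010250256388) (.leaf 3217031430168)) (.node (.leaf 2430980128806) (.leaf 6326528180276)))) (.node (.node (.node (.leaf 7232742424579) (.leaf 5257165602842)) (.node (.leaf 214837690386) (.leaf 2856223637559))) (.node (.node (.leaf 2924998164504) (.leaf 3685127290932)) (.node (.leaf 4372298596377) (.leaf 8774688112687))))) (.node (.node (.node (.node (.leaf 1159769358360) (.leaf 3998656167988)) (.node (.leaf 7194080968757) (.leaf 8315104460842))) (.node (.node (.leaf 6343672201284) (.leaf 8181929803832)) (.node (.leaf 8190521442363) (.leaf 4290813755395)))) (.node (.node (.node (.leaf 6459644772390) (.leaf 1786759282729)) (.node (.leaf 7507650674696) (.leaf 6025919528963))) (.node (.node (.leaf 6210598731802) (.leaf 4952116363297)) (.node (.leaf 3947117805627) (.leaf 6932162871340)))))))) (.node (.node (.node (.node (.node (.node (.node (.leaf 1284216193034) (.leaf 6683048017977)) (.node (.leaf 7348747829303) (.leaf 3990060531740))) (.node (.node (.leaf 2078821580804) (.leaf 4260670799893)) (.node (.leaf 2057294118950) (.leaf 2216226193438)))) (.node (.node (.node (.leaf 5566414192666) (.leaf 459597742120)) (.node (.leaf 502583394354) (.leaf 4930672590882))) (.node (.node (.leaf 6476845875242) (.leaf 2216217280549)) (.node (.leaf 7743949504547) (.leaf 4977922277417))))) (.node (.node (.node (.node (.leaf 5776787570735) (.leaf 8680191033363)) (.node (.leaf 1958581960775) (.leaf 1821124853765))) (.node (.node (.leaf 2680094654468) (.leaf 7683827695646)) (.node (.leaf 463876194312) (.leaf 5106839388179)))) (.node (.node (.node (.leaf 2280632680466) (.leaf 798954553387)) (.node (.leaf 798878400551) (.leaf 798869028928))) (.node (.node (.leaf 30064771073) (.leaf 2272067911687)) (.node (.leaf 1988707090436) (.leaf 47)))))) (.node (.node (.node (.node (.node (.leaf 2521177915408) (.leaf 7245632045117)) (.node (.leaf 5832586952737) (.leaf 6678690005040))) (.node (.node (.leaf 5845483847710) (.leaf 4350826315832)) (.node (.leaf 2937784959032) (.leaf 8980840644641)))) (.node (.node (.node (.leaf 6880596394033) (.leaf 3272799748104)) (.node (.leaf 4677274828804) (.leaf 9096858042371))) (.node (.node (.leaf 7855521660952) (.leaf 7473336090678)) (.node (.leaf 8164830085124) (.leaf 2482515411012))))) (.node (.node (.node (.node (.leaf 2542640824361) (.leaf 5175475503130)) (.node (.leaf 6111744491574) (.leaf 274935840798))) (.node (.node (.leaf 4681540173859) (.leaf 5231271673924)) (.node (.leaf 4071693287440) (.leaf 8018740051991)))) (.node (.node (.node (.leaf 3513311428645) (.leaf 8319413321749)) (.node (.leaf 5368722817066) (.leaf 8817579458600))) (.node (.node (.leaf 1460328202266) (.leaf 6833334845496)) (.node (.leaf 7481888800774) (.leaf 2546982846514))))))) (.node (.node (.node (.node (.node (.node (.leaf 2912047792180) (.leaf 756039352385)) (.node (.leaf 1872636346386) (.leaf 5514759635014))) (.node (.node (.leaf 3680796737582) (.leaf 2705854824480)) (.node (.leaf 6747424882697) (.leaf 6343746584630)))) (.node (.node (.node (.leaf 231975419945) (.leaf 4290750054443)) (.node (.leaf 2005816115247) (.leaf 1408792264753))) (.node (.node (.leaf 2920637726776) (.leaf 4917773729832)) (.node (.leaf 1597752410119) (.leaf 6549905408018))))) (.node (.node (.node (.node (.leaf 4398163624004) (.leaf 1894157451317)) (.node (.leaf 4733079846953) (.leaf 7391698550844))) (.node (.node (.leaf 1773953155140) (.leaf 8349546446880)) (.node (.leaf 8581397741623) (.leaf 5364462059524)))) (.node (.node (.node (.leaf 8066001535035) (.leaf 446691082303)) (.node (.leaf 6236373581889) (.leaf 1645022740530))) (.node (.node (.leaf 1825381023770) (.leaf 5931357306943)) (.node (.leaf 5218493661216) (.leaf 566949838864)))))) (.node (.node (.node (.node (.node (.leaf 5845545517086) (.leaf 2933466726461)) (.node (.leaf 3839827968030) (.leaf 528298672194))) (.node (.node (.leaf 3951384395815) (.leaf 3277065158720)) (.node (.leaf 94489280513) (.leaf 4548402806794)))) (.node (.node (.node (.leaf 3350076260366) (.leaf 7653633032204)) (.node (.leaf 3019425710096) (.leaf 2242004254745))) (.node (.node (.leaf 2843288404024) (.leaf 6013040001089)) (.node (.leaf 6644352155678) (.leaf 7331623338052))))) (.node (.node (.node (.node (.leaf 8418208120842) (.leaf 6111821955116)) (.node (.leaf 6433887354928) (.leaf 7773895983106))) (.node (.node (.leaf 3534875656222) (.leaf 4247750377481)) (.node (.leaf 6872019894288) (.leaf 386584412170)))) (.node (.node (.node (.leaf 2521270386692) (.leaf 1202693275691)) (.node (.leaf 2499698950177) (.leaf 7602154962977))) (.node (.node (.leaf 1387291017244) (.leaf 2791799193605)) (.node (.leaf 2306400649271) (.leaf 2856226193425))))))))))))) (.node (.node (.node (.node (.node (.node (.node (.node (.node (.node (.node (.node (.leaf 7181236502589) (.leaf 3762399543363)) (.node (.leaf 1056571326505) (.leaf 4385186709560))) (.node (.node (.leaf 7018049437741) (.leaf 116040400927)) (.node (.leaf 1670803554323) (.leaf 7507707822113)))) (.node (.node (.node (.leaf 4647226376239) (.leaf 7554857828356)) (.node (.leaf 2705889951768) (.leaf 8714573185061))) (.node (.node (.leaf 8671574556740) (.leaf 3002235027497)) (.node (.leaf 7335855783952) (.leaf 8933551702077))))) (.node (.node (.node (.node (.leaf 5424573382666) (.leaf 1700908695574)) (.node (.leaf 7992991744030) (.leaf 5506229338169))) (.node (.node (.leaf 382303862847) (.leaf 3775324749880)) (.node (.leaf 1322892328984) (.leaf 9032325791794)))) (.node (.node (.node (.leaf 1288504148024) (.leaf 2168962416707)) (.node (.leaf 6120379121669) (.leaf 206234714165))) (.node (.node (.leaf 6077469818915) (.leaf 2564098687000)) (.node (.leaf 6567072104453) (.leaf 5609244655629)))))) (.node (.node (.node (.node (.node (.leaf 141744013370) (.leaf 3809656569860)) (.node (.leaf 6433917960243) (.leaf 3118286176286))) (.node (.node (.leaf 8710209077296) (.leaf 261997330440)) (.node (.leaf 1292828278787) (.leaf 4780369510456)))) (.node (.node (.node (.leaf 6962176983070) (.leaf 627160383507)) (.node (.leaf 8886313877556) (.leaf 2684390866950))) (.node (.node (.leaf 73038102548) (.leaf 3762392793159)) (.node (.leaf 3139635576871) (.leaf 463861579840))))) (.node (.node (.node (.node (.leaf 42949672961) (.leaf 115965886469)) (.node (.leaf 5141092696079) (.leaf 48))) (.node (.node (.leaf 3869800726571) (.leaf 60168208404)) (.node (.leaf 6236364668949) (.leaf 6678808756257)))) (.node (.node (.node (.leaf 2267798437918) (.leaf 6519850860563)) (.node (.leaf 4999481655301) (.leaf 2499703078959))) (.node (.node (.leaf 485460082714) (.leaf 1937030905896)) (.node (.leaf 4501142372376) (.leaf 5033753116721))))))) (.node (.node (.node (.node (.node (.node (.leaf 7035205124134) (.leaf 1288532983849)) (.node (.leaf 2242103148568) (.leaf 5725270638627))) (.node (.node (.leaf 9186964078651) (.leaf 5428840628284)) (.node (.leaf 3736638128186) (.leaf 2392314413086)))) (.node (.node (.node (.leaf 2658684174340) (.leaf 4531317833760)) (.node (.leaf 8955029684277) (.leaf 7194095714331))) (.node (.node (.leaf 7623596900369) (.leaf 4093154230340)) (.node (.leaf 7885642399801) (.leaf 249131827221))))) (.node (.node (.node (.node (.leaf 4325048385597) (.leaf 8654412382276)) (.node (.leaf 7387354103811) (.leaf 5647928852499))) (.node (.node (.leaf 670048124978) (.leaf 5699431170110)) (.node (.leaf 3045146361866) (.leaf 4299282579501)))) (.node (.node (.node (.leaf 1975738105869) (.leaf 4187652227104)) (.node (.leaf 335026978856) (.leaf 2100262928455))) (.node (.node (.leaf 25799950381) (.leaf 7701015822362)) (.node (.leaf 1842619416644) (.leaf 5970097405976)))))) (.node (.node (.node (.node (.node (.leaf 8731704426517) (.leaf 2138942013446)) (.node (.leaf 3221273706523) (.leaf 8199198081029))) (.node (.node (.leaf 2675868106755) (.leaf 8319397330992)) (.node (.leaf 756041056288) (.leaf 3994420903969)))) (.node (.node (.node (.leaf 373794865155) (.leaf 7516287926329)) (.node (.leaf 2336474136642) (.leaf 9045218820100))) (.node (.node (.leaf 7709470294086) (.leaf 1382995984400)) (.node (.leaf 1662243045379) (.leaf 6962224758814))))) (.node (.node (.node (.node (.leaf 7447605411845) (.leaf 2856256012307)) (.node (.leaf 5759569887257) (.leaf 5428848033830))) (.node (.node (.leaf 9088173539390) (.leaf 1133929168941)) (.node (.leaf 3959983702045) (.leaf 8882012946498)))) (.node (.node (.node (.leaf 2362246496295) (.leaf 1717992030272)) (.node (.leaf 2710124363777) (.leaf 115994787847))) (.node (.node (.leaf 5398775726089) (.leaf 4024429838343)) (.node (.leaf 1048008654882) (.leaf 3753857843238)))))))) (.node (.node (.node (.node (.node (.node (.node (.leaf 8465484152897) (.leaf 1030843334709)) (.node (.leaf 4127510888465) (.leaf 8628602667012))) (.node (.node (.leaf 3423092342798) (.leaf 5501936795705)) (.node (.leaf 6953599107114) (.leaf 2933536587792)))) (.node (.node (.node (.leaf 223355076653) (.leaf 8138979409939)) (.node (.leaf 3479049732101) (.leaf 3594919870490))) (.node (.node (.leaf 3191170727986) (.leaf 7546344308747)) (.node (.leaf 2499713040443) (.leaf 7327323390020))))) (.node (.node (.node (.node (.leaf 1275711914017) (.leaf 7627913101349)) (.node (.leaf 7537699782696) (.leaf 7146850811970))) (.node (.node (.leaf 9053797416980) (.leaf 4475367653433)) (.node (.leaf 6773193703471) (.leaf 2443901730822)))) (.node (.node (.node (.leaf 5102497169422) (.leaf 1365849931780)) (.node (.leaf 9199922249796) (.leaf 9242845577221))) (.node (.node (.leaf 5532012642334) (.leaf 3882665377811)) (.node (.leaf 914869125179) (.leaf 2469719900197)))))) (.node (.node (.node (.node (.node (.leaf 1872657711142) (.leaf 7061018509317)) (.node (.leaf 4071649837072) (.leaf 2542692007977))) (.node (.node (.leaf 7846952304695) (.leaf 8379529756719)) (.node (.leaf 9143986159653) (.leaf 1481769418795)))) (.node (.node (.node (.leaf 5570611773486) (.leaf 8065961361464)) (.node (.leaf 1898444030007) (.leaf 1644978962474))) (.node (.node (.leaf 4243442565138) (.leaf 7039558877237)) (.node (.leaf 8319395102741) (.leaf 5561993396279))))) (.node (.node (.node (.node (.leaf 631454564385) (.leaf 4187677917208)) (.node (.leaf 2413797900326) (.leaf 622779105320))) (.node (.node (.leaf 7099596013596) (.leaf 4269269057581)) (.node (.leaf 7477646524446) (.leaf 4380953804822)))) (.node (.node (.node (.leaf 4080244817967) (.leaf 6605661667398)) (.node (.leaf 1056608419901) (.leaf 6442501996563))) (.node (.node (.leaf 8014463696954) (.leaf 6747506081829)) (.node (.leaf 8529873207348) (.leaf 3277102907426))))))) (.node (.node (.node (.node (.node (.node (.leaf 7168324206621) (.leaf 9186944679984)) (.node (.leaf 408036376615) (.leaf 1309970137152))) (.node (.node (.leaf 897648164865) (.leaf 115964116995)) (.node (.leaf 8993693433871) (.leaf 7267115991064)))) (.node (.node (.node (.leaf 5008003956799) (.leaf 601299157048)) (.node (.leaf 6081806204952) (.leaf 1030798639151))) (.node (.node (.leaf 6863373205566) (.leaf 7928553865265)) (.node (.leaf 25851461650) (.leaf 8310820503586))))) (.node (.node (.node (.node (.leaf 8663039213587) (.leaf 463870885930)) (.node (.leaf 1030827802685) (.leaf 6468231430205))) (.node (.node (.leaf 309322121246) (.leaf 1082357579796)) (.node (.leaf 3337216000027) (.leaf 3796876656643)))) (.node (.node (.node (.leaf 7709497163820) (.leaf 1924205641738)) (.node (.leaf 1035159207992) (.leaf 6794714218518))) (.node (.node (.leaf 7537739038770) (.leaf 6610063261764)) (.node (.leaf 3285687140407) (.leaf 8280794005572)))))) (.node (.node (.node (.node (.node (.leaf 429506691134) (.leaf 6481232920581)) (.node (.leaf 472481857595) (.leaf 541187702841))) (.node (.node (.leaf 1189790941196) (.leaf 962090762292)) (.node (.leaf 5532002091026) (.leaf 5300105576505)))) (.node (.node (.node (.leaf 8710258688024) (.leaf 5699436937229)) (.node (.leaf 1447418920983) (.leaf 7280070557699))) (.node (.node (.leaf 3504748167210) (.leaf 7666619252762)) (.node (.leaf 5205533261854) (.leaf 2770298994736))))) (.node (.node (.node (.node (.leaf 25818693635) (.leaf 3272882454533)) (.node (.leaf 450978185281) (.leaf 5836911411208))) (.node (.node (.leaf 4952137531416) (.leaf 1645023658008)) (.node (.leaf 4634350452760) (.leaf 4385283964933)))) (.node (.node (.node (.leaf 7808336723990) (.leaf 1211224424503)) (.node (.leaf 8495531884570) (.leaf 3534775124034))) (.node (.node (.leaf 7988717682700) (.leaf 8817619107868)) (.node (.leaf 7099614887961) (.leaf 6657256259592))))))))) (.node (.node (.node (.node (.node (.node (.node (.node (.leaf 4746012459071) (.leaf 2542651899934)) (.node (.leaf 5437450879029) (.leaf 2512587391036))) (.node (.node (.leaf 8199182614531) (.leaf 2611445039139)) (.node (.leaf 5759562547228) (.leaf 7168372441104)))) (.node (.node (.node (.leaf 4939231789122) (.leaf 9053918330913)) (.node (.leaf 5656509284419) (.leaf 9010882871344))) (.node (.node (.leaf 2791743225895) (.leaf 1228365758528)) (.node (.leaf 3805341024257) (.leaf 7572110049284))))) (.node (.node (.node (.node (.leaf 2692976672779) (.leaf 5102531313699)) (.node (.leaf 7954336448522) (.leaf 5196912394252))) (.node (.node (.leaf 5261344309303) (.leaf 7688114798597)) (.node (.leaf 2843288731655) (.leaf 1602046853128)))) (.node (.node (.node (.leaf 468153794625) (.leaf 1082371276869)) (.node (.leaf 2542659174465) (.leaf 1065167486989))) (.node (.node (.leaf 1842650152963) (.leaf 124569649167)) (.node (.leaf 1254150635578) (.leaf 4750252965904)))))) (.node (.node (.node (.node (.node (.leaf 5970047926278) (.leaf 6627180740617)) (.node (.leaf 3680908804120) (.leaf 6279303528452))) (.node (.node (.leaf 4350812749844) (.leaf 6704494477334)) (.node (.leaf 1198297055292) (.leaf 7237054103585)))) (.node (.node (.node (.leaf 2143189991444) (.leaf 8809048178747)) (.node (.leaf 4187617624132) (.leaf 9208441667652))) (.node (.node (.leaf 4441075875854) (.leaf 7782550536224)) (.node (.leaf 1078061039633) (.leaf 7481856688159))))) (.node (.node (.node (.node (.leaf 7073890762795) (.leaf 3938554806328)) (.node (.leaf 7013694832643) (.leaf 5136815358020))) (.node (.node (.leaf 3607821484066) (.leaf 2658605268997)) (.node (.leaf 6382355283973) (.leaf 7073879556133)))) (.node (.node (.node (.leaf 7576332664874) (.leaf 8521250242618)) (.node (.leaf 1078154952748) (.leaf 1786809548837))) (.node (.node (.leaf 5939940556815) (.leaf 8164794368055)) (.node (.leaf 5467532165123) (.leaf 829021224978))))))) (.node (.node (.node (.node (.node (.node (.leaf 996471472188) (.leaf 1507563601958)) (.node (.leaf 4436782809121) (.leaf 3191280304159))) (.node (.node (.leaf 8126191763461) (.leaf 3749527093308)) (.node (.leaf 3350198616096) (.leaf 622823211057)))) (.node (.node (.node (.leaf 4501230256163) (.leaf 6957872054332)) (.node (.leaf 9019494432773) (.leaf 1318604832774))) (.node (.node (.leaf 498231148610) (.leaf 5003664556100)) (.node (.leaf 670017191941) (.leaf 8864865321016))))) (.node (.node (.node (.node (.leaf 8658703089713) (.leaf 8649375774)) (.node (.leaf 3736744820768) (.leaf 283522629673))) (.node (.node (.leaf 1151090622482) (.leaf 8504047042624)) (.node (.leaf 2808923095079) (.leaf 2740194246720)))) (.node (.node (.node (.leaf 1103806595073) (.leaf 4548439769096)) (.node (.leaf 1335766548492) (.leaf 5102533541891))) (.node (.node (.leaf 5897022079016) (.leaf 6880672612378)) (.node (.leaf 5742486421539) (.leaf 7649360805899)))))) (.node (.node (.node (.node (.node (.leaf 8276465025083) (.leaf 4664437374995)) (.node (.leaf 4818959335437) (.leaf 6098880036918))) (.node (.node (.leaf 3483282440248) (.leaf 7791083323401)) (.node (.leaf 8559916613691) (.leaf 5321474244610)))) (.node (.node (.node (.leaf 1056601604109) (.leaf 884823359496)) (.node (.leaf 1202630492225) (.leaf 1486128676927))) (.node (.node (.leaf 4505427968034) (.leaf 6137553027138)) (.node (.leaf 5214157471763) (.leaf 8182015459358))))) (.node (.node (.node (.node (.leaf 3478936616995) (.leaf 7353029165073)) (.node (.leaf 5746670239749) (.leaf 6347974967332))) (.node (.node (.leaf 4402389516305) (.leaf 4926335483927)) (.node (.leaf 8907770167301) (.leaf 2731653267464)))) (.node (.node (.node (.leaf 2959271526416) (.leaf 171846074425)) (.node (.leaf 6554134708250) (.leaf 8955090305089))) (.node (.node (.leaf 7013709447202) (.leaf 472480874564)) (.node (.leaf 8813299171345) (.leaf 3002222837763)))))))) (.node (.node (.node (.node (.node (.node (.node (.leaf 1657859604511) (.leaf 3573413969977)) (.node (.leaf 2005809037331) (.leaf 4801810202686))) (.node (.node (.leaf 691494715424) (.leaf 8014427521031)) (.node (.leaf 2091698094097) (.leaf 5042296651809)))) (.node (.node (.node (.leaf 7069567614983) (.leaf 8834843279363)) (.node (.leaf 1468964732950) (.leaf 2057344974872))) (.node (.node (.leaf 1297211719748) (.leaf 47255650331)) (.node (.leaf 4410934493209) (.leaf 4410960576547))))) (.node (.node (.node (.node (.leaf 1898396844100) (.leaf 6708742062098)) (.node (.leaf 3208467382296) (.leaf 7155452936250))) (.node (.node (.leaf 6116048502821) (.leaf 7486130094134)) (.node (.leaf 2418071568439) (.leaf 700164472897)))) (.node (.node (.node (.leaf 2980726243362) (.leaf 2065883136062)) (.node (.leaf 6884890968096) (.leaf 6983662501909))) (.node (.node (.leaf 4827599208485) (.leaf 8199171997715)) (.node (.leaf 6640095461420) (.leaf 5484677955648)))))) (.node (.node (.node (.node (.node (.leaf 386561540135) (.leaf 386552168512)) (.node (.leaf 1653562408961) (.leaf 3685081939977))) (.node (.node (.leaf 4642861416464) (.leaf 49)) (.node (.leaf 6154726998056) (.leaf 5141136343066)))) (.node (.node (.node (.leaf 8100368220181) (.leaf 1030843334694)) (.node (.leaf 8096121159704) (.leaf 5420285952046))) (.node (.node (.leaf 4432450027576) (.leaf 3182617886724)) (.node (.leaf 6678707109928) (.leaf 7692371165188))))) (.node (.node (.node (.node (.leaf 133144117265) (.leaf 4758905618435)) (.node (.leaf 47293399092) (.leaf 9247099846698))) (.node (.node (.leaf 2796092981286) (.leaf 7507653165080)) (.node (.leaf 854712188945) (.leaf 1314350039066)))) (.node (.node (.node (.leaf 2117515083819) (.leaf 7627889705023)) (.node (.leaf 1181124591666) (.leaf 6322271551541))) (.node (.node (.leaf 2156074893363) (.leaf 197578063905)) (.node (.leaf 5901289062428) (.leaf 2688767950879))))))) (.node (.node (.node (.node (.node (.node (.leaf 3277098975272) (.leaf 6017262944272)) (.node (.leaf 2491164196890) (.leaf 128876871747))) (.node (.node (.leaf 7507679379487) (.leaf 2108829401112)) (.node (.leaf 5570577367093) (.leaf 1374404542497)))) (.node (.node (.node (.leaf 7417479036938) (.leaf 8809070329926)) (.node (.leaf 1421709082638) (.leaf 2705857773618))) (.node (.node (.leaf 8302172962834) (.leaf 4647199047735)) (.node (.leaf 5038073380921) (.leaf 962073657350))))) (.node (.node (.node (.node (.leaf 4337937350684) (.leaf 1374427283515)) (.node (.leaf 8319359451201) (.leaf 7013686181937))) (.node (.node (.leaf 5652204159008) (.leaf 5012245381140)) (.node (.leaf 3766745366536) (.leaf 2662894796824)))) (.node (.node (.node (.leaf 5656554111041) (.leaf 7374477525024)) (.node (.leaf 3569131192343) (.leaf 6287856107551))) (.node (.node (.leaf 4801844346939) (.leaf 4737459486788)) (.node (.leaf 1267039731763) (.leaf 1013669036076)))))) (.node (.node (.node (.node (.node (.leaf 3955676545037) (.leaf 5201259069508)) (.node (.leaf 1739511627802) (.leaf 7086734114872))) (.node (.node (.leaf 5282854076441) (.leaf 1623515004950)) (.node (.leaf 7198407000091) (.leaf 6176186499079)))) (.node (.node (.node (.leaf 8169030221884) (.leaf 7692322734108)) (.node (.leaf 2340771659815) (.leaf 940602949696))) (.node (.node (.leaf 566935683073) (.leaf 4299287101447)) (.node (.leaf 3332949082129) (.leaf 4947891650590))))) (.node (.node (.node (.node (.leaf 2808961892362) (.leaf 6755985915924)) (.node (.leaf 4054452273200) (.leaf 1030819938337))) (.node (.node (.leaf 1709464748056) (.leaf 2220526993476)) (.node (.leaf 8667271462935) (.leaf 1919873646603)))) (.node (.node (.node (.leaf 2405258625056) (.leaf 6476825821224)) (.node (.leaf 6678691184647) (.leaf 3345805148211))) (.node (.node (.leaf 6051657809965) (.leaf 4947864715305)) (.node (.leaf 7099645034506) (.leaf 7640818843674)))))))))) (.node (.node (.node (.node (.node (.node (.node (.node (.node (.leaf 2091721031706) (.leaf 3418801569824)) (.node (.leaf 71) (.leaf 7627913101339))) (.node (.node (.leaf 8693054767129) (.leaf 4943536783377)) (.node (.leaf 4114593153034) (.leaf 2164680884249)))) (.node (.node (.node (.leaf 1494656286778) (.leaf 8160470237198)) (.node (.leaf 7125373157431) (.leaf 5866960781317))) (.node (.node (.leaf 3371556929557) (.leaf 128887226372)) (.node (.leaf 2400966017089) (.leaf 6910628986905))))) (.node (.node (.node (.node (.leaf 970700685334) (.leaf 5699436609569)) (.node (.leaf 9114033258500) (.leaf 1065159491623))) (.node (.node (.leaf 1499035598860) (.leaf 2907698102285)) (.node (.leaf 7924262043680) (.leaf 8568526471223)))) (.node (.node (.node (.leaf 8590026407941) (.leaf 3547657011224)) (.node (.leaf 6773214871599) (.leaf 7473340678163))) (.node (.node (.leaf 876188663820) (.leaf 8448293339171)) (.node (.leaf 6498336243725) (.leaf 4896279363611)))))) (.node (.node (.node (.node (.node (.leaf 1009383243832) (.leaf 6777505185816)) (.node (.leaf 6777517899839) (.leaf 3912746860604))) (.node (.node (.leaf 4900606836785) (.leaf 2280691859488)) (.node (.leaf 2181877661729) (.leaf 5364422541380)))) (.node (.node (.node (.leaf 7627913691166) (.leaf 7838375280656)) (.node (.leaf 3294256300061) (.leaf 3513346293767))) (.node (.node (.leaf 2748794798151) (.leaf 425260482569)) (.node (.leaf 3857003708484) (.leaf 3577742426131))))) (.node (.node (.node (.node (.leaf 5428882702388) (.leaf 8482689384480)) (.node (.leaf 8285001416767) (.leaf 6154735845404))) (.node (.node (.leaf 2800333160487) (.leaf 871883472960)) (.node (.leaf 408021893121) (.leaf 4432436920327)))) (.node (.node (.node (.leaf 3560540667905) (.leaf 2383810134053)) (.node (.leaf 2899143557141) (.leaf 8259279716357))) (.node (.node (.leaf 3625044803596) (.leaf 9066780426270)) (.node (.leaf 4247725998096) (.leaf 4866236022788))))))) (.node (.node (.node (.node (.node (.node (.leaf 6300742647867) (.leaf 4548410146822)) (.node (.leaf 6713097977924) (.leaf 7091031703597))) (.node (.node (.leaf 4909225345056) (.leaf 6489799589941)) (.node (.leaf 6648638668833) (.leaf 6103173169193)))) (.node (.node (.node (.leaf 4432419029000) (.leaf 7928540954666)) (.node (.leaf 7490475524145) (.leaf 4660058062890))) (.node (.node (.leaf 2628588142595) (.leaf 3186878316611)) (.node (.leaf 8220623044618) (.leaf 184741593123))))) (.node (.node (.node (.node (.leaf 5802579722294) (.leaf 3981443596315)) (.node (.leaf 9131141627944) (.leaf 5012245970980))) (.node (.node (.leaf 8821880061996) (.leaf 2804663058453)) (.node (.leaf 1795356033087) (.leaf 1541936382007)))) (.node (.node (.node (.leaf 3947079335979) (.leaf 4300734530)) (.node (.leaf 3285768994846) (.leaf 8731726577705))) (.node (.node (.leaf 6485421588503) (.leaf 1464590270534)) (.node (.leaf 2521165529128) (.leaf 4943552380945)))))) (.node (.node (.node (.node (.node (.leaf 6343765590070) (.leaf 17315856408)) (.node (.leaf 4428161941537) (.leaf 2705842831392))) (.node (.node (.leaf 5364439580737) (.leaf 4879121842230)) (.node (.leaf 3466157621274) (.leaf 5364443775011)))) (.node (.node (.node (.leaf 7176928952381) (.leaf 708684611613)) (.node (.leaf 210496126993) (.leaf 3766762799124))) (.node (.node (.leaf 4595704791084) (.leaf 4698738196506)) (.node (.leaf 5858360754239) (.leaf 2748902539269))))) (.node (.node (.node (.node (.leaf 6236412051521) (.leaf 6786059075641)) (.node (.leaf 6283594629179) (.leaf 3178294018076))) (.node (.node (.leaf 8177667473425) (.leaf 2912024461372)) (.node (.leaf 2942123114530) (.leaf 7499081777157)))) (.node (.node (.node (.leaf 5059513942078) (.leaf 3577783451705)) (.node (.leaf 1421710524435) (.leaf 8967912095763))) (.node (.node (.leaf 81628037140) (.leaf 3225530531862)) (.node (.leaf 1752361140263) (.leaf 3934195155008)))))))) (.node (.node (.node (.node (.node (.node (.node (.leaf 940597837825) (.leaf 1365827321863)) (.node (.leaf 2031550201873) (.leaf 4432412868634))) (.node (.node (.leaf 1937060331525) (.leaf 4999352483893)) (.node (.leaf 5948620144645) (.leaf 7026673975365)))) (.node (.node (.node (.leaf 687239659530) (.leaf 1073761615940)) (.node (.leaf 7194146701326) (.leaf 6146131230737))) (.node (.node (.leaf 4050164121643) (.leaf 4930736554016)) (.node (.leaf 1090925559867) (.leaf 6936381095946))))) (.node (.node (.node (.node (.leaf 751635398715) (.leaf 6356612087833)) (.node (.leaf 3573425242162) (.leaf 2572697403453))) (.node (.node (.leaf 7593587245109) (.leaf 416616022074)) (.node (.leaf 7477638070302) (.leaf 8151886200850)))) (.node (.node (.node (.leaf 8216327028768) (.leaf 5020852813866)) (.node (.leaf 5806880587781) (.leaf 7039546097717))) (.node (.node (.leaf 2839049666582) (.leaf 8688759472188)) (.node (.leaf 7061049376773) (.leaf 5476120526899)))))) (.node (.node (.node (.node (.node (.leaf 3431747026963) (.leaf 1000736423939)) (.node (.leaf 3075200254016) (.leaf 5566279712828))) (.node (.node (.leaf 8521283928117) (.leaf 1872619962406)) (.node (.leaf 1756682911778) (.leaf 2053058854935)))) (.node (.node (.node (.leaf 8220637462538) (.leaf 3285769715742)) (.node (.leaf 6910666735642) (.leaf 1889843216418))) (.node (.node (.leaf 665775898656) (.leaf 7353104138245)) (.node (.leaf 3139698884620) (.leaf 9217062404103))))) (.node (.node (.node (.node (.leaf 5596375416897) (.leaf 167521091646)) (.node (.leaf 1382984712229) (.leaf 7997273079818))) (.node (.node (.leaf 7490466742321) (.leaf 7894234955795)) (.node (.leaf 8881995907143) (.leaf 7563508711450)))) (.node (.node (.node (.leaf 3818233528372) (.leaf 3749639553048)) (.node (.leaf 4904940929092) (.leaf 2912008339516))) (.node (.node (.leaf 5549165707297) (.leaf 240552575044)) (.node (.leaf 5123917611066) (.leaf 8418260942916))))))) (.node (.node (.node (.node (.node (.node (.leaf 5201281744967) (.leaf 1902768750657)) (.node (.leaf 7662235287564) (.leaf 2963643826209))) (.node (.node (.leaf 3801064996925) (.leaf 5192681127969)) (.node (.leaf 5987235790908) (.leaf 2546923733056)))) (.node (.node (.node (.leaf 4423830798375) (.leaf 614185435200)) (.node (.leaf 1138166333441) (.leaf 3685151342602))) (.node (.node (.leaf 21544239120) (.leaf 50)) (.node (.leaf 5781026439227) (.leaf 6957967605792))))) (.node (.node (.node (.node (.leaf 4479695519765) (.leaf 2293524267016)) (.node (.leaf 2993732452382) (.leaf 1778162794517))) (.node (.node (.leaf 412323151912) (.leaf 6571437195296)) (.node (.leaf 7155438845978) (.leaf 3148283183161)))) (.node (.node (.node (.leaf 1056638500901) (.leaf 8680198045746)) (.node (.leaf 8697937946) (.leaf 3049450176556))) (.node (.node (.leaf 6128924753965) (.leaf 8813318766655)) (.node (.leaf 2306442002491) (.leaf 7907089514520)))))) (.node (.node (.node (.node (.node (.leaf 231954055235) (.leaf 2186161553468)) (.node (.leaf 627120472102) (.leaf 3504723329051))) (.node (.node (.leaf 8379600142369) (.leaf 4106002366493)) (.node (.leaf 1971408076862) (.leaf 3955755909153)))) (.node (.node (.node (.leaf 6025980084243) (.leaf 2924951961657)) (.node (.leaf 476759392286) (.leaf 6150404112396))) (.node (.node (.leaf 7932908732470) (.leaf 3921328930844)) (.node (.leaf 481051344924) (.leaf 8087493607443))))) (.node (.node (.node (.node (.leaf 4827556085764) (.leaf 3844002021379)) (.node (.leaf 1056597147698) (.leaf 5527637131319))) (.node (.node (.leaf 7172628021293) (.leaf 3818284187679)) (.node (.leaf 5274239828031) (.leaf 5201306255374)))) (.node (.node (.node (.leaf 2259163021361) (.leaf 8345127747631)) (.node (.leaf 1005044957199) (.leaf 4058808385585))) (.node (.node (.leaf 459698733080) (.leaf 3839815319582)) (.node (.leaf 9135433056324) (.leaf 7430413221918))))))))) (.node (.node (.node (.node (.node (.node (.node (.node (.leaf 3710887329834) (.leaf 3448910839825)) (.node (.leaf 6116071178308) (.leaf 7254245834801))) (.node (.node (.leaf 5991488487450) (.leaf 8637228449855)) (.node (.leaf 5458967527456) (.leaf 1365936898074)))) (.node (.node (.node (.leaf 223376113713) (.leaf 8057426804743)) (.node (.leaf 210507989053) (.leaf 6326496067632))) (.node (.node (.leaf 3354396000322) (.leaf 528300703796)) (.node (.leaf 3083797463085) (.leaf 5209850642464))))) (.node (.node (.node (.node (.leaf 2100245168198) (.leaf 2693035327531)) (.node (.leaf 433806180391) (.leaf 2564100587584))) (.node (.node (.leaf 519691042817) (.leaf 4432438689795)) (.node (.leaf 2040118444036) (.leaf 5922771959830)))) (.node (.node (.node (.leaf 8564282621957) (.leaf 8327963148324)) (.node (.leaf 292090806298) (.leaf 4449614888993))) (.node (.node (.leaf 579833364499) (.leaf 2194781896754)) (.node (.leaf 4355156606995) (.leaf 2160437624877)))))) (.node (.node (.node (.node (.node (.leaf 2718773215273) (.leaf 7696582115366)) (.node (.leaf 8770325381183) (.leaf 3629249724469))) (.node (.node (.leaf 8942129971216) (.leaf 4526927446044)) (.node (.leaf 1679381299207) (.leaf 4647215956010)))) (.node (.node (.node (.leaf 7632193257519) (.leaf 9010928287775)) (.node (.leaf 2628590960665) (.leaf 8714605363268))) (.node (.node (.leaf 5381651169318) (.leaf 5343052431372)) (.node (.leaf 7941464653843) (.leaf 5510474301497))))) (.node (.node (.node (.node (.leaf 3577802850307) (.leaf 7778197045271)) (.node (.leaf 6128931438624) (.leaf 1597731176452))) (.node (.node (.leaf 7911388151816) (.leaf 4604272508987)) (.node (.leaf 408063901700) (.leaf 6047315984404)))) (.node (.node (.node (.leaf 6481127604275) (.leaf 8611441672249)) (.node (.leaf 2727321600024) (.leaf 3053727711271))) (.node (.node (.leaf 9195639865375) (.leaf 7593580232736)) (.node (.leaf 6940668067884) (.leaf 4647164182560))))))) (.node (.node (.node (.node (.node (.node (.leaf 820428537887) (.leaf 1434646872068)) (.node (.leaf 5888524550212) (.leaf 1709470646289))) (.node (.node (.leaf 6197677588538) (.leaf 3934325374980)) (.node (.leaf 571323580440) (.leaf 7846964101143)))) (.node (.node (.node (.leaf 1237089779738) (.leaf 86035464197)) (.node (.leaf 8869133352971) (.leaf 4900571840535))) (.node (.node (.leaf 2950722813956) (.leaf 2426680770581)) (.node (.leaf 3826940182533) (.leaf 7859859750971))))) (.node (.node (.node (.node (.leaf 3058057936959) (.leaf 7297188036664)) (.node (.leaf 5708033818629) (.leaf 4965034360855))) (.node (.node (.leaf 8323658678338) (.leaf 695883399200)) (.node (.leaf 2920616689716) (.leaf 5884180365334)))) (.node (.node (.node (.leaf 9225631367178) (.leaf 7172608884755)) (.node (.leaf 7846996475948) (.leaf 1670844055595))) (.node (.node (.leaf 2143203164199) (.leaf 4161828421696)) (.node (.leaf 717259538433) (.leaf 1219779559431)))))) (.node (.node (.node (.node (.node (.leaf 777473097732) (.leaf 7894224338981)) (.node (.leaf 4651479793667) (.leaf 5514750132268))) (.node (.node (.leaf 6004368146461) (.leaf 223389941801)) (.node (.leaf 5630717132816) (.leaf 5325815021624)))) (.node (.node (.node (.leaf 5609250291723) (.leaf 4870515195967)) (.node (.leaf 8401003937825) (.leaf 5832733))) (.node (.node (.leaf 3307171807277) (.leaf 8637185720328)) (.node (.leaf 2439584153633) (.leaf 1670804668449))))) (.node (.node (.node (.node (.leaf 214838345752) (.leaf 6025863102494)) (.node (.leaf 8645784043546) (.leaf 7507628195900))) (.node (.node (.leaf 6446760001595) (.leaf 7361640005640)) (.node (.leaf 8461182828612) (.leaf 6880560807983)))) (.node (.node (.node (.leaf 1477563449347) (.leaf 3582039621647)) (.node (.leaf 5497603031082) (.leaf 3148297273362))) (.node (.node (.leaf 5540589469699) (.leaf 4024391237685)) (.node (.leaf 356485169155) (.leaf 2465376239648)))))))) (.node (.node (.node (.node (.node (.node (.node (.leaf 2297851740163) (.leaf 1443142762507)) (.node (.leaf 5781064056854) (.leaf 7627897831447))) (.node (.node (.leaf 1176863375408) (.leaf 8452605018142)) (.node (.leaf 4445360881696) (.leaf 4256348897310)))) (.node (.node (.node (.leaf 4990824874039) (.leaf 3010810871812)) (.node (.leaf 1052385148972) (.leaf 4114626576452))) (.node (.node (.leaf 7314362204200) (.leaf 7370240426052)) (.node (.leaf 6936387518476) (.leaf 751706046517))))) (.node (.node (.node (.node (.leaf 1314316419123) (.leaf 6700174213146)) (.node (.leaf 3440285581337) (.leaf 1876914995219))) (.node (.node (.leaf 6043141472299) (.leaf 2920580120618)) (.node (.leaf 3023672442888) (.leaf 6678690857005)))) (.node (.node (.node (.leaf 3075285188651) (.leaf 9101086556190)) (.node (.leaf 2761678979138) (.leaf 6360984649733))) (.node (.node (.leaf 1855525224470) (.leaf 6013002776610)) (.node (.leaf 545467203648) (.leaf 7490477621272)))))) (.node (.node (.node (.node (.node (.leaf 5824014975009) (.leaf 2594201468951)) (.node (.leaf 4260612079631) (.leaf 6610003951649))) (.node (.node (.leaf 5171150127167) (.leaf 3152542105626)) (.node (.leaf 2418081071143) (.leaf 2796028821568)))) (.node (.node (.node (.leaf 1249835483137) (.leaf 5918580473860)) (.node (.leaf 4776117272580) (.leaf 51))) (.node (.node (.leaf 68) (.leaf 5201242751037)) (.node (.leaf 111684485185) (.leaf 4655753920530))))) (.node (.node (.node (.node (.leaf 1713778130976) (.leaf 6485437644840)) (.node (.leaf 9212725493815) (.leaf 1623633625092))) (.node (.node (.leaf 1421694533687) (.leaf 1799591559186)) (.node (.leaf 725937356830) (.leaf 3092401160235)))) (.node (.node (.node (.leaf 7434679943205) (.leaf 4123225292807)) (.node (.leaf 2439594770462) (.leaf 4144686366779))) (.node (.node (.leaf 5136840654907) (.leaf 5630770806815)) (.node (.leaf 3998676811795) (.leaf 4698723319818))))))) (.node (.node (.node (.node (.node (.node (.leaf 9178363068439) (.leaf 4681525624865)) (.node (.leaf 7786869751873) (.leaf 1872644603967))) (.node (.node (.leaf 8108920799258) (.leaf 7374494040077)) (.node (.leaf 7430376980533) (.leaf 575578112049)))) (.node (.node (.node (.leaf 4599983046694) (.leaf 5750973202475)) (.node (.leaf 1357240074244) (.leaf 6609964433448))) (.node (.node (.leaf 8680154988579) (.leaf 7370261790757)) (.node (.leaf 7082484695044) (.leaf 3844048617513))))) (.node (.node (.node (.node (.leaf 433892622371) (.leaf 5772444237850)) (.node (.leaf 7142560497668) (.leaf 4771713449993))) (.node (.node (.leaf 1344400130102) (.leaf 8070253838403)) (.node (.leaf 7761136910340) (.leaf 2774598352915)))) (.node (.node (.node (.leaf 1988584472607) (.leaf 6713091883067)) (.node (.leaf 7095314743317) (.leaf 6992259317796))) (.node (.node (.leaf 5446134464544) (.leaf 7095348822033)) (.node (.leaf 3144057225235) (.leaf 1791123259460)))))) (.node (.node (.node (.node (.node (.leaf 9135478538259) (.leaf 3655057080369)) (.node (.leaf 523995447338) (.leaf 2126029520919))) (.node (.node (.leaf 5501868376119) (.leaf 3113892184131)) (.node (.leaf 5708090966069) (.leaf 4316507537468)))) (.node (.node (.node (.leaf 489633546306) (.leaf 6365211721784)) (.node (.leaf 6451051954242) (.leaf 2370918088730))) (.node (.node (.leaf 5605027479557) (.leaf 5480426373152)) (.node (.leaf 8899182854183) (.leaf 3899833450518))))) (.node (.node (.node (.node (.leaf 2680074076199) (.leaf 180393738304)) (.node (.leaf 1271310319617) (.leaf 4432406249477))) (.node (.node (.leaf 30068899844) (.leaf 6987986305027)) (.node (.leaf 3728042295353) (.leaf 347909128238)))) (.node (.node (.node (.leaf 5536258654268) (.leaf 3113915449351)) (.node (.leaf 4088859394098) (.leaf 459650957344))) (.node (.node (.leaf 8452526112819) (.leaf 378055163930)) (.node (.leaf 4548402610210) (.leaf 3612149350432))))))))))) (.node (.node (.node (.node (.node (.node (.node (.node (.node (.node (.leaf 2452563361822) (.leaf 4363688673331)) (.node (.leaf 6610013913147) (.leaf 949266350148))) (.node (.node (.leaf 9165494616087) (.leaf 4750280032266)) (.node (.leaf 6743149051925) (.leaf 4582747865097)))) (.node (.node (.node (.leaf 2628528373780) (.leaf 253532176417)) (.node (.leaf 605600022541) (.leaf 2096006430746))) (.node (.node (.leaf 9015175741494) (.leaf 1207007772740)) (.node (.leaf 8864904839171) (.leaf 9083909505083))))) (.node (.node (.node (.node (.leaf 8989450895404) (.leaf 2044426387513)) (.node (.leaf 8044531744831) (.leaf 3242708959290))) (.node (.node (.leaf 5635018326079) (.leaf 1816797773885)) (.node (.leaf 6695911161879) (.leaf 3070968332349)))) (.node (.node (.node (.leaf 2796042649637) (.leaf 7142537035846)) (.node (.leaf 5484789301272) (.leaf 2705854890049))) (.node (.node (.leaf 1086631641151) (.leaf 614184386567)) (.node (.leaf 592779935747) (.leaf 3590622019629)))))) (.node (.node (.node (.node (.node (.leaf 4312152014894) (.leaf 1301382823961)) (.node (.leaf 1670765215769) (.leaf 1344456753155))) (.node (.node (.leaf 7859829801013) (.leaf 6605711016003)) (.node (.leaf 7305772728323) (.leaf 5592062230533)))) (.node (.node (.node (.leaf 5630731026501) (.leaf 5484681035817)) (.node (.leaf 5858385526787) (.leaf 9264310255620))) (.node (.node (.leaf 7928645091333) (.leaf 7653654200356)) (.node (.leaf 5209796575255) (.leaf 5467538980896))))) (.node (.node (.node (.node (.leaf 1198356430897) (.leaf 8899209330747)) (.node (.leaf 3015137558562) (.leaf 4084574126141))) (.node (.node (.leaf 5759596560452) (.leaf 2568403812393)) (.node (.leaf 9225598599211) (.leaf 5454621966355)))) (.node (.node (.node (.leaf 2379424202770) (.leaf 6833329995830)) (.node (.leaf 3736636031015) (.leaf 2435251568704))) (.node (.node (.leaf 528280977409) (.leaf 115994787849)) (.node (.leaf 2040178868240) (.leaf 52))))))) (.node (.node (.node (.node (.node (.node (.leaf 1722285621263) (.leaf 5394516279315)) (.node (.leaf 3436027576388) (.leaf 4114582470690))) (.node (.node (.leaf 5184062685201) (.leaf 7215548465198)) (.node (.leaf 5300050919434) (.leaf 8542713544712)))) (.node (.node (.node (.leaf 2645730656271) (.leaf 644343988256)) (.node (.leaf 6605709770762) (.leaf 2164673609741))) (.node (.node (.leaf 9178400358416) (.leaf 5824030310417)) (.node (.leaf 4930637922331) (.leaf 2297872646205))))) (.node (.node (.node (.node (.leaf 8705957625911) (.leaf 7507629899779)) (.node (.leaf 4282130104370) (.leaf 6708764999687))) (.node (.node (.leaf 1086685708318) (.leaf 7434610933815)) (.node (.leaf 8310816505904) (.leaf 8005836144688)))) (.node (.node (.node (.leaf 197591367751) (.leaf 4415248138310)) (.node (.leaf 7954334220324) (.leaf 8791878533151))) (.node (.node (.leaf 6446769897477) (.leaf 8637286514693)) (.node (.leaf 2692973264901) (.leaf 7864106745901)))))) (.node (.node (.node (.node (.node (.leaf 5824035618868) (.leaf 2602815062040)) (.node (.leaf 8181980921889) (.leaf 1327193587771))) (.node (.node (.leaf 3195509538871) (.leaf 4947841712157)) (.node (.leaf 8160494944314) (.leaf 9028082008127)))) (.node (.node (.node (.leaf 7967174950942) (.leaf 3315723927580)) (.node (.leaf 4458273570830) (.leaf 6592788758557))) (.node (.node (.leaf 6159043067960) (.leaf 6012989472820)) (.node (.leaf 2860462047270) (.leaf 5824048988176))))) (.node (.node (.node (.node (.leaf 2847696093252) (.leaf 7816917221413)) (.node (.leaf 5102436679702) (.leaf 515407151162))) (.node (.node (.leaf 1700947296324) (.leaf 2907760754726)) (.node (.leaf 3358680547377) (.leaf 2864747905075)))) (.node (.node (.node (.leaf 5098128539660) (.leaf 9062429818895)) (.node (.leaf 2194737659947) (.leaf 1236979089423))) (.node (.node (.leaf 7052412649543) (.leaf 81604575256)) (.node (.leaf 4389467521084) (.leaf 8585730654276)))))))) (.node (.node (.node (.node (.node (.node (.node (.leaf 7073886175237) (.leaf 7808299827233)) (.node (.leaf 275005112350) (.leaf 43013636122))) (.node (.node (.leaf 3315729236007) (.leaf 4458181165120)) (.node (.leaf 725849473025) (.leaf 3685138169864)))) (.node (.node (.node (.leaf 4651480252433) (.leaf 6811849195536)) (.node (.leaf 7945805299780) (.leaf 1816789254209))) (.node (.node (.leaf 6390993584152) (.leaf 4269221871639)) (.node (.leaf 7168335413303) (.leaf 390859063320))))) (.node (.node (.node (.node (.leaf 7615042158624) (.leaf 6992338354195)) (.node (.leaf 5935672131605) (.leaf 8568468602929))) (.node (.node (.leaf 8362322493481) (.leaf 4222068195363)) (.node (.leaf 2031558721586) (.leaf 5029429772341)))) (.node (.node (.node (.leaf 8731734769724) (.leaf 7554868445236)) (.node (.leaf 5841158537260) (.leaf 738766159880))) (.node (.node (.leaf 2083114516496) (.leaf 6506893475857)) (.node (.leaf 3208348631077) (.leaf 1563425112087)))))) (.node (.node (.node (.node (.node (.leaf 579842998284) (.leaf 5815459774511)) (.node (.leaf 4767453085751) (.leaf 8976576479265))) (.node (.node (.leaf 4784692985878) (.leaf 3139679748126)) (.node (.leaf 6210526445577) (.leaf 8667252326415)))) (.node (.node (.node (.leaf 1151118475305) (.leaf 2628565270564)) (.node (.leaf 2753138851880) (.leaf 214798696471))) (.node (.node (.leaf 6932150222867) (.leaf 1636422582277)) (.node (.leaf 6378046226482) (.leaf 4827598618647))))) (.node (.node (.node (.node (.leaf 7082509991954) (.leaf 8710200295430)) (.node (.leaf 8070313148458) (.leaf 1254136086565))) (.node (.node (.leaf 4617106620484) (.leaf 3663613526039)) (.node (.leaf 1675038031923) (.leaf 4587094802457)))) (.node (.node (.node (.leaf 5785346834487) (.leaf 5342944296983)) (.node (.leaf 2787442360357) (.leaf 820362936369))) (.node (.node (.leaf 2151809941551) (.leaf 863330828293)) (.node (.leaf 4608567214115) (.leaf 1992909193262))))))) (.node (.node (.node (.node (.node (.node (.leaf 1168286089271) (.leaf 7224176214076)) (.node (.leaf 6476865601596) (.leaf 3435978686516))) (.node (.node (.leaf 6554132348980) (.leaf 5424546185277)) (.node (.leaf 2680114184253) (.leaf 5699437199372)))) (.node (.node (.node (.leaf 7554882207810) (.leaf 3560576974909)) (.node (.leaf 5261335658524) (.leaf 5751009312800))) (.node (.node (.leaf 8065956249639) (.leaf 5038004371510)) (.node (.leaf 3474643025959) (.leaf 691494846528))))) (.node (.node (.node (.node (.leaf 98784247809) (.leaf 115965886472)) (.node (.leaf 8057396264973) (.leaf 5544860975142))) (.node (.node (.leaf 3251305512977) (.leaf 5287139278883)) (.node (.leaf 7941456461828) (.leaf 6708823523365)))) (.node (.node (.node (.leaf 8186210418743) (.leaf 7619313795118)) (.node (.leaf 7808274989069) (.leaf 2826161553468))) (.node (.node (.leaf 7623657127955) (.leaf 1408807141390)) (.node (.leaf 4505452544045) (.leaf 9247132876840)))))) (.node (.node (.node (.node (.node (.leaf 7035157282874) (.leaf 2838974693399)) (.node (.leaf 5712375447584) (.leaf 1533404643396))) (.node (.node (.leaf 5201206312987) (.leaf 7073849933872)) (.node (.leaf 6979369238570) (.leaf 8808984281125)))) (.node (.node (.node (.leaf 2783165546517) (.leaf 4866247360565)) (.node (.leaf 8031603261492) (.leaf 4157560651825))) (.node (.node (.leaf 4161896775729) (.leaf 1434519470113)) (.node (.leaf 4140378816561) (.leaf 8306519703560))))) (.node (.node (.node (.node (.leaf 8568511594500) (.leaf 8306487197727)) (.node (.leaf 652927762443) (.leaf 468170702916))) (.node (.node (.leaf 6352258596880) (.leaf 2272090259469)) (.node (.leaf 7391699533883) (.leaf 206231175209)))) (.node (.node (.node (.leaf 867653582858) (.leaf 8310809952309)) (.node (.leaf 1692333506591) (.leaf 8379556102198))) (.node (.node (.leaf 4441031901217) (.leaf 1524783644710)) (.node (.leaf 2491129397300) (.leaf 5720907513883))))))))) (.node (.node (.node (.node (.node (.node (.node (.node (.leaf 1267016663100) (.leaf 1645061144619)) (.node (.leaf 1735189004351) (.leaf 1129583935517))) (.node (.node (.leaf 2478262321215) (.leaf 4196194975771)) (.node (.leaf 7507663323197) (.leaf 1718016081941)))) (.node (.node (.node (.leaf 4574176018479) (.leaf 4406639198254)) (.node (.leaf 7099590639651) (.leaf 1009353490465))) (.node (.node (.leaf 5957214076958) (.leaf 4307883786295)) (.node (.leaf 5828290805808) (.leaf 2920664662048))))) (.node (.node (.node (.node (.leaf 2637179256837) (.leaf 1279920373812)) (.node (.leaf 5042324701222) (.leaf 8074582294578))) (.node (.node (.leaf 4977899995161) (.leaf 373666218045)) (.node (.leaf 4810379886628) (.leaf 4432414376000)))) (.node (.node (.node (.leaf 3732341063719) (.leaf 2972122480704)) (.node (.leaf 47244640257) (.leaf 2607075229702))) (.node (.node (.leaf 3350142124048) (.leaf 1559162454042)) (.node (.leaf 141744209937) (.leaf 7361662615605)))))) (.node (.node (.node (.node (.node (.leaf 3225533939745) (.leaf 7846923141168)) (.node (.leaf 1361526128695) (.leaf 8783239708724))) (.node (.node (.leaf 8310801170500) (.leaf 8654385774608)) (.node (.leaf 4999384006662) (.leaf 5832616837128)))) (.node (.node (.node (.leaf 193398308883) (.leaf 8289421688851)) (.node (.leaf 309287976993) (.leaf 6910629838902))) (.node (.node (.leaf 713021653024) (.leaf 7584994230315)) (.node (.leaf 2280685699094) (.leaf 3912756428804))))) (.node (.node (.node (.node (.leaf 3951460810795) (.leaf 3685083512891)) (.node (.leaf 2448158294041) (.leaf 34401353790))) (.node (.node (.leaf 5068118032408) (.leaf 8631484484)) (.node (.leaf 6051673800772) (.leaf 8933599805447)))) (.node (.node (.node (.leaf 8066001600536) (.leaf 5909882667017)) (.node (.leaf 2808961433607) (.leaf 2718737498135))) (.node (.node (.leaf 5531930656805) (.leaf 7207032062017)) (.node (.leaf 1249847279677) (.leaf 670025908289))))))) (.node (.node (.node (.node (.node (.node (.leaf 6567060242445) (.leaf 8121798623299)) (.node (.leaf 6098860572676) (.leaf 249172393987))) (.node (.node (.leaf 7061036204062) (.leaf 4084604796950)) (.node (.leaf 8181915779076) (.leaf 3908424105990)))) (.node (.node (.node (.leaf 6515533348913) (.leaf 7705178931246)) (.node (.leaf 4552665923590) (.leaf 8306488377359))) (.node (.node (.leaf 7056654794770) (.leaf 2190437908540)) (.node (.leaf 8693084258330) (.leaf 2662891126811))))) (.node (.node (.node (.node (.leaf 6494017486885) (.leaf 6214823706683)) (.node (.leaf 5325829177348) (.leaf 1408887357464))) (.node (.node (.leaf 3148319096856) (.leaf 9174081994785)) (.node (.leaf 9083905179677) (.leaf 5785365119039)))) (.node (.node (.node (.leaf 5454692483109) (.leaf 2796061655067)) (.node (.leaf 8091741913122) (.leaf 1662227841089))) (.node (.node (.leaf 2748811771936) (.leaf 7275695833112)) (.node (.leaf 4307869630526) (.leaf 670051205126)))))) (.node (.node (.node (.node (.node (.leaf 8693080129596) (.leaf 5798218956866)) (.node (.leaf 1945634668583) (.leaf 4608505020480))) (.node (.node (.leaf 34359738369) (.leaf 5918569136131)) (.node (.leaf 3925615181835) (.leaf 53)))) (.node (.node (.node (.leaf 4123262255122) (.leaf 1189721538624)) (.node (.leaf 4423889977350) (.leaf 824735301656))) (.node (.node (.leaf 5085263888439) (.leaf 1864021835839)) (.node (.leaf 4999384268863) (.leaf 1705141076037))))) (.node (.node (.node (.node (.leaf 8048796041237) (.leaf 317841211407)) (.node (.leaf 6120374796293) (.leaf 6592798654468))) (.node (.node (.leaf 7035158331415) (.leaf 8645836341273)) (.node (.leaf 5497647661087) (.leaf 3960076238883)))) (.node (.node (.node (.leaf 3221249916958) (.leaf 1735196672055)) (.node (.leaf 1460362674201) (.leaf 5617943248901))) (.node (.node (.leaf 6257803132986) (.leaf 2349358841908)) (.node (.leaf 7387390017586) (.leaf 5334482681889)))))))) (.node (.node (.node (.node (.node (.node (.node (.leaf 3715168141350) (.leaf 2985025142798)) (.node (.leaf 6494034460710) (.leaf 3723776032808))) (.node (.node (.leaf 4767452364833) (.leaf 2929234804743)) (.node (.leaf 605692231733) (.leaf 3169697792043)))) (.node (.node (.node (.leaf 3994419003445) (.leaf 1670761414714)) (.node (.leaf 1756715417652) (.leaf 8371002802206))) (.node (.node (.leaf 7533397868556) (.leaf 4509796335681)) (.node (.leaf 6511223111701) (.leaf 3466062594119))))) (.node (.node (.node (.node (.leaf 1975704813575) (.leaf 1451757338629)) (.node (.leaf 5132600279064) (.leaf 2890645241859))) (.node (.node (.leaf 2929251254337) (.leaf 3204113432608)) (.node (.leaf 2439646281796) (.leaf 6060211175443)))) (.node (.node (.node (.leaf 3474668519451) (.leaf 5154019016755)) (.node (.leaf 635720826914) (.leaf 7022394146840))) (.node (.node (.leaf 7279992176702) (.leaf 3814024347680)) (.node (.leaf 2061616218171) (.leaf 3719489716257)))))) (.node (.node (.node (.node (.node (.leaf 6116048502807) (.leaf 3148219547655)) (.node (.leaf 6545556832294) (.leaf 3225557467192))) (.node (.node (.leaf 1292822446135) (.leaf 2860470370372)) (.node (.leaf 6292176961553) (.leaf 8623882277)))) (.node (.node (.node (.leaf 5085248487479) (.leaf 708727406637)) (.node (.leaf 5879886250028) (.leaf 7692291342400))) (.node (.node (.leaf 4496845242407) (.leaf 906243211328)) (.node (.leaf 1657857376257) (.leaf 4432475652102))))) (.node (.node (.node (.node (.leaf 2972133687308) (.leaf 54)) (.node (.leaf 4539832926253) (.leaf 2821832245251))) (.node (.node (.leaf 6618621280282) (.leaf 532632895531)) (.node (.leaf 2194784124975) (.leaf 6661568659499)))) (.node (.node (.node (.leaf 515521904708) (.leaf 6910610309174)) (.node (.leaf 1546288234522) (.leaf 7928549736454))) (.node (.node (.leaf 4441072992261) (.leaf 6219179229191)) (.node (.leaf 957779738662) (.leaf 4891988066337))))))) (.node (.node (.node (.node (.node (.node (.leaf 4247824564227) (.leaf 7056728195091)) (.node (.leaf 6103203905542) (.leaf 8804805443608))) (.node (.node (.leaf 3092403585065) (.leaf 6927873343525)) (.node (.leaf 8710247022658) (.leaf 3148317327384)))) (.node (.node (.node (.leaf 9139825999877) (.leaf 1511923449876)) (.node (.leaf 7056728195109) (.leaf 6751715196960))) (.node (.node (.leaf 6949371052037) (.leaf 6317913538598)) (.node (.leaf 7353024970794) (.leaf 7061063008286))))) (.node (.node (.node (.node (.leaf 5128268152844) (.leaf 5020952821779)) (.node (.leaf 2705845714971) (.leaf 8156178612252))) (.node (.node (.leaf 4496846094379) (.leaf 274880266263)) (.node (.leaf 867637133361) (.leaf 3612067954742)))) (.node (.node (.node (.leaf 5987212656689) (.leaf 1984289374256)) (.node (.leaf 1623553277999) (.leaf 1786829078561))) (.node (.node (.leaf 7151138832396) (.leaf 4080260284478)) (.node (.leaf 3706588954686) (.leaf 1035094654986)))))) (.node (.node (.node (.node (.node (.leaf 6597141921847) (.leaf 6086034456586)) (.node (.leaf 5755260239924) (.leaf 3023663333407))) (.node (.node (.leaf 854760226877) (.leaf 5424554770482)) (.node (.leaf 8976485711928) (.leaf 1855509430303)))) (.node (.node (.node (.leaf 8645819957308) (.leaf 7541977382967)) (.node (.leaf 1700823433237) (.leaf 2220499927109))) (.node (.node (.leaf 4535608934432) (.leaf 5909891776521)) (.node (.leaf 2847593070617) (.leaf 7808369426500))))) (.node (.node (.node (.node (.leaf 4488284930100) (.leaf 7009405698093)) (.node (.leaf 5085245538324) (.leaf 4741686755362))) (.node (.node (.leaf 3698052759572) (.leaf 6455348035648)) (.node (.leaf 4024398839847) (.leaf 3788166266944)))) (.node (.node (.node (.leaf 571230650369) (.leaf 8675938140165)) (.node (.leaf 3332894621710) (.leaf 55))) (.node (.node (.leaf 4874806951978) (.leaf 4793210503202)) (.node (.leaf 2310748176417) (.leaf 3917074792480)))))))))) (.node (.node (.node (.node (.node (.node (.node (.node (.node (.leaf 8869127716880) (.leaf 4917798633491)) (.node (.leaf 511128502277) (.leaf 6386640289836))) (.node (.node (.leaf 5214150656055) (.leaf 7872693272583)) (.node (.leaf 2418070913081) (.leaf 6472576860164)))) (.node (.node (.node (.leaf 3358777671713) (.leaf 7146850680849)) (.node (.leaf 6219159437315) (.leaf 2478224769089))) (.node (.node (.leaf 5514831265797) (.leaf 8937889726514)) (.node (.leaf 4282110443543) (.leaf 2667253661740))))) (.node (.node (.node (.node (.leaf 8216340135986) (.leaf 7709539237951)) (.node (.leaf 8053093498945) (.leaf 5592096178197))) (.node (.node (.leaf 1825444462612) (.leaf 4758857515026)) (.node (.leaf 2817507655733) (.leaf 4548397760533)))) (.node (.node (.node (.leaf 8452552392751) (.leaf 2113150779399)) (.node (.leaf 4926379393090) (.leaf 150341943300))) (.node (.node (.leaf 8864819970084) (.leaf 3461794299932)) (.node (.leaf 3706581483537) (.leaf 3002254622779)))))) (.node (.node (.node (.node (.node (.leaf 6545611292704) (.leaf 8272108585023)) (.node (.leaf 5471871434764) (.leaf 7245658390575))) (.node (.node (.leaf 2843325890620) (.leaf 1241245745205)) (.node (.leaf 6627180085286) (.leaf 2890595565621)))) (.node (.node (.node (.leaf 5755263647792) (.leaf 648555069457)) (.node (.leaf 7499015716880) (.leaf 3968617087035))) (.node (.node (.leaf 8976497311797) (.leaf 7894239608863)) (.node (.leaf 9049632669722) (.leaf 1868311298069))))) (.node (.node (.node (.node (.leaf 8864828751937) (.leaf 6605705904160)) (.node (.leaf 1868378734596) (.leaf 4385170849850))) (.node (.node (.leaf 6116050337825) (.leaf 7198440816672)) (.node (.leaf 957854711851) (.leaf 889073172545)))) (.node (.node (.node (.leaf 5437527097370) (.leaf 249147555869)) (.node (.leaf 1464611438645) (.leaf 691598655502))) (.node (.node (.leaf 8740390043680) (.leaf 7761138548769)) (.node (.leaf 1958510133266) (.leaf 4312148607047))))))) (.node (.node (.node (.node (.node (.node (.leaf 3564837339175) (.leaf 678609944640)) (.node (.leaf 2714419331073) (.leaf 9161167929353))) (.node (.node (.leaf 30097211409) (.leaf 9156899569681)) (.node (.leaf 8564190216238) (.leaf 2156090228757)))) (.node (.node (.node (.leaf 8031700713498) (.leaf 8096016171032)) (.node (.leaf 17185832981) (.leaf 90226950163))) (.node (.node (.leaf 1894163873860) (.leaf 4668636266506)) (.node (.leaf 528348676112) (.leaf 7198375477263))))) (.node (.node (.node (.node (.leaf 9126821429294) (.leaf 4720265068563)) (.node (.leaf 7344458170384) (.leaf 2619936079897))) (.node (.node (.leaf 8065979187242) (.leaf 6786068381744)) (.node (.leaf 3715197239324) (.leaf 7082485678085)))) (.node (.node (.node (.leaf 2456731910215) (.leaf 5540518297636)) (.node (.leaf 197670600737) (.leaf 5136782983200))) (.node (.node (.leaf 2108910534680) (.leaf 8605794371)) (.node (.leaf 7864147116077) (.leaf 1374516346913)))))) (.node (.node (.node (.node (.node (.leaf 2602877583384) (.leaf 4256319799302)) (.node (.leaf 3139630727211) (.leaf 137442951195))) (.node (.node (.leaf 7507625246723) (.leaf 6459673215026)) (.node (.leaf 7507737903128) (.leaf 3560561508359)))) (.node (.node (.node (.leaf 5652296761376) (.leaf 5909895774275)) (.node (.leaf 7554893217802) (.leaf 1498971111448))) (.node (.node (.leaf 1563418230822) (.leaf 7271429701690)) (.node (.leaf 9156908613677) (.leaf 6352361750597))))) (.node (.node (.node (.node (.leaf 1846847012921) (.leaf 7013694111791)) (.node (.leaf 8680234942488) (.leaf 227686940691))) (.node (.node (.leaf 8100311531569) (.leaf 1507540140091)) (.node (.leaf 6798942404627) (.leaf 2662938050581)))) (.node (.node (.node (.leaf 2220544163846) (.leaf 3912739061780)) (.node (.leaf 8083197722657) (.leaf 3882766893086))) (.node (.node (.leaf 158949638202) (.leaf 6871952130105)) (.node (.leaf 5446119718930) (.leaf 2439587692551)))))))) (.node (.node (.node (.node (.node (.node (.node (.leaf 5398776315941) (.leaf 3783876345885)) (.node (.leaf 1262775959586) (.leaf 6829056000010))) (.node (.node (.leaf 4131843276820) (.leaf 7730993627195)) (.node (.leaf 8525516046392) (.leaf 1133926154281)))) (.node (.node (.node (.leaf 7499059494975) (.leaf 3513317392432)) (.node (.leaf 3582017208359) (.leaf 1151056347200))) (.node (.node (.leaf 889058230273) (.leaf 3100970057734)) (.node (.leaf 3165487038468) (.leaf 8340840710196))))) (.node (.node (.node (.node (.leaf 1782448652296) (.leaf 9255774781470)) (.node (.leaf 2250632200198) (.leaf 3023698329603))) (.node (.node (.leaf 579867115541) (.leaf 3624971993114)) (.node (.leaf 1447453720602) (.leaf 8439643766826)))) (.node (.node (.node (.leaf 3839720030212) (.leaf 5733810831370)) (.node (.leaf 8521218261042) (.leaf 3324310519856))) (.node (.node (.leaf 8353743700027) (.leaf 3925636743215)) (.node (.leaf 4745975365641) (.leaf 6171945992204)))))) (.node (.node (.node (.node (.node (.leaf 8736024952851) (.leaf 2229105590329)) (.node (.leaf 5776769155126) (.leaf 386585198621))) (.node (.node (.leaf 1383064666124) (.leaf 5231277113352)) (.node (.leaf 4990759206935) (.leaf 257750663217)))) (.node (.node (.node (.leaf 2452543373317) (.leaf 60176924728)) (.node (.leaf 5927122370568) (.leaf 9174057943083))) (.node (.node (.leaf 4419612639256) (.leaf 2108878028825)) (.node (.leaf 8650187341843) (.leaf 5609261760538))))) (.node (.node (.node (.node (.leaf 1958550110224) (.leaf 8637211082759)) (.node (.leaf 4063073599533) (.leaf 657153327174))) (.node (.node (.leaf 7803972026384) (.leaf 3500411453453)) (.node (.leaf 2993704402975) (.leaf 6343705034814)))) (.node (.node (.node (.leaf 8912116187197) (.leaf 854755049533)) (.node (.leaf 867633201201) (.leaf 1636438310940))) (.node (.node (.leaf 6197657010236) (.leaf 524048334909)) (.node (.leaf 3358790844419) (.leaf 1464627429406))))))) (.node (.node (.node (.node (.node (.node (.leaf 5647896281097) (.leaf 6777516720149)) (.node (.leaf 3882693885968) (.leaf 2237715644477))) (.node (.node (.leaf 5325767835715) (.leaf 7404649971716)) (.node (.leaf 7932890251299) (.leaf 2967846977593)))) (.node (.node (.node (.leaf 8937902374982) (.leaf 6816161333308)) (.node (.leaf 48758797) (.leaf 1597788192815))) (.node (.node (.leaf 5093836390466) (.leaf 502583263251)) (.node (.leaf 2259163676689) (.leaf 7275814387731))))) (.node (.node (.node (.node (.leaf 6472653930522) (.leaf 8366675722259)) (.node (.leaf 4307984777246) (.leaf 4213397061680))) (.node (.node (.leaf 2147498131495) (.leaf 1636387651648)) (.node (.leaf 3809635991553) (.leaf 8675942072324)))) (.node (.node (.node (.leaf 3332947968009) (.leaf 2276348461089)) (.node (.leaf 6734579105800) (.leaf 9251421225002))) (.node (.node (.leaf 4660107214853) (.leaf 7765355003949)) (.node (.leaf 7168349700148) (.leaf 146044092429)))))) (.node (.node (.node (.node (.node (.leaf 7331519070254) (.leaf 9079563223085)) (.node (.leaf 4239227093018) (.leaf 1662205755425))) (.node (.node (.leaf 4028753117245) (.leaf 6055934427171)) (.node (.leaf 665803096068) (.leaf 3126828859416)))) (.node (.node (.node (.leaf 2323708379150) (.leaf 412385935366)) (.node (.leaf 5162557702195) (.leaf 4483959619608))) (.node (.node (.leaf 2435249078298) (.leaf 8877755007014)) (.node (.leaf 3208451260446) (.leaf 184730910758))))) (.node (.node (.node (.node (.leaf 846153252901) (.leaf 1374483185721)) (.node (.leaf 3504749150276) (.leaf 6519798497286))) (.node (.node (.leaf 3435999920159) (.leaf 3792565174290)) (.node (.leaf 4325103501364) (.leaf 5544882339893)))) (.node (.node (.node (.leaf 3083824857118) (.leaf 8164795809860)) (.node (.leaf 1619232358451) (.leaf 3762400985146))) (.node (.node (.leaf 1176855707698) (.leaf 4191935463429)) (.node (.leaf 8869146591248) (.leaf 4909207388198))))))))) (.node (.node (.node (.node (.node (.node (.node (.node (.leaf 3100977004565) (.leaf 1700829069367)) (.node (.leaf 605664837635) (.leaf 1456099295256))) (.node (.node (.leaf 1026509439032) (.leaf 3221281898525)) (.node (.leaf 5716615757882) (.leaf 2495393235002)))) (.node (.node (.node (.leaf 300705447943) (.leaf 6859068538911)) (.node (.leaf 6451081773075) (.leaf 8976510418996))) (.node (.node (.leaf 6661586419742) (.leaf 4423897841690)) (.node (.leaf 6189109674017) (.leaf 4999456686115))))) (.node (.node (.node (.node (.leaf 7675124514821) (.leaf 820373159952)) (.node (.leaf 1486078410774) (.leaf 438165831700))) (.node (.node (.leaf 8869177786423) (.leaf 1632118636604)) (.node (.leaf 2108866756642) (.leaf 2190452588607)))) (.node (.node (.node (.leaf 8508354265121) (.leaf 5321477652499)) (.node (.leaf 7658022371381) (.leaf 8585663152135))) (.node (.node (.leaf 8126093131812) (.leaf 8636071962)) (.node (.leaf 953497223207) (.leaf 309242757184)))))) (.node (.node (.node (.node (.node (.leaf 1095216660481) (.leaf 116018577418)) (.node (.leaf 4642859646989) (.leaf 3487531204632))) (.node (.node (.leaf 3573432778798) (.leaf 6846198841402)) (.node (.leaf 8465387618347) (.leaf 5802629005369)))) (.node (.node (.node (.leaf 8529839915060) (.leaf 8602853244938)) (.node (.leaf 7602144542729) (.leaf 3607787995171))) (.node (.node (.leaf 8272119922730) (.leaf 7911412531218)) (.node (.leaf 2315004018712) (.leaf 1112399282191))))) (.node (.node (.node (.node (.leaf 4990780047428) (.leaf 927734825009)) (.node (.leaf 1541925634077) (.leaf 4161924562962))) (.node (.node (.leaf 1168340090898) (.leaf 7353033293879)) (.node (.leaf 5527641784381) (.leaf 8942170996760)))) (.node (.node (.node (.leaf 974978613299) (.leaf 7915642683433)) (.node (.leaf 9191367573557) (.leaf 8465428906040))) (.node (.node (.leaf 1056631095321) (.leaf 330759405620)) (.node (.leaf 5935755231289) (.leaf 5755284488196))))))) (.node (.node (.node (.node (.node (.node (.leaf 640030932996) (.leaf 7945707454497)) (.node (.leaf 3508988477447) (.leaf 5076675919907))) (.node (.node (.leaf 9028071653436) (.leaf 549779734557)) (.node (.leaf 1799614955544) (.leaf 206202404867)))) (.node (.node (.node (.leaf 5686590832644) (.leaf 8705916665881)) (.node (.leaf 3423133958153) (.leaf 3436018270263))) (.node (.node (.leaf 6824808415263) (.leaf 3186902630457)) (.node (.leaf 8409622380609) (.leaf 8306490081343))))) (.node (.node (.node (.node (.leaf 4952134516778) (.leaf 6476832112708)) (.node (.leaf 6893483720772) (.leaf 7486178918429))) (.node (.node (.leaf 7971464740923) (.leaf 1194009624628)) (.node (.leaf 8190548770822) (.leaf 5961416638476)))) (.node (.node (.node (.leaf 1494675750967) (.leaf 4548482629689)) (.node (.leaf 77329203242) (.leaf 7898464256016))) (.node (.node (.leaf 3113960013856) (.leaf 5282857615419)) (.node (.leaf 6494003789890) (.leaf 3217007378476)))))) (.node (.node (.node (.node (.node (.leaf 2680102715395) (.leaf 7786853367834)) (.node (.leaf 5759583322138) (.leaf 7778259697690))) (.node (.node (.leaf 4127527731217) (.leaf 5098262364192)) (.node (.leaf 365074317379) (.leaf 2486799040538)))) (.node (.node (.node (.leaf 4032988774439) (.leaf 588415631424)) (.node (.leaf 107374182401) (.leaf 1387362648066))) (.node (.node (.leaf 6859078631425) (.leaf 3917071646724)) (.node (.leaf 2126011498539) (.leaf 1859730472991))))) (.node (.node (.node (.node (.leaf 8783220506637) (.leaf 5415983185924)) (.node (.leaf 3959991435268) (.leaf 4767450923017))) (.node (.node (.leaf 2126099972107) (.leaf 7215563210760)) (.node (.leaf 6163309264936) (.leaf 4715906859048)))) (.node (.node (.node (.leaf 4226257321994) (.leaf 8774654689288)) (.node (.leaf 4226258173962) (.leaf 8572759048238))) (.node (.node (.leaf 4432522838019) (.leaf 575575556112)) (.node (.leaf 3294341234741) (.leaf 6554125926420)))))))) (.node (.node (.node (.node (.node (.node (.node (.leaf 167566704647) (.leaf 8065951989783)) (.node (.leaf 180423753749) (.leaf 4990824415257))) (.node (.node (.leaf 6872069898266) (.leaf 8332295405635)) (.node (.leaf 5364436303908) (.leaf 8066001928225)))) (.node (.node (.node (.leaf 6829120225310) (.leaf 4737370292230)) (.node (.leaf 4990818451516) (.leaf 8066020933670))) (.node (.node (.leaf 2632937898041) (.leaf 4625729191962)) (.node (.leaf 8272143712297) (.leaf 4625697603625))))) (.node (.node (.node (.node (.leaf 8065987051543) (.leaf 4625706450985)) (.node (.leaf 4990805344306) (.leaf 34365112369))) (.node (.node (.leaf 5905632460848) (.leaf 7086809088005)) (.node (.leaf 4067385737269) (.leaf 6988001509433)))) (.node (.node (.node (.leaf 7215572058121) (.leaf 5935662891042)) (.node (.leaf 5935681241122) (.leaf 6940781445152))) (.node (.node (.leaf 4990824349728) (.leaf 2525459709983)) (.node (.leaf 7146898718788) (.leaf 5102462828576)))))) (.node (.node (.node (.node (.node (.leaf 450997452841) (.leaf 914875547673)) (.node (.leaf 6781816406084) (.leaf 5364437483539))) (.node (.node (.leaf 6313630760997) (.leaf 1219842539550)) (.node (.leaf 1924157669412) (.leaf 4625706975258)))) (.node (.node (.node (.leaf 4080275947575) (.leaf 5604932714516)) (.node (.leaf 5300093779973) (.leaf 6940781051936))) (.node (.node (.leaf 3105360969761) (.leaf 7799662968865)) (.node (.leaf 8529859837981) (.leaf 1687958454278))))) (.node (.node (.node (.node (.leaf 1387401642014) (.leaf 3375959441434)) (.node (.leaf 2246282379303) (.leaf 3371554439232))) (.node (.node (.leaf 55834574849) (.leaf 2443838095361)) (.node (.leaf 8766058987529) (.leaf 7086798012419)))) (.node (.node (.node (.leaf 4149001977862) (.leaf 6829099974661)) (.node (.leaf 5420350701572) (.leaf 2010093387782))) (.node (.node (.leaf 37289989) (.leaf 30074732546)) (.node (.leaf 72482819) (.leaf 3298538422286))))))) (.node (.node (.node (.node (.node (.node (.leaf 2031521234955) (.leaf 4651451285519)) (.node (.leaf 1073756897292) (.leaf 3341545701380))) (.node (.node (.leaf 4784684335108) (.leaf 4651498274832)) (.node (.leaf 618610753555) (.leaf 37290018)))) (.node (.node (.node (.leaf 6214854311971) (.leaf 3473444)) (.node (.leaf 403838140449) (.leaf 37290017))) (.node (.node (.leaf 7271382253592) (.leaf 3473440)) (.node (.leaf 2628535648278) (.leaf 37290005))))) (.node (.node (.node (.node (.leaf 37290009) (.leaf 72482839)) (.node (.leaf 3500417417234) (.leaf 72482835))) (.node (.node (.leaf 72482844) (.leaf 8065950220317)) (.node (.leaf 3473439) (.leaf 3753837330437)))) (.node (.node (.node (.leaf 7271437959195) (.leaf 249140346885)) (.node (.leaf 72482874) (.leaf 72482875))) (.node (.node (.leaf 37290044) (.leaf 1206971531308)) (.node (.leaf 7507622035477) (.leaf 1627808399391)))))) (.node (.node (.node (.node (.node (.leaf 6837710356511) (.leaf 1627808989214)) (.node (.leaf 7645052141618) (.leaf 5441734443064))) (.node (.node (.leaf 37290046) (.leaf 8332362317828)) (.node (.leaf 4990753636392) (.leaf 72482858)))) (.node (.node (.node (.leaf 3960098848772) (.leaf 9045261221900)) (.node (.leaf 5102512242723) (.leaf 5102555103235))) (.node (.node (.leaf 3569254662174) (.leaf 8521243623446)) (.node (.leaf 6811892187152) (.leaf 6987935842307))))) (.node (.node (.node (.node (.leaf 72482866) (.leaf 4432467460122)) (.node (.leaf 1705126133798) (.leaf 8340867186740))) (.node (.node (.leaf 35520567) (.leaf 7237037785106)) (.node (.leaf 6867678003224) (.leaf 5398832414767)))) (.node (.node (.node (.leaf 3955694043203) (.leaf 786036817965)) (.node (.leaf 4522624221204) (.leaf 1348710367275))) (.node (.node (.leaf 3869780017191) (.leaf 150328967232)) (.node (.leaf 4294967297) (.leaf 2134598877185)))))))))))) (.node (.node (.node (.node (.node (.node (.node (.node (.node (.node (.node (.leaf 1864031338497) (.leaf 3569150394373)) (.node (.leaf 4432436985864) (.leaf 3100982509574))) (.node (.node (.leaf 8967926317065) (.leaf 3685112676359)) (.node (.leaf 3569148559364) (.leaf 5699431104514)))) (.node (.node (.node (.leaf 2126078345220) (.leaf 2010087030788)) (.node (.leaf 8031644614671) (.leaf 2031521366033))) (.node (.node (.leaf 6949292998669) (.leaf 21544370192)) (.node (.leaf 1073756569612) (.leaf 5665063239693))))) (.node (.node (.node (.node (.leaf 45219847) (.leaf 6064515842053)) (.node (.leaf 4432427155482) (.leaf 8340877213748))) (.node (.node (.leaf 3569251319838) (.leaf 3487541035032)) (.node (.leaf 56361002) (.leaf 4578448769048)))) (.node (.node (.node (.leaf 2383782740005) (.leaf 56361023)) (.node (.leaf 4990798069763) (.leaf 8066003173434))) (.node (.node (.leaf 3397416714271) (.leaf 6863368618025)) (.node (.leaf 56361010) (.leaf 7267121627160)))))) (.node (.node (.node (.node (.node (.leaf 3573458337811) (.leaf 5102524039171)) (.node (.leaf 2357985083397) (.leaf 451062857750))) (.node (.node (.leaf 56360993) (.leaf 249154109445)) (.node (.leaf 4990806589468) (.leaf 2628561469462)))) (.node (.node (.node (.leaf 3925647687688) (.leaf 2686986)) (.node (.leaf 184698404896) (.leaf 1786715308071))) (.node (.node (.leaf 9156902060049) (.leaf 56361022)) (.node (.leaf 3036562653189) (.leaf 6829023035410))))) (.node (.node (.node (.node (.leaf 4879153758232) (.leaf 7271417577475)) (.node (.leaf 56360990) (.leaf 56361007))) (.node (.node (.leaf 1834077847584) (.leaf 3749533188116)) (.node (.leaf 56360986) (.leaf 7271395164187)))) (.node (.node (.node (.leaf 8065993605123) (.leaf 1627835007006)) (.node (.leaf 56360985) (.leaf 3753855746053))) (.node (.node (.leaf 6120357429301) (.leaf 56361017)) (.node (.leaf 56361021) (.leaf 4990788501550))))))) (.node (.node (.node (.node (.node (.node (.leaf 8602892042296) (.leaf 2400908214293)) (.node (.leaf 8564207058974) (.leaf 4582734168125))) (.node (.node (.leaf 1151075090461) (.leaf 7834040401948)) (.node (.leaf 3255599693863) (.leaf 2353647190080)))) (.node (.node (.node (.leaf 3818225926145) (.leaf 906248454153)) (.node (.leaf 5544812478465) (.leaf 5347340320803))) (.node (.node (.leaf 7078207815699) (.leaf 863303368720)) (.node (.leaf 1932736135172) (.leaf 7258565836817))))) (.node (.node (.node (.node (.leaf 3225561464878) (.leaf 6360878678025)) (.node (.leaf 4999378698250) (.leaf 4432482861061))) (.node (.node (.leaf 5428855111729) (.leaf 5158258868240)) (.node (.leaf 8804774903813) (.leaf 64452493364)))) (.node (.node (.node (.leaf 6648681267240) (.leaf 5428921040899)) (.node (.leaf 6829039550467) (.leaf 3848340897824))) (.node (.node (.leaf 8658672877623) (.leaf 2190438039599)) (.node (.leaf 1421663141956) (.leaf 8126169874469)))))) (.node (.node (.node (.node (.node (.leaf 700087337000) (.leaf 8516954685468)) (.node (.leaf 4866210988081) (.leaf 7013690114097))) (.node (.node (.leaf 1821098442798) (.leaf 7606397501492)) (.node (.leaf 7086740537400) (.leaf 1017909870635)))) (.node (.node (.node (.leaf 7374465859639) (.leaf 2276348329987)) (.node (.leaf 8693049524235) (.leaf 5656599134273))) (.node (.node (.leaf 2168963858461) (.leaf 1181202186308)) (.node (.leaf 833285849098) (.leaf 4337924702249))))) (.node (.node (.node (.node (.leaf 2955031478276) (.leaf 5136877420576)) (.node (.leaf 5205511110714) (.leaf 1331540983834))) (.node (.node (.leaf 4990758354949) (.leaf 1499046936600)) (.node (.leaf 5201244651588) (.leaf 4166213763129)))) (.node (.node (.node (.leaf 8499745718300) (.leaf 5184044204044)) (.node (.leaf 7645062496259) (.leaf 4243428212789))) (.node (.node (.leaf 8637304012805) (.leaf 6326598369333)) (.node (.leaf 8160520044609) (.leaf 3848355643440)))))))) (.node (.node (.node (.node (.node (.node (.node (.leaf 6446822850565) (.leaf 2693014814725)) (.node (.leaf 962180743205) (.leaf 5149689315342))) (.node (.node (.leaf 2156082692147) (.leaf 2491184644122)) (.node (.leaf 7649472020506) (.leaf 2924891144228)))) (.node (.node (.node (.leaf 3504733028413) (.leaf 6498317762621)) (.node (.leaf 4355176071192) (.leaf 7211275059214))) (.node (.node (.leaf 1447512309765) (.leaf 1211235565609)) (.node (.leaf 5424546119740) (.leaf 6493994287151))))) (.node (.node (.node (.node (.leaf 3521887666215) (.leaf 3620662542400)) (.node (.leaf 1185410973697) (.leaf 824644075529))) (.node (.node (.leaf 3457448804354) (.leaf 56)) (.node (.leaf 6880540557347) (.leaf 8263533330472)))) (.node (.node (.node (.leaf 279259512836) (.leaf 7533380239374)) (.node (.leaf 674310782993) (.leaf 6850489286665))) (.node (.node (.leaf 2233459605518) (.leaf 1464605540383)) (.node (.leaf 670137974816) (.leaf 5128256946218)))))) (.node (.node (.node (.node (.node (.leaf 3139700850706) (.leaf 1451746000964)) (.node (.leaf 3182640037892) (.leaf 859094515777))) (.node (.node (.leaf 5867012161567) (.leaf 695848599569)) (.node (.leaf 6378070736922) (.leaf 871908769841)))) (.node (.node (.node (.leaf 2628576280617) (.leaf 1365834072093)) (.node (.leaf 3771019886601) (.leaf 7898543882275))) (.node (.node (.leaf 8791838425121) (.leaf 8332246253636)) (.node (.leaf 1846929260601) (.leaf 2345095790637))))) (.node (.node (.node (.node (.leaf 7761015275539) (.leaf 498221514761)) (.node (.leaf 2242043576380) (.leaf 2542636105752))) (.node (.node (.leaf 5635071279151) (.leaf 4123181449266)) (.node (.leaf 4947845578797) (.leaf 1073808605233)))) (.node (.node (.node (.leaf 2796033736742) (.leaf 128899612739)) (.node (.leaf 2108870950936) (.leaf 5901341622300))) (.node (.node (.leaf 8903484964924) (.leaf 1541939855405)) (.node (.leaf 60145532947) (.leaf 4106051780646))))))) (.node (.node (.node (.node (.node (.node (.leaf 2366574624824) (.leaf 4823253057547)) (.node (.leaf 1559084662845) (.leaf 8053079605288))) (.node (.node (.leaf 1580609699864) (.leaf 7507624919071)) (.node (.leaf 1374434951201) (.leaf 1941350907959)))) (.node (.node (.node (.leaf 9028080762943) (.leaf 5497613516828)) (.node (.leaf 1941332557856) (.leaf 9045265219590))) (.node (.node (.leaf 8319397920833) (.leaf 579917316153)) (.node (.leaf 1224073019408) (.leaf 4329391390768))))) (.node (.node (.node (.node (.leaf 1559114154012) (.leaf 8809057812550)) (.node (.leaf 8658730942467) (.leaf 2963592314885))) (.node (.node (.leaf 2147494854711) (.leaf 670062739503)) (.node (.leaf 3139683090438) (.leaf 7868503359507)))) (.node (.node (.node (.leaf 5896999600191) (.leaf 5231343173674)) (.node (.leaf 4703003672615) (.leaf 738739486784))) (.node (.node (.leaf 1627792605185) (.leaf 6841907544066)) (.node (.leaf 4651474944004) (.leaf 4651506925572)))))) (.node (.node (.node (.node (.node (.leaf 8757521285138) (.leaf 6829028081707)) (.node (.leaf 6867658604587) (.leaf 3470351269889))) (.node (.node (.leaf 7215569698834) (.leaf 6674383306767)) (.node (.leaf 3569200201793) (.leaf 6575640936481)))) (.node (.node (.node (.leaf 6575612297249) (.leaf 2482578522114)) (.node (.leaf 1833975283730) (.leaf 4630055682050))) (.node (.node (.leaf 137446948868) (.leaf 3165415145474)) (.node (.leaf 5166850637892) (.leaf 5166853390404))))) (.node (.node (.node (.node (.leaf 5102448869437) (.leaf 5385898950661)) (.node (.leaf 5385902227461) (.leaf 7537742315544))) (.node (.node (.leaf 837553160198) (.leaf 7537743101976)) (.node (.leaf 3569152229379) (.leaf 7726662680606)))) (.node (.node (.node (.leaf 5781055930373) (.leaf 2194845270081)) (.node (.leaf 1017950830595) (.leaf 1176920195104))) (.node (.node (.leaf 257698496553) (.leaf 3234193211460)) (.node (.leaf 8285123510276) (.leaf 8285014327300))))))))) (.node (.node (.node (.node (.node (.node (.node (.node (.leaf 6944998752261) (.leaf 5635054829598)) (.node (.leaf 2452435763248) (.leaf 579847061507))) (.node (.node (.leaf 1657872252985) (.leaf 7937138688068)) (.node (.leaf 7271495434259) (.leaf 7937137836100)))) (.node (.node (.node (.leaf 1176935268384) (.leaf 7091016630339)) (.node (.leaf 7241356279812) (.leaf 8869113233433))) (.node (.node (.leaf 6945025359877) (.leaf 4844772065293)) (.node (.leaf 2989315653698) (.leaf 7271408074802))))) (.node (.node (.node (.node (.leaf 6275007447046) (.leaf 5544891252769)) (.node (.leaf 4415320752161) (.leaf 2658712485920))) (.node (.node (.leaf 6987983224877) (.leaf 2688765198404)) (.node (.leaf 524051939349) (.leaf 1391579496499)))) (.node (.node (.node (.leaf 8869169332274) (.leaf 5102451359764)) (.node (.leaf 2688751304772) (.leaf 180405403682))) (.node (.node (.leaf 2491150565437) (.leaf 5781032206382)) (.node (.leaf 1017996247072) (.leaf 1782443606046)))))) (.node (.node (.node (.node (.node (.leaf 8388157243416) (.leaf 1597751361543)) (.node (.leaf 4934941212701) (.leaf 1035141054530))) (.node (.node (.leaf 2211922640935) (.leaf 1670747390016)) (.node (.leaf 472446402561) (.leaf 5609251930114)))) (.node (.node (.node (.leaf 3350099853316) (.leaf 3302838435855)) (.node (.leaf 5755272888351) (.leaf 8650129408004))) (.node (.node (.leaf 6390946791455) (.leaf 1855432425481)) (.node (.leaf 6390961602591) (.leaf 4964986322959))))) (.node (.node (.node (.node (.leaf 8362316726315) (.leaf 253480337419)) (.node (.leaf 588420481067) (.leaf 3904149979150))) (.node (.node (.leaf 7967205949473) (.leaf 2607128576012)) (.node (.leaf 6691590832134) (.leaf 528360341518)))) (.node (.node (.node (.leaf 2783151718434) (.leaf 5781083979825)) (.node (.leaf 6399573884933) (.leaf 6193447239694))) (.node (.node (.leaf 8809036513303) (.leaf 4990797479962)) (.node (.leaf 639983419441) (.leaf 1400164646916))))))) (.node (.node (.node (.node (.node (.node (.leaf 3569147969588) (.leaf 8809048768535)) (.node (.leaf 4990780440602) (.leaf 5939974635585))) (.node (.node (.leaf 5781068709937) (.leaf 884864843779)) (.node (.leaf 6223464366093) (.leaf 1400212422660)))) (.node (.node (.node (.leaf 2783188549666) (.leaf 5781052194865)) (.node (.leaf 5781041512494) (.leaf 8808992800791))) (.node (.node (.leaf 3792463134727) (.leaf 579893329961)) (.node (.leaf 605696622649) (.leaf 3569125818375))))) (.node (.node (.node (.node (.leaf 1709412253717) (.leaf 975033860115)) (.node (.leaf 5351627882565) (.leaf 1786714652717))) (.node (.node (.leaf 6829014450184) (.leaf 6262098034714)) (.node (.leaf 1988606361627) (.leaf 6713052495929)))) (.node (.node (.node (.leaf 4333642842170) (.leaf 3423097716752)) (.node (.leaf 7241343762436) (.leaf 3792470999047))) (.node (.node (.leaf 6987998363674) (.leaf 5166878621764)) (.node (.leaf 7726681554974) (.leaf 6197647310875)))))) (.node (.node (.node (.node (.node (.leaf 8065955725372) (.leaf 8066017853500)) (.node (.leaf 7645178691616) (.leaf 6262098165786))) (.node (.node (.leaf 223345049662) (.leaf 7271474397203)) (.node (.leaf 2954946019394) (.leaf 2688790691908)))) (.node (.node (.node (.leaf 1898433216538) (.leaf 3371641733139)) (.node (.leaf 313576587296) (.leaf 6880673792032))) (.node (.node (.leaf 7486165352515) (.leaf 7885583876124)) (.node (.leaf 3646441717799) (.leaf 4217662996544))))) (.node (.node (.node (.node (.leaf 2723009265665) (.leaf 5544818573314)) (.node (.leaf 2031521300495) (.leaf 5162555408402))) (.node (.node (.leaf 3332896325645) (.leaf 7048122269739)) (.node (.leaf 8787542147137) (.leaf 7241339240452)))) (.node (.node (.node (.leaf 7237058625554) (.leaf 9079578755085)) (.node (.leaf 6279262502977) (.leaf 3182580596738))) (.node (.node (.leaf 528319381518) (.leaf 3826854199302)) (.node (.leaf 3444576092162) (.leaf 2156154912772)))))))) (.node (.node (.node (.node (.node (.node (.node (.leaf 1833971744786) (.leaf 270602534923)) (.node (.leaf 1670792937524) (.leaf 7271451066389))) (.node (.node (.leaf 4939245224002) (.leaf 7271413579810)) (.node (.leaf 7889862459450) (.leaf 7486195564604)))) (.node (.node (.node (.leaf 2594169487413) (.leaf 4990773231654)) (.node (.leaf 7048046247978) (.leaf 7271428325397))) (.node (.node (.leaf 7889864949818) (.leaf 4221957832755)) (.node (.leaf 7486169284668) (.leaf 7271453884435))))) (.node (.node (.node (.node (.leaf 1666520711224) (.leaf 1670775373876)) (.node (.leaf 7271392280610) (.leaf 4221953966138))) (.node (.node (.leaf 7271389331492) (.leaf 7486159913020)) (.node (.leaf 7537693360152) (.leaf 5635095592990)))) (.node (.node (.node (.leaf 3234176499780) (.leaf 7726751744030)) (.node (.leaf 1400241061892) (.leaf 6829004619782))) (.node (.node (.leaf 579960504323) (.leaf 6987964809242)) (.node (.leaf 605610311737) (.leaf 6945048363013)))))) (.node (.node (.node (.node (.node (.leaf 8065958281264) (.leaf 2508268699694)) (.node (.leaf 1400260460548) (.leaf 3234168307780))) (.node (.node (.leaf 8285038968836) (.leaf 1670747455549)) (.node (.leaf 6399614910469) (.leaf 5102529413140)))) (.node (.node (.node (.leaf 7086754299934) (.leaf 5635128098846)) (.node (.leaf 1400277893124) (.leaf 7421720592398))) (.node (.node (.leaf 5781152530437) (.leaf 8285065641988)) (.node (.leaf 6094585331777) (.leaf 6945057079301))))) (.node (.node (.node (.node (.leaf 2173282091033) (.leaf 7215646965764)) (.node (.leaf 9212716449850) (.leaf 7275714838585))) (.node (.node (.leaf 4348182555) (.leaf 515438936098)) (.node (.leaf 4363726159890) (.leaf 206170947606)))) (.node (.node (.node (.leaf 193288011815) (.leaf 2375122026560)) (.node (.leaf 910533066753) (.leaf 6519776149506))) (.node (.node (.leaf 3332894621711) (.leaf 7391720898591)) (.node (.leaf 3466173677572) (.leaf 6279247822913))))))) (.node (.node (.node (.node (.node (.node (.leaf 5553408311314) (.leaf 7048046903307)) (.node (.leaf 7241408053252) (.leaf 3332901765133))) (.node (.node (.leaf 8598528983051) (.leaf 133146607628)) (.node (.leaf 1236954644482) (.leaf 2723026239495)))) (.node (.node (.node (.leaf 2559816368139) (.leaf 2723062677511)) (.node (.leaf 7967283216417) (.leaf 5347323412513))) (.node (.node (.leaf 7069535043635) (.leaf 7271411810340)) (.node (.leaf 5467504508989) (.leaf 7271394705427))))) (.node (.node (.node (.node (.leaf 1666496200760) (.leaf 6987971297301)) (.node (.leaf 7658006904885) (.leaf 7048111783978))) (.node (.node (.leaf 5467501559869) (.leaf 2594211692597)) (.node (.leaf 4939223597122) (.leaf 3959975575619)))) (.node (.node (.node (.leaf 7013743657005) (.leaf 2452508049461)) (.node (.leaf 5467512766525) (.leaf 7013718163501))) (.node (.node (.leaf 2594177024053) (.leaf 7048068595754)) (.node (.leaf 7658026106933) (.leaf 7069542776883)))))) (.node (.node (.node (.node (.node (.leaf 4990879596570) (.leaf 3049465511959)) (.node (.leaf 8066085224478) (.leaf 4256352043053))) (.node (.node (.leaf 5781152661509) (.leaf 4797489610761)) (.node (.leaf 4415229460513) (.leaf 6987918409784)))) (.node (.node (.node (.leaf 184728027186) (.leaf 7537667866651)) (.node (.leaf 5940023328833) (.leaf 2688650903620))) (.node (.node (.leaf 7537700896792) (.leaf 4990849056794)) (.node (.leaf 2658600878112) (.leaf 6614385098778))))) (.node (.node (.node (.node (.leaf 2173256531993) (.leaf 6262174973978)) (.node (.leaf 975013609491) (.leaf 4256360169517))) (.node (.node (.leaf 3234162868292) (.leaf 7726728478750)) (.node (.leaf 4990862557210) (.leaf 4200539947057)))) (.node (.node (.node (.leaf 2276377231398) (.leaf 5501872963630)) (.node (.leaf 6614363930650) (.leaf 2010059767814))) (.node (.node (.leaf 4131783376946) (.leaf 3689445523505)) (.node (.leaf 9002273931313) (.leaf 6700276252705)))))))))) (.node (.node (.node (.node (.node (.node (.node (.node (.node (.leaf 7782556762156) (.leaf 6996542816310)) (.node (.leaf 85913829415) (.leaf 2989302349888))) (.node (.node (.leaf 77309411329) (.leaf 8323779002371)) (.node (.leaf 2031544303620) (.leaf 8615781728261)))) (.node (.node (.node (.leaf 6360888115261) (.leaf 987855978547)) (.node (.leaf 8465451647006) (.leaf 8710270746646))) (.node (.node (.leaf 5063784792129) (.leaf 8946504499218)) (.node (.leaf 798914117649) (.leaf 4741737349150))))) (.node (.node (.node (.node (.leaf 193313505336) (.leaf 33357886)) (.node (.leaf 3814018842654) (.leaf 824760074259))) (.node (.node (.leaf 253489446931) (.leaf 541281484868)) (.node (.leaf 8242068062250) (.leaf 5987221176325)))) (.node (.node (.node (.leaf 3749519753219) (.leaf 352223559707)) (.node (.leaf 8663010115607) (.leaf 1868384632842))) (.node (.node (.leaf 5325834813497) (.leaf 7932851912729)) (.node (.leaf 4217665486868) (.leaf 34409283608)))))) (.node (.node (.node (.node (.node (.leaf 3474636734484) (.leaf 8383797461013)) (.node (.leaf 2366626856974) (.leaf 5802571923459))) (.node (.node (.leaf 73055928361) (.leaf 3607782883347)) (.node (.leaf 824650694697) (.leaf 9139749781508)))) (.node (.node (.node (.leaf 4947823558726) (.leaf 2096004792323)) (.node (.leaf 5433274073091) (.leaf 4814724595735))) (.node (.node (.leaf 399472721966) (.leaf 1743875866692)) (.node (.leaf 1808215703606) (.leaf 2723024666676))))) (.node (.node (.node (.node (.leaf 5583535210566) (.leaf 1159700938786)) (.node (.leaf 7237053513778) (.leaf 5312923959345))) (.node (.node (.leaf 7632234086471) (.leaf 8529857282071)) (.node (.leaf 1803931090952) (.leaf 6859096588330)))) (.node (.node (.node (.leaf 81611390992) (.leaf 2688687210537)) (.node (.leaf 2877653975043) (.leaf 3461762973728))) (.node (.node (.leaf 5901315145788) (.leaf 1494670901289)) (.node (.leaf 3483292991521) (.leaf 5768252620824))))))) (.node (.node (.node (.node (.node (.node (.leaf 1383042842648) (.leaf 5604997791749)) (.node (.leaf 6081792573464) (.leaf 4183422533635))) (.node (.node (.leaf 7554923823175) (.leaf 7181301121048)) (.node (.leaf 1344377061434) (.leaf 6322199068742)))) (.node (.node (.node (.leaf 6975075319846) (.leaf 979310346285)) (.node (.leaf 949215166482) (.leaf 2186248388651))) (.node (.node (.leaf 678619316263) (.leaf 785984127040)) (.node (.leaf 64424509441) (.leaf 4432408018948))))) (.node (.node (.node (.node (.leaf 3320024793102) (.leaf 1649306304553)) (.node (.leaf 300725174283) (.leaf 8783320973345))) (.node (.node (.leaf 1374415355949) (.leaf 3311487615010)) (.node (.leaf 6399558615063) (.leaf 1262762917920)))) (.node (.node (.node (.leaf 1043684720646) (.leaf 8186300727327)) (.node (.leaf 1941352153122) (.leaf 8495482994698))) (.node (.node (.leaf 2250566729787) (.leaf 6738806439951)) (.node (.leaf 1894148079642) (.leaf 3423156961343)))))) (.node (.node (.node (.node (.node (.leaf 4166128500752) (.leaf 137459597362)) (.node (.leaf 34451619893) (.leaf 7945786687512))) (.node (.node (.leaf 158944133143) (.leaf 8108922765359)) (.node (.leaf 34451619883) (.leaf 2856157642814)))) (.node (.node (.node (.leaf 3955776290828) (.leaf 7151144992791)) (.node (.leaf 6378054680617) (.leaf 3466069671969))) (.node (.node (.leaf 1322872864790) (.leaf 8796187459587)) (.node (.leaf 1748075348021) (.leaf 2714524975158))))) (.node (.node (.node (.node (.leaf 5540575969310) (.leaf 816080683041)) (.node (.leaf 7975777861673) (.leaf 4114602852355))) (.node (.node (.leaf 3350198222872) (.leaf 914872008707)) (.node (.leaf 6515492782090) (.leaf 2624273842183)))) (.node (.node (.node (.leaf 7322973962250) (.leaf 4277787951139)) (.node (.leaf 9156891508754) (.leaf 5175506305032))) (.node (.node (.leaf 5003638407225) (.leaf 8104616525871)) (.node (.leaf 3298608414754) (.leaf 2748834185265)))))))) (.node (.node (.node (.node (.node (.node (.node (.leaf 2486807756834) (.leaf 824658821150)) (.node (.leaf 2585645678616) (.leaf 4080252551212))) (.node (.node (.leaf 5343049089028) (.leaf 6545533435912)) (.node (.leaf 3556256186392) (.leaf 8117542780955)))) (.node (.node (.node (.leaf 365081395258) (.leaf 8723107938342)) (.node (.leaf 8736082034721) (.leaf 532605632536))) (.node (.node (.leaf 6356556972037) (.leaf 5033722118149)) (.node (.leaf 1301409497122) (.leaf 3414515253260))))) (.node (.node (.node (.node (.leaf 3856987586586) (.leaf 8491189010499)) (.node (.leaf 7000886280206) (.leaf 4428115345469))) (.node (.node (.leaf 3715208511518) (.leaf 5811143311402)) (.node (.leaf 652849512487) (.leaf 4587030184000)))) (.node (.node (.node (.leaf 12884901889) (.leaf 2126041251845)) (.node (.leaf 2010114097168) (.leaf 6335095177223))) (.node (.node (.leaf 8070299451433) (.leaf 1563485864004)) (.node (.leaf 2701596491817) (.leaf 3732385824802)))))) (.node (.node (.node (.node (.node (.leaf 6339419308100) (.leaf 6227740131358)) (.node (.leaf 6897792581651) (.leaf 7743832391715))) (.node (.node (.leaf 4943522955269) (.leaf 880473669664)) (.node (.leaf 2340798464033) (.leaf 3384487247877)))) (.node (.node (.node (.leaf 6330785071140) (.leaf 4986474266641)) (.node (.leaf 1864111554574) (.leaf 3388735291401))) (.node (.node (.leaf 4698765525026) (.leaf 3925710536723)) (.node (.leaf 6567010304053) (.leaf 1078086402089))))) (.node (.node (.node (.node (.leaf 7395940040769) (.leaf 2645751889975)) (.node (.leaf 2851880894535) (.leaf 3182634663999))) (.node (.node (.leaf 738778546244) (.leaf 4831896862767)) (.node (.leaf 2912067977286) (.leaf 790326607940)))) (.node (.node (.node (.leaf 7834037977156) (.leaf 4204789301293)) (.node (.leaf 2289242669101) (.leaf 377961840646))) (.node (.node (.leaf 3771024539693) (.leaf 8757490679876)) (.node (.leaf 4312193761285) (.leaf 2095999090729))))))) (.node (.node (.node (.node (.node (.node (.leaf 2740208271368) (.leaf 567004561442)) (.node (.leaf 1241314230327) (.leaf 2220504055817))) (.node (.node (.leaf 5355830116372) (.leaf 6232014913578)) (.node (.leaf 687291498499) (.leaf 8237874544666)))) (.node (.node (.node (.leaf 3650733735997) (.leaf 927823233081)) (.node (.leaf 1524754874403) (.leaf 365129564210))) (.node (.node (.leaf 3251392348174) (.leaf 936332754989)) (.node (.leaf 2375256965123) (.leaf 5931407376414))))) (.node (.node (.node (.node (.leaf 3234137899028) (.leaf 7159766188037)) (.node (.leaf 9109740912664) (.leaf 214866395155))) (.node (.node (.leaf 5184027951125) (.leaf 6159107227652)) (.node (.leaf 4501227372612) (.leaf 7559240810520)))) (.node (.node (.node (.leaf 1971410370621) (.leaf 3938579709987)) (.node (.leaf 2091670437908) (.leaf 1172528037955))) (.node (.node (.leaf 8126201331716) (.leaf 4277823733766)) (.node (.leaf 7065230704703) (.leaf 3199814598682)))))) (.node (.node (.node (.node (.node (.leaf 974972059687) (.leaf 1954215231552)) (.node (.leaf 2731599200257) (.leaf 2959236399106))) (.node (.node (.leaf 2521155502091) (.leaf 1679337717773)) (.node (.leaf 223344394251) (.leaf 2126012743691)))) (.node (.node (.node (.leaf 4247842193451) (.leaf 103096647691)) (.node (.leaf 167530397714) (.leaf 60143108114))) (.node (.node (.leaf 4432493674539) (.leaf 6902066249736)) (.node (.leaf 6880542654472) (.leaf 163227303945))))) (.node (.node (.node (.node (.leaf 7640766349322) (.leaf 3414534193192)) (.node (.leaf 3466046799882) (.leaf 8027341520904))) (.node (.node (.leaf 8066025783329) (.leaf 1327214493704)) (.node (.leaf 6871957176346) (.leaf 4737366294534)))) (.node (.node (.node (.leaf 7026617090073) (.leaf 9156960124972)) (.node (.leaf 4737380188166) (.leaf 6871978082330))) (.node (.node (.leaf 7645086482492) (.leaf 7271381532735)) (.node (.leaf 6781845110852) (.leaf 3101011279878))))))))) (.node (.node (.node (.node (.node (.node (.node (.node (.leaf 2495396773904) (.leaf 914834325545)) (.node (.leaf 3294252892213) (.leaf 5003653677061))) (.node (.node (.leaf 5682274500629) (.leaf 4080301178915)) (.node (.leaf 5682272665621) (.leaf 5682293178402)))) (.node (.node (.node (.leaf 180410515477) (.leaf 914856476713)) (.node (.leaf 2495388254224) (.leaf 6725941723180))) (.node (.node (.leaf 2495402016784) (.leaf 7507693731859)) (.node (.leaf 6519797907479) (.leaf 8156145909764))))) (.node (.node (.node (.node (.leaf 4080300064803) (.leaf 5364461338643)) (.node (.leaf 803216228390) (.leaf 7288611799099))) (.node (.node (.leaf 1327196995592) (.leaf 7645053583420)) (.node (.leaf 7271405191231) (.leaf 5300008583173)))) (.node (.node (.node (.leaf 6777477922850) (.leaf 1627850276916)) (.node (.leaf 8065961033775) (.leaf 6781842358340))) (.node (.node (.leaf 4080240951331) (.leaf 6781886529604)) (.node (.leaf 8066079784993) (.leaf 3100969402374)))))) (.node (.node (.node (.node (.node (.leaf 5703730855949) (.leaf 5300058980362)) (.node (.leaf 1627864367107) (.leaf 4432462086200))) (.node (.node (.leaf 4131837313050) (.leaf 1322971365406)) (.node (.leaf 6227709657147) (.leaf 7572050870279)))) (.node (.node (.node (.leaf 755934691358) (.leaf 3285753790490)) (.node (.leaf 2525455253543) (.leaf 2091654185024))) (.node (.node (.leaf 768799145985) (.leaf 4548426596356)) (.node (.leaf 1043698221068) (.leaf 4879144189976))))) (.node (.node (.node (.node (.leaf 5338704379937) (.leaf 6678806200323)) (.node (.leaf 4479661441048) (.leaf 3182594555934))) (.node (.node (.leaf 3663655010311) (.leaf 8590002094122)) (.node (.leaf 6416698441783) (.leaf 4741749211141)))) (.node (.node (.node (.leaf 1112406687769) (.leaf 60130590766)) (.node (.leaf 4479692636205) (.leaf 1687947313187))) (.node (.node (.leaf 2675785400371) (.leaf 7481851838475)) (.node (.leaf 4028806266884) (.leaf 2078796218384))))))) (.node (.node (.node (.node (.node (.node (.leaf 5957136023607) (.leaf 6781759127617)) (.node (.leaf 2005816377385) (.leaf 3311489515583))) (.node (.node (.leaf 4376579276845) (.leaf 1675050287151)) (.node (.leaf 906300555270) (.leaf 1005076348958)))) (.node (.node (.node (.leaf 7941456986129) (.leaf 6416691494964)) (.node (.leaf 5845472182333) (.leaf 4913567629344))) (.node (.node (.leaf 1099534434359) (.leaf 6738855526465)) (.node (.leaf 3032256348186) (.leaf 5738113466393))))) (.node (.node (.node (.node (.leaf 6768905289747) (.leaf 3092456669203)) (.node (.leaf 343619862538) (.leaf 3182583808005))) (.node (.node (.leaf 4535519150084) (.leaf 2108912304154)) (.node (.leaf 5939953532939) (.leaf 4857658408964)))) (.node (.node (.node (.leaf 506848935959) (.leaf 3594934222907)) (.node (.leaf 9002340909113) (.leaf 5119624413207))) (.node (.node (.leaf 5398801088545) (.leaf 2976426491929)) (.node (.leaf 5458952323137) (.leaf 8126126293051)))))) (.node (.node (.node (.node (.node (.leaf 2053027332121) (.leaf 1816823267347)) (.node (.leaf 6519794434089) (.leaf 4226314666036))) (.node (.node (.leaf 2314989469704) (.leaf 5149683286043)) (.node (.leaf 5789699014680) (.leaf 5476121509930)))) (.node (.node (.node (.leaf 236256624687) (.leaf 3745300348948)) (.node (.leaf 167563493381) (.leaf 5854175559748))) (.node (.node (.leaf 4286446698501) (.leaf 781712162864)) (.node (.leaf 7769624805442) (.leaf 201952526366))))) (.node (.node (.node (.node (.leaf 8439747313697) (.leaf 6077507698720)) (.node (.leaf 4612812636199) (.leaf 8332264603695))) (.node (.node (.leaf 1022216699943) (.leaf 721559617600)) (.node (.leaf 3788161155073) (.leaf 3685149573126)))) (.node (.node (.node (.leaf 3706575388673) (.leaf 3569152491553)) (.node (.leaf 5201239212058) (.leaf 6601422798908))) (.node (.node (.leaf 1095272366084) (.leaf 7297204092931)) (.node (.leaf 5003649613858) (.leaf 1834018799623)))))))) (.node (.node (.node (.node (.node (.node (.node (.leaf 7799684136968) (.leaf 2126055931911)) (.node (.leaf 425230467120) (.leaf 5398817079333))) (.node (.node (.leaf 897670578217) (.leaf 8886357983266)) (.node (.leaf 2693082185747) (.leaf 1640691597317)))) (.node (.node (.node (.leaf 3685129060361) (.leaf 94490656812)) (.node (.leaf 919142400022) (.leaf 4728833507348))) (.node (.node (.leaf 4741728698398) (.leaf 2959335948314)) (.node (.leaf 3504741285909) (.leaf 5811174047766))))) (.node (.node (.node (.node (.leaf 700109029417) (.leaf 592825614340)) (.node (.leaf 5583463317523) (.leaf 3861198143519))) (.node (.node (.leaf 2654355783687) (.leaf 1365884600331)) (.node (.leaf 8091815378970) (.leaf 6197676933180)))) (.node (.node (.node (.leaf 6373791170628) (.leaf 1486072447019)) (.node (.leaf 1855442321471) (.leaf 2095951183917))) (.node (.node (.leaf 618589388824) (.leaf 1786743685179)) (.node (.leaf 1778139463694) (.leaf 2177605304369)))))) (.node (.node (.node (.node (.node (.leaf 459692572691) (.leaf 2065883332646)) (.node (.leaf 7683700228126) (.leaf 717292109893))) (.node (.node (.leaf 455391248403) (.leaf 5540571906115)) (.node (.leaf 4299323473967) (.leaf 7086825340952)))) (.node (.node (.node (.leaf 197620203539) (.leaf 1438856577072)) (.node (.leaf 8207703277613) (.leaf 6713084149785))) (.node (.node (.leaf 2877653450805) (.leaf 7030910550026)) (.node (.leaf 6781779116093) (.leaf 7271443398717))))) (.node (.node (.node (.node (.leaf 4002927870008) (.leaf 2718736318502)) (.node (.leaf 3440289710135) (.leaf 2491210989600))) (.node (.node (.leaf 8164753539094) (.leaf 214758522907)) (.node (.leaf 6193420369991) (.leaf 55897358342)))) (.node (.node (.node (.leaf 3856887250994) (.leaf 614216630301)) (.node (.leaf 4299281530897) (.leaf 1907008340002))) (.node (.node (.leaf 9221396365356) (.leaf 4634311131158)) (.node (.leaf 3912729690151) (.leaf 3457453785152))))))) (.node (.node (.node (.node (.node (.node (.leaf 1086626725889) (.leaf 7086828421125)) (.node (.leaf 21502689284) (.leaf 3573480751123))) (.node (.node (.leaf 4913480335409) (.leaf 1649332191269)) (.node (.leaf 8465384144948) (.leaf 5557816262682)))) (.node (.node (.node (.leaf 579862921266) (.leaf 1683722076225)) (.node (.leaf 4449655062544) (.leaf 1237012381730))) (.node (.node (.leaf 2448134111297) (.leaf 588494471205)) (.node (.leaf 2177644888101) (.leaf 3367267401780))))) (.node (.node (.node (.node (.leaf 5514769793087) (.leaf 2233453051959)) (.node (.leaf 3448864374816) (.leaf 7048076525621))) (.node (.node (.leaf 3749510578201) (.leaf 416738115617)) (.node (.leaf 7838362894341) (.leaf 7700979580947)))) (.node (.node (.node (.leaf 8800463355936) (.leaf 541264576566)) (.node (.leaf 4269212368913) (.leaf 2053014159377))) (.node (.node (.leaf 837546606614) (.leaf 21502165006)) (.node (.leaf 7541964734511) (.leaf 8912130605062)))))) (.node (.node (.node (.node (.node (.leaf 4647155269673) (.leaf 7563457003583)) (.node (.leaf 4539806384140) (.leaf 3968651558931))) (.node (.node (.leaf 5781046231060) (.leaf 2095948169260)) (.node (.leaf 5433223872545) (.leaf 8010232627230)))) (.node (.node (.node (.leaf 3393103527948) (.leaf 3285722398757)) (.node (.leaf 2641415307311) (.leaf 343658135569))) (.node (.node (.leaf 6532720361502) (.leaf 6030266662945)) (.node (.leaf 4724503805966) (.leaf 5081000247353))))) (.node (.node (.node (.node (.leaf 6197653340203) (.leaf 5269985230865)) (.node (.leaf 3448879775760) (.leaf 2886277529642))) (.node (.node (.leaf 6609989206040) (.leaf 6249216606246)) (.node (.leaf 2877636476983) (.leaf 4707301392424)))) (.node (.node (.node (.leaf 7292899360792) (.leaf 816069476389)) (.node (.leaf 3655058718742) (.leaf 5892736155698))) (.node (.node (.leaf 3272770060323) (.leaf 9075282346049)) (.node (.leaf 167510212629) (.leaf 4183388389433))))))))))) (.node (.node (.node (.node (.node (.node (.node (.node (.node (.node (.leaf 2048710344768) (.leaf 2551254089749)) (.node (.leaf 6554145390616) (.leaf 910580776989))) (.node (.node (.leaf 6764642435106) (.leaf 8899299508257)) (.node (.leaf 12908560404) (.leaf 5587779125302)))) (.node (.node (.node (.leaf 906252582951) (.leaf 3423094046784)) (.node (.leaf 1636382539777) (.leaf 2126008811527))) (.node (.node (.leaf 2040111235089) (.leaf 579896279066)) (.node (.leaf 8830504075294) (.leaf 8164754456609))))) (.node (.node (.node (.node (.leaf 5231333408810) (.leaf 2413868220427)) (.node (.leaf 3814003179583) (.leaf 8516964319264))) (.node (.node (.leaf 6442522181655) (.leaf 2688679215164)) (.node (.leaf 1610623156249) (.leaf 5647935275015)))) (.node (.node (.node (.leaf 5832603729987) (.leaf 3070928617476)) (.node (.leaf 446731386931) (.leaf 6502624133153))) (.node (.node (.leaf 3500411715587) (.leaf 6798947975220)) (.node (.leaf 4853409054744) (.leaf 1133952565251)))))) (.node (.node (.node (.node (.node (.leaf 506842251316) (.leaf 2349352026134)) (.node (.leaf 2787508420673) (.leaf 7670897508378))) (.node (.node (.leaf 5729579958326) (.leaf 953523765271)) (.node (.leaf 3229863575597) (.leaf 7675148435519)))) (.node (.node (.node (.leaf 7091006341164) (.leaf 4672939884593)) (.node (.leaf 6124647022597) (.leaf 8358100009028))) (.node (.node (.leaf 3135399919633) (.leaf 7022281162786)) (.node (.leaf 1000797044777) (.leaf 1529142050848))))) (.node (.node (.node (.node (.leaf 2920630255672) (.leaf 231998226473)) (.node (.leaf 4565588836367) (.leaf 2654342348804))) (.node (.node (.leaf 7507639337020) (.leaf 8156168323078)) (.node (.leaf 3972857069627) (.leaf 3148316475410)))) (.node (.node (.node (.leaf 7168372834321) (.leaf 7782496534599)) (.node (.leaf 657169711138) (.leaf 3899880570910))) (.node (.node (.leaf 6116047978521) (.leaf 7065269436453)) (.node (.leaf 3186906169349) (.leaf 6167645061125))))))) (.node (.node (.node (.node (.node (.node (.leaf 5016569446405) (.leaf 128882638909)) (.node (.leaf 455309721605) (.leaf 2697246933006))) (.node (.node (.leaf 7219877642298) (.leaf 214868099096)) (.node (.leaf 2473991077956) (.leaf 9156958027790)))) (.node (.node (.node (.leaf 824657379390) (.leaf 7271421313076)) (.node (.leaf 1477591957507) (.leaf 6764662358035))) (.node (.node (.leaf 171855970321) (.leaf 1778193399878)) (.node (.leaf 4990785749008) (.leaf 1288544976937))))) (.node (.node (.node (.node (.leaf 4187702820894) (.leaf 4574151639104)) (.node (.leaf 515410559015) (.leaf 2753079148608))) (.node (.node (.leaf 481036337153) (.leaf 2126041251843)) (.node (.leaf 786116247556) (.leaf 244911964182)))) (.node (.node (.node (.leaf 8907817091122) (.leaf 6120364245044)) (.node (.leaf 6936389615663) (.leaf 4771721248798))) (.node (.node (.leaf 4896389529665) (.leaf 7748124868646)) (.node (.leaf 7142612271130) (.leaf 1554844418093)))))) (.node (.node (.node (.node (.node (.leaf 2718796283930) (.leaf 9075336740914)) (.node (.leaf 6605678903343) (.leaf 4363695030275))) (.node (.node (.leaf 1129637085244) (.leaf 2817546977305)) (.node (.leaf 3500426199063) (.leaf 4269243695130)))) (.node (.node (.node (.leaf 2113149009953) (.leaf 5532050849816)) (.node (.leaf 7408875929636) (.leaf 5793963048985))) (.node (.node (.leaf 8259230695448) (.leaf 3878359531584)) (.node (.leaf 807535247386) (.leaf 5093838618654))))) (.node (.node (.node (.node (.leaf 8813360775173) (.leaf 1211196047387)) (.node (.leaf 3350155886622) (.leaf 4849135648801))) (.node (.node (.leaf 3088142172216) (.leaf 279247912982)) (.node (.leaf 3740960292880) (.leaf 8078905573429)))) (.node (.node (.node (.leaf 7262825021469) (.leaf 4136094400564)) (.node (.leaf 4307857899540) (.leaf 1915558428739))) (.node (.node (.leaf 790301507593) (.leaf 6743195058230)) (.node (.leaf 1571994206262) (.leaf 7030875029535)))))))) (.node (.node (.node (.node (.node (.node (.node (.leaf 9131152113723) (.leaf 3268498292740)) (.node (.leaf 687277342785) (.leaf 1769526788138))) (.node (.node (.leaf 2422396747804) (.leaf 5063818215455)) (.node (.leaf 395141578776) (.leaf 824680644646)))) (.node (.node (.node (.leaf 7305793896469) (.leaf 4350915772449)) (.node (.leaf 2375225180179) (.leaf 3474651873303))) (.node (.node (.leaf 9010866094118) (.leaf 1112477270021)) (.node (.leaf 4505501958179) (.leaf 6889174204483))))) (.node (.node (.node (.node (.leaf 6725969379338) (.leaf 3208480423941)) (.node (.leaf 167510212661) (.leaf 8169080619033))) (.node (.node (.leaf 7563541544965) (.leaf 3590601375763)) (.node (.leaf 2937788563488) (.leaf 4634271088679)))) (.node (.node (.node (.leaf 3736653267002) (.leaf 9058165456915)) (.node (.leaf 8340865286204) (.leaf 2555553054746))) (.node (.node (.leaf 2830397931559) (.leaf 4866203058240)) (.node (.leaf 532575944705) (.leaf 3569148493830)))))) (.node (.node (.node (.node (.node (.leaf 30097211408) (.leaf 7507629834261)) (.node (.leaf 5398780706863) (.leaf 1580656427061))) (.node (.node (.leaf 6829095125046) (.leaf 1172618280974)) (.node (.leaf 1404518334519) (.leaf 8036007673887)))) (.node (.node (.node (.leaf 51543539754) (.leaf 4127463833645)) (.node (.leaf 6717362274370) (.leaf 5957180653610))) (.node (.node (.leaf 8362316398651) (.leaf 5665107869748)) (.node (.leaf 2508322766909) (.leaf 9156870406209))))) (.node (.node (.node (.node (.leaf 2439603027971) (.leaf 30114381860)) (.node (.leaf 2662937591835) (.leaf 5909934505988))) (.node (.node (.leaf 1047989321781) (.leaf 3414542974995)) (.node (.leaf 4647230701590) (.leaf 4337957797892)))) (.node (.node (.node (.leaf 781685096498) (.leaf 4831877005362)) (.node (.leaf 5291474878535) (.leaf 588495978533))) (.node (.node (.leaf 3191215882278) (.leaf 1683753664545)) (.node (.leaf 2194733596703) (.leaf 6098886393860))))))) (.node (.node (.node (.node (.node (.node (.leaf 8693045592090) (.leaf 3122445746233)) (.node (.leaf 7705187385390) (.leaf 6605668876339))) (.node (.node (.leaf 1052381806597) (.leaf 6545641701406)) (.node (.leaf 2559843041316) (.leaf 3277129056262)))) (.node (.node (.node (.leaf 2164677214248) (.leaf 60129804338)) (.node (.leaf 6386718670859) (.leaf 7013713313822))) (.node (.node (.leaf 4887692771352) (.leaf 807553859638)) (.node (.leaf 330729717787) (.leaf 3496119435321))))) (.node (.node (.node (.node (.leaf 3801073975362) (.leaf 309244067860)) (.node (.leaf 8151848976421) (.leaf 2280650768425))) (.node (.node (.leaf 1636413866031) (.leaf 4011572985908)) (.node (.leaf 4101714673699) (.leaf 7563516182596)))) (.node (.node (.node (.leaf 6287847784497) (.leaf 1511905296428)) (.node (.leaf 9247136481341) (.leaf 7602173444115))) (.node (.node (.leaf 1168299327505) (.leaf 5531922661408)) (.node (.leaf 4234853482567) (.leaf 996533862435)))))) (.node (.node (.node (.node (.node (.leaf 502586671175) (.leaf 4758886809616)) (.node (.leaf 9156897341508) (.leaf 7387357249555))) (.node (.node (.leaf 7761013571623) (.leaf 3350158508075)) (.node (.leaf 3238419824679) (.leaf 197573607488)))) (.node (.node (.node (.leaf 730144440321) (.leaf 4432473882634)) (.node (.leaf 6176196657167) (.leaf 57))) (.node (.node (.leaf 4595627393031) (.leaf 8285113221139)) (.node (.leaf 6983681835063) (.leaf 4376576786489))))) (.node (.node (.node (.node (.leaf 6442456317967) (.leaf 3526213763115)) (.node (.leaf 6451086557207) (.leaf 4522646700066))) (.node (.node (.leaf 3268522213410) (.leaf 6262074376210)) (.node (.leaf 7108270686240) (.leaf 2482501451827)))) (.node (.node (.node (.leaf 2113156153354) (.leaf 515453091889)) (.node (.leaf 167513227314) (.leaf 3204125556790))) (.node (.node (.leaf 2753147764762) (.leaf 34374483976)) (.node (.leaf 571264663610) (.leaf 4960750075911))))))))) (.node (.node (.node (.node (.node (.node (.node (.node (.leaf 5454723481668) (.leaf 6433868611608)) (.node (.leaf 5080989237258) (.leaf 1202672697401))) (.node (.node (.leaf 3577843417120) (.leaf 6283569922075)) (.node (.leaf 4922088947767) (.leaf 5248548995090)))) (.node (.node (.node (.leaf 5300026540050) (.leaf 283506769924)) (.node (.leaf 8997988728900) (.leaf 6214829932547))) (.node (.node (.leaf 4256328319035) (.leaf 1035153506338)) (.node (.leaf 7773983670325) (.leaf 146036817959))))) (.node (.node (.node (.node (.leaf 493940310025) (.leaf 4522621992995)) (.node (.leaf 6356556251168) (.leaf 378058244122))) (.node (.node (.leaf 6309331992583) (.leaf 2886323011614)) (.node (.leaf 5325795229748) (.leaf 7172633264169)))) (.node (.node (.node (.leaf 1670800539703) (.leaf 5815400988713)) (.node (.leaf 6133311012921) (.leaf 4144691871804))) (.node (.node (.leaf 5184054231108) (.leaf 6120353169462)) (.node (.leaf 9229913620549) (.leaf 8173385154607)))))) (.node (.node (.node (.node (.node (.leaf 8525524828228) (.leaf 6459664433184)) (.node (.leaf 7048073707548) (.leaf 6408154513455))) (.node (.node (.leaf 1962812309548) (.leaf 8461089964052)) (.node (.leaf 5673670934584) (.leaf 5291434180671)))) (.node (.node (.node (.leaf 4758852337730) (.leaf 3195482734609)) (.node (.leaf 1559135846449) (.leaf 4050184110132))) (.node (.node (.leaf 5282912600129) (.leaf 6086017941537)) (.node (.leaf 2680071913490) (.leaf 8194823880758))))) (.node (.node (.node (.node (.leaf 3513297731623) (.leaf 1666452422720)) (.node (.leaf 1262720385025) (.leaf 996441325574))) (.node (.node (.leaf 4651505811472) (.leaf 1017983008822)) (.node (.leaf 2770299387916) (.leaf 1649269342253)))) (.node (.node (.node (.leaf 6927800795165) (.leaf 223341707286)) (.node (.leaf 6837676474380) (.leaf 8194830958644))) (.node (.node (.leaf 687257419784) (.leaf 1679434448907)) (.node (.leaf 880477732889) (.leaf 541175709758))))))) (.node (.node (.node (.node (.node (.node (.leaf 2177644298258) (.leaf 2723043082286)) (.node (.leaf 459621793809) (.leaf 4771771777092))) (.node (.node (.leaf 5342983356448) (.leaf 7116816384053)) (.node (.leaf 2156195348512) (.leaf 416714981406)))) (.node (.node (.node (.leaf 2594171060291) (.leaf 6979329130552)) (.node (.leaf 8289338982456) (.leaf 6051620519942))) (.node (.node (.leaf 7950053670968) (.leaf 2156087738416)) (.node (.leaf 1477491687479) (.leaf 798935810071))))) (.node (.node (.node (.node (.leaf 5287173947444) (.leaf 3646524751903)) (.node (.leaf 73072115744) (.leaf 7898485620805))) (.node (.node (.leaf 2297844793398) (.leaf 356524425250)) (.node (.leaf 7782495158288) (.leaf 8736008503326)))) (.node (.node (.node (.leaf 2851942236163) (.leaf 4849031512109)) (.node (.leaf 3728135356447) (.leaf 5635019898925))) (.node (.node (.leaf 1662186815516) (.leaf 5944283824161)) (.node (.leaf 1636438179887) (.leaf 5458904219704)))))) (.node (.node (.node (.node (.node (.leaf 85981724676) (.leaf 7370284531716)) (.node (.leaf 1988632576060) (.leaf 6713092603929))) (.node (.node (.leaf 4333680001050) (.leaf 5708037881906)) (.node (.leaf 8572775694344) (.leaf 7997320593438)))) (.node (.node (.node (.leaf 8856238096406) (.leaf 6356569554965)) (.node (.leaf 6442485743639) (.leaf 6884928585733))) (.node (.node (.leaf 5471804457008) (.leaf 6408140226584)) (.node (.leaf 5562122305540) (.leaf 4080220504083))))) (.node (.node (.node (.node (.leaf 6223444705308) (.leaf 5725222731841)) (.node (.leaf 2564171038791) (.leaf 2065922523174))) (.node (.node (.leaf 3229915021345) (.leaf 5832574763022)) (.node (.leaf 8757453979683) (.leaf 5944282841120)))) (.node (.node (.node (.leaf 3058143920158) (.leaf 6485413789724)) (.node (.leaf 3775290736679) (.leaf 4050159272000))) (.node (.node (.leaf 944892805121) (.leaf 5420364267525)) (.node (.leaf 4784689709060) (.leaf 58)))))))) (.node (.node (.node (.node (.node (.node (.node (.leaf 6124645056539) (.leaf 2104576442413)) (.node (.leaf 4582742818877) (.leaf 3453174349854))) (.node (.node (.leaf 6653034889246) (.leaf 4226308177962)) (.node (.leaf 816085073951) (.leaf 4355133341702)))) (.node (.node (.node (.leaf 6244944445500) (.leaf 2839040229421)) (.node (.leaf 2018750496798) (.leaf 6468308172819))) (.node (.node (.leaf 360798486564) (.leaf 5196936642601)) (.node (.leaf 2439566196759) (.leaf 2392326602773))))) (.node (.node (.node (.node (.leaf 4127485853714) (.leaf 6339374153759)) (.node (.leaf 8860543877156) (.leaf 8448266534959))) (.node (.node (.leaf 919148167191) (.leaf 6047315984431)) (.node (.leaf 5437461954595) (.leaf 4801795784728)))) (.node (.node (.node (.leaf 1662190485546) (.leaf 541217849367)) (.node (.leaf 472481792037) (.leaf 8817676386318))) (.node (.node (.leaf 4325113987103) (.leaf 4329333850180)) (.node (.leaf 5892772528140) (.leaf 5355898929187)))))) (.node (.node (.node (.node (.node (.leaf 2753075675164) (.leaf 7370217160742)) (.node (.leaf 8138971545653) (.leaf 2345103458327))) (.node (.node (.leaf 4337935777852) (.leaf 6232008687663)) (.node (.leaf 5639309099021) (.leaf 8967917207601)))) (.node (.node (.node (.leaf 90214694929) (.leaf 4634343243836)) (.node (.leaf 7370273128474) (.leaf 3320057430076))) (.node (.node (.leaf 1696522960911) (.leaf 6021594677295)) (.node (.leaf 5643628838972) (.leaf 4565626978322))))) (.node (.node (.node (.node (.leaf 6743172710426) (.leaf 3496153645081)) (.node (.leaf 1915591000106) (.leaf 1550592573473))) (.node (.node (.leaf 7602165252100) (.leaf 4492575113244)) (.node (.leaf 5368793727019) (.leaf 4488248688700)))) (.node (.node (.node (.leaf 1614963277831) (.leaf 1992866201636)) (.node (.leaf 3440340631560) (.leaf 6034497994815))) (.node (.node (.leaf 4436706787354) (.leaf 5106771689505)) (.node (.leaf 3100972482624) (.leaf 2568409645075))))))) (.node (.node (.node (.node (.node (.node (.leaf 4926343741477) (.leaf 7069536550931)) (.node (.leaf 146035048518) (.leaf 3294281334806))) (.node (.node (.leaf 3500412829735) (.leaf 3341489668160)) (.node (.leaf 1142461300737) (.leaf 4432460709896)))) (.node (.node (.node (.leaf 8001578205199) (.leaf 59)) (.node (.leaf 4269233668134) (.leaf 55898669105))) (.node (.node (.leaf 777427615754) (.leaf 257727332373)) (.node (.leaf 2877665837065) (.leaf 1151083347999))))) (.node (.node (.node (.node (.leaf 966383435814) (.leaf 51584237575)) (.node (.leaf 5669370134596) (.leaf 9109661417529))) (.node (.node (.leaf 7894217326655) (.leaf 5446059556895)) (.node (.leaf 1013674016776) (.leaf 2723104686110)))) (.node (.node (.node (.leaf 9002309386267) (.leaf 6536976859162)) (.node (.leaf 146042191913) (.leaf 614250905621))) (.node (.node (.leaf 2989300318264) (.leaf 154630881337)) (.node (.leaf 6365172269089) (.leaf 8869158453283)))))) (.node (.node (.node (.node (.node (.leaf 4625690460185) (.leaf 2010116849720)) (.node (.leaf 8864929153056) (.leaf 4625707171899))) (.node (.node (.leaf 1219795812375) (.leaf 390913064964)) (.node (.leaf 2053010292765) (.leaf 283471380546)))) (.node (.node (.node (.leaf 8590004256785) (.leaf 6214824820768)) (.node (.leaf 3771022704663) (.leaf 6803309264915))) (.node (.node (.leaf 4243475922974) (.leaf 8065954480198)) (.node (.leaf 979271221272) (.leaf 4668651733053))))) (.node (.node (.node (.node (.leaf 8293593514017) (.leaf 7640852660229)) (.node (.leaf 6906314817577) (.leaf 5149707862065))) (.node (.node (.leaf 6094597718072) (.leaf 6674407817222)) (.node (.leaf 3650727247897) (.leaf 2362340409381)))) (.node (.node (.node (.leaf 6910643404805) (.leaf 4720198352933)) (.node (.leaf 3006500372510) (.leaf 6120359591939))) (.node (.node (.leaf 2078853955628) (.leaf 6223419473962)) (.node (.leaf 4737372192794) (.leaf 811802492933)))))))))) (.node (.node (.node (.node (.node (.node (.node (.node (.node (.leaf 4097451032604) (.leaf 4187642593285)) (.node (.leaf 3526187876399) (.leaf 2963572260899))) (.node (.node (.leaf 2237731176516) (.leaf 4166191808520)) (.node (.leaf 6446767276093) (.leaf 6867715620905)))) (.node (.node (.node (.leaf 7640781815838) (.leaf 7486154276894)) (.node (.leaf 1739478728714) (.leaf 4892033417249))) (.node (.node (.leaf 4337940627476) (.leaf 4183305748502)) (.node (.leaf 3212650020903) (.leaf 279177986112))))) (.node (.node (.node (.node (.leaf 399431958529) (.leaf 5755258863625)) (.node (.leaf 3341516996625) (.leaf 2465316339747))) (.node (.node (.leaf 8469678194694) (.leaf 7043835166734)) (.node (.leaf 7572080623668) (.leaf 7146889281604)))) (.node (.node (.node (.leaf 8143289647112) (.leaf 2087386742803)) (.node (.leaf 7043747151888) (.leaf 167548354564))) (.node (.node (.leaf 6584251777032) (.leaf 8774631555077)) (.node (.leaf 6442486857741) (.leaf 7408923377668)))))) (.node (.node (.node (.node (.node (.leaf 4763171225634) (.leaf 8680189394982)) (.node (.leaf 1786730577949) (.leaf 6279343570963))) (.node (.node (.leaf 7803962458180) (.leaf 180424015923)) (.node (.leaf 3856950362128) (.leaf 3959962533956)))) (.node (.node (.node (.leaf 3307197366333) (.leaf 3285705162778)) (.node (.leaf 1898383802434) (.leaf 180429717535))) (.node (.node (.leaf 3723755782192) (.leaf 6171919843364)) (.node (.leaf 5433193398339) (.leaf 7507643924507))))) (.node (.node (.node (.node (.leaf 94538563616) (.leaf 2967892066337)) (.node (.leaf 5068143853594) (.leaf 6322205622325))) (.node (.node (.leaf 7009456881725) (.leaf 6738869223462)) (.node (.leaf 4389466079288) (.leaf 6872048664579)))) (.node (.node (.node (.leaf 2942057381928) (.leaf 1133884866589)) (.node (.leaf 8950811983894) (.leaf 1623504125967))) (.node (.node (.leaf 1988629954567) (.leaf 6094573862940)) (.node (.leaf 7078117113866) (.leaf 1821078126648))))))) (.node (.node (.node (.node (.node (.node (.leaf 4904917139462) (.leaf 7395983032372)) (.node (.leaf 6670121893955) (.leaf 8065998651429))) (.node (.node (.leaf 1017920028727) (.leaf 1739552587802)) (.node (.leaf 8164736368711) (.leaf 1898416898096)))) (.node (.node (.node (.leaf 3569148428298) (.leaf 2650009042948)) (.node (.leaf 1679348006954) (.leaf 7842650259492))) (.node (.node (.leaf 4054484189205) (.leaf 597067825167)) (.node (.leaf 5072406249527) (.leaf 3766741827636))))) (.node (.node (.node (.node (.leaf 4660077396034) (.leaf 7580660531238)) (.node (.leaf 1962895671320) (.leaf 141803913263))) (.node (.node (.leaf 5832591867972) (.leaf 5055231819808)) (.node (.leaf 6807574544444) (.leaf 6536964145180)))) (.node (.node (.node (.leaf 2714433814567) (.leaf 4084519010368)) (.node (.leaf 708669603841) (.leaf 7572110049283))) (.node (.node (.leaf 4672924418065) (.leaf 60)) (.node (.leaf 2169028280345) (.leaf 6494076338208)))))) (.node (.node (.node (.node (.node (.leaf 257753808926) (.leaf 8057409568815)) (.node (.leaf 7726755282976) (.leaf 1073756045333))) (.node (.node (.leaf 2783185731608) (.leaf 695880187930)) (.node (.leaf 1713739399201) (.leaf 5467632238616)))) (.node (.node (.node (.leaf 1056584237059) (.leaf 1348686512162)) (.node (.leaf 5063897317400) (.leaf 1280004980768))) (.node (.node (.leaf 2890593140750) (.leaf 6300784132137)) (.node (.leaf 5089566851123) (.leaf 3255671193657))))) (.node (.node (.node (.node (.leaf 2035862011956) (.leaf 2293581414447)) (.node (.leaf 4295097516051) (.leaf 9217016987675))) (.node (.node (.leaf 4252041281601) (.leaf 2529753169938)) (.node (.leaf 5325837762582) (.leaf 5957151752215)))) (.node (.node (.node (.leaf 8667319173173) (.leaf 5677948928030)) (.node (.leaf 7696617177096) (.leaf 5639416447000))) (.node (.node (.leaf 5794023866371) (.leaf 5738111696936)) (.node (.leaf 8800471220281) (.leaf 6966499606578)))))))) (.node (.node (.node (.node (.node (.node (.node (.leaf 7782483034142) (.leaf 3844068212795)) (.node (.leaf 8516979064892) (.leaf 6683041202218))) (.node (.node (.leaf 4591344484368) (.leaf 2319335620613)) (.node (.leaf 6511237267516) (.leaf 5214093377554)))) (.node (.node (.node (.leaf 2259211649071) (.leaf 1159701331974)) (.node (.leaf 1593508495413) (.leaf 2529770799171))) (.node (.node (.leaf 2547026296867) (.leaf 8744566128667)) (.node (.leaf 4166140362805) (.leaf 7215569371174))))) (.node (.node (.node (.node (.leaf 1743897886739) (.leaf 5931402395665)) (.node (.leaf 4161902673985) (.leaf 1035181359172))) (.node (.node (.leaf 1164017532996) (.leaf 3539088179216)) (.node (.leaf 3478942580799) (.leaf 7473264918578)))) (.node (.node (.node (.leaf 2577037262878) (.leaf 9238515941384)) (.node (.leaf 3096728436762) (.leaf 781814136865))) (.node (.node (.leaf 3543388848194) (.leaf 2469623562262)) (.node (.leaf 5179826503717) (.leaf 5892708630547)))))) (.node (.node (.node (.node (.node (.leaf 1597738450983) (.leaf 6859103862838)) (.node (.leaf 2456735776807) (.leaf 1090926805056))) (.node (.node (.leaf 1254130450433) (.leaf 8323773628420)) (.node (.leaf 7408818651145) (.leaf 1206960324652)))) (.node (.node (.node (.leaf 1516135514138) (.leaf 8731751940164)) (.node (.leaf 536957681707) (.leaf 5055220547607))) (.node (.node (.leaf 648572698664) (.leaf 7009386692614)) (.node (.leaf 4153297928230) (.leaf 4432543744030))))) (.node (.node (.node (.node (.leaf 3994380795945) (.leaf 2203322417201)) (.node (.leaf 1932819103774) (.leaf 3440286171184))) (.node (.node (.leaf 3380202635281) (.leaf 1722335494197)) (.node (.leaf 2555599126552) (.leaf 2100278984758)))) (.node (.node (.node (.leaf 1726650449937) (.leaf 5922785525815)) (.node (.leaf 691619168289) (.leaf 8443944763413))) (.node (.node (.leaf 2310702563332) (.leaf 7486134747186)) (.node (.leaf 5037997686790) (.leaf 8787535396913))))))) (.node (.node (.node (.node (.node (.node (.leaf 266307567652) (.leaf 5669476040734)) (.node (.leaf 6829014188093) (.leaf 4256365543432))) (.node (.node (.leaf 8632970510350) (.leaf 8602822705173)) (.node (.leaf 3169706770470) (.leaf 7490512224289)))) (.node (.node (.node (.leaf 3805382115357) (.leaf 7658012803075)) (.node (.leaf 6738844778533) (.leaf 7400234549318))) (.node (.node (.leaf 2800374120469) (.leaf 6339447947317)) (.node (.leaf 3745223540783) (.leaf 1554787663917))))) (.node (.node (.node (.node (.leaf 6962187730970) (.leaf 3551992741897)) (.node (.leaf 240594583617) (.leaf 4209126998058))) (.node (.node (.leaf 8521256271900) (.leaf 1400245715012)) (.node (.leaf 1202697469956) (.leaf 9101038649349)))) (.node (.node (.node (.leaf 5205520154651) (.leaf 6120334950455)) (.node (.leaf 5128216838155) (.leaf 3002199375897))) (.node (.node (.leaf 914883739710) (.leaf 1627814821899)) (.node (.leaf 3848323661861) (.leaf 618563371076)))))) (.node (.node (.node (.node (.node (.leaf 3968562888711) (.leaf 1700815831106)) (.node (.leaf 9272963891226) (.leaf 884810514464))) (.node (.node (.leaf 1017909149757) (.leaf 3852670009376)) (.node (.leaf 7679422234656) (.leaf 5433211486241)))) (.node (.node (.node (.leaf 1962843701304) (.leaf 8280746229793)) (.node (.leaf 5154051981356) (.leaf 1971473023019))) (.node (.node (.leaf 2602764664871) (.leaf 4655749660736)) (.node (.leaf 523986010113) (.leaf 837522882566))))) (.node (.node (.node (.node (.leaf 1997297025028) (.leaf 61)) (.node (.leaf 197593923600) (.leaf 8907821350942))) (.node (.node (.leaf 2134602678305) (.leaf 4432434561065)) (.node (.leaf 7211335614475) (.leaf 850453463066)))) (.node (.node (.node (.leaf 7168359923729) (.leaf 8151883907105)) (.node (.leaf 3908457136162) (.leaf 1919914147845))) (.node (.node (.leaf 1533313613857) (.leaf 3715181379594)) (.node (.leaf 3955694567469) (.leaf 6747430584354))))))))) (.node (.node (.node (.node (.node (.node (.node (.node (.leaf 2010138804238) (.leaf 2267819409445)) (.node (.leaf 3440270639159) (.leaf 3075199860760))) (.node (.node (.leaf 4578505130003) (.leaf 4252031713309)) (.node (.leaf 4608532480060) (.leaf 7030929752074)))) (.node (.node (.node (.leaf 2491158888480) (.leaf 6532747821087)) (.node (.leaf 2847620333593) (.leaf 1786767015995))) (.node (.node (.leaf 1786810925089) (.leaf 1438831673392)) (.node (.leaf 5506153971781) (.leaf 2929225367585))))) (.node (.node (.node (.node (.leaf 2667245011005) (.leaf 6713038602246)) (.node (.leaf 622877212696) (.leaf 7653706367029))) (.node (.node (.leaf 6824781676556) (.leaf 7804048441349)) (.node (.leaf 1726664146968) (.leaf 1335739154468)))) (.node (.node (.node (.leaf 6803304153159) (.leaf 3002244792332)) (.node (.leaf 2856197292092) (.leaf 68735402016))) (.node (.node (.leaf 7198384455695) (.leaf 7292874260537)) (.node (.leaf 2959364456472) (.leaf 7894263529540)))))) (.node (.node (.node (.node (.node (.leaf 3414549069843) (.leaf 6313648848934)) (.node (.leaf 4011563352116) (.leaf 7894272573464))) (.node (.node (.leaf 6391033823275) (.leaf 6403838312472)) (.node (.leaf 4522664460344) (.leaf 2615668441109)))) (.node (.node (.node (.leaf 6545588092988) (.leaf 4831879495730)) (.node (.leaf 8091795914787) (.leaf 8212001259569))) (.node (.node (.leaf 2035938623514) (.leaf 7945781575706)) (.node (.leaf 2211922575426) (.leaf 8379490893886))))) (.node (.node (.node (.node (.leaf 3706567983159) (.leaf 8465381130273)) (.node (.leaf 7297274871843) (.leaf 5325807550496))) (.node (.node (.leaf 7387353251903) (.leaf 876191023170)) (.node (.leaf 2181857869863) (.leaf 3736626659392)))) (.node (.node (.node (.leaf 68719476737) (.leaf 2126041251848)) (.node (.leaf 3350128951313) (.leaf 6837704130591))) (.node (.node (.leaf 9040912973843) (.leaf 4647260389444)) (.node (.leaf 5248484638746) (.leaf 5373091512338))))))) (.node (.node (.node (.node (.node (.node (.leaf 3337212133422) (.leaf 4849070047256)) (.node (.leaf 4192009191450) (.leaf 8005898469379))) (.node (.node (.leaf 2796034588725) (.leaf 3496139292682)) (.node (.leaf 5102534000670) (.leaf 2379418632232)))) (.node (.node (.node (.leaf 8903495974962) (.leaf 6678687776814)) (.node (.leaf 2989334724660) (.leaf 5987237691438))) (.node (.node (.leaf 5587842498565) (.leaf 7945785376787)) (.node (.leaf 6154828251166) (.leaf 38726271023))))) (.node (.node (.node (.node (.leaf 7636461420551) (.leaf 5652303446042)) (.node (.leaf 8869141872682) (.leaf 8409546686527))) (.node (.node (.leaf 6266431143968) (.leaf 6249181872184)) (.node (.leaf 8808985526332) (.leaf 6017257766961)))) (.node (.node (.node (.leaf 6755994894373) (.leaf 8791830167578)) (.node (.leaf 7357368107019) (.leaf 6150414925857))) (.node (.node (.leaf 1026549088301) (.leaf 9165515063348)) (.node (.leaf 55898210330) (.leaf 914895732781)))))) (.node (.node (.node (.node (.node (.leaf 983548428304) (.leaf 1760959266884)) (.node (.leaf 6506935156778) (.leaf 8591966258))) (.node (.node (.leaf 5570647031878) (.leaf 2620003123259)) (.node (.leaf 6704455548941) (.leaf 3281474486291)))) (.node (.node (.node (.leaf 3723770527805) (.leaf 6966480273467)) (.node (.leaf 674364719130) (.leaf 2156209045528))) (.node (.node (.leaf 5428887814189) (.leaf 5476124655623)) (.node (.leaf 2985028157481) (.leaf 3315719929888))))) (.node (.node (.node (.node (.leaf 6335124799549) (.leaf 8117532229635)) (.node (.leaf 2362301349912) (.leaf 8791848124466))) (.node (.node (.leaf 6708816510988) (.leaf 8499750895666)) (.node (.leaf 8349430775857) (.leaf 6631441694766)))) (.node (.node (.node (.leaf 2177611071522) (.leaf 4411011366938)) (.node (.leaf 7804012199974) (.leaf 876213698627))) (.node (.node (.leaf 6648619728936) (.leaf 554108583981)) (.node (.leaf 3637964505118) (.leaf 7039499108380)))))))) (.node (.node (.node (.node (.node (.node (.node (.leaf 1056576438311) (.leaf 2847568429120)) (.node (.leaf 17179869185) (.leaf 3569174052867))) (.node (.node (.leaf 3341484556303) (.leaf 579869605920)) (.node (.leaf 6657303314486) (.leaf 5364420640797)))) (.node (.node (.node (.leaf 893414146067) (.leaf 4342279241769)) (.node (.leaf 2469610913844) (.leaf 6914944073777))) (.node (.node (.leaf 7322957774890) (.leaf 5476167843859)) (.node (.leaf 5244215427127) (.leaf 3294254858269))))) (.node (.node (.node (.node (.leaf 8293596921915) (.leaf 9066763190340)) (.node (.leaf 8323694329917) (.leaf 3431779205153))) (.node (.node (.leaf 3831145562125) (.leaf 2164772700164)) (.node (.leaf 4891994619939) (.leaf 4840432926756)))) (.node (.node (.node (.leaf 524010520606) (.leaf 2512579330074)) (.node (.leaf 9195580096533) (.leaf 725856288816))) (.node (.node (.leaf 6721651277871) (.leaf 7537713217583)) (.node (.leaf 2078793007121) (.leaf 1078042361863)))))) (.node (.node (.node (.node (.node (.leaf 7550564368447) (.leaf 5802504290360)) (.node (.leaf 4058744815682) (.leaf 7980156059717))) (.node (.node (.leaf 6760382988357) (.leaf 4578504015928)) (.node (.leaf 6580008910878) (.leaf 8929264271409)))) (.node (.node (.node (.leaf 584119615504) (.leaf 7335901921285)) (.node (.leaf 4634300317700) (.leaf 2589920002055))) (.node (.node (.leaf 4015823061039) (.leaf 7030879813695)) (.node (.leaf 1477490180114) (.leaf 309249310731))))) (.node (.node (.node (.node (.leaf 7322998276099) (.leaf 4892012773401)) (.node (.leaf 6790462308378) (.leaf 644304928815))) (.node (.node (.leaf 4297785387) (.leaf 5626526957571)) (.node (.leaf 6751709298728) (.leaf 3053735706656)))) (.node (.node (.node (.leaf 8856313659427) (.leaf 5845501935624)) (.node (.leaf 9010857443379) (.leaf 592780722195))) (.node (.node (.leaf 7765310898242) (.leaf 7438926020659)) (.node (.leaf 6846248189956) (.leaf 1301397831724))))))) (.node (.node (.node (.node (.node (.node (.leaf 5678018002970) (.leaf 9199856975902)) (.node (.leaf 760228216898) (.leaf 2486828859442))) (.node (.node (.leaf 6369523400739) (.leaf 7219845398567)) (.node (.leaf 5952925728792) (.leaf 2280631697469)))) (.node (.node (.node (.leaf 2452449984532) (.leaf 8091759476790)) (.node (.leaf 1224080162855) (.leaf 1344329875520))) (.node (.node (.leaf 81604378625) (.leaf 4179009798151)) (.node (.leaf 21474836491) (.leaf 184699322400))))) (.node (.node (.node (.node (.leaf 6790353125421) (.leaf 7383053107253)) (.node (.leaf 4660049346621) (.leaf 4617154134057))) (.node (.node (.leaf 5471834603583) (.leaf 9002382196768)) (.node (.leaf 9131152965692) (.leaf 6902044164103)))) (.node (.node (.node (.leaf 425248489510) (.leaf 1198317109253)) (.node (.leaf 7778227388449) (.leaf 8916400275517))) (.node (.node (.leaf 8572765929539) (.leaf 2568415412258)) (.node (.leaf 4260711694340) (.leaf 1228455804960)))))) (.node (.node (.node (.node (.node (.leaf 3749537185847) (.leaf 4355173842997)) (.node (.leaf 4187673657368) (.leaf 5914204241980))) (.node (.node (.leaf 2379485806637) (.leaf 1516123979798)) (.node (.leaf 7048048934931) (.leaf 4217738559506)))) (.node (.node (.node (.leaf 2413817757734) (.leaf 7069521412127)) (.node (.leaf 8065999831072) (.leaf 7035237433388))) (.node (.node (.leaf 5102442381361) (.leaf 5111022944286)) (.node (.leaf 3801141739574) (.leaf 8426728194069))))) (.node (.node (.node (.node (.leaf 4333632880707) (.leaf 2095944171574)) (.node (.leaf 4681554264104) (.leaf 914829738043))) (.node (.node (.leaf 4702998298638) (.leaf 545480900642)) (.node (.leaf 6502644973585) (.leaf 8710197346308)))) (.node (.node (.node (.leaf 8156176187412) (.leaf 8869140693009)) (.node (.leaf 1812587741241) (.leaf 7013723734037))) (.node (.node (.leaf 4428134154306) (.leaf 6279275806776)) (.node (.leaf 5759564382242) (.leaf 9199935684676)))))))))))))) (.node (.node (.node (.node (.node (.node (.node (.node (.node (.node (.node (.node (.node (.leaf 1958505611302) (.leaf 7593516269629)) (.node (.leaf 3092503265312) (.leaf 7769624936478))) (.node (.node (.leaf 1163987058738) (.leaf 369379246147)) (.node (.leaf 7249957158971) (.leaf 2065918197776)))) (.node (.node (.node (.leaf 2443849629702) (.leaf 4123226734606)) (.node (.leaf 3715203268671) (.leaf 6957871661112))) (.node (.node (.leaf 9101149995034) (.leaf 2400891895841)) (.node (.leaf 6073095880732) (.leaf 3826828836903))))) (.node (.node (.node (.node (.leaf 395146625083) (.leaf 1189742247942)) (.node (.leaf 4363710627869) (.leaf 6201939525679))) (.node (.node (.leaf 1005036830759) (.leaf 2671474769984)) (.node (.leaf 1640677507073) (.leaf 3569174052871)))) (.node (.node (.node (.leaf 7400261156873) (.leaf 1335753768993)) (.node (.leaf 5927076364322) (.leaf 1649297588254))) (.node (.node (.leaf 3775364857874) (.leaf 7297152909356)) (.node (.leaf 618591223812) (.leaf 5544839282692)))))) (.node (.node (.node (.node (.node (.leaf 4419531440139) (.leaf 1486142701600)) (.node (.leaf 7456105824277) (.leaf 1662217027642))) (.node (.node (.leaf 936407597086) (.leaf 4045881802786)) (.node (.leaf 5514817372191) (.leaf 8791849369652)))) (.node (.node (.node (.leaf 6829030506545) (.leaf 6807561764868)) (.node (.leaf 8388112089149) (.leaf 2233404817449))) (.node (.node (.leaf 5218397257773) (.leaf 811887165459)) (.node (.leaf 4745987162143) (.leaf 5489023909946))))) (.node (.node (.node (.node (.leaf 6871994794009) (.leaf 4020151975992)) (.node (.leaf 2005756411951) (.leaf 8010197106721))) (.node (.node (.leaf 2912011288599) (.leaf 3174039289863)) (.node (.leaf 4827620507668) (.leaf 1589220999179)))) (.node (.node (.node (.leaf 3083813519367) (.leaf 6592882868243)) (.node (.leaf 4157533847575) (.leaf 5179851538500))) (.node (.node (.leaf 7627886821399) (.leaf 5540648910851)) (.node (.leaf 4114621988874) (.leaf 2091658706970))))))) (.node (.node (.node (.node (.node (.node (.leaf 7984471539738) (.leaf 2985059876898)) (.node (.leaf 6506923819031) (.leaf 519746682886))) (.node (.node (.leaf 3539138379841) (.leaf 5699438706692)) (.node (.leaf 764571484185) (.leaf 927766675477)))) (.node (.node (.node (.leaf 7645043687473) (.leaf 3582011375631)) (.node (.leaf 8160450576398) (.leaf 9079655235616))) (.node (.node (.leaf 8843451301893) (.leaf 5772455182357)) (.node (.leaf 7739638874132) (.leaf 5866952654853))))) (.node (.node (.node (.node (.leaf 8435330711580) (.leaf 6395212529674)) (.node (.leaf 6446809284667) (.leaf 5497628327978))) (.node (.node (.leaf 2817550254105) (.leaf 5819769815060)) (.node (.leaf 2851892756546) (.leaf 2650125434885)))) (.node (.node (.node (.leaf 240580231218) (.leaf 7683721330733)) (.node (.leaf 3723771117601) (.leaf 6270675779591))) (.node (.node (.leaf 3959999234066) (.leaf 4711655538731)) (.node (.leaf 1791015845927) (.leaf 4827548352576)))))) (.node (.node (.node (.node (.node (.leaf 485331304449) (.leaf 3569174052869)) (.node (.leaf 8031642976271) (.leaf 6064633085957))) (.node (.node (.leaf 3453181755433) (.leaf 1649322885123)) (.node (.leaf 7851312808004) (.leaf 223391580186)))) (.node (.node (.node (.leaf 7404615434283) (.leaf 5699554181139)) (.node (.leaf 7237082611728) (.leaf 824749916164))) (.node (.node (.leaf 7408958701594) (.leaf 4947840008229)) (.node (.leaf 2177657405443) (.leaf 1344332824639))))) (.node (.node (.node (.node (.leaf 2907806171155) (.leaf 4922089734199)) (.node (.leaf 7490440855609) (.leaf 8641480097830))) (.node (.node (.leaf 5720896831554) (.leaf 3470378598419)) (.node (.leaf 7232725778489) (.leaf 8847662972938)))) (.node (.node (.node (.leaf 8190512922632) (.leaf 1567746687002)) (.node (.leaf 1099547672638) (.leaf 1683721027589))) (.node (.node (.leaf 4986469941310) (.leaf 8663010902072)) (.node (.leaf 6068810088475) (.leaf 4368084238404)))))))) (.node (.node (.node (.node (.node (.node (.node (.leaf 1301398749201) (.leaf 390944063521)) (.node (.leaf 816085860393) (.leaf 4973599064132))) (.node (.node (.leaf 970681221171) (.leaf 7168332660777)) (.node (.leaf 1176897519649) (.leaf 2018671001645)))) (.node (.node (.node (.leaf 3234129051664) (.leaf 9139697352748)) (.node (.leaf 5072361750599) (.leaf 3874125053956))) (.node (.node (.leaf 532618739735) (.leaf 4694516432922)) (.node (.leaf 974959214609) (.leaf 3826830344219))))) (.node (.node (.node (.node (.leaf 1988606361658) (.leaf 6713052495892)) (.node (.leaf 4243472121861) (.leaf 807476920323))) (.node (.node (.leaf 1267109855300) (.leaf 4780381765669)) (.node (.leaf 1352917778457) (.leaf 6781782392853)))) (.node (.node (.node (.leaf 3113936093252) (.leaf 3444577075206)) (.node (.leaf 3655069204505) (.leaf 6408111456275))) (.node (.node (.leaf 9053797941306) (.leaf 4080257400863)) (.node (.leaf 2108888973359) (.leaf 2924920242217)))))) (.node (.node (.node (.node (.node (.leaf 2031598764103) (.leaf 6515494158362)) (.node (.leaf 1425969578044) (.leaf 6747397226541))) (.node (.node (.leaf 8138972397572) (.leaf 8164869013536)) (.node (.leaf 5368785141804) (.leaf 81611980822)))) (.node (.node (.node (.leaf 1116705980455) (.leaf 4664339595328)) (.node (.leaf 2735894167553) (.leaf 7086811578372))) (.node (.node (.leaf 1980093562884) (.leaf 8529869275185)) (.node (.leaf 2156110676006) (.leaf 558403223607))))) (.node (.node (.node (.node (.leaf 2843330019338) (.leaf 7688125677571)) (.node (.leaf 7722390454295) (.leaf 8585676652584))) (.node (.node (.leaf 3509112406035) (.leaf 6786171928609)) (.node (.leaf 747445551130) (.leaf 7267094626313)))) (.node (.node (.node (.leaf 7829780299799) (.leaf 4011516624905)) (.node (.leaf 5738172383300) (.leaf 4814706835460))) (.node (.node (.leaf 2972211413011) (.leaf 6335088361480)) (.node (.leaf 6365178101766) (.leaf 3925651292202))))))) (.node (.node (.node (.node (.node (.node (.leaf 5909906325563) (.leaf 5905608933395)) (.node (.leaf 734489608240) (.leaf 1434525827084))) (.node (.node (.leaf 3569185587255) (.leaf 9199853174813)) (.node (.leaf 8379546271789) (.leaf 3728103112772)))) (.node (.node (.node (.leaf 1017976717371) (.leaf 5617914150969)) (.node (.leaf 1928515354689) (.leaf 5875571163185))) (.node (.node (.leaf 605603758143) (.leaf 5940057538563)) (.node (.leaf 3771081818142) (.leaf 884821393434))))) (.node (.node (.node (.node (.leaf 962181857313) (.leaf 579876880429)) (.node (.leaf 2817552285701) (.leaf 5720902402097))) (.node (.node (.leaf 7537717542922) (.leaf 7640772313137)) (.node (.leaf 6558490165278) (.leaf 2632841297934)))) (.node (.node (.node (.leaf 7365884575754) (.leaf 4587078942762)) (.node (.leaf 3650822733850) (.leaf 8134756663353))) (.node (.node (.leaf 4028696363043) (.leaf 7739612266533)) (.node (.leaf 6751705038877) (.leaf 2396719153185)))))) (.node (.node (.node (.node (.node (.leaf 9182722261057) (.leaf 5501867786300)) (.node (.leaf 2774565191708) (.leaf 8117512962107))) (.node (.node (.leaf 5063773650994) (.leaf 3865558974494)) (.node (.leaf 7645083467802) (.leaf 8929325416472)))) (.node (.node (.node (.leaf 2731638325300) (.leaf 4028706848783)) (.node (.leaf 2491112488963) (.leaf 6807587389492))) (.node (.node (.leaf 1039404236830) (.leaf 5428869988419)) (.node (.leaf 7756838862878) (.leaf 2774591733794))))) (.node (.node (.node (.node (.leaf 7443180748860) (.leaf 1108135641154)) (.node (.leaf 725863956519) (.leaf 3994324697152))) (.node (.node (.leaf 760209211393) (.leaf 2126065041418)) (.node (.leaf 4672980647952) (.leaf 1627817443358)))) (.node (.node (.node (.leaf 6025915858948) (.leaf 1013632925713)) (.node (.leaf 5261369278489) (.leaf 8589977124868))) (.node (.node (.leaf 7297194131475) (.leaf 4694463414293)) (.node (.leaf 9010856525847) (.leaf 51550158853))))))))) (.node (.node (.node (.node (.node (.node (.node (.node (.leaf 7121092018237) (.leaf 8663002578990)) (.node (.leaf 8796098461752) (.leaf 1159710113800))) (.node (.node (.leaf 3551998378039) (.leaf 5076697677832)) (.node (.leaf 4106000793651) (.leaf 4526908964887)))) (.node (.node (.node (.leaf 2516937539614) (.leaf 2607095087112)) (.node (.leaf 158975197234) (.leaf 8761738395695))) (.node (.node (.leaf 6365213360131) (.leaf 2044452864005)) (.node (.leaf 3006490148922) (.leaf 1048009703471))))) (.node (.node (.node (.node (.leaf 3783876542520) (.leaf 3131100823575)) (.node (.leaf 1597741400115) (.leaf 1490411782174))) (.node (.node (.leaf 8577095499808) (.leaf 296474837018)) (.node (.leaf 5557732769808) (.leaf 3049457319943)))) (.node (.node (.node (.leaf 3169745633310) (.leaf 6962222465077)) (.node (.leaf 5458941116482) (.leaf 7803957608515))) (.node (.node (.leaf 6713066782751) (.leaf 3320096292901)) (.node (.leaf 8980841824275) (.leaf 4239135277061)))))) (.node (.node (.node (.node (.node (.leaf 7670836559902) (.leaf 3560550760458)) (.node (.leaf 141737197577) (.leaf 3259886075958))) (.node (.node (.leaf 4071688765466) (.leaf 6798949875780)) (.node (.leaf 1052288876609) (.leaf 7318639083571)))) (.node (.node (.node (.leaf 3848332902433) (.leaf 6120330297391)) (.node (.leaf 7902799331391) (.leaf 4668698132540))) (.node (.node (.leaf 2774563946528) (.leaf 5884197994540)) (.node (.leaf 3637860237378) (.leaf 5549108166678))))) (.node (.node (.node (.node (.leaf 5235628048390) (.leaf 2869067448373)) (.node (.leaf 1198392999989) (.leaf 4054517940241))) (.node (.node (.leaf 4423872479237) (.leaf 5020831055935)) (.node (.leaf 3856910712873) (.leaf 5184035946563)))) (.node (.node (.node (.leaf 3736639701052) (.leaf 7606519726113)) (.node (.leaf 8950721347647) (.leaf 8504048418844))) (.node (.node (.leaf 549770297383) (.leaf 992142557248)) (.node (.leaf 3792456122369) (.leaf 4432436920329))))))) (.node (.node (.node (.node (.node (.node (.leaf 30066540556) (.leaf 7645062889522)) (.node (.leaf 798925455368) (.leaf 1541949423661))) (.node (.node (.leaf 3418861338648) (.leaf 1331548586010)) (.node (.leaf 8147615416352) (.leaf 7623606075402)))) (.node (.node (.node (.leaf 7146911301700) (.leaf 2654425317380)) (.node (.leaf 6189054754862) (.leaf 7408874422276))) (.node (.node (.leaf 3551968755725) (.leaf 1881312854021)) (.node (.leaf 2856184315942) (.leaf 2250595631149))))) (.node (.node (.node (.node (.leaf 2834691063824) (.leaf 180420411395)) (.node (.leaf 94585225248) (.leaf 8740355899422))) (.node (.node (.leaf 8757458960446) (.leaf 2126057898043)) (.node (.leaf 614212632637) (.leaf 5978641727529)))) (.node (.node (.node (.leaf 7804049424452) (.leaf 3264211058708)) (.node (.leaf 1408855441445) (.leaf 8933552685085))) (.node (.node (.leaf 8611520053316) (.leaf 8886294741053)) (.node (.leaf 6489729269826) (.leaf 1786729988126)))))) (.node (.node (.node (.node (.node (.leaf 3122568691765) (.leaf 734449565754)) (.node (.leaf 3646445125659) (.leaf 5600659505158))) (.node (.node (.leaf 7722356768789) (.leaf 6919306608670)) (.node (.leaf 7606418014260) (.leaf 2650122027012)))) (.node (.node (.node (.leaf 2345069838381) (.leaf 7421733109770)) (.node (.leaf 9156923686971) (.leaf 8894957813771))) (.node (.node (.leaf 6773180530724) (.leaf 8332283084868)) (.node (.leaf 6867655917630) (.leaf 5153983823929))))) (.node (.node (.node (.node (.leaf 390884556809) (.leaf 7052403605560)) (.node (.leaf 1039385034795) (.leaf 4123188002866))) (.node (.node (.leaf 2306491809825) (.leaf 2057393471556)) (.node (.leaf 1194104127502) (.leaf 4866215051313)))) (.node (.node (.node (.leaf 2242044166204) (.leaf 8791816863777)) (.node (.leaf 1980001615909) (.leaf 1017925861421))) (.node (.node (.leaf 1365839446045) (.leaf 240569483274)) (.node (.leaf 1627866857527) (.leaf 7357373480995)))))))) (.node (.node (.node (.node (.node (.node (.node (.leaf 3448871976988) (.leaf 4239176826921)) (.node (.leaf 7950066712633) (.leaf 979307331625))) (.node (.node (.leaf 8877721190429) (.leaf 5201213849642)) (.node (.leaf 3199765119015) (.leaf 3345784635456)))) (.node (.node (.node (.leaf 1090921693185) (.leaf 2392300978183)) (.node (.leaf 3453170614286) (.leaf 4578484944920))) (.node (.node (.leaf 6652955721787) (.leaf 8899292823585)) (.node (.leaf 3994401898516) (.leaf 9165543243820))))) (.node (.node (.node (.node (.leaf 4166177587263) (.leaf 5257147056152)) (.node (.leaf 2753117224981) (.leaf 8967950041094))) (.node (.node (.leaf 1198425702424) (.leaf 1198408663043)) (.node (.leaf 1056640139282) (.leaf 5128217296964)))) (.node (.node (.node (.leaf 6567096811557) (.leaf 1378747482128)) (.node (.leaf 4935032242209) (.leaf 5781083979807))) (.node (.node (.leaf 7864110415940) (.leaf 4827587608581)) (.node (.leaf 5772503810069) (.leaf 5381656477759)))))) (.node (.node (.node (.node (.node (.leaf 2263457136654) (.leaf 5188372987927)) (.node (.leaf 2667195727896) (.leaf 4363711021107))) (.node (.node (.leaf 8727397335060) (.leaf 7971460808755)) (.node (.leaf 485339365400) (.leaf 485388320810)))) (.node (.node (.node (.leaf 103140687902) (.leaf 7146875191346)) (.node (.leaf 1417420931077) (.leaf 4080221618226))) (.node (.node (.leaf 8860523167803) (.leaf 2757407670288)) (.node (.leaf 8276427866143) (.leaf 4157592829975))))) (.node (.node (.node (.node (.leaf 8358100795460) (.leaf 6927815278646)) (.node (.leaf 6816216776715) (.leaf 8968009547841))) (.node (.node (.leaf 3960002707515) (.leaf 4471081664554)) (.node (.leaf 4037285707804) (.leaf 8684447268905)))) (.node (.node (.node (.leaf 1541939331127) (.leaf 4118909550619)) (.node (.leaf 5532003467290) (.leaf 73103835156))) (.node (.node (.leaf 3135342641169) (.leaf 4853433106456)) (.node (.leaf 5098212753434) (.leaf 6545560698948))))))) (.node (.node (.node (.node (.node (.node (.leaf 5493329821759) (.leaf 5742403518511)) (.node (.leaf 4917743058948) (.leaf 5656495456272))) (.node (.node (.leaf 8010216636449) (.leaf 322138603544)) (.node (.leaf 7675108655167) (.leaf 7413233483808)))) (.node (.node (.node (.leaf 3006550048793) (.leaf 6326624321569)) (.node (.leaf 790277587015) (.leaf 3126780297257))) (.node (.node (.leaf 6798976811057) (.leaf 6773242855443)) (.node (.leaf 8426763190339) (.leaf 4531298828314))))) (.node (.node (.node (.node (.leaf 3311434268711) (.leaf 1730876932160)) (.node (.leaf 38654705665) (.leaf 4548424826883))) (.node (.node (.leaf 1314291712012) (.leaf 3036548759557)) (.node (.leaf 1580555173921) (.leaf 5789706878981)))) (.node (.node (.node (.leaf 2134651961392) (.leaf 2358007496742)) (.node (.leaf 3281390272544) (.leaf 6004483162138))) (.node (.node (.leaf 3801066766399) (.leaf 5690868301878)) (.node (.leaf 5802527817788) (.leaf 7133950377988)))))) (.node (.node (.node (.node (.node (.leaf 8559890989097) (.leaf 7228503097350)) (.node (.leaf 309304098839) (.leaf 6502629310506))) (.node (.node (.leaf 6219127717896) (.leaf 6841970196484)) (.node (.leaf 8860546236421) (.leaf 7408821600291)))) (.node (.node (.node (.leaf 5776749428798) (.leaf 1060860985383)) (.node (.leaf 6708814479384) (.leaf 6609989599240))) (.node (.node (.leaf 5441790607390) (.leaf 7958675914809)) (.node (.leaf 4389490458665) (.leaf 9101054246959))))) (.node (.node (.node (.node (.leaf 7541966897156) (.leaf 1194001301546)) (.node (.leaf 8422534217797) (.leaf 8654362509379))) (.node (.node (.leaf 5531964407841) (.leaf 1782538371091)) (.node (.leaf 2705862885395) (.leaf 2190526054465)))) (.node (.node (.node (.leaf 1164017139736) (.leaf 240565354541)) (.node (.leaf 1928464433160) (.leaf 8272212983839))) (.node (.node (.leaf 1984318734391) (.leaf 7245687619638)) (.node (.leaf 1653571649597) (.leaf 7791086338059)))))))))) (.node (.node (.node (.node (.node (.node (.node (.node (.node (.leaf 7584964673540) (.leaf 5823992954906)) (.node (.leaf 2366555357217) (.leaf 244922974227))) (.node (.node (.leaf 5604940054552) (.leaf 1507623239717)) (.node (.leaf 8791802445841) (.leaf 4501152595983)))) (.node (.node (.node (.leaf 4093129719811) (.leaf 8027294335034)) (.node (.leaf 455303954495) (.leaf 1297175609368))) (.node (.node (.leaf 4501171404850) (.leaf 1391601188889)) (.node (.leaf 6747425996818) (.leaf 5201283186732))))) (.node (.node (.node (.node (.leaf 6575727116291) (.leaf 7447537516567)) (.node (.leaf 4896352763907) (.leaf 429512327178))) (.node (.node (.leaf 6210594537540) (.leaf 4217692749875)) (.node (.leaf 8310859235381) (.leaf 2435250520125)))) (.node (.node (.node (.leaf 3655044562962) (.leaf 7048046051392)) (.node (.leaf 2503980417063) (.leaf 1116696608832))) (.node (.node (.leaf 25769803777) (.leaf 5918555242501)) (.node (.leaf 4672928546820) (.leaf 62)))))) (.node (.node (.node (.node (.node (.leaf 6154696261665) (.leaf 4312207261699)) (.node (.leaf 4630031695898) (.leaf 8783339716611))) (.node (.node (.leaf 4466774507552) (.leaf 1834079748161)) (.node (.leaf 601342935072) (.leaf 1426026004513)))) (.node (.node (.node (.leaf 8108911165482) (.leaf 3272826683402)) (.node (.leaf 2894843609149) (.leaf 7134047043589))) (.node (.node (.leaf 7035197325315) (.leaf 3848320385071)) (.node (.leaf 4247737860104) (.leaf 1202622562360))))) (.node (.node (.node (.node (.leaf 5201279582271) (.leaf 571255160844)) (.node (.leaf 2435274899481) (.leaf 1980061777942))) (.node (.node (.leaf 3208361607226) (.leaf 6597137793073)) (.node (.leaf 7438899871781) (.leaf 932076519449)))) (.node (.node (.node (.leaf 6665803989012) (.leaf 8572802433055)) (.node (.leaf 1949935927327) (.leaf 6317905936408))) (.node (.node (.leaf 2834786615350) (.leaf 4767465406493)) (.node (.leaf 7713836433443) (.leaf 8070257573903))))))) (.node (.node (.node (.node (.node (.node (.leaf 9028101144598) (.leaf 7718146932773)) (.node (.leaf 2817519255568) (.leaf 7958596288542))) (.node (.node (.leaf 7335806828558) (.leaf 257708654609)) (.node (.leaf 300700794911) (.leaf 3436053200918)))) (.node (.node (.node (.leaf 6975100026906) (.leaf 3337256239130)) (.node (.leaf 7103935741978) (.leaf 8830512988190))) (.node (.node (.leaf 7846988480524) (.leaf 648628862988)) (.node (.leaf 5536218153023) (.leaf 803183788084))))) (.node (.node (.node (.node (.leaf 8207727394846) (.leaf 1576289173519)) (.node (.leaf 6511280193540) (.leaf 2671560097827))) (.node (.node (.leaf 6781798252570) (.leaf 3186887360547)) (.node (.leaf 5922859778081) (.leaf 2310705840153)))) (.node (.node (.node (.leaf 644266065983) (.leaf 2491153907772)) (.node (.leaf 4587062100006) (.leaf 7657934356494))) (.node (.node (.leaf 2057360506905) (.leaf 3642204225544)) (.node (.leaf 5815414226964) (.leaf 6747466498086)))))) (.node (.node (.node (.node (.node (.leaf 6227785678916) (.leaf 4230579093510)) (.node (.leaf 2349408911390) (.leaf 257714683970))) (.node (.node (.leaf 4393766027303) (.leaf 4058749206592)) (.node (.leaf 90194313217) (.leaf 3685114380292)))) (.node (.node (.node (.leaf 2010100924433) (.leaf 5441768390712)) (.node (.leaf 4561330503682) (.leaf 7361679786038))) (.node (.node (.leaf 7941394661442) (.leaf 6068860944391)) (.node (.leaf 6567011418144) (.leaf 6416749953080))))) (.node (.node (.node (.node (.leaf 7095380541505) (.leaf 8456863940625)) (.node (.leaf 2465317781547) (.leaf 7138268151825))) (.node (.node (.leaf 7640888311813) (.leaf 7211274469384)) (.node (.leaf 5819696480269) (.leaf 7176952152124)))) (.node (.node (.node (.leaf 1640695529529) (.leaf 6734513176586)) (.node (.leaf 5201242619925) (.leaf 6270703632390))) (.node (.node (.leaf 4595622412359) (.leaf 8650070949932)) (.node (.leaf 8701666983986) (.leaf 2671565930564)))))))) (.node (.node (.node (.node (.node (.node (.node (.leaf 7516209479747) (.leaf 7941502074948)) (.node (.leaf 472449482784) (.leaf 4926371463175))) (.node (.node (.leaf 9058093891593) (.leaf 7327288918048)) (.node (.leaf 9264325328907) (.leaf 8482686238777)))) (.node (.node (.node (.leaf 5334421078073) (.leaf 3551979110426)) (.node (.leaf 5793933688893) (.leaf 4432409788478))) (.node (.node (.leaf 1447445856298) (.leaf 2465339867203)) (.node (.leaf 7211386732548) (.leaf 2542663106595))))) (.node (.node (.node (.node (.leaf 335084519448) (.leaf 2860523257927)) (.node (.leaf 73077555219) (.leaf 4565551480856))) (.node (.node (.leaf 7756755763205) (.leaf 1464610324485)) (.node (.leaf 1730900525062) (.leaf 438163734533)))) (.node (.node (.node (.leaf 8538414710798) (.leaf 2796090556439)) (.node (.leaf 5497564102702) (.leaf 6777476546591))) (.node (.node (.leaf 2663019773955) (.leaf 7623571603506)) (.node (.leaf 2010081656859) (.leaf 4715911184397)))))) (.node (.node (.node (.node (.node (.leaf 6184820473880) (.leaf 7155426263065)) (.node (.leaf 1700812816443) (.leaf 6365214605335))) (.node (.node (.leaf 3341489864769) (.leaf 7189842296895)) (.node (.leaf 1292839747645) (.leaf 6562721234990)))) (.node (.node (.node (.leaf 4131788619817) (.leaf 1318677512218)) (.node (.leaf 4372322320433) (.leaf 283525644333))) (.node (.node (.leaf 5334358884415) (.leaf 1623505240128)) (.node (.leaf 2851872768039) (.leaf 2602755293248))))) (.node (.node (.node (.node (.leaf 3801046056961) (.leaf 3685081939970)) (.node (.leaf 807530266628) (.leaf 8332345147396))) (.node (.node (.leaf 807541669892) (.leaf 7086709407809)) (.node (.leaf 2688770048004) (.leaf 4037276991553)))) (.node (.node (.node (.leaf 1627876556831) (.leaf 5420288966721)) (.node (.leaf 3801078104129) (.leaf 558413905928))) (.node (.node (.leaf 549804113928) (.leaf 6665811722242)) (.node (.leaf 146070241290) (.leaf 5647917187080))))))) (.node (.node (.node (.node (.node (.node (.leaf 1894093029416) (.leaf 5626427670538)) (.node (.leaf 5703727710221) (.leaf 7507642941482))) (.node (.node (.leaf 8817640865841) (.leaf 6262169534529)) (.node (.leaf 5102448148534) (.leaf 6519808000023)))) (.node (.node (.node (.leaf 6262175760449) (.leaf 8817612750897)) (.node (.leaf 4595649347634) (.leaf 2632815935545))) (.node (.node (.leaf 1327188672557) (.leaf 7146902061124)) (.node (.leaf 803159212070) (.leaf 5364473135123))))) (.node (.node (.node (.node (.leaf 5300005371909) (.leaf 6987948949561)) (.node (.leaf 7507678658579) (.leaf 184752013337))) (.node (.node (.leaf 7507725516819) (.leaf 4432432005123)) (.node (.leaf 2525518692383) (.leaf 3577715097667)))) (.node (.node (.node (.leaf 5703788068877) (.leaf 6987959107641)) (.node (.leaf 1365834137613) (.leaf 3981479772208))) (.node (.node (.leaf 5003702239237) (.leaf 1627808661565)) (.node (.leaf 5364443775012) (.leaf 7288570642491)))))) (.node (.node (.node (.node (.node (.leaf 8066030501921) (.leaf 5364442464275)) (.node (.leaf 7507697205267) (.leaf 5364422082596))) (.node (.node (.leaf 6262146269249) (.leaf 6777504006178)) (.node (.leaf 5300037287941) (.leaf 7348799799364)))) (.node (.node (.node (.leaf 1924240769081) (.leaf 8817640669233)) (.node (.leaf 4595623264306) (.leaf 8817602592817))) (.node (.node (.leaf 2276346167319) (.leaf 6829012549662)) (.node (.leaf 6313692758053) (.leaf 6940701425696))))) (.node (.node (.node (.node (.leaf 1627860369469) (.leaf 7146912415812)) (.node (.leaf 1580598034470) (.leaf 1352971518004))) (.node (.node (.leaf 7945830793220) (.leaf 687237627938)) (.node (.leaf 824743428126) (.leaf 4432446226458)))) (.node (.node (.node (.leaf 4217672368167) (.leaf 395142103104)) (.node (.leaf 1099511627777) (.leaf 3569172283396))) (.node (.node (.leaf 2031573991440) (.leaf 63)) (.node (.leaf 2568480686091) (.leaf 6012998844449))))))))) (.node (.node (.node (.node (.node (.node (.node (.node (.leaf 2890525311032) (.leaf 8899205595173)) (.node (.leaf 236255117343) (.leaf 8735987925055))) (.node (.node (.leaf 6189101875219) (.leaf 6609966792767)) (.node (.leaf 2465374732291) (.leaf 5927157563406)))) (.node (.node (.node (.leaf 2010130743314) (.leaf 7696668098591)) (.node (.leaf 1979986346026) (.leaf 8650105028631))) (.node (.node (.leaf 5012296302641) (.leaf 3891257212970)) (.node (.leaf 5510479413295) (.leaf 103194230808))))) (.node (.node (.node (.node (.leaf 1348696014891) (.leaf 4861926178834)) (.node (.leaf 5128291876897) (.leaf 3749571788852))) (.node (.node (.leaf 2199050846227) (.leaf 6326493052955)) (.node (.leaf 6665836167224) (.leaf 1919858442287)))) (.node (.node (.node (.leaf 717296631840) (.leaf 9251412967427)) (.node (.leaf 6459688353849) (.leaf 7662286274619))) (.node (.node (.leaf 180414054463) (.leaf 8126180884492)) (.node (.leaf 3959989076018) (.leaf 4952101814275)))))) (.node (.node (.node (.node (.node (.leaf 4316569075742) (.leaf 416686211142)) (.node (.leaf 4239194980360) (.leaf 9272894816297))) (.node (.node (.leaf 8547014082605) (.leaf 6343715258415)) (.node (.leaf 4080259235893) (.leaf 4445327065102)))) (.node (.node (.node (.leaf 309271920645) (.leaf 8143350595652)) (.node (.leaf 5368748834837) (.leaf 4380872671300))) (.node (.node (.leaf 6219163172910) (.leaf 6133307015198)) (.node (.leaf 1215495405624) (.leaf 2662925336610))))) (.node (.node (.node (.node (.leaf 2662987989011) (.leaf 2684400369680)) (.node (.leaf 6279292780593) (.leaf 433821515794))) (.node (.node (.leaf 1090931392578) (.leaf 6408133541937)) (.node (.leaf 721566040127) (.leaf 201891512375)))) (.node (.node (.node (.leaf 8899250749505) (.leaf 1842557616136)) (.node (.leaf 4685839007810) (.leaf 6279296778286))) (.node (.node (.leaf 2946486370334) (.leaf 605605068861)) (.node (.leaf 6038763733038) (.leaf 6429693313057))))))) (.node (.node (.node (.node (.node (.node (.leaf 4990790795324) (.leaf 3092416430106)) (.node (.leaf 3504707797031) (.leaf 2735899279424))) (.node (.node (.leaf 1649267441665) (.leaf 2126008811526)) (.node (.leaf 1945630015489) (.leaf 5905598054437)))) (.node (.node (.node (.leaf 7666589630532) (.leaf 4312172527642)) (.node (.leaf 408120000523) (.leaf 1980013019171))) (.node (.node (.leaf 4977938989081) (.leaf 1683627311111)) (.node (.leaf 85939453969) (.leaf 2126018641925))))) (.node (.node (.node (.node (.leaf 6171961196563) (.leaf 7447507566616)) (.node (.leaf 3324358623256) (.leaf 2315028136004))) (.node (.node (.leaf 7035159969842) (.leaf 6773202092094)) (.node (.leaf 2272075644935) (.leaf 6734560690206)))) (.node (.node (.node (.leaf 695807246372) (.leaf 347901132849)) (.node (.leaf 2435265921027) (.leaf 506844020760))) (.node (.node (.leaf 7537709154342) (.leaf 7103961038868)) (.node (.leaf 7039579258912) (.leaf 7988646576175)))))) (.node (.node (.node (.node (.node (.leaf 1219838803987) (.leaf 7786779639837)) (.node (.leaf 9255789527073) (.leaf 3998617239560))) (.node (.node (.leaf 7061037908005) (.leaf 4552692072454)) (.node (.leaf 3083835080756) (.leaf 2864786702351)))) (.node (.node (.node (.leaf 1529031688212) (.leaf 1846855401537)) (.node (.leaf 5184090079299) (.leaf 798917001239))) (.node (.node (.leaf 3023657238580) (.leaf 682935648284)) (.node (.leaf 103106281482) (.leaf 8379519533118))))) (.node (.node (.node (.node (.leaf 6880588398633) (.leaf 717268320262)) (.node (.leaf 7516231827479) (.leaf 5570664726542))) (.node (.node (.leaf 4952185110571) (.leaf 5394509398058)) (.node (.leaf 4612903862286) (.leaf 3646451351583)))) (.node (.node (.node (.leaf 8933642403873) (.leaf 7894276571204)) (.node (.leaf 9028040785954) (.leaf 6051625172998))) (.node (.node (.leaf 5901390905376) (.leaf 7340107235363)) (.node (.leaf 5403127316536) (.leaf 4415252070442)))))))) (.node (.node (.node (.node (.node (.node (.node (.leaf 2156204720160) (.leaf 7950042267704)) (.node (.leaf 6081763868715) (.leaf 8366692958238))) (.node (.node (.leaf 7237041782810) (.leaf 7181188005922)) (.node (.leaf 5759567003683) (.leaf 4337920180275)))) (.node (.node (.node (.leaf 8186259832887) (.leaf 708724391977)) (.node (.leaf 4118894084126) (.leaf 3173985943580))) (.node (.node (.leaf 1125295915047) (.leaf 867588505664)) (.node (.leaf 575525617665) (.leaf 5420339036163))))) (.node (.node (.node (.node (.leaf 3332903600132) (.leaf 8065956118531)) (.node (.leaf 704494108696) (.leaf 4312150704156))) (.node (.node (.leaf 476767125549) (.leaf 8113322786849)) (.node (.leaf 5038008107070) (.leaf 6906384416786)))) (.node (.node (.node (.leaf 1653567062065) (.leaf 6210618523651)) (.node (.leaf 3955800866842) (.leaf 2542656684070))) (.node (.node (.leaf 4690137907245) (.leaf 1709433749565)) (.node (.leaf 7035160559667) (.leaf 6597070422044)))))) (.node (.node (.node (.node (.node (.leaf 5111030022167) (.leaf 3796856340510)) (.node (.leaf 3577787514950) (.leaf 6657253703722))) (.node (.node (.leaf 1288526233620) (.leaf 962191753235)) (.node (.leaf 4681620062234) (.leaf 1984370835482)))) (.node (.node (.node (.leaf 2993603215380) (.leaf 3444626292740)) (.node (.leaf 7614980227094) (.leaf 6116085858355))) (.node (.node (.leaf 764578562062) (.leaf 304957358101)) (.node (.leaf 2834791530499) (.leaf 7219911393332))))) (.node (.node (.node (.node (.leaf 274996658244) (.leaf 1666467627048)) (.node (.leaf 2753138720800) (.leaf 214750003258))) (.node (.node (.leaf 1872630448165) (.leaf 206161903675)) (.node (.leaf 4685900546116) (.leaf 4449711882308)))) (.node (.node (.node (.leaf 1919861915672) (.leaf 6176198099002)) (.node (.leaf 6322200903687) (.leaf 3899955413003))) (.node (.node (.leaf 816075243583) (.leaf 7795422855175)) (.node (.leaf 476756115475) (.leaf 309263400981))))))) (.node (.node (.node (.node (.node (.node (.leaf 897698758712) (.leaf 1507563601972)) (.node (.leaf 3865481707587) (.leaf 2366653661252))) (.node (.node (.leaf 1490387730473) (.leaf 7030900457528)) (.node (.leaf 7602148409410) (.leaf 3813964775464)))) (.node (.node (.node (.leaf 8611411853334) (.leaf 2078784094271)) (.node (.leaf 309318713388) (.leaf 2632856043544))) (.node (.node (.leaf 8164867637280) (.leaf 2212006199328)) (.node (.leaf 2680108286007) (.leaf 1357281230898))))) (.node (.node (.node (.node (.leaf 1739496357949) (.leaf 2568430223384)) (.node (.leaf 2267770191902) (.leaf 8534223290387))) (.node (.node (.leaf 3139638853671) (.leaf 1172531183644)) (.node (.leaf 3496117862439) (.leaf 949192884288)))) (.node (.node (.node (.leaf 2705829396481) (.leaf 4548424826887)) (.node (.leaf 2692957143054) (.leaf 4492546736162))) (.node (.node (.leaf 3431716880408) (.leaf 5093845434421)) (.node (.leaf 6829134250008) (.leaf 4333662961668)))))) (.node (.node (.node (.node (.node (.leaf 8108963659839) (.leaf 4849078960178)) (.node (.leaf 4522611900472) (.leaf 5660852486188))) (.node (.node (.leaf 4462517092385) (.leaf 9242842038278)) (.node (.leaf 1842663063589) (.leaf 8894880612359)))) (.node (.node (.node (.leaf 5669443272707) (.leaf 3113873637387)) (.node (.leaf 3204144168964) (.leaf 403754385442))) (.node (.node (.leaf 7593527017533) (.leaf 8950783606842)) (.node (.leaf 6871980245013) (.leaf 6983737212958))))) (.node (.node (.node (.node (.leaf 8710255214596) (.leaf 665732644876)) (.node (.leaf 1760982532130) (.leaf 214764355647))) (.node (.node (.leaf 8847738077216) (.leaf 3715161456703)) (.node (.leaf 1142523166761) (.leaf 1121024344074)))) (.node (.node (.node (.leaf 141773570092) (.leaf 4703021826062)) (.node (.leaf 1958542901286) (.leaf 4715936022596))) (.node (.node (.leaf 7013748113429) (.leaf 2817550319648)) (.node (.leaf 1121020280844) (.leaf 8590032764933))))))))))) (.node (.node (.node (.node (.node (.node (.node (.node (.node (.node (.leaf 6433901379599) (.leaf 4741764743171)) (.node (.leaf 7507617447994) (.leaf 2070186819639))) (.node (.node (.leaf 5690895630352) (.leaf 8688749117500)) (.node (.leaf 687229894664) (.leaf 6030215807019)))) (.node (.node (.node (.leaf 2366530584614) (.leaf 8980790312969)) (.node (.leaf 3221280784443) (.leaf 2190456258611))) (.node (.node (.leaf 5008025190433) (.leaf 2366534058035)) (.node (.leaf 4093129195573) (.leaf 8830462066747))))) (.node (.node (.node (.node (.leaf 7426100625440) (.leaf 8950847897630)) (.node (.leaf 1322865983523) (.leaf 3573439594546))) (.node (.node (.leaf 6116077928478) (.leaf 3448873877549)) (.node (.leaf 751731212341) (.leaf 7679463194650)))) (.node (.node (.node (.leaf 5806911062021) (.leaf 5798226755594)) (.node (.leaf 4612837670964) (.leaf 8621654045))) (.node (.node (.leaf 3878400032823) (.leaf 7932828123143)) (.node (.leaf 6309408538668) (.leaf 2422370992199)))))) (.node (.node (.node (.node (.node (.leaf 1915569897511) (.leaf 1640682618944)) (.node (.leaf 893353197569) (.leaf 4548439769093))) (.node (.node (.leaf 3934205116427) (.leaf 64)) (.node (.leaf 6876325544004) (.leaf 4995122987028)))) (.node (.node (.node (.leaf 9178413924412) (.leaf 8813341048858)) (.node (.leaf 1842567577663) (.leaf 575547768866))) (.node (.node (.leaf 8727465754656) (.leaf 3904154304581)) (.node (.leaf 6201964429378) (.leaf 8521314598916))))) (.node (.node (.node (.node (.leaf 1318688981022) (.leaf 768832110605)) (.node (.leaf 6004450525208) (.leaf 6910651203629))) (.node (.node (.leaf 6219173199877) (.leaf 2014339727394)) (.node (.leaf 1949976231962) (.leaf 5647894708274)))) (.node (.node (.node (.leaf 3951490564120) (.leaf 1979996831803)) (.node (.leaf 4608532414489) (.leaf 171855970338))) (.node (.node (.leaf 8010164862997) (.leaf 4368112287747)) (.node (.leaf 4810406232113) (.leaf 8740268867611))))))) (.node (.node (.node (.node (.node (.node (.leaf 7275695964210) (.leaf 3646491918360)) (.node (.leaf 3955788087328) (.leaf 8624359342127))) (.node (.node (.leaf 3491848716336) (.leaf 7361642823736)) (.node (.leaf 2705845256226) (.leaf 8860569305120)))) (.node (.node (.node (.leaf 519696875566) (.leaf 8718904655875)) (.node (.leaf 7361580236809) (.leaf 2791818133523))) (.node (.node (.leaf 8276458536986) (.leaf 6068855504951)) (.node (.leaf 3689431826495) (.leaf 3839748931619))))) (.node (.node (.node (.node (.leaf 7533426180113) (.leaf 4187628961826)) (.node (.leaf 468220706823) (.leaf 476780560388))) (.node (.node (.leaf 1189744738340) (.leaf 8998081855512)) (.node (.leaf 3904162103351) (.leaf 7692369395765)))) (.node (.node (.node (.leaf 4093112221751) (.leaf 1451725160481)) (.node (.leaf 3530475503626) (.leaf 3294328651780))) (.node (.node (.leaf 7885574766613) (.leaf 4449646739506)) (.node (.leaf 2465373749293) (.leaf 2461149364228)))))) (.node (.node (.node (.node (.node (.leaf 5072381673519) (.leaf 5673668968494)) (.node (.leaf 4217719423037) (.leaf 249145131021))) (.node (.node (.leaf 7129688178750) (.leaf 8641970199)) (.node (.leaf 944957947956) (.leaf 7872811237408)))) (.node (.node (.node (.leaf 4836156833812) (.leaf 6485405532224)) (.node (.leaf 1155360686119) (.leaf 1155351314496))) (.node (.node (.leaf 60129542145) (.leaf 541242359810)) (.node (.leaf 5390184022025) (.leaf 1627799093279))))) (.node (.node (.node (.node (.leaf 2512648142866) (.leaf 6829083066433)) (.node (.leaf 7219866304516) (.leaf 1039395979279))) (.node (.node (.leaf 1859724771359) (.leaf 6859072339969)) (.node (.leaf 1835051) (.leaf 3612076539914)))) (.node (.node (.node (.leaf 5428905574408) (.leaf 6966499672072)) (.node (.leaf 330713727016) (.leaf 4247731568650))) (.node (.node (.leaf 330766024744) (.leaf 781744734216)) (.node (.leaf 7146868179012) (.leaf 7271475445817)))))))) (.node (.node (.node (.node (.node (.node (.node (.leaf 4196256120866) (.leaf 5364554334227)) (.node (.leaf 5042347114541) (.leaf 8065984036902))) (.node (.node (.leaf 4067339599920) (.leaf 4990826119218)) (.node (.leaf 1327240970243) (.leaf 6554137198612)))) (.node (.node (.node (.leaf 4990787518489) (.leaf 6313618636837)) (.node (.leaf 4432543744003) (.leaf 4080291938365))) (.node (.node (.leaf 4990754684960) (.leaf 6575598600205)) (.node (.leaf 6262066249793) (.leaf 8422507151414))))) (.node (.node (.node (.node (.leaf 7288581455931) (.leaf 3685154226199)) (.node (.leaf 8065951268902) (.leaf 3685146427415))) (.node (.node (.leaf 1924151246884) (.leaf 167544487943)) (.node (.leaf 6416715939848) (.leaf 2126012219396)))) (.node (.node (.node (.leaf 6094580023338) (.leaf 4625729060905)) (.node (.leaf 7048123711502) (.leaf 4080238985271))) (.node (.node (.leaf 4080288661559) (.leaf 7215556984841)) (.node (.leaf 5991484555299) (.leaf 7271416922154)))))) (.node (.node (.node (.node (.node (.leaf 6829080641566) (.leaf 5935688122402)) (.node (.leaf 5604992811069) (.leaf 5102509228085))) (.node (.node (.leaf 6872030314522) (.leaf 7919958622275)) (.node (.leaf 347895627792) (.leaf 6725927370796)))) (.node (.node (.node (.leaf 4990754553881) (.leaf 8422526484534)) (.node (.leaf 5102446837792) (.leaf 5364534870035))) (.node (.node (.leaf 4625714708506) (.leaf 7215594078217)) (.node (.leaf 4776023490615) (.leaf 2946426667022))))) (.node (.node (.node (.node (.leaf 1782437707799) (.leaf 2864779493382)) (.node (.leaf 3332911136804) (.leaf 7662263140400))) (.node (.node (.leaf 4612809359399) (.leaf 3556238032960)) (.node (.leaf 8589934593) (.leaf 2130303844353)))) (.node (.node (.node (.leaf 3466038738946) (.leaf 996445323270)) (.node (.leaf 2126065106954) (.leaf 4432406315011))) (.node (.node (.leaf 4548401168390) (.leaf 2834694406153)) (.node (.leaf 4432437051402) (.leaf 115966017545))))))) (.node (.node (.node (.node (.node (.node (.leaf 3569148624904) (.leaf 3135404572676)) (.node (.leaf 4651505877008) (.leaf 2684375269390))) (.node (.node (.leaf 4651451482129) (.leaf 1043680919564)) (.node (.leaf 8993702543375) (.leaf 4651451482126)))) (.node (.node (.node (.leaf 3959981801476) (.leaf 3745318109238)) (.node (.leaf 69468215) (.leaf 6871988961302))) (.node (.node (.leaf 69468201) (.leaf 6811820425232)) (.node (.leaf 3925670952968) (.leaf 69468220))))) (.node (.node (.node (.node (.leaf 69468216) (.leaf 8117526724665)) (.node (.leaf 4990819696680) (.leaf 8066009989123))) (.node (.node (.leaf 69468212) (.leaf 3809689927699)) (.node (.leaf 4879117254680) (.leaf 69468198)))) (.node (.node (.node (.leaf 7894239412261) (.leaf 1649289658380)) (.node (.leaf 4947885752350) (.leaf 6988000985091))) (.node (.node (.leaf 7267134341144) (.leaf 69468205)) (.node (.leaf 4990815043587) (.leaf 3569221500958)))))) (.node (.node (.node (.node (.node (.leaf 69468184) (.leaf 3917044711428)) (.node (.leaf 8615791427589) (.leaf 249171083269))) (.node (.node (.leaf 6279274037313) (.leaf 6120374206517)) (.node (.leaf 1559156555802) (.leaf 7645045588018)))) (.node (.node (.node (.leaf 69468192) (.leaf 4965001592847)) (.node (.leaf 7391732301855) (.leaf 8065988362302))) (.node (.node (.leaf 9156897210405) (.leaf 4432421519386)) (.node (.leaf 2383791259685) (.leaf 69468223))))) (.node (.node (.node (.node (.leaf 8066016280605) (.leaf 682983292942)) (.node (.leaf 4578443132952) (.leaf 2680065491008))) (.node (.node (.leaf 69468207) (.leaf 7271389462555)) (.node (.leaf 3753868984325) (.leaf 9156925128721)))) (.node (.node (.node (.leaf 6537014149126) (.leaf 6747413348359)) (.node (.leaf 5755299037215) (.leaf 476799172653))) (.node (.node (.leaf 8731734835260) (.leaf 5158328729642)) (.node (.leaf 3616376946727) (.leaf 4728764104768))))))))) (.node (.node (.node (.node (.node (.node (.node (.node (.leaf 111669149697) (.leaf 2632815804417)) (.node (.leaf 2010045546505) (.leaf 51576842))) (.node (.node (.leaf 2924914343943) (.leaf 40173576)) (.node (.leaf 2010109444103) (.leaf 7215678095364)))) (.node (.node (.node (.leaf 6829074546693) (.leaf 8766031593481)) (.node (.leaf 7086780186627) (.leaf 2211914711052))) (.node (.node (.leaf 4651450433550) (.leaf 4642904145924)) (.node (.leaf 511159435275) (.leaf 6919223509005))))) (.node (.node (.node (.node (.leaf 4651514331153) (.leaf 777518186500)) (.node (.leaf 40173598) (.leaf 7271421181983))) (.node (.node (.leaf 3753802072069) (.leaf 7271394705435)) (.node (.leaf 51576858) (.leaf 51576861)))) (.node (.node (.node (.leaf 7271399227395) (.leaf 8864836812828)) (.node (.leaf 403864682529) (.leaf 7013712068644))) (.node (.node (.leaf 51576864) (.leaf 2621473)) (.node (.leaf 618586701843) (.leaf 2621474)))))) (.node (.node (.node (.node (.node (.leaf 2621465) (.leaf 40173591)) (.node (.leaf 40173587) (.leaf 3749511233556))) (.node (.node (.leaf 2621461) (.leaf 4166202949646)) (.node (.leaf 6811882684432) (.leaf 6988001050627)))) (.node (.node (.node (.leaf 2621490) (.leaf 6987996069925)) (.node (.leaf 7271419871283) (.leaf 3569184276485))) (.node (.node (.leaf 6335080562695) (.leaf 579911680022)) (.node (.leaf 6592811302925) (.leaf 1559153868826))))) (.node (.node (.node (.node (.leaf 5544830500902) (.leaf 9156875190289)) (.node (.leaf 51576892) (.leaf 7507608928277))) (.node (.node (.leaf 2465357234211) (.leaf 3036554264581)) (.node (.leaf 4492601458722) (.leaf 2491096498240)))) (.node (.node (.node (.leaf 5098128211999) (.leaf 2357941764101)) (.node (.leaf 51576870) (.leaf 3002189611047))) (.node (.node (.leaf 4990790336552) (.leaf 330802397196)) (.node (.leaf 5467498020912) (.leaf 4947923173406))))))) (.node (.node (.node (.node (.node (.node (.leaf 5102498021379) (.leaf 31719429)) (.node (.leaf 7675146993724) (.leaf 51576900))) (.node (.node (.leaf 5398786801711) (.leaf 1155350265917)) (.node (.leaf 6421052129324) (.leaf 5776738746422)))) (.node (.node (.node (.leaf 1876915191847) (.leaf 154623934528)) (.node (.leaf 2727304232961) (.leaf 7426069561353))) (.node (.node (.leaf 4672956858383) (.leaf 1834057269280)) (.node (.leaf 1486081294368) (.leaf 5295834988570))))) (.node (.node (.node (.node (.leaf 5845456977932) (.leaf 1855500124164)) (.node (.leaf 7954352439320) (.leaf 7683767599110))) (.node (.node (.leaf 7937154809924) (.leaf 1567733055504)) (.node (.leaf 532588331033) (.leaf 708801396740)))) (.node (.node (.node (.leaf 8160442253364) (.leaf 7258509475853)) (.node (.leaf 558364426245) (.leaf 158978408452))) (.node (.node (.leaf 1851141390370) (.leaf 3921315168291)) (.node (.leaf 2662958759960) (.leaf 6987932958750)))))) (.node (.node (.node (.node (.node (.leaf 962108391481) (.leaf 1563439923238)) (.node (.leaf 6343703396407) (.leaf 5622146400306))) (.node (.node (.leaf 4033099923468) (.leaf 6549865955379)) (.node (.leaf 6128927375418) (.leaf 3766753624077)))) (.node (.node (.node (.leaf 4247810277398) (.leaf 8104663253034)) (.node (.leaf 8383788285987) (.leaf 8821891137550))) (.node (.node (.leaf 6012974858248) (.leaf 8658711740419)) (.node (.leaf 5248515833915) (.leaf 1597762109478))))) (.node (.node (.node (.node (.leaf 2276346560574) (.leaf 579856105531)) (.node (.leaf 1254165184547) (.leaf 1121057701922))) (.node (.node (.leaf 180498792472) (.leaf 8873538551827)) (.node (.leaf 5287124729919) (.leaf 6459686453277)))) (.node (.node (.node (.leaf 7142531792936) (.leaf 5102443233305)) (.node (.leaf 1941346779191) (.leaf 5510469648429))) (.node (.node (.leaf 8194808938517) (.leaf 3698044698650)) (.node (.leaf 1859764289567) (.leaf 1984303792134)))))))) (.node (.node (.node (.node (.node (.node (.node (.leaf 7967256477726) (.leaf 2847604604996)) (.node (.leaf 7606397042725) (.leaf 5368745951281))) (.node (.node (.leaf 3702370336772) (.leaf 2564112842772)) (.node (.leaf 184707842051) (.leaf 2220564086790)))) (.node (.node (.node (.leaf 17233084441) (.leaf 6279349075987)) (.node (.leaf 3285709946906) (.leaf 794621771839))) (.node (.node (.leaf 1340048277566) (.leaf 8624332275757)) (.node (.leaf 7597864517688) (.leaf 786033803305))))) (.node (.node (.node (.node (.leaf 7078121111588) (.leaf 7533412548674)) (.node (.leaf 3453168189479) (.leaf 2911992938560))) (.node (.node (.leaf 901943132161) (.leaf 8714559750153)) (.node (.leaf 21507276815) (.leaf 180449509395)))) (.node (.node (.node (.leaf 5501952524345) (.leaf 6468263673894)) (.node (.leaf 7834073301008) (.leaf 274996723716))) (.node (.node (.leaf 7876994400277) (.leaf 6721694924806)) (.node (.leaf 975041593363) (.leaf 5347277799466)))))) (.node (.node (.node (.node (.node (.leaf 2860475154466) (.leaf 5957135826984)) (.node (.leaf 1430340304964) (.leaf 3500423839752))) (.node (.node (.leaf 5063792263199) (.leaf 9156926570542)) (.node (.leaf 2439607025671) (.leaf 6798944698387)))) (.node (.node (.node (.leaf 2306401894433) (.leaf 8826174636099)) (.node (.leaf 3882791731230) (.leaf 7554858614794))) (.node (.node (.leaf 3165454336021) (.leaf 1507599777851)) (.node (.leaf 6433923072034) (.leaf 6189071925266))))) (.node (.node (.node (.node (.leaf 1335778017346) (.leaf 2276366090298)) (.node (.leaf 8946432016425) (.leaf 966453100588))) (.node (.node (.leaf 6137618235449) (.leaf 8302254620690)) (.node (.leaf 5025152041010) (.leaf 8658706956349)))) (.node (.node (.node (.leaf 5154008727609) (.leaf 1499001061400)) (.node (.leaf 7580643557441) (.leaf 4926349377566))) (.node (.node (.leaf 7645073440796) (.leaf 7911407747141)) (.node (.leaf 180509933571) (.leaf 2242027323427))))))) (.node (.node (.node (.node (.node (.node (.leaf 1318629736502) (.leaf 4849020043300)) (.node (.leaf 5184102137868) (.leaf 1705143042090))) (.node (.node (.leaf 6326487482421) (.leaf 8907867226142)) (.node (.leaf 3629247955002) (.leaf 6571320737860)))) (.node (.node (.node (.leaf 6829118586883) (.leaf 6322260344867)) (.node (.leaf 5115352186886) (.leaf 4544113606708))) (.node (.node (.leaf 6872026382339) (.leaf 4685863190575)) (.node (.leaf 8611480600644) (.leaf 6408111456315))))) (.node (.node (.node (.node (.leaf 4505520963608) (.leaf 2856221605918)) (.node (.leaf 5248457572360) (.leaf 5016555814928))) (.node (.node (.leaf 4372278083655) (.leaf 1821100802104)) (.node (.leaf 8134703710256) (.leaf 1782428336165)))) (.node (.node (.node (.leaf 2650010091549) (.leaf 8650143563795)) (.node (.leaf 4097400897603) (.leaf 4020105904176))) (.node (.node (.leaf 4204787466279) (.leaf 2340762288192)) (.node (.leaf 3822520893441) (.leaf 7735237738498)))))) (.node (.node (.node (.node (.node (.leaf 5643637227533) (.leaf 65)) (.node (.leaf 2031559704591) (.leaf 7241395863556))) (.node (.node (.leaf 5420276514827) (.leaf 7086787199019)) (.node (.leaf 7391716704287) (.leaf 4767506300932)))) (.node (.node (.node (.leaf 7086823112747) (.leaf 3491814965262)) (.node (.leaf 4002918825986) (.leaf 3792457760774))) (.node (.node (.leaf 133179506700) (.leaf 3792499441670)) (.node (.leaf 7997323411489) (.leaf 6575732949025))))) (.node (.node (.node (.node (.leaf 7013722423341) (.leaf 7271395491859)) (.node (.leaf 111698903078) (.leaf 2594204614709))) (.node (.node (.leaf 7048103198762) (.leaf 4222014586931)) (.node (.leaf 7271409188898) (.leaf 8516960124994)))) (.node (.node (.node (.leaf 111670198310) (.leaf 257707343908)) (.node (.leaf 1666457731128) (.leaf 1670789267508))) (.node (.node (.leaf 6987924504597) (.leaf 7271380484130)) (.node (.leaf 111729901606) (.leaf 6987962122261)))))))))) (.node (.node (.node (.node (.node (.node (.node (.node (.node (.leaf 257741160484) (.leaf 4939216322626)) (.node (.leaf 7271440777250) (.leaf 7013746475053))) (.node (.node (.leaf 8066053242910) (.leaf 4256358989869)) (.node (.leaf 1400271732740) (.leaf 7421744381966)))) (.node (.node (.node (.leaf 3234182463556) (.leaf 7086702526513)) (.node (.leaf 6893429915689) (.leaf 4415293620257))) (.node (.node (.leaf 6713110233145) (.leaf 5501865164846)) (.node (.leaf 7533374865415) (.leaf 6945043054597))))) (.node (.node (.node (.node (.leaf 5781136343045) (.leaf 8066083389470)) (.node (.leaf 2783161155618) (.leaf 6399637389317))) (.node (.node (.leaf 1670804013117) (.leaf 6614326575130)) (.node (.leaf 6717382852615) (.leaf 8315057799182)))) (.node (.node (.node (.leaf 7537667997720) (.leaf 5635087204382)) (.node (.leaf 8066061631518) (.leaf 2658623553568))) (.node (.node (.leaf 5940058718273) (.leaf 5708051185726)) (.node (.leaf 6399609339909) (.leaf 7086801354795)))))) (.node (.node (.node (.node (.node (.leaf 4131861692451) (.leaf 4304535579)) (.node (.leaf 8023054352407) (.leaf 5553416241159))) (.node (.node (.leaf 3315800670228) (.leaf 4591421816875)) (.node (.leaf 133158469671) (.leaf 3745216593984)))) (.node (.node (.node (.leaf 1189705940993) (.leaf 7391640354818)) (.node (.leaf 9079611064333) (.leaf 8598526623755))) (.node (.node (.leaf 4767503417348) (.leaf 6829006913554)) (.node (.leaf 1511967883268) (.leaf 3397341085727))))) (.node (.node (.node (.node (.leaf 7048076460043) (.leaf 3466131210244)) (.node (.leaf 7241448751108) (.leaf 4784594812930))) (.node (.node (.leaf 4058745798667) (.leaf 2156201705476)) (.node (.leaf 1803887247362) (.leaf 2765996097543)))) (.node (.node (.node (.leaf 438098853899) (.leaf 588491259947)) (.node (.leaf 7486128586812) (.leaf 7658046947381))) (.node (.node (.leaf 1666447507512) (.leaf 7271396540437)) (.node (.leaf 5467507851325) (.leaf 4366729283))))))) (.node (.node (.node (.node (.node (.node (.leaf 257699479588) (.leaf 7889888215098)) (.node (.leaf 8516947345474) (.leaf 7658012082229))) (.node (.node (.leaf 5467499593789) (.leaf 7013722751021)) (.node (.leaf 4310564931) (.leaf 2594210381877)))) (.node (.node (.node (.leaf 4990773231658) (.leaf 7486135468092)) (.node (.leaf 7271394705429) (.leaf 5467510800445))) (.node (.node (.leaf 7271411351571) (.leaf 3959971315779)) (.node (.leaf 5781136801797) (.leaf 5385986768901))))) (.node (.node (.node (.node (.leaf 7537714200600) (.leaf 5635018719262)) (.node (.leaf 4990865047578) (.leaf 111736455218))) (.node (.node (.leaf 6987955109914) (.leaf 6227786137668)) (.node (.leaf 4733117726733) (.leaf 6451076857880)))) (.node (.node (.node (.leaf 5544811102241) (.leaf 1382998868030)) (.node (.leaf 4990878744602) (.leaf 7537684316184))) (.node (.node (.leaf 5166968864836) (.leaf 7486203953172)) (.node (.leaf 6262198894618) (.leaf 2173320691737)))))) (.node (.node (.node (.node (.node (.leaf 7937179385924) (.leaf 5386009837573)) (.node (.leaf 4990848008218) (.leaf 3049438117911))) (.node (.node (.leaf 3234153955396) (.leaf 5166945861700)) (.node (.leaf 8065951203376) (.leaf 6451077054488)))) (.node (.node (.node (.leaf 1670778716221) (.leaf 6829089095685)) (.node (.leaf 3994327711794) (.leaf 261993332785))) (.node (.node (.leaf 6721705017401) (.leaf 1421763149856)) (.node (.leaf 3685086986258) (.leaf 3002185285654))))) (.node (.node (.node (.node (.leaf 3856895115303) (.leaf 893358309440)) (.node (.leaf 1632087572481) (.leaf 5613545127938))) (.node (.node (.leaf 7610698366977) (.leaf 6829020872715)) (.node (.leaf 6867655721003) (.leaf 1975747608580)))) (.node (.node (.node (.leaf 1859726409729) (.leaf 6970809385025)) (.node (.leaf 8899178594319) (.leaf 8680152694786))) (.node (.node (.leaf 6674398117903) (.leaf 5918526078982)) (.node (.leaf 5927065157638) (.leaf 6575597617185)))))))) (.node (.node (.node (.node (.node (.node (.node (.leaf 2147554033668) (.leaf 253405954091)) (.node (.leaf 3212718178316) (.leaf 4788936245252))) (.node (.node (.leaf 6829050036229) (.leaf 5351632535621)) (.node (.leaf 5166850310212) (.leaf 223370543166)))) (.node (.node (.node (.leaf 3569155964935) (.leaf 8809003548710)) (.node (.leaf 7537764728856) (.leaf 7645155164192))) (.node (.node (.leaf 7726705672222) (.leaf 6197638463515)) (.node (.leaf 5025189331001) (.leaf 5781093285893))))) (.node (.node (.node (.node (.leaf 7241354706948) (.leaf 1017945718787)) (.node (.leaf 3234213265476) (.leaf 3792507109383))) (.node (.node (.leaf 846242119683) (.leaf 6614275784730)) (.node (.leaf 5635026124830) (.leaf 579867443256)))) (.node (.node (.node (.leaf 1176834408499) (.leaf 1786760921133)) (.node (.leaf 4990776770602) (.leaf 2989330333762))) (.node (.node (.leaf 639960154161) (.leaf 6829025722373)) (.node (.leaf 605701406777) (.leaf 7421791371278)))))) (.node (.node (.node (.node (.node (.leaf 2688780075076) (.leaf 3792527949831)) (.node (.leaf 6614278668314) (.leaf 7009401045035))) (.node (.node (.leaf 6223420915725) (.leaf 2594268315701)) (.node (.leaf 1176853872691) (.leaf 7353025167422)))) (.node (.node (.node (.leaf 837564694534) (.leaf 4333626916922)) (.node (.leaf 6017263665210) (.leaf 7271455326227))) (.node (.node (.leaf 5939982368833) (.leaf 4415315116065)) (.node (.leaf 5901335593016) (.leaf 2989325221954))))) (.node (.node (.node (.node (.leaf 6262121365530) (.leaf 8809008529431)) (.node (.leaf 2783183962146) (.leaf 257717436457))) (.node (.node (.leaf 8323758292996) (.leaf 8542751817749)) (.node (.leaf 7271383892036) (.leaf 4694442115106)))) (.node (.node (.node (.leaf 6296468652095) (.leaf 803291463706)) (.node (.leaf 4776018116647) (.leaf 4256317702208))) (.node (.node (.leaf 463856467969) (.leaf 6846200741890)) (.node (.leaf 5553402937345) (.leaf 5098163535903))))))) (.node (.node (.node (.node (.node (.node (.leaf 5214177329217) (.leaf 6219141873679)) (.node (.leaf 7091033079817) (.leaf 8276482981906))) (.node (.node (.leaf 4054486286349) (.leaf 5162560978945)) (.node (.leaf 4093122052109) (.leaf 7215618260999)))) (.node (.node (.node (.leaf 3448924405764) (.leaf 2005772206098)) (.node (.leaf 6983648935943) (.leaf 7997269999649))) (.node (.node (.leaf 3212715687938) (.leaf 7198426464263)) (.node (.leaf 6829040205832) (.leaf 2491210203155))))) (.node (.node (.node (.node (.leaf 2658663923744) (.leaf 6451170902040)) (.node (.leaf 7937159462980) (.leaf 5544899248161))) (.node (.node (.leaf 8065989214238) (.leaf 8869177720882)) (.node (.leaf 6987958583341) (.leaf 2688757071940)))) (.node (.node (.node (.leaf 6713067175993) (.leaf 8065955725342)) (.node (.leaf 6274984574982) (.leaf 2658659467296))) (.node (.node (.leaf 8065984233502) (.leaf 2452426915888)) (.node (.leaf 3083904548897) (.leaf 8869148688409)))))) (.node (.node (.node (.node (.node (.leaf 6987965464621) (.leaf 6988044238874)) (.node (.leaf 7090996838467) (.leaf 7091023708227))) (.node (.node (.leaf 4990756126758) (.leaf 111691431974)) (.node (.leaf 837545099270) (.leaf 6275006464006)))) (.node (.node (.node (.leaf 257711472681) (.leaf 7726694596638)) (.node (.leaf 5781060255790) (.leaf 5544934834209))) (.node (.node (.leaf 5102453260349) (.leaf 6829031424005)) (.node (.leaf 257723269161) (.leaf 7657936126005))))) (.node (.node (.node (.node (.leaf 8933561466932) (.leaf 2688765919300)) (.node (.leaf 3423132385296) (.leaf 4990758354986))) (.node (.node (.leaf 5901314555960) (.leaf 180436992034)) (.node (.leaf 2194823577665) (.leaf 6227747209284)))) (.node (.node (.node (.leaf 2491148468285) (.leaf 2491089354813)) (.node (.leaf 8869171626009) (.leaf 7726695055390))) (.node (.node (.leaf 1017918586883) (.leaf 7645173776416)) (.node (.leaf 6829033324600) (.leaf 7086837399556))))))))) (.node (.node (.node (.node (.node (.node (.node (.node (.leaf 6532737531935) (.leaf 8628716568609)) (.node (.leaf 1851263483934) (.leaf 7086705213487))) (.node (.node (.leaf 2267757215783) (.leaf 4290677440576)) (.node (.leaf 0) (.leaf 0)))) (.node (.node (.node (.leaf 0) (.leaf 0)) (.node (.leaf 0) (.leaf 0))) (.node (.node (.leaf 0) (.leaf 0)) (.node (.leaf 0) (.leaf 0))))) (.node (.node (.node (.node (.leaf 0) (.leaf 0)) (.node (.leaf 0) (.leaf 0))) (.node (.node (.leaf 0) (.leaf 0)) (.node (.leaf 0) (.leaf 0)))) (.node (.node (.node (.leaf 0) (.leaf 0)) (.node (.leaf 0) (.leaf 0))) (.node (.node (.leaf 0) (.leaf 0)) (.node (.leaf 0) (.leaf 0)))))) (.node (.node (.node (.node (.node (.leaf 0) (.leaf 0)) (.node (.leaf 0) (.leaf 0))) (.node (.node (.leaf 0) (.leaf 0)) (.node (.leaf 0) (.leaf 0)))) (.node (.node (.node (.leaf 0) (.leaf 0)) (.node (.leaf 0) (.leaf 0))) (.node (.node (.leaf 0) (.leaf 0)) (.node (.leaf 0) (.leaf 0))))) (.node (.node (.node (.node (.leaf 0) (.leaf 0)) (.node (.leaf 0) (.leaf 0))) (.node (.node (.leaf 0) (.leaf 0)) (.node (.leaf 0) (.leaf 0)))) (.node (.node (.node (.leaf 0) (.leaf 0)) (.node (.leaf 0) (.leaf 0))) (.node (.node (.leaf 0) (.leaf 0)) (.node (.leaf 0) (.leaf 0))))))) (.node (.node (.node (.node (.node (.node (.leaf 0) (.leaf 0)) (.node (.leaf 0) (.leaf 0))) (.node (.node (.leaf 0) (.leaf 0)) (.node (.leaf 0) (.leaf 0)))) (.node (.node (.node (.leaf 0) (.leaf 0)) (.node (.leaf 0) (.leaf 0))) (.node (.node (.leaf 0) (.leaf 0)) (.node (.leaf 0) (.leaf 0))))) (.node (.node (.node (.node (.leaf 0) (.leaf 0)) (.node (.leaf 0) (.leaf 0))) (.node (.node (.leaf 0) (.leaf 0)) (.node (.leaf 0) (.leaf 0)))) (.node (.node (.node (.leaf 0) (.leaf 0)) (.node (.leaf 0) (.leaf 0))) (.node (.node (.leaf 0) (.leaf 0)) (.node (.leaf 0) (.leaf 0)))))) (.node (.node (.node (.node (.node (.leaf 0) (.leaf 0)) (.node (.leaf 0) (.leaf 0))) (.node (.node (.leaf 0) (.leaf 0)) (.node (.leaf 0) (.leaf 0)))) (.node (.node (.node (.leaf 0) (.leaf 0)) (.node (.leaf 0) (.leaf 0))) (.node (.node (.leaf 0) (.leaf 0)) (.node (.leaf 0) (.leaf 0))))) (.node (.node (.node (.node (.leaf 0) (.leaf 0)) (.node (.leaf 0) (.leaf 0))) (.node (.node (.leaf 0) (.leaf 0)) (.node (.leaf 0) (.leaf 0)))) (.node (.node (.node (.leaf 0) (.leaf 0)) (.node (.leaf 0) (.leaf 0))) (.node (.node (.leaf 0) (.leaf 0)) (.node (.leaf 0) (.leaf 0)))))))) (.node (.node (.node (.node (.node (.node (.node (.leaf 0) (.leaf 0)) (.node (.leaf 0) (.leaf 0))) (.node (.node (.leaf 0) (.leaf 0)) (.node (.leaf 0) (.leaf 0)))) (.node (.node (.node (.leaf 0) (.leaf 0)) (.node (.leaf 0) (.leaf 0))) (.node (.node (.leaf 0) (.leaf 0)) (.node (.leaf 0) (.leaf 0))))) (.node (.node (.node (.node (.leaf 0) (.leaf 0)) (.node (.leaf 0) (.leaf 0))) (.node (.node (.leaf 0) (.leaf 0)) (.node (.leaf 0) (.leaf 0)))) (.node (.node (.node (.leaf 0) (.leaf 0)) (.node (.leaf 0) (.leaf 0))) (.node (.node (.leaf 0) (.leaf 0)) (.node (.leaf 0) (.leaf 0)))))) (.node (.node (.node (.node (.node (.leaf 0) (.leaf 0)) (.node (.leaf 0) (.leaf 0))) (.node (.node (.leaf 0) (.leaf 0)) (.node (.leaf 0) (.leaf 0)))) (.node (.node (.node (.leaf 0) (.leaf 0)) (.node (.leaf 0) (.leaf 0))) (.node (.node (.leaf 0) (.leaf 0)) (.node (.leaf 0) (.leaf 0))))) (.node (.node (.node (.node (.leaf 0) (.leaf 0)) (.node (.leaf 0) (.leaf 0))) (.node (.node (.leaf 0) (.leaf 0)) (.node (.leaf 0) (.leaf 0)))) (.node (.node (.node (.leaf 0) (.leaf 0)) (.node (.leaf 0) (.leaf 0))) (.node (.node (.leaf 0) (.leaf 0)) (.node (.leaf 0) (.leaf 0))))))) (.node (.node (.node (.node (.node (.node (.leaf 0) (.leaf 0)) (.node (.leaf 0) (.leaf 0))) (.node (.node (.leaf 0) (.leaf 0)) (.node (.leaf 0) (.leaf 0)))) (.node (.node (.node (.leaf 0) (.leaf 0)) (.node (.leaf 0) (.leaf 0))) (.node (.node (.leaf 0) (.leaf 0)) (.node (.leaf 0) (.leaf 0))))) (.node (.node (.node (.node (.leaf 0) (.leaf 0)) (.node (.leaf 0) (.leaf 0))) (.node (.node (.leaf 0) (.leaf 0)) (.node (.leaf 0) (.leaf 0)))) (.node (.node (.node (.leaf 0) (.leaf 0)) (.node (.leaf 0) (.leaf 0))) (.node (.node (.leaf 0) (.leaf 0)) (.node (.leaf 0) (.leaf 0)))))) (.node (.node (.node (.node (.node (.leaf 0) (.leaf 0)) (.node (.leaf 0) (.leaf 0))) (.node (.node (.leaf 0) (.leaf 0)) (.node (.leaf 0) (.leaf 0)))) (.node (.node (.node (.leaf 0) (.leaf 0)) (.node (.leaf 0) (.leaf 0))) (.node (.node (.leaf 0) (.leaf 0)) (.node (.leaf 0) (.leaf 0))))) (.node (.node (.node (.node (.leaf 0) (.leaf 0)) (.node (.leaf 0) (.leaf 0))) (.node (.node (.leaf 0) (.leaf 0)) (.node (.leaf 0) (.leaf 0)))) (.node (.node (.node (.leaf 0) (.leaf 0)) (.node (.leaf 0) (.leaf 0))) (.node (.node (.leaf 0) (.leaf 0)) (.node (.leaf 0) (.leaf 0)))))))))))) (.node (.node (.node (.node (.node (.node (.node (.node (.node (.node (.node (.leaf 0) (.leaf 0)) (.node (.leaf 0) (.leaf 0))) (.node (.node (.leaf 0) (.leaf 0)) (.node (.leaf 0) (.leaf 0)))) (.node (.node (.node (.leaf 0) (.leaf 0)) (.node (.leaf 0) (.leaf 0))) (.node (.node (.leaf 0) (.leaf 0)) (.node (.leaf 0) (.leaf 0))))) (.node (.node (.node (.node (.leaf 0) (.leaf 0)) (.node (.leaf 0) (.leaf 0))) (.node (.node (.leaf 0) (.leaf 0)) (.node (.leaf 0) (.leaf 0)))) (.node (.node (.node (.leaf 0) (.leaf 0)) (.node (.leaf 0) (.leaf 0))) (.node (.node (.leaf 0) (.leaf 0)) (.node (.leaf 0) (.leaf 0)))))) (.node (.node (.node (.node (.node (.leaf 0) (.leaf 0)) (.node (.leaf 0) (.leaf 0))) (.node (.node (.leaf 0) (.leaf 0)) (.node (.leaf 0) (.leaf 0)))) (.node (.node (.node (.leaf 0) (.leaf 0)) (.node (.leaf 0) (.leaf 0))) (.node (.node (.leaf 0) (.leaf 0)) (.node (.leaf 0) (.leaf 0))))) (.node (.node (.node (.node (.leaf 0) (.leaf 0)) (.node (.leaf 0) (.leaf 0))) (.node (.node (.leaf 0) (.leaf 0)) (.node (.leaf 0) (.leaf 0)))) (.node (.node (.node (.leaf 0) (.leaf 0)) (.node (.leaf 0) (.leaf 0))) (.node (.node (.leaf 0) (.leaf 0)) (.node (.leaf 0) (.leaf 0))))))) (.node (.node (.node (.node (.node (.node (.leaf 0) (.leaf 0)) (.node (.leaf 0) (.leaf 0))) (.node (.node (.leaf 0) (.leaf 0)) (.node (.leaf 0) (.leaf 0)))) (.node (.node (.node (.leaf 0) (.leaf 0)) (.node (.leaf 0) (.leaf 0))) (.node (.node (.leaf 0) (.leaf 0)) (.node (.leaf 0) (.leaf 0))))) (.node (.node (.node (.node (.leaf 0) (.leaf 0)) (.node (.leaf 0) (.leaf 0))) (.node (.node (.leaf 0) (.leaf 0)) (.node (.leaf 0) (.leaf 0)))) (.node (.node (.node (.leaf 0) (.leaf 0)) (.node (.leaf 0) (.leaf 0))) (.node (.node (.leaf 0) (.leaf 0)) (.node (.leaf 0) (.leaf 0)))))) (.node (.node (.node (.node (.node (.leaf 0) (.leaf 0)) (.node (.leaf 0) (.leaf 0))) (.node (.node (.leaf 0) (.leaf 0)) (.node (.leaf 0) (.leaf 0)))) (.node (.node (.node (.leaf 0) (.leaf 0)) (.node (.leaf 0) (.leaf 0))) (.node (.node (.leaf 0) (.leaf 0)) (.node (.leaf 0) (.leaf 0))))) (.node (.node (.node (.node (.leaf 0) (.leaf 0)) (.node (.leaf 0) (.leaf 0))) (.node (.node (.leaf 0) (.leaf 0)) (.node (.leaf 0) (.leaf 0)))) (.node (.node (.node (.leaf 0) (.leaf 0)) (.node (.leaf 0) (.leaf 0))) (.node (.node (.leaf 0) (.leaf 0)) (.node (.leaf 0) (.leaf 0)))))))) (.node (.node (.node (.node (.node (.node (.node (.leaf 0) (.leaf 0)) (.node (.leaf 0) (.leaf 0))) (.node (.node (.leaf 0) (.leaf 0)) (.node (.leaf 0) (.leaf 0)))) (.node (.node (.node (.leaf 0) (.leaf 0)) (.node (.leaf 0) (.leaf 0))) (.node (.node (.leaf 0) (.leaf 0)) (.node (.leaf 0) (.leaf 0))))) (.node (.node (.node (.node (.leaf 0) (.leaf 0)) (.node (.leaf 0) (.leaf 0))) (.node (.node (.leaf 0) (.leaf 0)) (.node (.leaf 0) (.leaf 0)))) (.node (.node (.node (.leaf 0) (.leaf 0)) (.node (.leaf 0) (.leaf 0))) (.node (.node (.leaf 0) (.leaf 0)) (.node (.leaf 0) (.leaf 0)))))) (.node (.node (.node (.node (.node (.leaf 0) (.leaf 0)) (.node (.leaf 0) (.leaf 0))) (.node (.node (.leaf 0) (.leaf 0)) (.node (.leaf 0) (.leaf 0)))) (.node (.node (.node (.leaf 0) (.leaf 0)) (.node (.leaf 0) (.leaf 0))) (.node (.node (.leaf 0) (.leaf 0)) (.node (.leaf 0) (.leaf 0))))) (.node (.node (.node (.node (.leaf 0) (.leaf 0)) (.node (.leaf 0) (.leaf 0))) (.node (.node (.leaf 0) (.leaf 0)) (.node (.leaf 0) (.leaf 0)))) (.node (.node (.node (.leaf 0) (.leaf 0)) (.node (.leaf 0) (.leaf 0))) (.node (.node (.leaf 0) (.leaf 0)) (.node (.leaf 0) (.leaf 0))))))) (.node (.node (.node (.node (.node (.node (.leaf 0) (.leaf 0)) (.node (.leaf 0) (.leaf 0))) (.node (.node (.leaf 0) (.leaf 0)) (.node (.leaf 0) (.leaf 0)))) (.node (.node (.node (.leaf 0) (.leaf 0)) (.node (.leaf 0) (.leaf 0))) (.node (.node (.leaf 0) (.leaf 0)) (.node (.leaf 0) (.leaf 0))))) (.node (.node (.node (.node (.leaf 0) (.leaf 0)) (.node (.leaf 0) (.leaf 0))) (.node (.node (.leaf 0) (.leaf 0)) (.node (.leaf 0) (.leaf 0)))) (.node (.node (.node (.leaf 0) (.leaf 0)) (.node (.leaf 0) (.leaf 0))) (.node (.node (.leaf 0) (.leaf 0)) (.node (.leaf 0) (.leaf 0)))))) (.node (.node (.node (.node (.node (.leaf 0) (.leaf 0)) (.node (.leaf 0) (.leaf 0))) (.node (.node (.leaf 0) (.leaf 0)) (.node (.leaf 0) (.leaf 0)))) (.node (.node (.node (.leaf 0) (.leaf 0)) (.node (.leaf 0) (.leaf 0))) (.node (.node (.leaf 0) (.leaf 0)) (.node (.leaf 0) (.leaf 0))))) (.node (.node (.node (.node (.leaf 0) (.leaf 0)) (.node (.leaf 0) (.leaf 0))) (.node (.node (.leaf 0) (.leaf 0)) (.node (.leaf 0) (.leaf 0)))) (.node (.node (.node (.leaf 0) (.leaf 0)) (.node (.leaf 0) (.leaf 0))) (.node (.node (.leaf 0) (.leaf 0)) (.node (.leaf 0) (.leaf 0))))))))) (.node (.node (.node (.node (.node (.node (.node (.node (.leaf 0) (.leaf 0)) (.node (.leaf 0) (.leaf 0))) (.node (.node (.leaf 0) (.leaf 0)) (.node (.leaf 0) (.leaf 0)))) (.node (.node (.node (.leaf 0) (.leaf 0)) (.node (.leaf 0) (.leaf 0))) (.node (.node (.leaf 0) (.leaf 0)) (.node (.leaf 0) (.leaf 0))))) (.node (.node (.node (.node (.leaf 0) (.leaf 0)) (.node (.leaf 0) (.leaf 0))) (.node (.node (.leaf 0) (.leaf 0)) (.node (.leaf 0) (.leaf 0)))) (.node (.node (.node (.leaf 0) (.leaf 0)) (.node (.leaf 0) (.leaf 0))) (.node (.node (.leaf 0) (.leaf 0)) (.node (.leaf 0) (.leaf 0)))))) (.node (.node (.node (.node (.node (.leaf 0) (.leaf 0)) (.node (.leaf 0) (.leaf 0))) (.node (.node (.leaf 0) (.leaf 0)) (.node (.leaf 0) (.leaf 0)))) (.node (.node (.node (.leaf 0) (.leaf 0)) (.node (.leaf 0) (.leaf 0))) (.node (.node (.leaf 0) (.leaf 0)) (.node (.leaf 0) (.leaf 0))))) (.node (.node (.node (.node (.leaf 0) (.leaf 0)) (.node (.leaf 0) (.leaf 0))) (.node (.node (.leaf 0) (.leaf 0)) (.node (.leaf 0) (.leaf 0)))) (.node (.node (.node (.leaf 0) (.leaf 0)) (.node (.leaf 0) (.leaf 0))) (.node (.node (.leaf 0) (.leaf 0)) (.node (.leaf 0) (.leaf 0))))))) (.node (.node (.node (.node (.node (.node (.leaf 0) (.leaf 0)) (.node (.leaf 0) (.leaf 0))) (.node (.node (.leaf 0) (.leaf 0)) (.node (.leaf 0) (.leaf 0)))) (.node (.node (.node (.leaf 0) (.leaf 0)) (.node (.leaf 0) (.leaf 0))) (.node (.node (.leaf 0) (.leaf 0)) (.node (.leaf 0) (.leaf 0))))) (.node (.node (.node (.node (.leaf 0) (.leaf 0)) (.node (.leaf 0) (.leaf 0))) (.node (.node (.leaf 0) (.leaf 0)) (.node (.leaf 0) (.leaf 0)))) (.node (.node (.node (.leaf 0) (.leaf 0)) (.node (.leaf 0) (.leaf 0))) (.node (.node (.leaf 0) (.leaf 0)) (.node (.leaf 0) (.leaf 0)))))) (.node (.node (.node (.node (.node (.leaf 0) (.leaf 0)) (.node (.leaf 0) (.leaf 0))) (.node (.node (.leaf 0) (.leaf 0)) (.node (.leaf 0) (.leaf 0)))) (.node (.node (.node (.leaf 0) (.leaf 0)) (.node (.leaf 0) (.leaf 0))) (.node (.node (.leaf 0) (.leaf 0)) (.node (.leaf 0) (.leaf 0))))) (.node (.node (.node (.node (.leaf 0) (.leaf 0)) (.node (.leaf 0) (.leaf 0))) (.node (.node (.leaf 0) (.leaf 0)) (.node (.leaf 0) (.leaf 0)))) (.node (.node (.node (.leaf 0) (.leaf 0)) (.node (.leaf 0) (.leaf 0))) (.node (.node (.leaf 0) (.leaf 0)) (.node (.leaf 0) (.leaf 0)))))))) (.node (.node (.node (.node (.node (.node (.node (.leaf 0) (.leaf 0)) (.node (.leaf 0) (.leaf 0))) (.node (.node (.leaf 0) (.leaf 0)) (.node (.leaf 0) (.leaf 0)))) (.node (.node (.node (.leaf 0) (.leaf 0)) (.node (.leaf 0) (.leaf 0))) (.node (.node (.leaf 0) (.leaf 0)) (.node (.leaf 0) (.leaf 0))))) (.node (.node (.node (.node (.leaf 0) (.leaf 0)) (.node (.leaf 0) (.leaf 0))) (.node (.node (.leaf 0) (.leaf 0)) (.node (.leaf 0) (.leaf 0)))) (.node (.node (.node (.leaf 0) (.leaf 0)) (.node (.leaf 0) (.leaf 0))) (.node (.node (.leaf 0) (.leaf 0)) (.node (.leaf 0) (.leaf 0)))))) (.node (.node (.node (.node (.node (.leaf 0) (.leaf 0)) (.node (.leaf 0) (.leaf 0))) (.node (.node (.leaf 0) (.leaf 0)) (.node (.leaf 0) (.leaf 0)))) (.node (.node (.node (.leaf 0) (.leaf 0)) (.node (.leaf 0) (.leaf 0))) (.node (.node (.leaf 0) (.leaf 0)) (.node (.leaf 0) (.leaf 0))))) (.node (.node (.node (.node (.leaf 0) (.leaf 0)) (.node (.leaf 0) (.leaf 0))) (.node (.node (.leaf 0) (.leaf 0)) (.node (.leaf 0) (.leaf 0)))) (.node (.node (.node (.leaf 0) (.leaf 0)) (.node (.leaf 0) (.leaf 0))) (.node (.node (.leaf 0) (.leaf 0)) (.node (.leaf 0) (.leaf 0))))))) (.node (.node (.node (.node (.node (.node (.leaf 0) (.leaf 0)) (.node (.leaf 0) (.leaf 0))) (.node (.node (.leaf 0) (.leaf 0)) (.node (.leaf 0) (.leaf 0)))) (.node (.node (.node (.leaf 0) (.leaf 0)) (.node (.leaf 0) (.leaf 0))) (.node (.node (.leaf 0) (.leaf 0)) (.node (.leaf 0) (.leaf 0))))) (.node (.node (.node (.node (.leaf 0) (.leaf 0)) (.node (.leaf 0) (.leaf 0))) (.node (.node (.leaf 0) (.leaf 0)) (.node (.leaf 0) (.leaf 0)))) (.node (.node (.node (.leaf 0) (.leaf 0)) (.node (.leaf 0) (.leaf 0))) (.node (.node (.leaf 0) (.leaf 0)) (.node (.leaf 0) (.leaf 0)))))) (.node (.node (.node (.node (.node (.leaf 0) (.leaf 0)) (.node (.leaf 0) (.leaf 0))) (.node (.node (.leaf 0) (.leaf 0)) (.node (.leaf 0) (.leaf 0)))) (.node (.node (.node (.leaf 0) (.leaf 0)) (.node (.leaf 0) (.leaf 0))) (.node (.node (.leaf 0) (.leaf 0)) (.node (.leaf 0) (.leaf 0))))) (.node (.node (.node (.node (.leaf 0) (.leaf 0)) (.node (.leaf 0) (.leaf 0))) (.node (.node (.leaf 0) (.leaf 0)) (.node (.leaf 0) (.leaf 0)))) (.node (.node (.node (.leaf 0) (.leaf 0)) (.node (.leaf 0) (.leaf 0))) (.node (.node (.leaf 0) (.leaf 0)) (.node (.leaf 0) (.leaf 0)))))))))) (.node (.node (.node (.node (.node (.node (.node (.node (.node (.leaf 0) (.leaf 0)) (.node (.leaf 0) (.leaf 0))) (.node (.node (.leaf 0) (.leaf 0)) (.node (.leaf 0) (.leaf 0)))) (.node (.node (.node (.leaf 0) (.leaf 0)) (.node (.leaf 0) (.leaf 0))) (.node (.node (.leaf 0) (.leaf 0)) (.node (.leaf 0) (.leaf 0))))) (.node (.node (.node (.node (.leaf 0) (.leaf 0)) (.node (.leaf 0) (.leaf 0))) (.node (.node (.leaf 0) (.leaf 0)) (.node (.leaf 0) (.leaf 0)))) (.node (.node (.node (.leaf 0) (.leaf 0)) (.node (.leaf 0) (.leaf 0))) (.node (.node (.leaf 0) (.leaf 0)) (.node (.leaf 0) (.leaf 0)))))) (.node (.node (.node (.node (.node (.leaf 0) (.leaf 0)) (.node (.leaf 0) (.leaf 0))) (.node (.node (.leaf 0) (.leaf 0)) (.node (.leaf 0) (.leaf 0)))) (.node (.node (.node (.leaf 0) (.leaf 0)) (.node (.leaf 0) (.leaf 0))) (.node (.node (.leaf 0) (.leaf 0)) (.node (.leaf 0) (.leaf 0))))) (.node (.node (.node (.node (.leaf 0) (.leaf 0)) (.node (.leaf 0) (.leaf 0))) (.node (.node (.leaf 0) (.leaf 0)) (.node (.leaf 0) (.leaf 0)))) (.node (.node (.node (.leaf 0) (.leaf 0)) (.node (.leaf 0) (.leaf 0))) (.node (.node (.leaf 0) (.leaf 0)) (.node (.leaf 0) (.leaf 0))))))) (.node (.node (.node (.node (.node (.node (.leaf 0) (.leaf 0)) (.node (.leaf 0) (.leaf 0))) (.node (.node (.leaf 0) (.leaf 0)) (.node (.leaf 0) (.leaf 0)))) (.node (.node (.node (.leaf 0) (.leaf 0)) (.node (.leaf 0) (.leaf 0))) (.node (.node (.leaf 0) (.leaf 0)) (.node (.leaf 0) (.leaf 0))))) (.node (.node (.node (.node (.leaf 0) (.leaf 0)) (.node (.leaf 0) (.leaf 0))) (.node (.node (.leaf 0) (.leaf 0)) (.node (.leaf 0) (.leaf 0)))) (.node (.node (.node (.leaf 0) (.leaf 0)) (.node (.leaf 0) (.leaf 0))) (.node (.node (.leaf 0) (.leaf 0)) (.node (.leaf 0) (.leaf 0)))))) (.node (.node (.node (.node (.node (.leaf 0) (.leaf 0)) (.node (.leaf 0) (.leaf 0))) (.node (.node (.leaf 0) (.leaf 0)) (.node (.leaf 0) (.leaf 0)))) (.node (.node (.node (.leaf 0) (.leaf 0)) (.node (.leaf 0) (.leaf 0))) (.node (.node (.leaf 0) (.leaf 0)) (.node (.leaf 0) (.leaf 0))))) (.node (.node (.node (.node (.leaf 0) (.leaf 0)) (.node (.leaf 0) (.leaf 0))) (.node (.node (.leaf 0) (.leaf 0)) (.node (.leaf 0) (.leaf 0)))) (.node (.node (.node (.leaf 0) (.leaf 0)) (.node (.leaf 0) (.leaf 0))) (.node (.node (.leaf 0) (.leaf 0)) (.node (.leaf 0) (.leaf 0)))))))) (.node (.node (.node (.node (.node (.node (.node (.leaf 0) (.leaf 0)) (.node (.leaf 0) (.leaf 0))) (.node (.node (.leaf 0) (.leaf 0)) (.node (.leaf 0) (.leaf 0)))) (.node (.node (.node (.leaf 0) (.leaf 0)) (.node (.leaf 0) (.leaf 0))) (.node (.node (.leaf 0) (.leaf 0)) (.node (.leaf 0) (.leaf 0))))) (.node (.node (.node (.node (.leaf 0) (.leaf 0)) (.node (.leaf 0) (.leaf 0))) (.node (.node (.leaf 0) (.leaf 0)) (.node (.leaf 0) (.leaf 0)))) (.node (.node (.node (.leaf 0) (.leaf 0)) (.node (.leaf 0) (.leaf 0))) (.node (.node (.leaf 0) (.leaf 0)) (.node (.leaf 0) (.leaf 0)))))) (.node (.node (.node (.node (.node (.leaf 0) (.leaf 0)) (.node (.leaf 0) (.leaf 0))) (.node (.node (.leaf 0) (.leaf 0)) (.node (.leaf 0) (.leaf 0)))) (.node (.node (.node (.leaf 0) (.leaf 0)) (.node (.leaf 0) (.leaf 0))) (.node (.node (.leaf 0) (.leaf 0)) (.node (.leaf 0) (.leaf 0))))) (.node (.node (.node (.node (.leaf 0) (.leaf 0)) (.node (.leaf 0) (.leaf 0))) (.node (.node (.leaf 0) (.leaf 0)) (.node (.leaf 0) (.leaf 0)))) (.node (.node (.node (.leaf 0) (.leaf 0)) (.node (.leaf 0) (.leaf 0))) (.node (.node (.leaf 0) (.leaf 0)) (.node (.leaf 0) (.leaf 0))))))) (.node (.node (.node (.node (.node (.node (.leaf 0) (.leaf 0)) (.node (.leaf 0) (.leaf 0))) (.node (.node (.leaf 0) (.leaf 0)) (.node (.leaf 0) (.leaf 0)))) (.node (.node (.node (.leaf 0) (.leaf 0)) (.node (.leaf 0) (.leaf 0))) (.node (.node (.leaf 0) (.leaf 0)) (.node (.leaf 0) (.leaf 0))))) (.node (.node (.node (.node (.leaf 0) (.leaf 0)) (.node (.leaf 0) (.leaf 0))) (.node (.node (.leaf 0) (.leaf 0)) (.node (.leaf 0) (.leaf 0)))) (.node (.node (.node (.leaf 0) (.leaf 0)) (.node (.leaf 0) (.leaf 0))) (.node (.node (.leaf 0) (.leaf 0)) (.node (.leaf 0) (.leaf 0)))))) (.node (.node (.node (.node (.node (.leaf 0) (.leaf 0)) (.node (.leaf 0) (.leaf 0))) (.node (.node (.leaf 0) (.leaf 0)) (.node (.leaf 0) (.leaf 0)))) (.node (.node (.node (.leaf 0) (.leaf 0)) (.node (.leaf 0) (.leaf 0))) (.node (.node (.leaf 0) (.leaf 0)) (.node (.leaf 0) (.leaf 0))))) (.node (.node (.node (.node (.leaf 0) (.leaf 0)) (.node (.leaf 0) (.leaf 0))) (.node (.node (.leaf 0) (.leaf 0)) (.node (.leaf 0) (.leaf 0)))) (.node (.node (.node (.leaf 0) (.leaf 0)) (.node (.leaf 0) (.leaf 0))) (.node (.node (.leaf 0) (.leaf 0)) (.node (.leaf 0) (.leaf 0))))))))) (.node (.node (.node (.node (.node (.node (.node (.node (.leaf 0) (.leaf 0)) (.node (.leaf 0) (.leaf 0))) (.node (.node (.leaf 0) (.leaf 0)) (.node (.leaf 0) (.leaf 0)))) (.node (.node (.node (.leaf 0) (.leaf 0)) (.node (.leaf 0) (.leaf 0))) (.node (.node (.leaf 0) (.leaf 0)) (.node (.leaf 0) (.leaf 0))))) (.node (.node (.node (.node (.leaf 0) (.leaf 0)) (.node (.leaf 0) (.leaf 0))) (.node (.node (.leaf 0) (.leaf 0)) (.node (.leaf 0) (.leaf 0)))) (.node (.node (.node (.leaf 0) (.leaf 0)) (.node (.leaf 0) (.leaf 0))) (.node (.node (.leaf 0) (.leaf 0)) (.node (.leaf 0) (.leaf 0)))))) (.node (.node (.node (.node (.node (.leaf 0) (.leaf 0)) (.node (.leaf 0) (.leaf 0))) (.node (.node (.leaf 0) (.leaf 0)) (.node (.leaf 0) (.leaf 0)))) (.node (.node (.node (.leaf 0) (.leaf 0)) (.node (.leaf 0) (.leaf 0))) (.node (.node (.leaf 0) (.leaf 0)) (.node (.leaf 0) (.leaf 0))))) (.node (.node (.node (.node (.leaf 0) (.leaf 0)) (.node (.leaf 0) (.leaf 0))) (.node (.node (.leaf 0) (.leaf 0)) (.node (.leaf 0) (.leaf 0)))) (.node (.node (.node (.leaf 0) (.leaf 0)) (.node (.leaf 0) (.leaf 0))) (.node (.node (.leaf 0) (.leaf 0)) (.node (.leaf 0) (.leaf 0))))))) (.node (.node (.node (.node (.node (.node (.leaf 0) (.leaf 0)) (.node (.leaf 0) (.leaf 0))) (.node (.node (.leaf 0) (.leaf 0)) (.node (.leaf 0) (.leaf 0)))) (.node (.node (.node (.leaf 0) (.leaf 0)) (.node (.leaf 0) (.leaf 0))) (.node (.node (.leaf 0) (.leaf 0)) (.node (.leaf 0) (.leaf 0))))) (.node (.node (.node (.node (.leaf 0) (.leaf 0)) (.node (.leaf 0) (.leaf 0))) (.node (.node (.leaf 0) (.leaf 0)) (.node (.leaf 0) (.leaf 0)))) (.node (.node (.node (.leaf 0) (.leaf 0)) (.node (.leaf 0) (.leaf 0))) (.node (.node (.leaf 0) (.leaf 0)) (.node (.leaf 0) (.leaf 0)))))) (.node (.node (.node (.node (.node (.leaf 0) (.leaf 0)) (.node (.leaf 0) (.leaf 0))) (.node (.node (.leaf 0) (.leaf 0)) (.node (.leaf 0) (.leaf 0)))) (.node (.node (.node (.leaf 0) (.leaf 0)) (.node (.leaf 0) (.leaf 0))) (.node (.node (.leaf 0) (.leaf 0)) (.node (.leaf 0) (.leaf 0))))) (.node (.node (.node (.node (.leaf 0) (.leaf 0)) (.node (.leaf 0) (.leaf 0))) (.node (.node (.leaf 0) (.leaf 0)) (.node (.leaf 0) (.leaf 0)))) (.node (.node (.node (.leaf 0) (.leaf 0)) (.node (.leaf 0) (.leaf 0))) (.node (.node (.leaf 0) (.leaf 0)) (.node (.leaf 0) (.leaf 0)))))))) (.node (.node (.node (.node (.node (.node (.node (.leaf 0) (.leaf 0)) (.node (.leaf 0) (.leaf 0))) (.node (.node (.leaf 0) (.leaf 0)) (.node (.leaf 0) (.leaf 0)))) (.node (.node (.node (.leaf 0) (.leaf 0)) (.node (.leaf 0) (.leaf 0))) (.node (.node (.leaf 0) (.leaf 0)) (.node (.leaf 0) (.leaf 0))))) (.node (.node (.node (.node (.leaf 0) (.leaf 0)) (.node (.leaf 0) (.leaf 0))) (.node (.node (.leaf 0) (.leaf 0)) (.node (.leaf 0) (.leaf 0)))) (.node (.node (.node (.leaf 0) (.leaf 0)) (.node (.leaf 0) (.leaf 0))) (.node (.node (.leaf 0) (.leaf 0)) (.node (.leaf 0) (.leaf 0)))))) (.node (.node (.node (.node (.node (.leaf 0) (.leaf 0)) (.node (.leaf 0) (.leaf 0))) (.node (.node (.leaf 0) (.leaf 0)) (.node (.leaf 0) (.leaf 0)))) (.node (.node (.node (.leaf 0) (.leaf 0)) (.node (.leaf 0) (.leaf 0))) (.node (.node (.leaf 0) (.leaf 0)) (.node (.leaf 0) (.leaf 0))))) (.node (.node (.node (.node (.leaf 0) (.leaf 0)) (.node (.leaf 0) (.leaf 0))) (.node (.node (.leaf 0) (.leaf 0)) (.node (.leaf 0) (.leaf 0)))) (.node (.node (.node (.leaf 0) (.leaf 0)) (.node (.leaf 0) (.leaf 0))) (.node (.node (.leaf 0) (.leaf 0)) (.node (.leaf 0) (.leaf 0))))))) (.node (.node (.node (.node (.node (.node (.leaf 0) (.leaf 0)) (.node (.leaf 0) (.leaf 0))) (.node (.node (.leaf 0) (.leaf 0)) (.node (.leaf 0) (.leaf 0)))) (.node (.node (.node (.leaf 0) (.leaf 0)) (.node (.leaf 0) (.leaf 0))) (.node (.node (.leaf 0) (.leaf 0)) (.node (.leaf 0) (.leaf 0))))) (.node (.node (.node (.node (.leaf 0) (.leaf 0)) (.node (.leaf 0) (.leaf 0))) (.node (.node (.leaf 0) (.leaf 0)) (.node (.leaf 0) (.leaf 0)))) (.node (.node (.node (.leaf 0) (.leaf 0)) (.node (.leaf 0) (.leaf 0))) (.node (.node (.leaf 0) (.leaf 0)) (.node (.leaf 0) (.leaf 0)))))) (.node (.node (.node (.node (.node (.leaf 0) (.leaf 0)) (.node (.leaf 0) (.leaf 0))) (.node (.node (.leaf 0) (.leaf 0)) (.node (.leaf 0) (.leaf 0)))) (.node (.node (.node (.leaf 0) (.leaf 0)) (.node (.leaf 0) (.leaf 0))) (.node (.node (.leaf 0) (.leaf 0)) (.node (.leaf 0) (.leaf 0))))) (.node (.node (.node (.node (.leaf 0) (.leaf 0)) (.node (.leaf 0) (.leaf 0))) (.node (.node (.leaf 0) (.leaf 0)) (.node (.leaf 0) (.leaf 0)))) (.node (.node (.node (.leaf 0) (.leaf 0)) (.node (.leaf 0) (.leaf 0))) (.node (.node (.leaf 0) (.leaf 0)) (.node (.leaf 0) (.leaf 0))))))))))) (.node (.node (.node (.node (.node (.node (.node (.node (.node (.node (.leaf 0) (.leaf 0)) (.node (.leaf 0) (.leaf 0))) (.node (.node (.leaf 0) (.leaf 0)) (.node (.leaf 0) (.leaf 0)))) (.node (.node (.node (.leaf 0) (.leaf 0)) (.node (.leaf 0) (.leaf 0))) (.node (.node (.leaf 0) (.leaf 0)) (.node (.leaf 0) (.leaf 0))))) (.node (.node (.node (.node (.leaf 0) (.leaf 0)) (.node (.leaf 0) (.leaf 0))) (.node (.node (.leaf 0) (.leaf 0)) (.node (.leaf 0) (.leaf 0)))) (.node (.node (.node (.leaf 0) (.leaf 0)) (.node (.leaf 0) (.leaf 0))) (.node (.node (.leaf 0) (.leaf 0)) (.node (.leaf 0) (.leaf 0)))))) (.node (.node (.node (.node (.node (.leaf 0) (.leaf 0)) (.node (.leaf 0) (.leaf 0))) (.node (.node (.leaf 0) (.leaf 0)) (.node (.leaf 0) (.leaf 0)))) (.node (.node (.node (.leaf 0) (.leaf 0)) (.node (.leaf 0) (.leaf 0))) (.node (.node (.leaf 0) (.leaf 0)) (.node (.leaf 0) (.leaf 0))))) (.node (.node (.node (.node (.leaf 0) (.leaf 0)) (.node (.leaf 0) (.leaf 0))) (.node (.node (.leaf 0) (.leaf 0)) (.node (.leaf 0) (.leaf 0)))) (.node (.node (.node (.leaf 0) (.leaf 0)) (.node (.leaf 0) (.leaf 0))) (.node (.node (.leaf 0) (.leaf 0)) (.node (.leaf 0) (.leaf 0))))))) (.node (.node (.node (.node (.node (.node (.leaf 0) (.leaf 0)) (.node (.leaf 0) (.leaf 0))) (.node (.node (.leaf 0) (.leaf 0)) (.node (.leaf 0) (.leaf 0)))) (.node (.node (.node (.leaf 0) (.leaf 0)) (.node (.leaf 0) (.leaf 0))) (.node (.node (.leaf 0) (.leaf 0)) (.node (.leaf 0) (.leaf 0))))) (.node (.node (.node (.node (.leaf 0) (.leaf 0)) (.node (.leaf 0) (.leaf 0))) (.node (.node (.leaf 0) (.leaf 0)) (.node (.leaf 0) (.leaf 0)))) (.node (.node (.node (.leaf 0) (.leaf 0)) (.node (.leaf 0) (.leaf 0))) (.node (.node (.leaf 0) (.leaf 0)) (.node (.leaf 0) (.leaf 0)))))) (.node (.node (.node (.node (.node (.leaf 0) (.leaf 0)) (.node (.leaf 0) (.leaf 0))) (.node (.node (.leaf 0) (.leaf 0)) (.node (.leaf 0) (.leaf 0)))) (.node (.node (.node (.leaf 0) (.leaf 0)) (.node (.leaf 0) (.leaf 0))) (.node (.node (.leaf 0) (.leaf 0)) (.node (.leaf 0) (.leaf 0))))) (.node (.node (.node (.node (.leaf 0) (.leaf 0)) (.node (.leaf 0) (.leaf 0))) (.node (.node (.leaf 0) (.leaf 0)) (.node (.leaf 0) (.leaf 0)))) (.node (.node (.node (.leaf 0) (.leaf 0)) (.node (.leaf 0) (.leaf 0))) (.node (.node (.leaf 0) (.leaf 0)) (.node (.leaf 0) (.leaf 0)))))))) (.node (.node (.node (.node (.node (.node (.node (.leaf 0) (.leaf 0)) (.node (.leaf 0) (.leaf 0))) (.node (.node (.leaf 0) (.leaf 0)) (.node (.leaf 0) (.leaf 0)))) (.node (.node (.node (.leaf 0) (.leaf 0)) (.node (.leaf 0) (.leaf 0))) (.node (.node (.leaf 0) (.leaf 0)) (.node (.leaf 0) (.leaf 0))))) (.node (.node (.node (.node (.leaf 0) (.leaf 0)) (.node (.leaf 0) (.leaf 0))) (.node (.node (.leaf 0) (.leaf 0)) (.node (.leaf 0) (.leaf 0)))) (.node (.node (.node (.leaf 0) (.leaf 0)) (.node (.leaf 0) (.leaf 0))) (.node (.node (.leaf 0) (.leaf 0)) (.node (.leaf 0) (.leaf 0)))))) (.node (.node (.node (.node (.node (.leaf 0) (.leaf 0)) (.node (.leaf 0) (.leaf 0))) (.node (.node (.leaf 0) (.leaf 0)) (.node (.leaf 0) (.leaf 0)))) (.node (.node (.node (.leaf 0) (.leaf 0)) (.node (.leaf 0) (.leaf 0))) (.node (.node (.leaf 0) (.leaf 0)) (.node (.leaf 0) (.leaf 0))))) (.node (.node (.node (.node (.leaf 0) (.leaf 0)) (.node (.leaf 0) (.leaf 0))) (.node (.node (.leaf 0) (.leaf 0)) (.node (.leaf 0) (.leaf 0)))) (.node (.node (.node (.leaf 0) (.leaf 0)) (.node (.leaf 0) (.leaf 0))) (.node (.node (.leaf 0) (.leaf 0)) (.node (.leaf 0) (.leaf 0))))))) (.node (.node (.node (.node (.node (.node (.leaf 0) (.leaf 0)) (.node (.leaf 0) (.leaf 0))) (.node (.node (.leaf 0) (.leaf 0)) (.node (.leaf 0) (.leaf 0)))) (.node (.node (.node (.leaf 0) (.leaf 0)) (.node (.leaf 0) (.leaf 0))) (.node (.node (.leaf 0) (.leaf 0)) (.node (.leaf 0) (.leaf 0))))) (.node (.node (.node (.node (.leaf 0) (.leaf 0)) (.node (.leaf 0) (.leaf 0))) (.node (.node (.leaf 0) (.leaf 0)) (.node (.leaf 0) (.leaf 0)))) (.node (.node (.node (.leaf 0) (.leaf 0)) (.node (.leaf 0) (.leaf 0))) (.node (.node (.leaf 0) (.leaf 0)) (.node (.leaf 0) (.leaf 0)))))) (.node (.node (.node (.node (.node (.leaf 0) (.leaf 0)) (.node (.leaf 0) (.leaf 0))) (.node (.node (.leaf 0) (.leaf 0)) (.node (.leaf 0) (.leaf 0)))) (.node (.node (.node (.leaf 0) (.leaf 0)) (.node (.leaf 0) (.leaf 0))) (.node (.node (.leaf 0) (.leaf 0)) (.node (.leaf 0) (.leaf 0))))) (.node (.node (.node (.node (.leaf 0) (.leaf 0)) (.node (.leaf 0) (.leaf 0))) (.node (.node (.leaf 0) (.leaf 0)) (.node (.leaf 0) (.leaf 0)))) (.node (.node (.node (.leaf 0) (.leaf 0)) (.node (.leaf 0) (.leaf 0))) (.node (.node (.leaf 0) (.leaf 0)) (.node (.leaf 0) (.leaf 0))))))))) (.node (.node (.node (.node (.node (.node (.node (.node (.leaf 0) (.leaf 0)) (.node (.leaf 0) (.leaf 0))) (.node (.node (.leaf 0) (.leaf 0)) (.node (.leaf 0) (.leaf 0)))) (.node (.node (.node (.leaf 0) (.leaf 0)) (.node (.leaf 0) (.leaf 0))) (.node (.node (.leaf 0) (.leaf 0)) (.node (.leaf 0) (.leaf 0))))) (.node (.node (.node (.node (.leaf 0) (.leaf 0)) (.node (.leaf 0) (.leaf 0))) (.node (.node (.leaf 0) (.leaf 0)) (.node (.leaf 0) (.leaf 0)))) (.node (.node (.node (.leaf 0) (.leaf 0)) (.node (.leaf 0) (.leaf 0))) (.node (.node (.leaf 0) (.leaf 0)) (.node (.leaf 0) (.leaf 0)))))) (.node (.node (.node (.node (.node (.leaf 0) (.leaf 0)) (.node (.leaf 0) (.leaf 0))) (.node (.node (.leaf 0) (.leaf 0)) (.node (.leaf 0) (.leaf 0)))) (.node (.node (.node (.leaf 0) (.leaf 0)) (.node (.leaf 0) (.leaf 0))) (.node (.node (.leaf 0) (.leaf 0)) (.node (.leaf 0) (.leaf 0))))) (.node (.node (.node (.node (.leaf 0) (.leaf 0)) (.node (.leaf 0) (.leaf 0))) (.node (.node (.leaf 0) (.leaf 0)) (.node (.leaf 0) (.leaf 0)))) (.node (.node (.node (.leaf 0) (.leaf 0)) (.node (.leaf 0) (.leaf 0))) (.node (.node (.leaf 0) (.leaf 0)) (.node (.leaf 0) (.leaf 0))))))) (.node (.node (.node (.node (.node (.node (.leaf 0) (.leaf 0)) (.node (.leaf 0) (.leaf 0))) (.node (.node (.leaf 0) (.leaf 0)) (.node (.leaf 0) (.leaf 0)))) (.node (.node (.node (.leaf 0) (.leaf 0)) (.node (.leaf 0) (.leaf 0))) (.node (.node (.leaf 0) (.leaf 0)) (.node (.leaf 0) (.leaf 0))))) (.node (.node (.node (.node (.leaf 0) (.leaf 0)) (.node (.leaf 0) (.leaf 0))) (.node (.node (.leaf 0) (.leaf 0)) (.node (.leaf 0) (.leaf 0)))) (.node (.node (.node (.leaf 0) (.leaf 0)) (.node (.leaf 0) (.leaf 0))) (.node (.node (.leaf 0) (.leaf 0)) (.node (.leaf 0) (.leaf 0)))))) (.node (.node (.node (.node (.node (.leaf 0) (.leaf 0)) (.node (.leaf 0) (.leaf 0))) (.node (.node (.leaf 0) (.leaf 0)) (.node (.leaf 0) (.leaf 0)))) (.node (.node (.node (.leaf 0) (.leaf 0)) (.node (.leaf 0) (.leaf 0))) (.node (.node (.leaf 0) (.leaf 0)) (.node (.leaf 0) (.leaf 0))))) (.node (.node (.node (.node (.leaf 0) (.leaf 0)) (.node (.leaf 0) (.leaf 0))) (.node (.node (.leaf 0) (.leaf 0)) (.node (.leaf 0) (.leaf 0)))) (.node (.node (.node (.leaf 0) (.leaf 0)) (.node (.leaf 0) (.leaf 0))) (.node (.node (.leaf 0) (.leaf 0)) (.node (.leaf 0) (.leaf 0)))))))) (.node (.node (.node (.node (.node (.node (.node (.leaf 0) (.leaf 0)) (.node (.leaf 0) (.leaf 0))) (.node (.node (.leaf 0) (.leaf 0)) (.node (.leaf 0) (.leaf 0)))) (.node (.node (.node (.leaf 0) (.leaf 0)) (.node (.leaf 0) (.leaf 0))) (.node (.node (.leaf 0) (.leaf 0)) (.node (.leaf 0) (.leaf 0))))) (.node (.node (.node (.node (.leaf 0) (.leaf 0)) (.node (.leaf 0) (.leaf 0))) (.node (.node (.leaf 0) (.leaf 0)) (.node (.leaf 0) (.leaf 0)))) (.node (.node (.node (.leaf 0) (.leaf 0)) (.node (.leaf 0) (.leaf 0))) (.node (.node (.leaf 0) (.leaf 0)) (.node (.leaf 0) (.leaf 0)))))) (.node (.node (.node (.node (.node (.leaf 0) (.leaf 0)) (.node (.leaf 0) (.leaf 0))) (.node (.node (.leaf 0) (.leaf 0)) (.node (.leaf 0) (.leaf 0)))) (.node (.node (.node (.leaf 0) (.leaf 0)) (.node (.leaf 0) (.leaf 0))) (.node (.node (.leaf 0) (.leaf 0)) (.node (.leaf 0) (.leaf 0))))) (.node (.node (.node (.node (.leaf 0) (.leaf 0)) (.node (.leaf 0) (.leaf 0))) (.node (.node (.leaf 0) (.leaf 0)) (.node (.leaf 0) (.leaf 0)))) (.node (.node (.node (.leaf 0) (.leaf 0)) (.node (.leaf 0) (.leaf 0))) (.node (.node (.leaf 0) (.leaf 0)) (.node (.leaf 0) (.leaf 0))))))) (.node (.node (.node (.node (.node (.node (.leaf 0) (.leaf 0)) (.node (.leaf 0) (.leaf 0))) (.node (.node (.leaf 0) (.leaf 0)) (.node (.leaf 0) (.leaf 0)))) (.node (.node (.node (.leaf 0) (.leaf 0)) (.node (.leaf 0) (.leaf 0))) (.node (.node (.leaf 0) (.leaf 0)) (.node (.leaf 0) (.leaf 0))))) (.node (.node (.node (.node (.leaf 0) (.leaf 0)) (.node (.leaf 0) (.leaf 0))) (.node (.node (.leaf 0) (.leaf 0)) (.node (.leaf 0) (.leaf 0)))) (.node (.node (.node (.leaf 0) (.leaf 0)) (.node (.leaf 0) (.leaf 0))) (.node (.node (.leaf 0) (.leaf 0)) (.node (.leaf 0) (.leaf 0)))))) (.node (.node (.node (.node (.node (.leaf 0) (.leaf 0)) (.node (.leaf 0) (.leaf 0))) (.node (.node (.leaf 0) (.leaf 0)) (.node (.leaf 0) (.leaf 0)))) (.node (.node (.node (.leaf 0) (.leaf 0)) (.node (.leaf 0) (.leaf 0))) (.node (.node (.leaf 0) (.leaf 0)) (.node (.leaf 0) (.leaf 0))))) (.node (.node (.node (.node (.leaf 0) (.leaf 0)) (.node (.leaf 0) (.leaf 0))) (.node (.node (.leaf 0) (.leaf 0)) (.node (.leaf 0) (.leaf 0)))) (.node (.node (.node (.leaf 0) (.leaf 0)) (.node (.leaf 0) (.leaf 0))) (.node (.node (.leaf 0) (.leaf 0)) (.node (.leaf 0) (.leaf 0)))))))))) (.node (.node (.node (.node (.node (.node (.node (.node (.node (.leaf 0) (.leaf 0)) (.node (.leaf 0) (.leaf 0))) (.node (.node (.leaf 0) (.leaf 0)) (.node (.leaf 0) (.leaf 0)))) (.node (.node (.node (.leaf 0) (.leaf 0)) (.node (.leaf 0) (.leaf 0))) (.node (.node (.leaf 0) (.leaf 0)) (.node (.leaf 0) (.leaf 0))))) (.node (.node (.node (.node (.leaf 0) (.leaf 0)) (.node (.leaf 0) (.leaf 0))) (.node (.node (.leaf 0) (.leaf 0)) (.node (.leaf 0) (.leaf 0)))) (.node (.node (.node (.leaf 0) (.leaf 0)) (.node (.leaf 0) (.leaf 0))) (.node (.node (.leaf 0) (.leaf 0)) (.node (.leaf 0) (.leaf 0)))))) (.node (.node (.node (.node (.node (.leaf 0) (.leaf 0)) (.node (.leaf 0) (.leaf 0))) (.node (.node (.leaf 0) (.leaf 0)) (.node (.leaf 0) (.leaf 0)))) (.node (.node (.node (.leaf 0) (.leaf 0)) (.node (.leaf 0) (.leaf 0))) (.node (.node (.leaf 0) (.leaf 0)) (.node (.leaf 0) (.leaf 0))))) (.node (.node (.node (.node (.leaf 0) (.leaf 0)) (.node (.leaf 0) (.leaf 0))) (.node (.node (.leaf 0) (.leaf 0)) (.node (.leaf 0) (.leaf 0)))) (.node (.node (.node (.leaf 0) (.leaf 0)) (.node (.leaf 0) (.leaf 0))) (.node (.node (.leaf 0) (.leaf 0)) (.node (.leaf 0) (.leaf 0))))))) (.node (.node (.node (.node (.node (.node (.leaf 0) (.leaf 0)) (.node (.leaf 0) (.leaf 0))) (.node (.node (.leaf 0) (.leaf 0)) (.node (.leaf 0) (.leaf 0)))) (.node (.node (.node (.leaf 0) (.leaf 0)) (.node (.leaf 0) (.leaf 0))) (.node (.node (.leaf 0) (.leaf 0)) (.node (.leaf 0) (.leaf 0))))) (.node (.node (.node (.node (.leaf 0) (.leaf 0)) (.node (.leaf 0) (.leaf 0))) (.node (.node (.leaf 0) (.leaf 0)) (.node (.leaf 0) (.leaf 0)))) (.node (.node (.node (.leaf 0) (.leaf 0)) (.node (.leaf 0) (.leaf 0))) (.node (.node (.leaf 0) (.leaf 0)) (.node (.leaf 0) (.leaf 0)))))) (.node (.node (.node (.node (.node (.leaf 0) (.leaf 0)) (.node (.leaf 0) (.leaf 0))) (.node (.node (.leaf 0) (.leaf 0)) (.node (.leaf 0) (.leaf 0)))) (.node (.node (.node (.leaf 0) (.leaf 0)) (.node (.leaf 0) (.leaf 0))) (.node (.node (.leaf 0) (.leaf 0)) (.node (.leaf 0) (.leaf 0))))) (.node (.node (.node (.node (.leaf 0) (.leaf 0)) (.node (.leaf 0) (.leaf 0))) (.node (.node (.leaf 0) (.leaf 0)) (.node (.leaf 0) (.leaf 0)))) (.node (.node (.node (.leaf 0) (.leaf 0)) (.node (.leaf 0) (.leaf 0))) (.node (.node (.leaf 0) (.leaf 0)) (.node (.leaf 0) (.leaf 0)))))))) (.node (.node (.node (.node (.node (.node (.node (.leaf 0) (.leaf 0)) (.node (.leaf 0) (.leaf 0))) (.node (.node (.leaf 0) (.leaf 0)) (.node (.leaf 0) (.leaf 0)))) (.node (.node (.node (.leaf 0) (.leaf 0)) (.node (.leaf 0) (.leaf 0))) (.node (.node (.leaf 0) (.leaf 0)) (.node (.leaf 0) (.leaf 0))))) (.node (.node (.node (.node (.leaf 0) (.leaf 0)) (.node (.leaf 0) (.leaf 0))) (.node (.node (.leaf 0) (.leaf 0)) (.node (.leaf 0) (.leaf 0)))) (.node (.node (.node (.leaf 0) (.leaf 0)) (.node (.leaf 0) (.leaf 0))) (.node (.node (.leaf 0) (.leaf 0)) (.node (.leaf 0) (.leaf 0)))))) (.node (.node (.node (.node (.node (.leaf 0) (.leaf 0)) (.node (.leaf 0) (.leaf 0))) (.node (.node (.leaf 0) (.leaf 0)) (.node (.leaf 0) (.leaf 0)))) (.node (.node (.node (.leaf 0) (.leaf 0)) (.node (.leaf 0) (.leaf 0))) (.node (.node (.leaf 0) (.leaf 0)) (.node (.leaf 0) (.leaf 0))))) (.node (.node (.node (.node (.leaf 0) (.leaf 0)) (.node (.leaf 0) (.leaf 0))) (.node (.node (.leaf 0) (.leaf 0)) (.node (.leaf 0) (.leaf 0)))) (.node (.node (.node (.leaf 0) (.leaf 0)) (.node (.leaf 0) (.leaf 0))) (.node (.node (.leaf 0) (.leaf 0)) (.node (.leaf 0) (.leaf 0))))))) (.node (.node (.node (.node (.node (.node (.leaf 0) (.leaf 0)) (.node (.leaf 0) (.leaf 0))) (.node (.node (.leaf 0) (.leaf 0)) (.node (.leaf 0) (.leaf 0)))) (.node (.node (.node (.leaf 0) (.leaf 0)) (.node (.leaf 0) (.leaf 0))) (.node (.node (.leaf 0) (.leaf 0)) (.node (.leaf 0) (.leaf 0))))) (.node (.node (.node (.node (.leaf 0) (.leaf 0)) (.node (.leaf 0) (.leaf 0))) (.node (.node (.leaf 0) (.leaf 0)) (.node (.leaf 0) (.leaf 0)))) (.node (.node (.node (.leaf 0) (.leaf 0)) (.node (.leaf 0) (.leaf 0))) (.node (.node (.leaf 0) (.leaf 0)) (.node (.leaf 0) (.leaf 0)))))) (.node (.node (.node (.node (.node (.leaf 0) (.leaf 0)) (.node (.leaf 0) (.leaf 0))) (.node (.node (.leaf 0) (.leaf 0)) (.node (.leaf 0) (.leaf 0)))) (.node (.node (.node (.leaf 0) (.leaf 0)) (.node (.leaf 0) (.leaf 0))) (.node (.node (.leaf 0) (.leaf 0)) (.node (.leaf 0) (.leaf 0))))) (.node (.node (.node (.node (.leaf 0) (.leaf 0)) (.node (.leaf 0) (.leaf 0))) (.node (.node (.leaf 0) (.leaf 0)) (.node (.leaf 0) (.leaf 0)))) (.node (.node (.node (.leaf 0) (.leaf 0)) (.node (.leaf 0) (.leaf 0))) (.node (.node (.leaf 0) (.leaf 0)) (.node (.leaf 0) (.leaf 0))))))))) (.node (.node (.node (.node (.node (.node (.node (.node (.leaf 0) (.leaf 0)) (.node (.leaf 0) (.leaf 0))) (.node (.node (.leaf 0) (.leaf 0)) (.node (.leaf 0) (.leaf 0)))) (.node (.node (.node (.leaf 0) (.leaf 0)) (.node (.leaf 0) (.leaf 0))) (.node (.node (.leaf 0) (.leaf 0)) (.node (.leaf 0) (.leaf 0))))) (.node (.node (.node (.node (.leaf 0) (.leaf 0)) (.node (.leaf 0) (.leaf 0))) (.node (.node (.leaf 0) (.leaf 0)) (.node (.leaf 0) (.leaf 0)))) (.node (.node (.node (.leaf 0) (.leaf 0)) (.node (.leaf 0) (.leaf 0))) (.node (.node (.leaf 0) (.leaf 0)) (.node (.leaf 0) (.leaf 0)))))) (.node (.node (.node (.node (.node (.leaf 0) (.leaf 0)) (.node (.leaf 0) (.leaf 0))) (.node (.node (.leaf 0) (.leaf 0)) (.node (.leaf 0) (.leaf 0)))) (.node (.node (.node (.leaf 0) (.leaf 0)) (.node (.leaf 0) (.leaf 0))) (.node (.node (.leaf 0) (.leaf 0)) (.node (.leaf 0) (.leaf 0))))) (.node (.node (.node (.node (.leaf 0) (.leaf 0)) (.node (.leaf 0) (.leaf 0))) (.node (.node (.leaf 0) (.leaf 0)) (.node (.leaf 0) (.leaf 0)))) (.node (.node (.node (.leaf 0) (.leaf 0)) (.node (.leaf 0) (.leaf 0))) (.node (.node (.leaf 0) (.leaf 0)) (.node (.leaf 0) (.leaf 0))))))) (.node (.node (.node (.node (.node (.node (.leaf 0) (.leaf 0)) (.node (.leaf 0) (.leaf 0))) (.node (.node (.leaf 0) (.leaf 0)) (.node (.leaf 0) (.leaf 0)))) (.node (.node (.node (.leaf 0) (.leaf 0)) (.node (.leaf 0) (.leaf 0))) (.node (.node (.leaf 0) (.leaf 0)) (.node (.leaf 0) (.leaf 0))))) (.node (.node (.node (.node (.leaf 0) (.leaf 0)) (.node (.leaf 0) (.leaf 0))) (.node (.node (.leaf 0) (.leaf 0)) (.node (.leaf 0) (.leaf 0)))) (.node (.node (.node (.leaf 0) (.leaf 0)) (.node (.leaf 0) (.leaf 0))) (.node (.node (.leaf 0) (.leaf 0)) (.node (.leaf 0) (.leaf 0)))))) (.node (.node (.node (.node (.node (.leaf 0) (.leaf 0)) (.node (.leaf 0) (.leaf 0))) (.node (.node (.leaf 0) (.leaf 0)) (.node (.leaf 0) (.leaf 0)))) (.node (.node (.node (.leaf 0) (.leaf 0)) (.node (.leaf 0) (.leaf 0))) (.node (.node (.leaf 0) (.leaf 0)) (.node (.leaf 0) (.leaf 0))))) (.node (.node (.node (.node (.leaf 0) (.leaf 0)) (.node (.leaf 0) (.leaf 0))) (.node (.node (.leaf 0) (.leaf 0)) (.node (.leaf 0) (.leaf 0)))) (.node (.node (.node (.leaf 0) (.leaf 0)) (.node (.leaf 0) (.leaf 0))) (.node (.node (.leaf 0) (.leaf 0)) (.node (.leaf 0) (.leaf 0)))))))) (.node (.node (.node (.node (.node (.node (.node (.leaf 0) (.leaf 0)) (.node (.leaf 0) (.leaf 0))) (.node (.node (.leaf 0) (.leaf 0)) (.node (.leaf 0) (.leaf 0)))) (.node (.node (.node (.leaf 0) (.leaf 0)) (.node (.leaf 0) (.leaf 0))) (.node (.node (.leaf 0) (.leaf 0)) (.node (.leaf 0) (.leaf 0))))) (.node (.node (.node (.node (.leaf 0) (.leaf 0)) (.node (.leaf 0) (.leaf 0))) (.node (.node (.leaf 0) (.leaf 0)) (.node (.leaf 0) (.leaf 0)))) (.node (.node (.node (.leaf 0) (.leaf 0)) (.node (.leaf 0) (.leaf 0))) (.node (.node (.leaf 0) (.leaf 0)) (.node (.leaf 0) (.leaf 0)))))) (.node (.node (.node (.node (.node (.leaf 0) (.leaf 0)) (.node (.leaf 0) (.leaf 0))) (.node (.node (.leaf 0) (.leaf 0)) (.node (.leaf 0) (.leaf 0)))) (.node (.node (.node (.leaf 0) (.leaf 0)) (.node (.leaf 0) (.leaf 0))) (.node (.node (.leaf 0) (.leaf 0)) (.node (.leaf 0) (.leaf 0))))) (.node (.node (.node (.node (.leaf 0) (.leaf 0)) (.node (.leaf 0) (.leaf 0))) (.node (.node (.leaf 0) (.leaf 0)) (.node (.leaf 0) (.leaf 0)))) (.node (.node (.node (.leaf 0) (.leaf 0)) (.node (.leaf 0) (.leaf 0))) (.node (.node (.leaf 0) (.leaf 0)) (.node (.leaf 0) (.leaf 0))))))) (.node (.node (.node (.node (.node (.node (.leaf 0) (.leaf 0)) (.node (.leaf 0) (.leaf 0))) (.node (.node (.leaf 0) (.leaf 0)) (.node (.leaf 0) (.leaf 0)))) (.node (.node (.node (.leaf 0) (.leaf 0)) (.node (.leaf 0) (.leaf 0))) (.node (.node (.leaf 0) (.leaf 0)) (.node (.leaf 0) (.leaf 0))))) (.node (.node (.node (.node (.leaf 0) (.leaf 0)) (.node (.leaf 0) (.leaf 0))) (.node (.node (.leaf 0) (.leaf 0)) (.node (.leaf 0) (.leaf 0)))) (.node (.node (.node (.leaf 0) (.leaf 0)) (.node (.leaf 0) (.leaf 0))) (.node (.node (.leaf 0) (.leaf 0)) (.node (.leaf 0) (.leaf 0)))))) (.node (.node (.node (.node (.node (.leaf 0) (.leaf 0)) (.node (.leaf 0) (.leaf 0))) (.node (.node (.leaf 0) (.leaf 0)) (.node (.leaf 0) (.leaf 0)))) (.node (.node (.node (.leaf 0) (.leaf 0)) (.node (.leaf 0) (.leaf 0))) (.node (.node (.leaf 0) (.leaf 0)) (.node (.leaf 0) (.leaf 0))))) (.node (.node (.node (.node (.leaf 0) (.leaf 0)) (.node (.leaf 0) (.leaf 0))) (.node (.node (.leaf 0) (.leaf 0)) (.node (.leaf 0) (.leaf 0)))) (.node (.node (.node (.leaf 0) (.leaf 0)) (.node (.leaf 0) (.leaf 0))) (.node (.node (.leaf 0) (.leaf 0)) (.node (.leaf 0) (.leaf 0))))))))))))) (.node (.node (.node (.node (.node (.node (.node (.node (.node (.node (.node (.node (.leaf 0) (.leaf 0)) (.node (.leaf 0) (.leaf 0))) (.node (.node (.leaf 0) (.leaf 0)) (.node (.leaf 0) (.leaf 0)))) (.node (.node (.node (.leaf 0) (.leaf 0)) (.node (.leaf 0) (.leaf 0))) (.node (.node (.leaf 0) (.leaf 0)) (.node (.leaf 0) (.leaf 0))))) (.node (.node (.node (.node (.leaf 0) (.leaf 0)) (.node (.leaf 0) (.leaf 0))) (.node (.node (.leaf 0) (.leaf 0)) (.node (.leaf 0) (.leaf 0)))) (.node (.node (.node (.leaf 0) (.leaf 0)) (.node (.leaf 0) (.leaf 0))) (.node (.node (.leaf 0) (.leaf 0)) (.node (.leaf 0) (.leaf 0)))))) (.node (.node (.node (.node (.node (.leaf 0) (.leaf 0)) (.node (.leaf 0) (.leaf 0))) (.node (.node (.leaf 0) (.leaf 0)) (.node (.leaf 0) (.leaf 0)))) (.node (.node (.node (.leaf 0) (.leaf 0)) (.node (.leaf 0) (.leaf 0))) (.node (.node (.leaf 0) (.leaf 0)) (.node (.leaf 0) (.leaf 0))))) (.node (.node (.node (.node (.leaf 0) (.leaf 0)) (.node (.leaf 0) (.leaf 0))) (.node (.node (.leaf 0) (.leaf 0)) (.node (.leaf 0) (.leaf 0)))) (.node (.node (.node (.leaf 0) (.leaf 0)) (.node (.leaf 0) (.leaf 0))) (.node (.node (.leaf 0) (.leaf 0)) (.node (.leaf 0) (.leaf 0))))))) (.node (.node (.node (.node (.node (.node (.leaf 0) (.leaf 0)) (.node (.leaf 0) (.leaf 0))) (.node (.node (.leaf 0) (.leaf 0)) (.node (.leaf 0) (.leaf 0)))) (.node (.node (.node (.leaf 0) (.leaf 0)) (.node (.leaf 0) (.leaf 0))) (.node (.node (.leaf 0) (.leaf 0)) (.node (.leaf 0) (.leaf 0))))) (.node (.node (.node (.node (.leaf 0) (.leaf 0)) (.node (.leaf 0) (.leaf 0))) (.node (.node (.leaf 0) (.leaf 0)) (.node (.leaf 0) (.leaf 0)))) (.node (.node (.node (.leaf 0) (.leaf 0)) (.node (.leaf 0) (.leaf 0))) (.node (.node (.leaf 0) (.leaf 0)) (.node (.leaf 0) (.leaf 0)))))) (.node (.node (.node (.node (.node (.leaf 0) (.leaf 0)) (.node (.leaf 0) (.leaf 0))) (.node (.node (.leaf 0) (.leaf 0)) (.node (.leaf 0) (.leaf 0)))) (.node (.node (.node (.leaf 0) (.leaf 0)) (.node (.leaf 0) (.leaf 0))) (.node (.node (.leaf 0) (.leaf 0)) (.node (.leaf 0) (.leaf 0))))) (.node (.node (.node (.node (.leaf 0) (.leaf 0)) (.node (.leaf 0) (.leaf 0))) (.node (.node (.leaf 0) (.leaf 0)) (.node (.leaf 0) (.leaf 0)))) (.node (.node (.node (.leaf 0) (.leaf 0)) (.node (.leaf 0) (.leaf 0))) (.node (.node (.leaf 0) (.leaf 0)) (.node (.leaf 0) (.leaf 0)))))))) (.node (.node (.node (.node (.node (.node (.node (.leaf 0) (.leaf 0)) (.node (.leaf 0) (.leaf 0))) (.node (.node (.leaf 0) (.leaf 0)) (.node (.leaf 0) (.leaf 0)))) (.node (.node (.node (.leaf 0) (.leaf 0)) (.node (.leaf 0) (.leaf 0))) (.node (.node (.leaf 0) (.leaf 0)) (.node (.leaf 0) (.leaf 0))))) (.node (.node (.node (.node (.leaf 0) (.leaf 0)) (.node (.leaf 0) (.leaf 0))) (.node (.node (.leaf 0) (.leaf 0)) (.node (.leaf 0) (.leaf 0)))) (.node (.node (.node (.leaf 0) (.leaf 0)) (.node (.leaf 0) (.leaf 0))) (.node (.node (.leaf 0) (.leaf 0)) (.node (.leaf 0) (.leaf 0)))))) (.node (.node (.node (.node (.node (.leaf 0) (.leaf 0)) (.node (.leaf 0) (.leaf 0))) (.node (.node (.leaf 0) (.leaf 0)) (.node (.leaf 0) (.leaf 0)))) (.node (.node (.node (.leaf 0) (.leaf 0)) (.node (.leaf 0) (.leaf 0))) (.node (.node (.leaf 0) (.leaf 0)) (.node (.leaf 0) (.leaf 0))))) (.node (.node (.node (.node (.leaf 0) (.leaf 0)) (.node (.leaf 0) (.leaf 0))) (.node (.node (.leaf 0) (.leaf 0)) (.node (.leaf 0) (.leaf 0)))) (.node (.node (.node (.leaf 0) (.leaf 0)) (.node (.leaf 0) (.leaf 0))) (.node (.node (.leaf 0) (.leaf 0)) (.node (.leaf 0) (.leaf 0))))))) (.node (.node (.node (.node (.node (.node (.leaf 0) (.leaf 0)) (.node (.leaf 0) (.leaf 0))) (.node (.node (.leaf 0) (.leaf 0)) (.node (.leaf 0) (.leaf 0)))) (.node (.node (.node (.leaf 0) (.leaf 0)) (.node (.leaf 0) (.leaf 0))) (.node (.node (.leaf 0) (.leaf 0)) (.node (.leaf 0) (.leaf 0))))) (.node (.node (.node (.node (.leaf 0) (.leaf 0)) (.node (.leaf 0) (.leaf 0))) (.node (.node (.leaf 0) (.leaf 0)) (.node (.leaf 0) (.leaf 0)))) (.node (.node (.node (.leaf 0) (.leaf 0)) (.node (.leaf 0) (.leaf 0))) (.node (.node (.leaf 0) (.leaf 0)) (.node (.leaf 0) (.leaf 0)))))) (.node (.node (.node (.node (.node (.leaf 0) (.leaf 0)) (.node (.leaf 0) (.leaf 0))) (.node (.node (.leaf 0) (.leaf 0)) (.node (.leaf 0) (.leaf 0)))) (.node (.node (.node (.leaf 0) (.leaf 0)) (.node (.leaf 0) (.leaf 0))) (.node (.node (.leaf 0) (.leaf 0)) (.node (.leaf 0) (.leaf 0))))) (.node (.node (.node (.node (.leaf 0) (.leaf 0)) (.node (.leaf 0) (.leaf 0))) (.node (.node (.leaf 0) (.leaf 0)) (.node (.leaf 0) (.leaf 0)))) (.node (.node (.node (.leaf 0) (.leaf 0)) (.node (.leaf 0) (.leaf 0))) (.node (.node (.leaf 0) (.leaf 0)) (.node (.leaf 0) (.leaf 0))))))))) (.node (.node (.node (.node (.node (.node (.node (.node (.leaf 0) (.leaf 0)) (.node (.leaf 0) (.leaf 0))) (.node (.node (.leaf 0) (.leaf 0)) (.node (.leaf 0) (.leaf 0)))) (.node (.node (.node (.leaf 0) (.leaf 0)) (.node (.leaf 0) (.leaf 0))) (.node (.node (.leaf 0) (.leaf 0)) (.node (.leaf 0) (.leaf 0))))) (.node (.node (.node (.node (.leaf 0) (.leaf 0)) (.node (.leaf 0) (.leaf 0))) (.node (.node (.leaf 0) (.leaf 0)) (.node (.leaf 0) (.leaf 0)))) (.node (.node (.node (.leaf 0) (.leaf 0)) (.node (.leaf 0) (.leaf 0))) (.node (.node (.leaf 0) (.leaf 0)) (.node (.leaf 0) (.leaf 0)))))) (.node (.node (.node (.node (.node (.leaf 0) (.leaf 0)) (.node (.leaf 0) (.leaf 0))) (.node (.node (.leaf 0) (.leaf 0)) (.node (.leaf 0) (.leaf 0)))) (.node (.node (.node (.leaf 0) (.leaf 0)) (.node (.leaf 0) (.leaf 0))) (.node (.node (.leaf 0) (.leaf 0)) (.node (.leaf 0) (.leaf 0))))) (.node (.node (.node (.node (.leaf 0) (.leaf 0)) (.node (.leaf 0) (.leaf 0))) (.node (.node (.leaf 0) (.leaf 0)) (.node (.leaf 0) (.leaf 0)))) (.node (.node (.node (.leaf 0) (.leaf 0)) (.node (.leaf 0) (.leaf 0))) (.node (.node (.leaf 0) (.leaf 0)) (.node (.leaf 0) (.leaf 0))))))) (.node (.node (.node (.node (.node (.node (.leaf 0) (.leaf 0)) (.node (.leaf 0) (.leaf 0))) (.node (.node (.leaf 0) (.leaf 0)) (.node (.leaf 0) (.leaf 0)))) (.node (.node (.node (.leaf 0) (.leaf 0)) (.node (.leaf 0) (.leaf 0))) (.node (.node (.leaf 0) (.leaf 0)) (.node (.leaf 0) (.leaf 0))))) (.node (.node (.node (.node (.leaf 0) (.leaf 0)) (.node (.leaf 0) (.leaf 0))) (.node (.node (.leaf 0) (.leaf 0)) (.node (.leaf 0) (.leaf 0)))) (.node (.node (.node (.leaf 0) (.leaf 0)) (.node (.leaf 0) (.leaf 0))) (.node (.node (.leaf 0) (.leaf 0)) (.node (.leaf 0) (.leaf 0)))))) (.node (.node (.node (.node (.node (.leaf 0) (.leaf 0)) (.node (.leaf 0) (.leaf 0))) (.node (.node (.leaf 0) (.leaf 0)) (.node (.leaf 0) (.leaf 0)))) (.node (.node (.node (.leaf 0) (.leaf 0)) (.node (.leaf 0) (.leaf 0))) (.node (.node (.leaf 0) (.leaf 0)) (.node (.leaf 0) (.leaf 0))))) (.node (.node (.node (.node (.leaf 0) (.leaf 0)) (.node (.leaf 0) (.leaf 0))) (.node (.node (.leaf 0) (.leaf 0)) (.node (.leaf 0) (.leaf 0)))) (.node (.node (.node (.leaf 0) (.leaf 0)) (.node (.leaf 0) (.leaf 0))) (.node (.node (.leaf 0) (.leaf 0)) (.node (.leaf 0) (.leaf 0)))))))) (.node (.node (.node (.node (.node (.node (.node (.leaf 0) (.leaf 0)) (.node (.leaf 0) (.leaf 0))) (.node (.node (.leaf 0) (.leaf 0)) (.node (.leaf 0) (.leaf 0)))) (.node (.node (.node (.leaf 0) (.leaf 0)) (.node (.leaf 0) (.leaf 0))) (.node (.node (.leaf 0) (.leaf 0)) (.node (.leaf 0) (.leaf 0))))) (.node (.node (.node (.node (.leaf 0) (.leaf 0)) (.node (.leaf 0) (.leaf 0))) (.node (.node (.leaf 0) (.leaf 0)) (.node (.leaf 0) (.leaf 0)))) (.node (.node (.node (.leaf 0) (.leaf 0)) (.node (.leaf 0) (.leaf 0))) (.node (.node (.leaf 0) (.leaf 0)) (.node (.leaf 0) (.leaf 0)))))) (.node (.node (.node (.node (.node (.leaf 0) (.leaf 0)) (.node (.leaf 0) (.leaf 0))) (.node (.node (.leaf 0) (.leaf 0)) (.node (.leaf 0) (.leaf 0)))) (.node (.node (.node (.leaf 0) (.leaf 0)) (.node (.leaf 0) (.leaf 0))) (.node (.node (.leaf 0) (.leaf 0)) (.node (.leaf 0) (.leaf 0))))) (.node (.node (.node (.node (.leaf 0) (.leaf 0)) (.node (.leaf 0) (.leaf 0))) (.node (.node (.leaf 0) (.leaf 0)) (.node (.leaf 0) (.leaf 0)))) (.node (.node (.node (.leaf 0) (.leaf 0)) (.node (.leaf 0) (.leaf 0))) (.node (.node (.leaf 0) (.leaf 0)) (.node (.leaf 0) (.leaf 0))))))) (.node (.node (.node (.node (.node (.node (.leaf 0) (.leaf 0)) (.node (.leaf 0) (.leaf 0))) (.node (.node (.leaf 0) (.leaf 0)) (.node (.leaf 0) (.leaf 0)))) (.node (.node (.node (.leaf 0) (.leaf 0)) (.node (.leaf 0) (.leaf 0))) (.node (.node (.leaf 0) (.leaf 0)) (.node (.leaf 0) (.leaf 0))))) (.node (.node (.node (.node (.leaf 0) (.leaf 0)) (.node (.leaf 0) (.leaf 0))) (.node (.node (.leaf 0) (.leaf 0)) (.node (.leaf 0) (.leaf 0)))) (.node (.node (.node (.leaf 0) (.leaf 0)) (.node (.leaf 0) (.leaf 0))) (.node (.node (.leaf 0) (.leaf 0)) (.node (.leaf 0) (.leaf 0)))))) (.node (.node (.node (.node (.node (.leaf 0) (.leaf 0)) (.node (.leaf 0) (.leaf 0))) (.node (.node (.leaf 0) (.leaf 0)) (.node (.leaf 0) (.leaf 0)))) (.node (.node (.node (.leaf 0) (.leaf 0)) (.node (.leaf 0) (.leaf 0))) (.node (.node (.leaf 0) (.leaf 0)) (.node (.leaf 0) (.leaf 0))))) (.node (.node (.node (.node (.leaf 0) (.leaf 0)) (.node (.leaf 0) (.leaf 0))) (.node (.node (.leaf 0) (.leaf 0)) (.node (.leaf 0) (.leaf 0)))) (.node (.node (.node (.leaf 0) (.leaf 0)) (.node (.leaf 0) (.leaf 0))) (.node (.node (.leaf 0) (.leaf 0)) (.node (.leaf 0) (.leaf 0)))))))))) (.node (.node (.node (.node (.node (.node (.node (.node (.node (.leaf 0) (.leaf 0)) (.node (.leaf 0) (.leaf 0))) (.node (.node (.leaf 0) (.leaf 0)) (.node (.leaf 0) (.leaf 0)))) (.node (.node (.node (.leaf 0) (.leaf 0)) (.node (.leaf 0) (.leaf 0))) (.node (.node (.leaf 0) (.leaf 0)) (.node (.leaf 0) (.leaf 0))))) (.node (.node (.node (.node (.leaf 0) (.leaf 0)) (.node (.leaf 0) (.leaf 0))) (.node (.node (.leaf 0) (.leaf 0)) (.node (.leaf 0) (.leaf 0)))) (.node (.node (.node (.leaf 0) (.leaf 0)) (.node (.leaf 0) (.leaf 0))) (.node (.node (.leaf 0) (.leaf 0)) (.node (.leaf 0) (.leaf 0)))))) (.node (.node (.node (.node (.node (.leaf 0) (.leaf 0)) (.node (.leaf 0) (.leaf 0))) (.node (.node (.leaf 0) (.leaf 0)) (.node (.leaf 0) (.leaf 0)))) (.node (.node (.node (.leaf 0) (.leaf 0)) (.node (.leaf 0) (.leaf 0))) (.node (.node (.leaf 0) (.leaf 0)) (.node (.leaf 0) (.leaf 0))))) (.node (.node (.node (.node (.leaf 0) (.leaf 0)) (.node (.leaf 0) (.leaf 0))) (.node (.node (.leaf 0) (.leaf 0)) (.node (.leaf 0) (.leaf 0)))) (.node (.node (.node (.leaf 0) (.leaf 0)) (.node (.leaf 0) (.leaf 0))) (.node (.node (.leaf 0) (.leaf 0)) (.node (.leaf 0) (.leaf 0))))))) (.node (.node (.node (.node (.node (.node (.leaf 0) (.leaf 0)) (.node (.leaf 0) (.leaf 0))) (.node (.node (.leaf 0) (.leaf 0)) (.node (.leaf 0) (.leaf 0)))) (.node (.node (.node (.leaf 0) (.leaf 0)) (.node (.leaf 0) (.leaf 0))) (.node (.node (.leaf 0) (.leaf 0)) (.node (.leaf 0) (.leaf 0))))) (.node (.node (.node (.node (.leaf 0) (.leaf 0)) (.node (.leaf 0) (.leaf 0))) (.node (.node (.leaf 0) (.leaf 0)) (.node (.leaf 0) (.leaf 0)))) (.node (.node (.node (.leaf 0) (.leaf 0)) (.node (.leaf 0) (.leaf 0))) (.node (.node (.leaf 0) (.leaf 0)) (.node (.leaf 0) (.leaf 0)))))) (.node (.node (.node (.node (.node (.leaf 0) (.leaf 0)) (.node (.leaf 0) (.leaf 0))) (.node (.node (.leaf 0) (.leaf 0)) (.node (.leaf 0) (.leaf 0)))) (.node (.node (.node (.leaf 0) (.leaf 0)) (.node (.leaf 0) (.leaf 0))) (.node (.node (.leaf 0) (.leaf 0)) (.node (.leaf 0) (.leaf 0))))) (.node (.node (.node (.node (.leaf 0) (.leaf 0)) (.node (.leaf 0) (.leaf 0))) (.node (.node (.leaf 0) (.leaf 0)) (.node (.leaf 0) (.leaf 0)))) (.node (.node (.node (.leaf 0) (.leaf 0)) (.node (.leaf 0) (.leaf 0))) (.node (.node (.leaf 0) (.leaf 0)) (.node (.leaf 0) (.leaf 0)))))))) (.node (.node (.node (.node (.node (.node (.node (.leaf 0) (.leaf 0)) (.node (.leaf 0) (.leaf 0))) (.node (.node (.leaf 0) (.leaf 0)) (.node (.leaf 0) (.leaf 0)))) (.node (.node (.node (.leaf 0) (.leaf 0)) (.node (.leaf 0) (.leaf 0))) (.node (.node (.leaf 0) (.leaf 0)) (.node (.leaf 0) (.leaf 0))))) (.node (.node (.node (.node (.leaf 0) (.leaf 0)) (.node (.leaf 0) (.leaf 0))) (.node (.node (.leaf 0) (.leaf 0)) (.node (.leaf 0) (.leaf 0)))) (.node (.node (.node (.leaf 0) (.leaf 0)) (.node (.leaf 0) (.leaf 0))) (.node (.node (.leaf 0) (.leaf 0)) (.node (.leaf 0) (.leaf 0)))))) (.node (.node (.node (.node (.node (.leaf 0) (.leaf 0)) (.node (.leaf 0) (.leaf 0))) (.node (.node (.leaf 0) (.leaf 0)) (.node (.leaf 0) (.leaf 0)))) (.node (.node (.node (.leaf 0) (.leaf 0)) (.node (.leaf 0) (.leaf 0))) (.node (.node (.leaf 0) (.leaf 0)) (.node (.leaf 0) (.leaf 0))))) (.node (.node (.node (.node (.leaf 0) (.leaf 0)) (.node (.leaf 0) (.leaf 0))) (.node (.node (.leaf 0) (.leaf 0)) (.node (.leaf 0) (.leaf 0)))) (.node (.node (.node (.leaf 0) (.leaf 0)) (.node (.leaf 0) (.leaf 0))) (.node (.node (.leaf 0) (.leaf 0)) (.node (.leaf 0) (.leaf 0))))))) (.node (.node (.node (.node (.node (.node (.leaf 0) (.leaf 0)) (.node (.leaf 0) (.leaf 0))) (.node (.node (.leaf 0) (.leaf 0)) (.node (.leaf 0) (.leaf 0)))) (.node (.node (.node (.leaf 0) (.leaf 0)) (.node (.leaf 0) (.leaf 0))) (.node (.node (.leaf 0) (.leaf 0)) (.node (.leaf 0) (.leaf 0))))) (.node (.node (.node (.node (.leaf 0) (.leaf 0)) (.node (.leaf 0) (.leaf 0))) (.node (.node (.leaf 0) (.leaf 0)) (.node (.leaf 0) (.leaf 0)))) (.node (.node (.node (.leaf 0) (.leaf 0)) (.node (.leaf 0) (.leaf 0))) (.node (.node (.leaf 0) (.leaf 0)) (.node (.leaf 0) (.leaf 0)))))) (.node (.node (.node (.node (.node (.leaf 0) (.leaf 0)) (.node (.leaf 0) (.leaf 0))) (.node (.node (.leaf 0) (.leaf 0)) (.node (.leaf 0) (.leaf 0)))) (.node (.node (.node (.leaf 0) (.leaf 0)) (.node (.leaf 0) (.leaf 0))) (.node (.node (.leaf 0) (.leaf 0)) (.node (.leaf 0) (.leaf 0))))) (.node (.node (.node (.node (.leaf 0) (.leaf 0)) (.node (.leaf 0) (.leaf 0))) (.node (.node (.leaf 0) (.leaf 0)) (.node (.leaf 0) (.leaf 0)))) (.node (.node (.node (.leaf 0) (.leaf 0)) (.node (.leaf 0) (.leaf 0))) (.node (.node (.leaf 0) (.leaf 0)) (.node (.leaf 0) (.leaf 0))))))))) (.node (.node (.node (.node (.node (.node (.node (.node (.leaf 0) (.leaf 0)) (.node (.leaf 0) (.leaf 0))) (.node (.node (.leaf 0) (.leaf 0)) (.node (.leaf 0) (.leaf 0)))) (.node (.node (.node (.leaf 0) (.leaf 0)) (.node (.leaf 0) (.leaf 0))) (.node (.node (.leaf 0) (.leaf 0)) (.node (.leaf 0) (.leaf 0))))) (.node (.node (.node (.node (.leaf 0) (.leaf 0)) (.node (.leaf 0) (.leaf 0))) (.node (.node (.leaf 0) (.leaf 0)) (.node (.leaf 0) (.leaf 0)))) (.node (.node (.node (.leaf 0) (.leaf 0)) (.node (.leaf 0) (.leaf 0))) (.node (.node (.leaf 0) (.leaf 0)) (.node (.leaf 0) (.leaf 0)))))) (.node (.node (.node (.node (.node (.leaf 0) (.leaf 0)) (.node (.leaf 0) (.leaf 0))) (.node (.node (.leaf 0) (.leaf 0)) (.node (.leaf 0) (.leaf 0)))) (.node (.node (.node (.leaf 0) (.leaf 0)) (.node (.leaf 0) (.leaf 0))) (.node (.node (.leaf 0) (.leaf 0)) (.node (.leaf 0) (.leaf 0))))) (.node (.node (.node (.node (.leaf 0) (.leaf 0)) (.node (.leaf 0) (.leaf 0))) (.node (.node (.leaf 0) (.leaf 0)) (.node (.leaf 0) (.leaf 0)))) (.node (.node (.node (.leaf 0) (.leaf 0)) (.node (.leaf 0) (.leaf 0))) (.node (.node (.leaf 0) (.leaf 0)) (.node (.leaf 0) (.leaf 0))))))) (.node (.node (.node (.node (.node (.node (.leaf 0) (.leaf 0)) (.node (.leaf 0) (.leaf 0))) (.node (.node (.leaf 0) (.leaf 0)) (.node (.leaf 0) (.leaf 0)))) (.node (.node (.node (.leaf 0) (.leaf 0)) (.node (.leaf 0) (.leaf 0))) (.node (.node (.leaf 0) (.leaf 0)) (.node (.leaf 0) (.leaf 0))))) (.node (.node (.node (.node (.leaf 0) (.leaf 0)) (.node (.leaf 0) (.leaf 0))) (.node (.node (.leaf 0) (.leaf 0)) (.node (.leaf 0) (.leaf 0)))) (.node (.node (.node (.leaf 0) (.leaf 0)) (.node (.leaf 0) (.leaf 0))) (.node (.node (.leaf 0) (.leaf 0)) (.node (.leaf 0) (.leaf 0)))))) (.node (.node (.node (.node (.node (.leaf 0) (.leaf 0)) (.node (.leaf 0) (.leaf 0))) (.node (.node (.leaf 0) (.leaf 0)) (.node (.leaf 0) (.leaf 0)))) (.node (.node (.node (.leaf 0) (.leaf 0)) (.node (.leaf 0) (.leaf 0))) (.node (.node (.leaf 0) (.leaf 0)) (.node (.leaf 0) (.leaf 0))))) (.node (.node (.node (.node (.leaf 0) (.leaf 0)) (.node (.leaf 0) (.leaf 0))) (.node (.node (.leaf 0) (.leaf 0)) (.node (.leaf 0) (.leaf 0)))) (.node (.node (.node (.leaf 0) (.leaf 0)) (.node (.leaf 0) (.leaf 0))) (.node (.node (.leaf 0) (.leaf 0)) (.node (.leaf 0) (.leaf 0)))))))) (.node (.node (.node (.node (.node (.node (.node (.leaf 0) (.leaf 0)) (.node (.leaf 0) (.leaf 0))) (.node (.node (.leaf 0) (.leaf 0)) (.node (.leaf 0) (.leaf 0)))) (.node (.node (.node (.leaf 0) (.leaf 0)) (.node (.leaf 0) (.leaf 0))) (.node (.node (.leaf 0) (.leaf 0)) (.node (.leaf 0) (.leaf 0))))) (.node (.node (.node (.node (.leaf 0) (.leaf 0)) (.node (.leaf 0) (.leaf 0))) (.node (.node (.leaf 0) (.leaf 0)) (.node (.leaf 0) (.leaf 0)))) (.node (.node (.node (.leaf 0) (.leaf 0)) (.node (.leaf 0) (.leaf 0))) (.node (.node (.leaf 0) (.leaf 0)) (.node (.leaf 0) (.leaf 0)))))) (.node (.node (.node (.node (.node (.leaf 0) (.leaf 0)) (.node (.leaf 0) (.leaf 0))) (.node (.node (.leaf 0) (.leaf 0)) (.node (.leaf 0) (.leaf 0)))) (.node (.node (.node (.leaf 0) (.leaf 0)) (.node (.leaf 0) (.leaf 0))) (.node (.node (.leaf 0) (.leaf 0)) (.node (.leaf 0) (.leaf 0))))) (.node (.node (.node (.node (.leaf 0) (.leaf 0)) (.node (.leaf 0) (.leaf 0))) (.node (.node (.leaf 0) (.leaf 0)) (.node (.leaf 0) (.leaf 0)))) (.node (.node (.node (.leaf 0) (.leaf 0)) (.node (.leaf 0) (.leaf 0))) (.node (.node (.leaf 0) (.leaf 0)) (.node (.leaf 0) (.leaf 0))))))) (.node (.node (.node (.node (.node (.node (.leaf 0) (.leaf 0)) (.node (.leaf 0) (.leaf 0))) (.node (.node (.leaf 0) (.leaf 0)) (.node (.leaf 0) (.leaf 0)))) (.node (.node (.node (.leaf 0) (.leaf 0)) (.node (.leaf 0) (.leaf 0))) (.node (.node (.leaf 0) (.leaf 0)) (.node (.leaf 0) (.leaf 0))))) (.node (.node (.node (.node (.leaf 0) (.leaf 0)) (.node (.leaf 0) (.leaf 0))) (.node (.node (.leaf 0) (.leaf 0)) (.node (.leaf 0) (.leaf 0)))) (.node (.node (.node (.leaf 0) (.leaf 0)) (.node (.leaf 0) (.leaf 0))) (.node (.node (.leaf 0) (.leaf 0)) (.node (.leaf 0) (.leaf 0)))))) (.node (.node (.node (.node (.node (.leaf 0) (.leaf 0)) (.node (.leaf 0) (.leaf 0))) (.node (.node (.leaf 0) (.leaf 0)) (.node (.leaf 0) (.leaf 0)))) (.node (.node (.node (.leaf 0) (.leaf 0)) (.node (.leaf 0) (.leaf 0))) (.node (.node (.leaf 0) (.leaf 0)) (.node (.leaf 0) (.leaf 0))))) (.node (.node (.node (.node (.leaf 0) (.leaf 0)) (.node (.leaf 0) (.leaf 0))) (.node (.node (.leaf 0) (.leaf 0)) (.node (.leaf 0) (.leaf 0)))) (.node (.node (.node (.leaf 0) (.leaf 0)) (.node (.leaf 0) (.leaf 0))) (.node (.node (.leaf 0) (.leaf 0)) (.node (.leaf 0) (.leaf 0))))))))))) (.node (.node (.node (.node (.node (.node (.node (.node (.node (.node (.leaf 0) (.leaf 0)) (.node (.leaf 0) (.leaf 0))) (.node (.node (.leaf 0) (.leaf 0)) (.node (.leaf 0) (.leaf 0)))) (.node (.node (.node (.leaf 0) (.leaf 0)) (.node (.leaf 0) (.leaf 0))) (.node (.node (.leaf 0) (.leaf 0)) (.node (.leaf 0) (.leaf 0))))) (.node (.node (.node (.node (.leaf 0) (.leaf 0)) (.node (.leaf 0) (.leaf 0))) (.node (.node (.leaf 0) (.leaf 0)) (.node (.leaf 0) (.leaf 0)))) (.node (.node (.node (.leaf 0) (.leaf 0)) (.node (.leaf 0) (.leaf 0))) (.node (.node (.leaf 0) (.leaf 0)) (.node (.leaf 0) (.leaf 0)))))) (.node (.node (.node (.node (.node (.leaf 0) (.leaf 0)) (.node (.leaf 0) (.leaf 0))) (.node (.node (.leaf 0) (.leaf 0)) (.node (.leaf 0) (.leaf 0)))) (.node (.node (.node (.leaf 0) (.leaf 0)) (.node (.leaf 0) (.leaf 0))) (.node (.node (.leaf 0) (.leaf 0)) (.node (.leaf 0) (.leaf 0))))) (.node (.node (.node (.node (.leaf 0) (.leaf 0)) (.node (.leaf 0) (.leaf 0))) (.node (.node (.leaf 0) (.leaf 0)) (.node (.leaf 0) (.leaf 0)))) (.node (.node (.node (.leaf 0) (.leaf 0)) (.node (.leaf 0) (.leaf 0))) (.node (.node (.leaf 0) (.leaf 0)) (.node (.leaf 0) (.leaf 0))))))) (.node (.node (.node (.node (.node (.node (.leaf 0) (.leaf 0)) (.node (.leaf 0) (.leaf 0))) (.node (.node (.leaf 0) (.leaf 0)) (.node (.leaf 0) (.leaf 0)))) (.node (.node (.node (.leaf 0) (.leaf 0)) (.node (.leaf 0) (.leaf 0))) (.node (.node (.leaf 0) (.leaf 0)) (.node (.leaf 0) (.leaf 0))))) (.node (.node (.node (.node (.leaf 0) (.leaf 0)) (.node (.leaf 0) (.leaf 0))) (.node (.node (.leaf 0) (.leaf 0)) (.node (.leaf 0) (.leaf 0)))) (.node (.node (.node (.leaf 0) (.leaf 0)) (.node (.leaf 0) (.leaf 0))) (.node (.node (.leaf 0) (.leaf 0)) (.node (.leaf 0) (.leaf 0)))))) (.node (.node (.node (.node (.node (.leaf 0) (.leaf 0)) (.node (.leaf 0) (.leaf 0))) (.node (.node (.leaf 0) (.leaf 0)) (.node (.leaf 0) (.leaf 0)))) (.node (.node (.node (.leaf 0) (.leaf 0)) (.node (.leaf 0) (.leaf 0))) (.node (.node (.leaf 0) (.leaf 0)) (.node (.leaf 0) (.leaf 0))))) (.node (.node (.node (.node (.leaf 0) (.leaf 0)) (.node (.leaf 0) (.leaf 0))) (.node (.node (.leaf 0) (.leaf 0)) (.node (.leaf 0) (.leaf 0)))) (.node (.node (.node (.leaf 0) (.leaf 0)) (.node (.leaf 0) (.leaf 0))) (.node (.node (.leaf 0) (.leaf 0)) (.node (.leaf 0) (.leaf 0)))))))) (.node (.node (.node (.node (.node (.node (.node (.leaf 0) (.leaf 0)) (.node (.leaf 0) (.leaf 0))) (.node (.node (.leaf 0) (.leaf 0)) (.node (.leaf 0) (.leaf 0)))) (.node (.node (.node (.leaf 0) (.leaf 0)) (.node (.leaf 0) (.leaf 0))) (.node (.node (.leaf 0) (.leaf 0)) (.node (.leaf 0) (.leaf 0))))) (.node (.node (.node (.node (.leaf 0) (.leaf 0)) (.node (.leaf 0) (.leaf 0))) (.node (.node (.leaf 0) (.leaf 0)) (.node (.leaf 0) (.leaf 0)))) (.node (.node (.node (.leaf 0) (.leaf 0)) (.node (.leaf 0) (.leaf 0))) (.node (.node (.leaf 0) (.leaf 0)) (.node (.leaf 0) (.leaf 0)))))) (.node (.node (.node (.node (.node (.leaf 0) (.leaf 0)) (.node (.leaf 0) (.leaf 0))) (.node (.node (.leaf 0) (.leaf 0)) (.node (.leaf 0) (.leaf 0)))) (.node (.node (.node (.leaf 0) (.leaf 0)) (.node (.leaf 0) (.leaf 0))) (.node (.node (.leaf 0) (.leaf 0)) (.node (.leaf 0) (.leaf 0))))) (.node (.node (.node (.node (.leaf 0) (.leaf 0)) (.node (.leaf 0) (.leaf 0))) (.node (.node (.leaf 0) (.leaf 0)) (.node (.leaf 0) (.leaf 0)))) (.node (.node (.node (.leaf 0) (.leaf 0)) (.node (.leaf 0) (.leaf 0))) (.node (.node (.leaf 0) (.leaf 0)) (.node (.leaf 0) (.leaf 0))))))) (.node (.node (.node (.node (.node (.node (.leaf 0) (.leaf 0)) (.node (.leaf 0) (.leaf 0))) (.node (.node (.leaf 0) (.leaf 0)) (.node (.leaf 0) (.leaf 0)))) (.node (.node (.node (.leaf 0) (.leaf 0)) (.node (.leaf 0) (.leaf 0))) (.node (.node (.leaf 0) (.leaf 0)) (.node (.leaf 0) (.leaf 0))))) (.node (.node (.node (.node (.leaf 0) (.leaf 0)) (.node (.leaf 0) (.leaf 0))) (.node (.node (.leaf 0) (.leaf 0)) (.node (.leaf 0) (.leaf 0)))) (.node (.node (.node (.leaf 0) (.leaf 0)) (.node (.leaf 0) (.leaf 0))) (.node (.node (.leaf 0) (.leaf 0)) (.node (.leaf 0) (.leaf 0)))))) (.node (.node (.node (.node (.node (.leaf 0) (.leaf 0)) (.node (.leaf 0) (.leaf 0))) (.node (.node (.leaf 0) (.leaf 0)) (.node (.leaf 0) (.leaf 0)))) (.node (.node (.node (.leaf 0) (.leaf 0)) (.node (.leaf 0) (.leaf 0))) (.node (.node (.leaf 0) (.leaf 0)) (.node (.leaf 0) (.leaf 0))))) (.node (.node (.node (.node (.leaf 0) (.leaf 0)) (.node (.leaf 0) (.leaf 0))) (.node (.node (.leaf 0) (.leaf 0)) (.node (.leaf 0) (.leaf 0)))) (.node (.node (.node (.leaf 0) (.leaf 0)) (.node (.leaf 0) (.leaf 0))) (.node (.node (.leaf 0) (.leaf 0)) (.node (.leaf 0) (.leaf 0))))))))) (.node (.node (.node (.node (.node (.node (.node (.node (.leaf 0) (.leaf 0)) (.node (.leaf 0) (.leaf 0))) (.node (.node (.leaf 0) (.leaf 0)) (.node (.leaf 0) (.leaf 0)))) (.node (.node (.node (.leaf 0) (.leaf 0)) (.node (.leaf 0) (.leaf 0))) (.node (.node (.leaf 0) (.leaf 0)) (.node (.leaf 0) (.leaf 0))))) (.node (.node (.node (.node (.leaf 0) (.leaf 0)) (.node (.leaf 0) (.leaf 0))) (.node (.node (.leaf 0) (.leaf 0)) (.node (.leaf 0) (.leaf 0)))) (.node (.node (.node (.leaf 0) (.leaf 0)) (.node (.leaf 0) (.leaf 0))) (.node (.node (.leaf 0) (.leaf 0)) (.node (.leaf 0) (.leaf 0)))))) (.node (.node (.node (.node (.node (.leaf 0) (.leaf 0)) (.node (.leaf 0) (.leaf 0))) (.node (.node (.leaf 0) (.leaf 0)) (.node (.leaf 0) (.leaf 0)))) (.node (.node (.node (.leaf 0) (.leaf 0)) (.node (.leaf 0) (.leaf 0))) (.node (.node (.leaf 0) (.leaf 0)) (.node (.leaf 0) (.leaf 0))))) (.node (.node (.node (.node (.leaf 0) (.leaf 0)) (.node (.leaf 0) (.leaf 0))) (.node (.node (.leaf 0) (.leaf 0)) (.node (.leaf 0) (.leaf 0)))) (.node (.node (.node (.leaf 0) (.leaf 0)) (.node (.leaf 0) (.leaf 0))) (.node (.node (.leaf 0) (.leaf 0)) (.node (.leaf 0) (.leaf 0))))))) (.node (.node (.node (.node (.node (.node (.leaf 0) (.leaf 0)) (.node (.leaf 0) (.leaf 0))) (.node (.node (.leaf 0) (.leaf 0)) (.node (.leaf 0) (.leaf 0)))) (.node (.node (.node (.leaf 0) (.leaf 0)) (.node (.leaf 0) (.leaf 0))) (.node (.node (.leaf 0) (.leaf 0)) (.node (.leaf 0) (.leaf 0))))) (.node (.node (.node (.node (.leaf 0) (.leaf 0)) (.node (.leaf 0) (.leaf 0))) (.node (.node (.leaf 0) (.leaf 0)) (.node (.leaf 0) (.leaf 0)))) (.node (.node (.node (.leaf 0) (.leaf 0)) (.node (.leaf 0) (.leaf 0))) (.node (.node (.leaf 0) (.leaf 0)) (.node (.leaf 0) (.leaf 0)))))) (.node (.node (.node (.node (.node (.leaf 0) (.leaf 0)) (.node (.leaf 0) (.leaf 0))) (.node (.node (.leaf 0) (.leaf 0)) (.node (.leaf 0) (.leaf 0)))) (.node (.node (.node (.leaf 0) (.leaf 0)) (.node (.leaf 0) (.leaf 0))) (.node (.node (.leaf 0) (.leaf 0)) (.node (.leaf 0) (.leaf 0))))) (.node (.node (.node (.node (.leaf 0) (.leaf 0)) (.node (.leaf 0) (.leaf 0))) (.node (.node (.leaf 0) (.leaf 0)) (.node (.leaf 0) (.leaf 0)))) (.node (.node (.node (.leaf 0) (.leaf 0)) (.node (.leaf 0) (.leaf 0))) (.node (.node (.leaf 0) (.leaf 0)) (.node (.leaf 0) (.leaf 0)))))))) (.node (.node (.node (.node (.node (.node (.node (.leaf 0) (.leaf 0)) (.node (.leaf 0) (.leaf 0))) (.node (.node (.leaf 0) (.leaf 0)) (.node (.leaf 0) (.leaf 0)))) (.node (.node (.node (.leaf 0) (.leaf 0)) (.node (.leaf 0) (.leaf 0))) (.node (.node (.leaf 0) (.leaf 0)) (.node (.leaf 0) (.leaf 0))))) (.node (.node (.node (.node (.leaf 0) (.leaf 0)) (.node (.leaf 0) (.leaf 0))) (.node (.node (.leaf 0) (.leaf 0)) (.node (.leaf 0) (.leaf 0)))) (.node (.node (.node (.leaf 0) (.leaf 0)) (.node (.leaf 0) (.leaf 0))) (.node (.node (.leaf 0) (.leaf 0)) (.node (.leaf 0) (.leaf 0)))))) (.node (.node (.node (.node (.node (.leaf 0) (.leaf 0)) (.node (.leaf 0) (.leaf 0))) (.node (.node (.leaf 0) (.leaf 0)) (.node (.leaf 0) (.leaf 0)))) (.node (.node (.node (.leaf 0) (.leaf 0)) (.node (.leaf 0) (.leaf 0))) (.node (.node (.leaf 0) (.leaf 0)) (.node (.leaf 0) (.leaf 0))))) (.node (.node (.node (.node (.leaf 0) (.leaf 0)) (.node (.leaf 0) (.leaf 0))) (.node (.node (.leaf 0) (.leaf 0)) (.node (.leaf 0) (.leaf 0)))) (.node (.node (.node (.leaf 0) (.leaf 0)) (.node (.leaf 0) (.leaf 0))) (.node (.node (.leaf 0) (.leaf 0)) (.node (.leaf 0) (.leaf 0))))))) (.node (.node (.node (.node (.node (.node (.leaf 0) (.leaf 0)) (.node (.leaf 0) (.leaf 0))) (.node (.node (.leaf 0) (.leaf 0)) (.node (.leaf 0) (.leaf 0)))) (.node (.node (.node (.leaf 0) (.leaf 0)) (.node (.leaf 0) (.leaf 0))) (.node (.node (.leaf 0) (.leaf 0)) (.node (.leaf 0) (.leaf 0))))) (.node (.node (.node (.node (.leaf 0) (.leaf 0)) (.node (.leaf 0) (.leaf 0))) (.node (.node (.leaf 0) (.leaf 0)) (.node (.leaf 0) (.leaf 0)))) (.node (.node (.node (.leaf 0) (.leaf 0)) (.node (.leaf 0) (.leaf 0))) (.node (.node (.leaf 0) (.leaf 0)) (.node (.leaf 0) (.leaf 0)))))) (.node (.node (.node (.node (.node (.leaf 0) (.leaf 0)) (.node (.leaf 0) (.leaf 0))) (.node (.node (.leaf 0) (.leaf 0)) (.node (.leaf 0) (.leaf 0)))) (.node (.node (.node (.leaf 0) (.leaf 0)) (.node (.leaf 0) (.leaf 0))) (.node (.node (.leaf 0) (.leaf 0)) (.node (.leaf 0) (.leaf 0))))) (.node (.node (.node (.node (.leaf 0) (.leaf 0)) (.node (.leaf 0) (.leaf 0))) (.node (.node (.leaf 0) (.leaf 0)) (.node (.leaf 0) (.leaf 0)))) (.node (.node (.node (.leaf 0) (.leaf 0)) (.node (.leaf 0) (.leaf 0))) (.node (.node (.leaf 0) (.leaf 0)) (.node (.leaf 0) (.leaf 0)))))))))) (.node (.node (.node (.node (.node (.node (.node (.node (.node (.leaf 0) (.leaf 0)) (.node (.leaf 0) (.leaf 0))) (.node (.node (.leaf 0) (.leaf 0)) (.node (.leaf 0) (.leaf 0)))) (.node (.node (.node (.leaf 0) (.leaf 0)) (.node (.leaf 0) (.leaf 0))) (.node (.node (.leaf 0) (.leaf 0)) (.node (.leaf 0) (.leaf 0))))) (.node (.node (.node (.node (.leaf 0) (.leaf 0)) (.node (.leaf 0) (.leaf 0))) (.node (.node (.leaf 0) (.leaf 0)) (.node (.leaf 0) (.leaf 0)))) (.node (.node (.node (.leaf 0) (.leaf 0)) (.node (.leaf 0) (.leaf 0))) (.node (.node (.leaf 0) (.leaf 0)) (.node (.leaf 0) (.leaf 0)))))) (.node (.node (.node (.node (.node (.leaf 0) (.leaf 0)) (.node (.leaf 0) (.leaf 0))) (.node (.node (.leaf 0) (.leaf 0)) (.node (.leaf 0) (.leaf 0)))) (.node (.node (.node (.leaf 0) (.leaf 0)) (.node (.leaf 0) (.leaf 0))) (.node (.node (.leaf 0) (.leaf 0)) (.node (.leaf 0) (.leaf 0))))) (.node (.node (.node (.node (.leaf 0) (.leaf 0)) (.node (.leaf 0) (.leaf 0))) (.node (.node (.leaf 0) (.leaf 0)) (.node (.leaf 0) (.leaf 0)))) (.node (.node (.node (.leaf 0) (.leaf 0)) (.node (.leaf 0) (.leaf 0))) (.node (.node (.leaf 0) (.leaf 0)) (.node (.leaf 0) (.leaf 0))))))) (.node (.node (.node (.node (.node (.node (.leaf 0) (.leaf 0)) (.node (.leaf 0) (.leaf 0))) (.node (.node (.leaf 0) (.leaf 0)) (.node (.leaf 0) (.leaf 0)))) (.node (.node (.node (.leaf 0) (.leaf 0)) (.node (.leaf 0) (.leaf 0))) (.node (.node (.leaf 0) (.leaf 0)) (.node (.leaf 0) (.leaf 0))))) (.node (.node (.node (.node (.leaf 0) (.leaf 0)) (.node (.leaf 0) (.leaf 0))) (.node (.node (.leaf 0) (.leaf 0)) (.node (.leaf 0) (.leaf 0)))) (.node (.node (.node (.leaf 0) (.leaf 0)) (.node (.leaf 0) (.leaf 0))) (.node (.node (.leaf 0) (.leaf 0)) (.node (.leaf 0) (.leaf 0)))))) (.node (.node (.node (.node (.node (.leaf 0) (.leaf 0)) (.node (.leaf 0) (.leaf 0))) (.node (.node (.leaf 0) (.leaf 0)) (.node (.leaf 0) (.leaf 0)))) (.node (.node (.node (.leaf 0) (.leaf 0)) (.node (.leaf 0) (.leaf 0))) (.node (.node (.leaf 0) (.leaf 0)) (.node (.leaf 0) (.leaf 0))))) (.node (.node (.node (.node (.leaf 0) (.leaf 0)) (.node (.leaf 0) (.leaf 0))) (.node (.node (.leaf 0) (.leaf 0)) (.node (.leaf 0) (.leaf 0)))) (.node (.node (.node (.leaf 0) (.leaf 0)) (.node (.leaf 0) (.leaf 0))) (.node (.node (.leaf 0) (.leaf 0)) (.node (.leaf 0) (.leaf 0)))))))) (.node (.node (.node (.node (.node (.node (.node (.leaf 0) (.leaf 0)) (.node (.leaf 0) (.leaf 0))) (.node (.node (.leaf 0) (.leaf 0)) (.node (.leaf 0) (.leaf 0)))) (.node (.node (.node (.leaf 0) (.leaf 0)) (.node (.leaf 0) (.leaf 0))) (.node (.node (.leaf 0) (.leaf 0)) (.node (.leaf 0) (.leaf 0))))) (.node (.node (.node (.node (.leaf 0) (.leaf 0)) (.node (.leaf 0) (.leaf 0))) (.node (.node (.leaf 0) (.leaf 0)) (.node (.leaf 0) (.leaf 0)))) (.node (.node (.node (.leaf 0) (.leaf 0)) (.node (.leaf 0) (.leaf 0))) (.node (.node (.leaf 0) (.leaf 0)) (.node (.leaf 0) (.leaf 0)))))) (.node (.node (.node (.node (.node (.leaf 0) (.leaf 0)) (.node (.leaf 0) (.leaf 0))) (.node (.node (.leaf 0) (.leaf 0)) (.node (.leaf 0) (.leaf 0)))) (.node (.node (.node (.leaf 0) (.leaf 0)) (.node (.leaf 0) (.leaf 0))) (.node (.node (.leaf 0) (.leaf 0)) (.node (.leaf 0) (.leaf 0))))) (.node (.node (.node (.node (.leaf 0) (.leaf 0)) (.node (.leaf 0) (.leaf 0))) (.node (.node (.leaf 0) (.leaf 0)) (.node (.leaf 0) (.leaf 0)))) (.node (.node (.node (.leaf 0) (.leaf 0)) (.node (.leaf 0) (.leaf 0))) (.node (.node (.leaf 0) (.leaf 0)) (.node (.leaf 0) (.leaf 0))))))) (.node (.node (.node (.node (.node (.node (.leaf 0) (.leaf 0)) (.node (.leaf 0) (.leaf 0))) (.node (.node (.leaf 0) (.leaf 0)) (.node (.leaf 0) (.leaf 0)))) (.node (.node (.node (.leaf 0) (.leaf 0)) (.node (.leaf 0) (.leaf 0))) (.node (.node (.leaf 0) (.leaf 0)) (.node (.leaf 0) (.leaf 0))))) (.node (.node (.node (.node (.leaf 0) (.leaf 0)) (.node (.leaf 0) (.leaf 0))) (.node (.node (.leaf 0) (.leaf 0)) (.node (.leaf 0) (.leaf 0)))) (.node (.node (.node (.leaf 0) (.leaf 0)) (.node (.leaf 0) (.leaf 0))) (.node (.node (.leaf 0) (.leaf 0)) (.node (.leaf 0) (.leaf 0)))))) (.node (.node (.node (.node (.node (.leaf 0) (.leaf 0)) (.node (.leaf 0) (.leaf 0))) (.node (.node (.leaf 0) (.leaf 0)) (.node (.leaf 0) (.leaf 0)))) (.node (.node (.node (.leaf 0) (.leaf 0)) (.node (.leaf 0) (.leaf 0))) (.node (.node (.leaf 0) (.leaf 0)) (.node (.leaf 0) (.leaf 0))))) (.node (.node (.node (.node (.leaf 0) (.leaf 0)) (.node (.leaf 0) (.leaf 0))) (.node (.node (.leaf 0) (.leaf 0)) (.node (.leaf 0) (.leaf 0)))) (.node (.node (.node (.leaf 0) (.leaf 0)) (.node (.leaf 0) (.leaf 0))) (.node (.node (.leaf 0) (.leaf 0)) (.node (.leaf 0) (.leaf 0))))))))) (.node (.node (.node (.node (.node (.node (.node (.node (.leaf 0) (.leaf 0)) (.node (.leaf 0) (.leaf 0))) (.node (.node (.leaf 0) (.leaf 0)) (.node (.leaf 0) (.leaf 0)))) (.node (.node (.node (.leaf 0) (.leaf 0)) (.node (.leaf 0) (.leaf 0))) (.node (.node (.leaf 0) (.leaf 0)) (.node (.leaf 0) (.leaf 0))))) (.node (.node (.node (.node (.leaf 0) (.leaf 0)) (.node (.leaf 0) (.leaf 0))) (.node (.node (.leaf 0) (.leaf 0)) (.node (.leaf 0) (.leaf 0)))) (.node (.node (.node (.leaf 0) (.leaf 0)) (.node (.leaf 0) (.leaf 0))) (.node (.node (.leaf 0) (.leaf 0)) (.node (.leaf 0) (.leaf 0)))))) (.node (.node (.node (.node (.node (.leaf 0) (.leaf 0)) (.node (.leaf 0) (.leaf 0))) (.node (.node (.leaf 0) (.leaf 0)) (.node (.leaf 0) (.leaf 0)))) (.node (.node (.node (.leaf 0) (.leaf 0)) (.node (.leaf 0) (.leaf 0))) (.node (.node (.leaf 0) (.leaf 0)) (.node (.leaf 0) (.leaf 0))))) (.node (.node (.node (.node (.leaf 0) (.leaf 0)) (.node (.leaf 0) (.leaf 0))) (.node (.node (.leaf 0) (.leaf 0)) (.node (.leaf 0) (.leaf 0)))) (.node (.node (.node (.leaf 0) (.leaf 0)) (.node (.leaf 0) (.leaf 0))) (.node (.node (.leaf 0) (.leaf 0)) (.node (.leaf 0) (.leaf 0))))))) (.node (.node (.node (.node (.node (.node (.leaf 0) (.leaf 0)) (.node (.leaf 0) (.leaf 0))) (.node (.node (.leaf 0) (.leaf 0)) (.node (.leaf 0) (.leaf 0)))) (.node (.node (.node (.leaf 0) (.leaf 0)) (.node (.leaf 0) (.leaf 0))) (.node (.node (.leaf 0) (.leaf 0)) (.node (.leaf 0) (.leaf 0))))) (.node (.node (.node (.node (.leaf 0) (.leaf 0)) (.node (.leaf 0) (.leaf 0))) (.node (.node (.leaf 0) (.leaf 0)) (.node (.leaf 0) (.leaf 0)))) (.node (.node (.node (.leaf 0) (.leaf 0)) (.node (.leaf 0) (.leaf 0))) (.node (.node (.leaf 0) (.leaf 0)) (.node (.leaf 0) (.leaf 0)))))) (.node (.node (.node (.node (.node (.leaf 0) (.leaf 0)) (.node (.leaf 0) (.leaf 0))) (.node (.node (.leaf 0) (.leaf 0)) (.node (.leaf 0) (.leaf 0)))) (.node (.node (.node (.leaf 0) (.leaf 0)) (.node (.leaf 0) (.leaf 0))) (.node (.node (.leaf 0) (.leaf 0)) (.node (.leaf 0) (.leaf 0))))) (.node (.node (.node (.node (.leaf 0) (.leaf 0)) (.node (.leaf 0) (.leaf 0))) (.node (.node (.leaf 0) (.leaf 0)) (.node (.leaf 0) (.leaf 0)))) (.node (.node (.node (.leaf 0) (.leaf 0)) (.node (.leaf 0) (.leaf 0))) (.node (.node (.leaf 0) (.leaf 0)) (.node (.leaf 0) (.leaf 0)))))))) (.node (.node (.node (.node (.node (.node (.node (.leaf 0) (.leaf 0)) (.node (.leaf 0) (.leaf 0))) (.node (.node (.leaf 0) (.leaf 0)) (.node (.leaf 0) (.leaf 0)))) (.node (.node (.node (.leaf 0) (.leaf 0)) (.node (.leaf 0) (.leaf 0))) (.node (.node (.leaf 0) (.leaf 0)) (.node (.leaf 0) (.leaf 0))))) (.node (.node (.node (.node (.leaf 0) (.leaf 0)) (.node (.leaf 0) (.leaf 0))) (.node (.node (.leaf 0) (.leaf 0)) (.node (.leaf 0) (.leaf 0)))) (.node (.node (.node (.leaf 0) (.leaf 0)) (.node (.leaf 0) (.leaf 0))) (.node (.node (.leaf 0) (.leaf 0)) (.node (.leaf 0) (.leaf 0)))))) (.node (.node (.node (.node (.node (.leaf 0) (.leaf 0)) (.node (.leaf 0) (.leaf 0))) (.node (.node (.leaf 0) (.leaf 0)) (.node (.leaf 0) (.leaf 0)))) (.node (.node (.node (.leaf 0) (.leaf 0)) (.node (.leaf 0) (.leaf 0))) (.node (.node (.leaf 0) (.leaf 0)) (.node (.leaf 0) (.leaf 0))))) (.node (.node (.node (.node (.leaf 0) (.leaf 0)) (.node (.leaf 0) (.leaf 0))) (.node (.node (.leaf 0) (.leaf 0)) (.node (.leaf 0) (.leaf 0)))) (.node (.node (.node (.leaf 0) (.leaf 0)) (.node (.leaf 0) (.leaf 0))) (.node (.node (.leaf 0) (.leaf 0)) (.node (.leaf 0) (.leaf 0))))))) (.node (.node (.node (.node (.node (.node (.leaf 0) (.leaf 0)) (.node (.leaf 0) (.leaf 0))) (.node (.node (.leaf 0) (.leaf 0)) (.node (.leaf 0) (.leaf 0)))) (.node (.node (.node (.leaf 0) (.leaf 0)) (.node (.leaf 0) (.leaf 0))) (.node (.node (.leaf 0) (.leaf 0)) (.node (.leaf 0) (.leaf 0))))) (.node (.node (.node (.node (.leaf 0) (.leaf 0)) (.node (.leaf 0) (.leaf 0))) (.node (.node (.leaf 0) (.leaf 0)) (.node (.leaf 0) (.leaf 0)))) (.node (.node (.node (.leaf 0) (.leaf 0)) (.node (.leaf 0) (.leaf 0))) (.node (.node (.leaf 0) (.leaf 0)) (.node (.leaf 0) (.leaf 0)))))) (.node (.node (.node (.node (.node (.leaf 0) (.leaf 0)) (.node (.leaf 0) (.leaf 0))) (.node (.node (.leaf 0) (.leaf 0)) (.node (.leaf 0) (.leaf 0)))) (.node (.node (.node (.leaf 0) (.leaf 0)) (.node (.leaf 0) (.leaf 0))) (.node (.node (.leaf 0) (.leaf 0)) (.node (.leaf 0) (.leaf 0))))) (.node (.node (.node (.node (.leaf 0) (.leaf 0)) (.node (.leaf 0) (.leaf 0))) (.node (.node (.leaf 0) (.leaf 0)) (.node (.leaf 0) (.leaf 0)))) (.node (.node (.node (.leaf 0) (.leaf 0)) (.node (.leaf 0) (.leaf 0))) (.node (.node (.leaf 0) (.leaf 0)) (.node (.leaf 0) (.leaf 0)))))))))))) (.node (.node (.node (.node (.node (.node (.node (.node (.node (.node (.node (.leaf 0) (.leaf 0)) (.node (.leaf 0) (.leaf 0))) (.node (.node (.leaf 0) (.leaf 0)) (.node (.leaf 0) (.leaf 0)))) (.node (.node (.node (.leaf 0) (.leaf 0)) (.node (.leaf 0) (.leaf 0))) (.node (.node (.leaf 0) (.leaf 0)) (.node (.leaf 0) (.leaf 0))))) (.node (.node (.node (.node (.leaf 0) (.leaf 0)) (.node (.leaf 0) (.leaf 0))) (.node (.node (.leaf 0) (.leaf 0)) (.node (.leaf 0) (.leaf 0)))) (.node (.node (.node (.leaf 0) (.leaf 0)) (.node (.leaf 0) (.leaf 0))) (.node (.node (.leaf 0) (.leaf 0)) (.node (.leaf 0) (.leaf 0)))))) (.node (.node (.node (.node (.node (.leaf 0) (.leaf 0)) (.node (.leaf 0) (.leaf 0))) (.node (.node (.leaf 0) (.leaf 0)) (.node (.leaf 0) (.leaf 0)))) (.node (.node (.node (.leaf 0) (.leaf 0)) (.node (.leaf 0) (.leaf 0))) (.node (.node (.leaf 0) (.leaf 0)) (.node (.leaf 0) (.leaf 0))))) (.node (.node (.node (.node (.leaf 0) (.leaf 0)) (.node (.leaf 0) (.leaf 0))) (.node (.node (.leaf 0) (.leaf 0)) (.node (.leaf 0) (.leaf 0)))) (.node (.node (.node (.leaf 0) (.leaf 0)) (.node (.leaf 0) (.leaf 0))) (.node (.node (.leaf 0) (.leaf 0)) (.node (.leaf 0) (.leaf 0))))))) (.node (.node (.node (.node (.node (.node (.leaf 0) (.leaf 0)) (.node (.leaf 0) (.leaf 0))) (.node (.node (.leaf 0) (.leaf 0)) (.node (.leaf 0) (.leaf 0)))) (.node (.node (.node (.leaf 0) (.leaf 0)) (.node (.leaf 0) (.leaf 0))) (.node (.node (.leaf 0) (.leaf 0)) (.node (.leaf 0) (.leaf 0))))) (.node (.node (.node (.node (.leaf 0) (.leaf 0)) (.node (.leaf 0) (.leaf 0))) (.node (.node (.leaf 0) (.leaf 0)) (.node (.leaf 0) (.leaf 0)))) (.node (.node (.node (.leaf 0) (.leaf 0)) (.node (.leaf 0) (.leaf 0))) (.node (.node (.leaf 0) (.leaf 0)) (.node (.leaf 0) (.leaf 0)))))) (.node (.node (.node (.node (.node (.leaf 0) (.leaf 0)) (.node (.leaf 0) (.leaf 0))) (.node (.node (.leaf 0) (.leaf 0)) (.node (.leaf 0) (.leaf 0)))) (.node (.node (.node (.leaf 0) (.leaf 0)) (.node (.leaf 0) (.leaf 0))) (.node (.node (.leaf 0) (.leaf 0)) (.node (.leaf 0) (.leaf 0))))) (.node (.node (.node (.node (.leaf 0) (.leaf 0)) (.node (.leaf 0) (.leaf 0))) (.node (.node (.leaf 0) (.leaf 0)) (.node (.leaf 0) (.leaf 0)))) (.node (.node (.node (.leaf 0) (.leaf 0)) (.node (.leaf 0) (.leaf 0))) (.node (.node (.leaf 0) (.leaf 0)) (.node (.leaf 0) (.leaf 0)))))))) (.node (.node (.node (.node (.node (.node (.node (.leaf 0) (.leaf 0)) (.node (.leaf 0) (.leaf 0))) (.node (.node (.leaf 0) (.leaf 0)) (.node (.leaf 0) (.leaf 0)))) (.node (.node (.node (.leaf 0) (.leaf 0)) (.node (.leaf 0) (.leaf 0))) (.node (.node (.leaf 0) (.leaf 0)) (.node (.leaf 0) (.leaf 0))))) (.node (.node (.node (.node (.leaf 0) (.leaf 0)) (.node (.leaf 0) (.leaf 0))) (.node (.node (.leaf 0) (.leaf 0)) (.node (.leaf 0) (.leaf 0)))) (.node (.node (.node (.leaf 0) (.leaf 0)) (.node (.leaf 0) (.leaf 0))) (.node (.node (.leaf 0) (.leaf 0)) (.node (.leaf 0) (.leaf 0)))))) (.node (.node (.node (.node (.node (.leaf 0) (.leaf 0)) (.node (.leaf 0) (.leaf 0))) (.node (.node (.leaf 0) (.leaf 0)) (.node (.leaf 0) (.leaf 0)))) (.node (.node (.node (.leaf 0) (.leaf 0)) (.node (.leaf 0) (.leaf 0))) (.node (.node (.leaf 0) (.leaf 0)) (.node (.leaf 0) (.leaf 0))))) (.node (.node (.node (.node (.leaf 0) (.leaf 0)) (.node (.leaf 0) (.leaf 0))) (.node (.node (.leaf 0) (.leaf 0)) (.node (.leaf 0) (.leaf 0)))) (.node (.node (.node (.leaf 0) (.leaf 0)) (.node (.leaf 0) (.leaf 0))) (.node (.node (.leaf 0) (.leaf 0)) (.node (.leaf 0) (.leaf 0))))))) (.node (.node (.node (.node (.node (.node (.leaf 0) (.leaf 0)) (.node (.leaf 0) (.leaf 0))) (.node (.node (.leaf 0) (.leaf 0)) (.node (.leaf 0) (.leaf 0)))) (.node (.node (.node (.leaf 0) (.leaf 0)) (.node (.leaf 0) (.leaf 0))) (.node (.node (.leaf 0) (.leaf 0)) (.node (.leaf 0) (.leaf 0))))) (.node (.node (.node (.node (.leaf 0) (.leaf 0)) (.node (.leaf 0) (.leaf 0))) (.node (.node (.leaf 0) (.leaf 0)) (.node (.leaf 0) (.leaf 0)))) (.node (.node (.node (.leaf 0) (.leaf 0)) (.node (.leaf 0) (.leaf 0))) (.node (.node (.leaf 0) (.leaf 0)) (.node (.leaf 0) (.leaf 0)))))) (.node (.node (.node (.node (.node (.leaf 0) (.leaf 0)) (.node (.leaf 0) (.leaf 0))) (.node (.node (.leaf 0) (.leaf 0)) (.node (.leaf 0) (.leaf 0)))) (.node (.node (.node (.leaf 0) (.leaf 0)) (.node (.leaf 0) (.leaf 0))) (.node (.node (.leaf 0) (.leaf 0)) (.node (.leaf 0) (.leaf 0))))) (.node (.node (.node (.node (.leaf 0) (.leaf 0)) (.node (.leaf 0) (.leaf 0))) (.node (.node (.leaf 0) (.leaf 0)) (.node (.leaf 0) (.leaf 0)))) (.node (.node (.node (.leaf 0) (.leaf 0)) (.node (.leaf 0) (.leaf 0))) (.node (.node (.leaf 0) (.leaf 0)) (.node (.leaf 0) (.leaf 0))))))))) (.node (.node (.node (.node (.node (.node (.node (.node (.leaf 0) (.leaf 0)) (.node (.leaf 0) (.leaf 0))) (.node (.node (.leaf 0) (.leaf 0)) (.node (.leaf 0) (.leaf 0)))) (.node (.node (.node (.leaf 0) (.leaf 0)) (.node (.leaf 0) (.leaf 0))) (.node (.node (.leaf 0) (.leaf 0)) (.node (.leaf 0) (.leaf 0))))) (.node (.node (.node (.node (.leaf 0) (.leaf 0)) (.node (.leaf 0) (.leaf 0))) (.node (.node (.leaf 0) (.leaf 0)) (.node (.leaf 0) (.leaf 0)))) (.node (.node (.node (.leaf 0) (.leaf 0)) (.node (.leaf 0) (.leaf 0))) (.node (.node (.leaf 0) (.leaf 0)) (.node (.leaf 0) (.leaf 0)))))) (.node (.node (.node (.node (.node (.leaf 0) (.leaf 0)) (.node (.leaf 0) (.leaf 0))) (.node (.node (.leaf 0) (.leaf 0)) (.node (.leaf 0) (.leaf 0)))) (.node (.node (.node (.leaf 0) (.leaf 0)) (.node (.leaf 0) (.leaf 0))) (.node (.node (.leaf 0) (.leaf 0)) (.node (.leaf 0) (.leaf 0))))) (.node (.node (.node (.node (.leaf 0) (.leaf 0)) (.node (.leaf 0) (.leaf 0))) (.node (.node (.leaf 0) (.leaf 0)) (.node (.leaf 0) (.leaf 0)))) (.node (.node (.node (.leaf 0) (.leaf 0)) (.node (.leaf 0) (.leaf 0))) (.node (.node (.leaf 0) (.leaf 0)) (.node (.leaf 0) (.leaf 0))))))) (.node (.node (.node (.node (.node (.node (.leaf 0) (.leaf 0)) (.node (.leaf 0) (.leaf 0))) (.node (.node (.leaf 0) (.leaf 0)) (.node (.leaf 0) (.leaf 0)))) (.node (.node (.node (.leaf 0) (.leaf 0)) (.node (.leaf 0) (.leaf 0))) (.node (.node (.leaf 0) (.leaf 0)) (.node (.leaf 0) (.leaf 0))))) (.node (.node (.node (.node (.leaf 0) (.leaf 0)) (.node (.leaf 0) (.leaf 0))) (.node (.node (.leaf 0) (.leaf 0)) (.node (.leaf 0) (.leaf 0)))) (.node (.node (.node (.leaf 0) (.leaf 0)) (.node (.leaf 0) (.leaf 0))) (.node (.node (.leaf 0) (.leaf 0)) (.node (.leaf 0) (.leaf 0)))))) (.node (.node (.node (.node (.node (.leaf 0) (.leaf 0)) (.node (.leaf 0) (.leaf 0))) (.node (.node (.leaf 0) (.leaf 0)) (.node (.leaf 0) (.leaf 0)))) (.node (.node (.node (.leaf 0) (.leaf 0)) (.node (.leaf 0) (.leaf 0))) (.node (.node (.leaf 0) (.leaf 0)) (.node (.leaf 0) (.leaf 0))))) (.node (.node (.node (.node (.leaf 0) (.leaf 0)) (.node (.leaf 0) (.leaf 0))) (.node (.node (.leaf 0) (.leaf 0)) (.node (.leaf 0) (.leaf 0)))) (.node (.node (.node (.leaf 0) (.leaf 0)) (.node (.leaf 0) (.leaf 0))) (.node (.node (.leaf 0) (.leaf 0)) (.node (.leaf 0) (.leaf 0)))))))) (.node (.node (.node (.node (.node (.node (.node (.leaf 0) (.leaf 0)) (.node (.leaf 0) (.leaf 0))) (.node (.node (.leaf 0) (.leaf 0)) (.node (.leaf 0) (.leaf 0)))) (.node (.node (.node (.leaf 0) (.leaf 0)) (.node (.leaf 0) (.leaf 0))) (.node (.node (.leaf 0) (.leaf 0)) (.node (.leaf 0) (.leaf 0))))) (.node (.node (.node (.node (.leaf 0) (.leaf 0)) (.node (.leaf 0) (.leaf 0))) (.node (.node (.leaf 0) (.leaf 0)) (.node (.leaf 0) (.leaf 0)))) (.node (.node (.node (.leaf 0) (.leaf 0)) (.node (.leaf 0) (.leaf 0))) (.node (.node (.leaf 0) (.leaf 0)) (.node (.leaf 0) (.leaf 0)))))) (.node (.node (.node (.node (.node (.leaf 0) (.leaf 0)) (.node (.leaf 0) (.leaf 0))) (.node (.node (.leaf 0) (.leaf 0)) (.node (.leaf 0) (.leaf 0)))) (.node (.node (.node (.leaf 0) (.leaf 0)) (.node (.leaf 0) (.leaf 0))) (.node (.node (.leaf 0) (.leaf 0)) (.node (.leaf 0) (.leaf 0))))) (.node (.node (.node (.node (.leaf 0) (.leaf 0)) (.node (.leaf 0) (.leaf 0))) (.node (.node (.leaf 0) (.leaf 0)) (.node (.leaf 0) (.leaf 0)))) (.node (.node (.node (.leaf 0) (.leaf 0)) (.node (.leaf 0) (.leaf 0))) (.node (.node (.leaf 0) (.leaf 0)) (.node (.leaf 0) (.leaf 0))))))) (.node (.node (.node (.node (.node (.node (.leaf 0) (.leaf 0)) (.node (.leaf 0) (.leaf 0))) (.node (.node (.leaf 0) (.leaf 0)) (.node (.leaf 0) (.leaf 0)))) (.node (.node (.node (.leaf 0) (.leaf 0)) (.node (.leaf 0) (.leaf 0))) (.node (.node (.leaf 0) (.leaf 0)) (.node (.leaf 0) (.leaf 0))))) (.node (.node (.node (.node (.leaf 0) (.leaf 0)) (.node (.leaf 0) (.leaf 0))) (.node (.node (.leaf 0) (.leaf 0)) (.node (.leaf 0) (.leaf 0)))) (.node (.node (.node (.leaf 0) (.leaf 0)) (.node (.leaf 0) (.leaf 0))) (.node (.node (.leaf 0) (.leaf 0)) (.node (.leaf 0) (.leaf 0)))))) (.node (.node (.node (.node (.node (.leaf 0) (.leaf 0)) (.node (.leaf 0) (.leaf 0))) (.node (.node (.leaf 0) (.leaf 0)) (.node (.leaf 0) (.leaf 0)))) (.node (.node (.node (.leaf 0) (.leaf 0)) (.node (.leaf 0) (.leaf 0))) (.node (.node (.leaf 0) (.leaf 0)) (.node (.leaf 0) (.leaf 0))))) (.node (.node (.node (.node (.leaf 0) (.leaf 0)) (.node (.leaf 0) (.leaf 0))) (.node (.node (.leaf 0) (.leaf 0)) (.node (.leaf 0) (.leaf 0)))) (.node (.node (.node (.leaf 0) (.leaf 0)) (.node (.leaf 0) (.leaf 0))) (.node (.node (.leaf 0) (.leaf 0)) (.node (.leaf 0) (.leaf 0)))))))))) (.node (.node (.node (.node (.node (.node (.node (.node (.node (.leaf 0) (.leaf 0)) (.node (.leaf 0) (.leaf 0))) (.node (.node (.leaf 0) (.leaf 0)) (.node (.leaf 0) (.leaf 0)))) (.node (.node (.node (.leaf 0) (.leaf 0)) (.node (.leaf 0) (.leaf 0))) (.node (.node (.leaf 0) (.leaf 0)) (.node (.leaf 0) (.leaf 0))))) (.node (.node (.node (.node (.leaf 0) (.leaf 0)) (.node (.leaf 0) (.leaf 0))) (.node (.node (.leaf 0) (.leaf 0)) (.node (.leaf 0) (.leaf 0)))) (.node (.node (.node (.leaf 0) (.leaf 0)) (.node (.leaf 0) (.leaf 0))) (.node (.node (.leaf 0) (.leaf 0)) (.node (.leaf 0) (.leaf 0)))))) (.node (.node (.node (.node (.node (.leaf 0) (.leaf 0)) (.node (.leaf 0) (.leaf 0))) (.node (.node (.leaf 0) (.leaf 0)) (.node (.leaf 0) (.leaf 0)))) (.node (.node (.node (.leaf 0) (.leaf 0)) (.node (.leaf 0) (.leaf 0))) (.node (.node (.leaf 0) (.leaf 0)) (.node (.leaf 0) (.leaf 0))))) (.node (.node (.node (.node (.leaf 0) (.leaf 0)) (.node (.leaf 0) (.leaf 0))) (.node (.node (.leaf 0) (.leaf 0)) (.node (.leaf 0) (.leaf 0)))) (.node (.node (.node (.leaf 0) (.leaf 0)) (.node (.leaf 0) (.leaf 0))) (.node (.node (.leaf 0) (.leaf 0)) (.node (.leaf 0) (.leaf 0))))))) (.node (.node (.node (.node (.node (.node (.leaf 0) (.leaf 0)) (.node (.leaf 0) (.leaf 0))) (.node (.node (.leaf 0) (.leaf 0)) (.node (.leaf 0) (.leaf 0)))) (.node (.node (.node (.leaf 0) (.leaf 0)) (.node (.leaf 0) (.leaf 0))) (.node (.node (.leaf 0) (.leaf 0)) (.node (.leaf 0) (.leaf 0))))) (.node (.node (.node (.node (.leaf 0) (.leaf 0)) (.node (.leaf 0) (.leaf 0))) (.node (.node (.leaf 0) (.leaf 0)) (.node (.leaf 0) (.leaf 0)))) (.node (.node (.node (.leaf 0) (.leaf 0)) (.node (.leaf 0) (.leaf 0))) (.node (.node (.leaf 0) (.leaf 0)) (.node (.leaf 0) (.leaf 0)))))) (.node (.node (.node (.node (.node (.leaf 0) (.leaf 0)) (.node (.leaf 0) (.leaf 0))) (.node (.node (.leaf 0) (.leaf 0)) (.node (.leaf 0) (.leaf 0)))) (.node (.node (.node (.leaf 0) (.leaf 0)) (.node (.leaf 0) (.leaf 0))) (.node (.node (.leaf 0) (.leaf 0)) (.node (.leaf 0) (.leaf 0))))) (.node (.node (.node (.node (.leaf 0) (.leaf 0)) (.node (.leaf 0) (.leaf 0))) (.node (.node (.leaf 0) (.leaf 0)) (.node (.leaf 0) (.leaf 0)))) (.node (.node (.node (.leaf 0) (.leaf 0)) (.node (.leaf 0) (.leaf 0))) (.node (.node (.leaf 0) (.leaf 0)) (.node (.leaf 0) (.leaf 0)))))))) (.node (.node (.node (.node (.node (.node (.node (.leaf 0) (.leaf 0)) (.node (.leaf 0) (.leaf 0))) (.node (.node (.leaf 0) (.leaf 0)) (.node (.leaf 0) (.leaf 0)))) (.node (.node (.node (.leaf 0) (.leaf 0)) (.node (.leaf 0) (.leaf 0))) (.node (.node (.leaf 0) (.leaf 0)) (.node (.leaf 0) (.leaf 0))))) (.node (.node (.node (.node (.leaf 0) (.leaf 0)) (.node (.leaf 0) (.leaf 0))) (.node (.node (.leaf 0) (.leaf 0)) (.node (.leaf 0) (.leaf 0)))) (.node (.node (.node (.leaf 0) (.leaf 0)) (.node (.leaf 0) (.leaf 0))) (.node (.node (.leaf 0) (.leaf 0)) (.node (.leaf 0) (.leaf 0)))))) (.node (.node (.node (.node (.node (.leaf 0) (.leaf 0)) (.node (.leaf 0) (.leaf 0))) (.node (.node (.leaf 0) (.leaf 0)) (.node (.leaf 0) (.leaf 0)))) (.node (.node (.node (.leaf 0) (.leaf 0)) (.node (.leaf 0) (.leaf 0))) (.node (.node (.leaf 0) (.leaf 0)) (.node (.leaf 0) (.leaf 0))))) (.node (.node (.node (.node (.leaf 0) (.leaf 0)) (.node (.leaf 0) (.leaf 0))) (.node (.node (.leaf 0) (.leaf 0)) (.node (.leaf 0) (.leaf 0)))) (.node (.node (.node (.leaf 0) (.leaf 0)) (.node (.leaf 0) (.leaf 0))) (.node (.node (.leaf 0) (.leaf 0)) (.node (.leaf 0) (.leaf 0))))))) (.node (.node (.node (.node (.node (.node (.leaf 0) (.leaf 0)) (.node (.leaf 0) (.leaf 0))) (.node (.node (.leaf 0) (.leaf 0)) (.node (.leaf 0) (.leaf 0)))) (.node (.node (.node (.leaf 0) (.leaf 0)) (.node (.leaf 0) (.leaf 0))) (.node (.node (.leaf 0) (.leaf 0)) (.node (.leaf 0) (.leaf 0))))) (.node (.node (.node (.node (.leaf 0) (.leaf 0)) (.node (.leaf 0) (.leaf 0))) (.node (.node (.leaf 0) (.leaf 0)) (.node (.leaf 0) (.leaf 0)))) (.node (.node (.node (.leaf 0) (.leaf 0)) (.node (.leaf 0) (.leaf 0))) (.node (.node (.leaf 0) (.leaf 0)) (.node (.leaf 0) (.leaf 0)))))) (.node (.node (.node (.node (.node (.leaf 0) (.leaf 0)) (.node (.leaf 0) (.leaf 0))) (.node (.node (.leaf 0) (.leaf 0)) (.node (.leaf 0) (.leaf 0)))) (.node (.node (.node (.leaf 0) (.leaf 0)) (.node (.leaf 0) (.leaf 0))) (.node (.node (.leaf 0) (.leaf 0)) (.node (.leaf 0) (.leaf 0))))) (.node (.node (.node (.node (.leaf 0) (.leaf 0)) (.node (.leaf 0) (.leaf 0))) (.node (.node (.leaf 0) (.leaf 0)) (.node (.leaf 0) (.leaf 0)))) (.node (.node (.node (.leaf 0) (.leaf 0)) (.node (.leaf 0) (.leaf 0))) (.node (.node (.leaf 0) (.leaf 0)) (.node (.leaf 0) (.leaf 0))))))))) (.node (.node (.node (.node (.node (.node (.node (.node (.leaf 0) (.leaf 0)) (.node (.leaf 0) (.leaf 0))) (.node (.node (.leaf 0) (.leaf 0)) (.node (.leaf 0) (.leaf 0)))) (.node (.node (.node (.leaf 0) (.leaf 0)) (.node (.leaf 0) (.leaf 0))) (.node (.node (.leaf 0) (.leaf 0)) (.node (.leaf 0) (.leaf 0))))) (.node (.node (.node (.node (.leaf 0) (.leaf 0)) (.node (.leaf 0) (.leaf 0))) (.node (.node (.leaf 0) (.leaf 0)) (.node (.leaf 0) (.leaf 0)))) (.node (.node (.node (.leaf 0) (.leaf 0)) (.node (.leaf 0) (.leaf 0))) (.node (.node (.leaf 0) (.leaf 0)) (.node (.leaf 0) (.leaf 0)))))) (.node (.node (.node (.node (.node (.leaf 0) (.leaf 0)) (.node (.leaf 0) (.leaf 0))) (.node (.node (.leaf 0) (.leaf 0)) (.node (.leaf 0) (.leaf 0)))) (.node (.node (.node (.leaf 0) (.leaf 0)) (.node (.leaf 0) (.leaf 0))) (.node (.node (.leaf 0) (.leaf 0)) (.node (.leaf 0) (.leaf 0))))) (.node (.node (.node (.node (.leaf 0) (.leaf 0)) (.node (.leaf 0) (.leaf 0))) (.node (.node (.leaf 0) (.leaf 0)) (.node (.leaf 0) (.leaf 0)))) (.node (.node (.node (.leaf 0) (.leaf 0)) (.node (.leaf 0) (.leaf 0))) (.node (.node (.leaf 0) (.leaf 0)) (.node (.leaf 0) (.leaf 0))))))) (.node (.node (.node (.node (.node (.node (.leaf 0) (.leaf 0)) (.node (.leaf 0) (.leaf 0))) (.node (.node (.leaf 0) (.leaf 0)) (.node (.leaf 0) (.leaf 0)))) (.node (.node (.node (.leaf 0) (.leaf 0)) (.node (.leaf 0) (.leaf 0))) (.node (.node (.leaf 0) (.leaf 0)) (.node (.leaf 0) (.leaf 0))))) (.node (.node (.node (.node (.leaf 0) (.leaf 0)) (.node (.leaf 0) (.leaf 0))) (.node (.node (.leaf 0) (.leaf 0)) (.node (.leaf 0) (.leaf 0)))) (.node (.node (.node (.leaf 0) (.leaf 0)) (.node (.leaf 0) (.leaf 0))) (.node (.node (.leaf 0) (.leaf 0)) (.node (.leaf 0) (.leaf 0)))))) (.node (.node (.node (.node (.node (.leaf 0) (.leaf 0)) (.node (.leaf 0) (.leaf 0))) (.node (.node (.leaf 0) (.leaf 0)) (.node (.leaf 0) (.leaf 0)))) (.node (.node (.node (.leaf 0) (.leaf 0)) (.node (.leaf 0) (.leaf 0))) (.node (.node (.leaf 0) (.leaf 0)) (.node (.leaf 0) (.leaf 0))))) (.node (.node (.node (.node (.leaf 0) (.leaf 0)) (.node (.leaf 0) (.leaf 0))) (.node (.node (.leaf 0) (.leaf 0)) (.node (.leaf 0) (.leaf 0)))) (.node (.node (.node (.leaf 0) (.leaf 0)) (.node (.leaf 0) (.leaf 0))) (.node (.node (.leaf 0) (.leaf 0)) (.node (.leaf 0) (.leaf 0)))))))) (.node (.node (.node (.node (.node (.node (.node (.leaf 0) (.leaf 0)) (.node (.leaf 0) (.leaf 0))) (.node (.node (.leaf 0) (.leaf 0)) (.node (.leaf 0) (.leaf 0)))) (.node (.node (.node (.leaf 0) (.leaf 0)) (.node (.leaf 0) (.leaf 0))) (.node (.node (.leaf 0) (.leaf 0)) (.node (.leaf 0) (.leaf 0))))) (.node (.node (.node (.node (.leaf 0) (.leaf 0)) (.node (.leaf 0) (.leaf 0))) (.node (.node (.leaf 0) (.leaf 0)) (.node (.leaf 0) (.leaf 0)))) (.node (.node (.node (.leaf 0) (.leaf 0)) (.node (.leaf 0) (.leaf 0))) (.node (.node (.leaf 0) (.leaf 0)) (.node (.leaf 0) (.leaf 0)))))) (.node (.node (.node (.node (.node (.leaf 0) (.leaf 0)) (.node (.leaf 0) (.leaf 0))) (.node (.node (.leaf 0) (.leaf 0)) (.node (.leaf 0) (.leaf 0)))) (.node (.node (.node (.leaf 0) (.leaf 0)) (.node (.leaf 0) (.leaf 0))) (.node (.node (.leaf 0) (.leaf 0)) (.node (.leaf 0) (.leaf 0))))) (.node (.node (.node (.node (.leaf 0) (.leaf 0)) (.node (.leaf 0) (.leaf 0))) (.node (.node (.leaf 0) (.leaf 0)) (.node (.leaf 0) (.leaf 0)))) (.node (.node (.node (.leaf 0) (.leaf 0)) (.node (.leaf 0) (.leaf 0))) (.node (.node (.leaf 0) (.leaf 0)) (.node (.leaf 0) (.leaf 0))))))) (.node (.node (.node (.node (.node (.node (.leaf 0) (.leaf 0)) (.node (.leaf 0) (.leaf 0))) (.node (.node (.leaf 0) (.leaf 0)) (.node (.leaf 0) (.leaf 0)))) (.node (.node (.node (.leaf 0) (.leaf 0)) (.node (.leaf 0) (.leaf 0))) (.node (.node (.leaf 0) (.leaf 0)) (.node (.leaf 0) (.leaf 0))))) (.node (.node (.node (.node (.leaf 0) (.leaf 0)) (.node (.leaf 0) (.leaf 0))) (.node (.node (.leaf 0) (.leaf 0)) (.node (.leaf 0) (.leaf 0)))) (.node (.node (.node (.leaf 0) (.leaf 0)) (.node (.leaf 0) (.leaf 0))) (.node (.node (.leaf 0) (.leaf 0)) (.node (.leaf 0) (.leaf 0)))))) (.node (.node (.node (.node (.node (.leaf 0) (.leaf 0)) (.node (.leaf 0) (.leaf 0))) (.node (.node (.leaf 0) (.leaf 0)) (.node (.leaf 0) (.leaf 0)))) (.node (.node (.node (.leaf 0) (.leaf 0)) (.node (.leaf 0) (.leaf 0))) (.node (.node (.leaf 0) (.leaf 0)) (.node (.leaf 0) (.leaf 0))))) (.node (.node (.node (.node (.leaf 0) (.leaf 0)) (.node (.leaf 0) (.leaf 0))) (.node (.node (.leaf 0) (.leaf 0)) (.node (.leaf 0) (.leaf 0)))) (.node (.node (.node (.leaf 0) (.leaf 0)) (.node (.leaf 0) (.leaf 0))) (.node (.node (.leaf 0) (.leaf 0)) (.node (.leaf 0) (.leaf 0))))))))))) (.node (.node (.node (.node (.node (.node (.node (.node (.node (.node (.leaf 0) (.leaf 0)) (.node (.leaf 0) (.leaf 0))) (.node (.node (.leaf 0) (.leaf 0)) (.node (.leaf 0) (.leaf 0)))) (.node (.node (.node (.leaf 0) (.leaf 0)) (.node (.leaf 0) (.leaf 0))) (.node (.node (.leaf 0) (.leaf 0)) (.node (.leaf 0) (.leaf 0))))) (.node (.node (.node (.node (.leaf 0) (.leaf 0)) (.node (.leaf 0) (.leaf 0))) (.node (.node (.leaf 0) (.leaf 0)) (.node (.leaf 0) (.leaf 0)))) (.node (.node (.node (.leaf 0) (.leaf 0)) (.node (.leaf 0) (.leaf 0))) (.node (.node (.leaf 0) (.leaf 0)) (.node (.leaf 0) (.leaf 0)))))) (.node (.node (.node (.node (.node (.leaf 0) (.leaf 0)) (.node (.leaf 0) (.leaf 0))) (.node (.node (.leaf 0) (.leaf 0)) (.node (.leaf 0) (.leaf 0)))) (.node (.node (.node (.leaf 0) (.leaf 0)) (.node (.leaf 0) (.leaf 0))) (.node (.node (.leaf 0) (.leaf 0)) (.node (.leaf 0) (.leaf 0))))) (.node (.node (.node (.node (.leaf 0) (.leaf 0)) (.node (.leaf 0) (.leaf 0))) (.node (.node (.leaf 0) (.leaf 0)) (.node (.leaf 0) (.leaf 0)))) (.node (.node (.node (.leaf 0) (.leaf 0)) (.node (.leaf 0) (.leaf 0))) (.node (.node (.leaf 0) (.leaf 0)) (.node (.leaf 0) (.leaf 0))))))) (.node (.node (.node (.node (.node (.node (.leaf 0) (.leaf 0)) (.node (.leaf 0) (.leaf 0))) (.node (.node (.leaf 0) (.leaf 0)) (.node (.leaf 0) (.leaf 0)))) (.node (.node (.node (.leaf 0) (.leaf 0)) (.node (.leaf 0) (.leaf 0))) (.node (.node (.leaf 0) (.leaf 0)) (.node (.leaf 0) (.leaf 0))))) (.node (.node (.node (.node (.leaf 0) (.leaf 0)) (.node (.leaf 0) (.leaf 0))) (.node (.node (.leaf 0) (.leaf 0)) (.node (.leaf 0) (.leaf 0)))) (.node (.node (.node (.leaf 0) (.leaf 0)) (.node (.leaf 0) (.leaf 0))) (.node (.node (.leaf 0) (.leaf 0)) (.node (.leaf 0) (.leaf 0)))))) (.node (.node (.node (.node (.node (.leaf 0) (.leaf 0)) (.node (.leaf 0) (.leaf 0))) (.node (.node (.leaf 0) (.leaf 0)) (.node (.leaf 0) (.leaf 0)))) (.node (.node (.node (.leaf 0) (.leaf 0)) (.node (.leaf 0) (.leaf 0))) (.node (.node (.leaf 0) (.leaf 0)) (.node (.leaf 0) (.leaf 0))))) (.node (.node (.node (.node (.leaf 0) (.leaf 0)) (.node (.leaf 0) (.leaf 0))) (.node (.node (.leaf 0) (.leaf 0)) (.node (.leaf 0) (.leaf 0)))) (.node (.node (.node (.leaf 0) (.leaf 0)) (.node (.leaf 0) (.leaf 0))) (.node (.node (.leaf 0) (.leaf 0)) (.node (.leaf 0) (.leaf 0)))))))) (.node (.node (.node (.node (.node (.node (.node (.leaf 0) (.leaf 0)) (.node (.leaf 0) (.leaf 0))) (.node (.node (.leaf 0) (.leaf 0)) (.node (.leaf 0) (.leaf 0)))) (.node (.node (.node (.leaf 0) (.leaf 0)) (.node (.leaf 0) (.leaf 0))) (.node (.node (.leaf 0) (.leaf 0)) (.node (.leaf 0) (.leaf 0))))) (.node (.node (.node (.node (.leaf 0) (.leaf 0)) (.node (.leaf 0) (.leaf 0))) (.node (.node (.leaf 0) (.leaf 0)) (.node (.leaf 0) (.leaf 0)))) (.node (.node (.node (.leaf 0) (.leaf 0)) (.node (.leaf 0) (.leaf 0))) (.node (.node (.leaf 0) (.leaf 0)) (.node (.leaf 0) (.leaf 0)))))) (.node (.node (.node (.node (.node (.leaf 0) (.leaf 0)) (.node (.leaf 0) (.leaf 0))) (.node (.node (.leaf 0) (.leaf 0)) (.node (.leaf 0) (.leaf 0)))) (.node (.node (.node (.leaf 0) (.leaf 0)) (.node (.leaf 0) (.leaf 0))) (.node (.node (.leaf 0) (.leaf 0)) (.node (.leaf 0) (.leaf 0))))) (.node (.node (.node (.node (.leaf 0) (.leaf 0)) (.node (.leaf 0) (.leaf 0))) (.node (.node (.leaf 0) (.leaf 0)) (.node (.leaf 0) (.leaf 0)))) (.node (.node (.node (.leaf 0) (.leaf 0)) (.node (.leaf 0) (.leaf 0))) (.node (.node (.leaf 0) (.leaf 0)) (.node (.leaf 0) (.leaf 0))))))) (.node (.node (.node (.node (.node (.node (.leaf 0) (.leaf 0)) (.node (.leaf 0) (.leaf 0))) (.node (.node (.leaf 0) (.leaf 0)) (.node (.leaf 0) (.leaf 0)))) (.node (.node (.node (.leaf 0) (.leaf 0)) (.node (.leaf 0) (.leaf 0))) (.node (.node (.leaf 0) (.leaf 0)) (.node (.leaf 0) (.leaf 0))))) (.node (.node (.node (.node (.leaf 0) (.leaf 0)) (.node (.leaf 0) (.leaf 0))) (.node (.node (.leaf 0) (.leaf 0)) (.node (.leaf 0) (.leaf 0)))) (.node (.node (.node (.leaf 0) (.leaf 0)) (.node (.leaf 0) (.leaf 0))) (.node (.node (.leaf 0) (.leaf 0)) (.node (.leaf 0) (.leaf 0)))))) (.node (.node (.node (.node (.node (.leaf 0) (.leaf 0)) (.node (.leaf 0) (.leaf 0))) (.node (.node (.leaf 0) (.leaf 0)) (.node (.leaf 0) (.leaf 0)))) (.node (.node (.node (.leaf 0) (.leaf 0)) (.node (.leaf 0) (.leaf 0))) (.node (.node (.leaf 0) (.leaf 0)) (.node (.leaf 0) (.leaf 0))))) (.node (.node (.node (.node (.leaf 0) (.leaf 0)) (.node (.leaf 0) (.leaf 0))) (.node (.node (.leaf 0) (.leaf 0)) (.node (.leaf 0) (.leaf 0)))) (.node (.node (.node (.leaf 0) (.leaf 0)) (.node (.leaf 0) (.leaf 0))) (.node (.node (.leaf 0) (.leaf 0)) (.node (.leaf 0) (.leaf 0))))))))) (.node (.node (.node (.node (.node (.node (.node (.node (.leaf 0) (.leaf 0)) (.node (.leaf 0) (.leaf 0))) (.node (.node (.leaf 0) (.leaf 0)) (.node (.leaf 0) (.leaf 0)))) (.node (.node (.node (.leaf 0) (.leaf 0)) (.node (.leaf 0) (.leaf 0))) (.node (.node (.leaf 0) (.leaf 0)) (.node (.leaf 0) (.leaf 0))))) (.node (.node (.node (.node (.leaf 0) (.leaf 0)) (.node (.leaf 0) (.leaf 0))) (.node (.node (.leaf 0) (.leaf 0)) (.node (.leaf 0) (.leaf 0)))) (.node (.node (.node (.leaf 0) (.leaf 0)) (.node (.leaf 0) (.leaf 0))) (.node (.node (.leaf 0) (.leaf 0)) (.node (.leaf 0) (.leaf 0)))))) (.node (.node (.node (.node (.node (.leaf 0) (.leaf 0)) (.node (.leaf 0) (.leaf 0))) (.node (.node (.leaf 0) (.leaf 0)) (.node (.leaf 0) (.leaf 0)))) (.node (.node (.node (.leaf 0) (.leaf 0)) (.node (.leaf 0) (.leaf 0))) (.node (.node (.leaf 0) (.leaf 0)) (.node (.leaf 0) (.leaf 0))))) (.node (.node (.node (.node (.leaf 0) (.leaf 0)) (.node (.leaf 0) (.leaf 0))) (.node (.node (.leaf 0) (.leaf 0)) (.node (.leaf 0) (.leaf 0)))) (.node (.node (.node (.leaf 0) (.leaf 0)) (.node (.leaf 0) (.leaf 0))) (.node (.node (.leaf 0) (.leaf 0)) (.node (.leaf 0) (.leaf 0))))))) (.node (.node (.node (.node (.node (.node (.leaf 0) (.leaf 0)) (.node (.leaf 0) (.leaf 0))) (.node (.node (.leaf 0) (.leaf 0)) (.node (.leaf 0) (.leaf 0)))) (.node (.node (.node (.leaf 0) (.leaf 0)) (.node (.leaf 0) (.leaf 0))) (.node (.node (.leaf 0) (.leaf 0)) (.node (.leaf 0) (.leaf 0))))) (.node (.node (.node (.node (.leaf 0) (.leaf 0)) (.node (.leaf 0) (.leaf 0))) (.node (.node (.leaf 0) (.leaf 0)) (.node (.leaf 0) (.leaf 0)))) (.node (.node (.node (.leaf 0) (.leaf 0)) (.node (.leaf 0) (.leaf 0))) (.node (.node (.leaf 0) (.leaf 0)) (.node (.leaf 0) (.leaf 0)))))) (.node (.node (.node (.node (.node (.leaf 0) (.leaf 0)) (.node (.leaf 0) (.leaf 0))) (.node (.node (.leaf 0) (.leaf 0)) (.node (.leaf 0) (.leaf 0)))) (.node (.node (.node (.leaf 0) (.leaf 0)) (.node (.leaf 0) (.leaf 0))) (.node (.node (.leaf 0) (.leaf 0)) (.node (.leaf 0) (.leaf 0))))) (.node (.node (.node (.node (.leaf 0) (.leaf 0)) (.node (.leaf 0) (.leaf 0))) (.node (.node (.leaf 0) (.leaf 0)) (.node (.leaf 0) (.leaf 0)))) (.node (.node (.node (.leaf 0) (.leaf 0)) (.node (.leaf 0) (.leaf 0))) (.node (.node (.leaf 0) (.leaf 0)) (.node (.leaf 0) (.leaf 0)))))))) (.node (.node (.node (.node (.node (.node (.node (.leaf 0) (.leaf 0)) (.node (.leaf 0) (.leaf 0))) (.node (.node (.leaf 0) (.leaf 0)) (.node (.leaf 0) (.leaf 0)))) (.node (.node (.node (.leaf 0) (.leaf 0)) (.node (.leaf 0) (.leaf 0))) (.node (.node (.leaf 0) (.leaf 0)) (.node (.leaf 0) (.leaf 0))))) (.node (.node (.node (.node (.leaf 0) (.leaf 0)) (.node (.leaf 0) (.leaf 0))) (.node (.node (.leaf 0) (.leaf 0)) (.node (.leaf 0) (.leaf 0)))) (.node (.node (.node (.leaf 0) (.leaf 0)) (.node (.leaf 0) (.leaf 0))) (.node (.node (.leaf 0) (.leaf 0)) (.node (.leaf 0) (.leaf 0)))))) (.node (.node (.node (.node (.node (.leaf 0) (.leaf 0)) (.node (.leaf 0) (.leaf 0))) (.node (.node (.leaf 0) (.leaf 0)) (.node (.leaf 0) (.leaf 0)))) (.node (.node (.node (.leaf 0) (.leaf 0)) (.node (.leaf 0) (.leaf 0))) (.node (.node (.leaf 0) (.leaf 0)) (.node (.leaf 0) (.leaf 0))))) (.node (.node (.node (.node (.leaf 0) (.leaf 0)) (.node (.leaf 0) (.leaf 0))) (.node (.node (.leaf 0) (.leaf 0)) (.node (.leaf 0) (.leaf 0)))) (.node (.node (.node (.leaf 0) (.leaf 0)) (.node (.leaf 0) (.leaf 0))) (.node (.node (.leaf 0) (.leaf 0)) (.node (.leaf 0) (.leaf 0))))))) (.node (.node (.node (.node (.node (.node (.leaf 0) (.leaf 0)) (.node (.leaf 0) (.leaf 0))) (.node (.node (.leaf 0) (.leaf 0)) (.node (.leaf 0) (.leaf 0)))) (.node (.node (.node (.leaf 0) (.leaf 0)) (.node (.leaf 0) (.leaf 0))) (.node (.node (.leaf 0) (.leaf 0)) (.node (.leaf 0) (.leaf 0))))) (.node (.node (.node (.node (.leaf 0) (.leaf 0)) (.node (.leaf 0) (.leaf 0))) (.node (.node (.leaf 0) (.leaf 0)) (.node (.leaf 0) (.leaf 0)))) (.node (.node (.node (.leaf 0) (.leaf 0)) (.node (.leaf 0) (.leaf 0))) (.node (.node (.leaf 0) (.leaf 0)) (.node (.leaf 0) (.leaf 0)))))) (.node (.node (.node (.node (.node (.leaf 0) (.leaf 0)) (.node (.leaf 0) (.leaf 0))) (.node (.node (.leaf 0) (.leaf 0)) (.node (.leaf 0) (.leaf 0)))) (.node (.node (.node (.leaf 0) (.leaf 0)) (.node (.leaf 0) (.leaf 0))) (.node (.node (.leaf 0) (.leaf 0)) (.node (.leaf 0) (.leaf 0))))) (.node (.node (.node (.node (.leaf 0) (.leaf 0)) (.node (.leaf 0) (.leaf 0))) (.node (.node (.leaf 0) (.leaf 0)) (.node (.leaf 0) (.leaf 0)))) (.node (.node (.node (.leaf 0) (.leaf 0)) (.node (.leaf 0) (.leaf 0))) (.node (.node (.leaf 0) (.leaf 0)) (.node (.leaf 0) (.leaf 0)))))))))) (.node (.node (.node (.node (.node (.node (.node (.node (.node (.leaf 0) (.leaf 0)) (.node (.leaf 0) (.leaf 0))) (.node (.node (.leaf 0) (.leaf 0)) (.node (.leaf 0) (.leaf 0)))) (.node (.node (.node (.leaf 0) (.leaf 0)) (.node (.leaf 0) (.leaf 0))) (.node (.node (.leaf 0) (.leaf 0)) (.node (.leaf 0) (.leaf 0))))) (.node (.node (.node (.node (.leaf 0) (.leaf 0)) (.node (.leaf 0) (.leaf 0))) (.node (.node (.leaf 0) (.leaf 0)) (.node (.leaf 0) (.leaf 0)))) (.node (.node (.node (.leaf 0) (.leaf 0)) (.node (.leaf 0) (.leaf 0))) (.node (.node (.leaf 0) (.leaf 0)) (.node (.leaf 0) (.leaf 0)))))) (.node (.node (.node (.node (.node (.leaf 0) (.leaf 0)) (.node (.leaf 0) (.leaf 0))) (.node (.node (.leaf 0) (.leaf 0)) (.node (.leaf 0) (.leaf 0)))) (.node (.node (.node (.leaf 0) (.leaf 0)) (.node (.leaf 0) (.leaf 0))) (.node (.node (.leaf 0) (.leaf 0)) (.node (.leaf 0) (.leaf 0))))) (.node (.node (.node (.node (.leaf 0) (.leaf 0)) (.node (.leaf 0) (.leaf 0))) (.node (.node (.leaf 0) (.leaf 0)) (.node (.leaf 0) (.leaf 0)))) (.node (.node (.node (.leaf 0) (.leaf 0)) (.node (.leaf 0) (.leaf 0))) (.node (.node (.leaf 0) (.leaf 0)) (.node (.leaf 0) (.leaf 0))))))) (.node (.node (.node (.node (.node (.node (.leaf 0) (.leaf 0)) (.node (.leaf 0) (.leaf 0))) (.node (.node (.leaf 0) (.leaf 0)) (.node (.leaf 0) (.leaf 0)))) (.node (.node (.node (.leaf 0) (.leaf 0)) (.node (.leaf 0) (.leaf 0))) (.node (.node (.leaf 0) (.leaf 0)) (.node (.leaf 0) (.leaf 0))))) (.node (.node (.node (.node (.leaf 0) (.leaf 0)) (.node (.leaf 0) (.leaf 0))) (.node (.node (.leaf 0) (.leaf 0)) (.node (.leaf 0) (.leaf 0)))) (.node (.node (.node (.leaf 0) (.leaf 0)) (.node (.leaf 0) (.leaf 0))) (.node (.node (.leaf 0) (.leaf 0)) (.node (.leaf 0) (.leaf 0)))))) (.node (.node (.node (.node (.node (.leaf 0) (.leaf 0)) (.node (.leaf 0) (.leaf 0))) (.node (.node (.leaf 0) (.leaf 0)) (.node (.leaf 0) (.leaf 0)))) (.node (.node (.node (.leaf 0) (.leaf 0)) (.node (.leaf 0) (.leaf 0))) (.node (.node (.leaf 0) (.leaf 0)) (.node (.leaf 0) (.leaf 0))))) (.node (.node (.node (.node (.leaf 0) (.leaf 0)) (.node (.leaf 0) (.leaf 0))) (.node (.node (.leaf 0) (.leaf 0)) (.node (.leaf 0) (.leaf 0)))) (.node (.node (.node (.leaf 0) (.leaf 0)) (.node (.leaf 0) (.leaf 0))) (.node (.node (.leaf 0) (.leaf 0)) (.node (.leaf 0) (.leaf 0)))))))) (.node (.node (.node (.node (.node (.node (.node (.leaf 0) (.leaf 0)) (.node (.leaf 0) (.leaf 0))) (.node (.node (.leaf 0) (.leaf 0)) (.node (.leaf 0) (.leaf 0)))) (.node (.node (.node (.leaf 0) (.leaf 0)) (.node (.leaf 0) (.leaf 0))) (.node (.node (.leaf 0) (.leaf 0)) (.node (.leaf 0) (.leaf 0))))) (.node (.node (.node (.node (.leaf 0) (.leaf 0)) (.node (.leaf 0) (.leaf 0))) (.node (.node (.leaf 0) (.leaf 0)) (.node (.leaf 0) (.leaf 0)))) (.node (.node (.node (.leaf 0) (.leaf 0)) (.node (.leaf 0) (.leaf 0))) (.node (.node (.leaf 0) (.leaf 0)) (.node (.leaf 0) (.leaf 0)))))) (.node (.node (.node (.node (.node (.leaf 0) (.leaf 0)) (.node (.leaf 0) (.leaf 0))) (.node (.node (.leaf 0) (.leaf 0)) (.node (.leaf 0) (.leaf 0)))) (.node (.node (.node (.leaf 0) (.leaf 0)) (.node (.leaf 0) (.leaf 0))) (.node (.node (.leaf 0) (.leaf 0)) (.node (.leaf 0) (.leaf 0))))) (.node (.node (.node (.node (.leaf 0) (.leaf 0)) (.node (.leaf 0) (.leaf 0))) (.node (.node (.leaf 0) (.leaf 0)) (.node (.leaf 0) (.leaf 0)))) (.node (.node (.node (.leaf 0) (.leaf 0)) (.node (.leaf 0) (.leaf 0))) (.node (.node (.leaf 0) (.leaf 0)) (.node (.leaf 0) (.leaf 0))))))) (.node (.node (.node (.node (.node (.node (.leaf 0) (.leaf 0)) (.node (.leaf 0) (.leaf 0))) (.node (.node (.leaf 0) (.leaf 0)) (.node (.leaf 0) (.leaf 0)))) (.node (.node (.node (.leaf 0) (.leaf 0)) (.node (.leaf 0) (.leaf 0))) (.node (.node (.leaf 0) (.leaf 0)) (.node (.leaf 0) (.leaf 0))))) (.node (.node (.node (.node (.leaf 0) (.leaf 0)) (.node (.leaf 0) (.leaf 0))) (.node (.node (.leaf 0) (.leaf 0)) (.node (.leaf 0) (.leaf 0)))) (.node (.node (.node (.leaf 0) (.leaf 0)) (.node (.leaf 0) (.leaf 0))) (.node (.node (.leaf 0) (.leaf 0)) (.node (.leaf 0) (.leaf 0)))))) (.node (.node (.node (.node (.node (.leaf 0) (.leaf 0)) (.node (.leaf 0) (.leaf 0))) (.node (.node (.leaf 0) (.leaf 0)) (.node (.leaf 0) (.leaf 0)))) (.node (.node (.node (.leaf 0) (.leaf 0)) (.node (.leaf 0) (.leaf 0))) (.node (.node (.leaf 0) (.leaf 0)) (.node (.leaf 0) (.leaf 0))))) (.node (.node (.node (.node (.leaf 0) (.leaf 0)) (.node (.leaf 0) (.leaf 0))) (.node (.node (.leaf 0) (.leaf 0)) (.node (.leaf 0) (.leaf 0)))) (.node (.node (.node (.leaf 0) (.leaf 0)) (.node (.leaf 0) (.leaf 0))) (.node (.node (.leaf 0) (.leaf 0)) (.node (.leaf 0) (.leaf 0))))))))) (.node (.node (.node (.node (.node (.node (.node (.node (.leaf 0) (.leaf 0)) (.node (.leaf 0) (.leaf 0))) (.node (.node (.leaf 0) (.leaf 0)) (.node (.leaf 0) (.leaf 0)))) (.node (.node (.node (.leaf 0) (.leaf 0)) (.node (.leaf 0) (.leaf 0))) (.node (.node (.leaf 0) (.leaf 0)) (.node (.leaf 0) (.leaf 0))))) (.node (.node (.node (.node (.leaf 0) (.leaf 0)) (.node (.leaf 0) (.leaf 0))) (.node (.node (.leaf 0) (.leaf 0)) (.node (.leaf 0) (.leaf 0)))) (.node (.node (.node (.leaf 0) (.leaf 0)) (.node (.leaf 0) (.leaf 0))) (.node (.node (.leaf 0) (.leaf 0)) (.node (.leaf 0) (.leaf 0)))))) (.node (.node (.node (.node (.node (.leaf 0) (.leaf 0)) (.node (.leaf 0) (.leaf 0))) (.node (.node (.leaf 0) (.leaf 0)) (.node (.leaf 0) (.leaf 0)))) (.node (.node (.node (.leaf 0) (.leaf 0)) (.node (.leaf 0) (.leaf 0))) (.node (.node (.leaf 0) (.leaf 0)) (.node (.leaf 0) (.leaf 0))))) (.node (.node (.node (.node (.leaf 0) (.leaf 0)) (.node (.leaf 0) (.leaf 0))) (.node (.node (.leaf 0) (.leaf 0)) (.node (.leaf 0) (.leaf 0)))) (.node (.node (.node (.leaf 0) (.leaf 0)) (.node (.leaf 0) (.leaf 0))) (.node (.node (.leaf 0) (.leaf 0)) (.node (.leaf 0) (.leaf 0))))))) (.node (.node (.node (.node (.node (.node (.leaf 0) (.leaf 0)) (.node (.leaf 0) (.leaf 0))) (.node (.node (.leaf 0) (.leaf 0)) (.node (.leaf 0) (.leaf 0)))) (.node (.node (.node (.leaf 0) (.leaf 0)) (.node (.leaf 0) (.leaf 0))) (.node (.node (.leaf 0) (.leaf 0)) (.node (.leaf 0) (.leaf 0))))) (.node (.node (.node (.node (.leaf 0) (.leaf 0)) (.node (.leaf 0) (.leaf 0))) (.node (.node (.leaf 0) (.leaf 0)) (.node (.leaf 0) (.leaf 0)))) (.node (.node (.node (.leaf 0) (.leaf 0)) (.node (.leaf 0) (.leaf 0))) (.node (.node (.leaf 0) (.leaf 0)) (.node (.leaf 0) (.leaf 0)))))) (.node (.node (.node (.node (.node (.leaf 0) (.leaf 0)) (.node (.leaf 0) (.leaf 0))) (.node (.node (.leaf 0) (.leaf 0)) (.node (.leaf 0) (.leaf 0)))) (.node (.node (.node (.leaf 0) (.leaf 0)) (.node (.leaf 0) (.leaf 0))) (.node (.node (.leaf 0) (.leaf 0)) (.node (.leaf 0) (.leaf 0))))) (.node (.node (.node (.node (.leaf 0) (.leaf 0)) (.node (.leaf 0) (.leaf 0))) (.node (.node (.leaf 0) (.leaf 0)) (.node (.leaf 0) (.leaf 0)))) (.node (.node (.node (.leaf 0) (.leaf 0)) (.node (.leaf 0) (.leaf 0))) (.node (.node (.leaf 0) (.leaf 0)) (.node (.leaf 0) (.leaf 0)))))))) (.node (.node (.node (.node (.node (.node (.node (.leaf 0) (.leaf 0)) (.node (.leaf 0) (.leaf 0))) (.node (.node (.leaf 0) (.leaf 0)) (.node (.leaf 0) (.leaf 0)))) (.node (.node (.node (.leaf 0) (.leaf 0)) (.node (.leaf 0) (.leaf 0))) (.node (.node (.leaf 0) (.leaf 0)) (.node (.leaf 0) (.leaf 0))))) (.node (.node (.node (.node (.leaf 0) (.leaf 0)) (.node (.leaf 0) (.leaf 0))) (.node (.node (.leaf 0) (.leaf 0)) (.node (.leaf 0) (.leaf 0)))) (.node (.node (.node (.leaf 0) (.leaf 0)) (.node (.leaf 0) (.leaf 0))) (.node (.node (.leaf 0) (.leaf 0)) (.node (.leaf 0) (.leaf 0)))))) (.node (.node (.node (.node (.node (.leaf 0) (.leaf 0)) (.node (.leaf 0) (.leaf 0))) (.node (.node (.leaf 0) (.leaf 0)) (.node (.leaf 0) (.leaf 0)))) (.node (.node (.node (.leaf 0) (.leaf 0)) (.node (.leaf 0) (.leaf 0))) (.node (.node (.leaf 0) (.leaf 0)) (.node (.leaf 0) (.leaf 0))))) (.node (.node (.node (.node (.leaf 0) (.leaf 0)) (.node (.leaf 0) (.leaf 0))) (.node (.node (.leaf 0) (.leaf 0)) (.node (.leaf 0) (.leaf 0)))) (.node (.node (.node (.leaf 0) (.leaf 0)) (.node (.leaf 0) (.leaf 0))) (.node (.node (.leaf 0) (.leaf 0)) (.node (.leaf 0) (.leaf 0))))))) (.node (.node (.node (.node (.node (.node (.leaf 0) (.leaf 0)) (.node (.leaf 0) (.leaf 0))) (.node (.node (.leaf 0) (.leaf 0)) (.node (.leaf 0) (.leaf 0)))) (.node (.node (.node (.leaf 0) (.leaf 0)) (.node (.leaf 0) (.leaf 0))) (.node (.node (.leaf 0) (.leaf 0)) (.node (.leaf 0) (.leaf 0))))) (.node (.node (.node (.node (.leaf 0) (.leaf 0)) (.node (.leaf 0) (.leaf 0))) (.node (.node (.leaf 0) (.leaf 0)) (.node (.leaf 0) (.leaf 0)))) (.node (.node (.node (.leaf 0) (.leaf 0)) (.node (.leaf 0) (.leaf 0))) (.node (.node (.leaf 0) (.leaf 0)) (.node (.leaf 0) (.leaf 0)))))) (.node (.node (.node (.node (.node (.leaf 0) (.leaf 0)) (.node (.leaf 0) (.leaf 0))) (.node (.node (.leaf 0) (.leaf 0)) (.node (.leaf 0) (.leaf 0)))) (.node (.node (.node (.leaf 0) (.leaf 0)) (.node (.leaf 0) (.leaf 0))) (.node (.node (.leaf 0) (.leaf 0)) (.node (.leaf 0) (.leaf 0))))) (.node (.node (.node (.node (.leaf 0) (.leaf 0)) (.node (.leaf 0) (.leaf 0))) (.node (.node (.leaf 0) (.leaf 0)) (.node (.leaf 0) (.leaf 0)))) (.node (.node (.node (.leaf 0) (.leaf 0)) (.node (.leaf 0) (.leaf 0))) (.node (.node (.leaf 0) (.leaf 0)) (.node (.leaf 0) (.leaf 0))))))))))))))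

def EDD : DCData where
  L := ELM
  tE := EtE
  wE := EwE
  aE := EaE
  r := 74
  uE := fun j => BT.get EuT 64 j
  uI := fun j => fld (BT.get EuijT 64 j) 0
  uJ := fun j => fld (BT.get EuijT 64 j) 1
  θ := 135
  aIdx := fun i => fld (BT.get EaT 128 i) 0
  aInv := fun i => fld (BT.get EaT 128 i) 1
  taE := fun i => BT.get EtaT 128 i
  bTab := fun k i => fld (BT.get EaT 128 i) (Nat.add k 2)
  kIdx := fun e => BT.get EkT 2048 e
  dcJ := fun i j => fld (BT.get EdcT 8192 (Nat.add (Nat.mul i 74) j)) 0
  dc1 := fun i j => fld (BT.get EdcT 8192 (Nat.add (Nat.mul i 74) j)) 1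
  dc2 := fun i j => fld (BT.get EdcT 8192 (Nat.add (Nat.mul i 74) j)) 2

end Cfsg.Agent.Lib.H3.J3
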