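import Mathlib
import Cfsg.Agent.Lib.H3.J3E0Data

set_option autoImplicit false
set_option maxRecDepth 100000

/-! # Kernel evaluation of the `e₀` certificate, part B -/

namespace Cfsg.Agent.Lib.H3.J3

open Cfsg.Agent.Lib.H3.DC Cfsg.Agent.Lib.H3

theorem EDD_chk1 : EDD.chk1 F4.model = true := by decide +kernel
theorem EDD_chk2 : EDD.chk2 F4.model = true := by decide +kernel
theorem EDD_chk3 : EDD.chk3 F4.model = true := by decide +kernel
theorem EDD_chk4 : EDD.chk4 F4.model = true := by decide +kernel
theorem EDD_chk5 : EDD.chk5 F4.model = true := by decide +kernel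
theorem EDD_chk6 : EDD.chk6 F4.model = true := by decide +kernel

end Cfsg.Agent.Lib.H3.J3
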