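import Mathlib
import Cfsg.Agent.Lib.H3.J3E0Data

set_option autoImplicit false
set_option maxRecDepth 100000

/-! # Kernel evaluation of the `e₀` certificate, part C0 -/

namespace Cfsg.Agent.Lib.H3.J3

open Cfsg.Agent.Lib.H3.DC Cfsg.Agent.Lib.H3

theorem EDD_chk7_0 : (allLt 74 fun j => EDD.chk7 F4.model 0 j) = true := by
  decide +kernel
theorem EDD_chk7_1 : (allLt 74 fun j => EDD.chk7 F4.model 1 j) = true := by
  decide +kernel
theorem EDD_chk7_2 : (allLt 74 fun j => EDD.chk7 F4.model 2 j) = true := by
  decide +kernel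
theorem EDD_chk7_3 : (allLt 74 fun j => EDD.chk7 F4.model 3 j) = true := by
  decide +kernel
theorem EDD_chk7_4 : (allLt 74 fun j => EDD.chk7 F4.model 4 j) = true := by
  decide +kernel
theorem EDD_chk7_5 : (allLt 74 fun j => EDD.chk7 F4.model 5 j) = true := by
  decide +kernel
theorem EDD_chk7_6 : (allLt 74 fun j => EDD.chk7 F4.model 6 j) = true := by
  decide +kernel
theorem EDD_chk7_7 : (allLt 74 fun j => EDD.chk7 F4.model 7 j) = true := by
  decide +kernel
theorem EDD_chk7_8 : (allLt 74 fun j => EDD.chk7 F4.model 8 j) = true := by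
  decide +kernel
theorem EDD_chk7_9 : (allLt 74 fun j => EDD.chk7 F4.model 9 j) = true := by
  decide +kernel
theorem EDD_chk7_10 : (allLt 74 fun j => EDD.chk7 F4.model 10 j) = true := by
  decide +kernel
theorem EDD_chk7_11 : (allLt 74 fun j => EDD.chk7 F4.model 11 j) = true := by
  decide +kernel
theorem EDD_chk7_12 : (allLt 74 fun j => EDD.chk7 F4.model 12 j) = true := by
  decide +kernel
theorem EDD_chk7_13 : (allLt 74 fun j => EDD.chk7 F4.model 13 j) = true := by
  decide +kernel
theorem EDD_chk7_14 : (allLt 74 fun j => EDD.chk7 F4.model 14 j) = true := by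
  decide +kernel
theorem EDD_chk7_15 : (allLt 74 fun j => EDD.chk7 F4.model 15 j) = true := by
  decide +kernel
theorem EDD_chk7_16 : (allLt 74 fun j => EDD.chk7 F4.model 16 j) = true := by
  decide +kernel
theorem EDD_chk7_17 : (allLt 74 fun j => EDD.chk7 F4.model 17 j) = true := by
  decide +kernel
theorem EDD_chk7_18 : (allLt 74 fun j => EDD.chk7 F4.model 18 j) = true := by
  decide +kernel
theorem EDD_chk7_19 : (allLt 74 fun j => EDD.chk7 F4.model 19 j) = true := by
  decide +kernel
theorem EDD_chk7_20 : (allLt 74 fun j => EDD.chk7 F4.model 20 j) = true := by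
  decide +kernel
theorem EDD_chk7_21 : (allLt 74 fun j => EDD.chk7 F4.model 21 j) = true := by
  decide +kernel
theorem EDD_chk7_22 : (allLt 74 fun j => EDD.chk7 F4.model 22 j) = true := by
  decide +kernel
theorem EDD_chk7_23 : (allLt 74 fun j => EDD.chk7 F4.model 23 j) = true := by
  decide +kernel
theorem EDD_chk7_24 : (allLt 74 fun j => EDD.chk7 F4.model 24 j) = true := by
  decide +kernel
theorem EDD_chk7_25 : (allLt 74 fun j => EDD.chk7 F4.model 25 j) = true := by
  decide +kernel
theorem EDD_chk7_26 : (allLt 74 fun j => EDD.chk7 F4.model 26 j) = true := by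
  decide +kernel

end Cfsg.Agent.Lib.H3.J3
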