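import Mathlib
import Cfsg.Agent.Lib.H3.J3E0Data

set_option autoImplicit false
set_option maxRecDepth 100000

/-! # Kernel evaluation of the `e₀` certificate, part C1 -/

namespace Cfsg.Agent.Lib.H3.J3

open Cfsg.Agent.Lib.H3.DC Cfsg.Agent.Lib.H3

theorem EDD_chk7_27 : (allLt 74 fun j => EDD.chk7 F4.model 27 j) = true := by
  decide +kernel
theorem EDD_chk7_28 : (allLt 74 fun j => EDD.chk7 F4.model 28 j) = true := by
  decide +kernel
theorem EDD_chk7_29 : (allLt 74 fun j => EDD.chk7 F4.model 29 j) = true := by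
  decide +kernel
theorem EDD_chk7_30 : (allLt 74 fun j => EDD.chk7 F4.model 30 j) = true := by
  decide +kernel
theorem EDD_chk7_31 : (allLt 74 fun j => EDD.chk7 F4.model 31 j) = true := by
  decide +kernel
theorem EDD_chk7_32 : (allLt 74 fun j => EDD.chk7 F4.model 32 j) = true := by
  decide +kernel
theorem EDD_chk7_33 : (allLt 74 fun j => EDD.chk7 F4.model 33 j) = true := by
  decide +kernel
theorem EDD_chk7_34 : (allLt 74 fun j => EDD.chk7 F4.model 34 j) = true := by
  decide +kernel
theorem EDD_chk7_35 : (allLt 74 fun j => EDD.chk7 F4.model 35 j) = true := by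
  decide +kernel
theorem EDD_chk7_36 : (allLt 74 fun j => EDD.chk7 F4.model 36 j) = true := by
  decide +kernel
theorem EDD_chk7_37 : (allLt 74 fun j => EDD.chk7 F4.model 37 j) = true := by
  decide +kernel
theorem EDD_chk7_38 : (allLt 74 fun j => EDD.chk7 F4.model 38 j) = true := by
  decide +kernel
theorem EDD_chk7_39 : (allLt 74 fun j => EDD.chk7 F4.model 39 j) = true := by
  decide +kernel
theorem EDD_chk7_40 : (allLt 74 fun j => EDD.chk7 F4.model 40 j) = true := by
  decide +kernel
theorem EDD_chk7_41 : (allLt 74 fun j => EDD.chk7 F4.model 41 j) = true := by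
  decide +kernel
theorem EDD_chk7_42 : (allLt 74 fun j => EDD.chk7 F4.model 42 j) = true := by
  decide +kernel
theorem EDD_chk7_43 : (allLt 74 fun j => EDD.chk7 F4.model 43 j) = true := by
  decide +kernel
theorem EDD_chk7_44 : (allLt 74 fun j => EDD.chk7 F4.model 44 j) = true := by
  decide +kernel
theorem EDD_chk7_45 : (allLt 74 fun j => EDD.chk7 F4.model 45 j) = true := by
  decide +kernel
theorem EDD_chk7_46 : (allLt 74 fun j => EDD.chk7 F4.model 46 j) = true := by
  decide +kernel
theorem EDD_chk7_47 : (allLt 74 fun j => EDD.chk7 F4.model 47 j) = true := by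
  decide +kernel
theorem EDD_chk7_48 : (allLt 74 fun j => EDD.chk7 F4.model 48 j) = true := by
  decide +kernel
theorem EDD_chk7_49 : (allLt 74 fun j => EDD.chk7 F4.model 49 j) = true := by
  decide +kernel
theorem EDD_chk7_50 : (allLt 74 fun j => EDD.chk7 F4.model 50 j) = true := by
  decide +kernel
theorem EDD_chk7_51 : (allLt 74 fun j => EDD.chk7 F4.model 51 j) = true := by
  decide +kernel
theorem EDD_chk7_52 : (allLt 74 fun j => EDD.chk7 F4.model 52 j) = true := by
  decide +kernel
theorem EDD_chk7_53 : (allLt 74 fun j => EDD.chk7 F4.model 53 j) = true := by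
  decide +kernel

end Cfsg.Agent.Lib.H3.J3
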