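import Mathlib
import Cfsg.Agent.Lib.H3.J3E0Data

set_option autoImplicit false
set_option maxRecDepth 100000

/-! # Kernel evaluation of the `e₀` certificate, part C2 -/

namespace Cfsg.Agent.Lib.H3.J3

open Cfsg.Agent.Lib.H3.DC Cfsg.Agent.Lib.H3

theorem EDD_chk7_54 : (allLt 74 fun j => EDD.chk7 F4.model 54 j) = true := by
  decide +kernel
theorem EDD_chk7_55 : (allLt 74 fun j => EDD.chk7 F4.model 55 j) = true := by
  decide +kernel
theorem EDD_chk7_56 : (allLt 74 fun j => EDD.chk7 F4.model 56 j) = true := by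
  decide +kernel
theorem EDD_chk7_57 : (allLt 74 fun j => EDD.chk7 F4.model 57 j) = true := by
  decide +kernel
theorem EDD_chk7_58 : (allLt 74 fun j => EDD.chk7 F4.model 58 j) = true := by
  decide +kernel
theorem EDD_chk7_59 : (allLt 74 fun j => EDD.chk7 F4.model 59 j) = true := by
  decide +kernel
theorem EDD_chk7_60 : (allLt 74 fun j => EDD.chk7 F4.model 60 j) = true := by
  decide +kernel
theorem EDD_chk7_61 : (allLt 74 fun j => EDD.chk7 F4.model 61 j) = true := by
  decide +kernel
theorem EDD_chk7_62 : (allLt 74 fun j => EDD.chk7 F4.model 62 j) = true := by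
  decide +kernel
theorem EDD_chk7_63 : (allLt 74 fun j => EDD.chk7 F4.model 63 j) = true := by
  decide +kernel
theorem EDD_chk7_64 : (allLt 74 fun j => EDD.chk7 F4.model 64 j) = true := by
  decide +kernel
theorem EDD_chk7_65 : (allLt 74 fun j => EDD.chk7 F4.model 65 j) = true := by
  decide +kernel
theorem EDD_chk7_66 : (allLt 74 fun j => EDD.chk7 F4.model 66 j) = true := by
  decide +kernel
theorem EDD_chk7_67 : (allLt 74 fun j => EDD.chk7 F4.model 67 j) = true := by
  decide +kernel
theorem EDD_chk7_68 : (allLt 74 fun j => EDD.chk7 F4.model 68 j) = true := by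
  decide +kernel
theorem EDD_chk7_69 : (allLt 74 fun j => EDD.chk7 F4.model 69 j) = true := by
  decide +kernel
theorem EDD_chk7_70 : (allLt 74 fun j => EDD.chk7 F4.model 70 j) = true := by
  decide +kernel
theorem EDD_chk7_71 : (allLt 74 fun j => EDD.chk7 F4.model 71 j) = true := by
  decide +kernel
theorem EDD_chk7_72 : (allLt 74 fun j => EDD.chk7 F4.model 72 j) = true := by
  decide +kernel
theorem EDD_chk7_73 : (allLt 74 fun j => EDD.chk7 F4.model 73 j) = true := by
  decide +kernel
theorem EDD_chk7_74 : (allLt 74 fun j => EDD.chk7 F4.model 74 j) = true := by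
  decide +kernel
theorem EDD_chk7_75 : (allLt 74 fun j => EDD.chk7 F4.model 75 j) = true := by
  decide +kernel
theorem EDD_chk7_76 : (allLt 74 fun j => EDD.chk7 F4.model 76 j) = true := by
  decide +kernel
theorem EDD_chk7_77 : (allLt 74 fun j => EDD.chk7 F4.model 77 j) = true := by
  decide +kernel
theorem EDD_chk7_78 : (allLt 74 fun j => EDD.chk7 F4.model 78 j) = true := by
  decide +kernel
theorem EDD_chk7_79 : (allLt 74 fun j => EDD.chk7 F4.model 79 j) = true := by
  decide +kernel
theorem EDD_chk7_80 : (allLt 74 fun j => EDD.chk7 F4.model 80 j) = true := by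
  decide +kernel

end Cfsg.Agent.Lib.H3.J3
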