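import Mathlib
import Cfsg.Agent.Lib.H3.J3E0Data

set_option autoImplicit false
set_option maxRecDepth 100000

/-! # Kernel evaluation of the `e₀` certificate, part C3 -/

namespace Cfsg.Agent.Lib.H3.J3

open Cfsg.Agent.Lib.H3.DC Cfsg.Agent.Lib.H3

theorem EDD_chk7_81 : (allLt 74 fun j => EDD.chk7 F4.model 81 j) = true := by
  decide +kernel
theorem EDD_chk7_82 : (allLt 74 fun j => EDD.chk7 F4.model 82 j) = true := by
  decide +kernel
theorem EDD_chk7_83 : (allLt 74 fun j => EDD.chk7 F4.model 83 j) = true := by
  decide +kernel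
theorem EDD_chk7_84 : (allLt 74 fun j => EDD.chk7 F4.model 84 j) = true := by
  decide +kernel
theorem EDD_chk7_85 : (allLt 74 fun j => EDD.chk7 F4.model 85 j) = true := by
  decide +kernel
theorem EDD_chk7_86 : (allLt 74 fun j => EDD.chk7 F4.model 86 j) = true := by
  decide +kernel
theorem EDD_chk7_87 : (allLt 74 fun j => EDD.chk7 F4.model 87 j) = true := by
  decide +kernel
theorem EDD_chk7_88 : (allLt 74 fun j => EDD.chk7 F4.model 88 j) = true := by
  decide +kernel
theorem EDD_chk7_89 : (allLt 74 fun j => EDD.chk7 F4.model 89 j) = true := by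
  decide +kernel
theorem EDD_chk7_90 : (allLt 74 fun j => EDD.chk7 F4.model 90 j) = true := by
  decide +kernel
theorem EDD_chk7_91 : (allLt 74 fun j => EDD.chk7 F4.model 91 j) = true := by
  decide +kernel
theorem EDD_chk7_92 : (allLt 74 fun j => EDD.chk7 F4.model 92 j) = true := by
  decide +kernel
theorem EDD_chk7_93 : (allLt 74 fun j => EDD.chk7 F4.model 93 j) = true := by
  decide +kernel
theorem EDD_chk7_94 : (allLt 74 fun j => EDD.chk7 F4.model 94 j) = true := by
  decide +kernel
theorem EDD_chk7_95 : (allLt 74 fun j => EDD.chk7 F4.model 95 j) = true := by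
  decide +kernel
theorem EDD_chk7_96 : (allLt 74 fun j => EDD.chk7 F4.model 96 j) = true := by
  decide +kernel
theorem EDD_chk7_97 : (allLt 74 fun j => EDD.chk7 F4.model 97 j) = true := by
  decide +kernel
theorem EDD_chk7_98 : (allLt 74 fun j => EDD.chk7 F4.model 98 j) = true := by
  decide +kernel
theorem EDD_chk7_99 : (allLt 74 fun j => EDD.chk7 F4.model 99 j) = true := by
  decide +kernel
theorem EDD_chk7_100 : (allLt 74 fun j => EDD.chk7 F4.model 100 j) = true := by
  decide +kernel
theorem EDD_chk7_101 : (allLt 74 fun j => EDD.chk7 F4.model 101 j) = true := by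
  decide +kernel
theorem EDD_chk7_102 : (allLt 74 fun j => EDD.chk7 F4.model 102 j) = true := by
  decide +kernel
theorem EDD_chk7_103 : (allLt 74 fun j => EDD.chk7 F4.model 103 j) = true := by
  decide +kernel
theorem EDD_chk7_104 : (allLt 74 fun j => EDD.chk7 F4.model 104 j) = true := by
  decide +kernel
theorem EDD_chk7_105 : (allLt 74 fun j => EDD.chk7 F4.model 105 j) = true := by
  decide +kernel
theorem EDD_chk7_106 : (allLt 74 fun j => EDD.chk7 F4.model 106 j) = true := by
  decide +kernel
theorem EDD_chk7_107 : (allLt 74 fun j => EDD.chk7 F4.model 107 j) = true := by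
  decide +kernel

end Cfsg.Agent.Lib.H3.J3
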