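import Mathlib
import Cfsg.Agent.Lib.H3.J3E0Data

set_option autoImplicit false
set_option maxRecDepth 100000

/-! # Kernel evaluation of the `e₀` certificate, part C4 -/

namespace Cfsg.Agent.Lib.H3.J3

open Cfsg.Agent.Lib.H3.DC Cfsg.Agent.Lib.H3

theorem EDD_chk7_108 : (allLt 74 fun j => EDD.chk7 F4.model 108 j) = true := by
  decide +kernel
theorem EDD_chk7_109 : (allLt 74 fun j => EDD.chk7 F4.model 109 j) = true := by
  decide +kernel
theorem EDD_chk7_110 : (allLt 74 fun j => EDD.chk7 F4.model 110 j) = true := by
  decide +kernel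
theorem EDD_chk7_111 : (allLt 74 fun j => EDD.chk7 F4.model 111 j) = true := by
  decide +kernel
theorem EDD_chk7_112 : (allLt 74 fun j => EDD.chk7 F4.model 112 j) = true := by
  decide +kernel
theorem EDD_chk7_113 : (allLt 74 fun j => EDD.chk7 F4.model 113 j) = true := by
  decide +kernel
theorem EDD_chk7_114 : (allLt 74 fun j => EDD.chk7 F4.model 114 j) = true := by
  decide +kernel
theorem EDD_chk7_115 : (allLt 74 fun j => EDD.chk7 F4.model 115 j) = true := by
  decide +kernel
theorem EDD_chk7_116 : (allLt 74 fun j => EDD.chk7 F4.model 116 j) = true := by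
  decide +kernel
theorem EDD_chk7_117 : (allLt 74 fun j => EDD.chk7 F4.model 117 j) = true := by
  decide +kernel
theorem EDD_chk7_118 : (allLt 74 fun j => EDD.chk7 F4.model 118 j) = true := by
  decide +kernel
theorem EDD_chk7_119 : (allLt 74 fun j => EDD.chk7 F4.model 119 j) = true := by
  decide +kernel
theorem EDD_chk7_120 : (allLt 74 fun j => EDD.chk7 F4.model 120 j) = true := by
  decide +kernel
theorem EDD_chk7_121 : (allLt 74 fun j => EDD.chk7 F4.model 121 j) = true := by
  decide +kernel
theorem EDD_chk7_122 : (allLt 74 fun j => EDD.chk7 F4.model 122 j) = true := by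
  decide +kernel
theorem EDD_chk7_123 : (allLt 74 fun j => EDD.chk7 F4.model 123 j) = true := by
  decide +kernel
theorem EDD_chk7_124 : (allLt 74 fun j => EDD.chk7 F4.model 124 j) = true := by
  decide +kernel
theorem EDD_chk7_125 : (allLt 74 fun j => EDD.chk7 F4.model 125 j) = true := by
  decide +kernel
theorem EDD_chk7_126 : (allLt 74 fun j => EDD.chk7 F4.model 126 j) = true := by
  decide +kernel
theorem EDD_chk7_127 : (allLt 74 fun j => EDD.chk7 F4.model 127 j) = true := by
  decide +kernel
theorem EDD_chk7_128 : (allLt 74 fun j => EDD.chk7 F4.model 128 j) = true := by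
  decide +kernel
theorem EDD_chk7_129 : (allLt 74 fun j => EDD.chk7 F4.model 129 j) = true := by
  decide +kernel
theorem EDD_chk7_130 : (allLt 74 fun j => EDD.chk7 F4.model 130 j) = true := by
  decide +kernel
theorem EDD_chk7_131 : (allLt 74 fun j => EDD.chk7 F4.model 131 j) = true := by
  decide +kernel
theorem EDD_chk7_132 : (allLt 74 fun j => EDD.chk7 F4.model 132 j) = true := by
  decide +kernel
theorem EDD_chk7_133 : (allLt 74 fun j => EDD.chk7 F4.model 133 j) = true := by
  decide +kernel
theorem EDD_chk7_134 : (allLt 74 fun j => EDD.chk7 F4.model 134 j) = true := by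
  decide +kernel

end Cfsg.Agent.Lib.H3.J3
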