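import Mathlib
import Cfsg.Agent.Lib.H3.J3Main3
import Cfsg.Agent.Lib.H3.J3E0Data
import Cfsg.Agent.Lib.H3.J3E0CheckA
import Cfsg.Agent.Lib.H3.J3E0CheckB
import Cfsg.Agent.Lib.H3.J3E0CheckC0
import Cfsg.Agent.Lib.H3.J3E0CheckC1
import Cfsg.Agent.Lib.H3.J3E0CheckC2
import Cfsg.Agent.Lib.H3.J3E0CheckC3
import Cfsg.Agent.Lib.H3.J3E0CheckC4

set_option autoImplicit false
set_option maxRecDepth 100000

/-! # The stabiliser of `e₀` in `3·J₃` and the orbits on vectors -/

namespace Cfsg.Agent.Lib.H3.J3

open Cfsg.Agent.Lib.H3.DC Cfsg.Agent.Lib.H3.F4 Cfsg.Spor Matrix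

theorem codeW_EH : codeW wEH = Eg2E := by decide +kernel
theorem codeW_ET : codeW wET = EtE := by decide +kernel
theorem codeW_ETi : codeW wETi = EwE := by decide +kernel

/-- the first basis vector -/
def e0v : V := Pi.single (0 : F9) (1 : F4)

theorem enc_e0v : enc e0v = EaE := by decide +kernel

/-- generators of the stabiliser of `e₀` -/
def gsE (k : ℕ) : GG := if k = 0 then gB else if k = 1 then gC else wp wEH

theorem gsE_zero : gsE 0 = gB := if_pos rfl
theorem gsE_one : gsE 1 = gC := by unfold gsE; rw [if_neg (by decide), if_pos rfl]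
theorem gsE_two : gsE 2 = wp wEH := by unfold gsE; rw [if_neg (by decide), if_neg (by decide)]

theorem chk7E_all : ∀ i < 135, ∀ j < 74, EDD.chk7 model i j = true := by
  intro i hi j hj
  have h : ∀ i < 135, (allLt 74 fun j => EDD.chk7 model i j) = true := by
    intro i hi
    interval_cases i
    · exact EDD_chk7_0
    · exact EDD_chk7_1
    · exact EDD_chk7_2
    · exact EDD_chk7_3
    · exact EDD_chk7_4
    · exact EDD_chk7_5
    · exact EDD_chk7_6
    · exact EDD_chk7_7
    · exact EDD_chk7_8
    · exact EDD_chk7_9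
    · exact EDD_chk7_10
    · exact EDD_chk7_11
    · exact EDD_chk7_12
    · exact EDD_chk7_13
    · exact EDD_chk7_14
    · exact EDD_chk7_15
    · exact EDD_chk7_16
    · exact EDD_chk7_17
    · exact EDD_chk7_18
    · exact EDD_chk7_19
    · exact EDD_chk7_20
    · exact EDD_chk7_21
    · exact EDD_chk7_22
    · exact EDD_chk7_23
    · exact EDD_chk7_24
    · exact EDD_chk7_25
    · exact EDD_chk7_26
    · exact EDD_chk7_27
    · exact EDD_chk7_28
    · exact EDD_chk7_29
    · exact EDD_chk7_30
    · exact EDD_chk7_31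
    · exact EDD_chk7_32
    · exact EDD_chk7_33
    · exact EDD_chk7_34
    · exact EDD_chk7_35
    · exact EDD_chk7_36
    · exact EDD_chk7_37
    · exact EDD_chk7_38
    · exact EDD_chk7_39
    · exact EDD_chk7_40
    · exact EDD_chk7_41
    · exact EDD_chk7_42
    · exact EDD_chk7_43
    · exact EDD_chk7_44
    · exact EDD_chk7_45
    · exact EDD_chk7_46
    · exact EDD_chk7_47
    · exact EDD_chk7_48
    · exact EDD_chk7_49
    · exact EDD_chk7_50
    · exact EDD_chk7_51
    · exact EDD_chk7_52
    · exact EDD_chk7_53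
    · exact EDD_chk7_54
    · exact EDD_chk7_55
    · exact EDD_chk7_56
    · exact EDD_chk7_57
    · exact EDD_chk7_58
    · exact EDD_chk7_59
    · exact EDD_chk7_60
    · exact EDD_chk7_61
    · exact EDD_chk7_62
    · exact EDD_chk7_63
    · exact EDD_chk7_64
    · exact EDD_chk7_65
    · exact EDD_chk7_66
    · exact EDD_chk7_67
    · exact EDD_chk7_68
    · exact EDD_chk7_69
    · exact EDD_chk7_70
    · exact EDD_chk7_71
    · exact EDD_chk7_72
    · exact EDD_chk7_73
    · exact EDD_chk7_74
    · exact EDD_chk7_75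
    · exact EDD_chk7_76
    · exact EDD_chk7_77
    · exact EDD_chk7_78
    · exact EDD_chk7_79
    · exact EDD_chk7_80
    · exact EDD_chk7_81
    · exact EDD_chk7_82
    · exact EDD_chk7_83
    · exact EDD_chk7_84
    · exact EDD_chk7_85
    · exact EDD_chk7_86
    · exact EDD_chk7_87
    · exact EDD_chk7_88
    · exact EDD_chk7_89
    · exact EDD_chk7_90
    · exact EDD_chk7_91
    · exact EDD_chk7_92
    · exact EDD_chk7_93
    · exact EDD_chk7_94
    · exact EDD_chk7_95
    · exact EDD_chk7_96
    · exact EDD_chk7_97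
    · exact EDD_chk7_98
    · exact EDD_chk7_99
    · exact EDD_chk7_100
    · exact EDD_chk7_101
    · exact EDD_chk7_102
    · exact EDD_chk7_103
    · exact EDD_chk7_104
    · exact EDD_chk7_105
    · exact EDD_chk7_106
    · exact EDD_chk7_107
    · exact EDD_chk7_108
    · exact EDD_chk7_109
    · exact EDD_chk7_110
    · exact EDD_chk7_111
    · exact EDD_chk7_112
    · exact EDD_chk7_113
    · exact EDD_chk7_114
    · exact EDD_chk7_115
    · exact EDD_chk7_116
    · exact EDD_chk7_117
    · exact EDD_chk7_118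
    · exact EDD_chk7_119
    · exact EDD_chk7_120
    · exact EDD_chk7_121
    · exact EDD_chk7_122
    · exact EDD_chk7_123
    · exact EDD_chk7_124
    · exact EDD_chk7_125
    · exact EDD_chk7_126
    · exact EDD_chk7_127
    · exact EDD_chk7_128
    · exact EDD_chk7_129
    · exact EDD_chk7_130
    · exact EDD_chk7_131
    · exact EDD_chk7_132
    · exact EDD_chk7_133
    · exact EDD_chk7_134
  exact (allLt_iff _ _).mp (h i hi) j hj

theorem validE : DCData.Valid model EDD gsE (wp wET) (wp wETi) e0v where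
  hgs := by
    intro k hk
    have hk' : k < 3 := hk
    interval_cases k
    · rw [gsE_zero, code_gB]; rfl
    · rw [gsE_one, code_gC]; rfl
    · rw [gsE_two, code_wp, codeW_EH]; rfl
  ht := by rw [code_wp, codeW_ET]; rfl
  hw := by rw [code_wp, codeW_ETi]; rfl
  hα := enc_e0v
  hL1 := ELM_check1
  hL2 := by
    intro k hk
    have hk' : k < 3 := hk
    interval_cases k
    · exact ELM_check2_0
    · exact ELM_check2_1
    · exact ELM_check2_2
  hL3 := ELM_check3
  hL4 := ELM_check4
  h1 := EDD_chk1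
  h2 := EDD_chk2
  h3 := EDD_chk3
  h4 := EDD_chk4
  h5 := EDD_chk5
  h6 := EDD_chk6
  h7 := chk7E_all

/-- the group of the second certificate -/
abbrev HE : Subgroup GG := DCData.HH EDD gsE (wp wET)

/-- the stabiliser of `e₀` -/
abbrev ME : Subgroup GG := DCData.MM EDD gsE

theorem ME_le_TJ : ME ≤ TJ := by
  unfold ME DCData.MM
  rw [Subgroup.closure_le]
  rintro g ⟨k, hk, rfl⟩
  have hk' : k < 3 := hk
  interval_cases k
  · rw [gsE_zero]; exact gB_mem
  · rw [gsE_one]; exact gC_mem
  · rw [gsE_two]; exact wp_mem _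

theorem HE_le_TJ : HE ≤ TJ := by
  unfold HE DCData.HH
  rw [Subgroup.closure_le]
  rintro g (hg | hg)
  · exact ME_le_TJ hg
  · rw [Set.mem_singleton_iff] at hg
    rw [hg]; exact wp_mem _

theorem gD_mem_HE : gD ∈ HE :=
  validE.mem_HH_of_code gD (fld EdecD 0) (fld EdecD 1) (fld EdecD 2) (by decide +kernel)
    (by decide +kernel) (by decide +kernel) (by rw [code_gD]; decide +kernel)

theorem gB_mem_HE : gB ∈ HE := by
  rw [← gsE_zero]; exact validE.MM_le_HH (validE.gs_mem_MM 0 (by decide))

theorem gC_mem_HE : gC ∈ HE := by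
  rw [← gsE_one]; exact validE.MM_le_HH (validE.gs_mem_MM 1 (by decide))

theorem letter_mem_HE (c : ℕ) : letter c ∈ HE := by
  unfold letter
  split_ifs
  · exact gD_mem_HE
  · exact gB_mem_HE
  · exact gC_mem_HE
  · exact Subgroup.inv_mem _ gD_mem_HE
  · exact Subgroup.inv_mem _ gB_mem_HE

theorem wp_mem_HE (l : List ℕ) : wp l ∈ HE := by
  induction l with
  | nil => exact Subgroup.one_mem _
  | cons c cs ih => rw [wp_cons]; exact Subgroup.mul_mem _ (letter_mem_HE c) ih

theorem TJ_le_HE : TJ ≤ HE := by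
  rw [TJ_eq_HJ]
  unfold HJ DCData.HH
  rw [Subgroup.closure_le]
  rintro g (hg | hg)
  · have : DCData.MM DD gs ≤ HE := by
      unfold DCData.MM
      rw [Subgroup.closure_le]
      rintro g ⟨k, _, rfl⟩
      unfold gs
      split_ifs
      · exact wp_mem_HE _
      · exact wp_mem_HE _
    exact this hg
  · rw [Set.mem_singleton_iff] at hg
    rw [hg]; exact wp_mem_HE _

theorem TJ_eq_HE : TJ = HE := le_antisymm TJ_le_HE HE_le_TJ

theorem card_orbit_e0 : Nat.card (MulAction.orbit TJ e0v) = 69768 := by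
  have hc : Nat.card HE = 150698880 := by
    have := card_TJ
    rwa [TJ_eq_HE] at this
  rw [TJ_eq_HE]
  have h : Nat.card HE = Nat.card (MulAction.orbit HE e0v) * EDD.L.n := validE.card_HH
  rw [hc] at h
  have h2 : EDD.L.n = 2160 := rfl
  rw [h2] at h
  omega

theorem card_orbit_alpha : Nat.card (MulAction.orbit TJ alpha) = 130815 := by
  have hc : Nat.card HJ = 150698880 := by
    have := card_TJ
    rwa [TJ_eq_HJ] at this
  rw [TJ_eq_HJ]
  have h : Nat.card HJ = Nat.card (MulAction.orbit HJ alpha) * DD.L.n := valid.card_HH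
  rw [hc] at h
  have h2 : DD.L.n = 1152 := rfl
  rw [h2] at h
  omega

end Cfsg.Agent.Lib.H3.J3
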