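import Mathlib

set_option autoImplicit false

/-!
# Counting the lines spanned by an orbit of vectors closed under the scalars `1, ω, ω²`
-/

namespace Cfsg.Agent.Lib.H3.LinesCount

open Matrix

variable {ι : Type} {F : Type} [Field F]

/-- if every nonzero scalar is `1`, `ω` or `ω²`, these are distinct, and a finite set `O` of nonzero
vectors is closed under multiplication by `ω`, then `O` has three times as many elements as
the set of lines it spans -/
theorem ncard_lines (ω : F) (h1 : ω ≠ 1) (h3 : ω ^ 3 = 1)
    (hall : ∀ c : F, c ≠ 0 → c = 1 ∨ c = ω ∨ c = ω ^ 2)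
    (O : Set (ι → F)) (hfin : O.Finite) (h0 : ∀ v ∈ O, v ≠ 0) (hω : ∀ v ∈ O, ω • v ∈ O) :
    O.ncard = 3 * ((fun v : ι → F => Submodule.span F {v}) '' O).ncard := by
  classical
  have hω0 : ω ≠ 0 := by
    intro h
    rw [h] at h3
    simp at h3
  have hω2 : ω ^ 2 ≠ 1 := by
    intro h
    apply h1
    have : ω ^ 3 = ω ^ 2 * ω := pow_succ ω 2
    rw [h3, h, one_mul] at this
    exact this.symm
  have hω2' : ω ^ 2 ≠ ω := by
    intro h
    apply h1
    have h2 : ω * ω = ω * 1 := by rw [mul_one, ← pow_two]; exact h
    exact mul_left_cancel₀ hω0 h2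
  set f : (ι → F) → Submodule F (ι → F) := fun v => Submodule.span F {v} with hf
  set s : Finset (ι → F) := hfin.toFinset with hs
  have hsO : ∀ v, v ∈ s ↔ v ∈ O := fun v => Set.Finite.mem_toFinset hfin
  have hcard : s.card = ∑ b ∈ s.image f, (s.filter fun a => f a = b).card :=
    Finset.card_eq_sum_card_image f s
  have hfib : ∀ b ∈ s.image f, (s.filter fun a => f a = b).card = 3 := by
    intro b hb
    rw [Finset.mem_image] at hb
    obtain ⟨v, hv, rfl⟩ := hb
    have hvO : v ∈ O := (hsO v).mp hv
    have hv0 : v ≠ 0 := h0 v hvO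
    have hωv : ω • v ∈ O := hω v hvO
    have hω2v : ω ^ 2 • v ∈ O := by
      have := hω _ hωv
      rwa [smul_smul, ← pow_two] at this
    rw [Finset.card_eq_three]
    refine ⟨v, ω • v, ω ^ 2 • v, ?_, ?_, ?_, ?_⟩
    · intro h
      have : (1 - ω) • v = 0 := by rw [sub_smul, one_smul, ← h, sub_self]
      rcases smul_eq_zero.mp this with h' | h'
      · exact h1 (sub_eq_zero.mp h').symm
      · exact hv0 h'
    · intro h
      have : (1 - ω ^ 2) • v = 0 := by rw [sub_smul, one_smul, ← h, sub_self]
      rcases smul_eq_zero.mp this with h' | h'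
      · exact hω2 (sub_eq_zero.mp h').symm
      · exact hv0 h'
    · intro h
      have : (ω - ω ^ 2) • v = 0 := by rw [sub_smul, ← h, sub_self]
      rcases smul_eq_zero.mp this with h' | h'
      · exact hω2' (sub_eq_zero.mp h').symm
      · exact hv0 h'
    · ext u
      simp only [Finset.mem_filter, Finset.mem_insert, Finset.mem_singleton, hsO]
      constructor
      · rintro ⟨huO, hu⟩
        have hu' : u ∈ Submodule.span F {v} := by
          have h2 : Submodule.span F {u} = Submodule.span F {v} := hu
          rw [← h2]
          exact Submodule.mem_span_singleton_self u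
        obtain ⟨c, rfl⟩ := Submodule.mem_span_singleton.mp hu'
        have hc0 : c ≠ 0 := by
          intro h
          apply h0 _ huO
          rw [h, zero_smul]
        rcases hall c hc0 with rfl | rfl | rfl
        · left; exact one_smul _ _
        · right; left; rfl
        · right; right; rfl
      · have key : ∀ c : F, c ≠ 0 → f (c • v) = f v := by
          intro c hc
          exact Submodule.span_singleton_smul_eq (IsUnit.mk0 c hc) v
        rintro (rfl | rfl | rfl)
        · exact ⟨hvO, rfl⟩
        · exact ⟨hωv, key ω hω0⟩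
        · exact ⟨hω2v, key _ (pow_ne_zero 2 hω0)⟩
  rw [Finset.sum_congr rfl hfib, Finset.sum_const, smul_eq_mul, mul_comm] at hcard
  have e1 : O.ncard = s.card := by
    rw [Set.ncard_eq_toFinset_card O hfin]
  have e2 : (f '' O).ncard = (s.image f).card := by
    have : f '' O = ↑(s.image f) := by
      ext L
      simp only [Set.mem_image, Finset.coe_image, hs, Set.Finite.coe_toFinset]
    rw [this, Set.ncard_coe_finset]
  rw [e1, e2, hcard]

end Cfsg.Agent.Lib.H3.LinesCount
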