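import Mathlib
import Cfsg.Agent.Lib.H3.J3E0
import Cfsg.Agent.Lib.H3.J3Transport
import Cfsg.Agent.Lib.H3.LinesCount

set_option autoImplicit false

/-! # The orbits of `3·J₃` on the lines of its 9-space over a field with four elements -/

namespace Cfsg.Agent.Lib.H3.J3T

open Cfsg.Spor Cfsg.Agent.Lib.H3.F4 Cfsg.Agent.Lib.H3.J3 Matrix

/-! ## The concrete field -/

/-- the orbit of `e₀` as a set of vectors -/
def orb4 : Set V := {v : V | ∃ g ∈ TJ, v = (g : Matrix F9 F9 F4) *ᵥ e0v}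

theorem orb4_eq : orb4 = MulAction.orbit TJ e0v := by
  ext v
  constructor
  · rintro ⟨g, hg, rfl⟩
    exact ⟨⟨g, hg⟩, rfl⟩
  · rintro ⟨g, rfl⟩
    exact ⟨g.1, g.2, rfl⟩

theorem ncard_orb4 : orb4.ncard = 69768 := by
  rw [orb4_eq, ← Nat.card_coe_set_eq]
  exact card_orbit_e0

theorem e0v_ne : e0v ≠ 0 := by
  intro h
  have := congrFun h 0
  revert this
  decide

theorem orb4_ne (v : V) (hv : v ∈ orb4) : v ≠ 0 := by
  obtain ⟨g, _, rfl⟩ := hv
  intro h0
  apply e0v_ne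
  have : (g⁻¹ : GG) • (g • e0v) = (g⁻¹ : GG) • (0 : V) := by
    rw [smul_def g, h0]
  rw [inv_smul_smul] at this
  rw [this, smul_def, Matrix.mulVec_zero]

theorem orb4_smul (v : V) (hv : v ∈ orb4) : F4.w • v ∈ orb4 := by
  obtain ⟨g, hg, rfl⟩ := hv
  refine ⟨gOm * g, Subgroup.mul_mem _ gOm_mem hg, ?_⟩
  show F4.w • ((g : Matrix F9 F9 F4) *ᵥ e0v) = (mOm * (g : Matrix F9 F9 F4)) *ᵥ e0v
  rw [smul_mul_assoc, one_mul, Matrix.smul_mulVec]

/-- the nonzero isotropic vectors form one orbit -/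
theorem orbit_alpha_eq : (MulAction.orbit TJ alpha : Set V) = {v : V | v ≠ 0 ∧ nrm v = 0} := by
  have hsub : (MulAction.orbit TJ alpha : Set V) ⊆ {v : V | v ≠ 0 ∧ nrm v = 0} := by
    rintro v ⟨g, rfl⟩
    refine ⟨?_, ?_⟩
    · intro h0
      apply alpha_ne
      have : (g : GG)⁻¹ • ((g : GG) • alpha) = (g : GG)⁻¹ • (0 : V) := by
        rw [← h0]; rfl
      rw [inv_smul_smul] at this
      rw [this, smul_def, Matrix.mulVec_zero]
    · show nrm ((g : GG) • alpha) = 0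
      rw [nrm_smul _ (by rw [← TJ_eq_HJ]; exact g.2), nrm_alpha]
  apply Set.eq_of_subset_of_ncard_le hsub
  · rw [← Nat.card_coe_set_eq, ← Nat.card_coe_set_eq, card_orbit_alpha]
    exact le_of_eq card_iso_ne_zero

theorem trans_iso (v w : V) (hv : v ≠ 0) (hw : w ≠ 0) (hv0 : nrm v = 0) (hw0 : nrm w = 0) :
    ∃ g ∈ TJ, (g : Matrix F9 F9 F4) *ᵥ v = w := by
  have h1 : v ∈ (MulAction.orbit TJ alpha : Set V) := by rw [orbit_alpha_eq]; exact ⟨hv, hv0⟩
  have h2 : w ∈ (MulAction.orbit TJ alpha : Set V) := by rw [orbit_alpha_eq]; exact ⟨hw, hw0⟩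
  obtain ⟨g1, rfl⟩ := h1
  obtain ⟨g2, rfl⟩ := h2
  refine ⟨(g2 : GG) * (g1 : GG)⁻¹, Subgroup.mul_mem _ g2.2 (Subgroup.inv_mem _ g1.2), ?_⟩
  show ((g2 : GG) * (g1 : GG)⁻¹) • ((g1 : GG) • alpha) = (g2 : GG) • alpha
  rw [mul_smul, inv_smul_smul]

/-! ## Transport to an arbitrary field with four elements -/

section Field4

variable (F : Type) [Field F] [Fintype F] (hF : Fintype.card F = 4) (ω : F) (hω : ω ^ 2 + ω + 1 = 0)

/-- transport of vectors -/
noncomputable def vmap (v : V) : F9 → F := fun p => toFEquiv F hF ω hω (v p)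

theorem vmap_injective : Function.Injective (vmap F hF ω hω) := by
  intro u v h
  funext p
  exact (toFEquiv F hF ω hω).injective (congrFun h p)

theorem vmap_surjective : Function.Surjective (vmap F hF ω hω) := by
  intro u
  refine ⟨fun p => (toFEquiv F hF ω hω).symm (u p), ?_⟩
  funext p
  exact (toFEquiv F hF ω hω).apply_symm_apply (u p)

theorem vmap_mulVec (h : GG) (v : V) :
    ((glEquiv (toFEquiv F hF ω hω) h : GL F9 F) : Matrix F9 F9 F) *ᵥ vmap F hF ω hω v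
      = vmap F hF ω hω ((h : Matrix F9 F9 F4) *ᵥ v) := by
  funext p
  rw [glEquiv_val]
  exact (RingHom.map_mulVec ((toFEquiv F hF ω hω : F4 ≃+* F) : F4 →+* F) (h : Matrix F9 F9 F4) v p).symm

theorem vmap_e0 : vmap F hF ω hω e0v = Pi.single (0 : F9) (1 : F) := by
  funext p
  unfold vmap e0v
  by_cases hp : p = 0
  · subst hp
    rw [Pi.single_eq_same, Pi.single_eq_same, map_one]
  · rw [Pi.single_eq_of_ne hp, Pi.single_eq_of_ne hp, map_zero]

theorem vmap_smul (v : V) : vmap F hF ω hω (F4.w • v) = ω • vmap F hF ω hω v := by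
  funext p
  show toFEquiv F hF ω hω (F4.w * v p) = ω * toFEquiv F hF ω hω (v p)
  rw [map_mul, toFEquiv_w]

theorem mem_threeJ3_iff (g : GL F9 F) :
    g ∈ threeJ3 F ω ↔ ∃ h ∈ TJ, glEquiv (toFEquiv F hF ω hω) h = g := by
  rw [← map_threeJ3 (toFEquiv F hF ω hω) F4.w ω (toFEquiv_w F hF ω hω)]
  rfl

/-- the orbit of the first basis vector over `F` -/
def orbF : Set (F9 → F) :=
  {v | ∃ g ∈ threeJ3 F ω, v = (g : Matrix F9 F9 F) *ᵥ (Pi.single (0 : F9) (1 : F) : F9 → F)}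

theorem orbF_eq : orbF F ω = vmap F hF ω hω '' orb4 := by
  ext v
  constructor
  · rintro ⟨g, hg, rfl⟩
    obtain ⟨h, hh, rfl⟩ := (mem_threeJ3_iff F hF ω hω g).mp hg
    refine ⟨(h : Matrix F9 F9 F4) *ᵥ e0v, ⟨h, hh, rfl⟩, ?_⟩
    rw [← vmap_mulVec, vmap_e0]
  · rintro ⟨u, ⟨h, hh, rfl⟩, rfl⟩
    refine ⟨glEquiv (toFEquiv F hF ω hω) h, (mem_threeJ3_iff F hF ω hω _).mpr ⟨h, hh, rfl⟩, ?_⟩
    rw [← vmap_mulVec, vmap_e0]

include hF hω in
theorem ncard_orbF : (orbF F ω).ncard = 69768 := by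
  rw [orbF_eq F hF ω hω, Set.ncard_image_of_injective _ (vmap_injective F hF ω hω)]
  exact ncard_orb4

include hF hω in
theorem omega_ne_one : ω ≠ 1 := by
  intro h
  have h2 := two_eq_zero F hF
  rw [h] at hω
  have : (1 : F) = 0 := by linear_combination hω - h2
  exact one_ne_zero this

omit [Fintype F] in
include hω in
theorem omega_cube : ω ^ 3 = 1 := by
  linear_combination (ω - 1) * hω

include hF hω in
theorem scalars (c : F) (hc : c ≠ 0) : c = 1 ∨ c = ω ∨ c = ω ^ 2 := by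
  obtain ⟨a, rfl⟩ := (toFEquiv F hF ω hω).surjective c
  have h2 := two_eq_zero F hF
  cases a
  · exact absurd rfl hc
  · left; rfl
  · right; left; rfl
  · right; right
    show ω + 1 = ω ^ 2
    linear_combination (-1 : F) * hω + (ω + 1) * h2

omit [Fintype F] in
theorem lines_eq :
    {L : Submodule F (F9 → F) | ∃ g ∈ threeJ3 F ω,
      L = Submodule.span F {(g : Matrix F9 F9 F) *ᵥ (Pi.single (0 : F9) (1 : F) : F9 → F)}}
      = (fun v : F9 → F => Submodule.span F {v}) '' orbF F ω := by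
  ext L
  constructor
  · rintro ⟨g, hg, rfl⟩
    exact ⟨_, ⟨g, hg, rfl⟩, rfl⟩
  · rintro ⟨v, ⟨g, hg, rfl⟩, rfl⟩
    exact ⟨g, hg, rfl⟩

include hF hω in
theorem ncard_lines_F :
    {L : Submodule F (F9 → F) | ∃ g ∈ threeJ3 F ω,
      L = Submodule.span F {(g : Matrix F9 F9 F) *ᵥ (Pi.single (0 : F9) (1 : F) : F9 → F)}}.ncard
      = 23256 := by
  rw [lines_eq]
  have h := LinesCount.ncard_lines ω (omega_ne_one F hF ω hω) (omega_cube F ω hω)
    (scalars F hF ω hω) (orbF F ω) (Set.toFinite _) ?_ ?_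
  · rw [ncard_orbF F hF ω hω] at h
    omega
  · intro v hv
    rw [orbF_eq F hF ω hω] at hv
    obtain ⟨u, hu, rfl⟩ := hv
    intro h0
    apply orb4_ne u hu
    apply vmap_injective F hF ω hω
    rw [h0]
    funext p
    exact (map_zero (toFEquiv F hF ω hω)).symm
  · intro v hv
    rw [orbF_eq F hF ω hω] at hv ⊢
    obtain ⟨u, hu, rfl⟩ := hv
    exact ⟨F4.w • u, orb4_smul u hu, vmap_smul F hF ω hω u⟩

include hF hω in
theorem trans_iso_F (v w : F9 → F) (hv : v ≠ 0) (hw : w ≠ 0) (hv0 : ∑ z, (v z) ^ 3 = 0)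
    (hw0 : ∑ z, (w z) ^ 3 = 0) :
    ∃ g ∈ threeJ3 F ω, ∃ c : F, c ≠ 0 ∧ (g : Matrix F9 F9 F) *ᵥ v = c • w := by
  obtain ⟨v', rfl⟩ := vmap_surjective F hF ω hω v
  obtain ⟨w', rfl⟩ := vmap_surjective F hF ω hω w
  have key : ∀ u : V, ∑ z, (vmap F hF ω hω u z) ^ 3 = 0 → nrm u = 0 := by
    intro u hu
    apply (toFEquiv F hF ω hω).injective
    rw [map_zero, ← hu]
    unfold nrm
    rw [map_sum]
    apply Finset.sum_congr rfl
    intro z _
    rw [map_pow]
    rfl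
  have hv' : v' ≠ 0 := by
    rintro rfl
    apply hv
    funext p
    exact map_zero (toFEquiv F hF ω hω)
  have hw' : w' ≠ 0 := by
    rintro rfl
    apply hw
    funext p
    exact map_zero (toFEquiv F hF ω hω)
  obtain ⟨h, hh, he⟩ := trans_iso v' w' hv' hw' (key v' hv0) (key w' hw0)
  refine ⟨glEquiv (toFEquiv F hF ω hω) h, (mem_threeJ3_iff F hF ω hω _).mpr ⟨h, hh, rfl⟩,
    1, one_ne_zero, ?_⟩
  rw [vmap_mulVec, he, one_smul]

end Field4

end Cfsg.Agent.Lib.H3.J3T
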