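import Mathlib
import Cfsg.Agent.Lib.H3.J3Cent1
import Cfsg.Agent.Lib.H3.J3Cent2
import Cfsg.Agent.Lib.H3.J3Main3
import Cfsg.Agent.Lib.H3.J3Lines

set_option autoImplicit false
set_option maxRecDepth 100000

/-! # The involutions of `3·J₃` and the order of their centralisers -/

namespace Cfsg.Agent.Lib.H3.J3.Cent

open Cfsg.Agent.Lib.H3.DC Cfsg.Agent.Lib.H3.F4 Cfsg.Agent.Lib.H3.J3 Cfsg.Spor Matrix

/-- the computational model of `3·J₃` -/
def modelT : Model ↥TJ V where
  code g := model.code (g : GG)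
  enc := enc
  mulE := mulE
  actE := actE
  oneE := oneE
  code_inj := fun _ _ hgh => Subtype.ext (model.code_inj hgh)
  enc_inj := enc_inj
  code_one := model.code_one
  code_mul := fun g h => model.code_mul (g : GG) (h : GG)
  enc_smul := fun g v => model.enc_smul (g : GG) v

/-- words as elements of `3·J₃` -/
def wpT (l : List ℕ) : ↥TJ := ⟨wp l, wp_mem l⟩

theorem code_wpT (l : List ℕ) : modelT.code (wpT l) = codeW l := code_wp l

/-- the involution -/
def z : ↥TJ := wpT wZ

theorem code_z : modelT.code z = zE := by rw [z, code_wpT, codeW_Z]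

theorem z_mul_z : z * z = 1 := by
  apply modelT.code_inj
  rw [modelT.code_mul, code_z, modelT.code_one]
  exact z_sq

theorem z_pow : z ^ 2 = 1 := by rw [pow_two, z_mul_z]

theorem z_ne_one : z ≠ 1 := by
  intro h
  have := congrArg modelT.code h
  rw [code_z, modelT.code_one] at this
  exact z_ne this

theorem orderOf_z : orderOf z = 2 := orderOf_eq_prime z_pow z_ne_one

/-! ### The Sylow 2-subgroup -/

/-- generators of the Sylow subgroup -/
def gsS (k : ℕ) : ↥TJ :=
  if k = 0 then wpT wG0 else if k = 1 then wpT wG1 else if k = 2 then wpT wG2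
  else if k = 3 then wpT wG3 else if k = 4 then wpT wG4 else wpT wG5

theorem gsS_code : ∀ k < LS.ng, modelT.code (gsS k) = LS.gen k := by
  intro k hk
  have hk' : k < 6 := hk
  interval_cases k
  · show modelT.code (wpT wG0) = gE0
    rw [code_wpT, codeW_G0]
  · show modelT.code (wpT wG1) = gE1
    rw [code_wpT, codeW_G1]
  · show modelT.code (wpT wG2) = gE2
    rw [code_wpT, codeW_G2]
  · show modelT.code (wpT wG3) = gE3
    rw [code_wpT, codeW_G3]
  · show modelT.code (wpT wG4) = gE4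
    rw [code_wpT, codeW_G4]
  · show modelT.code (wpT wG5) = gE5
    rw [code_wpT, codeW_G5]

theorem LS_check2 : ∀ k < LS.ng, LS.check2 modelT k = true := by
  intro k hk
  have hk' : k < 6 := hk
  interval_cases k
  · exact LS_check2_0
  · exact LS_check2_1
  · exact LS_check2_2
  · exact LS_check2_3
  · exact LS_check2_4
  · exact LS_check2_5

/-- a Sylow 2-subgroup of `3·J₃` -/
def S0 : Subgroup ↥TJ := Subgroup.closure (Listed.genSet LS gsS)

instance : Finite ↥TJ := Nat.finite_of_card_ne_zero (by rw [card_TJ]; norm_num)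

theorem card_S0 : Nat.card S0 = 128 :=
  Listed.card_closure modelT LS gsS gsS_code LS_check1 LS_check2 LS_check3 LS_check4

theorem S0_listed : ∀ g ∈ S0, ∃ i < 128, modelT.code g = LS.elt i :=
  Listed.exists_of_mem modelT LS gsS gsS_code LS_check1 LS_check2

instance fact2 : Fact (Nat.Prime 2) := ⟨Nat.prime_two⟩

theorem S0_isPGroup : IsPGroup 2 S0 := IsPGroup.of_card (n := 7) (by rw [card_S0]; norm_num)

theorem S0_index : ¬ 2 ∣ S0.index := by
  have h := S0.card_mul_index
  rw [card_S0, card_TJ] at h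
  have : S0.index = 1177335 := by omega
  rw [this]
  norm_num

/-- every involution of the Sylow subgroup is conjugate to `z` -/
theorem conj_of_mem_S0 (y : ↥TJ) (hy : y ∈ S0) (hy2 : y * y = 1) (hy1 : y ≠ 1) :
    ∃ h : ↥TJ, h * z * h⁻¹ = y := by
  obtain ⟨i, hi, hc⟩ := S0_listed y hy
  have hchk := (allLt_iff _ _).mp checkS_ok i hi
  rw [Bool.or_eq_true, Bool.or_eq_true] at hchk
  rcases hchk with (h | h) | h
  · exfalso
    apply hy1
    apply modelT.code_inj
    rw [hc, Nat.eq_of_beq_eq_true h, modelT.code_one]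
    have := LS_check1
    rw [Listed.check1, Bool.and_eq_true] at this
    exact eq_of_beqL _ _ this.2
  · exfalso
    rw [Bool.not_eq_true'] at h
    have h1 : mulE (LS.elt i) (LS.elt i) = oneE := by
      have := congrArg modelT.code hy2
      rw [modelT.code_mul, hc, modelT.code_one] at this
      exact this
    rw [h1, beqL_refl] at h
    exact absurd h (by decide)
  · refine ⟨wpT (cwS i), ?_⟩
    have h1 : wpT (cwS i) * z = y * wpT (cwS i) := by
      apply modelT.code_inj
      rw [modelT.code_mul, modelT.code_mul, code_z, code_wpT, hc]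
      exact eq_of_beqL _ _ h
    rw [h1, mul_inv_cancel_right]

/-- all involutions of `3·J₃` are conjugate -/
theorem isConj_z (x : ↥TJ) (hx : orderOf x = 2) : IsConj z x := by
  have hx2 : x ^ 2 = 1 := by rw [← hx]; exact pow_orderOf_eq_one x
  have hx1 : x ≠ 1 := by
    intro h
    rw [h, orderOf_one] at hx
    omega
  have hP : IsPGroup 2 (Subgroup.zpowers x) :=
    IsPGroup.of_card (n := 1) (by rw [Nat.card_zpowers, hx, pow_one])
  obtain ⟨P, hxP⟩ := hP.exists_le_sylow
  obtain ⟨g, hg⟩ := MulAction.exists_smul_eq ↥TJ P (S0_isPGroup.toSylow S0_index)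
  have hy : g * x * g⁻¹ ∈ S0 := by
    have h1 : x ∈ (P : Subgroup ↥TJ) := hxP (Subgroup.mem_zpowers x)
    have h2 : g * x * g⁻¹ ∈ ((g • P : Sylow 2 ↥TJ) : Subgroup ↥TJ) := by
      rw [Sylow.coe_subgroup_smul]
      exact ⟨x, h1, rfl⟩
    rw [hg] at h2
    exact (IsPGroup.mem_toSylow S0_isPGroup S0_index).mp h2
  have hy2 : (g * x * g⁻¹) * (g * x * g⁻¹) = 1 := by
    have : (g * x * g⁻¹) * (g * x * g⁻¹) = g * (x ^ 2) * g⁻¹ := by rw [pow_two]; group
    rw [this, hx2]
    group
  have hy1 : g * x * g⁻¹ ≠ 1 := by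
    intro h
    apply hx1
    have : x = g⁻¹ * (g * x * g⁻¹) * g := by group
    rw [this, h]
    group
  obtain ⟨h, hh⟩ := conj_of_mem_S0 _ hy hy2 hy1
  rw [isConj_iff]
  refine ⟨g⁻¹ * h, ?_⟩
  have : x = g⁻¹ * (g * x * g⁻¹) * g := by group
  rw [this, ← hh]
  group

/-! ### The order of the centraliser -/

theorem lt_of_succ_lt (f : ℕ → ℕ) (n : ℕ) (h : ∀ i < n, f i < f (i + 1)) :
    ∀ j, j ≤ n → ∀ i, i < j → f i < f j := by
  intro j
  induction j with
  | zero => intro _ i hi; exact absurd hi (Nat.not_lt_zero _)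
  | succ j ih =>
    intro hj i hi
    have hstep : f j < f (j + 1) := h j (by omega)
    rcases Nat.lt_succ_iff_lt_or_eq.mp hi with h1 | h1
    · exact lt_trans (ih (by omega) i h1) hstep
    · rw [h1]; exact hstep

theorem idx51_lt (i : ℕ) (hi : i < 51) : idx51 i < 1152 := by
  have := (allLt_iff _ _).mp check51_ok i hi
  rw [Bool.and_eq_true] at this
  exact lt_of_blt this.1

theorem idx51_strict (i j : ℕ) (hij : i < j) (hj : j < 51) : idx51 i < idx51 j :=
  lt_of_succ_lt idx51 50 (fun i hi => lt_of_blt ((allLt_iff _ _).mp check51k_ok i hi)) j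
    (by omega) i hij

/-- 51 involutions in the stabiliser of `α` -/
noncomputable def inv51 (i : Fin 51) : ↥TJ :=
  ⟨valid.mel (idx51 i), MM_le_TJ (valid.mel_mem _)⟩

theorem code_inv51 (i : Fin 51) : modelT.code (inv51 i) = LM.elt (idx51 i) :=
  valid.code_mel (idx51 i) (idx51_lt i i.2)

theorem inv51_injective : Function.Injective inv51 := by
  intro i j hij
  have h1 : LM.elt (idx51 i) = LM.elt (idx51 j) := by
    rw [← code_inv51, ← code_inv51, hij]
  have h2 : idx51 i = idx51 j :=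
    Listed.elt_injOn LM valid.hL3 _ _ (idx51_lt i i.2) (idx51_lt j j.2) h1
  apply Fin.ext
  by_contra hne
  rcases Nat.lt_or_gt_of_ne hne with h | h
  · exact absurd h2 (ne_of_lt (idx51_strict i j h j.2))
  · exact absurd h2.symm (ne_of_lt (idx51_strict j i h i.2))

theorem inv51_conj (i : Fin 51) : ∃ g : ↥TJ, inv51 i = g * z * g⁻¹ := by
  refine ⟨wpT (cw51 i), ?_⟩
  have hchk := (allLt_iff _ _).mp check51_ok i i.2
  rw [Bool.and_eq_true] at hchk
  have h1 : wpT (cw51 i) * z = inv51 i * wpT (cw51 i) := by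
    apply modelT.code_inj
    rw [modelT.code_mul, modelT.code_mul, code_z, code_wpT, code_inv51]
    exact eq_of_beqL _ _ hchk.2
  rw [h1, mul_inv_cancel_right]

theorem inv51_fix (i : Fin 51) : inv51 i • alpha = alpha :=
  valid.fix _ (valid.mel_mem _)

theorem card_stabilizer : Nat.card (MulAction.stabilizer ↥TJ alpha) = 1152 := by
  have h := Nat.card_congr (MulAction.orbitProdStabilizerEquivGroup ↥TJ alpha)
  rw [Nat.card_prod, card_TJ] at h
  have h2 : Nat.card (MulAction.orbit ↥TJ alpha) = 130815 := card_orbit_alpha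
  rw [h2] at h
  omega

/-! #### fixed isotropic vectors -/

theorem codeM_B2 : codeM (j3B F4 (2, 0)) = zE := by decide +kernel

theorem z_val : (((z : ↥TJ) : GG) : Matrix F9 F9 F4) = j3B F4 (2, 0) := by
  apply codeM_inj
  rw [codeM_B2]
  exact code_z

theorem F9_mul_neg : ∀ p : F9, F9.mul (2, 0) p = -p := by decide

theorem z_smul (v : V) (p : F9) : (z • v) p = v (-p) := by
  show ((((z : ↥TJ) : GG) : Matrix F9 F9 F4) *ᵥ v) p = v (-p)
  rw [z_val]
  simp only [Matrix.mulVec, dotProduct, j3B, Matrix.of_apply, F9_mul_neg]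
  rw [Finset.sum_eq_single (-p)]
  · simp
  · intro q _ hq
    rw [if_neg, zero_mul]
    intro h
    apply hq
    rw [h, neg_neg]
  · intro h
    exact absurd (Finset.mem_univ _) h

/-- reconstruction of a symmetric vector from four coordinates -/
def recon (u : Fin 4 → F4) : V := fun p =>
  if p = (0, 0) then 0 else if p = (0, 1) ∨ p = (0, 2) then u 0
  else if p = (1, 0) ∨ p = (2, 0) then u 1 else if p = (1, 1) ∨ p = (2, 2) then u 2 else u 3

/-- four coordinates of a vector -/
def restr (v : V) : Fin 4 → F4 := ![v (0, 1), v (1, 0), v (1, 1), v (1, 2)]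

theorem recon_restr (v : V) (h0 : v (0, 0) = 0) (hs : ∀ p, v (-p) = v p) :
    recon (restr v) = v := by
  funext p
  have h1 : v (0, 2) = v (0, 1) := hs (0, 1)
  have h2 : v (2, 0) = v (1, 0) := hs (1, 0)
  have h3 : v (2, 2) = v (1, 1) := hs (1, 1)
  have h4 : v (2, 1) = v (1, 2) := hs (1, 2)
  have key : ∀ p : F9, p = (0, 0) ∨ p = (0, 1) ∨ p = (0, 2) ∨ p = (1, 0) ∨ p = (1, 1) ∨
      p = (1, 2) ∨ p = (2, 0) ∨ p = (2, 1) ∨ p = (2, 2) := by decide
  rcases key p with rfl | rfl | rfl | rfl | rfl | rfl | rfl | rfl | rfl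
  · exact h0.symm
  · rfl
  · exact h1.symm
  · rfl
  · rfl
  · rfl
  · exact h2.symm
  · exact h4.symm
  · exact h3.symm

theorem recon_zero : recon 0 = 0 := by
  funext p
  simp [recon]

theorem cube_sum : ∀ a b c d e : F4,
    a ^ 3 + b ^ 3 + b ^ 3 + (c ^ 3 + d ^ 3 + e ^ 3) + (c ^ 3 + e ^ 3 + d ^ 3) = a ^ 3 := by
  decide +kernel

theorem cube_eq_zero : ∀ a : F4, a ^ 3 = 0 → a = 0 := by decide

theorem nrm_of_symm (v : V) (hs : ∀ p, v (-p) = v p) : nrm v = (v (0, 0)) ^ 3 := by
  have h1 : v (0, 2) = v (0, 1) := hs (0, 1)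
  have h2 : v (2, 0) = v (1, 0) := hs (1, 0)
  have h3 : v (2, 2) = v (1, 1) := hs (1, 1)
  have h4 : v (2, 1) = v (1, 2) := hs (1, 2)
  unfold nrm
  rw [Fintype.sum_prod_type]
  show ∑ x : Fin 3, ∑ y : Fin 3, v (x, y) ^ 3 = _
  simp only [Fin.sum_univ_three]
  show v (0, 0) ^ 3 + v (0, 1) ^ 3 + v (0, 2) ^ 3 + (v (1, 0) ^ 3 + v (1, 1) ^ 3 + v (1, 2) ^ 3) +
    (v (2, 0) ^ 3 + v (2, 1) ^ 3 + v (2, 2) ^ 3) = _
  rw [h1, h2, h3, h4]
  exact cube_sum _ _ _ _ _

open Classical in
/-- the vectors that can be fixed by `z` in the orbit of `α` -/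
noncomputable def fixSet : Finset V :=
  Finset.univ.filter fun v : V => v ≠ 0 ∧ v (0, 0) = 0 ∧ ∀ p, v (-p) = v p

theorem card_fixSet : fixSet.card ≤ 255 := by
  classical
  have h1 : fixSet.card ≤ ((Finset.univ : Finset (Fin 4 → F4)).erase 0).card := by
    apply Finset.card_le_card_of_injOn restr
    · intro v hv
      rw [fixSet, Finset.coe_filter, Set.mem_setOf_eq] at hv
      obtain ⟨-, hv0, hv00, hvs⟩ := hv
      rw [Finset.coe_erase, Set.mem_diff, Set.mem_singleton_iff]
      refine ⟨Finset.mem_coe.mpr (Finset.mem_univ _), ?_⟩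
      intro h
      apply hv0
      rw [← recon_restr v hv00 hvs, h, recon_zero]
    · intro v hv v' hv' hvv
      rw [fixSet, Finset.coe_filter, Set.mem_setOf_eq] at hv hv'
      rw [← recon_restr v hv.2.2.1 hv.2.2.2, ← recon_restr v' hv'.2.2.1 hv'.2.2.2, hvv]
  have h2 : ((Finset.univ : Finset (Fin 4 → F4)).erase 0).card = 255 := by
    rw [Finset.card_erase_of_mem (Finset.mem_univ _), Finset.card_univ, Fintype.card_fun,
      F4.card_eq, Fintype.card_fin]
    norm_num
  rw [h2] at h1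
  exact h1

theorem mem_fixSet (β : V) (hβ : β ∈ MulAction.orbit ↥TJ alpha) (hz : z • β = β) :
    β ∈ fixSet := by
  classical
  have hβ' : β ∈ (MulAction.orbit TJ alpha : Set V) := hβ
  rw [Cfsg.Agent.Lib.H3.J3T.orbit_alpha_eq] at hβ'
  obtain ⟨hne, hn⟩ := hβ'
  have hs : ∀ p, β (-p) = β p := by
    intro p
    have := z_smul β p
    rw [hz] at this
    exact this.symm
  rw [fixSet, Finset.mem_filter]
  refine ⟨Finset.mem_univ _, hne, ?_, hs⟩
  apply cube_eq_zero
  rw [← nrm_of_symm β hs, hn]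

theorem card_centralizer_z : Nat.card (Subgroup.centralizer ({z} : Set ↥TJ)) ≤ 5760 := by
  have h := Cfsg.Agent.Lib.H3.CentGen.card_centralizer_mul_le z alpha 51 inv51 inv51_injective
    inv51_conj inv51_fix fixSet mem_fixSet
  rw [card_stabilizer] at h
  have h2 := card_fixSet
  have h3 : 51 * Nat.card (Subgroup.centralizer ({z} : Set ↥TJ)) ≤ 255 * 1152 :=
    h.trans (Nat.mul_le_mul_right _ h2)
  omega

end Cfsg.Agent.Lib.H3.J3.Cent
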