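import Mathlib
import Cfsg.Agent.Lib.H3.J3Cent3
import Cfsg.Agent.Lib.H3.J1Cent

set_option autoImplicit false
set_option maxRecDepth 100000

/-! # The subgroups `2^{1+4}_-` and `A₅` of the centraliser of an involution of `3·J₃` -/

namespace Cfsg.Agent.Lib.H3.J3.Cent

open Cfsg.Agent.Lib.H3.DC Cfsg.Agent.Lib.H3.F4 Cfsg.Agent.Lib.H3.J3 Cfsg.Spor Matrix
open Cfsg.Agent.Lib.H3.CentGen

/-- generators of `Q` -/
def gsQ (k : ℕ) : ↥TJ :=
  if k = 0 then wpT wG0 else if k = 1 then wpT wG1 else if k = 2 then wpT wG2 else wpT wG3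

theorem gsQ_zero : gsQ 0 = wpT wG0 := rfl
theorem gsQ_one : gsQ 1 = wpT wG1 := rfl
theorem gsQ_two : gsQ 2 = wpT wG2 := rfl
theorem gsQ_three : gsQ 3 = wpT wG3 := rfl

theorem code_g0 : modelT.code (gsQ 0) = gE0 := by rw [gsQ_zero, code_wpT, codeW_G0]
theorem code_g1 : modelT.code (gsQ 1) = gE1 := by rw [gsQ_one, code_wpT, codeW_G1]
theorem code_g2 : modelT.code (gsQ 2) = gE2 := by rw [gsQ_two, code_wpT, codeW_G2]
theorem code_g3 : modelT.code (gsQ 3) = gE3 := by rw [gsQ_three, code_wpT, codeW_G3]

theorem gsQ_code : ∀ k < LQ.ng, modelT.code (gsQ k) = LQ.gen k := by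
  intro k hk
  have hk' : k < 4 := hk
  interval_cases k
  · exact code_g0
  · exact code_g1
  · exact code_g2
  · exact code_g3

theorem LQ_check2 : ∀ k < LQ.ng, LQ.check2 modelT k = true := by
  intro k hk
  have hk' : k < 4 := hk
  interval_cases k
  · exact LQ_check2_0
  · exact LQ_check2_1
  · exact LQ_check2_2
  · exact LQ_check2_3

/-- the normal subgroup `2^{1+4}_-` of the centraliser -/
def Q0 : Subgroup ↥TJ := Subgroup.closure (Listed.genSet LQ gsQ)

theorem card_Q0 : Nat.card Q0 = 32 :=
  Listed.card_closure modelT LQ gsQ gsQ_code LQ_check1 LQ_check2 LQ_check3 LQ_check4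

theorem Q0_listed : ∀ g ∈ Q0, ∃ i < 32, modelT.code g = LQ.elt i :=
  Listed.exists_of_mem modelT LQ gsQ gsQ_code LQ_check1 LQ_check2

theorem Q0_exists : ∀ i < 32, ∃ g ∈ Q0, modelT.code g = LQ.elt i :=
  Listed.exists_of_lt modelT LQ gsQ gsQ_code LQ_check1 LQ_check2 LQ_check4

theorem mem_Q0_of_code (g : ↥TJ) (i : ℕ) (hi : i < 32) (h : modelT.code g = LQ.elt i) :
    g ∈ Q0 := by
  obtain ⟨g', hg', hc⟩ := Q0_exists i hi
  have : g = g' := modelT.code_inj (by rw [h, hc])
  rw [this]
  exact hg'

theorem gsQ_mem (k : ℕ) (hk : k < 4) : gsQ k ∈ Q0 :=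
  Subgroup.subset_closure ⟨k, hk, rfl⟩

theorem z_mem_Q0 : z ∈ Q0 := mem_Q0_of_code z itQ (by decide) (by rw [code_z, zQ])

theorem elt_i1 : LQ.elt LQ.i1 = oneE := by
  have := LQ_check1
  rw [Listed.check1, Bool.and_eq_true] at this
  exact eq_of_beqL _ _ this.2

theorem Q0_le_centralizer : Q0 ≤ Subgroup.centralizer ({z} : Set ↥TJ) := by
  unfold Q0
  rw [Subgroup.closure_le]
  rintro g ⟨k, hk, rfl⟩
  rw [SetLike.mem_coe, Subgroup.mem_centralizer_iff]
  intro h hh
  rw [Set.mem_singleton_iff] at hh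
  subst hh
  have hk' : k < 4 := hk
  apply modelT.code_inj
  rw [modelT.code_mul, modelT.code_mul, code_z]
  interval_cases k
  · rw [code_g0]; exact g0z_comm.symm
  · rw [code_g1]; exact g1z_comm.symm
  · rw [code_g2]; exact g2z_comm.symm
  · rw [code_g3]; exact g3z_comm.symm

theorem z_comm_of_mem (q : ↥TJ) (hq : q ∈ Q0) : z * q = q * z :=
  Subgroup.mem_centralizer_iff.mp (Q0_le_centralizer hq) z rfl

/-- the central involution as an element of `Q` -/
def zq : ↥Q0 := ⟨z, z_mem_Q0⟩

theorem qhyp_Q0 : QHyp ↥Q0 zq where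
  card := card_Q0
  t_ne := fun h => z_ne_one (congrArg Subtype.val h)
  t_sq := Subtype.ext z_pow
  tcen := fun y => Subtype.ext (z_comm_of_mem y y.2)
  cen := by
    intro x hx
    obtain ⟨i, hi, hc⟩ := Q0_listed x x.2
    have hcomm : ∀ k < 4, modelT.code (gsQ k * (x : ↥TJ)) = modelT.code ((x : ↥TJ) * gsQ k) := by
      intro k hk
      have := hx ⟨gsQ k, gsQ_mem k hk⟩
      have h2 : (x : ↥TJ) * gsQ k = gsQ k * (x : ↥TJ) := congrArg Subtype.val this
      rw [h2]
    have hchk := (allLt_iff _ _).mp checkQ1_ok i hi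
    simp only [Bool.or_eq_true, Bool.not_eq_true'] at hchk
    rcases hchk with ((((h | h) | h) | h) | h) | h
    · left
      apply Subtype.ext
      apply modelT.code_inj
      rw [hc, Nat.eq_of_beq_eq_true h, elt_i1]
      exact modelT.code_one.symm
    · right
      apply Subtype.ext
      apply modelT.code_inj
      rw [hc, Nat.eq_of_beq_eq_true h, zQ]
      exact code_z.symm
    · exfalso
      have := hcomm 0 (by decide)
      rw [modelT.code_mul, modelT.code_mul, code_g0, hc] at this
      rw [show modelT.mulE = mulE from rfl] at this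
      rw [this, beqL_refl] at h
      exact absurd h (by decide)
    · exfalso
      have := hcomm 1 (by decide)
      rw [modelT.code_mul, modelT.code_mul, code_g1, hc] at this
      rw [show modelT.mulE = mulE from rfl] at this
      rw [this, beqL_refl] at h
      exact absurd h (by decide)
    · exfalso
      have := hcomm 2 (by decide)
      rw [modelT.code_mul, modelT.code_mul, code_g2, hc] at this
      rw [show modelT.mulE = mulE from rfl] at this
      rw [this, beqL_refl] at h
      exact absurd h (by decide)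
    · exfalso
      have := hcomm 3 (by decide)
      rw [modelT.code_mul, modelT.code_mul, code_g3, hc] at this
      rw [show modelT.mulE = mulE from rfl] at this
      rw [this, beqL_refl] at h
      exact absurd h (by decide)
  sq := by
    intro x
    obtain ⟨i, hi, hc⟩ := Q0_listed x x.2
    have hchk := (allLt_iff _ _).mp checkQ2_ok i hi
    rw [Bool.or_eq_true] at hchk
    have hsq : modelT.code ((x : ↥TJ) ^ 2) = mulE (LQ.elt i) (LQ.elt i) := by
      rw [pow_two, modelT.code_mul, hc]; rfl
    rcases hchk with h | h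
    · left
      apply Subtype.ext
      apply modelT.code_inj
      show modelT.code ((x : ↥TJ) ^ 2) = modelT.code 1
      rw [hsq, eq_of_beqL _ _ h, modelT.code_one]; rfl
    · right
      apply Subtype.ext
      apply modelT.code_inj
      show modelT.code ((x : ↥TJ) ^ 2) = modelT.code z
      rw [hsq, eq_of_beqL _ _ h, code_z]
  comm := by
    intro x y
    obtain ⟨i, hi, hcx⟩ := Q0_listed x x.2
    obtain ⟨j, hj, hcy⟩ := Q0_listed y y.2
    have hchk := (allLt_iff _ _).mp ((allLt_iff _ _).mp checkQ3_ok i hi) j hj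
    rw [Bool.or_eq_true] at hchk
    rcases hchk with h | h
    · left
      apply Subtype.ext
      apply modelT.code_inj
      show modelT.code ((x : ↥TJ) * (y : ↥TJ)) = modelT.code ((y : ↥TJ) * (x : ↥TJ))
      rw [modelT.code_mul, modelT.code_mul, hcx, hcy]
      exact eq_of_beqL _ _ h
    · right
      apply Subtype.ext
      apply modelT.code_inj
      show modelT.code ((x : ↥TJ) * (y : ↥TJ)) = modelT.code (z * ((y : ↥TJ) * (x : ↥TJ)))
      rw [modelT.code_mul, modelT.code_mul, modelT.code_mul, hcx, hcy, code_z]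
      exact eq_of_beqL _ _ h
  ea := by
    intro x y hx hy hxy
    obtain ⟨i, hi, hcx⟩ := Q0_listed x x.2
    obtain ⟨j, hj, hcy⟩ := Q0_listed y y.2
    have hchk := (allLt_iff _ _).mp ((allLt_iff _ _).mp checkQ5_ok i hi) j hj
    have hx' : mulE (LQ.elt i) (LQ.elt i) = oneE := by
      have := congrArg (fun q : ↥Q0 => modelT.code (q : ↥TJ)) hx
      simp only [pow_two, Subgroup.coe_mul, Subgroup.coe_one] at this
      rw [modelT.code_mul, hcx, modelT.code_one] at this
      exact this
    have hy' : mulE (LQ.elt j) (LQ.elt j) = oneE := by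
      have := congrArg (fun q : ↥Q0 => modelT.code (q : ↥TJ)) hy
      simp only [pow_two, Subgroup.coe_mul, Subgroup.coe_one] at this
      rw [modelT.code_mul, hcy, modelT.code_one] at this
      exact this
    have hxy' : mulE (LQ.elt i) (LQ.elt j) = mulE (LQ.elt j) (LQ.elt i) := by
      have := congrArg (fun q : ↥Q0 => modelT.code (q : ↥TJ)) hxy
      simp only [Subgroup.coe_mul] at this
      rw [modelT.code_mul, modelT.code_mul, hcx, hcy] at this
      exact this
    simp only [hx', hy', hxy', beqL_refl, Bool.not_true, Bool.false_or, Bool.or_eq_true] at hchk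
    rcases hchk with ((((h | h) | h) | h) | h) | h
    · left; left
      apply Subtype.ext
      apply modelT.code_inj
      rw [hcy, Nat.eq_of_beq_eq_true h, elt_i1]
      exact modelT.code_one.symm
    · left; right; left
      apply Subtype.ext
      apply modelT.code_inj
      rw [hcy, hcx, Nat.eq_of_beq_eq_true h]
    · left; right; right; left
      apply Subtype.ext
      apply modelT.code_inj
      rw [hcy, Nat.eq_of_beq_eq_true h, zQ]
      exact code_z.symm
    · left; right; right; right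
      apply Subtype.ext
      apply modelT.code_inj
      show modelT.code (y : ↥TJ) = modelT.code (z * (x : ↥TJ))
      rw [modelT.code_mul, hcy, hcx, code_z]
      exact eq_of_beqL _ _ h
    · right; left
      apply Subtype.ext
      apply modelT.code_inj
      rw [hcx, Nat.eq_of_beq_eq_true h, elt_i1]
      exact modelT.code_one.symm
    · right; right
      apply Subtype.ext
      apply modelT.code_inj
      rw [hcx, Nat.eq_of_beq_eq_true h, zQ]
      exact code_z.symm

/-! ### The complement `A₅` -/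

/-- an element of order three -/
def ea : ↥TJ := wpT wA

/-- an element of order five -/
def eb : ↥TJ := wpT wB

theorem code_ea : modelT.code ea = aaE := by rw [ea, code_wpT, codeW_A]
theorem code_eb : modelT.code eb = bbE := by rw [eb, code_wpT, codeW_B]

theorem ea_cube : ea ^ 3 = 1 := by
  apply modelT.code_inj
  rw [pow_succ', pow_two, modelT.code_mul, modelT.code_mul, code_ea, modelT.code_one]
  exact a_cube

theorem eb_five : eb ^ 5 = 1 := by
  apply modelT.code_inj
  rw [pow_succ', pow_succ', pow_succ', pow_two, modelT.code_mul, modelT.code_mul, modelT.code_mul,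
    modelT.code_mul, code_eb, modelT.code_one]
  exact b_five

theorem eab_sq : (ea * eb) ^ 2 = 1 := by
  apply modelT.code_inj
  rw [pow_two, modelT.code_mul, modelT.code_mul, code_ea, code_eb, modelT.code_one]
  exact ab_sq

theorem eab_ne : ea * eb ≠ 1 := by
  intro h
  have := congrArg modelT.code h
  rw [modelT.code_mul, code_ea, code_eb, modelT.code_one] at this
  exact ab_ne this

/-- the complement -/
def H0 : Subgroup ↥TJ := Subgroup.closure {ea, eb}

theorem H0_equiv : Nonempty (H0 ≃* alternatingGroup (Fin 5)) :=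
  Cfsg.Agent.Lib.H3.J1.closure_equiv_alt5 ea eb ea_cube eb_five eab_sq eab_ne

theorem H0_le_centralizer : H0 ≤ Subgroup.centralizer ({z} : Set ↥TJ) := by
  unfold H0
  rw [Subgroup.closure_le]
  intro g hg
  rw [SetLike.mem_coe, Subgroup.mem_centralizer_iff]
  intro h hh
  rw [Set.mem_singleton_iff] at hh
  subst hh
  apply modelT.code_inj
  rw [modelT.code_mul, modelT.code_mul, code_z]
  rcases hg with rfl | hg
  · rw [code_ea]; exact az_comm.symm
  · rw [Set.mem_singleton_iff] at hg
    rw [hg, code_eb]; exact bz_comm.symm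

theorem ea_inv : ea⁻¹ = ea * ea := by
  apply inv_eq_of_mul_eq_one_right
  rw [← pow_two, ← pow_succ']
  exact ea_cube

theorem eb_inv : eb⁻¹ = eb * (eb * (eb * eb)) := by
  apply inv_eq_of_mul_eq_one_right
  rw [← pow_two, ← pow_succ', ← pow_succ', ← pow_succ']
  exact eb_five

theorem ea_conj_gen (k : ℕ) (hk : k < 4) : ea * gsQ k * ea⁻¹ ∈ Q0 := by
  have h1 := normA
  have h2 := naA_lt
  simp only [Bool.and_eq_true] at h1 h2
  obtain ⟨⟨⟨a0, a1⟩, a2⟩, a3⟩ := h1
  obtain ⟨⟨⟨b0, b1⟩, b2⟩, b3⟩ := h2
  rw [ea_inv]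
  interval_cases k
  · apply mem_Q0_of_code _ _ (lt_of_blt b0)
    rw [modelT.code_mul, modelT.code_mul, modelT.code_mul, code_ea, code_g0]
    exact eq_of_beqL _ _ a0
  · apply mem_Q0_of_code _ _ (lt_of_blt b1)
    rw [modelT.code_mul, modelT.code_mul, modelT.code_mul, code_ea, code_g1]
    exact eq_of_beqL _ _ a1
  · apply mem_Q0_of_code _ _ (lt_of_blt b2)
    rw [modelT.code_mul, modelT.code_mul, modelT.code_mul, code_ea, code_g2]
    exact eq_of_beqL _ _ a2
  · apply mem_Q0_of_code _ _ (lt_of_blt b3)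
    rw [modelT.code_mul, modelT.code_mul, modelT.code_mul, code_ea, code_g3]
    exact eq_of_beqL _ _ a3

theorem eb_conj_gen (k : ℕ) (hk : k < 4) : eb * gsQ k * eb⁻¹ ∈ Q0 := by
  have h1 := normB
  have h2 := naB_lt
  simp only [Bool.and_eq_true] at h1 h2
  obtain ⟨⟨⟨a0, a1⟩, a2⟩, a3⟩ := h1
  obtain ⟨⟨⟨b0, b1⟩, b2⟩, b3⟩ := h2
  rw [eb_inv]
  interval_cases k
  · apply mem_Q0_of_code _ _ (lt_of_blt b0)
    rw [modelT.code_mul, modelT.code_mul, modelT.code_mul, modelT.code_mul, modelT.code_mul,
      code_eb, code_g0]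
    exact eq_of_beqL _ _ a0
  · apply mem_Q0_of_code _ _ (lt_of_blt b1)
    rw [modelT.code_mul, modelT.code_mul, modelT.code_mul, modelT.code_mul, modelT.code_mul,
      code_eb, code_g1]
    exact eq_of_beqL _ _ a1
  · apply mem_Q0_of_code _ _ (lt_of_blt b2)
    rw [modelT.code_mul, modelT.code_mul, modelT.code_mul, modelT.code_mul, modelT.code_mul,
      code_eb, code_g2]
    exact eq_of_beqL _ _ a2
  · apply mem_Q0_of_code _ _ (lt_of_blt b3)
    rw [modelT.code_mul, modelT.code_mul, modelT.code_mul, modelT.code_mul, modelT.code_mul,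
      code_eb, code_g3]
    exact eq_of_beqL _ _ a3

theorem conj_mem_of_gen (g : ↥TJ) (hg : ∀ k < 4, g * gsQ k * g⁻¹ ∈ Q0) :
    ∀ q ∈ Q0, g * q * g⁻¹ ∈ Q0 := by
  have hle : Q0 ≤ Q0.comap (MulAut.conj g).toMonoidHom := by
    unfold Q0
    rw [Subgroup.closure_le]
    rintro q ⟨k, hk, rfl⟩
    exact hg k hk
  intro q hq
  exact hle hq

theorem H0_normalizes : ∀ h ∈ H0, ∀ q ∈ Q0, h * q * h⁻¹ ∈ Q0 := by
  apply closure_subset_of_mul_mem (L := {g : ↥TJ | ∀ q ∈ Q0, g * q * g⁻¹ ∈ Q0})
  · intro s _
    exact isOfFinOrder_of_finite s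
  · intro q hq
    simpa using hq
  · intro s hs x hx q hq
    have h1 : ∀ q ∈ Q0, s * q * s⁻¹ ∈ Q0 := by
      rcases hs with rfl | hs
      · exact conj_mem_of_gen _ ea_conj_gen
      · rw [Set.mem_singleton_iff] at hs
        rw [hs]
        exact conj_mem_of_gen _ eb_conj_gen
    have : s * x * q * (s * x)⁻¹ = s * (x * q * x⁻¹) * s⁻¹ := by group
    rw [this]
    exact h1 _ (hx q hq)

end Cfsg.Agent.Lib.H3.J3.Cent
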