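import Mathlib
import Cfsg.Agent.Lib.H3.J3Cent4
import Cfsg.Agent.Lib.H3.CenterIso
import Cfsg.Agent.Lib.H3.J3TransportU

set_option autoImplicit false

/-! # The centraliser of an involution of `J₃` is `2^{1+4}_- : A₅` -/

namespace Cfsg.Agent.Lib.H3.J3.Cent

open Cfsg.Agent.Lib.H3.DC Cfsg.Agent.Lib.H3.F4 Cfsg.Agent.Lib.H3.J3 Cfsg.Spor Matrix
open Cfsg.Agent.Lib.H3.CentGen

theorem main {G' : Type*} [Group G'] (Φ : ↥TJ →* G') (hsurj : Function.Surjective Φ)
    (hker : Φ.ker = Subgroup.center ↥TJ) :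
    (∀ x y : G', orderOf x = 2 → orderOf y = 2 → IsConj x y) ∧
    ∃ t : G', orderOf t = 2 ∧
      ∃ (Q : Subgroup ↥(Subgroup.centralizer ({t} : Set G'))) (_ : Q.Normal),
        Cfsg.IsExtraspecial 2 Q ∧ Nat.card Q = 32 ∧
        (∀ E : Subgroup Q, Cfsg.IsElementaryAbelian 2 E → Nat.card E ≤ 2 ^ 2) ∧
        (∃ H : Subgroup ↥(Subgroup.centralizer ({t} : Set G')), Q.IsComplement' H) ∧
        Nonempty (↥(Subgroup.centralizer ({t} : Set G')) ⧸ Q ≃* ↥(alternatingGroup (Fin 5))) := by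
  haveI : Finite G' := Finite.of_surjective Φ hsurj
  have hk3c : Nat.card Φ.ker = 3 := by rw [hker]; exact card_center
  have hk3 : ∀ c ∈ Φ.ker, c ^ 3 = 1 := by
    intro c hc
    have := pow_card_eq_one' (G := Φ.ker) (x := ⟨c, hc⟩)
    rw [hk3c] at this
    exact congrArg Subtype.val this
  have hcen : Φ.ker ≤ Subgroup.center ↥TJ := le_of_eq hker
  have hcardG : Nat.card ↥TJ = 3 * Nat.card G' := by
    have h1 := Φ.ker.card_mul_index
    rw [Subgroup.index_ker, hk3c, MonoidHom.range_eq_top.mpr hsurj, Subgroup.card_top] at h1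
    exact h1.symm
  refine ⟨isConj_involutions Φ hsurj hk3 z isConj_z, Φ z, ?_, ?_⟩
  · apply orderOf_eq_prime
    · rw [← map_pow, z_pow, map_one]
    · intro h
      have hz : z ∈ Φ.ker := h
      have h3 := hk3 z hz
      apply z_ne_one
      calc z = z ^ 3 * (z ^ 2)⁻¹ := by group
        _ = 1 := by rw [h3, z_pow]; group
  · have hcard : Nat.card (Subgroup.centralizer ({Φ z} : Set G')) ≤ 1920 := by
      have h1 := card_centralizer_image Φ hsurj hk3 hcen z z_pow 3 hcardG
      have h2 := card_centralizer_z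
      omega
    have hQd : Q0 ⊓ Φ.ker = ⊥ := by
      apply Subgroup.inf_eq_bot_of_coprime
      rw [card_Q0, hk3c]
      norm_num
    obtain ⟨e0⟩ := H0_equiv
    haveI : IsSimpleGroup H0 := e0.isSimpleGroup
    have hH60 : Nat.card H0 = 60 := by
      rw [Nat.card_congr e0.toEquiv, nat_card_alternatingGroup, Nat.card_fin]
      decide
    have hHd : H0 ⊓ Φ.ker = ⊥ := inf_ker_eq_bot_of_simple Φ H0 (by rw [hk3c, hH60]; norm_num)
    let eQ := mapEquivOfDisjoint Φ Q0 hQd
    let eH := mapEquivOfDisjoint Φ H0 hHd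
    apply assembly (Φ z) (Q0.map Φ) (H0.map Φ) (eQ zq)
    · rintro _ ⟨q, hq, rfl⟩
      rw [Subgroup.mem_centralizer_iff]
      intro h hh
      rw [Set.mem_singleton_iff] at hh
      subst hh
      rw [← map_mul, ← map_mul, z_comm_of_mem q hq]
    · rintro _ ⟨q, hq, rfl⟩
      rw [Subgroup.mem_centralizer_iff]
      intro h hh
      rw [Set.mem_singleton_iff] at hh
      subst hh
      rw [← map_mul, ← map_mul, Subgroup.mem_centralizer_iff.mp (H0_le_centralizer hq) z rfl]
    · exact hcard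
    · exact qhyp_Q0.congr eQ
    · exact ⟨eH.symm.trans e0⟩
    · rintro _ ⟨h, hh, rfl⟩ _ ⟨q, hq, rfl⟩
      rw [← map_inv, ← map_mul, ← map_mul]
      exact ⟨_, H0_normalizes h hh q hq, rfl⟩

/-- the statement for `J₃` over any field with four elements -/
theorem main_J3 {F : Type*} [Field F] [Fintype F] (hF : Fintype.card F = 4) (ω : F)
    (hω : ω ^ 2 + ω + 1 = 0) :
    (∀ x y : Cfsg.Spor.J3 F ω, orderOf x = 2 → orderOf y = 2 → IsConj x y) ∧
    ∃ t : Cfsg.Spor.J3 F ω, orderOf t = 2 ∧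
      ∃ (Q : Subgroup ↥(Subgroup.centralizer ({t} : Set (Cfsg.Spor.J3 F ω)))) (_ : Q.Normal),
        Cfsg.IsExtraspecial 2 Q ∧ Nat.card Q = 32 ∧
        (∀ E : Subgroup Q, Cfsg.IsElementaryAbelian 2 E → Nat.card E ≤ 2 ^ 2) ∧
        (∃ H : Subgroup ↥(Subgroup.centralizer ({t} : Set (Cfsg.Spor.J3 F ω))),
          Q.IsComplement' H) ∧
        Nonempty (↥(Subgroup.centralizer ({t} : Set (Cfsg.Spor.J3 F ω))) ⧸ Q ≃*
          ↥(alternatingGroup (Fin 5))) := by
  have e := Cfsg.Agent.Lib.H3.J3TU.equivConcrete F hF ω hω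
  have eq := Cfsg.Agent.Lib.H3.CenterIso.quotCenterCongr e
  apply main (eq.toMonoidHom.comp (QuotientGroup.mk' (Subgroup.center ↥TJ)))
  · exact eq.surjective.comp (QuotientGroup.mk'_surjective _)
  · ext x
    rw [MonoidHom.mem_ker, MonoidHom.comp_apply]
    constructor
    · intro h
      have h1 : QuotientGroup.mk' (Subgroup.center ↥TJ) x = 1 := by
        apply eq.injective
        rw [map_one]
        exact h
      rw [← QuotientGroup.ker_mk' (Subgroup.center ↥TJ)]
      exact h1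
    · intro h
      have h1 : QuotientGroup.mk' (Subgroup.center ↥TJ) x = 1 := by
        rw [← MonoidHom.mem_ker, QuotientGroup.ker_mk']
        exact h
      rw [h1]
      exact map_one _

end Cfsg.Agent.Lib.H3.J3.Cent
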