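import Mathlib
import Cfsg.Agent.Lib.H3.J3Cent2

set_option autoImplicit false
set_option maxRecDepth 1000000

/-! # Kernel-checked computations for the 2-fusion system of `J₃` -/

namespace Cfsg.Agent.Lib.H3.J3.Cent

open Cfsg.Agent.Lib.H3.DC Cfsg.Agent.Lib.H3.F4 Cfsg.Agent.Lib.H3.J3

/-- the centraliser of `Q` in the listed Sylow subgroup is `{1, z}` -/
def checkS2 : Bool :=
  allLt 128 fun i => Nat.beq i LS.i1 || beqL (LS.elt i) zE ||
    !(beqL (mulE gE0 (LS.elt i)) (mulE (LS.elt i) gE0)) ||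
    !(beqL (mulE gE1 (LS.elt i)) (mulE (LS.elt i) gE1)) ||
    !(beqL (mulE gE2 (LS.elt i)) (mulE (LS.elt i) gE2)) ||
    !(beqL (mulE gE3 (LS.elt i)) (mulE (LS.elt i) gE3))

theorem checkS2_ok : checkS2 = true := by decide +kernel

/-- the generators of the Sylow subgroup are products of involutions -/
theorem invS_ok : (beqL (mulE gE0 gE0) oneE && beqL (mulE gE2 gE2) oneE &&
    beqL (mulE gE3 gE3) oneE && beqL (mulE gE5 gE5) oneE &&
    beqL (mulE (LS.elt 3) (LS.elt 3)) oneE && beqL (mulE (LS.elt 9) (LS.elt 9)) oneE &&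
    beqL (mulE (LS.elt 14) (LS.elt 14)) oneE && beqL (mulE (LS.elt 3) (LS.elt 9)) gE1 &&
    beqL (mulE (LS.elt 3) (LS.elt 14)) gE4) = true := by decide +kernel

theorem g4z_comm : mulE gE4 zE = mulE zE gE4 := by decide +kernel
theorem g5z_comm : mulE gE5 zE = mulE zE gE5 := by decide +kernel

end Cfsg.Agent.Lib.H3.J3.Cent
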