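import Mathlib
import Cfsg.Agent.Lib.H3.J3Cent5
import Cfsg.Agent.Lib.H3.J3FusCheck
import Cfsg.Agent.Lib.H3.FusGen

set_option autoImplicit false
set_option maxRecDepth 100000

/-! # The 2-fusion system of `J₃` is simple -/

namespace Cfsg.Agent.Lib.H3.J3.Cent

open Cfsg.Agent.Lib.H3.DC Cfsg.Agent.Lib.H3.F4 Cfsg.Agent.Lib.H3.J3 Cfsg.Spor Matrix
open Cfsg.Agent.Lib.H3.CentGen

theorem S0_exists : ∀ i < 128, ∃ g ∈ S0, modelT.code g = LS.elt i :=
  Listed.exists_of_lt modelT LS gsS gsS_code LS_check1 LS_check2 LS_check4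

theorem gsS_mem (k : ℕ) (hk : k < 6) : gsS k ∈ S0 :=
  Subgroup.subset_closure ⟨k, hk, rfl⟩

theorem gsQ_eq_gsS (k : ℕ) (hk : k < 4) : gsQ k = gsS k := by
  unfold gsQ gsS
  interval_cases k <;> simp

theorem Q0_le_S0 : Q0 ≤ S0 := by
  have : Subgroup.closure (Listed.genSet LQ gsQ) ≤ Subgroup.closure (Listed.genSet LS gsS) := by
    apply Subgroup.closure_mono
    rintro g ⟨k, hk, rfl⟩
    have hk' : k < 4 := hk
    exact ⟨k, (by show k < 6; omega), gsQ_eq_gsS k hk'⟩
  exact this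

theorem code_gs4 : modelT.code (gsS 4) = gE4 := gsS_code 4 (by decide)
theorem code_gs5 : modelT.code (gsS 5) = gE5 := gsS_code 5 (by decide)

theorem S0_le_centralizer : S0 ≤ Subgroup.centralizer ({z} : Set ↥TJ) := by
  have : Subgroup.closure (Listed.genSet LS gsS) ≤ Subgroup.centralizer ({z} : Set ↥TJ) := by
    rw [Subgroup.closure_le]
    rintro g ⟨k, hk, rfl⟩
    rw [SetLike.mem_coe, Subgroup.mem_centralizer_iff]
    intro h hh
    rw [Set.mem_singleton_iff] at hh
    subst hh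
    have hk' : k < 6 := hk
    apply modelT.code_inj
    rw [modelT.code_mul, modelT.code_mul, code_z]
    interval_cases k
    · rw [gsS_code 0 (by decide)]; exact g0z_comm.symm
    · rw [gsS_code 1 (by decide)]; exact g1z_comm.symm
    · rw [gsS_code 2 (by decide)]; exact g2z_comm.symm
    · rw [gsS_code 3 (by decide)]; exact g3z_comm.symm
    · rw [code_gs4]; exact g4z_comm.symm
    · rw [code_gs5]; exact g5z_comm.symm
  exact this

theorem z_comm_of_mem_S0 (s : ↥TJ) (hs : s ∈ S0) : z * s = s * z :=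
  Subgroup.mem_centralizer_iff.mp (S0_le_centralizer hs) z rfl

theorem elt_i1_S : LS.elt LS.i1 = oneE := by
  have := LS_check1
  rw [Listed.check1, Bool.and_eq_true] at this
  exact eq_of_beqL _ _ this.2

/-- the centraliser of `Q` in the Sylow subgroup is `{1, z}` -/
theorem centralizer_Q0_in_S0 (x : ↥TJ) (hx : x ∈ S0) (hc : ∀ k < 4, gsQ k * x = x * gsQ k) :
    x = 1 ∨ x = z := by
  obtain ⟨i, hi, hcx⟩ := S0_listed x hx
  have hchk := (allLt_iff _ _).mp checkS2_ok i hi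
  simp only [Bool.or_eq_true, Bool.not_eq_true'] at hchk
  have hcomm : ∀ k < 4, modelT.code (gsQ k * x) = modelT.code (x * gsQ k) :=
    fun k hk => by rw [hc k hk]
  rcases hchk with ((((h | h) | h) | h) | h) | h
  · left
    apply modelT.code_inj
    rw [hcx, Nat.eq_of_beq_eq_true h, elt_i1_S]
    exact modelT.code_one.symm
  · right
    apply modelT.code_inj
    rw [hcx, eq_of_beqL _ _ h]
    exact code_z.symm
  · exfalso
    have := hcomm 0 (by decide)
    rw [modelT.code_mul, modelT.code_mul, code_g0, hcx] at this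
    rw [show modelT.mulE = mulE from rfl] at this
    rw [this, beqL_refl] at h
    exact absurd h (by decide)
  · exfalso
    have := hcomm 1 (by decide)
    rw [modelT.code_mul, modelT.code_mul, code_g1, hcx] at this
    rw [show modelT.mulE = mulE from rfl] at this
    rw [this, beqL_refl] at h
    exact absurd h (by decide)
  · exfalso
    have := hcomm 2 (by decide)
    rw [modelT.code_mul, modelT.code_mul, code_g2, hcx] at this
    rw [show modelT.mulE = mulE from rfl] at this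
    rw [this, beqL_refl] at h
    exact absurd h (by decide)
  · exfalso
    have := hcomm 3 (by decide)
    rw [modelT.code_mul, modelT.code_mul, code_g3, hcx] at this
    rw [show modelT.mulE = mulE from rfl] at this
    rw [this, beqL_refl] at h
    exact absurd h (by decide)

/-- the Sylow subgroup is generated by its involutions -/
theorem S0_le_closure_inv : S0 ≤ Subgroup.closure {y : ↥TJ | y ∈ S0 ∧ y * y = 1} := by
  have h := invS_ok
  simp only [Bool.and_eq_true] at h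
  obtain ⟨⟨⟨⟨⟨⟨⟨⟨a0, a2⟩, a3⟩, a5⟩, b3⟩, b9⟩, b14⟩, c1⟩, c4⟩ := h
  obtain ⟨u3, hu3, cu3⟩ := S0_exists 3 (by norm_num)
  obtain ⟨u9, hu9, cu9⟩ := S0_exists 9 (by norm_num)
  obtain ⟨u14, hu14, cu14⟩ := S0_exists 14 (by norm_num)
  have sq : ∀ (y : ↥TJ), mulE (modelT.code y) (modelT.code y) = oneE → y * y = 1 := by
    intro y hy
    apply modelT.code_inj
    rw [modelT.code_mul, modelT.code_one]
    exact hy
  have i3 : u3 ∈ Subgroup.closure {y : ↥TJ | y ∈ S0 ∧ y * y = 1} :=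
    Subgroup.subset_closure ⟨hu3, sq _ (by rw [cu3]; exact eq_of_beqL _ _ b3)⟩
  have i9 : u9 ∈ Subgroup.closure {y : ↥TJ | y ∈ S0 ∧ y * y = 1} :=
    Subgroup.subset_closure ⟨hu9, sq _ (by rw [cu9]; exact eq_of_beqL _ _ b9)⟩
  have i14 : u14 ∈ Subgroup.closure {y : ↥TJ | y ∈ S0 ∧ y * y = 1} :=
    Subgroup.subset_closure ⟨hu14, sq _ (by rw [cu14]; exact eq_of_beqL _ _ b14)⟩
  have key : Subgroup.closure (Listed.genSet LS gsS) ≤
      Subgroup.closure {y : ↥TJ | y ∈ S0 ∧ y * y = 1} := by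
    rw [Subgroup.closure_le]
    rintro g ⟨k, hk, rfl⟩
    have hk' : k < 6 := hk
    interval_cases k
    · exact Subgroup.subset_closure ⟨gsS_mem 0 (by norm_num),
        sq _ (by rw [gsS_code 0 (by decide)]; exact eq_of_beqL _ _ a0)⟩
    · have e : gsS 1 = u3 * u9 := by
        apply modelT.code_inj
        rw [modelT.code_mul, cu3, cu9, gsS_code 1 (by decide)]
        exact (eq_of_beqL _ _ c1).symm
      rw [e]
      exact Subgroup.mul_mem _ i3 i9
    · exact Subgroup.subset_closure ⟨gsS_mem 2 (by norm_num),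
        sq _ (by rw [gsS_code 2 (by decide)]; exact eq_of_beqL _ _ a2)⟩
    · exact Subgroup.subset_closure ⟨gsS_mem 3 (by norm_num),
        sq _ (by rw [gsS_code 3 (by decide)]; exact eq_of_beqL _ _ a3)⟩
    · have e : gsS 4 = u3 * u14 := by
        apply modelT.code_inj
        rw [modelT.code_mul, cu3, cu14, gsS_code 4 (by decide)]
        exact (eq_of_beqL _ _ c4).symm
      rw [e]
      exact Subgroup.mul_mem _ i3 i14
    · exact Subgroup.subset_closure ⟨gsS_mem 5 (by norm_num),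
        sq _ (by rw [gsS_code 5 (by decide)]; exact eq_of_beqL _ _ a5)⟩
  exact key

/-- the 2-fusion system of any quotient of `3·J₃` by its centre is simple -/
theorem fusion_main {G' : Type*} [Group G'] [Finite G'] (Φ : ↥TJ →* G')
    (hsurj : Function.Surjective Φ) (hker : Φ.ker = Subgroup.center ↥TJ) (S : Sylow 2 G') :
    (Cfsg.groupFusionSystem (S : Subgroup G')).IsSimple 2 := by
  have hk3c : Nat.card Φ.ker = 3 := by rw [hker]; exact card_center
  have hk3 : ∀ c ∈ Φ.ker, c ^ 3 = 1 := by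
    intro c hc
    have := pow_card_eq_one' (G := Φ.ker) (x := ⟨c, hc⟩)
    rw [hk3c] at this
    exact congrArg Subtype.val this
  have hcen : Φ.ker ≤ Subgroup.center ↥TJ := le_of_eq hker
  have hcardG : Nat.card ↥TJ = 3 * Nat.card G' := by
    have h1 := Φ.ker.card_mul_index
    rw [Subgroup.index_ker, hk3c, MonoidHom.range_eq_top.mpr hsurj, Subgroup.card_top] at h1
    exact h1.symm
  have hSd : S0 ⊓ Φ.ker = ⊥ := by
    apply Subgroup.inf_eq_bot_of_coprime
    rw [card_S0, hk3c]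
    norm_num
  have hinj : ∀ x ∈ S0, ∀ y ∈ S0, Φ x = Φ y → x = y := by
    intro x hx y hy hxy
    have h1 : x * y⁻¹ ∈ S0 ⊓ Φ.ker :=
      Subgroup.mem_inf.mpr ⟨S0.mul_mem hx (S0.inv_mem hy), MonoidHom.mem_ker.mpr (by
        rw [map_mul, map_inv, hxy, mul_inv_cancel])⟩
    rw [hSd, Subgroup.mem_bot] at h1
    exact mul_inv_eq_one.mp h1
  have hcardS : Nat.card (S0.map Φ) = 128 := by
    rw [← card_S0]
    exact (Nat.card_congr (mapEquivOfDisjoint Φ S0 hSd).toEquiv).symm
  have hcardG' : Nat.card G' = 128 * 392445 := by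
    rw [card_TJ] at hcardG
    omega
  have hgq : ∀ k < 4, gsQ k ∈ S0 := fun k hk => Q0_le_S0 (gsQ_mem k hk)
  -- the centraliser of `Q'` in `S₀'`
  have hCQ0 : ∀ x' ∈ S0.map Φ, (∀ q' ∈ Q0.map Φ, x' * q' = q' * x') → x' = 1 ∨ x' = Φ z := by
    rintro _ ⟨x, hx, rfl⟩ hc
    have h1 : ∀ k < 4, gsQ k * x = x * gsQ k := by
      intro k hk
      apply hinj _ (S0.mul_mem (hgq k hk) hx) _ (S0.mul_mem hx (hgq k hk))
      rw [map_mul, map_mul]
      exact (hc (Φ (gsQ k)) ⟨_, gsQ_mem k hk, rfl⟩).symm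
    rcases centralizer_Q0_in_S0 x hx h1 with h | h
    · left; rw [h, map_one]
    · right; rw [h]
  have hZ : ∀ x' ∈ S0.map Φ, (∀ y' ∈ S0.map Φ, x' * y' = y' * x') → x' = 1 ∨ x' = Φ z := by
    intro x' hx' hc
    apply hCQ0 x' hx'
    intro q' hq'
    exact hc q' (Subgroup.map_mono Q0_le_S0 hq')
  have hCQ : ∀ x' ∈ S0.map Φ, (∀ q' ∈ Q0.map Φ, x' * q' = q' * x') → x' ∈ Q0.map Φ := by
    intro x' hx' hc
    rcases hCQ0 x' hx' hc with h | h
    · rw [h]; exact Subgroup.one_mem _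
    · rw [h]; exact ⟨z, z_mem_Q0, rfl⟩
  have hinv : ∀ y' ∈ S0.map Φ, y' * y' = 1 → y' ≠ 1 → ∃ g : G', g * Φ z * g⁻¹ = y' := by
    rintro _ ⟨y, hy, rfl⟩ hyy hy1
    have h1 : y * y = 1 :=
      hinj _ (S0.mul_mem hy hy) 1 S0.one_mem (by rw [map_mul, hyy, map_one])
    have h2 : y ≠ 1 := fun h => hy1 (by rw [h, map_one])
    obtain ⟨h, hh⟩ := conj_of_mem_S0 y hy h1 h2
    exact ⟨Φ h, by rw [← map_inv, ← map_mul, ← map_mul, hh]⟩
  have hgen : S0.map Φ ≤ Subgroup.closure {y' : G' | y' ∈ S0.map Φ ∧ y' * y' = 1} := by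
    refine (Subgroup.map_mono S0_le_closure_inv).trans ?_
    rw [MonoidHom.map_closure]
    apply Subgroup.closure_mono
    rintro _ ⟨y, ⟨hy, hyy⟩, rfl⟩
    exact ⟨⟨y, hy, rfl⟩, by rw [← map_mul, hyy, map_one]⟩
  have ht1 : Φ z ≠ 1 := by
    intro h
    have hz : z ∈ Φ.ker := h
    have h3 := hk3 z hz
    apply z_ne_one
    calc z = z ^ 3 * (z ^ 2)⁻¹ := by group
      _ = 1 := by rw [h3, z_pow]; group
  have htS : Φ z ∈ S0.map Φ := ⟨z, Q0_le_S0 z_mem_Q0, rfl⟩
  have htc : ∀ y' ∈ S0.map Φ, Φ z * y' = y' * Φ z := by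
    rintro _ ⟨y, hy, rfl⟩
    rw [← map_mul, ← map_mul, z_comm_of_mem_S0 y hy]
  -- the centraliser of `t'`
  have hcard : Nat.card (Subgroup.centralizer ({Φ z} : Set G')) ≤ 1920 := by
    have h1 := card_centralizer_image Φ hsurj hk3 hcen z z_pow 3 hcardG
    have h2 := card_centralizer_z
    omega
  have hQd : Q0 ⊓ Φ.ker = ⊥ := by
    apply Subgroup.inf_eq_bot_of_coprime
    rw [card_Q0, hk3c]
    norm_num
  obtain ⟨e0⟩ := H0_equiv
  haveI : IsSimpleGroup H0 := e0.isSimpleGroup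
  have hH60 : Nat.card H0 = 60 := by
    rw [Nat.card_congr e0.toEquiv, nat_card_alternatingGroup, Nat.card_fin]
    decide
  have hHd : H0 ⊓ Φ.ker = ⊥ := inf_ker_eq_bot_of_simple Φ H0 (by rw [hk3c, hH60]; norm_num)
  let eQ := mapEquivOfDisjoint Φ Q0 hQd
  let eH := mapEquivOfDisjoint Φ H0 hHd
  have hQ32 : Nat.card (Q0.map Φ) = 32 := by
    rw [← card_Q0]
    exact (Nat.card_congr eQ.toEquiv).symm
  have hnorm : ∀ h ∈ H0.map Φ, ∀ q ∈ Q0.map Φ, h * q * h⁻¹ ∈ Q0.map Φ := by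
    rintro _ ⟨h, hh, rfl⟩ _ ⟨q, hq, rfl⟩
    rw [← map_inv, ← map_mul, ← map_mul]
    exact ⟨_, H0_normalizes h hh q hq, rfl⟩
  have hfac : ∀ c : G', c * Φ z = Φ z * c → ∃ q ∈ Q0.map Φ, ∃ h ∈ H0.map Φ, c = q * h := by
    apply Cfsg.Agent.Lib.H3.FusGen.centralizer_factor (Φ z) (Q0.map Φ) (H0.map Φ) _ _ hcard hQ32
      ⟨eH.symm.trans e0⟩ hnorm
    · rintro _ ⟨q, hq, rfl⟩
      rw [Subgroup.mem_centralizer_iff]
      intro h hh
      rw [Set.mem_singleton_iff] at hh
      subst hh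
      rw [← map_mul, ← map_mul, z_comm_of_mem q hq]
    · rintro _ ⟨q, hq, rfl⟩
      rw [Subgroup.mem_centralizer_iff]
      intro h hh
      rw [Set.mem_singleton_iff] at hh
      subst hh
      rw [← map_mul, ← map_mul, Subgroup.mem_centralizer_iff.mp (H0_le_centralizer hq) z rfl]
  haveI : IsSimpleGroup (H0.map Φ) := (eH.symm.trans e0).isSimpleGroup
  have habH : ea * eb ∈ H0 :=
    H0.mul_mem (Subgroup.subset_closure (Set.mem_insert _ _))
      (Subgroup.subset_closure (Set.mem_insert_of_mem _ rfl))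
  have hHgen : H0.map Φ ≤ Subgroup.closure {x : G' | x ∈ H0.map Φ ∧ x * x = 1} := by
    apply Cfsg.Agent.Lib.H3.FusGen.le_closure_involutions (H0.map Φ) (Φ (ea * eb))
      ⟨ea * eb, habH, rfl⟩
    · intro h
      have h1 : ea * eb ∈ H0 ⊓ Φ.ker := Subgroup.mem_inf.mpr ⟨habH, MonoidHom.mem_ker.mpr h⟩
      rw [hHd, Subgroup.mem_bot] at h1
      exact eab_ne h1
    · rw [← map_mul, ← pow_two, eab_sq, map_one]
  obtain ⟨g, hg⟩ := Cfsg.Agent.Lib.H3.FusGen.sylow_conj (S0.map Φ) 392445 (by norm_num)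
    hcardS hcardG' S
  apply Cfsg.Agent.Lib.H25.LieCrit.isSimple_of_gen_conj S (S0.map Φ) g hg
  · intro h
    rw [h, Subgroup.card_bot] at hcardS
    norm_num at hcardS
  · exact Cfsg.Agent.Lib.H3.FusGen.stronglyClosed_trivial (S0.map Φ)
      (IsPGroup.of_card (n := 7) (by rw [hcardS]; norm_num)) (Φ z) hZ hinv hgen
  · exact Cfsg.Agent.Lib.H3.FusGen.normalizer_le_closure_goodElt (S0.map Φ) (Q0.map Φ)
      (H0.map Φ) (Φ z) ht1 htS htc hZ hfac (Subgroup.map_mono Q0_le_S0) hnorm hCQ hHgen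

/-- the statement for `J₃` over any field with four elements -/
theorem fusion_J3 {F : Type*} [Field F] [Fintype F] (hF : Fintype.card F = 4) (ω : F)
    (hω : ω ^ 2 + ω + 1 = 0) {G : Type*} [Group G] [Finite G] (iso : G ≃* Cfsg.Spor.J3 F ω)
    (S : Sylow 2 G) : (Cfsg.groupFusionSystem (S : Subgroup G)).IsSimple 2 := by
  have e := Cfsg.Agent.Lib.H3.J3TU.equivConcrete F hF ω hω
  have eq := (Cfsg.Agent.Lib.H3.CenterIso.quotCenterCongr e).trans iso.symm
  apply fusion_main (eq.toMonoidHom.comp (QuotientGroup.mk' (Subgroup.center ↥TJ)))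
  · exact eq.surjective.comp (QuotientGroup.mk'_surjective _)
  · ext x
    rw [MonoidHom.mem_ker, MonoidHom.comp_apply]
    constructor
    · intro h
      have h1 : QuotientGroup.mk' (Subgroup.center ↥TJ) x = 1 := by
        apply eq.injective
        rw [map_one]
        exact h
      rw [← QuotientGroup.ker_mk' (Subgroup.center ↥TJ)]
      exact h1
    · intro h
      have h1 : QuotientGroup.mk' (Subgroup.center ↥TJ) x = 1 := by
        rw [← MonoidHom.mem_ker, QuotientGroup.ker_mk']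
        exact h
      rw [h1]
      exact map_one _

end Cfsg.Agent.Lib.H3.J3.Cent
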