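import Mathlib

set_option autoImplicit false

/-!
# The permutation representation of a simple group on the cosets of a subgroup, on `Fin n`
-/

namespace Cfsg.Agent.Lib.H3.PermRep

open MulAction

variable {Q : Type*} [Group Q]

theorem exists_perm_rep [IsSimpleGroup Q] (K : Subgroup Q) (n : ℕ) [NeZero n]
    (hn : K.index = n) (h1 : 1 < n) :
    ∃ H : Subgroup (Equiv.Perm (Fin n)), Nonempty (Q ≃* H) ∧
      MulAction.IsPretransitive H (Fin n) ∧
      Nat.card (MulAction.stabilizer H (0 : Fin n)) = Nat.card K := by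
  classical
  have hcard : Nat.card (Q ⧸ K) = n := hn
  haveI : Finite (Q ⧸ K) := Nat.finite_of_card_ne_zero (by rw [hcard]; exact NeZero.ne n)
  obtain ⟨e0⟩ : Nonempty ((Q ⧸ K) ≃ Fin n) := by
    have := Finite.equivFinOfCardEq hcard
    exact ⟨this⟩
  let x0 : Q ⧸ K := ((1 : Q) : Q ⧸ K)
  let e : (Q ⧸ K) ≃ Fin n := e0.trans (Equiv.swap (e0 x0) 0)
  have he0 : e x0 = 0 := by simp [e]
  let ρ : Q →* Equiv.Perm (Q ⧸ K) := MulAction.toPermHom Q (Q ⧸ K)
  let ρ' : Q →* Equiv.Perm (Fin n) := (e.permCongrHom).toMonoidHom.comp ρ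
  have hρ' : ∀ (q : Q) (i : Fin n), ρ' q i = e (q • e.symm i) := by
    intro q i
    rfl
  -- injectivity
  have hinj : Function.Injective ρ' := by
    rw [← MonoidHom.ker_eq_bot_iff]
    rcases (MonoidHom.normal_ker ρ').eq_bot_or_eq_top with h | h
    · exact h
    · exfalso
      -- two distinct points
      haveI : Nontrivial (Fin n) := Fin.nontrivial_iff_two_le.mpr h1
      obtain ⟨i, j, hij⟩ := exists_pair_ne (Fin n)
      obtain ⟨q, hq⟩ := MulAction.exists_smul_eq Q (e.symm i) (e.symm j)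
      have hqk : q ∈ ρ'.ker := by rw [h]; trivial
      rw [MonoidHom.mem_ker] at hqk
      have := hρ' q i
      rw [hqk, hq] at this
      apply hij
      simpa using this
  refine ⟨ρ'.range, ⟨MonoidHom.ofInjective hinj⟩, ?_, ?_⟩
  · refine ⟨fun i j => ?_⟩
    obtain ⟨q, hq⟩ := MulAction.exists_smul_eq Q (e.symm i) (e.symm j)
    refine ⟨⟨ρ' q, ⟨q, rfl⟩⟩, ?_⟩
    show ρ' q i = j
    rw [hρ', hq]
    simp
  · symm
    let f : K → MulAction.stabilizer ρ'.range (0 : Fin n) := fun k =>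
      ⟨⟨ρ' k, ⟨k, rfl⟩⟩, by
        rw [MulAction.mem_stabilizer_iff]
        show ρ' k 0 = 0
        rw [hρ', ← he0, Equiv.symm_apply_apply]
        congr 1
        show ((k : Q) • ((1 : Q) : Q ⧸ K)) = ((1 : Q) : Q ⧸ K)
        rw [← MulAction.mem_stabilizer_iff, MulAction.stabilizer_quotient]
        exact k.2⟩
    apply Nat.card_congr (Equiv.ofBijective f ⟨?_, ?_⟩)
    · intro a b hab
      have h2 : ρ' a = ρ' b := congrArg (fun z : MulAction.stabilizer ρ'.range (0 : Fin n) =>
        ((z : ρ'.range) : Equiv.Perm (Fin n))) hab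
      exact Subtype.ext (hinj h2)
    · rintro ⟨⟨_, ⟨q, rfl⟩⟩, hq⟩
      rw [MulAction.mem_stabilizer_iff] at hq
      have hq' : ρ' q 0 = 0 := hq
      rw [hρ', ← he0, Equiv.symm_apply_apply] at hq'
      have hq2 : q • x0 = x0 := e.injective hq'
      have hqK : q ∈ K := by
        rw [← MulAction.stabilizer_quotient K, MulAction.mem_stabilizer_iff]
        exact hq2
      exact ⟨⟨q, hqK⟩, rfl⟩

end Cfsg.Agent.Lib.H3.PermRep
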