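import Mathlib
import Cfsg.Prelude.Def_Sporadic
import Cfsg.Agent.Lib.H3.J3Main3
import Cfsg.Agent.Lib.H3.J3M2Data
import Cfsg.Agent.Lib.H3.PermRep
import Cfsg.Agent.Lib.H3.CenterIso

set_option autoImplicit false
set_option maxRecDepth 100000

/-! # The subgroup `3 × L₂(16):2` of index `6156` in `3·J₃` and the permutation representation -/

namespace Cfsg.Agent.Lib.H3.J3

open Cfsg.Agent.Lib.H3.DC Cfsg.Agent.Lib.H3.F4 Cfsg.Spor Matrix

theorem NLM_check1 : NLM.check1 model = true := by decide +kernel
theorem NLM_check2_0 : NLM.check2 model 0 = true := by decide +kernel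
theorem NLM_check2_1 : NLM.check2 model 1 = true := by decide +kernel
theorem NLM_check2_2 : NLM.check2 model 2 = true := by decide +kernel
theorem NLM_check3 : NLM.check3 = true := by decide +kernel
theorem NLM_check4 : NLM.check4 = true := by decide +kernel
theorem NDD_chk1 : NDD.chk1 model = true := by decide +kernel
theorem NDD_chk2 : NDD.chk2 model = true := by decide +kernel
theorem NDD_chk3 : NDD.chk3 model = true := by decide +kernel
theorem NDD_chk4 : NDD.chk4 model = true := by decide +kernel
theorem NDD_chk5 : NDD.chk5 model = true := by decide +kernel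
theorem NDD_chk6 : NDD.chk6 model = true := by decide +kernel
theorem NDD_chk7 : (allLt 48 fun i => allLt 12 fun j => NDD.chk7 model i j) = true := by
  decide +kernel
theorem NOO_check1 : NOO.check1 NaE = true := by decide +kernel
theorem NOO_check2_0 : NOO.check2 model 0 = true := by decide +kernel
theorem NOO_check2_1 : NOO.check2 model 1 = true := by decide +kernel
theorem NOO_check2_2 : NOO.check2 model 2 = true := by decide +kernel
theorem NOO_check2_3 : NOO.check2 model 3 = true := by decide +kernel
theorem NOO_check3 : NOO.check3 = true := by decide +kernel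

theorem codeW_N0 : codeW wN0 = Ng0E := by decide +kernel
theorem codeW_N1 : codeW wN1 = Ng1E := by decide +kernel
theorem codeW_N2 : codeW wN2 = Ng2E := by decide +kernel
theorem codeW_NU : codeW wNU = NtE := by decide +kernel
theorem codeW_NUi : codeW wNUi = NwE := by decide +kernel

/-- the base vector -/
def beta0 : V := fun p =>
  [F4.z, F4.w2, F4.w2, F4.w, F4.o, F4.z, F4.w, F4.o, F4.z].getD (idx9 p) 0

theorem enc_beta0 : enc beta0 = NaE := by decide +kernel

/-- generators of the point stabilizer -/
def gsN (k : ℕ) : GG := if k = 0 then wp wN0 else if k = 1 then wp wN1 else wp wN2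

theorem gsN_zero : gsN 0 = wp wN0 := if_pos rfl
theorem gsN_one : gsN 1 = wp wN1 := by unfold gsN; rw [if_neg (by decide), if_pos rfl]
theorem gsN_two : gsN 2 = wp wN2 := by unfold gsN; rw [if_neg (by decide), if_neg (by decide)]

theorem validN : DCData.Valid model NDD gsN (wp wNU) (wp wNUi) beta0 where
  hgs := by
    intro k hk
    have hk' : k < 3 := hk
    interval_cases k
    · rw [gsN_zero, code_wp, codeW_N0]; rfl
    · rw [gsN_one, code_wp, codeW_N1]; rfl
    · rw [gsN_two, code_wp, codeW_N2]; rfl
  ht := by rw [code_wp, codeW_NU]; rfl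
  hw := by rw [code_wp, codeW_NUi]; rfl
  hα := enc_beta0
  hL1 := NLM_check1
  hL2 := by
    intro k hk
    have hk' : k < 3 := hk
    interval_cases k
    · exact NLM_check2_0
    · exact NLM_check2_1
    · exact NLM_check2_2
  hL3 := NLM_check3
  hL4 := NLM_check4
  h1 := NDD_chk1
  h2 := NDD_chk2
  h3 := NDD_chk3
  h4 := NDD_chk4
  h5 := NDD_chk5
  h6 := NDD_chk6
  h7 := by
    intro i hi j hj
    exact (allLt_iff _ _).mp ((allLt_iff _ _).mp NDD_chk7 i hi) j hj

/-- the subgroup `3 × L₂(16):2` -/
abbrev MJ : Subgroup GG := DCData.HH NDD gsN (wp wNU)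

theorem MJ_le_TJ : MJ ≤ TJ := by
  unfold MJ DCData.HH
  rw [Subgroup.closure_le]
  rintro g (hg | hg)
  · have : DCData.MM NDD gsN ≤ TJ := by
      unfold DCData.MM
      rw [Subgroup.closure_le]
      rintro g ⟨k, _, rfl⟩
      unfold gsN
      split_ifs
      · exact wp_mem _
      · exact wp_mem _
      · exact wp_mem _
    exact this hg
  · rw [Set.mem_singleton_iff] at hg
    rw [hg]; exact wp_mem _

/-- generators for the orbit computation -/
def gsN4 (k : ℕ) : GG :=
  if k = 0 then wp wN0 else if k = 1 then wp wN1 else if k = 2 then wp wN2 else wp wNU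

theorem gsN4_zero : gsN4 0 = wp wN0 := if_pos rfl
theorem gsN4_one : gsN4 1 = wp wN1 := by unfold gsN4; rw [if_neg (by decide), if_pos rfl]
theorem gsN4_two : gsN4 2 = wp wN2 := by
  unfold gsN4; rw [if_neg (by decide), if_neg (by decide), if_pos rfl]
theorem gsN4_three : gsN4 3 = wp wNU := by
  unfold gsN4; rw [if_neg (by decide), if_neg (by decide), if_neg (by decide)]

theorem MJ_eq_closure4 : MJ = Subgroup.closure (ListedOrbit.genSet NOO gsN4) := by
  apply le_antisymm
  · unfold MJ DCData.HH
    rw [Subgroup.closure_le]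
    rintro g (hg | hg)
    · have : DCData.MM NDD gsN ≤ Subgroup.closure (ListedOrbit.genSet NOO gsN4) := by
        unfold DCData.MM
        rw [Subgroup.closure_le]
        rintro g ⟨k, hk, rfl⟩
        have hk' : k < 3 := hk
        apply Subgroup.subset_closure
        interval_cases k
        · exact ⟨0, by decide, by rw [gsN_zero, gsN4_zero]⟩
        · exact ⟨1, by decide, by rw [gsN_one, gsN4_one]⟩
        · exact ⟨2, by decide, by rw [gsN_two, gsN4_two]⟩
      exact this hg
    · rw [Set.mem_singleton_iff] at hg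
      rw [hg]
      exact Subgroup.subset_closure ⟨3, by decide, gsN4_three.symm⟩
  · rw [Subgroup.closure_le]
    rintro g ⟨k, hk, rfl⟩
    have hk' : k < 4 := hk
    interval_cases k
    · rw [gsN4_zero, ← gsN_zero]; exact validN.MM_le_HH (validN.gs_mem_MM 0 (by decide))
    · rw [gsN4_one, ← gsN_one]; exact validN.MM_le_HH (validN.gs_mem_MM 1 (by decide))
    · rw [gsN4_two, ← gsN_two]; exact validN.MM_le_HH (validN.gs_mem_MM 2 (by decide))
    · rw [gsN4_three]; exact validN.t_mem_HH

theorem card_orbitN : Nat.card (MulAction.orbit MJ beta0) = 255 := by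
  have := ListedOrbit.card_orbit model NOO gsN4 beta0 (by
      intro k hk
      have hk' : k < 4 := hk
      interval_cases k
      · rw [gsN4_zero, code_wp, codeW_N0]; rfl
      · rw [gsN4_one, code_wp, codeW_N1]; rfl
      · rw [gsN4_two, code_wp, codeW_N2]; rfl
      · rw [gsN4_three, code_wp, codeW_NU]; rfl)
    (by
      show NOO.check1 (enc beta0) = true
      rw [enc_beta0]; exact NOO_check1)
    (by
      intro k hk
      have hk' : k < 4 := hk
      interval_cases k
      · exact NOO_check2_0
      · exact NOO_check2_1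
      · exact NOO_check2_2
      · exact NOO_check2_3)
    NOO_check3
  rw [MJ_eq_closure4]
  exact this

theorem card_MJ : Nat.card MJ = 24480 := by
  rw [validN.card_HH, card_orbitN]
  rfl

theorem gOm_mem_MJ : gOm ∈ MJ :=
  validN.mem_HH_of_code gOm (fld NdecOm 0) (fld NdecOm 1) (fld NdecOm 2) (by decide +kernel)
    (by decide +kernel) (by decide +kernel) (by rw [code_gOm]; decide +kernel)

/-- the subgroup inside `3·J₃` -/
def K0 : Subgroup TJ := MJ.subgroupOf TJ

theorem card_K0 : Nat.card K0 = 24480 := by
  rw [← card_MJ]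
  exact Nat.card_congr (Subgroup.subgroupOfEquivOfLe MJ_le_TJ).toEquiv

theorem center_le_K0 : Subgroup.center TJ ≤ K0 := by
  rw [center_eq, Subgroup.zpowers_le]
  show (zT : GG) ∈ MJ
  exact gOm_mem_MJ

theorem index_K0 : K0.index = 6156 := by
  have h := Subgroup.card_mul_index K0
  rw [card_K0, card_TJ] at h
  omega

/-- the image in `J₃` -/
def K1 : Subgroup (TJ ⧸ Subgroup.center TJ) :=
  K0.map (QuotientGroup.mk' (Subgroup.center TJ))

theorem index_K1 : K1.index = 6156 := by
  unfold K1
  rw [Subgroup.index_map_eq _ (QuotientGroup.mk'_surjective _)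
    (by rw [QuotientGroup.ker_mk']; exact center_le_K0)]
  exact index_K0

theorem card_K1 : Nat.card K1 = 8160 := by
  have h := Subgroup.card_mul_index K1
  rw [index_K1, card_quot] at h
  omega

theorem exists_perm6156 : ∃ H : Subgroup (Equiv.Perm (Fin 6156)), Cfsg.IsJ3 H ∧
    MulAction.IsPretransitive H (Fin 6156) ∧
    Nat.card (MulAction.stabilizer H (0 : Fin 6156)) = 8160 := by
  haveI := simple_quot
  obtain ⟨H, ⟨e⟩, h2, h3⟩ := PermRep.exists_perm_rep K1 6156 index_K1 (by norm_num)
  refine ⟨H, ⟨CenterIso.isSimpleGroup_congr e, ?_⟩, h2, ?_⟩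
  · rw [← Nat.card_congr e.toEquiv, card_quot]
  · rw [h3, card_K1]

end Cfsg.Agent.Lib.H3.J3
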