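import Mathlib
import Cfsg.Agent.Lib.H3.J3Main3
import Cfsg.Agent.Lib.H3.CenterIso

set_option autoImplicit false
set_option maxRecDepth 1000000

/-! # An outer automorphism of `J₃`

The semilinear map `e_z ↦ e_{z̄}` composed with the Frobenius automorphism of `𝔽₄` normalises
`3·J₃` and inverts its centre. -/

namespace Cfsg.Agent.Lib.H3.J3.Out

open Cfsg.Agent.Lib.H3.DC Cfsg.Agent.Lib.H3.F4 Cfsg.Agent.Lib.H3.J3 Cfsg.Spor Matrix

/-- the Frobenius automorphism of `𝔽₄` -/
def frobF : F4 ≃+* F4 where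
  toFun x := x ^ 2
  invFun x := x ^ 2
  left_inv := by decide
  right_inv := by decide
  map_mul' := by decide
  map_add' := by decide

/-- conjugation of `𝔽₉` -/
def conj9 (z : F9) : F9 := (z.1, -z.2)

/-- the permutation matrix `e_z ↦ e_{z̄}` -/
def Pm : Matrix F9 F9 F4 := Matrix.of fun i j => if i = conj9 j then 1 else 0

/-- its code -/
def pE : List ℕ := [1, 2, 16, 32, 4, 8, 64, 128, 1024, 2048, 256, 512, 4096, 8192, 65536, 131072,
  16384, 32768]

theorem code_Pm : codeM Pm = pE := by decide +kernel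

theorem Pm_pow : Pm ^ (1 + 1) = 1 := pow_of_code Pm pE 2 code_Pm (by decide +kernel)

/-- the permutation matrix as a unit -/
def gP : GG := unitOfPow Pm 1 Pm_pow

/-- the automorphism `g ↦ P g^σ P⁻¹` of `GL₉(𝔽₄)` -/
def PhiG : GG ≃* GG :=
  (Units.mapEquiv (RingEquiv.mapMatrix frobF).toMulEquiv).trans (MulAut.conj gP)

theorem PhiG_val (g : GG) :
    ((PhiG g : GG) : Matrix F9 F9 F4) = Pm * (g : Matrix F9 F9 F4).map frobF * Pm := by
  show ((gP * (Units.mapEquiv (RingEquiv.mapMatrix frobF).toMulEquiv g) * gP⁻¹ : GG) :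
    Matrix F9 F9 F4) = _
  rw [Units.val_mul, Units.val_mul]
  show Pm * (g : Matrix F9 F9 F4).map frobF * Pm ^ 1 = _
  rw [pow_one]

theorem phi_mD : Pm * mD.map frobF * Pm = mD := by decide +kernel
theorem phi_mC : Pm * mC.map frobF * Pm = mC := by decide +kernel
theorem phi_mB : Pm * mB.map frobF * Pm = j3B F4 (1, 2) := by decide +kernel
theorem phi_mOm : Pm * mOm.map frobF * Pm = mOm * mOm := by decide +kernel

theorem PhiG_gD : PhiG gD = gD := Units.ext (by rw [PhiG_val]; exact phi_mD)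

theorem PhiG_gC : PhiG gC = gC := Units.ext (by rw [PhiG_val]; exact phi_mC)

theorem PhiG_gB_mem : PhiG gB ∈ TJ := by
  apply Subgroup.subset_closure
  show ((PhiG gB : GG) : Matrix F9 F9 F4) ∈ j3Gens F4 F4.w
  rw [PhiG_val]
  show Pm * mB.map frobF * Pm ∈ j3Gens F4 F4.w
  rw [phi_mB]
  exact Or.inl (Or.inr ⟨(1, 2), by decide, rfl⟩)

theorem PhiG_letter_mem (c : ℕ) : PhiG (letter c) ∈ TJ := by
  unfold letter
  split_ifs
  · rw [PhiG_gD]; exact gD_mem
  · exact PhiG_gB_mem
  · rw [PhiG_gC]; exact gC_mem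
  · rw [map_inv, PhiG_gD]; exact Subgroup.inv_mem _ gD_mem
  · rw [map_inv]; exact Subgroup.inv_mem _ PhiG_gB_mem

theorem PhiG_wp_mem (l : List ℕ) : PhiG (wp l) ∈ TJ := by
  induction l with
  | nil =>
    have : wp [] = 1 := by simp [wp]
    rw [this, map_one]
    exact Subgroup.one_mem _
  | cons c cs ih =>
    rw [wp_cons, map_mul]
    exact Subgroup.mul_mem _ (PhiG_letter_mem c) ih

theorem PhiG_mem (g : GG) (hg : g ∈ TJ) : PhiG g ∈ TJ := by
  have hle : HJ ≤ TJ.comap PhiG.toMonoidHom := by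
    unfold HJ DCData.HH
    rw [Subgroup.closure_le]
    rintro g (hg | hg)
    · revert g
      show DCData.MM DD gs ≤ TJ.comap PhiG.toMonoidHom
      unfold DCData.MM
      rw [Subgroup.closure_le]
      rintro g ⟨k, _, rfl⟩
      show PhiG (gs k) ∈ TJ
      unfold gs
      split_ifs
      · exact PhiG_wp_mem _
      · exact PhiG_wp_mem _
    · rw [Set.mem_singleton_iff] at hg
      rw [hg]
      exact PhiG_wp_mem _
  rw [TJ_eq_HJ] at hg
  exact hle hg

/-- the restriction to `3·J₃` -/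
def phiHom : ↥TJ →* ↥TJ :=
  (PhiG.toMonoidHom.comp TJ.subtype).codRestrict TJ (fun x => PhiG_mem x.1 x.2)

theorem phiHom_val (x : ↥TJ) : ((phiHom x : ↥TJ) : GG) = PhiG (x : GG) := rfl

theorem phiHom_injective : Function.Injective phiHom := by
  intro x y h
  have h1 : PhiG (x : GG) = PhiG (y : GG) := by rw [← phiHom_val, ← phiHom_val, h]
  exact Subtype.ext (PhiG.injective h1)

/-- the automorphism of `3·J₃` -/
noncomputable def phiT : ↥TJ ≃* ↥TJ :=
  MulEquiv.ofBijective phiHom ⟨phiHom_injective, Finite.surjective_of_injective phiHom_injective⟩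

theorem phiT_val (x : ↥TJ) : ((phiT x : ↥TJ) : GG) = PhiG (x : GG) := rfl

theorem phiT_zT : phiT zT = zT * zT := by
  apply Subtype.ext
  apply Units.ext
  rw [phiT_val, PhiG_val]
  exact phi_mOm

theorem phiT_zT_ne : phiT zT ≠ zT := by
  rw [phiT_zT]
  intro h
  apply zT_ne_one
  calc zT = zT⁻¹ * (zT * zT) := by group
    _ = 1 := by rw [h, inv_mul_cancel]

/-- the automorphism of `J₃` -/
noncomputable def alphaQ : MulAut (↥TJ ⧸ Subgroup.center ↥TJ) :=
  Cfsg.Agent.Lib.H3.CenterIso.quotCenterCongr phiT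

theorem alphaQ_mk (x : ↥TJ) :
    alphaQ (QuotientGroup.mk x) = QuotientGroup.mk (phiT x) := rfl

theorem pow_three_center (c : ↥TJ) (hc : c ∈ Subgroup.center ↥TJ) : c ^ 3 = 1 := by
  have := pow_card_eq_one' (G := Subgroup.center ↥TJ) (x := ⟨c, hc⟩)
  rw [card_center] at this
  exact congrArg Subtype.val this

theorem alphaQ_not_inner :
    alphaQ ∉ (MulAut.conj : (↥TJ ⧸ Subgroup.center ↥TJ) →* MulAut (↥TJ ⧸ Subgroup.center ↥TJ)).range := by
  rintro ⟨gb, hgb⟩
  obtain ⟨g, rfl⟩ := QuotientGroup.mk_surjective gb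
  have key : ∀ x : ↥TJ, x ^ 19 = 1 → phiT x = g * x * g⁻¹ := by
    intro x hx
    have h1 : (QuotientGroup.mk (g * x * g⁻¹) : ↥TJ ⧸ Subgroup.center ↥TJ) =
        QuotientGroup.mk (phiT x) := by
      rw [← alphaQ_mk, ← hgb, MulAut.conj_apply]
      rfl
    rw [QuotientGroup.eq] at h1
    set c := (g * x * g⁻¹)⁻¹ * phiT x with hc
    have hc3 := pow_three_center c h1
    have hcomm : Commute (g * x * g⁻¹) c := Subgroup.mem_center_iff.mp h1 _
    have hphi : phiT x = g * x * g⁻¹ * c := by rw [hc, mul_inv_cancel_left]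
    have h19 : c ^ 19 = 1 := by
      have h2 : (phiT x) ^ 19 = 1 := by rw [← map_pow, hx, map_one]
      rw [hphi, hcomm.mul_pow] at h2
      have h3 : (g * x * g⁻¹) ^ 19 = 1 := by
        rw [conj_pow, hx, mul_one, mul_inv_cancel]
      rw [h3, one_mul] at h2
      exact h2
    have hc1 : c = 1 := by
      calc c = c ^ 19 * ((c ^ 3) ^ 6)⁻¹ := by
            rw [← pow_mul, show 3 * 6 = 18 from rfl, pow_succ']
            group
        _ = 1 := by rw [h19, hc3, one_pow, inv_one, mul_one]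
    rw [hphi, hc1, mul_one]
  have heq : phiT.toMonoidHom = (MulAut.conj g).toMonoidHom := by
    apply MonoidHom.eq_of_eqOn_dense gen19
    intro x hx
    show phiT x = MulAut.conj g x
    rw [MulAut.conj_apply]
    exact key x hx
  apply phiT_zT_ne
  have h2 : phiT zT = MulAut.conj g zT := congrFun (congrArg DFunLike.coe heq) zT
  rw [h2, MulAut.conj_apply]
  have hz : zT ∈ Subgroup.center ↥TJ := by
    rw [center_eq]
    exact Subgroup.mem_zpowers zT
  have h3 : g * zT = zT * g := Subgroup.mem_center_iff.mp hz g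
  rw [h3, mul_inv_cancel_right]

end Cfsg.Agent.Lib.H3.J3.Out
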