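import Mathlib
import Cfsg.Agent.Lib.H3.J3OutData
import Cfsg.Agent.Lib.H3.J3Data
import Cfsg.Agent.Lib.H3.F4fast

set_option autoImplicit false
set_option maxRecDepth 1000000

/-! # Check functions for the outer automorphism group of `J₃`

The list `elt` holds all involutions of `3·J₃`.  `chkConj` checks that the list is closed under
conjugation by `s` and `t₀`; `chkRel` checks that the only listed `y` with `(y s)³`, `w(y, s^{±1})⁶`
central, where `w(y, S) = (y b)(y b²)`, `b = y S`, are the conjugates of `t₀` under `⟨s⟩`. -/

namespace Cfsg.Agent.Lib.H3.J3.Out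

open Cfsg.Agent.Lib.H3.DC Cfsg.Agent.Lib.H3.F4 Cfsg.Agent.Lib.H3.J3

/-- evaluate all entries of a list before continuing -/
def forceL {β : Type} : List ℕ → (List ℕ → β) → β
  | [], k => k []
  | a :: as, k => force a fun a' => forceL as fun as' => k (a' :: as')

@[simp] theorem forceL_eq {β : Type} (l : List ℕ) (k : List ℕ → β) : forceL l k = k l := by
  induction l generalizing k with
  | nil => rfl
  | cons a as ih => simp [forceL, ih]

/-- unpack `k` fields of 18 bits -/
def unpkAux : ℕ → ℕ → List ℕ
  | 0, _ => []
  | k + 1, v => force (Nat.land v 262143) fun a => force (Nat.shiftRight v 18) fun v' =>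
      a :: unpkAux k v'

/-- the matrix code stored in the low 324 bits -/
def unpk (v : ℕ) : List ℕ := unpkAux 18 v

/-- the `i`-th record -/
noncomputable def recd (i : ℕ) : ℕ :=
  force (BT.get recT 128 (Nat.div i 128)) fun c =>
    Nat.land (Nat.shiftRight c (Nat.mul 360 (Nat.mod i 128)))
      2348542582773833227889480596789337027375682548908319870707290971532209025114608443463698998384768703031934975

/-- the `i`-th involution -/
noncomputable def elt (i : ℕ) : List ℕ := unpk (recd i)

/-- closure of the list under conjugation by `s` and `t₀`, for the indices `off ≤ i < off + cnt` -/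
noncomputable def chkConj (off cnt : ℕ) : Bool :=
  allLt cnt fun j => force (Nat.add j off) fun i => force (recd i) fun r =>
    force (Nat.land (Nat.shiftRight r 324) 65535) fun a =>
    force (Nat.land (Nat.shiftRight r 340) 65535) fun b =>
    forceL (unpk r) fun e =>
      Nat.blt a nInv && Nat.blt b nInv && beqL (mulE2 (mulE2 sE e) siE) (elt a) &&
        beqL (mulE2 (mulE2 t0E e) t0E) (elt b)

/-- codes of the central elements -/
def isZ (c : List ℕ) : Bool := beqL c oneE || beqL c omE || beqL c om2E

/-- the sixth power -/
def pow6 (w : List ℕ) : List ℕ :=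
  forceL (mulE2 w w) fun w2 => forceL (mulE2 w2 w) fun w3 => mulE2 w3 w3

/-- the image of the first basis vector under `(e s)³` -/
def vt (e : List ℕ) : ℕ := actE2 e (actE2 sE (actE2 e (actE2 sE (actE2 e (actE2 sE 1)))))

/-- `(e s)³` is central -/
def rel1 (e : List ℕ) : Bool :=
  force (vt e) fun x =>
    cond (Nat.blt 0 x && Nat.blt x 4)
      (forceL (mulE2 e sE) fun b => forceL (mulE2 (mulE2 b b) b) fun b3 => isZ b3) false

/-- `w(e, S)⁶` is central -/
def rel2 (e S : List ℕ) : Bool :=
  forceL (mulE2 e S) fun b => forceL (mulE2 b b) fun b2 =>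
    forceL (mulE2 (mulE2 e b) (mulE2 e b2)) fun w => forceL (pow6 w) fun w6 => isZ w6

/-- membership in a list of codes -/
def memL (e : List ℕ) : List (List ℕ) → Bool
  | [] => false
  | c :: cs => cond (beqL e c) true (memL e cs)

/-- the relations force a conjugate of `t₀` -/
def relOK (e : List ℕ) : Bool :=
  cond (rel1 e) (cond (rel2 e sE || rel2 e siE) (memL e goodL) true) true

/-- the relation check for the indices `off ≤ i < off + cnt` -/
noncomputable def chkRel (off cnt : ℕ) : Bool :=
  allLt cnt fun j => force (Nat.add j off) fun i => forceL (elt i) fun e => relOK e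

end Cfsg.Agent.Lib.H3.J3.Out
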