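import Mathlib
import Cfsg.Agent.Lib.H3.J3OutDefs

set_option autoImplicit false
set_option maxRecDepth 1000000

/-! # Kernel-checked computations for the outer automorphism group of `J₃`, part A0 -/

namespace Cfsg.Agent.Lib.H3.J3.Out

open Cfsg.Agent.Lib.H3.DC Cfsg.Agent.Lib.H3.F4 Cfsg.Agent.Lib.H3.J3

theorem chkConj_0 : chkConj 0 328 = true := by decide +kernel
theorem chkConj_1 : chkConj 328 328 = true := by decide +kernel
theorem chkConj_2 : chkConj 656 328 = true := by decide +kernel
theorem chkConj_3 : chkConj 984 328 = true := by decide +kernel
theorem chkConj_4 : chkConj 1312 328 = true := by decide +kernel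
theorem chkConj_5 : chkConj 1640 328 = true := by decide +kernel
theorem chkConj_6 : chkConj 1968 328 = true := by decide +kernel
theorem chkConj_7 : chkConj 2296 328 = true := by decide +kernel
theorem chkConj_8 : chkConj 2624 328 = true := by decide +kernel
theorem chkConj_9 : chkConj 2952 328 = true := by decide +kernel

end Cfsg.Agent.Lib.H3.J3.Out
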