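import Mathlib
import Cfsg.Agent.Lib.H3.J3OutDefs

set_option autoImplicit false
set_option maxRecDepth 1000000

/-! # Kernel-checked computations for the outer automorphism group of `J₃`, part A1 -/

namespace Cfsg.Agent.Lib.H3.J3.Out

open Cfsg.Agent.Lib.H3.DC Cfsg.Agent.Lib.H3.F4 Cfsg.Agent.Lib.H3.J3

theorem chkConj_10 : chkConj 3280 328 = true := by decide +kernel
theorem chkConj_11 : chkConj 3608 328 = true := by decide +kernel
theorem chkConj_12 : chkConj 3936 328 = true := by decide +kernel
theorem chkConj_13 : chkConj 4264 328 = true := by decide +kernel
theorem chkConj_14 : chkConj 4592 328 = true := by decide +kernel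
theorem chkConj_15 : chkConj 4920 328 = true := by decide +kernel
theorem chkConj_16 : chkConj 5248 328 = true := by decide +kernel
theorem chkConj_17 : chkConj 5576 328 = true := by decide +kernel
theorem chkConj_18 : chkConj 5904 328 = true := by decide +kernel
theorem chkConj_19 : chkConj 6232 328 = true := by decide +kernel

end Cfsg.Agent.Lib.H3.J3.Out
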