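import Mathlib
import Cfsg.Agent.Lib.H3.J3OutDefs

set_option autoImplicit false
set_option maxRecDepth 1000000

/-! # Kernel-checked computations for the outer automorphism group of `J₃`, part A2 -/

namespace Cfsg.Agent.Lib.H3.J3.Out

open Cfsg.Agent.Lib.H3.DC Cfsg.Agent.Lib.H3.F4 Cfsg.Agent.Lib.H3.J3

theorem chkConj_20 : chkConj 6560 328 = true := by decide +kernel
theorem chkConj_21 : chkConj 6888 328 = true := by decide +kernel
theorem chkConj_22 : chkConj 7216 328 = true := by decide +kernel
theorem chkConj_23 : chkConj 7544 328 = true := by decide +kernel
theorem chkConj_24 : chkConj 7872 328 = true := by decide +kernel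
theorem chkConj_25 : chkConj 8200 328 = true := by decide +kernel
theorem chkConj_26 : chkConj 8528 328 = true := by decide +kernel
theorem chkConj_27 : chkConj 8856 328 = true := by decide +kernel
theorem chkConj_28 : chkConj 9184 328 = true := by decide +kernel
theorem chkConj_29 : chkConj 9512 328 = true := by decide +kernel

end Cfsg.Agent.Lib.H3.J3.Out
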