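import Mathlib
import Cfsg.Agent.Lib.H3.J3OutDefs

set_option autoImplicit false
set_option maxRecDepth 1000000

/-! # Kernel-checked computations for the outer automorphism group of `J₃`, part A3 -/

namespace Cfsg.Agent.Lib.H3.J3.Out

open Cfsg.Agent.Lib.H3.DC Cfsg.Agent.Lib.H3.F4 Cfsg.Agent.Lib.H3.J3

theorem chkConj_30 : chkConj 9840 328 = true := by decide +kernel
theorem chkConj_31 : chkConj 10168 328 = true := by decide +kernel
theorem chkConj_32 : chkConj 10496 328 = true := by decide +kernel
theorem chkConj_33 : chkConj 10824 328 = true := by decide +kernel
theorem chkConj_34 : chkConj 11152 328 = true := by decide +kernel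
theorem chkConj_35 : chkConj 11480 328 = true := by decide +kernel
theorem chkConj_36 : chkConj 11808 328 = true := by decide +kernel
theorem chkConj_37 : chkConj 12136 328 = true := by decide +kernel
theorem chkConj_38 : chkConj 12464 328 = true := by decide +kernel
theorem chkConj_39 : chkConj 12792 328 = true := by decide +kernel

end Cfsg.Agent.Lib.H3.J3.Out
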