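import Mathlib
import Cfsg.Agent.Lib.H3.J3OutDefs

set_option autoImplicit false
set_option maxRecDepth 1000000

/-! # Kernel-checked computations for the outer automorphism group of `J₃`, part A4 -/

namespace Cfsg.Agent.Lib.H3.J3.Out

open Cfsg.Agent.Lib.H3.DC Cfsg.Agent.Lib.H3.F4 Cfsg.Agent.Lib.H3.J3

theorem chkConj_40 : chkConj 13120 328 = true := by decide +kernel
theorem chkConj_41 : chkConj 13448 328 = true := by decide +kernel
theorem chkConj_42 : chkConj 13776 328 = true := by decide +kernel
theorem chkConj_43 : chkConj 14104 328 = true := by decide +kernel
theorem chkConj_44 : chkConj 14432 328 = true := by decide +kernel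
theorem chkConj_45 : chkConj 14760 328 = true := by decide +kernel
theorem chkConj_46 : chkConj 15088 328 = true := by decide +kernel
theorem chkConj_47 : chkConj 15416 328 = true := by decide +kernel
theorem chkConj_48 : chkConj 15744 328 = true := by decide +kernel
theorem chkConj_49 : chkConj 16072 328 = true := by decide +kernel

end Cfsg.Agent.Lib.H3.J3.Out
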