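import Mathlib
import Cfsg.Agent.Lib.H3.J3OutDefs

set_option autoImplicit false
set_option maxRecDepth 1000000

/-! # Kernel-checked computations for the outer automorphism group of `J₃`, part A5 -/

namespace Cfsg.Agent.Lib.H3.J3.Out

open Cfsg.Agent.Lib.H3.DC Cfsg.Agent.Lib.H3.F4 Cfsg.Agent.Lib.H3.J3

theorem chkConj_50 : chkConj 16400 328 = true := by decide +kernel
theorem chkConj_51 : chkConj 16728 328 = true := by decide +kernel
theorem chkConj_52 : chkConj 17056 328 = true := by decide +kernel
theorem chkConj_53 : chkConj 17384 328 = true := by decide +kernel
theorem chkConj_54 : chkConj 17712 328 = true := by decide +kernel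
theorem chkConj_55 : chkConj 18040 328 = true := by decide +kernel
theorem chkConj_56 : chkConj 18368 328 = true := by decide +kernel
theorem chkConj_57 : chkConj 18696 328 = true := by decide +kernel
theorem chkConj_58 : chkConj 19024 328 = true := by decide +kernel
theorem chkConj_59 : chkConj 19352 328 = true := by decide +kernel

end Cfsg.Agent.Lib.H3.J3.Out
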