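import Mathlib
import Cfsg.Agent.Lib.H3.J3OutDefs

set_option autoImplicit false
set_option maxRecDepth 1000000

/-! # Kernel-checked computations for the outer automorphism group of `J₃`, part A6 -/

namespace Cfsg.Agent.Lib.H3.J3.Out

open Cfsg.Agent.Lib.H3.DC Cfsg.Agent.Lib.H3.F4 Cfsg.Agent.Lib.H3.J3

theorem chkConj_60 : chkConj 19680 328 = true := by decide +kernel
theorem chkConj_61 : chkConj 20008 328 = true := by decide +kernel
theorem chkConj_62 : chkConj 20336 328 = true := by decide +kernel
theorem chkConj_63 : chkConj 20664 328 = true := by decide +kernel
theorem chkConj_64 : chkConj 20992 328 = true := by decide +kernel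
theorem chkConj_65 : chkConj 21320 328 = true := by decide +kernel
theorem chkConj_66 : chkConj 21648 328 = true := by decide +kernel
theorem chkConj_67 : chkConj 21976 328 = true := by decide +kernel
theorem chkConj_68 : chkConj 22304 328 = true := by decide +kernel
theorem chkConj_69 : chkConj 22632 328 = true := by decide +kernel

end Cfsg.Agent.Lib.H3.J3.Out
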