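import Mathlib
import Cfsg.Agent.Lib.H3.J3OutDefs

set_option autoImplicit false
set_option maxRecDepth 1000000

/-! # Kernel-checked computations for the outer automorphism group of `J₃`, part A7 -/

namespace Cfsg.Agent.Lib.H3.J3.Out

open Cfsg.Agent.Lib.H3.DC Cfsg.Agent.Lib.H3.F4 Cfsg.Agent.Lib.H3.J3

theorem chkConj_70 : chkConj 22960 328 = true := by decide +kernel
theorem chkConj_71 : chkConj 23288 328 = true := by decide +kernel
theorem chkConj_72 : chkConj 23616 328 = true := by decide +kernel
theorem chkConj_73 : chkConj 23944 328 = true := by decide +kernel
theorem chkConj_74 : chkConj 24272 328 = true := by decide +kernel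
theorem chkConj_75 : chkConj 24600 328 = true := by decide +kernel
theorem chkConj_76 : chkConj 24928 328 = true := by decide +kernel
theorem chkConj_77 : chkConj 25256 328 = true := by decide +kernel
theorem chkConj_78 : chkConj 25584 328 = true := by decide +kernel
theorem chkConj_79 : chkConj 25912 251 = true := by decide +kernel

end Cfsg.Agent.Lib.H3.J3.Out
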