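import Mathlib
import Cfsg.Agent.Lib.H3.J3OutDefs

set_option autoImplicit false
set_option maxRecDepth 1000000

/-! # Kernel-checked computations for the outer automorphism group of `J₃`, part B0 -/

namespace Cfsg.Agent.Lib.H3.J3.Out

open Cfsg.Agent.Lib.H3.DC Cfsg.Agent.Lib.H3.F4 Cfsg.Agent.Lib.H3.J3

theorem chkRel_0 : chkRel 0 1636 = true := by decide +kernel
theorem chkRel_1 : chkRel 1636 1636 = true := by decide +kernel
theorem chkRel_2 : chkRel 3272 1636 = true := by decide +kernel
theorem chkRel_3 : chkRel 4908 1636 = true := by decide +kernel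
theorem chkRel_4 : chkRel 6544 1636 = true := by decide +kernel
theorem chkRel_5 : chkRel 8180 1636 = true := by decide +kernel
theorem chkRel_6 : chkRel 9816 1636 = true := by decide +kernel
theorem chkRel_7 : chkRel 11452 1636 = true := by decide +kernel

end Cfsg.Agent.Lib.H3.J3.Out
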