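import Mathlib
import Cfsg.Agent.Lib.H3.J3OutDefs

set_option autoImplicit false
set_option maxRecDepth 1000000

/-! # Kernel-checked computations for the outer automorphism group of `J₃`, part B1 -/

namespace Cfsg.Agent.Lib.H3.J3.Out

open Cfsg.Agent.Lib.H3.DC Cfsg.Agent.Lib.H3.F4 Cfsg.Agent.Lib.H3.J3

theorem chkRel_8 : chkRel 13088 1636 = true := by decide +kernel
theorem chkRel_9 : chkRel 14724 1636 = true := by decide +kernel
theorem chkRel_10 : chkRel 16360 1636 = true := by decide +kernel
theorem chkRel_11 : chkRel 17996 1636 = true := by decide +kernel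
theorem chkRel_12 : chkRel 19632 1636 = true := by decide +kernel
theorem chkRel_13 : chkRel 21268 1636 = true := by decide +kernel
theorem chkRel_14 : chkRel 22904 1636 = true := by decide +kernel
theorem chkRel_15 : chkRel 24540 1623 = true := by decide +kernel

end Cfsg.Agent.Lib.H3.J3.Out
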