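import Mathlib
import Cfsg.Agent.Lib.H3.J3OutDefs
import Cfsg.Agent.Lib.H3.J3Cent3

set_option autoImplicit false
set_option maxRecDepth 1000000

/-! # The generating pair `s`, `t₀` of `3·J₃` -/

namespace Cfsg.Agent.Lib.H3.J3.Out

open Cfsg.Agent.Lib.H3.DC Cfsg.Agent.Lib.H3.F4 Cfsg.Agent.Lib.H3.J3 Cfsg.Agent.Lib.H3.J3.Cent

/-- the element of order `19` -/
def s : ↥TJ := wpT wS
/-- its inverse -/
def si : ↥TJ := wpT wSi
/-- the involution -/
def t0 : ↥TJ := wpT wT0
/-- an element normalising `⟨s⟩` -/
def d9 : ↥TJ := wpT wD9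

theorem codeW_S : codeW wS = sE := by decide +kernel
theorem codeW_Si : codeW wSi = siE := by decide +kernel
theorem codeW_T0 : codeW wT0 = t0E := by decide +kernel
theorem codeW_D9 : codeW wD9 = d9E := by decide +kernel

theorem code_s : modelT.code s = sE := by rw [s, code_wpT, codeW_S]
theorem code_si : modelT.code si = siE := by rw [si, code_wpT, codeW_Si]
theorem code_t0 : modelT.code t0 = t0E := by rw [t0, code_wpT, codeW_T0]
theorem code_d9 : modelT.code d9 = d9E := by rw [d9, code_wpT, codeW_D9]

theorem code_mul' (g h : ↥TJ) : modelT.code (g * h) = mulE (modelT.code g) (modelT.code h) :=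
  modelT.code_mul g h

theorem code_one' : modelT.code (1 : ↥TJ) = oneE := modelT.code_one

theorem s_mul_si_code : mulE sE siE = oneE := by decide +kernel

theorem si_eq : si = s⁻¹ := by
  apply eq_inv_of_mul_eq_one_right
  apply modelT.code_inj
  rw [code_mul', code_s, code_si, code_one']
  exact s_mul_si_code

theorem code_sinv : modelT.code s⁻¹ = siE := by rw [← si_eq, code_si]

theorem wS_eq : wS = wT := by decide

theorem orderOf_s : orderOf s = 19 := by
  rw [← Subgroup.orderOf_coe]
  show orderOf (wp wS) = 19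
  rw [wS_eq]
  exact order_t

theorem s_pow : s ^ 19 = 1 := by rw [← orderOf_s]; exact pow_orderOf_eq_one s

theorem t0_sq_code : mulE t0E t0E = oneE := by decide +kernel

theorem t0_mul_t0 : t0 * t0 = 1 := by
  apply modelT.code_inj
  rw [code_mul', code_t0, code_one']
  exact t0_sq_code

theorem t0_inv : t0⁻¹ = t0 := by
  rw [inv_eq_iff_mul_eq_one]
  exact t0_mul_t0

theorem t0_ne_one : t0 ≠ 1 := by
  intro h
  have := congrArg modelT.code h
  rw [code_t0, code_one'] at this
  revert this
  decide

theorem orderOf_t0 : orderOf t0 = 2 :=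
  orderOf_eq_prime (by rw [pow_two]; exact t0_mul_t0) t0_ne_one

theorem d9_conj_code : mulE d9E sE = mulE (mulE (mulE sE sE) (mulE sE sE)) d9E := by
  decide +kernel

theorem d9_conj : d9 * s * d9⁻¹ = s ^ 4 := by
  have h : d9 * s = s ^ 4 * d9 := by
    apply modelT.code_inj
    have h4 : s ^ 4 = (s * s) * (s * s) := by
      rw [show (4 : ℕ) = 2 + 2 from rfl, pow_add, pow_two]
    rw [h4]
    simp only [code_mul', code_s, code_d9]
    exact d9_conj_code
  rw [h, mul_inv_cancel_right]

/-! ### Central elements -/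

theorem code_zT : modelT.code zT = omE := code_gOm

theorem code_zT2 : modelT.code (zT ^ 2) = om2E := code_gOm2

theorem zT_mem_center : zT ∈ Subgroup.center ↥TJ := by
  rw [center_eq]
  exact Subgroup.mem_zpowers zT

theorem mem_center_of_isZ (g : ↥TJ) (h : isZ (modelT.code g) = true) :
    g ∈ Subgroup.center ↥TJ := by
  unfold isZ at h
  rw [Bool.or_eq_true, Bool.or_eq_true] at h
  rcases h with (h | h) | h
  · have : g = 1 := by
      apply modelT.code_inj
      rw [eq_of_beqL _ _ h, code_one']
    rw [this]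
    exact Subgroup.one_mem _
  · have : g = zT := by
      apply modelT.code_inj
      rw [eq_of_beqL _ _ h, code_zT]
    rw [this]
    exact zT_mem_center
  · have : g = zT ^ 2 := by
      apply modelT.code_inj
      rw [eq_of_beqL _ _ h, code_zT2]
    rw [this]
    exact Subgroup.pow_mem _ zT_mem_center 2

theorem center_cases (g : ↥TJ) (h : g ∈ Subgroup.center ↥TJ) :
    g = 1 ∨ g = zT ∨ g = zT ^ 2 := by
  rw [center_eq] at h
  have hfo : IsOfFinOrder zT := isOfFinOrder_of_finite zT
  rw [hfo.mem_zpowers_iff_mem_range_orderOf, orderOf_zT, Finset.mem_image] at h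
  obtain ⟨k, hk, rfl⟩ := h
  rw [Finset.mem_range] at hk
  interval_cases k
  · left; exact pow_zero _
  · right; left; exact pow_one _
  · right; right; rfl

theorem code_cases (g : ↥TJ) (h : g ∈ Subgroup.center ↥TJ) :
    modelT.code g = oneE ∨ modelT.code g = omE ∨ modelT.code g = om2E := by
  rcases center_cases g h with rfl | rfl | rfl
  · left; exact code_one'
  · right; left; exact code_zT
  · right; right; exact code_zT2

theorem isZ_of_mem_center (g : ↥TJ) (h : g ∈ Subgroup.center ↥TJ) :
    isZ (modelT.code g) = true := by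
  unfold isZ
  rcases code_cases g h with h | h | h
  · rw [h, beqL_refl]; rfl
  · rw [h, beqL_refl]; simp
  · rw [h, beqL_refl]; simp

theorem pow_three_of_mem_center (g : ↥TJ) (h : g ∈ Subgroup.center ↥TJ) : g ^ 3 = 1 := by
  rcases center_cases g h with rfl | rfl | rfl
  · exact one_pow _
  · exact zT_cube
  · rw [← pow_mul, show 2 * 3 = 3 * 2 from rfl, pow_mul, zT_cube, one_pow]

theorem s_not_mem_center : s ∉ Subgroup.center ↥TJ := by
  intro h
  have h3 := pow_three_of_mem_center s h
  have h1 : s = 1 := by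
    calc s = s ^ 19 * ((s ^ 3) ^ 6)⁻¹ := by
          rw [← pow_mul, show 3 * 6 = 18 from rfl, pow_succ']
          group
      _ = 1 := by rw [s_pow, h3, one_pow, inv_one, mul_one]
  have := orderOf_s
  rw [h1, orderOf_one] at this
  omega

theorem t0_not_mem_center : t0 ∉ Subgroup.center ↥TJ := by
  intro h
  have h3 := pow_three_of_mem_center t0 h
  apply t0_ne_one
  calc t0 = t0 ^ 3 * (t0 * t0)⁻¹ := by group
    _ = 1 := by rw [h3, t0_mul_t0, inv_one, mul_one]

end Cfsg.Agent.Lib.H3.J3.Out
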