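import Mathlib
import Cfsg.Agent.Lib.H3.J3OutGen

set_option autoImplicit false
set_option maxRecDepth 1000000

/-! # `3·J₃` is generated by `s`, `t₀` and its centre -/

namespace Cfsg.Agent.Lib.H3.J3.Out

open Cfsg.Agent.Lib.H3.DC Cfsg.Agent.Lib.H3.F4 Cfsg.Agent.Lib.H3.J3 Cfsg.Agent.Lib.H3.J3.Cent

/-- the subgroup generated by `s`, `t₀` and the centre -/
def K : Subgroup ↥TJ := Subgroup.closure {s, t0, zT}

theorem s_mem_K : s ∈ K := Subgroup.subset_closure (by simp)
theorem t0_mem_K : t0 ∈ K := Subgroup.subset_closure (by simp)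
theorem zT_mem_K : zT ∈ K := Subgroup.subset_closure (by simp)

/-- the word `s^k₀ t₀ s^k₁ t₀ ⋯ s^kₘ t₀` -/
def ev : List ℕ → ↥TJ
  | [] => 1
  | k :: ks => s ^ k * (t0 * ev ks)

/-- its code -/
def evE : List ℕ → List ℕ
  | [] => oneE
  | k :: ks => mulE (powE sE k) (mulE t0E (evE ks))

theorem code_pow (g : ↥TJ) (n : ℕ) : modelT.code (g ^ n) = powE (modelT.code g) n := by
  induction n with
  | zero => rw [pow_zero, code_one']; rfl
  | succ n ih => rw [pow_succ', code_mul', ih]; rfl

theorem code_ev (l : List ℕ) : modelT.code (ev l) = evE l := by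
  induction l with
  | nil => exact code_one'
  | cons k ks ih =>
    show modelT.code (s ^ k * (t0 * ev ks)) = _
    rw [code_mul', code_mul', code_pow, code_s, code_t0, ih]
    rfl

theorem ev_mem_K (l : List ℕ) : ev l ∈ K := by
  induction l with
  | nil => exact Subgroup.one_mem _
  | cons k ks ih =>
    exact Subgroup.mul_mem _ (Subgroup.pow_mem _ s_mem_K k) (Subgroup.mul_mem _ t0_mem_K ih)

/-- the letters as elements of `3·J₃` -/
def letterT (c : ℕ) : ↥TJ := ⟨letter c, letter_mem c⟩

theorem code_letterT (c : ℕ) : modelT.code (letterT c) = lcode c := code_letter c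

theorem gen0_code : mulE (lcode 0) (mulE om2E (evE [5, 2, 16, 17, 10])) = evE [15, 7, 8, 3] := by
  decide +kernel
theorem gen1_code : mulE (lcode 1) (evE [0, 10, 4, 1]) = evE [5, 14, 4, 15] := by
  decide +kernel
theorem gen2_code : mulE (lcode 2) (evE [8, 1]) = evE [9, 7, 6, 8] := by
  decide +kernel

theorem letter0_mem_K : letterT 0 ∈ K := by
  have h : letterT 0 * (zT ^ 2 * ev [5, 2, 16, 17, 10]) = ev [15, 7, 8, 3] := by
    apply modelT.code_inj
    rw [code_mul', code_mul', code_letterT, code_zT2, code_ev, code_ev]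
    exact gen0_code
  have h2 : letterT 0 = ev [15, 7, 8, 3] * (zT ^ 2 * ev [5, 2, 16, 17, 10])⁻¹ := by
    rw [← h, mul_inv_cancel_right]
  rw [h2]
  exact Subgroup.mul_mem _ (ev_mem_K _) (Subgroup.inv_mem _
    (Subgroup.mul_mem _ (Subgroup.pow_mem _ zT_mem_K 2) (ev_mem_K _)))

theorem letter1_mem_K : letterT 1 ∈ K := by
  have h : letterT 1 * ev [0, 10, 4, 1] = ev [5, 14, 4, 15] := by
    apply modelT.code_inj
    rw [code_mul', code_letterT, code_ev, code_ev]
    exact gen1_code
  have h2 : letterT 1 = ev [5, 14, 4, 15] * (ev [0, 10, 4, 1])⁻¹ := by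
    rw [← h, mul_inv_cancel_right]
  rw [h2]
  exact Subgroup.mul_mem _ (ev_mem_K _) (Subgroup.inv_mem _ (ev_mem_K _))

theorem letter2_mem_K : letterT 2 ∈ K := by
  have h : letterT 2 * ev [8, 1] = ev [9, 7, 6, 8] := by
    apply modelT.code_inj
    rw [code_mul', code_letterT, code_ev, code_ev]
    exact gen2_code
  have h2 : letterT 2 = ev [9, 7, 6, 8] * (ev [8, 1])⁻¹ := by
    rw [← h, mul_inv_cancel_right]
  rw [h2]
  exact Subgroup.mul_mem _ (ev_mem_K _) (Subgroup.inv_mem _ (ev_mem_K _))

theorem letter_mem_K (c : ℕ) : letterT c ∈ K := by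
  by_cases h0 : c = 0
  · subst h0; exact letter0_mem_K
  · by_cases h1 : c = 1
    · subst h1; exact letter1_mem_K
    · by_cases h2 : c = 2
      · subst h2; exact letter2_mem_K
      · by_cases h3 : c = 3
        · subst h3
          have : letterT 3 = (letterT 0)⁻¹ := Subtype.ext (by
            show letter 3 = (letter 0)⁻¹
            unfold letter
            simp)
          rw [this]
          exact Subgroup.inv_mem _ letter0_mem_K
        · have : letterT c = (letterT 1)⁻¹ := Subtype.ext (by
            show letter c = (letter 1)⁻¹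
            unfold letter
            rw [if_neg h0, if_neg h1, if_neg h2, if_neg h3]
            simp)
          rw [this]
          exact Subgroup.inv_mem _ letter1_mem_K

theorem wpT_cons (c : ℕ) (cs : List ℕ) : wpT (c :: cs) = letterT c * wpT cs :=
  Subtype.ext (wp_cons c cs)

theorem wpT_mem_K (l : List ℕ) : wpT l ∈ K := by
  induction l with
  | nil =>
    have : wpT [] = 1 := Subtype.ext (by show wp [] = 1; simp [wp])
    rw [this]
    exact Subgroup.one_mem _
  | cons c cs ih =>
    rw [wpT_cons]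
    exact Subgroup.mul_mem _ (letter_mem_K c) ih

theorem wp_mem_map (l : List ℕ) : wp l ∈ K.map (TJ.subtype) :=
  ⟨wpT l, wpT_mem_K l, rfl⟩

theorem K_eq_top : K = ⊤ := by
  rw [eq_top_iff]
  intro x _
  have hx : (x : GG) ∈ HJ := by rw [← TJ_eq_HJ]; exact x.2
  have hle : HJ ≤ K.map (TJ.subtype) := by
    unfold HJ DCData.HH
    rw [Subgroup.closure_le]
    rintro g (hg | hg)
    · revert g
      show DCData.MM DD gs ≤ K.map (TJ.subtype)
      unfold DCData.MM
      rw [Subgroup.closure_le]
      rintro g ⟨k, _, rfl⟩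
      unfold gs
      split_ifs
      · exact wp_mem_map _
      · exact wp_mem_map _
    · rw [Set.mem_singleton_iff] at hg
      rw [hg]
      exact wp_mem_map _
  obtain ⟨y, hy, hyx⟩ := hle hx
  have : y = x := Subtype.ext hyx
  rw [← this]
  exact hy

end Cfsg.Agent.Lib.H3.J3.Out
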