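import Mathlib
import Cfsg.Agent.Lib.H3.J3OutGen2
import Cfsg.Agent.Lib.H3.J3OutChkA0
import Cfsg.Agent.Lib.H3.J3OutChkA1
import Cfsg.Agent.Lib.H3.J3OutChkA2
import Cfsg.Agent.Lib.H3.J3OutChkA3
import Cfsg.Agent.Lib.H3.J3OutChkA4
import Cfsg.Agent.Lib.H3.J3OutChkA5
import Cfsg.Agent.Lib.H3.J3OutChkA6
import Cfsg.Agent.Lib.H3.J3OutChkA7
import Cfsg.Agent.Lib.H3.J3OutChkB0
import Cfsg.Agent.Lib.H3.J3OutChkB1

set_option autoImplicit false
set_option maxRecDepth 1000000

/-! # All involutions of `3·J₃` are listed; the relations pin down the conjugates of `t₀` -/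

namespace Cfsg.Agent.Lib.H3.J3.Out

open Cfsg.Agent.Lib.H3.DC Cfsg.Agent.Lib.H3.F4 Cfsg.Agent.Lib.H3.J3 Cfsg.Agent.Lib.H3.J3.Cent

/-- the conjugates of the `i`-th involution under `s` and `t₀` are listed -/
def conjOK (i : ℕ) : Prop :=
  ∃ a b, a < nInv ∧ b < nInv ∧ mulE (mulE sE (elt i)) siE = elt a ∧
    mulE (mulE t0E (elt i)) t0E = elt b

theorem conjOK_of_chunk (off cnt : ℕ) (h : chkConj off cnt = true) (i : ℕ) (h1 : off ≤ i)
    (h2 : i < off + cnt) : conjOK i := by
  obtain ⟨j, rfl⟩ : ∃ j, i = j + off := ⟨i - off, (Nat.sub_add_cancel h1).symm⟩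
  unfold chkConj at h
  rw [allLt_iff] at h
  have hj := h j (by omega)
  simp only [force_eq, forceL_eq, mulE2_eq, Bool.and_eq_true, Nat.add_eq] at hj
  obtain ⟨⟨⟨ha, hb⟩, hs⟩, ht⟩ := hj
  exact ⟨_, _, lt_of_blt ha, lt_of_blt hb, eq_of_beqL _ _ hs, eq_of_beqL _ _ ht⟩

theorem relOK_of_chunk (off cnt : ℕ) (h : chkRel off cnt = true) (i : ℕ) (h1 : off ≤ i)
    (h2 : i < off + cnt) : relOK (elt i) = true := by
  obtain ⟨j, rfl⟩ : ∃ j, i = j + off := ⟨i - off, (Nat.sub_add_cancel h1).symm⟩
  unfold chkRel at h
  rw [allLt_iff] at h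
  have hj := h j (by omega)
  simp only [force_eq, forceL_eq, Nat.add_eq] at hj
  exact hj

theorem conjOK_all (i : ℕ) (hi : i < nInv) : conjOK i := by
  have hi' : i < 26163 := hi
  by_cases h0 : i < 328
  · exact conjOK_of_chunk 0 328 chkConj_0 i (by omega) (by omega)
  by_cases h1 : i < 656
  · exact conjOK_of_chunk 328 328 chkConj_1 i (by omega) (by omega)
  by_cases h2 : i < 984
  · exact conjOK_of_chunk 656 328 chkConj_2 i (by omega) (by omega)
  by_cases h3 : i < 1312
  · exact conjOK_of_chunk 984 328 chkConj_3 i (by omega) (by omega)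
  by_cases h4 : i < 1640
  · exact conjOK_of_chunk 1312 328 chkConj_4 i (by omega) (by omega)
  by_cases h5 : i < 1968
  · exact conjOK_of_chunk 1640 328 chkConj_5 i (by omega) (by omega)
  by_cases h6 : i < 2296
  · exact conjOK_of_chunk 1968 328 chkConj_6 i (by omega) (by omega)
  by_cases h7 : i < 2624
  · exact conjOK_of_chunk 2296 328 chkConj_7 i (by omega) (by omega)
  by_cases h8 : i < 2952
  · exact conjOK_of_chunk 2624 328 chkConj_8 i (by omega) (by omega)
  by_cases h9 : i < 3280
  · exact conjOK_of_chunk 2952 328 chkConj_9 i (by omega) (by omega)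
  by_cases h10 : i < 3608
  · exact conjOK_of_chunk 3280 328 chkConj_10 i (by omega) (by omega)
  by_cases h11 : i < 3936
  · exact conjOK_of_chunk 3608 328 chkConj_11 i (by omega) (by omega)
  by_cases h12 : i < 4264
  · exact conjOK_of_chunk 3936 328 chkConj_12 i (by omega) (by omega)
  by_cases h13 : i < 4592
  · exact conjOK_of_chunk 4264 328 chkConj_13 i (by omega) (by omega)
  by_cases h14 : i < 4920
  · exact conjOK_of_chunk 4592 328 chkConj_14 i (by omega) (by omega)
  by_cases h15 : i < 5248
  · exact conjOK_of_chunk 4920 328 chkConj_15 i (by omega) (by omega)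
  by_cases h16 : i < 5576
  · exact conjOK_of_chunk 5248 328 chkConj_16 i (by omega) (by omega)
  by_cases h17 : i < 5904
  · exact conjOK_of_chunk 5576 328 chkConj_17 i (by omega) (by omega)
  by_cases h18 : i < 6232
  · exact conjOK_of_chunk 5904 328 chkConj_18 i (by omega) (by omega)
  by_cases h19 : i < 6560
  · exact conjOK_of_chunk 6232 328 chkConj_19 i (by omega) (by omega)
  by_cases h20 : i < 6888
  · exact conjOK_of_chunk 6560 328 chkConj_20 i (by omega) (by omega)
  by_cases h21 : i < 7216
  · exact conjOK_of_chunk 6888 328 chkConj_21 i (by omega) (by omega)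
  by_cases h22 : i < 7544
  · exact conjOK_of_chunk 7216 328 chkConj_22 i (by omega) (by omega)
  by_cases h23 : i < 7872
  · exact conjOK_of_chunk 7544 328 chkConj_23 i (by omega) (by omega)
  by_cases h24 : i < 8200
  · exact conjOK_of_chunk 7872 328 chkConj_24 i (by omega) (by omega)
  by_cases h25 : i < 8528
  · exact conjOK_of_chunk 8200 328 chkConj_25 i (by omega) (by omega)
  by_cases h26 : i < 8856
  · exact conjOK_of_chunk 8528 328 chkConj_26 i (by omega) (by omega)
  by_cases h27 : i < 9184
  · exact conjOK_of_chunk 8856 328 chkConj_27 i (by omega) (by omega)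
  by_cases h28 : i < 9512
  · exact conjOK_of_chunk 9184 328 chkConj_28 i (by omega) (by omega)
  by_cases h29 : i < 9840
  · exact conjOK_of_chunk 9512 328 chkConj_29 i (by omega) (by omega)
  by_cases h30 : i < 10168
  · exact conjOK_of_chunk 9840 328 chkConj_30 i (by omega) (by omega)
  by_cases h31 : i < 10496
  · exact conjOK_of_chunk 10168 328 chkConj_31 i (by omega) (by omega)
  by_cases h32 : i < 10824
  · exact conjOK_of_chunk 10496 328 chkConj_32 i (by omega) (by omega)
  by_cases h33 : i < 11152
  · exact conjOK_of_chunk 10824 328 chkConj_33 i (by omega) (by omega)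
  by_cases h34 : i < 11480
  · exact conjOK_of_chunk 11152 328 chkConj_34 i (by omega) (by omega)
  by_cases h35 : i < 11808
  · exact conjOK_of_chunk 11480 328 chkConj_35 i (by omega) (by omega)
  by_cases h36 : i < 12136
  · exact conjOK_of_chunk 11808 328 chkConj_36 i (by omega) (by omega)
  by_cases h37 : i < 12464
  · exact conjOK_of_chunk 12136 328 chkConj_37 i (by omega) (by omega)
  by_cases h38 : i < 12792
  · exact conjOK_of_chunk 12464 328 chkConj_38 i (by omega) (by omega)
  by_cases h39 : i < 13120
  · exact conjOK_of_chunk 12792 328 chkConj_39 i (by omega) (by omega)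
  by_cases h40 : i < 13448
  · exact conjOK_of_chunk 13120 328 chkConj_40 i (by omega) (by omega)
  by_cases h41 : i < 13776
  · exact conjOK_of_chunk 13448 328 chkConj_41 i (by omega) (by omega)
  by_cases h42 : i < 14104
  · exact conjOK_of_chunk 13776 328 chkConj_42 i (by omega) (by omega)
  by_cases h43 : i < 14432
  · exact conjOK_of_chunk 14104 328 chkConj_43 i (by omega) (by omega)
  by_cases h44 : i < 14760
  · exact conjOK_of_chunk 14432 328 chkConj_44 i (by omega) (by omega)
  by_cases h45 : i < 15088
  · exact conjOK_of_chunk 14760 328 chkConj_45 i (by omega) (by omega)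
  by_cases h46 : i < 15416
  · exact conjOK_of_chunk 15088 328 chkConj_46 i (by omega) (by omega)
  by_cases h47 : i < 15744
  · exact conjOK_of_chunk 15416 328 chkConj_47 i (by omega) (by omega)
  by_cases h48 : i < 16072
  · exact conjOK_of_chunk 15744 328 chkConj_48 i (by omega) (by omega)
  by_cases h49 : i < 16400
  · exact conjOK_of_chunk 16072 328 chkConj_49 i (by omega) (by omega)
  by_cases h50 : i < 16728
  · exact conjOK_of_chunk 16400 328 chkConj_50 i (by omega) (by omega)
  by_cases h51 : i < 17056
  · exact conjOK_of_chunk 16728 328 chkConj_51 i (by omega) (by omega)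
  by_cases h52 : i < 17384
  · exact conjOK_of_chunk 17056 328 chkConj_52 i (by omega) (by omega)
  by_cases h53 : i < 17712
  · exact conjOK_of_chunk 17384 328 chkConj_53 i (by omega) (by omega)
  by_cases h54 : i < 18040
  · exact conjOK_of_chunk 17712 328 chkConj_54 i (by omega) (by omega)
  by_cases h55 : i < 18368
  · exact conjOK_of_chunk 18040 328 chkConj_55 i (by omega) (by omega)
  by_cases h56 : i < 18696
  · exact conjOK_of_chunk 18368 328 chkConj_56 i (by omega) (by omega)
  by_cases h57 : i < 19024
  · exact conjOK_of_chunk 18696 328 chkConj_57 i (by omega) (by omega)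
  by_cases h58 : i < 19352
  · exact conjOK_of_chunk 19024 328 chkConj_58 i (by omega) (by omega)
  by_cases h59 : i < 19680
  · exact conjOK_of_chunk 19352 328 chkConj_59 i (by omega) (by omega)
  by_cases h60 : i < 20008
  · exact conjOK_of_chunk 19680 328 chkConj_60 i (by omega) (by omega)
  by_cases h61 : i < 20336
  · exact conjOK_of_chunk 20008 328 chkConj_61 i (by omega) (by omega)
  by_cases h62 : i < 20664
  · exact conjOK_of_chunk 20336 328 chkConj_62 i (by omega) (by omega)
  by_cases h63 : i < 20992
  · exact conjOK_of_chunk 20664 328 chkConj_63 i (by omega) (by omega)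
  by_cases h64 : i < 21320
  · exact conjOK_of_chunk 20992 328 chkConj_64 i (by omega) (by omega)
  by_cases h65 : i < 21648
  · exact conjOK_of_chunk 21320 328 chkConj_65 i (by omega) (by omega)
  by_cases h66 : i < 21976
  · exact conjOK_of_chunk 21648 328 chkConj_66 i (by omega) (by omega)
  by_cases h67 : i < 22304
  · exact conjOK_of_chunk 21976 328 chkConj_67 i (by omega) (by omega)
  by_cases h68 : i < 22632
  · exact conjOK_of_chunk 22304 328 chkConj_68 i (by omega) (by omega)
  by_cases h69 : i < 22960
  · exact conjOK_of_chunk 22632 328 chkConj_69 i (by omega) (by omega)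
  by_cases h70 : i < 23288
  · exact conjOK_of_chunk 22960 328 chkConj_70 i (by omega) (by omega)
  by_cases h71 : i < 23616
  · exact conjOK_of_chunk 23288 328 chkConj_71 i (by omega) (by omega)
  by_cases h72 : i < 23944
  · exact conjOK_of_chunk 23616 328 chkConj_72 i (by omega) (by omega)
  by_cases h73 : i < 24272
  · exact conjOK_of_chunk 23944 328 chkConj_73 i (by omega) (by omega)
  by_cases h74 : i < 24600
  · exact conjOK_of_chunk 24272 328 chkConj_74 i (by omega) (by omega)
  by_cases h75 : i < 24928
  · exact conjOK_of_chunk 24600 328 chkConj_75 i (by omega) (by omega)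
  by_cases h76 : i < 25256
  · exact conjOK_of_chunk 24928 328 chkConj_76 i (by omega) (by omega)
  by_cases h77 : i < 25584
  · exact conjOK_of_chunk 25256 328 chkConj_77 i (by omega) (by omega)
  by_cases h78 : i < 25912
  · exact conjOK_of_chunk 25584 328 chkConj_78 i (by omega) (by omega)
  exact conjOK_of_chunk 25912 251 chkConj_79 i (by omega) (by omega)

theorem relOK_all (i : ℕ) (hi : i < nInv) : relOK (elt i) = true := by
  have hi' : i < 26163 := hi
  by_cases h0 : i < 1636
  · exact relOK_of_chunk 0 1636 chkRel_0 i (by omega) (by omega)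
  by_cases h1 : i < 3272
  · exact relOK_of_chunk 1636 1636 chkRel_1 i (by omega) (by omega)
  by_cases h2 : i < 4908
  · exact relOK_of_chunk 3272 1636 chkRel_2 i (by omega) (by omega)
  by_cases h3 : i < 6544
  · exact relOK_of_chunk 4908 1636 chkRel_3 i (by omega) (by omega)
  by_cases h4 : i < 8180
  · exact relOK_of_chunk 6544 1636 chkRel_4 i (by omega) (by omega)
  by_cases h5 : i < 9816
  · exact relOK_of_chunk 8180 1636 chkRel_5 i (by omega) (by omega)
  by_cases h6 : i < 11452
  · exact relOK_of_chunk 9816 1636 chkRel_6 i (by omega) (by omega)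
  by_cases h7 : i < 13088
  · exact relOK_of_chunk 11452 1636 chkRel_7 i (by omega) (by omega)
  by_cases h8 : i < 14724
  · exact relOK_of_chunk 13088 1636 chkRel_8 i (by omega) (by omega)
  by_cases h9 : i < 16360
  · exact relOK_of_chunk 14724 1636 chkRel_9 i (by omega) (by omega)
  by_cases h10 : i < 17996
  · exact relOK_of_chunk 16360 1636 chkRel_10 i (by omega) (by omega)
  by_cases h11 : i < 19632
  · exact relOK_of_chunk 17996 1636 chkRel_11 i (by omega) (by omega)
  by_cases h12 : i < 21268
  · exact relOK_of_chunk 19632 1636 chkRel_12 i (by omega) (by omega)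
  by_cases h13 : i < 22904
  · exact relOK_of_chunk 21268 1636 chkRel_13 i (by omega) (by omega)
  by_cases h14 : i < 24540
  · exact relOK_of_chunk 22904 1636 chkRel_14 i (by omega) (by omega)
  exact relOK_of_chunk 24540 1623 chkRel_15 i (by omega) (by omega)

end Cfsg.Agent.Lib.H3.J3.Out
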