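import Mathlib
import Cfsg.Agent.Lib.H3.J3OutRel

set_option autoImplicit false
set_option maxRecDepth 1000000

/-! # The involutions of `3·J₃` satisfying the relations of `t₀` with `s` -/

namespace Cfsg.Agent.Lib.H3.J3.Out

open Cfsg.Agent.Lib.H3.DC Cfsg.Agent.Lib.H3.F4 Cfsg.Agent.Lib.H3.J3 Cfsg.Agent.Lib.H3.J3.Cent

/-! ### The words of the relations -/

section words

variable {G : Type*} [Group G]

/-- `(y S)³` -/
def r1w (y S : G) : G := (y * S * (y * S)) * (y * S)

/-- `(y b)(y b²)` with `b = y S` -/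
def wW (y S : G) : G := (y * (y * S)) * (y * ((y * S) * (y * S)))

/-- the sixth power of `wW` -/
def w6w (y S : G) : G := ((wW y S * wW y S) * wW y S) * ((wW y S * wW y S) * wW y S)

theorem map_r1w {H : Type*} [Group H] (f : G →* H) (y S : G) : f (r1w y S) = r1w (f y) (f S) := by
  simp only [r1w, map_mul]

theorem map_w6w {H : Type*} [Group H] (f : G →* H) (y S : G) : f (w6w y S) = w6w (f y) (f S) := by
  simp only [w6w, wW, map_mul]

/-- for an involution `y`, `(y S⁻¹)³ = 1` implies `(y S)³ = 1` -/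
theorem r1w_inv (y S : G) (hy : y * y = 1) (h : r1w y S⁻¹ = 1) : r1w y S = 1 := by
  have hyi : y⁻¹ = y := inv_eq_of_mul_eq_one_left hy
  have e : r1w y S = y * (r1w y S⁻¹)⁻¹ * y⁻¹ := by
    simp only [r1w, mul_inv_rev, inv_inv, hyi]
    group
    rw [mul_assoc (y * S * y * S * y * S) y y, hy, mul_one]
  rw [e, h, inv_one, mul_one, mul_inv_cancel]

end words

/-! ### The list is closed under conjugation -/

/-- the listed elements -/
def Lset : Set ↥TJ := {x | ∃ i < nInv, modelT.code x = elt i}

theorem elt_zero : elt 0 = zE := by decide +kernel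

theorem z_mem_Lset : z ∈ Lset := ⟨0, by decide, by rw [code_z, elt_zero]⟩

theorem conj_s_mem (x : ↥TJ) (hx : x ∈ Lset) : s * x * s⁻¹ ∈ Lset := by
  obtain ⟨i, hi, hc⟩ := hx
  obtain ⟨a, _, ha, _, h1, _⟩ := conjOK_all i hi
  exact ⟨a, ha, by rw [code_mul', code_mul', code_s, code_sinv, hc, h1]⟩

theorem conj_t0_mem (x : ↥TJ) (hx : x ∈ Lset) : t0 * x * t0⁻¹ ∈ Lset := by
  obtain ⟨i, hi, hc⟩ := hx
  obtain ⟨_, b, _, hb, _, h2⟩ := conjOK_all i hi
  exact ⟨b, hb, by rw [t0_inv, code_mul', code_mul', code_t0, hc, h2]⟩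

theorem conj_zT_mem (x : ↥TJ) (hx : x ∈ Lset) : zT * x * zT⁻¹ ∈ Lset := by
  have h : zT * x = x * zT := (Subgroup.mem_center_iff.mp zT_mem_center x).symm
  rw [h, mul_inv_cancel_right]
  exact hx

theorem conj_mem (g x : ↥TJ) (hx : x ∈ Lset) : g * x * g⁻¹ ∈ Lset := by
  have hg : g ∈ K := by rw [K_eq_top]; exact Subgroup.mem_top g
  have key := closure_subset_of_mul_mem (S := ({s, t0, zT} : Set ↥TJ))
    (L := {g : ↥TJ | ∀ x ∈ Lset, g * x * g⁻¹ ∈ Lset})
    (fun a _ => isOfFinOrder_of_finite a)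
    (by
      intro x hx
      rw [one_mul, inv_one, mul_one]
      exact hx)
    (by
      intro a ha h hh x hx
      have e : a * h * x * (a * h)⁻¹ = a * (h * x * h⁻¹) * a⁻¹ := by group
      rw [e]
      have hh' := hh x hx
      rcases ha with rfl | rfl | rfl
      · exact conj_s_mem _ hh'
      · exact conj_t0_mem _ hh'
      · exact conj_zT_mem _ hh')
  exact key g hg x hx

/-- every involution is listed -/
theorem involution_mem (y : ↥TJ) (hy : orderOf y = 2) : y ∈ Lset := by
  obtain ⟨c, hc⟩ := isConj_iff.mp (isConj_z y hy)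
  rw [← hc]
  exact conj_mem c z z_mem_Lset

/-! ### Specification of the check functions -/

theorem rel2_eq (y S : ↥TJ) :
    rel2 (modelT.code y) (modelT.code S) = isZ (modelT.code (w6w y S)) := by
  simp only [rel2, pow6, forceL_eq, mulE2_eq, w6w, wW, code_mul']

theorem xorSel_zero (cs : List ℕ) (acc : ℕ) : xorSel cs 0 acc = acc := by
  induction cs generalizing acc with
  | nil => rfl
  | cons c cs ih =>
    rw [xorSel]
    simp only [force_eq]
    show cond (Nat.beq (Nat.land 0 1) 1) _ _ = acc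
    have : Nat.land 0 1 = 0 := by decide
    rw [this]
    show xorSel cs (Nat.shiftRight 0 1) acc = acc
    have : Nat.shiftRight 0 1 = 0 := by decide
    rw [this, ih]

theorem actE_zero (A : List ℕ) : actE A 0 = 0 := xorSel_zero A 0

theorem headD_mulE (A B : List ℕ) : (mulE A B).headD 0 = actE A (B.headD 0) := by
  unfold mulE
  rw [mapF_eq]
  cases B with
  | nil => simp [actE_zero]
  | cons b bs => simp

theorem vt_eq (y : ↥TJ) :
    vt (modelT.code y) = (modelT.code (y * (s * (y * (s * (y * (s * 1))))))).headD 0 := by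
  simp only [code_mul', code_one', code_s, headD_mulE, vt, actE2_eq]
  rfl

theorem rel1_of_center (y : ↥TJ) (h : r1w y s ∈ Subgroup.center ↥TJ) :
    rel1 (modelT.code y) = true := by
  have hz : isZ (modelT.code (r1w y s)) = true := isZ_of_mem_center _ h
  have e : y * (s * (y * (s * (y * (s * 1))))) = r1w y s := by
    simp only [r1w]
    group
  have hv : vt (modelT.code y) = (modelT.code (r1w y s)).headD 0 := by rw [vt_eq, e]
  have hb : mulE (mulE (mulE (modelT.code y) sE) (mulE (modelT.code y) sE))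
      (mulE (modelT.code y) sE) = modelT.code (r1w y s) := by
    simp only [r1w, code_mul', code_s]
  unfold rel1
  simp only [force_eq, forceL_eq, mulE2_eq]
  rw [hv, hb, hz]
  rcases code_cases _ h with h' | h' | h'
  · rw [h']; rfl
  · rw [h']; rfl
  · rw [h']; rfl

theorem mem_of_memL (e : List ℕ) : ∀ l : List (List ℕ), memL e l = true → e ∈ l
  | [], h => by simp [memL] at h
  | c :: cs, h => by
    rw [memL] at h
    cases hb : beqL e c
    · rw [hb] at h
      exact List.mem_cons_of_mem _ (mem_of_memL e cs h)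
    · rw [eq_of_beqL _ _ hb]
      exact List.mem_cons_self

/-- the codes of the conjugates of `t₀` under `⟨s⟩` -/
def goodF : ℕ → List ℕ
  | 0 => t0E
  | j + 1 => mulE (mulE sE (goodF j)) siE

theorem code_conj (j : ℕ) : modelT.code (s ^ j * t0 * (s ^ j)⁻¹) = goodF j := by
  induction j with
  | zero => rw [pow_zero, one_mul, inv_one, mul_one, code_t0]; rfl
  | succ j ih =>
    have e : s ^ (j + 1) * t0 * (s ^ (j + 1))⁻¹ = s * (s ^ j * t0 * (s ^ j)⁻¹) * s⁻¹ := by
      rw [pow_succ']
      group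
    rw [e, code_mul', code_mul', code_s, code_sinv, ih]
    rfl

theorem goodL_eq : goodL = (List.range 19).map goodF := by decide +kernel

/-- an involution satisfying the relations is a conjugate of `t₀` under `⟨s⟩` -/
theorem pin_TJ (y : ↥TJ) (hy : orderOf y = 2) (h1 : r1w y s ∈ Subgroup.center ↥TJ)
    (h2 : w6w y s ∈ Subgroup.center ↥TJ ∨ w6w y s⁻¹ ∈ Subgroup.center ↥TJ) :
    ∃ j : ℕ, y = s ^ j * t0 * (s ^ j)⁻¹ := by
  obtain ⟨i, hi, hc⟩ := involution_mem y hy
  have hr := relOK_all i hi
  rw [← hc] at hr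
  unfold relOK at hr
  rw [rel1_of_center y h1, cond_true] at hr
  have h2' : (rel2 (modelT.code y) sE || rel2 (modelT.code y) siE) = true := by
    rw [Bool.or_eq_true]
    rcases h2 with h2 | h2
    · left
      rw [← code_s, rel2_eq]
      exact isZ_of_mem_center _ h2
    · right
      rw [← code_sinv, rel2_eq]
      exact isZ_of_mem_center _ h2
  rw [h2', cond_true] at hr
  have hm := mem_of_memL _ _ hr
  rw [goodL_eq, List.mem_map] at hm
  obtain ⟨j, _, hj⟩ := hm
  refine ⟨j, modelT.code_inj ?_⟩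
  rw [code_conj, hj]

end Cfsg.Agent.Lib.H3.J3.Out
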