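import Mathlib

set_option autoImplicit false

/-! # Outer automorphism group of order two from a rigid generating pair

`s` and `t` generate; elements of the order of `s` are conjugate to `s` or `s⁻¹`; every
automorphism mapping `s` to `s` or to `s⁻¹` maps `t` to a conjugate of `t` under `⟨s⟩`; and some
automorphism is not inner.  Then the inner automorphisms have index two. -/

namespace Cfsg.Agent.Lib.H3.OutTwo

variable {G : Type*} [Group G]

theorem conj_mul_apply (g : G) (ψ : MulAut G) (x : G) :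
    (MulAut.conj g * ψ) x = g * ψ x * g⁻¹ := by
  rw [MulAut.mul_apply, MulAut.conj_apply]

/-- after an inner adjustment an automorphism maps `s` to `s` or `s⁻¹`, and fixes `t` -/
theorem adjust (s t : G)
    (hA1 : ∀ x : G, orderOf x = orderOf s → ∃ k : G, k * x * k⁻¹ = s ∨ k * x * k⁻¹ = s⁻¹)
    (hpin1 : ∀ ψ : MulAut G, ψ s = s → ∃ i : ℕ, ψ t = s ^ i * t * (s ^ i)⁻¹)
    (hpin2 : ∀ ψ : MulAut G, ψ s = s⁻¹ → ∃ i : ℕ, ψ t = s ^ i * t * (s ^ i)⁻¹)
    (ψ : MulAut G) :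
    ∃ g : G, ((MulAut.conj g * ψ) s = s ∨ (MulAut.conj g * ψ) s = s⁻¹) ∧
      (MulAut.conj g * ψ) t = t := by
  obtain ⟨k, hk⟩ := hA1 (ψ s) (MulEquiv.orderOf_eq ψ s)
  rcases hk with hk | hk
  · have h1 : (MulAut.conj k * ψ) s = s := by rw [conj_mul_apply]; exact hk
    obtain ⟨i, hi⟩ := hpin1 _ h1
    refine ⟨(s ^ i)⁻¹ * k, Or.inl ?_, ?_⟩
    · rw [map_mul, mul_assoc, conj_mul_apply, h1, inv_inv]
      have : (s ^ i)⁻¹ * s * s ^ i = s := by
        rw [mul_assoc, ← pow_succ', pow_succ, ← mul_assoc, inv_mul_cancel, one_mul]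
      exact this
    · rw [map_mul, mul_assoc, conj_mul_apply, hi, inv_inv]
      group
  · have h1 : (MulAut.conj k * ψ) s = s⁻¹ := by rw [conj_mul_apply]; exact hk
    obtain ⟨i, hi⟩ := hpin2 _ h1
    refine ⟨(s ^ i)⁻¹ * k, Or.inr ?_, ?_⟩
    · rw [map_mul, mul_assoc, conj_mul_apply, h1, inv_inv]
      have : (s ^ i)⁻¹ * s⁻¹ * s ^ i = s⁻¹ := by
        have h2 : s⁻¹ * s ^ i = s ^ i * s⁻¹ := by
          have : Commute s⁻¹ (s ^ i) := (Commute.refl s).inv_left.pow_right i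
          exact this.eq
        rw [mul_assoc, h2, ← mul_assoc, inv_mul_cancel, one_mul]
      exact this
    · rw [map_mul, mul_assoc, conj_mul_apply, hi, inv_inv]
      group

theorem card_out_eq_two (s t : G)
    (hgen : ∀ ψ : MulAut G, ψ s = s → ψ t = t → ψ = 1)
    (hA1 : ∀ x : G, orderOf x = orderOf s → ∃ k : G, k * x * k⁻¹ = s ∨ k * x * k⁻¹ = s⁻¹)
    (hpin1 : ∀ ψ : MulAut G, ψ s = s → ∃ i : ℕ, ψ t = s ^ i * t * (s ^ i)⁻¹)
    (hpin2 : ∀ ψ : MulAut G, ψ s = s⁻¹ → ∃ i : ℕ, ψ t = s ^ i * t * (s ^ i)⁻¹)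
    (α : MulAut G) (hα : α ∉ (MulAut.conj : G →* MulAut G).range) :
    Nat.card (MulAut G ⧸ (MulAut.conj : G →* MulAut G).range) = 2 := by
  set I : Subgroup (MulAut G) := (MulAut.conj : G →* MulAut G).range with hI
  have hconj : ∀ g : G, MulAut.conj g ∈ I := fun g => ⟨g, rfl⟩
  -- an automorphism fixing `s` after adjustment is inner
  have key : ∀ ψ : MulAut G, ψ ∉ I →
      ∃ g : G, (MulAut.conj g * ψ) s = s⁻¹ ∧ (MulAut.conj g * ψ) t = t := by
    intro ψ hψ
    obtain ⟨g, hg1, hg2⟩ := adjust s t hA1 hpin1 hpin2 ψ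
    rcases hg1 with hg1 | hg1
    · exfalso
      apply hψ
      have h1 := hgen _ hg1 hg2
      have h2 : ψ = (MulAut.conj g)⁻¹ := by
        rw [eq_comm, inv_eq_iff_mul_eq_one]
        exact h1
      rw [h2]
      exact I.inv_mem (hconj g)
    · exact ⟨g, hg1, hg2⟩
  rw [← Subgroup.index_eq_card, Subgroup.index_eq_two_iff]
  refine ⟨α⁻¹, fun b => ?_⟩
  by_cases hb : b ∈ I
  · refine Or.inr ⟨hb, ?_⟩
    intro h
    apply hα
    have h1 : α⁻¹ ∈ I := by
      have := I.mul_mem (I.inv_mem hb) h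
      rwa [inv_mul_cancel_left] at this
    have := I.inv_mem h1
    rwa [inv_inv] at this
  · refine Or.inl ⟨?_, hb⟩
    obtain ⟨g, hg1, hg2⟩ := key b hb
    obtain ⟨g', hg1', hg2'⟩ := key α hα
    -- `(conj g' * α)⁻¹ * (conj g * b)` fixes `s` and `t`
    have h1 : ((MulAut.conj g' * α)⁻¹ * (MulAut.conj g * b)) s = s := by
      rw [MulAut.mul_apply, hg1, ← hg1', MulAut.inv_apply_self]
    have h2 : ((MulAut.conj g' * α)⁻¹ * (MulAut.conj g * b)) t = t := by
      rw [MulAut.mul_apply, hg2]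
      nth_rewrite 1 [← hg2']
      rw [MulAut.inv_apply_self]
    have h3 := hgen _ h1 h2
    have h4 : MulAut.conj g * b = MulAut.conj g' * α := by
      rw [inv_mul_eq_one] at h3
      exact h3.symm
    have h5 : b * α⁻¹ = (MulAut.conj g)⁻¹ * MulAut.conj g' := by
      have : b = (MulAut.conj g)⁻¹ * (MulAut.conj g' * α) := by
        rw [← h4, inv_mul_cancel_left]
      rw [this]
      group
    rw [h5]
    exact I.mul_mem (I.inv_mem (hconj g)) (hconj g')

end Cfsg.Agent.Lib.H3.OutTwo
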