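import Mathlib

set_option autoImplicit false

/-! # Auxiliary lemmas for outer automorphism groups

Conjugacy of elements of prime order `p` when `p ^ 2` does not divide the group order, and the
invariance of the order of the outer automorphism group (after helper27's `AutRigid`). -/

namespace Cfsg.Agent.Lib.H3.OutTwo

variable {G : Type*} [Group G]

/-- Two elements of prime order `p` of a finite group whose order is not divisible by `p ^ 2`: one is conjugate
to a power of the other. -/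
theorem conj_mem_zpowers_of_sylow [Finite G] {p : ℕ} (hp : p.Prime) (hcard : ¬ p ^ 2 ∣ Nat.card G)
    {x s : G} (hx : orderOf x = p) (hs : orderOf s = p) : ∃ g : G, g * x * g⁻¹ ∈ Subgroup.zpowers s := by
  haveI : Fact p.Prime := ⟨hp⟩
  have hPx : IsPGroup p (Subgroup.zpowers x) :=
    IsPGroup.of_card (n := 1) (by rw [Nat.card_zpowers, hx, pow_one])
  have hPs : IsPGroup p (Subgroup.zpowers s) :=
    IsPGroup.of_card (n := 1) (by rw [Nat.card_zpowers, hs, pow_one])
  obtain ⟨Qx, hQx⟩ := hPx.exists_le_sylow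
  obtain ⟨Qs, hQs⟩ := hPs.exists_le_sylow
  have hdvd : p ∣ Nat.card G := by rw [← hx]; exact orderOf_dvd_natCard x
  have hfac : (Nat.card G).factorization p = 1 := by
    have hpos : Nat.card G ≠ 0 := Nat.card_pos.ne'
    apply le_antisymm
    · by_contra hcon
      push Not at hcon
      exact hcard ((hp.pow_dvd_iff_le_factorization hpos).2 hcon)
    · exact (hp.dvd_iff_one_le_factorization hpos).1 hdvd
  have hcardQ : ∀ Q : Sylow p G, Nat.card Q = p := by
    intro Q
    rw [Sylow.card_eq_multiplicity, hfac, pow_one]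
  have hx' : Subgroup.zpowers x = Qx :=
    Subgroup.eq_of_le_of_card_ge hQx (by rw [hcardQ, Nat.card_zpowers, hx])
  have hs' : Subgroup.zpowers s = Qs :=
    Subgroup.eq_of_le_of_card_ge hQs (by rw [hcardQ, Nat.card_zpowers, hs])
  obtain ⟨g, hg⟩ := MulAction.exists_smul_eq G Qx Qs
  refine ⟨g, ?_⟩
  rw [hs', ← hg, Sylow.coe_subgroup_smul, Subgroup.mem_smul_pointwise_iff_exists]
  refine ⟨x, ?_, ?_⟩
  · rw [← hx']
    exact Subgroup.mem_zpowers x
  · rw [MulAut.smul_def, MulAut.conj_apply]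

/-- Conjugation by a power of `d`, where `d s d⁻¹ = s ^ a`. -/
theorem conj_pow_of_conj {s d : G} {a : ℕ} (hds : d * s * d⁻¹ = s ^ a) (m i : ℕ) :
    d ^ m * s ^ i * (d ^ m)⁻¹ = s ^ (i * a ^ m) := by
  induction m generalizing i with
  | zero => simp
  | succ m ih =>
    have h1 : d ^ (m + 1) * s ^ i * (d ^ (m + 1))⁻¹ = d * (d ^ m * s ^ i * (d ^ m)⁻¹) * d⁻¹ := by
      rw [pow_succ']
      group
    rw [h1, ih, ← conj_pow, hds, ← pow_mul]
    congr 1
    ring

/-- In a Frobenius-like situation, a nontrivial power of `s` is conjugate to `s` or to `s⁻¹`. -/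
theorem conj_pm_of_mem_zpowers {s d : G} {p a : ℕ} (hp : 1 < p) (hs : orderOf s = p)
    (hds : d * s * d⁻¹ = s ^ a)
    (hpow : ∀ i < p, i ≠ 0 → ∃ m, (i * a ^ m) % p = 1 ∨ (i * a ^ m) % p = p - 1)
    {y : G} (hy : y ∈ Subgroup.zpowers s) (hy1 : y ≠ 1) :
    ∃ k : G, k * y * k⁻¹ = s ∨ k * y * k⁻¹ = s⁻¹ := by
  classical
  have hfo : IsOfFinOrder s := orderOf_pos_iff.1 (by rw [hs]; omega)
  rw [hfo.mem_zpowers_iff_mem_range_orderOf, hs, Finset.mem_image] at hy
  obtain ⟨i, hi, rfl⟩ := hy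
  rw [Finset.mem_range] at hi
  have hi0 : i ≠ 0 := by
    rintro rfl
    exact hy1 (pow_zero s)
  obtain ⟨m, hm⟩ := hpow i hi hi0
  refine ⟨d ^ m, ?_⟩
  rw [conj_pow_of_conj hds, ← pow_mod_orderOf, hs]
  rcases hm with hm | hm
  · left
    rw [hm, pow_one]
  · right
    rw [hm, eq_inv_iff_mul_eq_one, ← pow_succ, show p - 1 + 1 = p by omega, ← hs]
    exact pow_orderOf_eq_one s

/-- The conjugacy hypothesis of the rigidity theorems, from Sylow's theorem. -/
theorem conj_pm_of_sylow [Finite G] {s d : G} {p a : ℕ} (hp : p.Prime) (hcard : ¬ p ^ 2 ∣ Nat.card G)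
    (hs : orderOf s = p) (hds : d * s * d⁻¹ = s ^ a)
    (hpow : ∀ i < p, i ≠ 0 → ∃ m, (i * a ^ m) % p = 1 ∨ (i * a ^ m) % p = p - 1)
    (x : G) (hx : orderOf x = orderOf s) : ∃ k : G, k * x * k⁻¹ = s ∨ k * x * k⁻¹ = s⁻¹ := by
  rw [hs] at hx
  obtain ⟨g, hg⟩ := conj_mem_zpowers_of_sylow hp hcard hx hs
  have hne : g * x * g⁻¹ ≠ 1 := by
    intro h
    have h1 : x = 1 := by
      have h2 : g⁻¹ * (g * x * g⁻¹) * g = g⁻¹ * 1 * g := by rw [h]
      rw [show g⁻¹ * (g * x * g⁻¹) * g = x by group, show g⁻¹ * 1 * g = (1 : G) by group] at h2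
      exact h2
    rw [h1, orderOf_one] at hx
    exact hp.one_lt.ne hx
  obtain ⟨k, hk⟩ := conj_pm_of_mem_zpowers hp.one_lt hs hds hpow hg hne
  refine ⟨k * g, ?_⟩
  have e : k * g * x * (k * g)⁻¹ = k * (g * x * g⁻¹) * k⁻¹ := by group
  rw [e]
  exact hk

/-- The order of the outer automorphism group is invariant under isomorphism. -/
theorem card_out_congr {G H : Type*} [Group G] [Group H] (e : G ≃* H) :
    Nat.card (MulAut G ⧸ (MulAut.conj : G →* MulAut G).range) =
      Nat.card (MulAut H ⧸ (MulAut.conj : H →* MulAut H).range) := by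
  let E : MulAut G ≃* MulAut H := MulAut.congr e
  have hmap : ((MulAut.conj : G →* MulAut G).range).map E.toMonoidHom =
      (MulAut.conj : H →* MulAut H).range := by
    ext ψ
    constructor
    · rintro ⟨φ, ⟨g, rfl⟩, rfl⟩
      refine ⟨e g, ?_⟩
      ext x
      show _ = e (MulAut.conj g (e.symm x))
      rw [MulAut.conj_apply, MulAut.conj_apply, map_mul, map_mul, map_inv, MulEquiv.apply_symm_apply]
    · rintro ⟨h, rfl⟩
      refine ⟨MulAut.conj (e.symm h), ⟨_, rfl⟩, ?_⟩
      ext x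
      show e (MulAut.conj (e.symm h) (e.symm x)) = _
      rw [MulAut.conj_apply, MulAut.conj_apply, map_mul, map_mul, map_inv, MulEquiv.apply_symm_apply,
        MulEquiv.apply_symm_apply]
  rw [← Subgroup.index_eq_card, ← Subgroup.index_eq_card, ← hmap]
  exact (Subgroup.index_map_equiv _ E).symm

end Cfsg.Agent.Lib.H3.OutTwo
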