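import Mathlib
import Cfsg.Prelude.Def_KGroupFacts
import Cfsg.Agent.Lib.H3.J3OutPin
import Cfsg.Agent.Lib.H3.J3OutAut
import Cfsg.Agent.Lib.H3.OutTwo
import Cfsg.Agent.Lib.H3.OutTwoAux
import Cfsg.Agent.Lib.H3.J3TransportU
import Cfsg.Agent.Lib.H3.CenterIso

set_option autoImplicit false
set_option maxRecDepth 1000000

/-! # The outer automorphism group of `J₃` has order two -/

namespace Cfsg.Agent.Lib.H3.J3.Out

open Cfsg.Agent.Lib.H3.DC Cfsg.Agent.Lib.H3.F4 Cfsg.Agent.Lib.H3.J3 Cfsg.Agent.Lib.H3.J3.Cent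
open Cfsg.Agent.Lib.H3.OutTwo

/-- the concrete `J₃` -/
abbrev Gb : Type := ↥TJ ⧸ Subgroup.center ↥TJ

/-- the projection -/
abbrev pr : ↥TJ →* Gb := QuotientGroup.mk' (Subgroup.center ↥TJ)

theorem pr_eq_one_iff (x : ↥TJ) : pr x = 1 ↔ x ∈ Subgroup.center ↥TJ :=
  QuotientGroup.eq_one_iff x

theorem pr_surjective : Function.Surjective pr := QuotientGroup.mk'_surjective _

theorem pr_ker : ∀ c ∈ pr.ker, c ^ 3 = 1 := by
  intro c hc
  rw [QuotientGroup.ker_mk'] at hc
  exact pow_three_of_mem_center c hc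

/-- the images of the generators -/
def sb : Gb := pr s
def tb : Gb := pr t0
def db : Gb := pr d9

instance fact19 : Fact (Nat.Prime 19) := ⟨by norm_num⟩

theorem orderOf_sb : orderOf sb = 19 := by
  apply orderOf_eq_prime
  · show pr s ^ 19 = 1
    rw [← map_pow, s_pow, map_one]
  · intro h
    exact s_not_mem_center ((pr_eq_one_iff s).mp h)

theorem tb_mul_tb : tb * tb = 1 := by
  show pr t0 * pr t0 = 1
  rw [← map_mul, t0_mul_t0, map_one]

theorem orderOf_tb : orderOf tb = 2 := by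
  apply orderOf_eq_prime
  · rw [pow_two]; exact tb_mul_tb
  · intro h
    exact t0_not_mem_center ((pr_eq_one_iff t0).mp h)

theorem db_conj : db * sb * db⁻¹ = sb ^ 4 := by
  show pr d9 * pr s * (pr d9)⁻¹ = pr s ^ 4
  rw [← map_inv, ← map_mul, ← map_mul, d9_conj, map_pow]

theorem hpow19 : ∀ i < 19, i ≠ 0 → ∃ m, (i * 4 ^ m) % 19 = 1 ∨ (i * 4 ^ m) % 19 = 19 - 1 := by
  intro i hi h0
  interval_cases i
  · exact absurd rfl h0
  · exact ⟨0, by decide⟩
  · exact ⟨4, by decide⟩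
  · exact ⟨7, by decide⟩
  · exact ⟨8, by decide⟩
  · exact ⟨1, by decide⟩
  · exact ⟨2, by decide⟩
  · exact ⟨6, by decide⟩
  · exact ⟨3, by decide⟩
  · exact ⟨5, by decide⟩
  · exact ⟨5, by decide⟩
  · exact ⟨3, by decide⟩
  · exact ⟨6, by decide⟩
  · exact ⟨2, by decide⟩
  · exact ⟨1, by decide⟩
  · exact ⟨8, by decide⟩
  · exact ⟨7, by decide⟩
  · exact ⟨4, by decide⟩
  · exact ⟨0, by decide⟩

theorem hA1 (x : Gb) (hx : orderOf x = orderOf sb) :
    ∃ k : Gb, k * x * k⁻¹ = sb ∨ k * x * k⁻¹ = sb⁻¹ :=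
  conj_pm_of_sylow (p := 19) (a := 4) (by norm_num) (by rw [card_quot]; norm_num) orderOf_sb
    db_conj hpow19 x hx

theorem gen_top : Subgroup.closure ({sb, tb} : Set Gb) = ⊤ := by
  rw [eq_top_iff]
  rintro x -
  obtain ⟨y, rfl⟩ := pr_surjective x
  have hy : y ∈ K := by rw [K_eq_top]; exact Subgroup.mem_top y
  unfold K at hy
  induction hy using Subgroup.closure_induction with
  | mem g hg =>
    rcases hg with rfl | rfl | rfl
    · exact Subgroup.subset_closure (by left; rfl)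
    · exact Subgroup.subset_closure (by right; rfl)
    · have : pr zT = 1 := (pr_eq_one_iff zT).mpr zT_mem_center
      rw [this]
      exact Subgroup.one_mem _
  | one => rw [map_one]; exact Subgroup.one_mem _
  | mul a b _ _ ha hb => rw [map_mul]; exact Subgroup.mul_mem _ ha hb
  | inv a _ ha => rw [map_inv]; exact Subgroup.inv_mem _ ha

theorem hgen (ψ : MulAut Gb) (h1 : ψ sb = sb) (h2 : ψ tb = tb) : ψ = 1 := by
  have h : ψ.toMonoidHom = MonoidHom.id Gb := by
    apply MonoidHom.eq_of_eqOn_dense gen_top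
    intro x hx
    rcases hx with rfl | rfl
    · exact h1
    · exact h2
  ext x
  exact congrFun (congrArg DFunLike.coe h) x

theorem r1w_t0_mem : r1w t0 s ∈ Subgroup.center ↥TJ := by
  apply mem_center_of_isZ
  simp only [r1w, code_mul', code_t0, code_s]
  decide +kernel

theorem w6w_t0_mem : w6w t0 s ∈ Subgroup.center ↥TJ := by
  apply mem_center_of_isZ
  simp only [w6w, wW, code_mul', code_t0, code_s]
  decide +kernel

theorem r1w_tb : r1w tb sb = 1 := by
  show r1w (pr t0) (pr s) = 1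
  rw [← map_r1w, pr_eq_one_iff]
  exact r1w_t0_mem

theorem w6w_tb : w6w tb sb = 1 := by
  show w6w (pr t0) (pr s) = 1
  rw [← map_w6w, pr_eq_one_iff]
  exact w6w_t0_mem

theorem hpin (ψ : MulAut Gb) (h : ψ sb = sb ∨ ψ sb = sb⁻¹) :
    ∃ i : ℕ, ψ tb = sb ^ i * tb * (sb ^ i)⁻¹ := by
  have hyo : orderOf (ψ tb) = 2 := by rw [MulEquiv.orderOf_eq]; exact orderOf_tb
  obtain ⟨y, hy1, hy2⟩ := Cfsg.Agent.Lib.H3.CentGen.lift_involution pr pr_surjective pr_ker
    (ψ tb) hyo
  have hyy : ψ tb * ψ tb = 1 := by rw [← map_mul, tb_mul_tb, map_one]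
  have hr1 : r1w (ψ tb) (ψ sb) = 1 := by
    have := map_r1w ψ.toMonoidHom tb sb
    rw [r1w_tb, map_one] at this
    exact this.symm
  have hw6 : w6w (ψ tb) (ψ sb) = 1 := by
    have := map_w6w ψ.toMonoidHom tb sb
    rw [w6w_tb, map_one] at this
    exact this.symm
  have hfin : ∀ j : ℕ, y = s ^ j * t0 * (s ^ j)⁻¹ → ψ tb = sb ^ j * tb * (sb ^ j)⁻¹ := by
    intro j hj
    rw [← hy1, hj, map_mul, map_mul, map_inv, map_pow]
    rfl
  rcases h with h | h
  · rw [h] at hr1 hw6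
    have c1 : r1w y s ∈ Subgroup.center ↥TJ := by
      rw [← pr_eq_one_iff, map_r1w, hy1]
      exact hr1
    have c2 : w6w y s ∈ Subgroup.center ↥TJ := by
      rw [← pr_eq_one_iff, map_w6w, hy1]
      exact hw6
    obtain ⟨j, hj⟩ := pin_TJ y hy2 c1 (Or.inl c2)
    exact ⟨j, hfin j hj⟩
  · rw [h] at hr1 hw6
    have hr1' : r1w (ψ tb) sb = 1 := r1w_inv _ _ hyy hr1
    have c1 : r1w y s ∈ Subgroup.center ↥TJ := by
      rw [← pr_eq_one_iff, map_r1w, hy1]
      exact hr1'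
    have c2 : w6w y s⁻¹ ∈ Subgroup.center ↥TJ := by
      rw [← pr_eq_one_iff, map_w6w, hy1, map_inv]
      exact hw6
    obtain ⟨j, hj⟩ := pin_TJ y hy2 c1 (Or.inr c2)
    exact ⟨j, hfin j hj⟩

/-- the outer automorphism group of the concrete `J₃` has order two -/
theorem card_out_Gb :
    Nat.card (MulAut Gb ⧸ (MulAut.conj : Gb →* MulAut Gb).range) = 2 :=
  card_out_eq_two sb tb hgen hA1 (fun ψ h => hpin ψ (Or.inl h)) (fun ψ h => hpin ψ (Or.inr h))
    alphaQ alphaQ_not_inner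

/-- the statement for `J₃` over any field with four elements -/
theorem card_out_J3 {F : Type*} [Field F] [Fintype F] (hF : Fintype.card F = 4) (ω : F)
    (hω : ω ^ 2 + ω + 1 = 0) : Nat.card (Cfsg.Out (Cfsg.Spor.J3 F ω)) = 2 := by
  have e := Cfsg.Agent.Lib.H3.J3TU.equivConcrete F hF ω hω
  have eq := Cfsg.Agent.Lib.H3.CenterIso.quotCenterCongr e
  have h := card_out_congr eq
  rw [card_out_Gb] at h
  exact h.symm

end Cfsg.Agent.Lib.H3.J3.Out
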