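import Mathlib
import Cfsg.Prelude.Def_Classical
import Cfsg.Prelude.Def_Sporadic
import Cfsg.Agent.Lib.H3.J3Main3
import Cfsg.Agent.Lib.H3.CenterIso

set_option autoImplicit false
set_option maxRecDepth 100000

/-! # `3·J₃` inside `SU₉(2)` -/

namespace Cfsg.Agent.Lib.H3.J3

open Cfsg.Agent.Lib.H3.DC Cfsg.Agent.Lib.H3.F4 Cfsg.Spor Matrix

theorem card_units_F4 : Fintype.card F4ˣ = 3 := by
  rw [Fintype.card_units, F4.card_eq]

theorem unit_eq_one_of_pow19 (u : F4ˣ) (h : u ^ 19 = 1) : u = 1 := by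
  have h3 : u ^ 3 = 1 := by
    have := pow_card_eq_one (x := u)
    rwa [card_units_F4] at this
  have h18 : u ^ 18 = 1 := by rw [show 18 = 3 * 6 from rfl, pow_mul, h3, one_pow]
  have h19 : u ^ 19 = u ^ 18 * u := pow_succ u 18
  rw [h18, one_mul] at h19
  rw [← h19]; exact h

theorem det_eq_one (g : GG) (hg : g ∈ TJ) : (g : Matrix F9 F9 F4).det = 1 := by
  have hle : TJ ≤ (Matrix.GeneralLinearGroup.det : GG →* F4ˣ).ker := by
    rw [TJ_eq_closure19, Subgroup.closure_le]
    intro x hx
    rw [SetLike.mem_coe, MonoidHom.mem_ker]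
    apply unit_eq_one_of_pow19
    rw [← map_pow, T19_pow x hx, map_one]
  have := hle hg
  rw [MonoidHom.mem_ker] at this
  have h2 := congrArg Units.val this
  simpa using h2

/-- an enumeration of the index set -/
noncomputable def e9 : F9 ≃ Fin 9 := Fintype.equivFinOfCardEq (by decide)

/-- the reindexed matrix -/
noncomputable def toSL (g : TJ) : Matrix.SpecialLinearGroup (Fin 9) F4 :=
  ⟨((g : GG) : Matrix F9 F9 F4).submatrix e9.symm e9.symm, by
    rw [Matrix.det_submatrix_equiv_self, det_eq_one _ g.2]⟩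

theorem toSL_val (g : TJ) :
    (toSL g : Matrix (Fin 9) (Fin 9) F4) = ((g : GG) : Matrix F9 F9 F4).submatrix e9.symm e9.symm :=
  rfl

noncomputable def toSLHom : TJ →* Matrix.SpecialLinearGroup (Fin 9) F4 where
  toFun := toSL
  map_one' := by
    apply Subtype.ext
    rw [toSL_val]
    simp
  map_mul' := by
    intro a b
    apply Subtype.ext
    rw [Matrix.SpecialLinearGroup.coe_mul, toSL_val, toSL_val, toSL_val, Subgroup.coe_mul,
      Units.val_mul, Matrix.submatrix_mul_equiv]

theorem toSLHom_injective : Function.Injective toSLHom := by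
  intro a b h
  have h1 : (toSL a : Matrix (Fin 9) (Fin 9) F4) = toSL b := congrArg Subtype.val h
  rw [toSL_val, toSL_val] at h1
  apply Subtype.ext
  apply Units.ext
  ext i j
  have := congrFun (congrFun h1 (e9 i)) (e9 j)
  simpa [Matrix.submatrix_apply] using this

theorem hermForm_comp (x y : V) :
    Cfsg.hermForm 9 F4 2 (x ∘ e9.symm) (y ∘ e9.symm) = herm x y := by
  unfold Cfsg.hermForm herm
  exact Equiv.sum_comp e9.symm (fun p => x p * y p ^ 2)

theorem hermForm_eq (u v : Fin 9 → F4) :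
    Cfsg.hermForm 9 F4 2 u v = herm (u ∘ e9) (v ∘ e9) := by
  unfold Cfsg.hermForm herm
  exact (Equiv.sum_comp e9 (fun i => u i * v i ^ 2)).symm

theorem toSL_mem (g : TJ) : toSL g ∈ Cfsg.SU 9 F4 2 := by
  intro u v
  have hmat : (Cfsg.slToMat 9 F4 (toSL g)) =
      ((g : GG) : Matrix F9 F9 F4).submatrix e9.symm e9.symm := rfl
  rw [hmat, Matrix.submatrix_mulVec_equiv, Matrix.submatrix_mulVec_equiv, hermForm_comp,
    hermForm_eq u v]
  have hg : (g : GG) ∈ HJ := by rw [← TJ_eq_HJ]; exact g.2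
  exact HJ_le_Uni hg _ _

/-- the embedding into `SU₉(2)` -/
noncomputable def toSU : TJ →* Cfsg.SU 9 F4 2 := toSLHom.codRestrict _ toSL_mem

theorem toSU_injective : Function.Injective toSU := by
  intro a b h
  apply toSLHom_injective
  exact congrArg Subtype.val h

theorem exists_SU : ∃ H : Subgroup (Cfsg.SU 9 F4 2), Nat.card (Subgroup.center H) = 3 ∧
    Cfsg.IsJ3 (H ⧸ Subgroup.center H) := by
  refine ⟨toSU.range, ?_, ?_⟩
  · rw [← CenterIso.card_center_congr (MonoidHom.ofInjective toSU_injective), card_center]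
  · have e := CenterIso.quotCenterCongr (MonoidHom.ofInjective toSU_injective)
    haveI := simple_quot
    exact ⟨CenterIso.isSimpleGroup_congr e, by rw [← Nat.card_congr e.toEquiv, card_quot]⟩

end Cfsg.Agent.Lib.H3.J3
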