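import Cfsg.Agent.S0559
import Cfsg.Agent.Lib.H1.SylowBasic
import Cfsg.Agent.Lib.H1.IndexBasic
import Cfsg.Agent.Lib.H1.CoprimeSylow
import Mathlib

/-!
helper3 library (Kegel–Wielandt, part 1): factorizations `G = AB` by nilpotent subgroups of
coprime orders: basic closure properties.
-/

set_option autoImplicit false
open scoped Pointwise

namespace Cfsg.Agent.Lib.H3.KW

universe u
variable {G : Type u} [Group G]

/-- Nilpotency passes along injective homomorphisms. -/
theorem nilpotent_of_injective {H K : Type*} [Group H] [Group K] [Group.IsNilpotent K]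
    (f : H →* K) (hf : Function.Injective f) : Group.IsNilpotent H :=
  Group.nilpotent_of_mulEquiv (MonoidHom.ofInjective hf).symm

theorem nilpotent_of_le {A K : Subgroup G} (hA : Group.IsNilpotent A) (h : K ≤ A) :
    Group.IsNilpotent K :=
  nilpotent_of_injective (Subgroup.inclusion h) (Subgroup.inclusion_injective h)

/-- The natural injection `A.subgroupOf M →* A`. -/
def subgroupOfHom (A M : Subgroup G) : ↥(A.subgroupOf M) →* ↥A :=
  MonoidHom.codRestrict (M.subtype.comp (A.subgroupOf M).subtype) A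
    (fun x => Subgroup.mem_subgroupOf.mp x.2)

theorem subgroupOfHom_injective (A M : Subgroup G) : Function.Injective (subgroupOfHom A M) := by
  intro x y hxy
  have h1 : ((subgroupOfHom A M x : A) : G) = ((subgroupOfHom A M y : A) : G) := by rw [hxy]
  exact Subtype.ext (Subtype.ext h1)

theorem nilpotent_subgroupOf {A : Subgroup G} (hA : Group.IsNilpotent A) (M : Subgroup G) :
    Group.IsNilpotent (A.subgroupOf M) :=
  nilpotent_of_injective (subgroupOfHom A M) (subgroupOfHom_injective A M)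

theorem card_subgroupOf_dvd [Finite G] (A M : Subgroup G) :
    Nat.card (A.subgroupOf M) ∣ Nat.card A :=
  Subgroup.card_dvd_of_injective (subgroupOfHom A M) (subgroupOfHom_injective A M)

theorem card_subgroupOf_eq_inf (A M : Subgroup G) :
    Nat.card (A.subgroupOf M) = Nat.card (A ⊓ M : Subgroup G) := by
  rw [← Subgroup.inf_subgroupOf_right A M]
  exact Nat.card_congr (Subgroup.subgroupOfEquivOfLe inf_le_right).toEquiv

/-- `M` is factorized with respect to `A`, `B`: `M = (A ∩ M)(B ∩ M)`. -/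
def Factd (A B M : Subgroup G) : Prop :=
  ∀ m ∈ M, ∃ a ∈ A ⊓ M, ∃ b ∈ B ⊓ M, m = a * b

/-- A factorization of `G` as a product of two nilpotent subgroups of coprime orders. -/
structure WP (A B : Subgroup G) : Prop where
  nilA : Group.IsNilpotent A
  nilB : Group.IsNilpotent B
  cop : (Nat.card A).Coprime (Nat.card B)
  mul : ∀ g : G, ∃ a ∈ A, ∃ b ∈ B, g = a * b

namespace WP

variable {A B : Subgroup G}

theorem inf_eq_bot (w : WP A B) : A ⊓ B = ⊥ :=
  Subgroup.inf_eq_bot_of_coprime w.cop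

theorem disjoint (w : WP A B) : Disjoint A B :=
  disjoint_iff.mpr w.inf_eq_bot

theorem isComplement' (w : WP A B) : Subgroup.IsComplement' A B := by
  apply Subgroup.isComplement'_of_disjoint_and_mul_eq_univ w.disjoint
  rw [Set.eq_univ_iff_forall]
  intro g
  obtain ⟨a, ha, b, hb, rfl⟩ := w.mul g
  exact Set.mul_mem_mul ha hb

theorem card_mul (w : WP A B) : Nat.card A * Nat.card B = Nat.card G :=
  w.isComplement'.card_mul_card

theorem index_left [Finite G] (w : WP A B) : A.index = Nat.card B := by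
  have h1 := A.card_mul_index
  rw [← w.card_mul] at h1
  exact Nat.eq_of_mul_eq_mul_left Nat.card_pos h1

theorem index_right [Finite G] (w : WP A B) : B.index = Nat.card A := by
  have h1 := B.card_mul_index
  rw [← w.card_mul, mul_comm] at h1
  exact Nat.eq_of_mul_eq_mul_right Nat.card_pos h1

theorem unique (w : WP A B) {a a' b b' : G} (ha : a ∈ A) (ha' : a' ∈ A) (hb : b ∈ B)
    (hb' : b' ∈ B) (h : a * b = a' * b') : a = a' ∧ b = b' := by
  have h1 : a'⁻¹ * a = b' * b⁻¹ := by
    have : a = a' * b' * b⁻¹ := by rw [← h]; group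
    rw [this]; group
  have h2 : a'⁻¹ * a ∈ A ⊓ B := by
    refine ⟨A.mul_mem (A.inv_mem ha') ha, ?_⟩
    rw [h1]; exact B.mul_mem hb' (B.inv_mem hb)
  rw [w.inf_eq_bot, Subgroup.mem_bot] at h2
  have h3 : a = a' := by
    have := congrArg (fun t => a' * t) h2
    simpa using this
  refine ⟨h3, ?_⟩
  rw [h3] at h
  exact mul_left_cancel h

theorem symm (w : WP A B) : WP B A where
  nilA := w.nilB
  nilB := w.nilA
  cop := w.cop.symm
  mul := by
    intro g
    obtain ⟨a, ha, b, hb, h⟩ := w.mul g⁻¹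
    refine ⟨b⁻¹, B.inv_mem hb, a⁻¹, A.inv_mem ha, ?_⟩
    rw [← mul_inv_rev, ← h, inv_inv]

theorem card_conj_smul (x : G) (H : Subgroup G) :
    Nat.card (MulAut.conj x • H : Subgroup G) = Nat.card H :=
  (Nat.card_congr (Subgroup.equivSMul (MulAut.conj x) H).toEquiv).symm

theorem conj [Finite G] (w : WP A B) (x y : G) :
    WP (MulAut.conj x • A) (MulAut.conj y • B) where
  nilA := by
    haveI := w.nilA
    exact Group.nilpotent_of_mulEquiv (Subgroup.equivSMul (MulAut.conj x) A)
  nilB := by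
    haveI := w.nilB
    exact Group.nilpotent_of_mulEquiv (Subgroup.equivSMul (MulAut.conj y) B)
  cop := by
    rw [card_conj_smul, card_conj_smul]; exact w.cop
  mul := (Cfsg.Agent.S0559.result A B _ _ w.mul ⟨x, rfl⟩ ⟨y, rfl⟩).1

theorem exists_conj_eq [Finite G] (w : WP A B) (x y : G) :
    ∃ g : G, MulAut.conj x • A = MulAut.conj g • A ∧ MulAut.conj y • B = MulAut.conj g • B :=
  (Cfsg.Agent.S0559.result A B _ _ w.mul ⟨x, rfl⟩ ⟨y, rfl⟩).2

/-- A factorized subgroup inherits the factorization. -/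
theorem restrict [Finite G] (w : WP A B) {M : Subgroup G} (hM : Factd A B M) :
    WP (A.subgroupOf M) (B.subgroupOf M) where
  nilA := nilpotent_subgroupOf w.nilA M
  nilB := nilpotent_subgroupOf w.nilB M
  cop := Nat.Coprime.coprime_dvd_left (card_subgroupOf_dvd A M)
    (Nat.Coprime.coprime_dvd_right (card_subgroupOf_dvd B M) w.cop)
  mul := by
    intro g
    obtain ⟨a, ha, b, hb, h⟩ := hM g.1 g.2
    refine ⟨⟨a, ha.2⟩, Subgroup.mem_subgroupOf.mpr ha.1, ⟨b, hb.2⟩,
      Subgroup.mem_subgroupOf.mpr hb.1, Subtype.ext h⟩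

theorem factd_of_le_left (w : WP A B) {M : Subgroup G} (h : A ≤ M) : Factd A B M := by
  intro m hm
  obtain ⟨a, ha, b, hb, hab⟩ := w.mul m
  have hbM : b ∈ M := by
    have : b = a⁻¹ * m := by rw [hab]; group
    rw [this]; exact M.mul_mem (M.inv_mem (h ha)) hm
  exact ⟨a, ⟨ha, h ha⟩, b, ⟨hb, hbM⟩, hab⟩

theorem factd_of_le_right (w : WP A B) {M : Subgroup G} (h : B ≤ M) : Factd A B M := by
  intro m hm
  obtain ⟨a, ha, b, hb, hab⟩ := w.mul m
  have haM : a ∈ M := by
    have : a = m * b⁻¹ := by rw [hab]; group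
    rw [this]; exact M.mul_mem hm (M.inv_mem (h hb))
  exact ⟨a, ⟨ha, haM⟩, b, ⟨hb, h hb⟩, hab⟩

theorem factd_symm (w : WP A B) {M : Subgroup G} (h : Factd A B M) : Factd B A M := by
  intro m hm
  obtain ⟨a, ha, b, hb, hab⟩ := h m⁻¹ (M.inv_mem hm)
  refine ⟨b⁻¹, (B ⊓ M).inv_mem hb, a⁻¹, (A ⊓ M).inv_mem ha, ?_⟩
  rw [← mul_inv_rev, ← hab, inv_inv]

theorem factd_of_normal [Finite G] (w : WP A B) {N : Subgroup G} (hN : N.Normal) :
    Factd A B N := by
  haveI := hN
  have h1 : (A.subgroupOf N).index.Coprime (B.subgroupOf N).index := by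
    have ha : (A.subgroupOf N).index ∣ Nat.card B := by
      rw [← w.index_left]
      exact H1.relIndex_dvd_index_of_normal_right A N
    have hb : (B.subgroupOf N).index ∣ Nat.card A := by
      rw [← w.index_right]
      exact H1.relIndex_dvd_index_of_normal_right B N
    exact Nat.Coprime.coprime_dvd_left ha (Nat.Coprime.coprime_dvd_right hb w.cop.symm)
  intro m hm
  obtain ⟨x, hx, y, hy, hxy⟩ := H1.exists_mul_of_coprime_index h1 (⟨m, hm⟩ : N)
  refine ⟨x.1, ⟨Subgroup.mem_subgroupOf.mp hx, x.2⟩, y.1, ⟨Subgroup.mem_subgroupOf.mp hy, y.2⟩, ?_⟩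
  have := congrArg Subtype.val hxy
  simpa using this

theorem quot [Finite G] (w : WP A B) (N : Subgroup G) [N.Normal] :
    WP (A.map (QuotientGroup.mk' N)) (B.map (QuotientGroup.mk' N)) where
  nilA := by
    haveI := w.nilA
    exact Group.nilpotent_of_surjective ((QuotientGroup.mk' N).subgroupMap A)
      ((QuotientGroup.mk' N).subgroupMap_surjective A)
  nilB := by
    haveI := w.nilB
    exact Group.nilpotent_of_surjective ((QuotientGroup.mk' N).subgroupMap B)
      ((QuotientGroup.mk' N).subgroupMap_surjective B)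
  cop := Nat.Coprime.coprime_dvd_left (Subgroup.card_map_dvd _ _)
    (Nat.Coprime.coprime_dvd_right (Subgroup.card_map_dvd _ _) w.cop)
  mul := by
    intro g
    obtain ⟨g, rfl⟩ := QuotientGroup.mk'_surjective N g
    obtain ⟨a, ha, b, hb, rfl⟩ := w.mul g
    exact ⟨_, Subgroup.mem_map_of_mem _ ha, _, Subgroup.mem_map_of_mem _ hb, map_mul _ _ _⟩

end WP

end Cfsg.Agent.Lib.H3.KW
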