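import Cfsg.Agent.Lib.H3.KW10
import Cfsg.Agent.Lib.H3.PrimSolv
import Cfsg.Agent.Lib.H3.Wielandt
import Mathlib

/-!
helper3 library (Kegel–Wielandt, part 11): in a finite product `G = AB` of nilpotent subgroups,
not both equal to `G`, one of the factors lies in a proper normal subgroup.
-/

set_option autoImplicit false
open scoped Pointwise

namespace Cfsg.Agent.Lib.H3.KW

universe u

/-- In a finite nilpotent group, every proper subgroup lies in a proper normal subgroup. -/
theorem exists_normal_ne_top_of_nilpotent {G : Type u} [Group G] [Finite G]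
    (hG : Group.IsNilpotent G) {H : Subgroup G} (hH : H ≠ ⊤) :
    ∃ N : Subgroup G, N.Normal ∧ N ≠ ⊤ ∧ H ≤ N := by
  obtain ⟨M, hM, hHM⟩ := (eq_top_or_exists_le_coatom H).resolve_left hH
  exact ⟨M, ((Group.isNilpotent_of_finite_tfae (G := G)).out 0 2 rfl rfl).mp hG M hM, hM.1, hHM⟩

/-- In the "primitive" situation the group is nilpotent. -/
theorem nilpotent_of_forall_sup_eq_top {G : Type u} [Group G] [Finite G] {A B : Subgroup G}
    (w : NP A B)
    (hK : ∀ K : Subgroup G, K.Normal → K ≠ ⊥ → A ⊔ K = ⊤ ∧ B ⊔ K = ⊤) :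
    Group.IsNilpotent G := by
  by_contra hnil
  haveI hsolv : Group.IsSolvable G := solvable_of_np w
  have hAtop : A ≠ ⊤ := by
    intro h
    apply hnil
    haveI := w.nilA
    subst h
    exact Group.nilpotent_of_mulEquiv (Subgroup.topEquiv (G := G))
  have hBtop : B ≠ ⊤ := by
    intro h
    apply hnil
    haveI := w.nilB
    subst h
    exact Group.nilpotent_of_mulEquiv (Subgroup.topEquiv (G := G))
  have hnt : (⊤ : Subgroup G) ≠ ⊥ := by
    intro h
    apply hAtop
    rw [h]
    exact le_antisymm (by rw [← h]; exact le_top) bot_le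
  obtain ⟨M, ⟨hMn, hMne, hMmin⟩, -⟩ := exists_isMinNormal_le (⊤ : Subgroup G) inferInstance hnt
  haveI := hMn
  have hcomm := minNormal_comm_of_isSolvable M hMne hMmin
  obtain ⟨p, d, hp, hd, hcard, -⟩ := minNormal_exists_prime_pow M hMne hMmin hcomm
  haveI : Fact p.Prime := ⟨hp⟩
  -- `F ∩ M = 1` for `F = A, B`
  have hX : ∀ F : Subgroup G, F ⊔ M = ⊤ → F ≠ ⊤ → F ⊓ M = ⊥ := by
    intro F hFM hFtop
    have h1 : F ≤ Subgroup.normalizer ((F ⊓ M : Subgroup G) : Set G) := by
      refine le_trans ?_ Subgroup.inf_normalizer_le_normalizer_inf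
      refine le_inf Subgroup.le_normalizer ?_
      rw [Subgroup.normalizer_eq_top_iff.mpr hMn]; exact le_top
    have h2 : M ≤ Subgroup.normalizer ((F ⊓ M : Subgroup G) : Set G) := by
      refine le_trans ?_ (Subgroup.centralizer_le_normalizer _)
      intro m hm
      rw [Subgroup.mem_centralizer_iff]
      intro x hx
      exact hcomm x hx.2 m hm
    have h3 : (F ⊓ M).Normal := by
      rw [← Subgroup.normalizer_eq_top_iff, eq_top_iff, ← hFM]
      exact sup_le h1 h2
    rcases hMmin _ h3 inf_le_right with h | h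
    · exact h
    · exfalso
      apply hFtop
      rw [← hFM]
      exact (sup_eq_left.mpr (inf_eq_right.mp h)).symm
  obtain ⟨hAM, hBM⟩ := hK M hMn hMne
  have hAM0 := hX A hAM hAtop
  have hBM0 := hX B hBM hBtop
  have hidx : ∀ F : Subgroup G, F ⊔ M = ⊤ → F ⊓ M = ⊥ → F.index = p ^ d := by
    intro F hFM hFM0
    have e1 := H1.card_sup_mul_card_inf F M
    rw [hFM, Subgroup.card_top, inf_comm, hFM0, Subgroup.card_bot, mul_one, hcard] at e1
    have e2 := F.card_mul_index
    rw [e1] at e2
    exact Nat.eq_of_mul_eq_mul_left Nat.card_pos e2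
  have hAidx := hidx A hAM hAM0
  have hBidx := hidx B hBM hBM0
  -- no prime other than `p` divides `|G|`
  have hprime : ∀ r : ℕ, r.Prime → r ∣ Nat.card G → r = p := by
    intro r hr hrG
    by_contra hrp
    haveI : Fact r.Prime := ⟨hr⟩
    obtain ⟨P', Q', R', hR'⟩ := Cfsg.Agent.S0560.result A B w.mul r
    haveI := w.nilA
    haveI := w.nilB
    have hsyl : ∀ (F : Subgroup G) (S : Sylow r F), F.index = p ^ d →
        (S : Subgroup F).map F.subtype ≤ R' → (S : Subgroup F).map F.subtype = R' := by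
      intro F S hF hle
      have hi : ¬ r ∣ ((S : Subgroup F).map F.subtype).index := by
        rw [Subgroup.index_map_subtype, hF]
        intro h
        rcases (Nat.Prime.dvd_mul hr).mp h with h1 | h1
        · exact S.not_dvd_index h1
        · exact hrp ((Nat.prime_dvd_prime_iff_eq hr hp).mp (hr.dvd_of_dvd_pow h1))
      have h1 := ((S.isPGroup'.map F.subtype).toSylow hi).is_maximal' R'.isPGroup'
        (by rw [IsPGroup.toSylow_coe]; exact hle)
      rw [IsPGroup.toSylow_coe] at h1
      exact h1.symm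
    have hPle : (P' : Subgroup A).map A.subtype ≤ R' := by
      intro x hx
      have : x ∈ ((R' : Subgroup G) : Set G) := by
        rw [hR']
        exact ⟨x, hx, 1, Subgroup.one_mem _, mul_one x⟩
      exact this
    have hQle : (Q' : Subgroup B).map B.subtype ≤ R' := by
      intro x hx
      have : x ∈ ((R' : Subgroup G) : Set G) := by
        rw [hR']
        exact ⟨1, Subgroup.one_mem _, x, hx, one_mul x⟩
      exact this
    have hPeq := hsyl A P' hAidx hPle
    have hQeq := hsyl B Q' hBidx hQle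
    have hAn := le_normalizer_map_subtype (P' : Subgroup A) inferInstance
    have hBn := le_normalizer_map_subtype (Q' : Subgroup B) inferInstance
    rw [hPeq] at hAn
    rw [hQeq] at hBn
    have hR'n : (R' : Subgroup G).Normal := by
      rw [← Subgroup.normalizer_eq_top_iff, eq_top_iff]
      intro g _
      obtain ⟨a, ha, b, hb, rfl⟩ := w.mul g
      exact Subgroup.mul_mem _ (hAn ha) (hBn hb)
    have hR'ne : (R' : Subgroup G) ≠ ⊥ := R'.ne_bot_of_dvd_card hrG
    have h1 := (hK _ hR'n hR'ne).1
    apply hAtop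
    rw [← h1]
    refine (sup_eq_left.mpr ?_).symm
    rw [← hPeq]
    exact Subgroup.map_subtype_le _
  apply hnil
  have hG1 : Nat.card G ≠ 0 := Nat.card_pos.ne'
  have hpow := Nat.eq_prime_pow_of_unique_prime_dvd hG1 (fun {r} hr hrG => hprime r hr hrG)
  exact (IsPGroup.of_card hpow).isNilpotent

theorem exists_normal_aux : ∀ (n : ℕ) (G : Type u) [Group G] [Finite G], Nat.card G = n →
    ∀ A B : Subgroup G, NP A B → (A ≠ ⊤ ∨ B ≠ ⊤) →
    ∃ N : Subgroup G, N.Normal ∧ N ≠ ⊤ ∧ (A ≤ N ∨ B ≤ N) := by
  intro n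
  induction n using Nat.strong_induction_on with
  | _ n ih =>
    intro G _ _ hn A B w hproper
    by_cases hnil : Group.IsNilpotent G
    · rcases hproper with h | h
      · obtain ⟨N, hN, hNtop, hle⟩ := exists_normal_ne_top_of_nilpotent hnil h
        exact ⟨N, hN, hNtop, Or.inl hle⟩
      · obtain ⟨N, hN, hNtop, hle⟩ := exists_normal_ne_top_of_nilpotent hnil h
        exact ⟨N, hN, hNtop, Or.inr hle⟩
    by_cases hK : ∃ K : Subgroup G, K.Normal ∧ K ≠ ⊥ ∧ (A ⊔ K ≠ ⊤ ∨ B ⊔ K ≠ ⊤)
    · obtain ⟨K, hKn, hKne, hor⟩ := hK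
      haveI := hKn
      have hlt : Nat.card (G ⧸ K) < n := by
        rw [← hn, Subgroup.card_eq_card_quotient_mul_card_subgroup K]
        have h3 : 1 < Nat.card K := (Subgroup.one_lt_card_iff_ne_bot K).mpr hKne
        have h4 : 0 < Nat.card (G ⧸ K) := Nat.card_pos
        nlinarith
      have hmap : ∀ F : Subgroup G, F ⊔ K ≠ ⊤ → F.map (QuotientGroup.mk' K) ≠ ⊤ := by
        intro F hF h
        apply hF
        have h1 := Subgroup.comap_map_eq (QuotientGroup.mk' K) F
        rw [h, Subgroup.comap_top, QuotientGroup.ker_mk'] at h1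
        exact h1.symm
      have hproper' : A.map (QuotientGroup.mk' K) ≠ ⊤ ∨ B.map (QuotientGroup.mk' K) ≠ ⊤ := by
        rcases hor with h | h
        · exact Or.inl (hmap A h)
        · exact Or.inr (hmap B h)
      obtain ⟨N, hNn, hNtop, hle⟩ := ih _ hlt (G ⧸ K) rfl _ _ (w.quot K) hproper'
      refine ⟨N.comap (QuotientGroup.mk' K), hNn.comap _, ?_, ?_⟩
      · intro h
        apply hNtop
        rw [← Subgroup.map_comap_eq_self_of_surjective (QuotientGroup.mk'_surjective K) N, h,
          ← MonoidHom.range_eq_map, MonoidHom.range_eq_top]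
        exact QuotientGroup.mk'_surjective K
      · rcases hle with h | h
        · exact Or.inl (Subgroup.map_le_iff_le_comap.mp h)
        · exact Or.inr (Subgroup.map_le_iff_le_comap.mp h)
    · exfalso
      apply hnil
      apply nilpotent_of_forall_sup_eq_top w
      intro K hKn hKne
      by_contra hcon
      apply hK
      refine ⟨K, hKn, hKne, ?_⟩
      by_contra h2
      rw [not_or, not_not, not_not] at h2
      exact hcon h2

theorem exists_normal_of_np {G : Type u} [Group G] [Finite G] {A B : Subgroup G} (w : NP A B)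
    (h : A ≠ ⊤ ∨ B ≠ ⊤) : ∃ N : Subgroup G, N.Normal ∧ N ≠ ⊤ ∧ (A ≤ N ∨ B ≤ N) :=
  exists_normal_aux _ G rfl A B w h

end Cfsg.Agent.Lib.H3.KW
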