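import Cfsg.Agent.Lib.H3.KW1
import Cfsg.Agent.Lib.H1.Fitting
import Mathlib

/-!
helper3 library (Kegel–Wielandt, part 2): Sylow subgroups of `G` inside a nilpotent Hall
subgroup `A`.
-/

set_option autoImplicit false
open scoped Pointwise

namespace Cfsg.Agent.Lib.H3.KW

universe u
variable {G : Type u} [Group G] [Finite G]

/-- A nilpotent subgroup normalizes each Sylow subgroup of `G` it contains. -/
theorem le_normalizer_sylow {A : Subgroup G} (hA : Group.IsNilpotent A) {p : ℕ} [Fact p.Prime]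
    (P : Sylow p G) (hPA : (P : Subgroup G) ≤ A) :
    A ≤ Subgroup.normalizer ((P : Subgroup G) : Set G) := by
  haveI := hA
  have h1 : ((P.subtype hPA : Sylow p A) : Subgroup A).Normal := inferInstance
  rw [Sylow.coe_subtype] at h1
  exact (Subgroup.normal_subgroupOf_iff_le_normalizer hPA).mp h1

/-- A `p`-subgroup normalizing a Sylow `p`-subgroup lies in it. -/
theorem le_sylow_of_le_normalizer {p : ℕ} [Fact p.Prime] (P : Sylow p G) {V : Subgroup G}
    (hV : IsPGroup p V) (hVP : V ≤ Subgroup.normalizer ((P : Subgroup G) : Set G)) :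
    V ≤ P := by
  have h1 : IsPGroup p (V ⊔ P : Subgroup G) := hV.to_sup_of_normal_right' P.isPGroup' hVP
  have h2 := P.is_maximal' h1 le_sup_right
  rw [← h2]; exact le_sup_left

/-- A `p`-subgroup of a nilpotent subgroup `A` lies in the Sylow `p`-subgroup of `G` in `A`. -/
theorem le_sylow_of_le {A : Subgroup G} (hA : Group.IsNilpotent A) {p : ℕ} [Fact p.Prime]
    (P : Sylow p G) (hPA : (P : Subgroup G) ≤ A) {V : Subgroup G} (hV : IsPGroup p V)
    (hVA : V ≤ A) : V ≤ P :=
  le_sylow_of_le_normalizer P hV (hVA.trans (le_normalizer_sylow hA P hPA))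

/-- Uniqueness of the Sylow `p`-subgroup of `G` inside a nilpotent subgroup. -/
theorem sylow_unique {A : Subgroup G} (hA : Group.IsNilpotent A) {p : ℕ} [Fact p.Prime]
    (P P' : Sylow p G) (hPA : (P : Subgroup G) ≤ A) (hPA' : (P' : Subgroup G) ≤ A) : P = P' := by
  have h1 : (P' : Subgroup G) ≤ P := le_sylow_of_le hA P hPA P'.isPGroup' hPA'
  exact Sylow.ext (P'.is_maximal' P.isPGroup' h1)

/-- An element of prime-power order in `A` lies in the Sylow subgroup. -/
theorem mem_sylow_of_orderOf {A : Subgroup G} (hA : Group.IsNilpotent A) {p : ℕ} [Fact p.Prime]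
    (P : Sylow p G) (hPA : (P : Subgroup G) ≤ A) {x : G} (hx : x ∈ A) {k : ℕ}
    (hk : orderOf x = p ^ k) : x ∈ (P : Subgroup G) := by
  have h1 : IsPGroup p (Subgroup.zpowers x) := by
    apply IsPGroup.of_card (n := k)
    rw [Nat.card_zpowers, hk]
  exact le_sylow_of_le hA P hPA h1 (by rwa [Subgroup.zpowers_le]) (Subgroup.mem_zpowers x)

/-- Subgroups normalizing each other with trivial intersection commute elementwise. -/
theorem commute_of_normalize_of_disjoint {H K : Subgroup G}
    (hHK : H ≤ Subgroup.normalizer (K : Set G)) (hKH : K ≤ Subgroup.normalizer (H : Set G))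
    (hd : H ⊓ K = ⊥) {x y : G} (hx : x ∈ H) (hy : y ∈ K) : x * y = y * x := by
  have h1 : x * y * x⁻¹ * y⁻¹ ∈ H ⊓ K := by
    constructor
    · have : x * y * x⁻¹ * y⁻¹ = x * (y * x⁻¹ * y⁻¹) := by group
      rw [this]
      exact H.mul_mem hx ((Subgroup.mem_normalizer_iff.mp (hKH hy) x⁻¹).mp (H.inv_mem hx))
    · exact K.mul_mem ((Subgroup.mem_normalizer_iff.mp (hHK hx) y).mp hy) (K.inv_mem hy)
  rw [hd, Subgroup.mem_bot] at h1
  have : x * y = (x * y * x⁻¹ * y⁻¹) * (y * x) := by group
  rw [this, h1, one_mul]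

/-- Sylow subgroups for different primes in a nilpotent subgroup commute elementwise. -/
theorem sylow_commute {A : Subgroup G} (hA : Group.IsNilpotent A) {p r : ℕ} [Fact p.Prime]
    [Fact r.Prime] (hpr : p ≠ r) (P : Sylow p G) (R : Sylow r G) (hPA : (P : Subgroup G) ≤ A)
    (hRA : (R : Subgroup G) ≤ A) {x y : G} (hx : x ∈ (P : Subgroup G))
    (hy : y ∈ (R : Subgroup G)) : x * y = y * x := by
  apply commute_of_normalize_of_disjoint (H := (P : Subgroup G)) (K := (R : Subgroup G))
    (hPA.trans (le_normalizer_sylow hA R hRA)) (hRA.trans (le_normalizer_sylow hA P hPA))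
    _ hx hy
  exact (IsPGroup.disjoint_of_ne p r hpr _ _ P.isPGroup' R.isPGroup').eq_bot

theorem sylow_le_centralizer {A : Subgroup G} (hA : Group.IsNilpotent A) {p r : ℕ} [Fact p.Prime]
    [Fact r.Prime] (hpr : p ≠ r) (P : Sylow p G) (R : Sylow r G) (hPA : (P : Subgroup G) ≤ A)
    (hRA : (R : Subgroup G) ≤ A) :
    (R : Subgroup G) ≤ Subgroup.centralizer ((P : Subgroup G) : Set G) := by
  intro y hy
  rw [Subgroup.mem_centralizer_iff]
  intro x hx
  exact sylow_commute hA hpr P R hPA hRA hx hy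

namespace WP

variable {A B : Subgroup G}

theorem not_dvd_right_of_dvd_left (w : WP A B) {p : ℕ} (hp : p.Prime) (h : p ∣ Nat.card A) :
    ¬ p ∣ Nat.card B := by
  intro h2
  have := Nat.dvd_gcd h h2
  rw [w.cop] at this
  exact hp.one_lt.ne' (Nat.dvd_one.mp this)

theorem dvd_left_or_right (w : WP A B) {p : ℕ} (hp : p.Prime) (h : p ∣ Nat.card G) :
    p ∣ Nat.card A ∨ p ∣ Nat.card B := by
  rw [← w.card_mul] at h
  exact (Nat.Prime.dvd_mul hp).mp h

/-- Existence of a Sylow `p`-subgroup of `G` inside `A` when `p ∤ |B|`. -/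
theorem exists_sylow_le_left (w : WP A B) {p : ℕ} [Fact p.Prime] (h : ¬ p ∣ Nat.card B) :
    ∃ P : Sylow p G, (P : Subgroup G) ≤ A := by
  apply H1.exists_sylow_le_of_not_dvd_index
  rwa [w.index_left]

theorem exists_sylow_le_left' (w : WP A B) {p : ℕ} [hp : Fact p.Prime] (h : p ∣ Nat.card A) :
    ∃ P : Sylow p G, (P : Subgroup G) ≤ A ∧ (P : Subgroup G) ≠ ⊥ := by
  obtain ⟨P, hP⟩ := w.exists_sylow_le_left (w.not_dvd_right_of_dvd_left hp.out h)
  exact ⟨P, hP, P.ne_bot_of_dvd_card (h.trans (Subgroup.card_subgroup_dvd_card A))⟩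

/-- A subgroup containing every Sylow subgroup of `G` lying in `A` contains `A`. -/
theorem le_of_forall_sylow_le (w : WP A B) {M : Subgroup G}
    (h : ∀ (t : ℕ) [Fact t.Prime] (T : Sylow t G), (T : Subgroup G) ≤ A → (T : Subgroup G) ≤ M) :
    A ≤ M := by
  have h1 : (M.subgroupOf A) = ⊤ := by
    apply H1.eq_top_of_forall_sylow_le
    intro t ht
    by_cases htB : t ∣ Nat.card B
    · -- then `t ∤ |A|`, all Sylow `t`-subgroups of `A` are trivial
      obtain ⟨T'⟩ : Nonempty (Sylow t A) := inferInstance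
      refine ⟨T', ?_⟩
      have h2 : ¬ t ∣ Nat.card A := fun h3 => w.not_dvd_right_of_dvd_left ht.out h3 htB
      have h3 : (T' : Subgroup A) = ⊥ := by
        apply Subgroup.eq_bot_of_card_eq
        rw [T'.card_eq_multiplicity, Nat.factorization_eq_zero_of_not_dvd h2, pow_zero]
      rw [h3]; exact bot_le
    · obtain ⟨T, hT⟩ := w.exists_sylow_le_left htB
      refine ⟨T.subtype hT, ?_⟩
      rw [Sylow.coe_subtype]
      intro x hx
      rw [Subgroup.mem_subgroupOf] at hx ⊢
      exact h t T hT hx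
  intro x hx
  have : (⟨x, hx⟩ : A) ∈ M.subgroupOf A := by rw [h1]; exact Subgroup.mem_top _
  exact Subgroup.mem_subgroupOf.mp this

end WP

end Cfsg.Agent.Lib.H3.KW
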