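import Cfsg.Agent.Lib.H3.KW2
import Cfsg.Agent.Lib.H1.NilpotentBasic
import Cfsg.Agent.Lib.H23.BurnsidePQ
import Mathlib

/-!
helper3 library (Kegel–Wielandt, part 3): basic properties of a minimal counterexample.
-/

set_option autoImplicit false
open scoped Pointwise

namespace Cfsg.Agent.Lib.H3.KW

universe u

/-- Induction hypothesis: smaller factorized groups are solvable. -/
def IH (G : Type u) [Group G] : Prop :=
  ∀ (H : Type u) [Group H] [Finite H], Nat.card H < Nat.card G →
    ∀ A B : Subgroup H, WP A B → Group.IsSolvable H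

/-- A minimal counterexample. -/
structure MC (G : Type u) [Group G] : Prop where
  ih : IH G
  ns : ¬ Group.IsSolvable G

variable {G : Type u} [Group G] [Finite G]

/-- A nontrivial `p`-group has an element of order `p`. -/
theorem exists_orderOf_eq_of_isPGroup {p : ℕ} [hp : Fact p.Prime] {K : Subgroup G}
    (hK : IsPGroup p K) (hne : K ≠ ⊥) : ∃ x ∈ K, orderOf x = p := by
  obtain ⟨n, hn⟩ := IsPGroup.iff_card.mp hK
  have hn0 : n ≠ 0 := by
    rintro rfl
    rw [pow_zero] at hn
    exact hne (Subgroup.eq_bot_of_card_eq K hn)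
  have hdvd : p ∣ Nat.card K := by rw [hn]; exact dvd_pow_self p hn0
  obtain ⟨x, hx⟩ := exists_prime_orderOf_dvd_card' p hdvd
  exact ⟨x.1, x.2, by rw [← hx, Subgroup.orderOf_coe]⟩

/-- A nontrivial subgroup has an element of prime order. -/
theorem exists_prime_orderOf_of_ne_bot {K : Subgroup G} (hne : K ≠ ⊥) :
    ∃ (p : ℕ) (x : G), p.Prime ∧ x ∈ K ∧ orderOf x = p := by
  have h1 : Nat.card K ≠ 1 := fun h => hne (Subgroup.eq_bot_of_card_eq K h)
  obtain ⟨p, hp, hdvd⟩ := Nat.exists_prime_and_dvd h1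
  haveI : Fact p.Prime := ⟨hp⟩
  obtain ⟨x, hx⟩ := exists_prime_orderOf_dvd_card' p hdvd
  exact ⟨p, x.1, hp, x.2, by rw [← hx, Subgroup.orderOf_coe]⟩

/-- `a` is a central element of `A` of (prime) order `p`. -/
structure CPrime (A : Subgroup G) (a : G) (p : ℕ) : Prop where
  mem : a ∈ A
  comm : ∀ x ∈ A, x * a = a * x
  order : orderOf a = p

theorem CPrime.ne_one {A : Subgroup G} {a : G} {p : ℕ} [hp : Fact p.Prime] (h : CPrime A a p) :
    a ≠ 1 := by
  intro h1
  have := h.order
  rw [h1, orderOf_one] at this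
  exact hp.out.one_lt.ne this

theorem CPrime.conj {A : Subgroup G} {a : G} {p : ℕ} (h : CPrime A a p) (g : G) :
    CPrime (MulAut.conj g • A) (g * a * g⁻¹) p where
  mem := by
    rw [Subgroup.mem_pointwise_smul_iff_inv_smul_mem]
    simp only [MulAut.smul_def, MulAut.conj_inv_apply]
    have : g⁻¹ * (g * a * g⁻¹) * g = a := by group
    rw [this]; exact h.mem
  comm := by
    intro x hx
    rw [Subgroup.mem_pointwise_smul_iff_inv_smul_mem] at hx
    simp only [MulAut.smul_def, MulAut.conj_inv_apply] at hx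
    have h1 := h.comm _ hx
    have h2 : x * (g * a * g⁻¹) = g * ((g⁻¹ * x * g) * a) * g⁻¹ := by group
    rw [h2, h1]; group
  order := by
    have : g * a * g⁻¹ = MulAut.conj g a := by simp
    rw [this, MulEquiv.orderOf_eq]; exact h.order

/-- Central elements of every prime order dividing `|A|` exist in a nilpotent Hall subgroup. -/
theorem WP.exists_cprime {A B : Subgroup G} (w : WP A B) {r : ℕ} [hr : Fact r.Prime]
    (h : r ∣ Nat.card A) : ∃ z, CPrime A z r := by
  obtain ⟨R, hRA, hRne⟩ := w.exists_sylow_le_left' h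
  haveI := w.nilA
  have h1 : ((R.subtype hRA : Sylow r A) : Subgroup A).Normal := inferInstance
  rw [Sylow.coe_subtype] at h1
  have h2 : (R : Subgroup G).subgroupOf A ≠ ⊥ := by
    intro h3
    rw [Subgroup.subgroupOf_eq_bot, disjoint_iff, inf_eq_left.mpr hRA] at h3
    exact hRne h3
  have h3 := H1.normal_inf_center_ne_bot ((R : Subgroup G).subgroupOf A) h2
  have h4 : IsPGroup r ↥((R : Subgroup G).subgroupOf A ⊓ Subgroup.center A) := by
    apply IsPGroup.to_le _ inf_le_left
    exact (R.subtype hRA).isPGroup'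
  obtain ⟨x, hx, hxo⟩ := exists_orderOf_eq_of_isPGroup h4 h3
  refine ⟨x.1, x.2, ?_, by rw [Subgroup.orderOf_coe]; exact hxo⟩
  intro y hy
  have := (Subgroup.mem_center_iff.mp hx.2) ⟨y, hy⟩
  exact congrArg Subtype.val this

namespace MC

variable {A B : Subgroup G}

theorem card_lt_of_ne_top {M : Subgroup G} (h : M ≠ ⊤) : Nat.card M < Nat.card G :=
  lt_of_le_of_ne (Subgroup.card_le_card_group M) (fun h1 => h (Subgroup.eq_top_of_card_eq M h1))

theorem solvable_of_factd (mc : MC G) (w : WP A B) {M : Subgroup G} (hM : Factd A B M)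
    (hne : M ≠ ⊤) : Group.IsSolvable M :=
  mc.ih M (card_lt_of_ne_top hne) _ _ (w.restrict hM)

theorem simple (mc : MC G) (w : WP A B) (N : Subgroup G) (hN : N.Normal) : N = ⊥ ∨ N = ⊤ := by
  by_contra hcon
  rw [not_or] at hcon
  haveI := hN
  haveI : Group.IsSolvable N := mc.solvable_of_factd w (w.factd_of_normal hN) hcon.2
  have hlt : Nat.card (G ⧸ N) < Nat.card G := by
    rw [Subgroup.card_eq_card_quotient_mul_card_subgroup N]
    have h1 : 1 < Nat.card N := (Subgroup.one_lt_card_iff_ne_bot N).mpr hcon.1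
    have h2 : 0 < Nat.card (G ⧸ N) := Nat.card_pos
    nlinarith
  haveI : Group.IsSolvable (G ⧸ N) := mc.ih (G ⧸ N) hlt _ _ (w.quot N)
  apply mc.ns
  apply Group.isSolvable_of_ker_le_range N.subtype (QuotientGroup.mk' N)
  rw [QuotientGroup.ker_mk', Subgroup.range_subtype]

theorem eq_bot_of_normal_of_solvable (mc : MC G) (w : WP A B) {N : Subgroup G} (hN : N.Normal)
    (hs : Group.IsSolvable N) : N = ⊥ := by
  rcases mc.simple w N hN with h | h
  · exact h
  · exfalso
    apply mc.ns
    subst h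
    exact Group.isSolvable_of_isSolvable_injective
      (f := (Subgroup.topEquiv (G := G)).symm.toMonoidHom) (Subgroup.topEquiv).symm.injective

theorem eq_bot_of_normal_of_isPGroup (mc : MC G) (w : WP A B) {N : Subgroup G} (hN : N.Normal)
    {p : ℕ} [Fact p.Prime] (hp : IsPGroup p N) : N = ⊥ := by
  apply mc.eq_bot_of_normal_of_solvable w hN
  haveI := hp.isNilpotent
  infer_instance

theorem not_nilpotent (mc : MC G) (h : Group.IsNilpotent G) : False := by
  apply mc.ns
  infer_instance

theorem ne_top_left (mc : MC G) (w : WP A B) : A ≠ ⊤ := by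
  intro h
  apply mc.not_nilpotent
  haveI := w.nilA
  subst h
  exact Group.nilpotent_of_mulEquiv (Subgroup.topEquiv (G := G))

theorem ne_top_right (mc : MC G) (w : WP A B) : B ≠ ⊤ := mc.ne_top_left w.symm

theorem ne_bot_left (mc : MC G) (w : WP A B) : A ≠ ⊥ := by
  intro h
  apply mc.ne_top_right w
  rw [eq_top_iff]
  intro g _
  obtain ⟨a, ha, b, hb, rfl⟩ := w.mul g
  rw [h, Subgroup.mem_bot] at ha
  rw [ha, one_mul]; exact hb

theorem ne_bot_right (mc : MC G) (w : WP A B) : B ≠ ⊥ := mc.ne_bot_left w.symm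

theorem nontrivial (mc : MC G) (w : WP A B) : Nontrivial G := by
  by_contra h
  rw [not_nontrivial_iff_subsingleton] at h
  exact mc.ne_bot_left w (Subgroup.eq_bot_of_subsingleton A)

theorem isSimpleGroup (mc : MC G) (w : WP A B) : IsSimpleGroup G := by
  haveI := mc.nontrivial w
  exact ⟨fun N hN => mc.simple w N hN⟩

theorem center_eq_bot (mc : MC G) (w : WP A B) : Subgroup.center G = ⊥ := by
  apply mc.eq_bot_of_normal_of_solvable w inferInstance
  apply isSolvable_of_comm
  intro a b
  exact Subtype.ext ((Subgroup.mem_center_iff.mp b.2) a.1)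

/-- The normalizer of a nontrivial proper subgroup is proper. -/
theorem normalizer_ne_top (mc : MC G) (w : WP A B) {L : Subgroup G} (h1 : L ≠ ⊥) (h2 : L ≠ ⊤) :
    Subgroup.normalizer (L : Set G) ≠ ⊤ := by
  intro h
  rcases mc.simple w L (Subgroup.normalizer_eq_top_iff.mp h) with h3 | h3
  · exact h1 h3
  · exact h2 h3

/-- A subgroup whose normalizer is everything, and which is a nontrivial `p`-group: impossible. -/
theorem false_of_normalizer_eq_top (mc : MC G) (w : WP A B) {V : Subgroup G} {t : ℕ}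
    [Fact t.Prime] (hV : IsPGroup t V) (hne : V ≠ ⊥)
    (h : Subgroup.normalizer (V : Set G) = ⊤) : False :=
  hne (mc.eq_bot_of_normal_of_isPGroup w (Subgroup.normalizer_eq_top_iff.mp h) hV)

/-- `|A|` is not a prime power. -/
theorem exists_prime_ne (mc : MC G) (w : WP A B) (p : ℕ) :
    ∃ r, r.Prime ∧ r ≠ p ∧ r ∣ Nat.card A := by
  by_contra hcon
  have hall : ∀ r, r.Prime → r ∣ Nat.card A → r = p := by
    intro r hr hdvd
    by_contra hne
    exact hcon ⟨r, hr, hne, hdvd⟩
  have hA1 : Nat.card A ≠ 1 := fun h => mc.ne_bot_left w (Subgroup.eq_bot_of_card_eq A h)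
  obtain ⟨p', hp', hp'dvd⟩ := Nat.exists_prime_and_dvd hA1
  have hpp : p' = p := hall p' hp' hp'dvd
  subst hpp
  have hpow : Nat.card A = p' ^ (Nat.card A).primeFactorsList.length := by
    apply Nat.eq_prime_pow_of_unique_prime_dvd Nat.card_pos.ne'
    intro r hr hdvd
    exact hall r hr hdvd
  -- a nontrivial central element of `B`
  haveI := w.nilB
  haveI : Nontrivial B := (Subgroup.nontrivial_iff_ne_bot B).mpr (mc.ne_bot_right w)
  have hZ := Group.IsNilpotent.center_ne_bot B
  obtain ⟨b, hb1⟩ := (Subgroup.ne_bot_iff_exists_ne_one).mp hZ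
  have hBle : B ≤ Subgroup.centralizer ({((b : B) : G)} : Set G) := by
    intro y hy
    rw [Subgroup.mem_centralizer_iff]
    intro z hz
    rw [Set.mem_singleton_iff] at hz
    subst hz
    have := (Subgroup.mem_center_iff.mp b.2) ⟨y, hy⟩
    exact (congrArg Subtype.val this).symm
  have hidx : (Subgroup.centralizer ({((b : B) : G)} : Set G)).index ∣
      p' ^ (Nat.card A).primeFactorsList.length := by
    rw [← hpow, ← w.index_right]
    exact Subgroup.index_dvd_of_le hBle
  obtain ⟨k, -, hk⟩ := (Nat.dvd_prime_pow hp').mp hidx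
  haveI := mc.isSimpleGroup w
  have hprime := H23.prime_card_of_simple_of_prime_power_class p' k hp' ((b : B) : G)
    (by intro h; apply hb1; exact Subtype.ext (Subtype.ext h)) hk
  haveI : Fact (Nat.card G).Prime := ⟨hprime⟩
  haveI := isCyclic_of_prime_card (α := G) rfl
  apply mc.ns
  let _ : CommGroup G := IsCyclic.commGroup
  infer_instance

end MC

end Cfsg.Agent.Lib.H3.KW
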