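import Cfsg.Agent.Lib.H1.Hall
import Cfsg.Agent.Lib.H1.CoprimeSylow
import Cfsg.Agent.Lib.H3.HallSystem
import Cfsg.Agent.Lib.H19.ProdCard
import Mathlib

/-!
helper3 library: factorized groups `G = HK`; simultaneous conjugation and permutability of normal
Hall subgroups of the factors in the solvable case.
-/

set_option autoImplicit false
open scoped Pointwise

namespace Cfsg.Agent.Lib.H3

variable {G : Type*} [Group G]

/-- In a factorized group `G = HK`, conjugates `ˣA` and `ʸB` of subgroups normalized by `H` and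
`K` respectively are simultaneously conjugate to `A` and `B`. -/
theorem exists_simul_conj {H K A B : Subgroup G}
    (hHK : ∀ g : G, ∃ h ∈ H, ∃ k ∈ K, g = h * k)
    (hHA : H ≤ Subgroup.normalizer (A : Set G)) (hKB : K ≤ Subgroup.normalizer (B : Set G))
    (x y : G) : ∃ g : G, MulAut.conj x • A = MulAut.conj g • A ∧
      MulAut.conj y • B = MulAut.conj g • B := by
  obtain ⟨h, hh, k, hk, hxy⟩ := hHK (x⁻¹ * y)
  refine ⟨x * h, ?_, ?_⟩
  · rw [map_mul, mul_smul, H1.conj_smul_eq_self_iff_mem_normalizer.2 (hHA hh)]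
  · have h1 : x * h = y * k⁻¹ := by
      have : y = x * (h * k) := by rw [← hxy]; group
      rw [this]; group
    rw [h1, map_mul, mul_smul,
      H1.conj_smul_eq_self_iff_mem_normalizer.2 (hKB (K.inv_mem hk))]

/-- The set product of conjugates is the conjugate of the set product. -/
theorem conj_smul_mul_conj_smul (g : G) (A B : Subgroup G) :
    ((MulAut.conj g • A : Subgroup G) : Set G) * ((MulAut.conj g • B : Subgroup G) : Set G) =
      MulAut.conj g • ((A : Set G) * (B : Set G)) := by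
  rw [Subgroup.coe_pointwise_smul, Subgroup.coe_pointwise_smul, smul_mul']

/-- Numerical lemma: the least common multiple of two Hall divisors is a Hall divisor. -/
theorem hall_lcm {N a b : ℕ} (hN : 0 < N) (ha : a ∣ N) (hb : b ∣ N) (hac : a.Coprime (N / a))
    (hbc : b.Coprime (N / b)) :
    N = Nat.lcm a b * (N / Nat.lcm a b) ∧ (Nat.lcm a b).Coprime (N / Nat.lcm a b) ∧
      a.Coprime (N / Nat.lcm a b) ∧ b.Coprime (N / Nat.lcm a b) := by
  have hl : Nat.lcm a b ∣ N := Nat.lcm_dvd ha hb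
  have h1 : N / Nat.lcm a b ∣ N / a :=
    Nat.div_dvd_div_left hl (Nat.dvd_lcm_left a b)
  have h2 : N / Nat.lcm a b ∣ N / b :=
    Nat.div_dvd_div_left hl (Nat.dvd_lcm_right a b)
  have hac' : a.Coprime (N / Nat.lcm a b) := Nat.Coprime.coprime_dvd_right h1 hac
  have hbc' : b.Coprime (N / Nat.lcm a b) := Nat.Coprime.coprime_dvd_right h2 hbc
  refine ⟨(Nat.mul_div_cancel' hl).symm, ?_, hac', hbc'⟩
  exact Nat.Coprime.coprime_dvd_left (Nat.lcm_dvd_mul a b) (Nat.Coprime.mul_left hac' hbc')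

/-- In a solvable factorized group `G = HK`, Hall subgroups `A`, `B` of `G` normalized by `H`, `K`
respectively have conjugates whose set product is a subgroup. -/
theorem exists_subgroup_eq_mul_of_normal_hall [Finite G] [Group.IsSolvable G]
    {H K A B : Subgroup G} (hHK : ∀ g : G, ∃ h ∈ H, ∃ k ∈ K, g = h * k)
    (hHA : H ≤ Subgroup.normalizer (A : Set G)) (hKB : K ≤ Subgroup.normalizer (B : Set G))
    (hAh : (Nat.card A).Coprime A.index) (hBh : (Nat.card B).Coprime B.index) (x y : G) :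
    ∃ S : Subgroup G, (S : Set G) =
      ((MulAut.conj x • A : Subgroup G) : Set G) * ((MulAut.conj y • B : Subgroup G) : Set G) := by
  -- numerics
  have hNpos : 0 < Nat.card G := Nat.card_pos
  have hAi : A.index = Nat.card G / Nat.card A := by
    rw [← Subgroup.card_mul_index A, Nat.mul_div_cancel_left _ Nat.card_pos]
  have hBi : B.index = Nat.card G / Nat.card B := by
    rw [← Subgroup.card_mul_index B, Nat.mul_div_cancel_left _ Nat.card_pos]
  rw [hAi] at hAh
  rw [hBi] at hBh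
  obtain ⟨hG, hcop, hAc, hBc⟩ := hall_lcm hNpos (Subgroup.card_subgroup_dvd_card A)
    (Subgroup.card_subgroup_dvd_card B) hAh hBh
  -- Hall subgroups of order `lcm` containing `A`, resp. `B`
  obtain ⟨T, hT, hAT⟩ := H1.hall_contain hG hcop A hAc
  obtain ⟨T', hT', hBT'⟩ := H1.hall_contain hG hcop B hBc
  obtain ⟨u, hu⟩ := H1.hall_conj hG hcop T' T hT' hT
  -- `A` and a conjugate of `B` lie in `T`
  have hBT : MulAut.conj u • B ≤ T := by
    rw [← hu]
    exact Subgroup.pointwise_smul_le_pointwise_smul_iff.2 hBT'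
  -- the case x = y = 1 after simultaneous conjugation
  have key : ∀ A₁ B₁ T₁ : Subgroup G, Nat.card A₁ = Nat.card A → Nat.card B₁ = Nat.card B →
      Nat.card T₁ = Nat.lcm (Nat.card A) (Nat.card B) → A₁ ≤ T₁ → B₁ ≤ T₁ →
      ((A₁ ⊔ B₁ : Subgroup G) : Set G) = (A₁ : Set G) * (B₁ : Set G) := by
    intro A₁ B₁ T₁ hA₁ hB₁ hT₁ hAT₁ hBT₁
    have h1 := H19.card_mul_card_le_sup_mul_inf A₁ B₁
    have h2 : Nat.card ↥(A₁ ⊔ B₁) ≤ Nat.lcm (Nat.card A) (Nat.card B) := by
      rw [← hT₁]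
      exact Subgroup.card_le_of_le (sup_le hAT₁ hBT₁)
    have h3 : Nat.card ↥(A₁ ⊓ B₁) ∣ Nat.gcd (Nat.card A) (Nat.card B) := by
      apply Nat.dvd_gcd
      · rw [← hA₁]; exact Subgroup.card_dvd_of_le inf_le_left
      · rw [← hB₁]; exact Subgroup.card_dvd_of_le inf_le_right
    have h4 : Nat.card ↥(A₁ ⊓ B₁) ≤ Nat.gcd (Nat.card A) (Nat.card B) :=
      Nat.le_of_dvd (Nat.gcd_pos_of_pos_left _ Nat.card_pos) h3
    have h5 : Nat.card ↥(A₁ ⊔ B₁) * Nat.card ↥(A₁ ⊓ B₁) ≤ Nat.card A₁ * Nat.card B₁ := by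
      calc Nat.card ↥(A₁ ⊔ B₁) * Nat.card ↥(A₁ ⊓ B₁)
          ≤ Nat.lcm (Nat.card A) (Nat.card B) * Nat.gcd (Nat.card A) (Nat.card B) :=
            Nat.mul_le_mul h2 h4
        _ = Nat.card A₁ * Nat.card B₁ := by
            rw [hA₁, hB₁, mul_comm, Nat.gcd_mul_lcm]
    have h6 := H19.exists_mul_of_card_mul_card_eq A₁ B₁ (le_antisymm h1 h5)
    ext g
    constructor
    · intro hg
      obtain ⟨a, ha, b, hb, rfl⟩ := h6 g hg
      exact Set.mul_mem_mul ha hb
    · rintro ⟨a, ha, b, hb, rfl⟩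
      exact Subgroup.mul_mem _ (Subgroup.mem_sup_left ha) (Subgroup.mem_sup_right hb)
  -- put `A` and `conj u • B` in the form `conj g • A`, `conj g • B`
  obtain ⟨g, hgA, hgB⟩ := exists_simul_conj hHK hHA hKB 1 u
  rw [map_one, one_smul] at hgA
  obtain ⟨g', hgA', hgB'⟩ := exists_simul_conj hHK hHA hKB x y
  have hkey := key (MulAut.conj g' • A) (MulAut.conj g' • B) (MulAut.conj (g' * g⁻¹) • T)
    (card_conj_smul _ _) (card_conj_smul _ _) (by rw [card_conj_smul, hT]) ?_ ?_
  · exact ⟨_, by rw [hkey, hgA', hgB']⟩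
  · rw [map_mul, mul_smul, Subgroup.pointwise_smul_le_pointwise_smul_iff]
    rw [Subgroup.subset_pointwise_smul_iff, ← map_inv, inv_inv, ← hgA]
    exact hAT
  · rw [map_mul, mul_smul, Subgroup.pointwise_smul_le_pointwise_smul_iff]
    rw [Subgroup.subset_pointwise_smul_iff, ← map_inv, inv_inv, ← hgB]
    exact hBT

end Cfsg.Agent.Lib.H3
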