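import Cfsg.Agent.Lib.H3.KW3
import Cfsg.Agent.Lib.H3.ProdHall
import Cfsg.Agent.S0562
import Cfsg.Agent.S0566
import Mathlib

/-!
helper3 library (Kegel–Wielandt, part 4): products of Sylow subgroups in solvable factorized
subgroups; generation by Sylow subgroups of the factors in a minimal counterexample.
-/

set_option autoImplicit false
open scoped Pointwise

namespace Cfsg.Agent.Lib.H3.KW

universe u
variable {G : Type u} [Group G] [Finite G]

/-- A `p`-subgroup normalized by a Sylow `p`-subgroup lies in it. -/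
theorem le_sylow_of_normalizes {p : ℕ} [Fact p.Prime] (P : Sylow p G) {V : Subgroup G}
    (hV : IsPGroup p V) (hPV : (P : Subgroup G) ≤ Subgroup.normalizer (V : Set G)) :
    V ≤ P := by
  have h1 : IsPGroup p (V ⊔ P : Subgroup G) := hV.to_sup_of_normal_left' P.isPGroup' hPV
  have h2 := P.is_maximal' h1 le_sup_right
  rw [← h2]; exact le_sup_left

theorem dvd_card_of_isPGroup_ne_bot {p : ℕ} [hp : Fact p.Prime] {V A : Subgroup G}
    (hV : IsPGroup p V) (hne : V ≠ ⊥) (hVA : V ≤ A) : p ∣ Nat.card A := by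
  obtain ⟨n, hn⟩ := IsPGroup.iff_card.mp hV
  have hn0 : n ≠ 0 := by
    rintro rfl
    rw [pow_zero] at hn
    exact hne (Subgroup.eq_bot_of_card_eq V hn)
  exact (dvd_pow_self p hn0).trans (hn ▸ Subgroup.card_dvd_of_le hVA)

namespace WP

variable {A B : Subgroup G}

/-- In a solvable factorized group, Sylow subgroups of the two factors permute. -/
theorem exists_subgroup_eq_sylow_mul [Group.IsSolvable G] (w : WP A B) {p q : ℕ} [Fact p.Prime]
    [Fact q.Prime] (P : Sylow p G) (Q : Sylow q G) (hPA : (P : Subgroup G) ≤ A)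
    (hQB : (Q : Subgroup G) ≤ B) :
    ∃ S : Subgroup G, (S : Set G) = ((P : Subgroup G) : Set G) * ((Q : Subgroup G) : Set G) := by
  obtain ⟨S, hS⟩ := exists_subgroup_eq_mul_of_normal_hall w.mul (le_normalizer_sylow w.nilA P hPA)
    (le_normalizer_sylow w.nilB Q hQB) P.card_coprime_index Q.card_coprime_index 1 1
  rw [map_one, one_smul, one_smul] at hS
  exact ⟨S, hS⟩

/-- The Sylow subgroup of a factorized subgroup cut out by the Sylow subgroup of `A`. -/
theorem exists_sylow_subgroupOf (w : WP A B) {N : Subgroup G} (hN : Factd A B N) {p : ℕ}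
    [Fact p.Prime] (P : Sylow p G) (hPA : (P : Subgroup G) ≤ A) (hp : ¬ p ∣ Nat.card B) :
    ∃ P' : Sylow p N, (P' : Subgroup N) = (P : Subgroup G).subgroupOf N ∧
      (P' : Subgroup N) ≤ A.subgroupOf N := by
  have w' := w.restrict hN
  have hp' : ¬ p ∣ Nat.card (B.subgroupOf N) := fun h => hp (h.trans (card_subgroupOf_dvd B N))
  obtain ⟨P', hP'⟩ := w'.exists_sylow_le_left hp'
  refine ⟨P', ?_, hP'⟩
  have h1 : (P' : Subgroup N) ≤ (P : Subgroup G).subgroupOf N := by
    have h2 : (P' : Subgroup N).map N.subtype ≤ P := by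
      apply le_sylow_of_le w.nilA P hPA (P'.isPGroup'.map _)
      rintro _ ⟨x, hx, rfl⟩
      exact Subgroup.mem_subgroupOf.mp (hP' hx)
    intro x hx
    rw [Subgroup.mem_subgroupOf]
    exact h2 (Subgroup.mem_map_of_mem _ hx)
  have h3 : IsPGroup p ((P : Subgroup G).subgroupOf N) :=
    P.isPGroup'.comap_of_injective N.subtype N.subtype_injective
  exact (P'.is_maximal' h3 h1).symm

/-- In a solvable factorized subgroup `N`, the intersections of `N` with Sylow subgroups of the two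
factors permute. -/
theorem exists_subgroup_eq_inf_mul_inf (w : WP A B) {N : Subgroup G} (hN : Factd A B N)
    (hs : Group.IsSolvable N) {p q : ℕ} [Fact p.Prime]
    [Fact q.Prime] (P : Sylow p G) (Q : Sylow q G) (hPA : (P : Subgroup G) ≤ A)
    (hQB : (Q : Subgroup G) ≤ B) (hp : ¬ p ∣ Nat.card B) (hq : ¬ q ∣ Nat.card A) :
    ∃ S : Subgroup G, S ≤ N ∧ (S : Set G) =
      (((P : Subgroup G) ⊓ N : Subgroup G) : Set G) * (((Q : Subgroup G) ⊓ N : Subgroup G) : Set G) := by
  have w' := w.restrict hN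
  obtain ⟨P', hP', hP'A⟩ := w.exists_sylow_subgroupOf hN P hPA hp
  obtain ⟨Q', hQ', hQ'B⟩ := w.symm.exists_sylow_subgroupOf (w.factd_symm hN) Q hQB hq
  obtain ⟨S', hS'⟩ := w'.exists_subgroup_eq_sylow_mul P' Q' hP'A hQ'B
  refine ⟨S'.map N.subtype, Subgroup.map_subtype_le _, ?_⟩
  ext g
  constructor
  · rintro ⟨s, hs, rfl⟩
    have hs' : s ∈ (S' : Set N) := hs
    rw [hS'] at hs'
    obtain ⟨x, hx, y, hy, rfl⟩ := hs'
    have hx' : x ∈ (P' : Subgroup N) := hx
    have hy' : y ∈ (Q' : Subgroup N) := hy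
    rw [hP'] at hx'
    rw [hQ'] at hy'
    rw [Subgroup.subtype_apply, Subgroup.coe_mul]
    exact Set.mul_mem_mul ⟨Subgroup.mem_subgroupOf.mp hx', x.2⟩
      ⟨Subgroup.mem_subgroupOf.mp hy', y.2⟩
  · rintro ⟨x, hx, y, hy, rfl⟩
    refine ⟨(⟨x, hx.2⟩ : N) * ⟨y, hy.2⟩, ?_, rfl⟩
    show _ ∈ (S' : Set N)
    rw [hS']
    refine Set.mul_mem_mul ?_ ?_
    · show _ ∈ (P' : Subgroup N)
      rw [hP']; exact Subgroup.mem_subgroupOf.mpr hx.1
    · show _ ∈ (Q' : Subgroup N)
      rw [hQ']; exact Subgroup.mem_subgroupOf.mpr hy.1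

end WP

namespace MC

variable {A B : Subgroup G}

theorem conj_smul_ne_top {S : Subgroup G} (h : S ≠ ⊤) (a : G) : MulAut.conj a • S ≠ ⊤ := by
  intro h1
  apply h
  apply Subgroup.eq_top_of_card_eq
  rw [← WP.card_conj_smul a S, h1, Subgroup.card_top]

/-- Sylow subgroups of `G` in `A` and `B` generate `G`. -/
theorem sylow_sup_eq_top (mc : MC G) (w : WP A B) {p q : ℕ} [Fact p.Prime] [Fact q.Prime]
    (P : Sylow p G) (Q : Sylow q G) (hPA : (P : Subgroup G) ≤ A) (hQB : (Q : Subgroup G) ≤ B)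
    (hp : p ∣ Nat.card A) (hq : q ∣ Nat.card B) : (P ⊔ Q : Subgroup G) = ⊤ := by
  by_contra hL
  have hP : (P : Subgroup G) ≠ ⊥ :=
    P.ne_bot_of_dvd_card (hp.trans (Subgroup.card_subgroup_dvd_card A))
  have hQ : (Q : Subgroup G) ≠ ⊥ :=
    Q.ne_bot_of_dvd_card (hq.trans (Subgroup.card_subgroup_dvd_card B))
  have hLbot : (P ⊔ Q : Subgroup G) ≠ ⊥ := by
    intro h
    apply hP
    rw [← le_bot_iff, ← h]; exact le_sup_left
  have hNtop := mc.normalizer_ne_top w hLbot hL
  have hAn : ((P : Subgroup G).subgroupOf A).Normal :=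
    (Subgroup.normal_subgroupOf_iff_le_normalizer hPA).mpr (le_normalizer_sylow w.nilA P hPA)
  have hBn : ((Q : Subgroup G).subgroupOf B).Normal :=
    (Subgroup.normal_subgroupOf_iff_le_normalizer hQB).mpr (le_normalizer_sylow w.nilB Q hQB)
  have hfact : Factd A B (Subgroup.normalizer ((P ⊔ Q : Subgroup G) : Set G)) := by
    intro g hg
    obtain ⟨h, hh, k, hk, hgk⟩ := Cfsg.Agent.S0562.result A B P Q w.mul hPA hAn hQB hBn g hg
    exact ⟨h, ⟨hh.2, hh.1⟩, k, ⟨hk.2, hk.1⟩, hgk⟩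
  have hsolv := mc.solvable_of_factd w hfact hNtop
  have hpB : ¬ p ∣ Nat.card B := w.not_dvd_right_of_dvd_left Fact.out hp
  have hqA : ¬ q ∣ Nat.card A := w.symm.not_dvd_right_of_dvd_left Fact.out hq
  obtain ⟨S, -, hS⟩ := w.exists_subgroup_eq_inf_mul_inf hfact hsolv P Q hPA hQB hpB hqA
  have hPN : (P : Subgroup G) ≤ Subgroup.normalizer ((P ⊔ Q : Subgroup G) : Set G) :=
    le_sup_left.trans Subgroup.le_normalizer
  have hQN : (Q : Subgroup G) ≤ Subgroup.normalizer ((P ⊔ Q : Subgroup G) : Set G) :=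
    le_sup_right.trans Subgroup.le_normalizer
  rw [inf_eq_left.mpr hPN, inf_eq_left.mpr hQN] at hS
  have hSL : S ≤ (P ⊔ Q : Subgroup G) := by
    intro s hs
    have : s ∈ (S : Set G) := hs
    rw [hS] at this
    obtain ⟨x, hx, y, hy, rfl⟩ := this
    exact Subgroup.mul_mem _ (Subgroup.mem_sup_left hx) (Subgroup.mem_sup_right hy)
  have hStop : S ≠ ⊤ := by
    intro h
    apply hL
    rw [eq_top_iff, ← h]; exact hSL
  obtain ⟨N, hNn, hNtop', hor⟩ := Cfsg.Agent.S0566.result (P : Subgroup G) (Q : Subgroup G) hP hQ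
    (fun x => by
      obtain ⟨a, ha, b, hb, rfl⟩ := w.mul x
      refine ⟨MulAut.conj a • S, conj_smul_ne_top hStop a, ?_⟩
      have h1 : MulAut.conj a • (P : Subgroup G) = P :=
        H1.conj_smul_eq_self_iff_mem_normalizer.mpr (le_normalizer_sylow w.nilA P hPA ha)
      have h2 : MulAut.conj (a * b) • (Q : Subgroup G) = MulAut.conj a • (Q : Subgroup G) := by
        rw [map_mul, mul_smul,
          H1.conj_smul_eq_self_iff_mem_normalizer.mpr (le_normalizer_sylow w.nilB Q hQB hb)]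
      have h3 : ((P : Subgroup G) : Set G) *
          ((MulAut.conj (a * b) • (Q : Subgroup G) : Subgroup G) : Set G) =
          ((MulAut.conj a • (P : Subgroup G) : Subgroup G) : Set G) *
          ((MulAut.conj a • (Q : Subgroup G) : Subgroup G) : Set G) := by rw [h1, h2]
      rw [h3, conj_smul_mul_conj_smul, ← hS, Subgroup.coe_pointwise_smul])
  rcases mc.simple w N hNn with h | h
  · rcases hor with h1 | h1
    · exact hP (le_bot_iff.mp (h ▸ h1))
    · exact hQ (le_bot_iff.mp (h ▸ h1))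
  · exact hNtop' h

/-- Arbitrary Sylow subgroups of `G` for primes dividing `|A|` resp. `|B|` generate `G`. -/
theorem sylow_sup_eq_top' (mc : MC G) (w : WP A B) {r s : ℕ} [Fact r.Prime] [Fact s.Prime]
    (R : Sylow r G) (S : Sylow s G) (hr : r ∣ Nat.card A) (hs : s ∣ Nat.card B) :
    (R ⊔ S : Subgroup G) = ⊤ := by
  obtain ⟨P, hPA, -⟩ := w.exists_sylow_le_left' hr
  obtain ⟨Q, hQB, -⟩ := w.symm.exists_sylow_le_left' hs
  obtain ⟨x, hx⟩ := MulAction.exists_smul_eq G P R
  obtain ⟨y, hy⟩ := MulAction.exists_smul_eq G Q S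
  have w' := w.conj x y
  have hRA : (R : Subgroup G) ≤ MulAut.conj x • A := by
    rw [← hx, Sylow.coe_subgroup_smul]
    exact Subgroup.pointwise_smul_le_pointwise_smul_iff.mpr hPA
  have hSB : (S : Subgroup G) ≤ MulAut.conj y • B := by
    rw [← hy, Sylow.coe_subgroup_smul]
    exact Subgroup.pointwise_smul_le_pointwise_smul_iff.mpr hQB
  exact mc.sylow_sup_eq_top w' R S hRA hSB (by rwa [WP.card_conj_smul])
    (by rwa [WP.card_conj_smul])

/-- (Z_A): a nontrivial `t`-subgroup (`t ∣ |A|`) is not normalized by a Sylow `s`-subgroup of `G`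
with `s ∣ |B|`. -/
theorem false_of_sylow_le_normalizer (mc : MC G) (w : WP A B) {V : Subgroup G} {t : ℕ}
    [Fact t.Prime] (hV : IsPGroup t V) (hne : V ≠ ⊥) (ht : t ∣ Nat.card A) {s : ℕ} [Fact s.Prime]
    (S : Sylow s G) (hs : s ∣ Nat.card B)
    (hSV : (S : Subgroup G) ≤ Subgroup.normalizer (V : Set G)) : False := by
  obtain ⟨T, hVT⟩ := hV.exists_le_sylow
  obtain ⟨T₀, hT₀A, -⟩ := w.exists_sylow_le_left' ht
  obtain ⟨x, hx⟩ := MulAction.exists_smul_eq G T₀ T
  have w' := w.conj x x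
  obtain ⟨r, hr, hrt, hrA⟩ := mc.exists_prime_ne w t
  haveI : Fact r.Prime := ⟨hr⟩
  obtain ⟨R₀, hR₀A, -⟩ := w.exists_sylow_le_left' hrA
  have hTA : (T : Subgroup G) ≤ MulAut.conj x • A := by
    rw [← hx, Sylow.coe_subgroup_smul]
    exact Subgroup.pointwise_smul_le_pointwise_smul_iff.mpr hT₀A
  have hRA : ((x • R₀ : Sylow r G) : Subgroup G) ≤ MulAut.conj x • A := by
    rw [Sylow.coe_subgroup_smul]
    exact Subgroup.pointwise_smul_le_pointwise_smul_iff.mpr hR₀A
  have h1 : ((x • R₀ : Sylow r G) : Subgroup G) ≤ Subgroup.normalizer (V : Set G) := by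
    refine (sylow_le_centralizer w'.nilA (Ne.symm hrt) T (x • R₀) hTA hRA).trans ?_
    refine (Subgroup.centralizer_le (s := (V : Set G)) (t := ((T : Subgroup G) : Set G)) hVT).trans ?_
    exact Subgroup.centralizer_le_normalizer _
  have h2 := mc.sylow_sup_eq_top' w (x • R₀) S hrA hs
  apply mc.false_of_normalizer_eq_top w hV hne
  rw [eq_top_iff, ← h2]
  exact sup_le h1 hSV

/-- (g1): a subgroup containing `B` and a nontrivial central element of `A` is everything. -/
theorem eq_top_of_central_mem (mc : MC G) (w : WP A B) {a : G} (haA : a ∈ A)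
    (hc : ∀ x ∈ A, x * a = a * x) (ha1 : a ≠ 1) {M : Subgroup G} (haM : a ∈ M) (hBM : B ≤ M) :
    M = ⊤ := by
  have h1 : Subgroup.normalClosure ({a} : Set G) ≤ M := by
    show Subgroup.closure (Group.conjugatesOfSet ({a} : Set G)) ≤ M
    rw [Subgroup.closure_le]
    intro y hy
    rw [Group.mem_conjugatesOfSet_iff] at hy
    obtain ⟨a', ha', hconj⟩ := hy
    rw [Set.mem_singleton_iff] at ha'
    subst ha'
    obtain ⟨c, rfl⟩ := isConj_iff.mp hconj
    obtain ⟨b, hb, x, hx, rfl⟩ := w.symm.mul c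
    have h2 : b * x * a' * (b * x)⁻¹ = b * (x * a' * x⁻¹) * b⁻¹ := by group
    have h3 : x * a' * x⁻¹ = a' := by rw [hc x hx]; group
    rw [SetLike.mem_coe, h2, h3]
    exact M.mul_mem (M.mul_mem (hBM hb) haM) (M.inv_mem (hBM hb))
  rcases mc.simple w _ (Subgroup.normalClosure_normal (s := ({a} : Set G))) with h | h
  · exfalso
    apply ha1
    have : a ∈ Subgroup.normalClosure ({a} : Set G) :=
      Subgroup.subset_normalClosure (Set.mem_singleton a)
    rw [h, Subgroup.mem_bot] at this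
    exact this
  · rw [eq_top_iff, ← h]; exact h1

end MC

end Cfsg.Agent.Lib.H3.KW
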