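import Cfsg.Agent.Lib.H3.KW4
import Cfsg.Agent.Lib.H1.SolvableBasic
import Mathlib

/-!
helper3 library (Kegel–Wielandt, part 5): generation by central elements of prime order, and
the centralizers of central elements of prime order of the factors in a minimal counterexample.
-/

set_option autoImplicit false
open scoped Pointwise

namespace Cfsg.Agent.Lib.H3.KW

universe u
variable {G : Type u} [Group G] [Finite G]

omit [Finite G] in
theorem le_normalizer_map_subtype {H : Subgroup G} (V' : Subgroup H) (hV' : V'.Normal) :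
    H ≤ Subgroup.normalizer ((V'.map H.subtype : Subgroup G) : Set G) := by
  rw [← Subgroup.normal_subgroupOf_iff_le_normalizer (Subgroup.map_subtype_le V')]
  have : (V'.map H.subtype).subgroupOf H = V' :=
    Subgroup.comap_map_eq_self_of_injective H.subtype_injective V'
  rw [this]; exact hV'

omit [Finite G] in
theorem card_eq_mul_of_coe_eq_mul {S H K : Subgroup G} (h : (S : Set G) = (H : Set G) * (K : Set G))
    (hd : H ⊓ K = ⊥) : Nat.card S = Nat.card H * Nat.card K := by
  rw [← Nat.card_prod]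
  symm
  apply Nat.card_congr
  have hmem : ∀ x : H × K, x.1.1 * x.2.1 ∈ S := by
    intro x
    rw [← SetLike.mem_coe, h]; exact Set.mul_mem_mul x.1.2 x.2.2
  refine Equiv.ofBijective (fun x : H × K => (⟨x.1.1 * x.2.1, hmem x⟩ : S)) ⟨?_, ?_⟩
  · intro x y hxy
    apply Subgroup.mul_injective_of_disjoint (disjoint_iff.mpr hd)
    exact congrArg Subtype.val hxy
  · intro s
    have hs : s.1 ∈ (H : Set G) * (K : Set G) := by rw [← h]; exact s.2
    obtain ⟨x, hx, y, hy, hxy⟩ := hs
    exact ⟨(⟨x, hx⟩, ⟨y, hy⟩), Subtype.ext hxy⟩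

omit [Finite G] in
theorem mem_centralizer_zpowers_iff {a x : G} :
    x ∈ Subgroup.centralizer ((Subgroup.zpowers a : Subgroup G) : Set G) ↔ x * a = a * x := by
  rw [Subgroup.zpowers_eq_closure, Subgroup.centralizer_closure,
    Subgroup.mem_centralizer_singleton_iff]

omit [Finite G] in
theorem le_normalizer_zpowers_of_comm {A : Subgroup G} {a : G} (hc : ∀ x ∈ A, x * a = a * x) :
    A ≤ Subgroup.normalizer ((Subgroup.zpowers a : Subgroup G) : Set G) := by
  intro x hx
  exact Subgroup.centralizer_le_normalizer _ (mem_centralizer_zpowers_iff.mpr (hc x hx))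

theorem CPrime.dvd_card {A : Subgroup G} {a : G} {p : ℕ} (h : CPrime A a p) : p ∣ Nat.card A := by
  have h1 := orderOf_dvd_natCard (⟨a, h.mem⟩ : A)
  rwa [← Subgroup.orderOf_coe, h.order] at h1

theorem CPrime.mem_sylow {A : Subgroup G} {a : G} {p : ℕ} [Fact p.Prime] (h : CPrime A a p)
    (hA : Group.IsNilpotent A) (P : Sylow p G) (hPA : (P : Subgroup G) ≤ A) :
    a ∈ (P : Subgroup G) :=
  mem_sylow_of_orderOf hA P hPA h.mem (k := 1) (by rw [h.order, pow_one])

omit [Finite G] in
theorem CPrime.normal {A : Subgroup G} {a : G} {p : ℕ} (h : CPrime A a p) :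
    ((Subgroup.zpowers a).subgroupOf A).Normal :=
  (Subgroup.normal_subgroupOf_iff_le_normalizer (by rw [Subgroup.zpowers_le]; exact h.mem)).mpr
    (le_normalizer_zpowers_of_comm h.comm)

namespace WP

variable {A B : Subgroup G}

/-- A normal `t`-subgroup of a factorized subgroup lies in the Sylow `t`-subgroup of `A`. -/
theorem normal_isPGroup_le_sylow (w : WP A B) {N : Subgroup G} (hN : Factd A B N) {t : ℕ}
    [Fact t.Prime] {V : Subgroup G} (hVN : V ≤ N)
    (hNV : N ≤ Subgroup.normalizer (V : Set G)) (hVp : IsPGroup t V) (T : Sylow t G)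
    (hTA : (T : Subgroup G) ≤ A) (ht : ¬ t ∣ Nat.card B) : V ≤ T := by
  obtain ⟨T', hT', -⟩ := w.exists_sylow_subgroupOf hN T hTA ht
  have h1 : (V.subgroupOf N).Normal := (Subgroup.normal_subgroupOf_iff_le_normalizer hVN).mpr hNV
  have h2 : IsPGroup t (V.subgroupOf N) := hVp.comap_of_injective N.subtype N.subtype_injective
  have h3 : V.subgroupOf N ≤ T' := by
    apply le_sylow_of_normalizes T' h2
    rw [Subgroup.normalizer_eq_top_iff.mpr h1]; exact le_top
  intro v hv
  have h4 : (⟨v, hVN hv⟩ : N) ∈ (T' : Subgroup N) := h3 (Subgroup.mem_subgroupOf.mpr hv)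
  rw [hT'] at h4
  exact Subgroup.mem_subgroupOf.mp h4

end WP

namespace MC

variable {A B : Subgroup G}

/-- (g2): a central element of prime order of `A` and a Sylow subgroup of `B` generate `G`. -/
theorem zpowers_sup_sylow_eq_top (mc : MC G) (w : WP A B) {a : G} {p : ℕ} [Fact p.Prime]
    (ha : CPrime A a p) {q : ℕ} [Fact q.Prime] (Q : Sylow q G) (hQB : (Q : Subgroup G) ≤ B)
    (hq : q ∣ Nat.card B) : (Subgroup.zpowers a ⊔ Q : Subgroup G) = ⊤ := by
  by_contra hL
  have hQne : (Q : Subgroup G) ≠ ⊥ :=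
    Q.ne_bot_of_dvd_card (hq.trans (Subgroup.card_subgroup_dvd_card B))
  have hLbot : (Subgroup.zpowers a ⊔ Q : Subgroup G) ≠ ⊥ := by
    intro h
    apply hQne
    rw [← le_bot_iff, ← h]; exact le_sup_right
  have hNtop := mc.normalizer_ne_top w hLbot hL
  have haA : Subgroup.zpowers a ≤ A := by rw [Subgroup.zpowers_le]; exact ha.mem
  have hBn : ((Q : Subgroup G).subgroupOf B).Normal :=
    (Subgroup.normal_subgroupOf_iff_le_normalizer hQB).mpr (le_normalizer_sylow w.nilB Q hQB)
  have hfact : Factd A B (Subgroup.normalizer ((Subgroup.zpowers a ⊔ Q : Subgroup G) : Set G)) := by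
    intro g hg
    obtain ⟨h, hh, k, hk, hgk⟩ :=
      Cfsg.Agent.S0562.result A B (Subgroup.zpowers a) Q w.mul haA ha.normal hQB hBn g hg
    exact ⟨h, ⟨hh.2, hh.1⟩, k, ⟨hk.2, hk.1⟩, hgk⟩
  have hsolv := mc.solvable_of_factd w hfact hNtop
  have hpA : p ∣ Nat.card A := ha.dvd_card
  have hpB : ¬ p ∣ Nat.card B := w.not_dvd_right_of_dvd_left Fact.out hpA
  have hqA : ¬ q ∣ Nat.card A := w.symm.not_dvd_right_of_dvd_left Fact.out hq
  obtain ⟨P, hPA, -⟩ := w.exists_sylow_le_left' hpA
  obtain ⟨H, hHN, hH⟩ := w.exists_subgroup_eq_inf_mul_inf hfact hsolv P Q hPA hQB hpB hqA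
  have hQN : (Q : Subgroup G) ≤
      Subgroup.normalizer ((Subgroup.zpowers a ⊔ Q : Subgroup G) : Set G) :=
    le_sup_right.trans Subgroup.le_normalizer
  rw [inf_eq_left.mpr hQN] at hH
  have haP : a ∈ (P : Subgroup G) := ha.mem_sylow w.nilA P hPA
  have haN : a ∈ Subgroup.normalizer ((Subgroup.zpowers a ⊔ Q : Subgroup G) : Set G) :=
    Subgroup.le_normalizer (Subgroup.mem_sup_left (Subgroup.mem_zpowers a))
  have haH : a ∈ H := by
    rw [← SetLike.mem_coe, hH]
    exact ⟨a, ⟨haP, haN⟩, 1, Subgroup.one_mem _, mul_one a⟩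
  have hQH : (Q : Subgroup G) ≤ H := by
    intro y hy
    rw [← SetLike.mem_coe, hH]
    exact ⟨1, Subgroup.one_mem _, y, hy, one_mul y⟩
  haveI := hsolv
  haveI hHsolv : Group.IsSolvable H :=
    Group.isSolvable_of_isSolvable_injective (f := Subgroup.inclusion hHN)
      (Subgroup.inclusion_injective hHN)
  haveI : Nontrivial H := ⟨⟨⟨a, haH⟩, 1, fun h => ha.ne_one (congrArg Subtype.val h)⟩⟩
  obtain ⟨t, ht, V', hV'n, hV'p, hV'ne⟩ := H1.exists_normal_isPGroup_ne_bot_of_isSolvable (G := H)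
  have hVp : IsPGroup t (V'.map H.subtype) := hV'p.map _
  have hVne : V'.map H.subtype ≠ ⊥ := by
    intro h
    exact hV'ne ((Subgroup.map_eq_bot_iff_of_injective V' H.subtype_injective).mp h)
  have hHV := le_normalizer_map_subtype V' hV'n
  have hVH : V'.map H.subtype ≤ H := Subgroup.map_subtype_le V'
  have hdisj : ((P : Subgroup G) ⊓ Subgroup.normalizer ((Subgroup.zpowers a ⊔ Q : Subgroup G) : Set G))
      ⊓ (Q : Subgroup G) = ⊥ := by
    have hpq : p ≠ q := by
      rintro rfl
      exact hpB hq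
    have := (IsPGroup.disjoint_of_ne p q hpq _ _ P.isPGroup' Q.isPGroup').eq_bot
    rw [← le_bot_iff, ← this]
    exact inf_le_inf_right _ inf_le_left
  have hcardH := card_eq_mul_of_coe_eq_mul hH hdisj
  have htH : t ∣ Nat.card H := dvd_card_of_isPGroup_ne_bot hVp hVne hVH
  have ht' : t = p ∨ t = q := by
    rw [hcardH] at htH
    obtain ⟨i, hi⟩ := IsPGroup.iff_card.mp (P.isPGroup'.to_le
      (inf_le_left : (P : Subgroup G) ⊓ Subgroup.normalizer
        ((Subgroup.zpowers a ⊔ Q : Subgroup G) : Set G) ≤ P))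
    obtain ⟨j, hj⟩ := IsPGroup.iff_card.mp Q.isPGroup'
    rw [hi, hj] at htH
    rcases (Nat.Prime.dvd_mul ht.out).mp htH with h | h
    · left
      exact (Nat.prime_dvd_prime_iff_eq ht.out Fact.out).mp (ht.out.dvd_of_dvd_pow h)
    · right
      exact (Nat.prime_dvd_prime_iff_eq ht.out Fact.out).mp (ht.out.dvd_of_dvd_pow h)
  rcases ht' with rfl | rfl
  · exact mc.false_of_sylow_le_normalizer w hVp hVne hpA Q hq (hQH.trans hHV)
  · have hVQ : V'.map H.subtype ≤ Q := le_sylow_of_normalizes Q hVp (hQH.trans hHV)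
    have hBV : B ≤ Subgroup.normalizer ((V'.map H.subtype : Subgroup G) : Set G) := by
      apply w.symm.le_of_forall_sylow_le
      intro s _ T hTB
      by_cases hst : s = t
      · subst hst
        have := sylow_unique w.nilB T Q hTB hQB
        subst this
        exact hQH.trans hHV
      · refine (sylow_le_centralizer w.nilB (Ne.symm hst) Q T hQB hTB).trans ?_
        refine (Subgroup.centralizer_le (s := ((V'.map H.subtype : Subgroup G) : Set G))
          (t := ((Q : Subgroup G) : Set G)) hVQ).trans ?_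
        exact Subgroup.centralizer_le_normalizer _
    have := mc.eq_top_of_central_mem w ha.mem ha.comm ha.ne_one (hHV haH) hBV
    exact mc.false_of_normalizer_eq_top w hVp hVne this

/-- auxiliary step for (g3) -/
theorem g3_aux (mc : MC G) (w : WP A B) {b : G} {q : ℕ} [Fact q.Prime] (hb : CPrime B b q)
    {N : Subgroup G} (hfact : Factd A B N) (hbN : b ∈ N) {t : ℕ} [Fact t.Prime] {V : Subgroup G}
    (hVp : IsPGroup t V) (hVne : V ≠ ⊥) (hVN : V ≤ N)
    (hNV : N ≤ Subgroup.normalizer (V : Set G)) (ht : t ∣ Nat.card A) : False := by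
  have htB : ¬ t ∣ Nat.card B := w.not_dvd_right_of_dvd_left Fact.out ht
  obtain ⟨T, hTA, -⟩ := w.exists_sylow_le_left' ht
  have hVT : V ≤ T := w.normal_isPGroup_le_sylow hfact hVN hNV hVp T hTA htB
  obtain ⟨r, hr, hrt, hrA⟩ := mc.exists_prime_ne w t
  haveI : Fact r.Prime := ⟨hr⟩
  obtain ⟨R, hRA, -⟩ := w.exists_sylow_le_left' hrA
  have h1 : (R : Subgroup G) ≤ Subgroup.normalizer (V : Set G) := by
    refine (sylow_le_centralizer w.nilA (Ne.symm hrt) T R hTA hRA).trans ?_
    refine (Subgroup.centralizer_le (s := (V : Set G)) (t := ((T : Subgroup G) : Set G)) hVT).trans ?_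
    exact Subgroup.centralizer_le_normalizer _
  have h2 := mc.zpowers_sup_sylow_eq_top w.symm hb R hRA hrA
  apply mc.false_of_normalizer_eq_top w hVp hVne
  rw [eq_top_iff, ← h2]
  refine sup_le ?_ h1
  rw [Subgroup.zpowers_le]
  exact hNV hbN

/-- (g3): central elements of prime order of `A` and `B` generate `G`. -/
theorem zpowers_sup_zpowers_eq_top (mc : MC G) (w : WP A B) {a b : G} {p q : ℕ} [Fact p.Prime]
    [Fact q.Prime] (ha : CPrime A a p) (hb : CPrime B b q) :
    (Subgroup.zpowers a ⊔ Subgroup.zpowers b : Subgroup G) = ⊤ := by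
  by_contra hL
  have hLbot : (Subgroup.zpowers a ⊔ Subgroup.zpowers b : Subgroup G) ≠ ⊥ := by
    intro h
    apply ha.ne_one
    have : a ∈ (Subgroup.zpowers a ⊔ Subgroup.zpowers b : Subgroup G) :=
      Subgroup.mem_sup_left (Subgroup.mem_zpowers a)
    rwa [h, Subgroup.mem_bot] at this
  have hNtop := mc.normalizer_ne_top w hLbot hL
  have haA : Subgroup.zpowers a ≤ A := by rw [Subgroup.zpowers_le]; exact ha.mem
  have hbB : Subgroup.zpowers b ≤ B := by rw [Subgroup.zpowers_le]; exact hb.mem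
  have hfact : Factd A B (Subgroup.normalizer
      ((Subgroup.zpowers a ⊔ Subgroup.zpowers b : Subgroup G) : Set G)) := by
    intro g hg
    obtain ⟨h, hh, k, hk, hgk⟩ := Cfsg.Agent.S0562.result A B (Subgroup.zpowers a)
      (Subgroup.zpowers b) w.mul haA ha.normal hbB hb.normal g hg
    exact ⟨h, ⟨hh.2, hh.1⟩, k, ⟨hk.2, hk.1⟩, hgk⟩
  haveI hsolv := mc.solvable_of_factd w hfact hNtop
  have haN : a ∈ Subgroup.normalizer
      ((Subgroup.zpowers a ⊔ Subgroup.zpowers b : Subgroup G) : Set G) :=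
    Subgroup.le_normalizer (Subgroup.mem_sup_left (Subgroup.mem_zpowers a))
  have hbN : b ∈ Subgroup.normalizer
      ((Subgroup.zpowers a ⊔ Subgroup.zpowers b : Subgroup G) : Set G) :=
    Subgroup.le_normalizer (Subgroup.mem_sup_right (Subgroup.mem_zpowers b))
  haveI : Nontrivial (Subgroup.normalizer
      ((Subgroup.zpowers a ⊔ Subgroup.zpowers b : Subgroup G) : Set G)) :=
    ⟨⟨⟨a, haN⟩, 1, fun h => ha.ne_one (congrArg Subtype.val h)⟩⟩
  obtain ⟨t, ht, V', hV'n, hV'p, hV'ne⟩ := H1.exists_normal_isPGroup_ne_bot_of_isSolvable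
    (G := Subgroup.normalizer ((Subgroup.zpowers a ⊔ Subgroup.zpowers b : Subgroup G) : Set G))
  have hVp : IsPGroup t (V'.map (Subgroup.subtype _)) := hV'p.map _
  have hVne : V'.map (Subgroup.subtype _) ≠ ⊥ := by
    intro h
    exact hV'ne ((Subgroup.map_eq_bot_iff_of_injective V' (Subgroup.subtype_injective _)).mp h)
  have hNV := le_normalizer_map_subtype V' hV'n
  have hVN : V'.map (Subgroup.subtype _) ≤ _ := Subgroup.map_subtype_le V'
  have htG : t ∣ Nat.card G :=
    (dvd_card_of_isPGroup_ne_bot hVp hVne hVN).trans (Subgroup.card_subgroup_dvd_card _)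
  rcases w.dvd_left_or_right ht.out htG with h | h
  · exact mc.g3_aux w hb hfact hbN hVp hVne hVN hNV h
  · exact mc.g3_aux w.symm ha (w.factd_symm hfact) haN hVp hVne hVN hNV h

/-- (E1): the centralizer of a central element of prime order of `A` is `A`. -/
theorem mem_of_commute_cprime (mc : MC G) (w : WP A B) {a : G} {p : ℕ} [Fact p.Prime]
    (ha : CPrime A a p) {g : G} (hg : g * a = a * g) : g ∈ A := by
  have hB1 : Nat.card B ≠ 1 := fun h => mc.ne_bot_right w (Subgroup.eq_bot_of_card_eq B h)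
  obtain ⟨q, hq, hqB⟩ := Nat.exists_prime_and_dvd hB1
  haveI : Fact q.Prime := ⟨hq⟩
  obtain ⟨b, hb⟩ := w.symm.exists_cprime hqB
  obtain ⟨a', ha', b', hb', rfl⟩ := w.mul g
  have h1 : b' * a = a * b' := by
    have h2 := ha.comm a' ha'
    have h3 : b' * a = a'⁻¹ * (a' * b' * a) := by group
    rw [h3, hg, ← mul_assoc, ← mul_assoc]
    have h4 : a'⁻¹ * a = a * a'⁻¹ := ha.comm a'⁻¹ (A.inv_mem ha')
    rw [h4]; group
  have h2 : b' * b = b * b' := hb.comm b' hb'
  have h3 : (Subgroup.zpowers a ⊔ Subgroup.zpowers b : Subgroup G) ≤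
      Subgroup.centralizer ({b'} : Set G) := by
    apply sup_le
    · rw [Subgroup.zpowers_le, Subgroup.mem_centralizer_singleton_iff]; exact h1.symm
    · rw [Subgroup.zpowers_le, Subgroup.mem_centralizer_singleton_iff]; exact h2.symm
  rw [mc.zpowers_sup_zpowers_eq_top w ha hb, top_le_iff] at h3
  have h4 : b' ∈ Subgroup.center G := by
    rw [Subgroup.mem_center_iff]
    intro z
    have : z ∈ Subgroup.centralizer ({b'} : Set G) := by rw [h3]; exact Subgroup.mem_top z
    exact Subgroup.mem_centralizer_singleton_iff.mp this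
  rw [mc.center_eq_bot w, Subgroup.mem_bot] at h4
  rw [h4, mul_one]; exact ha'

/-- (E2): control of fusion of central elements of prime order. -/
theorem conj_smul_eq_of_conj_mem (mc : MC G) (w : WP A B) {a : G} {p : ℕ} [Fact p.Prime]
    (ha : CPrime A a p) {g : G} (hg : g * a * g⁻¹ ∈ A) : MulAut.conj g • A = A := by
  have w' := w.conj g g
  have ha' := ha.conj g
  have hpA : p ∣ Nat.card A := ha.dvd_card
  obtain ⟨P, hPA, -⟩ := w.exists_sylow_le_left' hpA
  have ha'P : g * a * g⁻¹ ∈ (P : Subgroup G) :=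
    mem_sylow_of_orderOf w.nilA P hPA hg (k := 1) (by rw [ha'.order, pow_one])
  have hT : ∀ (t : ℕ) [Fact t.Prime] (T : Sylow t G), (T : Subgroup G) ≤ A → t ≠ p →
      (T : Subgroup G) ≤ MulAut.conj g • A := by
    intro t _ T hTA htp y hy
    apply mc.mem_of_commute_cprime w' ha'
    exact (sylow_commute w.nilA (Ne.symm htp) P T hPA hTA ha'P hy).symm
  obtain ⟨r, hr, hrp, hrA⟩ := mc.exists_prime_ne w p
  haveI : Fact r.Prime := ⟨hr⟩
  obtain ⟨a₁, ha₁⟩ := w.exists_cprime hrA
  obtain ⟨R, hRA, -⟩ := w.exists_sylow_le_left' hrA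
  have ha₁R : a₁ ∈ (R : Subgroup G) := ha₁.mem_sylow w.nilA R hRA
  have ha₁g : a₁ ∈ MulAut.conj g • A := hT r R hRA hrp ha₁R
  have hgP : ((g • P : Sylow p G) : Subgroup G) ≤ MulAut.conj g • A := by
    rw [Sylow.coe_subgroup_smul]
    exact Subgroup.pointwise_smul_le_pointwise_smul_iff.mpr hPA
  have hgR : ((g • R : Sylow r G) : Subgroup G) ≤ MulAut.conj g • A := by
    rw [Sylow.coe_subgroup_smul]
    exact Subgroup.pointwise_smul_le_pointwise_smul_iff.mpr hRA
  have ha₁gR : a₁ ∈ ((g • R : Sylow r G) : Subgroup G) :=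
    mem_sylow_of_orderOf w'.nilA (g • R) hgR ha₁g (k := 1) (by rw [ha₁.order, pow_one])
  have hgPA : ((g • P : Sylow p G) : Subgroup G) ≤ A := by
    intro y hy
    apply mc.mem_of_commute_cprime w ha₁
    exact sylow_commute w'.nilA (Ne.symm hrp) (g • P) (g • R) hgP hgR hy ha₁gR
  have hPeq : g • P = P := sylow_unique w.nilA (g • P) P hgPA hPA
  have hle : A ≤ MulAut.conj g • A := by
    apply w.le_of_forall_sylow_le
    intro t _ T hTA
    by_cases htp : t = p
    · subst htp
      have := sylow_unique w.nilA T P hTA hPA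
      subst this
      have h5 := hgP
      rw [hPeq] at h5
      exact h5
    · exact hT t T hTA htp
  exact (Subgroup.eq_of_le_of_card_ge hle (by rw [WP.card_conj_smul])).symm

end MC

end Cfsg.Agent.Lib.H3.KW
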