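import Cfsg.Agent.Lib.H3.KW5
import Cfsg.Agent.Lib.H1.PCore
import Cfsg.Agent.Lib.H1.Fitting
import Cfsg.Agent.S1326
import Cfsg.Agent.S0552
import Mathlib

/-!
helper3 library (Kegel–Wielandt, part 6): centralizers of elements of `B` normalizing `A`.
-/

set_option autoImplicit false
open scoped Pointwise

namespace Cfsg.Agent.Lib.H3.KW

universe u
variable {G : Type u} [Group G] [Finite G]

namespace WP

variable {A B : Subgroup G}

omit [Finite G] in
/-- The centralizer of an element of `B` normalizing `A` is factorized. -/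
theorem factd_centralizer (w : WP A B) {u : G} (huB : u ∈ B)
    (huA : u ∈ Subgroup.normalizer (A : Set G)) :
    Factd A B (Subgroup.centralizer ({u} : Set G)) := by
  intro g hg
  rw [Subgroup.mem_centralizer_singleton_iff] at hg
  obtain ⟨a, ha, b, hb, rfl⟩ := w.mul g
  have hu' : u⁻¹ ∈ Subgroup.normalizer (A : Set G) := Subgroup.inv_mem _ huA
  have h1 : u⁻¹ * a * u ∈ A := by
    have := (Subgroup.mem_normalizer_iff.mp hu' a).mp ha
    rwa [inv_inv] at this
  have h2 : u⁻¹ * b * u ∈ B := B.mul_mem (B.mul_mem (B.inv_mem huB) hb) huB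
  have h3 : (u⁻¹ * a * u) * (u⁻¹ * b * u) = a * b := by
    have : (u⁻¹ * a * u) * (u⁻¹ * b * u) = u⁻¹ * (a * b * u) := by group
    rw [this, hg]; group
  obtain ⟨h4, h5⟩ := w.unique h1 ha h2 hb h3
  refine ⟨a, ⟨ha, ?_⟩, b, ⟨hb, ?_⟩, rfl⟩
  · show a ∈ Subgroup.centralizer _
    rw [Subgroup.mem_centralizer_singleton_iff]
    have : a * u = u * (u⁻¹ * a * u) := by group
    rw [this, h4]
  · show b ∈ Subgroup.centralizer _
    rw [Subgroup.mem_centralizer_singleton_iff]
    have : b * u = u * (u⁻¹ * b * u) := by group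
    rw [this, h5]

/-- The normalizer of `A` normalizes the Sylow subgroups of `G` in `A`. -/
theorem normalizer_le_normalizer_sylow (w : WP A B) {r : ℕ} [Fact r.Prime] (R : Sylow r G)
    (hRA : (R : Subgroup G) ≤ A) :
    Subgroup.normalizer (A : Set G) ≤ Subgroup.normalizer ((R : Subgroup G) : Set G) := by
  intro g hg
  have h1 : MulAut.conj g • A = A := H1.conj_smul_eq_self_iff_mem_normalizer.mpr hg
  have h2 : ((g • R : Sylow r G) : Subgroup G) ≤ A := by
    rw [Sylow.coe_subgroup_smul, ← h1]
    exact Subgroup.pointwise_smul_le_pointwise_smul_iff.mpr hRA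
  have h3 : g • R = R := sylow_unique w.nilA (g • R) R h2 hRA
  apply H1.conj_smul_eq_self_iff_mem_normalizer.mp
  rw [← Sylow.coe_subgroup_smul, h3]

/-- Elements of `r`-power order (`r ∣ |A|`) normalizing `A` lie in `A`. -/
theorem mem_of_mem_normalizer_of_orderOf (w : WP A B) {y : G} {r k : ℕ} [Fact r.Prime]
    (hr : r ∣ Nat.card A) (hy : y ∈ Subgroup.normalizer (A : Set G)) (hyo : orderOf y = r ^ k) :
    y ∈ A := by
  obtain ⟨R, hRA, -⟩ := w.exists_sylow_le_left' hr
  have h1 : IsPGroup r (Subgroup.zpowers y) := by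
    apply IsPGroup.of_card (n := k)
    rw [Nat.card_zpowers, hyo]
  have h2 : Subgroup.zpowers y ≤ Subgroup.normalizer ((R : Subgroup G) : Set G) := by
    rw [Subgroup.zpowers_le]
    exact w.normalizer_le_normalizer_sylow R hRA hy
  exact hRA (le_sylow_of_le_normalizer R h1 h2 (Subgroup.mem_zpowers y))

/-- An element normalizing `A` but outside `A` has a power of prime order `q ∣ |B|`. -/
theorem exists_pow_orderOf_of_mem_normalizer (w : WP A B) {y : G}
    (hy : y ∈ Subgroup.normalizer (A : Set G)) (hyA : y ∉ A) :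
    ∃ (k q : ℕ), q.Prime ∧ q ∣ Nat.card B ∧ orderOf (y ^ k) = q := by
  haveI : (A.subgroupOf (Subgroup.normalizer (A : Set G))).Normal := Subgroup.normal_in_normalizer
  set π := QuotientGroup.mk' (A.subgroupOf (Subgroup.normalizer (A : Set G))) with hπ
  set y' : Subgroup.normalizer (A : Set G) := ⟨y, hy⟩ with hy'
  have h1 : π y' ≠ 1 := by
    intro h
    rw [hπ, QuotientGroup.mk'_apply, QuotientGroup.eq_one_iff, Subgroup.mem_subgroupOf] at h
    exact hyA h
  have h2 : orderOf (π y') ≠ 1 := by
    intro h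
    exact h1 (orderOf_eq_one_iff.mp h)
  obtain ⟨q, hq, hqdvd⟩ := Nat.exists_prime_and_dvd h2
  have h3 : orderOf (π y') ∣ Nat.card B := by
    refine (orderOf_dvd_natCard _).trans ?_
    rw [← w.index_left]
    have : Nat.card (↥(Subgroup.normalizer (A : Set G)) ⧸
        A.subgroupOf (Subgroup.normalizer (A : Set G))) = A.relIndex (Subgroup.normalizer (A : Set G)) := rfl
    rw [this]
    exact Subgroup.relIndex_dvd_index_of_le Subgroup.le_normalizer
  have h4 : orderOf (π y') ∣ orderOf y := by
    have := orderOf_map_dvd π y'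
    rwa [hy', Subgroup.orderOf_mk] at this
  have h5 : q ∣ orderOf y := hqdvd.trans h4
  exact ⟨orderOf y / q, q, hq, hqdvd.trans h3,
    orderOf_pow_orderOf_div (orderOf_pos y).ne' h5⟩

end WP

namespace MC

variable {A B : Subgroup G}

/-- (Lemma F): if `u ∈ B` has prime order and normalizes `A`, then `C_G(u)` normalizes `B`. -/
theorem conj_smul_eq_of_commute (mc : MC G) (w : WP A B) {u : G} {q : ℕ} [hqp : Fact q.Prime]
    (huB : u ∈ B) (huA : u ∈ Subgroup.normalizer (A : Set G)) (huo : orderOf u = q) {x : G}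
    (hxu : x * u = u * x) : MulAut.conj x • B = B := by
  have hu1 : u ≠ 1 := by
    intro h
    rw [h, orderOf_one] at huo
    exact hqp.out.one_lt.ne huo
  have hLtop : Subgroup.centralizer ({u} : Set G) ≠ ⊤ := by
    intro h
    apply hu1
    have h1 : u ∈ Subgroup.center G := by
      rw [Subgroup.mem_center_iff]
      intro z
      have : z ∈ Subgroup.centralizer ({u} : Set G) := by rw [h]; exact Subgroup.mem_top z
      exact Subgroup.mem_centralizer_singleton_iff.mp this
    rwa [mc.center_eq_bot w, Subgroup.mem_bot] at h1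
  have hfact := w.factd_centralizer huB huA
  haveI hsolv : Group.IsSolvable (Subgroup.centralizer ({u} : Set G)) :=
    mc.solvable_of_factd w hfact hLtop
  have hqB : q ∣ Nat.card B := by
    have h1 := orderOf_dvd_natCard (⟨u, huB⟩ : B)
    rwa [Subgroup.orderOf_mk, huo] at h1
  obtain ⟨Q, hQB, -⟩ := w.symm.exists_sylow_le_left' hqB
  have huQ : u ∈ (Q : Subgroup G) :=
    mem_sylow_of_orderOf w.nilB Q hQB huB (k := 1) (by rw [huo, pow_one])
  obtain ⟨s, hs, hsq, hsB⟩ := mc.exists_prime_ne w.symm q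
  haveI : Fact s.Prime := ⟨hs⟩
  obtain ⟨S, hSB, -⟩ := w.symm.exists_sylow_le_left' hsB
  have hSL : (S : Subgroup G) ≤ Subgroup.centralizer ({u} : Set G) := by
    intro y hy
    rw [Subgroup.mem_centralizer_singleton_iff]
    exact (sylow_commute w.nilB (Ne.symm hsq) Q S hQB hSB huQ hy).symm
  -- the `t`-cores of `L` for `t ∣ |A|` are trivial
  have hcore : ∀ (t : ℕ) [Fact t.Prime], t ∣ Nat.card A →
      Cfsg.pCore t (Subgroup.centralizer ({u} : Set G)) = ⊥ := by
    intro t _ ht
    by_contra hne
    have hVp : IsPGroup t ((Cfsg.pCore t (Subgroup.centralizer ({u} : Set G))).map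
        (Subgroup.subtype _)) := (H1.pCore_isPGroup t _).map _
    have hVne : (Cfsg.pCore t (Subgroup.centralizer ({u} : Set G))).map (Subgroup.subtype _) ≠ ⊥ := by
      intro h
      exact hne ((Subgroup.map_eq_bot_iff_of_injective _ (Subgroup.subtype_injective _)).mp h)
    have hLV := le_normalizer_map_subtype _ (H1.pCore_normal t (Subgroup.centralizer ({u} : Set G)))
    exact mc.false_of_sylow_le_normalizer w hVp hVne ht S hsB (hSL.trans hLV)
  -- the Fitting subgroup of `L` lies in `B`
  have hFB : ∀ f : Subgroup.centralizer ({u} : Set G),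
      f ∈ Cfsg.fittingSubgroup (Subgroup.centralizer ({u} : Set G)) → (f : G) ∈ B := by
    rw [H1.fittingSubgroup_eq_iSup_pCore]
    suffices h : (⨆ p : Nat.Primes, Cfsg.pCore (p : ℕ) (Subgroup.centralizer ({u} : Set G))) ≤
        B.subgroupOf (Subgroup.centralizer ({u} : Set G)) from
      fun f hf => Subgroup.mem_subgroupOf.mp (h hf)
    apply iSup_le
    rintro ⟨t, ht⟩
    haveI : Fact t.Prime := ⟨ht⟩
    by_cases htA : t ∣ Nat.card A
    · rw [hcore t htA]; exact bot_le
    · have w' := w.symm.restrict (w.factd_symm hfact)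
      have htA' : ¬ t ∣ Nat.card (A.subgroupOf (Subgroup.centralizer ({u} : Set G))) :=
        fun h => htA (h.trans (card_subgroupOf_dvd A _))
      obtain ⟨T', hT'⟩ := w'.exists_sylow_le_left htA'
      exact (H1.pCore_le_sylow T').trans hT'
  -- a central element of `B` of prime order lies in the Fitting subgroup of `L`
  obtain ⟨b, hb⟩ := w.symm.exists_cprime hqB
  have hbL : b ∈ Subgroup.centralizer ({u} : Set G) := by
    rw [Subgroup.mem_centralizer_singleton_iff]
    exact (hb.comm u huB).symm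
  have hbF : (⟨b, hbL⟩ : Subgroup.centralizer ({u} : Set G)) ∈
      Cfsg.fittingSubgroup (Subgroup.centralizer ({u} : Set G)) := by
    apply (Cfsg.Agent.S1326.result.mpr Cfsg.Agent.S0552.layer_eq_bot_of_isSolvable)
    rw [Subgroup.mem_centralizer_iff]
    intro f hf
    apply Subtype.ext
    exact hb.comm f.1 (hFB f hf)
  have hxL : x ∈ Subgroup.centralizer ({u} : Set G) := by
    rw [Subgroup.mem_centralizer_singleton_iff]; exact hxu
  have h1 := (H1.fittingSubgroup_normal (Subgroup.centralizer ({u} : Set G))).conj_mem _ hbF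
    ⟨x, hxL⟩
  have hxb : x * b * x⁻¹ ∈ B := hFB _ h1
  exact mc.conj_smul_eq_of_conj_mem w.symm hb hxb

end MC

end Cfsg.Agent.Lib.H3.KW
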