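import Cfsg.Agent.Lib.H3.KW6
import Cfsg.Agent.Lib.H1.NilMax
import Cfsg.Agent.S0558
import Mathlib

/-!
helper3 library (Kegel–Wielandt, part 7): centralizers of elements of prime order of `A` normalize
`A`; `A` is a trivial-intersection subgroup.
-/

set_option autoImplicit false
open scoped Pointwise

namespace Cfsg.Agent.Lib.H3.KW

universe u
variable {G : Type u} [Group G] [Finite G]

namespace MC

variable {A B : Subgroup G}

/-- Case (ii): if `C_G(x) ∩ N_G(A) ≤ A` then `C_G(x) ≤ A`. -/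
theorem centralizer_le_of_inf_normalizer_le_aux (mc : MC G) (w : WP A B) {x : G} {p : ℕ}
    [hp : Fact p.Prime] (hxA : x ∈ A) (hxo : orderOf x = p) (C : Subgroup G)
    (hCdef : C = Subgroup.centralizer ({x} : Set G))
    (F1 : ∀ y, y ∈ C → y ∈ Subgroup.normalizer (A : Set G) →
      y ∈ A) : C ≤ A := by
  haveI hHnil : Group.IsNilpotent (A.subgroupOf C) :=
    nilpotent_subgroupOf w.nilA _
  have hcen : ∀ {z : G} {r : ℕ}, CPrime A z r → z ∈ C := by
    intro z r hz
    rw [hCdef, Subgroup.mem_centralizer_singleton_iff]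
    exact (hz.comm x hxA).symm
  have hmemT : ∀ (t : ℕ) [Fact t.Prime]
      (T : Sylow t (A.subgroupOf C))
      (n : C)
      (_ : n ∈ A.subgroupOf C) (k : ℕ)
      (_ : orderOf n = t ^ k), n ∈ (T : Subgroup (A.subgroupOf C)).map (Subgroup.subtype (A.subgroupOf C)) := by
    intro t _ T n hn k hno
    have h1 : IsPGroup t (Subgroup.zpowers
        (⟨n, hn⟩ : A.subgroupOf C)) := by
      apply IsPGroup.of_card (n := k)
      rw [Nat.card_zpowers, Subgroup.orderOf_mk, hno]
    have h2 : Subgroup.zpowers (⟨n, hn⟩ : A.subgroupOf C) ≤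
        Subgroup.normalizer ((T : Subgroup (A.subgroupOf C)) : Set (A.subgroupOf C)) := by
      rw [Subgroup.normalizer_eq_top_iff.mpr inferInstance]; exact le_top
    have := le_sylow_of_le_normalizer T h1 h2 (Subgroup.mem_zpowers _)
    exact ⟨⟨n, hn⟩, this, rfl⟩
  have hnorm : ∀ t : ℕ, t.Prime →
      t ∣ Nat.card (A.subgroupOf C) →
      ∀ T : Sylow t (A.subgroupOf C),
      Subgroup.normalizer ((((T : Subgroup (A.subgroupOf C)).map (Subgroup.subtype (A.subgroupOf C)) :
        Subgroup C) : Set _)) =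
        A.subgroupOf C := by
    intro t ht htH T
    haveI : Fact t.Prime := ⟨ht⟩
    apply le_antisymm
    · intro c hc
      have htA : t ∣ Nat.card A := htH.trans (card_subgroupOf_dvd A _)
      obtain ⟨a₀, ha₀⟩ := w.exists_cprime htA
      have ha₀C := hcen ha₀
      have ha₀H : (⟨a₀, ha₀C⟩ : C) ∈
          A.subgroupOf C := Subgroup.mem_subgroupOf.mpr ha₀.mem
      have ha₀T := hmemT t T ⟨a₀, ha₀C⟩ ha₀H 1 (by rw [Subgroup.orderOf_mk, ha₀.order, pow_one])
      have h1 := (Subgroup.mem_normalizer_iff.mp hc _).mp ha₀T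
      have h2 := Subgroup.map_subtype_le (T : Subgroup (A.subgroupOf C)) h1
      have h3 : (c : G) * a₀ * (c : G)⁻¹ ∈ A := Subgroup.mem_subgroupOf.mp h2
      have h4 := mc.conj_smul_eq_of_conj_mem w ha₀ h3
      have h5 : (c : G) ∈ Subgroup.normalizer (A : Set G) :=
        H1.conj_smul_eq_self_iff_mem_normalizer.mp h4
      exact Subgroup.mem_subgroupOf.mpr (F1 c c.2 h5)
    · exact le_normalizer_map_subtype (T : Subgroup (A.subgroupOf C)) inferInstance
  have hnot : ∀ t : ℕ, t.Prime → ∀ P : Sylow t C,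
      (P : Subgroup _) ≠ A.subgroupOf C := by
    intro t ht P hPH
    haveI : Fact t.Prime := ⟨ht⟩
    obtain ⟨r, hr, hrt, hrA⟩ := mc.exists_prime_ne w t
    haveI : Fact r.Prime := ⟨hr⟩
    obtain ⟨a₁, ha₁⟩ := w.exists_cprime hrA
    have ha₁C := hcen ha₁
    have ha₁H : (⟨a₁, ha₁C⟩ : C) ∈
        A.subgroupOf C := Subgroup.mem_subgroupOf.mpr ha₁.mem
    rw [← hPH] at ha₁H
    obtain ⟨k, hk⟩ := (IsPGroup.iff_orderOf.mp P.isPGroup') ⟨⟨a₁, ha₁C⟩, ha₁H⟩
    rw [Subgroup.orderOf_mk, Subgroup.orderOf_mk, ha₁.order] at hk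
    have h1 : r ∣ t ^ k := by rw [← hk]
    exact hrt ((Nat.prime_dvd_prime_iff_eq hr ht).mp (hr.dvd_of_dvd_pow h1))
  obtain ⟨K, hKn, hcompl⟩ := Cfsg.Agent.S0558.result
    (A.subgroupOf C) hnot hnorm
  -- `|K|` is coprime to `|A|`
  have hcop : ∀ (t : ℕ) [Fact t.Prime], t ∣ Nat.card A → ¬ t ∣ Nat.card K := by
    intro t _ htA
    obtain ⟨a₀, ha₀⟩ := w.exists_cprime htA
    have ha₀C := hcen ha₀
    have ha₀H : (⟨a₀, ha₀C⟩ : C) ∈
        A.subgroupOf C := Subgroup.mem_subgroupOf.mpr ha₀.mem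
    have htH : t ∣ Nat.card (A.subgroupOf C) := by
      have := orderOf_dvd_natCard
        (⟨⟨a₀, ha₀C⟩, ha₀H⟩ : A.subgroupOf C)
      rwa [Subgroup.orderOf_mk, Subgroup.orderOf_mk, ha₀.order] at this
    obtain ⟨T⟩ : Nonempty (Sylow t (A.subgroupOf C)) :=
      inferInstance
    have hN := hnorm t Fact.out htH T
    obtain ⟨T₁, hT₁⟩ := (T.isPGroup'.map (Subgroup.subtype (A.subgroupOf C))).exists_le_sylow
    have heq : (T : Subgroup (A.subgroupOf C)).map (Subgroup.subtype (A.subgroupOf C)) = T₁ := by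
      by_contra hne
      have hlt : (T : Subgroup (A.subgroupOf C)).map (Subgroup.subtype (A.subgroupOf C)) < T₁ := lt_of_le_of_ne hT₁ hne
      obtain ⟨n, hn₁, hnN, hnT⟩ := H1.exists_mem_normalizer_not_mem' T₁.isPGroup' hlt
      rw [hN] at hnN
      obtain ⟨k, hk⟩ := (IsPGroup.iff_orderOf.mp T₁.isPGroup') ⟨n, hn₁⟩
      rw [Subgroup.orderOf_mk] at hk
      exact hnT (hmemT t T n hnN k hk)
    have h1 : ¬ t ∣ ((T : Subgroup (A.subgroupOf C)).map (Subgroup.subtype (A.subgroupOf C))).index := by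
      rw [heq]; exact T₁.not_dvd_index
    have h2 : (A.subgroupOf C).index ∣
        ((T : Subgroup (A.subgroupOf C)).map (Subgroup.subtype (A.subgroupOf C))).index :=
      Subgroup.index_dvd_of_le (Subgroup.map_subtype_le _)
    have h3 : (A.subgroupOf C).index = Nat.card K :=
      hcompl.index_eq_card
    rw [← h3]; exact fun h => h1 (h.trans h2)
  have hpA : p ∣ Nat.card A := by
    have h1 := orderOf_dvd_natCard (⟨x, hxA⟩ : A)
    rwa [Subgroup.orderOf_mk, hxo] at h1
  have hKbot : K = ⊥ := by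
    by_contra hKne
    have hK1 : Nat.card K ≠ 1 := fun h => hKne (Subgroup.eq_bot_of_card_eq K h)
    obtain ⟨q, hq, hqK⟩ := Nat.exists_prime_and_dvd hK1
    haveI : Fact q.Prime := ⟨hq⟩
    have hqA : ¬ q ∣ Nat.card A := fun h => hcop q h hqK
    have hqG : q ∣ Nat.card G :=
      hqK.trans ((Subgroup.card_subgroup_dvd_card K).trans (Subgroup.card_subgroup_dvd_card _))
    have hqB : q ∣ Nat.card B := (w.dvd_left_or_right hq hqG).resolve_left hqA
    haveI := hKn
    obtain ⟨Q₁⟩ : Nonempty (Sylow q K) := inferInstance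
    have hQ₁ne : (Q₁ : Subgroup K) ≠ ⊥ := Q₁.ne_bot_of_dvd_card hqK
    have hfrat := Sylow.normalizer_sup_eq_top Q₁
    have hVp : IsPGroup q (((Q₁ : Subgroup K).map K.subtype).map C.subtype) :=
      (Q₁.isPGroup'.map _).map _
    have hVne : ((Q₁ : Subgroup K).map K.subtype).map C.subtype ≠ ⊥ := by
      intro h
      apply hQ₁ne
      have h1 := (Subgroup.map_eq_bot_iff_of_injective _ C.subtype_injective).mp h
      exact (Subgroup.map_eq_bot_iff_of_injective _ K.subtype_injective).mp h1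
    obtain ⟨r, hr, hrp, hrA⟩ := mc.exists_prime_ne w p
    haveI : Fact r.Prime := ⟨hr⟩
    have hMidx : (Subgroup.normalizer (((Q₁ : Subgroup K).map K.subtype : Subgroup C) : Set C)).index ∣
        Nat.card K := by
      have e1 := H1.card_sup_mul_card_inf
        (Subgroup.normalizer (((Q₁ : Subgroup K).map K.subtype : Subgroup C) : Set C)) K
      rw [hfrat, Subgroup.card_top] at e1
      have e2 := (Subgroup.normalizer
        (((Q₁ : Subgroup K).map K.subtype : Subgroup C) : Set C)).card_mul_index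
      have e3 : (Subgroup.normalizer (((Q₁ : Subgroup K).map K.subtype : Subgroup C) : Set C)).index *
          Nat.card (K ⊓ Subgroup.normalizer
            (((Q₁ : Subgroup K).map K.subtype : Subgroup C) : Set C) : Subgroup _) = Nat.card K := by
        have hpos : 0 < Nat.card (Subgroup.normalizer
          (((Q₁ : Subgroup K).map K.subtype : Subgroup C) : Set C)) := Nat.card_pos
        apply Nat.eq_of_mul_eq_mul_left hpos
        rw [← mul_assoc, e2, e1]
      exact Dvd.intro _ e3
    have hrM : ¬ r ∣ (Subgroup.normalizer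
        (((Q₁ : Subgroup K).map K.subtype : Subgroup C) : Set C)).index :=
      fun h => hcop r hrA (h.trans hMidx)
    obtain ⟨R, hRA, -⟩ := w.exists_sylow_le_left' hrA
    obtain ⟨P, hPA, -⟩ := w.exists_sylow_le_left' hpA
    have hxP : x ∈ (P : Subgroup G) :=
      mem_sylow_of_orderOf w.nilA P hPA hxA (k := 1) (by rw [hxo, pow_one])
    have hRC : (R : Subgroup G) ≤ C := by
      intro y hy
      rw [hCdef, Subgroup.mem_centralizer_singleton_iff]
      exact (sylow_commute w.nilA (Ne.symm hrp) P R hPA hRA hxP hy).symm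
    have hrC : ¬ r ∣ C.index :=
      fun h => R.not_dvd_index (h.trans (Subgroup.index_dvd_of_le hRC))
    have hMV : (Subgroup.normalizer (((Q₁ : Subgroup K).map K.subtype : Subgroup C) : Set C)).map
        C.subtype ≤ Subgroup.normalizer
        ((((Q₁ : Subgroup K).map K.subtype).map C.subtype : Subgroup G) : Set G) :=
      Subgroup.le_normalizer_map _
    have hidx : ¬ r ∣ (Subgroup.normalizer
        ((((Q₁ : Subgroup K).map K.subtype).map C.subtype : Subgroup G) : Set G)).index := by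
      intro h
      have h1 := h.trans (Subgroup.index_dvd_of_le hMV)
      rw [Subgroup.index_map_subtype] at h1
      rcases (Nat.Prime.dvd_mul hr).mp h1 with h2 | h2
      · exact hrM h2
      · exact hrC h2
    obtain ⟨R', hR'⟩ := H1.exists_sylow_le_of_not_dvd_index hidx
    exact mc.false_of_sylow_le_normalizer w.symm hVp hVne hqB R' hrA hR'
  have hcard := hcompl.card_mul_card
  rw [hKbot, Subgroup.card_bot, one_mul] at hcard
  have htop := Subgroup.eq_top_of_card_eq _ hcard
  intro c hc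
  have : (⟨c, hc⟩ : C) ∈
      A.subgroupOf C := by rw [htop]; exact Subgroup.mem_top _
  exact Subgroup.mem_subgroupOf.mp this

/-- Case (ii): if `C_G(x) ∩ N_G(A) ≤ A` then `C_G(x) ≤ A`. -/
theorem centralizer_le_of_inf_normalizer_le (mc : MC G) (w : WP A B) {x : G} {p : ℕ}
    [hp : Fact p.Prime] (hxA : x ∈ A) (hxo : orderOf x = p)
    (F1 : ∀ y, y ∈ Subgroup.centralizer ({x} : Set G) → y ∈ Subgroup.normalizer (A : Set G) →
      y ∈ A) : Subgroup.centralizer ({x} : Set G) ≤ A :=
  mc.centralizer_le_of_inf_normalizer_le_aux w hxA hxo _ rfl F1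

/-- The centralizer of an element of prime order of `A` normalizes `A`. -/
theorem centralizer_le_normalizer (mc : MC G) (w : WP A B) {x : G} {p : ℕ}
    [hp : Fact p.Prime] (hxA : x ∈ A) (hxo : orderOf x = p) :
    Subgroup.centralizer ({x} : Set G) ≤ Subgroup.normalizer (A : Set G) := by
  by_cases hcase : ∃ y, y ∈ Subgroup.centralizer ({x} : Set G) ∧
      y ∈ Subgroup.normalizer (A : Set G) ∧ y ∉ A
  · obtain ⟨y, hyC, hyN, hyA⟩ := hcase
    obtain ⟨k, q, hq, hqB, hko⟩ := w.exists_pow_orderOf_of_mem_normalizer hyN hyA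
    haveI : Fact q.Prime := ⟨hq⟩
    have huC : y ^ k ∈ Subgroup.centralizer ({x} : Set G) := Subgroup.pow_mem _ hyC k
    have huN : y ^ k ∈ Subgroup.normalizer (A : Set G) := Subgroup.pow_mem _ hyN k
    have hup : IsPGroup q (Subgroup.zpowers (y ^ k)) := by
      apply IsPGroup.of_card (n := 1)
      rw [Nat.card_zpowers, hko, pow_one]
    obtain ⟨Q', hQ'⟩ := hup.exists_le_sylow
    obtain ⟨Q, hQB, -⟩ := w.symm.exists_sylow_le_left' hqB
    obtain ⟨h, hh⟩ := MulAction.exists_smul_eq G Q Q'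
    have w₁ : WP A (MulAut.conj h • B) := by
      have := w.conj 1 h
      rwa [map_one, one_smul] at this
    have huB' : y ^ k ∈ MulAut.conj h • B := by
      have h1 : y ^ k ∈ (Q' : Subgroup G) := hQ' (Subgroup.mem_zpowers _)
      rw [← hh, Sylow.coe_subgroup_smul] at h1
      exact (Subgroup.pointwise_smul_le_pointwise_smul_iff.mpr hQB) h1
    have hxu : x * y ^ k = y ^ k * x := (Subgroup.mem_centralizer_singleton_iff.mp huC).symm
    have hxB' := mc.conj_smul_eq_of_commute w₁ huB' huN hko hxu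
    have hxN' : x ∈ Subgroup.normalizer ((MulAut.conj h • B : Subgroup G) : Set G) :=
      H1.conj_smul_eq_self_iff_mem_normalizer.mp hxB'
    intro g hg
    have hgx : g * x = x * g := Subgroup.mem_centralizer_singleton_iff.mp hg
    have := mc.conj_smul_eq_of_commute w₁.symm hxA hxN' hxo hgx
    exact H1.conj_smul_eq_self_iff_mem_normalizer.mp this
  · have F1 : ∀ y, y ∈ Subgroup.centralizer ({x} : Set G) →
        y ∈ Subgroup.normalizer (A : Set G) → y ∈ A := by
      intro y hyC hyN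
      by_contra hyA
      exact hcase ⟨y, hyC, hyN, hyA⟩
    exact (mc.centralizer_le_of_inf_normalizer_le w hxA hxo F1).trans Subgroup.le_normalizer

/-- `A` is a trivial-intersection subgroup. -/
theorem conj_smul_eq_of_inf_ne_bot (mc : MC G) (w : WP A B) {g : G}
    (h : A ⊓ MulAut.conj g • A ≠ ⊥) : MulAut.conj g • A = A := by
  obtain ⟨p, x, hp, hx, hxo⟩ := exists_prime_orderOf_of_ne_bot h
  haveI : Fact p.Prime := ⟨hp⟩
  have hC := mc.centralizer_le_normalizer w hx.1 hxo
  have w' := w.conj g g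
  have hpA : p ∣ Nat.card A := by
    have h1 := orderOf_dvd_natCard (⟨x, hx.1⟩ : A)
    rwa [Subgroup.orderOf_mk, hxo] at h1
  have hpA' : p ∣ Nat.card (MulAut.conj g • A : Subgroup G) := by rwa [WP.card_conj_smul]
  obtain ⟨a', ha'⟩ := w'.exists_cprime hpA'
  have ha'C : a' ∈ Subgroup.centralizer ({x} : Set G) := by
    rw [Subgroup.mem_centralizer_singleton_iff]
    exact (ha'.comm x hx.2).symm
  have ha'A : a' ∈ A :=
    w.mem_of_mem_normalizer_of_orderOf hpA (hC ha'C) (k := 1) (by rw [ha'.order, pow_one])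
  obtain ⟨z, hz⟩ := w.exists_cprime hpA
  have hzg : z ∈ MulAut.conj g • A := by
    apply mc.mem_of_commute_cprime w' ha'
    exact (hz.comm a' ha'A).symm
  have hzg' : g⁻¹ * z * g⁻¹⁻¹ ∈ A := by
    rw [Subgroup.mem_pointwise_smul_iff_inv_smul_mem] at hzg
    simpa [MulAut.smul_def, MulAut.conj_inv_apply] using hzg
  have h1 := mc.conj_smul_eq_of_conj_mem w hz hzg'
  have h2 : MulAut.conj g • (MulAut.conj g⁻¹ • A) = MulAut.conj g • A := by rw [h1]
  rw [← mul_smul, ← map_mul, mul_inv_cancel, map_one, one_smul] at h2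
  exact h2.symm

end MC

end Cfsg.Agent.Lib.H3.KW
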