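import Cfsg.Agent.Lib.H3.KW7
import Mathlib

/-!
helper3 library (Kegel–Wielandt, part 8): the final contradiction and Wielandt's theorem:
a finite product of two nilpotent subgroups of coprime orders is solvable.
-/

set_option autoImplicit false
open scoped Pointwise

namespace Cfsg.Agent.Lib.H3.KW

universe u

namespace MC

variable {G : Type u} [Group G] [Finite G] {A B : Subgroup G}

/-- `A` has at least `|A| + 1` conjugates, each of the form `ᵇA` with `b ∈ B`. -/
theorem card_succ_le (mc : MC G) (w : WP A B) : Nat.card A + 1 ≤ Nat.card B := by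
  -- `A` is not normal
  have hex : ∃ g : G, MulAut.conj g • A ≠ A := by
    by_contra hcon
    have hall : ∀ g : G, MulAut.conj g • A = A := by
      intro g
      by_contra h
      exact hcon ⟨g, h⟩
    have hN : Subgroup.normalizer (A : Set G) = ⊤ := by
      rw [eq_top_iff]
      intro g _
      exact H1.conj_smul_eq_self_iff_mem_normalizer.mp (hall g)
    rcases mc.simple w A (Subgroup.normalizer_eq_top_iff.mp hN) with h | h
    · exact mc.ne_bot_left w h
    · exact mc.ne_top_left w h
  obtain ⟨g, hg⟩ := hex
  have hconjA : ∀ a ∈ A, MulAut.conj a • A = A := fun a ha =>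
    H1.conj_smul_eq_self_iff_mem_normalizer.mpr (Subgroup.le_normalizer ha)
  -- the conjugates
  let φ : Option A → Subgroup G := fun o =>
    match o with
    | none => A
    | some a => MulAut.conj ((a : G) * g) • A
  have hφ_some : ∀ a a' : A, φ (some a) = φ (some a') → a = a' := by
    intro a a' h
    have h1 : MulAut.conj ((a' : G)⁻¹ * a) • (MulAut.conj g • A) = MulAut.conj g • A := by
      have h2 : MulAut.conj ((a : G) * g) • A = MulAut.conj ((a' : G) * g) • A := h
      have h3 := congrArg (fun H : Subgroup G => MulAut.conj (a' : G)⁻¹ • H) h2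
      simp only [← mul_smul, ← map_mul] at h3
      rw [show (a' : G)⁻¹ * ((a' : G) * g) = g by group] at h3
      rw [← mul_smul, ← map_mul, mul_assoc]
      exact h3
    by_contra hne
    have hc1 : (a' : G)⁻¹ * a ≠ 1 := by
      intro h2
      apply hne
      apply Subtype.ext
      have := congrArg (fun z => (a' : G) * z) h2
      simpa using this
    have hcA : (a' : G)⁻¹ * a ∈ A := A.mul_mem (A.inv_mem a'.2) a.2
    have hzne : Subgroup.zpowers ((a' : G)⁻¹ * a) ≠ ⊥ := by
      rw [Ne, Subgroup.zpowers_eq_bot]; exact hc1
    obtain ⟨r, c', hr, hc', hc'o⟩ := exists_prime_orderOf_of_ne_bot hzne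
    haveI : Fact r.Prime := ⟨hr⟩
    have hc'A : c' ∈ A := (Subgroup.zpowers_le.mpr hcA) hc'
    have hc'N : c' ∈ Subgroup.normalizer ((MulAut.conj g • A : Subgroup G) : Set G) := by
      have h2 : (a' : G)⁻¹ * a ∈ Subgroup.normalizer ((MulAut.conj g • A : Subgroup G) : Set G) :=
        H1.conj_smul_eq_self_iff_mem_normalizer.mp h1
      exact (Subgroup.zpowers_le.mpr h2) hc'
    have hrA : r ∣ Nat.card (MulAut.conj g • A : Subgroup G) := by
      rw [WP.card_conj_smul]
      have h2 := orderOf_dvd_natCard (⟨c', hc'A⟩ : A)
      rwa [Subgroup.orderOf_mk, hc'o] at h2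
    have hc'g : c' ∈ MulAut.conj g • A :=
      (w.conj g g).mem_of_mem_normalizer_of_orderOf hrA hc'N (k := 1) (by rw [hc'o, pow_one])
    have hne' : A ⊓ MulAut.conj g • A ≠ ⊥ := by
      intro h2
      have h3 : c' ∈ A ⊓ MulAut.conj g • A := ⟨hc'A, hc'g⟩
      rw [h2, Subgroup.mem_bot] at h3
      rw [h3, orderOf_one] at hc'o
      exact hr.one_lt.ne hc'o
    exact hg (mc.conj_smul_eq_of_inf_ne_bot w hne')
  have hφ_none : ∀ a : A, φ none ≠ φ (some a) := by
    intro a h
    have h1 : A = MulAut.conj ((a : G) * g) • A := h
    apply hg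
    have h2 := congrArg (fun H : Subgroup G => MulAut.conj (a : G)⁻¹ • H) h1
    simp only [← mul_smul, ← map_mul] at h2
    rw [show (a : G)⁻¹ * ((a : G) * g) = g by group, hconjA _ (A.inv_mem a.2)] at h2
    exact h2.symm
  have hφ_inj : Function.Injective φ := by
    intro o o' h
    cases o with
    | none =>
      cases o' with
      | none => rfl
      | some a' => exact absurd h (hφ_none a')
    | some a =>
      cases o' with
      | none => exact absurd h.symm (hφ_none a)
      | some a' => rw [hφ_some a a' h]
  -- each conjugate is of the form `ᵇA`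
  have hφ_range : ∀ o : Option A, ∃ b : B, MulAut.conj (b : G) • A = φ o := by
    intro o
    cases o with
    | none => exact ⟨1, by simp [φ]⟩
    | some a =>
      obtain ⟨b, hb, a'', ha'', hab⟩ := w.symm.mul ((a : G) * g)
      refine ⟨⟨b, hb⟩, ?_⟩
      show MulAut.conj b • A = MulAut.conj ((a : G) * g) • A
      rw [hab, map_mul, mul_smul, hconjA a'' ha'']
  choose ψ hψ using hφ_range
  have hψ_inj : Function.Injective ψ := by
    intro o o' h
    apply hφ_inj
    rw [← hψ o, ← hψ o', h]
  have := Nat.card_le_card_of_injective ψ hψ_inj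
  rwa [Finite.card_option] at this

theorem false (mc : MC G) (w : WP A B) : False := by
  have h1 := mc.card_succ_le w
  have h2 := mc.card_succ_le w.symm
  omega

end MC

/-- **Wielandt**: a finite group which is the product of two nilpotent subgroups of coprime orders
is solvable. -/
theorem solvable_of_wp_aux : ∀ (n : ℕ) (G : Type u) [Group G] [Finite G], Nat.card G = n →
    ∀ A B : Subgroup G, WP A B → Group.IsSolvable G := by
  intro n
  induction n using Nat.strong_induction_on with
  | _ n ih =>
    intro G _ _ hn A B w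
    by_contra hns
    have mc : MC G :=
      ⟨fun H _ _ hlt A' B' w' => ih (Nat.card H) (hn ▸ hlt) H rfl A' B' w', hns⟩
    exact mc.false w

theorem solvable_of_wp {G : Type u} [Group G] [Finite G] {A B : Subgroup G} (w : WP A B) :
    Group.IsSolvable G :=
  solvable_of_wp_aux _ G rfl A B w

end Cfsg.Agent.Lib.H3.KW
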