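import Cfsg.Agent.Lib.H3.KW8
import Cfsg.Agent.S0560
import Mathlib

/-!
helper3 library (Kegel–Wielandt, part 9): the Kegel–Wielandt theorem: a finite product of two
nilpotent subgroups is solvable.
-/

set_option autoImplicit false
open scoped Pointwise

namespace Cfsg.Agent.Lib.H3.KW

universe u
variable {G : Type u} [Group G]

/-- A factorization of `G` as a product of two nilpotent subgroups. -/
structure NP (A B : Subgroup G) : Prop where
  nilA : Group.IsNilpotent A
  nilB : Group.IsNilpotent B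
  mul : ∀ g : G, ∃ a ∈ A, ∃ b ∈ B, g = a * b

namespace NP

variable {A B : Subgroup G}

theorem symm (w : NP A B) : NP B A where
  nilA := w.nilB
  nilB := w.nilA
  mul := by
    intro g
    obtain ⟨a, ha, b, hb, h⟩ := w.mul g⁻¹
    refine ⟨b⁻¹, B.inv_mem hb, a⁻¹, A.inv_mem ha, ?_⟩
    rw [← mul_inv_rev, ← h, inv_inv]

theorem conj_right [Finite G] (w : NP A B) (y : G) : NP A (MulAut.conj y • B) where
  nilA := w.nilA
  nilB := by
    haveI := w.nilB
    exact Group.nilpotent_of_mulEquiv (Subgroup.equivSMul (MulAut.conj y) B)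
  mul := (Cfsg.Agent.S0559.result A B _ _ w.mul ⟨1, by rw [map_one, one_smul]⟩ ⟨y, rfl⟩).1

theorem restrict_of_le_left (w : NP A B) {M : Subgroup G} (h : A ≤ M) :
    NP (A.subgroupOf M) (B.subgroupOf M) where
  nilA := nilpotent_subgroupOf w.nilA M
  nilB := nilpotent_subgroupOf w.nilB M
  mul := by
    intro m
    obtain ⟨a, ha, b, hb, hab⟩ := w.mul m.1
    have hbM : b ∈ M := by
      have : b = a⁻¹ * m.1 := by rw [hab]; group
      rw [this]; exact M.mul_mem (M.inv_mem (h ha)) m.2
    exact ⟨⟨a, h ha⟩, Subgroup.mem_subgroupOf.mpr ha, ⟨b, hbM⟩, Subgroup.mem_subgroupOf.mpr hb,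
      Subtype.ext hab⟩

theorem quot (w : NP A B) (N : Subgroup G) [N.Normal] :
    NP (A.map (QuotientGroup.mk' N)) (B.map (QuotientGroup.mk' N)) where
  nilA := by
    haveI := w.nilA
    exact Group.nilpotent_of_surjective ((QuotientGroup.mk' N).subgroupMap A)
      ((QuotientGroup.mk' N).subgroupMap_surjective A)
  nilB := by
    haveI := w.nilB
    exact Group.nilpotent_of_surjective ((QuotientGroup.mk' N).subgroupMap B)
      ((QuotientGroup.mk' N).subgroupMap_surjective B)
  mul := by
    intro g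
    obtain ⟨g, rfl⟩ := QuotientGroup.mk'_surjective N g
    obtain ⟨a, ha, b, hb, rfl⟩ := w.mul g
    exact ⟨_, Subgroup.mem_map_of_mem _ ha, _, Subgroup.mem_map_of_mem _ hb, map_mul _ _ _⟩

end NP

/-- Induction hypothesis for the general theorem. -/
def IH2 (G : Type u) [Group G] : Prop :=
  ∀ (H : Type u) [Group H] [Finite H], Nat.card H < Nat.card G →
    ∀ A B : Subgroup H, NP A B → Group.IsSolvable H

/-- A minimal counterexample to the general theorem. -/
structure MC2 (G : Type u) [Group G] : Prop where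
  ih : IH2 G
  ns : ¬ Group.IsSolvable G

variable [Finite G]

/-- In a nilpotent subgroup `K`, every `p`-subgroup lies in (the image of) each Sylow
`p`-subgroup of `K`. -/
theorem le_map_sylow_of_isPGroup {K : Subgroup G} (hK : Group.IsNilpotent K) {p : ℕ}
    [Fact p.Prime] (Q : Sylow p K) {V : Subgroup G} (hV : IsPGroup p V) (hVK : V ≤ K) :
    V ≤ (Q : Subgroup K).map K.subtype := by
  haveI := hK
  have h1 : IsPGroup p (V.subgroupOf K) := hV.comap_of_injective K.subtype K.subtype_injective
  have h2 : V.subgroupOf K ≤ Subgroup.normalizer ((Q : Subgroup K) : Set K) := by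
    rw [Subgroup.normalizer_eq_top_iff.mpr inferInstance]; exact le_top
  have h3 := le_sylow_of_le_normalizer Q h1 h2
  intro v hv
  exact ⟨⟨v, hVK hv⟩, h3 (Subgroup.mem_subgroupOf.mpr hv), rfl⟩

/-- The images of any two Sylow `p`-subgroups of conjugate nilpotent subgroups are conjugate. -/
theorem map_sylow_conj {B : Subgroup G} (hB : Group.IsNilpotent B) {p : ℕ} [Fact p.Prime]
    (Q : Sylow p B) (x : G) (Q' : Sylow p (MulAut.conj x • B : Subgroup G)) :
    (Q' : Subgroup (MulAut.conj x • B : Subgroup G)).map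
      (Subgroup.subtype (MulAut.conj x • B : Subgroup G)) =
      MulAut.conj x • ((Q : Subgroup B).map B.subtype) := by
  haveI := hB
  have hB' : Group.IsNilpotent (MulAut.conj x • B : Subgroup G) :=
    Group.nilpotent_of_mulEquiv (Subgroup.equivSMul (MulAut.conj x) B)
  have hV : IsPGroup p (MulAut.conj x • ((Q : Subgroup B).map B.subtype) : Subgroup G) :=
    (Q.isPGroup'.map B.subtype).map _
  have hle : MulAut.conj x • ((Q : Subgroup B).map B.subtype) ≤ MulAut.conj x • B :=
    Subgroup.pointwise_smul_le_pointwise_smul_iff.mpr (Subgroup.map_subtype_le _)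
  have h1 := le_map_sylow_of_isPGroup hB' Q' hV hle
  symm
  apply Subgroup.eq_of_le_of_card_ge h1
  rw [WP.card_conj_smul, Subgroup.card_map_of_injective B.subtype_injective,
    Subgroup.card_map_of_injective (Subgroup.subtype_injective _), Q.card_eq_multiplicity,
    Q'.card_eq_multiplicity, WP.card_conj_smul]

/-- A `p`-subgroup lies in every normal subgroup of index prime to `p`. -/
theorem le_of_normal_of_not_dvd_index {p : ℕ} [Fact p.Prime] {N V : Subgroup G} (hN : N.Normal)
    (hidx : ¬ p ∣ N.index) (hV : IsPGroup p V) : V ≤ N := by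
  obtain ⟨g, hg⟩ := H1.exists_conj_le_of_not_dvd_index hidx hV
  intro v hv
  have h1 := hN.conj_mem _ (hg v hv) g⁻¹
  have h2 : g⁻¹ * (g * v * g⁻¹) * g⁻¹⁻¹ = v := by group
  rwa [h2] at h1

namespace MC2

variable {A B : Subgroup G}

theorem card_lt_of_ne_top {M : Subgroup G} (h : M ≠ ⊤) : Nat.card M < Nat.card G :=
  lt_of_le_of_ne (Subgroup.card_le_card_group M) (fun h1 => h (Subgroup.eq_top_of_card_eq M h1))

/-- A nontrivial normal subgroup supplements `A`. -/
theorem exists_mul_of_normal (mc : MC2 G) (w : NP A B) {N : Subgroup G} (hN : N.Normal)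
    (hne : N ≠ ⊥) (g : G) : ∃ n ∈ N, ∃ a ∈ A, g = n * a := by
  haveI := hN
  by_contra hcon
  have htop : N ⊔ A ≠ ⊤ := by
    intro h
    apply hcon
    have hg : g ∈ N ⊔ A := by rw [h]; exact Subgroup.mem_top g
    rw [sup_comm, Subgroup.mem_sup_of_normal_right] at hg
    obtain ⟨a, ha, n, hn, rfl⟩ := hg
    refine ⟨a * n * a⁻¹, hN.conj_mem n hn a, a, ha, by group⟩
  haveI h1 : Group.IsSolvable (N ⊔ A : Subgroup G) :=
    mc.ih _ (card_lt_of_ne_top htop) _ _ (w.restrict_of_le_left le_sup_right)
  haveI h2 : Group.IsSolvable N :=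
    Group.isSolvable_of_isSolvable_injective (f := Subgroup.inclusion (le_sup_left : N ≤ N ⊔ A))
      (Subgroup.inclusion_injective _)
  have hlt : Nat.card (G ⧸ N) < Nat.card G := by
    rw [Subgroup.card_eq_card_quotient_mul_card_subgroup N]
    have h3 : 1 < Nat.card N := (Subgroup.one_lt_card_iff_ne_bot N).mpr hne
    have h4 : 0 < Nat.card (G ⧸ N) := Nat.card_pos
    nlinarith
  haveI : Group.IsSolvable (G ⧸ N) := mc.ih (G ⧸ N) hlt _ _ (w.quot N)
  apply mc.ns
  apply Group.isSolvable_of_ker_le_range N.subtype (QuotientGroup.mk' N)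
  rw [QuotientGroup.ker_mk', Subgroup.range_subtype]

/-- A nontrivial normal `p`-subgroup is impossible. -/
theorem not_isPGroup_of_normal (mc : MC2 G) (w : NP A B) {N : Subgroup G} (hN : N.Normal)
    (hne : N ≠ ⊥) {p : ℕ} [Fact p.Prime] (hp : IsPGroup p N) : False := by
  haveI := hN
  haveI : Group.IsNilpotent N := hp.isNilpotent
  have hlt : Nat.card (G ⧸ N) < Nat.card G := by
    rw [Subgroup.card_eq_card_quotient_mul_card_subgroup N]
    have h3 : 1 < Nat.card N := (Subgroup.one_lt_card_iff_ne_bot N).mpr hne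
    have h4 : 0 < Nat.card (G ⧸ N) := Nat.card_pos
    nlinarith
  haveI : Group.IsSolvable (G ⧸ N) := mc.ih (G ⧸ N) hlt _ _ (w.quot N)
  apply mc.ns
  apply Group.isSolvable_of_ker_le_range N.subtype (QuotientGroup.mk' N)
  rw [QuotientGroup.ker_mk', Subgroup.range_subtype]

/-- A nontrivial normal subgroup containing the Sylow `p`-subgroup of `A` has index prime
to `p`. -/
theorem not_dvd_index_of_le (mc : MC2 G) (w : NP A B) {N : Subgroup G} (hN : N.Normal)
    (hne : N ≠ ⊥) {p : ℕ} [Fact p.Prime] (P : Sylow p A)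
    (hPN : (P : Subgroup A).map A.subtype ≤ N) : ¬ p ∣ N.index := by
  haveI := hN
  have h1 : A ⊔ N = ⊤ := by
    rw [eq_top_iff]
    intro g _
    obtain ⟨n, hn, a, ha, rfl⟩ := mc.exists_mul_of_normal w hN hne g
    exact Subgroup.mul_mem _ (Subgroup.mem_sup_right hn) (Subgroup.mem_sup_left ha)
  have h2 : N.relIndex (A ⊔ N) = N.relIndex A := Subgroup.relIndex_sup_right A N
  rw [h1, Subgroup.relIndex_top_right] at h2
  rw [h2]
  have h3 : (P : Subgroup A) ≤ N.subgroupOf A := by
    intro y hy
    rw [Subgroup.mem_subgroupOf]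
    exact hPN (Subgroup.mem_map_of_mem _ hy)
  exact fun h => P.not_dvd_index (h.trans (Subgroup.index_dvd_of_le h3))

end MC2

end Cfsg.Agent.Lib.H3.KW
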