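import Cfsg.Agent.Lib.H3.KZD2

/-!
# S4540 piece CY1 `two_eq_pow_mul_unit` (helper3), exact signature of
`tools/blueprints/S4540_sigs.lean`: `2 = (1 - ζ)^(2^a) · unit` in a local subring `R ⊆ ℂ` with
`2 ∈ 𝔪`, `ζ ∈ R`, `ζ^(2^a) = -1`.
-/

set_option autoImplicit false

namespace Cfsg.Agent.Lib.H3.KY

/-- (CY1). -/
theorem two_eq_pow_mul_unit (R : Subring ℂ) [IsLocalRing R]
    (h2 : (2 : R) ∈ IsLocalRing.maximalIdeal R) (ζ : ℂ) (hζR : ζ ∈ R) (a : ℕ)
    (hζ : ζ ^ (2 ^ a) = -1) :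
    ∃ v : Rˣ, (2 : ℂ) = (1 - ζ) ^ (2 ^ a) * ((v : R) : ℂ) := by
  set n := 2 ^ a with hn
  set s : ℂ := ζ - 1 with hs
  have hsR : s ∈ R := R.sub_mem hζR R.one_mem
  have hζs : s + 1 = ζ := by rw [hs]; ring
  obtain ⟨v₀, hv₀R, hv⟩ := Cfsg.Agent.Lib.H3.KZ.d2_add_one_pow R hsR a
  rw [hζs, hζ] at hv
  -- elements of `R`
  set sR : R := ⟨s, hsR⟩ with hsR'
  set vR : R := ⟨v₀, hv₀R⟩ with hvR'
  set uR : R := 1 + sR * vR with huR
  have hsnR : sR ^ n = -(2 * uR) := by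
    apply Subtype.ext
    push_cast
    show s ^ n = -(2 * (1 + s * v₀))
    rw [hn]
    linear_combination -hv
  have hmax := IsLocalRing.maximalIdeal.isMaximal R
  have hsmem : sR ∈ IsLocalRing.maximalIdeal R := by
    have h1 : sR ^ n ∈ IsLocalRing.maximalIdeal R := by
      rw [hsnR]
      exact Ideal.neg_mem_iff _ |>.2 (Ideal.mul_mem_right _ _ h2)
    exact hmax.isPrime.mem_of_pow_mem _ h1
  have hunot : uR ∉ IsLocalRing.maximalIdeal R := by
    intro hu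
    have h1 : (1 : R) ∈ IsLocalRing.maximalIdeal R := by
      have : (1 : R) = uR - sR * vR := by rw [huR]; ring
      rw [this]
      exact Ideal.sub_mem _ hu (Ideal.mul_mem_right _ _ hsmem)
    exact (Ideal.ne_top_iff_one _).1 hmax.ne_top h1
  have huunit : IsUnit uR := IsLocalRing.notMem_maximalIdeal.1 hunot
  obtain ⟨y, hy⟩ := isUnit_iff_exists_inv.1 huunit
  -- the unit `(-1)^(n+1) * y`
  set c : R := (-1) ^ (n + 1) with hc
  have hcc : c * c = 1 := by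
    rw [hc, ← pow_add, show n + 1 + (n + 1) = 2 * (n + 1) by ring, pow_mul]
    norm_num
  refine ⟨Units.mkOfMulEqOne (c * y) (c * uR) (by
    calc c * y * (c * uR) = (c * c) * (uR * y) := by ring
      _ = 1 := by rw [hcc, hy, one_mul]), ?_⟩
  rw [Units.val_mkOfMulEqOne]
  have hyC : (1 + s * v₀) * (y : ℂ) = 1 := by
    have := congrArg (fun t : R => (t : ℂ)) hy
    simpa [huR, hsR', hvR'] using this
  have hsnC : s ^ n = -(2 * (1 + s * v₀)) := by
    rw [hn]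
    linear_combination -hv
  have h1 : (1 - ζ) ^ n = (-1) ^ n * s ^ n := by
    rw [← mul_pow, hs]; ring_nf
  have hcC : ((c * y : R) : ℂ) = (-1) ^ (n + 1) * (y : ℂ) := by
    rw [hc]; push_cast; rfl
  rw [hcC, h1, hsnC]
  have hsign : ((-1 : ℂ)) ^ n * (-1) ^ (n + 1) = -1 := by
    rw [← pow_add, show n + (n + 1) = 2 * n + 1 by ring, pow_succ, pow_mul]
    norm_num
  calc (2 : ℂ) = -((-1 : ℂ) ^ n * (-1) ^ (n + 1)) * 2 * ((1 + s * v₀) * (y : ℂ)) := by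
        rw [hsign, hyC]; ring
    _ = (-1) ^ n * -(2 * (1 + s * v₀)) * ((-1) ^ (n + 1) * (y : ℂ)) := by ring

end Cfsg.Agent.Lib.H3.KY
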