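import Mathlib

/-!
# S4540 piece D2 (helper3): 2-power divisibility of the coefficients of an integer polynomial
evaluated at a 2-power root of unity, inside a local ring at 2.

Generic, pure Mathlib.  `R` is a subring of `ℂ`, `I` a subset playing the role of its maximal
ideal: closed under addition, absorbing multiplication by `R`, meeting `ℤ` in `2ℤ`, and such that
every element of `R` outside `I` is invertible in `R`.  If `ζ ^ (2 ^ e) = -1`, `P ∈ ℤ[X]` has
degree `< 2 ^ e`, `m` is odd and `m * P(ζ) = 2 ^ h * r` with `r ∈ R`, then `2 ^ h` divides every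
coefficient of `P`.
-/

set_option autoImplicit false

namespace Cfsg.Agent.Lib.H3.KZ

open Polynomial

/-- Evaluating an integer polynomial at an element of a subring of `ℂ` stays in the subring. -/
theorem d2_aeval_mem (R : Subring ℂ) {s : ℂ} (hs : s ∈ R) (Q : Polynomial ℤ) :
    aeval s Q ∈ R := by
  rw [aeval_eq_sum_range]
  refine R.sum_mem ?_
  intro i _
  rw [zsmul_eq_mul]
  exact R.mul_mem (intCast_mem R _) (R.pow_mem hs i)

/-- `(s + 1) ^ (2 ^ e) = s ^ (2 ^ e) + 1 + 2 * s * v` with `v` an integer polynomial in `s`. -/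
theorem d2_add_one_pow (R : Subring ℂ) {s : ℂ} (hs : s ∈ R) (e : ℕ) :
    ∃ v ∈ R, (s + 1) ^ (2 ^ e) = s ^ (2 ^ e) + 1 + 2 * s * v := by
  obtain ⟨m, hm⟩ : ∃ m, 2 ^ e = m + 1 := ⟨2 ^ e - 1, by
    have := Nat.one_le_two_pow (n := e); omega⟩
  rw [hm, add_pow]
  rw [Finset.sum_range_succ, Finset.sum_range_succ']
  refine ⟨∑ i ∈ Finset.range m, s ^ i * (((m + 1).choose (i + 1) / 2 : ℕ) : ℂ), ?_, ?_⟩
  · refine R.sum_mem ?_
    intro i _
    exact R.mul_mem (R.pow_mem hs i) (natCast_mem R _)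
  · have hmid : ∑ i ∈ Finset.range m, s ^ (i + 1) * 1 ^ (m + 1 - (i + 1)) *
          (((m + 1).choose (i + 1) : ℕ) : ℂ)
        = 2 * s * ∑ i ∈ Finset.range m, s ^ i * (((m + 1).choose (i + 1) / 2 : ℕ) : ℂ) := by
      rw [Finset.mul_sum]
      refine Finset.sum_congr rfl ?_
      intro i hi
      have hi' : i < m := Finset.mem_range.1 hi
      have hdvd : 2 ∣ (m + 1).choose (i + 1) := by
        have := Nat.prime_two.dvd_choose_pow (n := e) (k := i + 1) (Nat.succ_ne_zero i)
          (by rw [hm]; omega)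
        rwa [hm] at this
      obtain ⟨c, hc⟩ := hdvd
      rw [hc, Nat.mul_div_cancel_left c (by norm_num : 0 < 2)]
      push_cast
      ring
    rw [hmid]
    simp
    ring

section Core

variable (R : Subring ℂ) (I : Set ℂ)

/-- The peeling induction: if `s ∈ I`, `2 = s ^ n * w` with `w ∈ R`, and `Q` has no coefficients
in degrees `≥ k` (`k ≤ n`) with `s ^ (n - k) * Q(s) ∈ s ^ n R`, then all coefficients are even. -/
theorem d2_peel
    (hImul : ∀ a b : ℂ, a ∈ R → b ∈ I → a * b ∈ I)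
    (hIint : ∀ k : ℤ, ((k : ℂ) ∈ I ↔ (2 : ℤ) ∣ k))
    {s w : ℂ} (hsR : s ∈ R) (hsI : s ∈ I) (hs0 : s ≠ 0) (hwR : w ∈ R) (n : ℕ)
    (h2 : (2 : ℂ) = s ^ n * w) :
    ∀ k : ℕ, k ≤ n → ∀ Q : Polynomial ℤ, (∀ i, k ≤ i → Q.coeff i = 0) →
      (∃ y ∈ R, s ^ (n - k) * aeval s Q = s ^ n * y) → ∀ i, (2 : ℤ) ∣ Q.coeff i := by
  intro k
  induction k with
  | zero =>
    intro _ Q hQ _ i
    rw [hQ i (Nat.zero_le _)]
    exact dvd_zero _
  | succ k ih =>
    intro hk Q hQ hy
    obtain ⟨y, hyR, hy⟩ := hy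
    set Q₁ := Q.divX with hQ₁
    have hQ₁c : ∀ i, k ≤ i → Q₁.coeff i = 0 := by
      intro i hi
      rw [hQ₁, coeff_divX]
      exact hQ (i + 1) (by omega)
    have hQdecomp : aeval s Q = aeval s Q₁ * s + (Q.coeff 0 : ℂ) := by
      conv_lhs => rw [← divX_mul_X_add Q]
      simp [hQ₁]
    have hQ₁R : aeval s Q₁ ∈ R := d2_aeval_mem R hsR Q₁
    -- cancel `s ^ (n - (k+1))`
    have hpow : s ^ n = s ^ (n - (k + 1)) * s ^ (k + 1) := by
      rw [← pow_add]; congr 1; omega
    have hne : s ^ (n - (k + 1)) ≠ 0 := pow_ne_zero _ hs0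
    have h1 : aeval s Q₁ * s + (Q.coeff 0 : ℂ) = s ^ (k + 1) * y := by
      have : s ^ (n - (k + 1)) * (aeval s Q₁ * s + (Q.coeff 0 : ℂ)) =
          s ^ (n - (k + 1)) * (s ^ (k + 1) * y) := by
        rw [← hQdecomp, hy, hpow]; ring
      exact mul_left_cancel₀ hne this
    have hb0 : ((Q.coeff 0 : ℤ) : ℂ) = (s ^ k * y - aeval s Q₁) * s := by
      have : ((Q.coeff 0 : ℤ) : ℂ) = s ^ (k + 1) * y - aeval s Q₁ * s := by
        rw [← h1]; ring
      rw [this, pow_succ]; ring
    have hb0I : ((Q.coeff 0 : ℤ) : ℂ) ∈ I := by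
      rw [hb0]
      exact hImul _ _ (R.sub_mem (R.mul_mem (R.pow_mem hsR k) hyR) hQ₁R) hsI
    have hb0even : (2 : ℤ) ∣ Q.coeff 0 := (hIint _).1 hb0I
    obtain ⟨c, hc⟩ := hb0even
    -- now `Q₁`
    have hQ₁even : ∀ i, (2 : ℤ) ∣ Q₁.coeff i := by
      refine ih (by omega) Q₁ hQ₁c ⟨y - s ^ (n - (k + 1)) * w * (c : ℂ), ?_, ?_⟩
      · exact R.sub_mem hyR (R.mul_mem (R.mul_mem (R.pow_mem hsR _) hwR) (intCast_mem R c))
      · have hpow' : s ^ (n - k) = s ^ (n - (k + 1)) * s := by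
          rw [← pow_succ]; congr 1; omega
        have hcc : ((Q.coeff 0 : ℤ) : ℂ) = s ^ n * w * (c : ℂ) := by
          rw [hc]; push_cast; rw [h2]
        have h3 : aeval s Q₁ * s = s ^ (k + 1) * y - s ^ n * w * (c : ℂ) := by
          rw [← hcc, ← h1]; ring
        calc s ^ (n - k) * aeval s Q₁
            = s ^ (n - (k + 1)) * (aeval s Q₁ * s) := by rw [hpow']; ring
          _ = s ^ (n - (k + 1)) * (s ^ (k + 1) * y - s ^ n * w * (c : ℂ)) := by rw [h3]
          _ = s ^ n * (y - s ^ (n - (k + 1)) * w * (c : ℂ)) := by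
              rw [hpow]; ring
    intro i
    cases i with
    | zero => exact ⟨c, hc⟩
    | succ i =>
      have := hQ₁even i
      rwa [hQ₁, coeff_divX] at this

end Core

/-- **D2.** See the file header. -/
theorem two_pow_dvd_coeff (R : Subring ℂ) (I : Set ℂ)
    (hIadd : ∀ a b : ℂ, a ∈ I → b ∈ I → a + b ∈ I)
    (hImul : ∀ a b : ℂ, a ∈ R → b ∈ I → a * b ∈ I)
    (hIint : ∀ k : ℤ, ((k : ℂ) ∈ I ↔ (2 : ℤ) ∣ k))
    (hunit : ∀ z : ℂ, z ∈ R → z ∉ I → z⁻¹ ∈ R)
    (ζ : ℂ) (hζR : ζ ∈ R) (e : ℕ) (hζ : ζ ^ (2 ^ e) = -1)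
    (P : Polynomial ℤ) (hdeg : P.natDegree < 2 ^ e) (m : ℤ) (hodd : Odd m)
    (h : ℕ) (r : ℂ) (hr : r ∈ R) (heq : (m : ℂ) * aeval ζ P = 2 ^ h * r) :
    ∀ i, (2 : ℤ) ^ h ∣ P.coeff i := by
  classical
  set n := 2 ^ e with hn
  set s : ℂ := ζ - 1 with hs
  have hsR : s ∈ R := R.sub_mem hζR R.one_mem
  have hζs : s + 1 = ζ := by rw [hs]; ring
  -- basic facts on `I`
  have h0I : (0 : ℂ) ∈ I := by simpa using (hIint 0).2 (dvd_zero _)
  have h1I : (1 : ℂ) ∉ I := by
    intro h1
    have := (hIint 1).1 (by simpa using h1)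
    norm_num at this
  have h2I : (2 : ℂ) ∈ I := by simpa using (hIint 2).2 dvd_rfl
  have hIneg : ∀ a : ℂ, a ∈ I → -a ∈ I := by
    intro a ha
    have := hImul (-1) a (R.neg_mem R.one_mem) ha
    simpa using this
  -- `s ^ n = -2 u`
  obtain ⟨v, hvR, hv⟩ := d2_add_one_pow R hsR e
  rw [hζs, hζ] at hv
  set u : ℂ := 1 + s * v with hu
  have huR : u ∈ R := R.add_mem R.one_mem (R.mul_mem hsR hvR)
  have hsn : s ^ n = -(2 * u) := by
    rw [hu, hn]
    linear_combination -hv
  have hsnI : s ^ n ∈ I := by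
    rw [hsn]
    have := hImul (-u) 2 (R.neg_mem huR) h2I
    convert this using 1
    ring
  have hsI : s ∈ I := by
    by_contra hsI
    have hinv := hunit s hsR hsI
    have hs0 : s ≠ 0 := fun h0 => hsI (h0 ▸ h0I)
    have : (1 : ℂ) ∈ I := by
      have := hImul (s⁻¹ ^ n) (s ^ n) (R.pow_mem hinv n) hsnI
      rwa [← mul_pow, inv_mul_cancel₀ hs0, one_pow] at this
    exact h1I this
  have huI : u ∉ I := by
    intro huI
    apply h1I
    have h1 : s * v ∈ I := by
      have := hImul v s hvR hsI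
      rwa [mul_comm] at this
    have := hIadd u (-(s * v)) huI (hIneg _ h1)
    rw [hu] at this
    simpa using this
  have hu0 : u ≠ 0 := fun h0 => huI (h0 ▸ h0I)
  have huinv : u⁻¹ ∈ R := hunit u huR huI
  have hs0 : s ≠ 0 := by
    intro h0
    have : ζ = 1 := by rw [← hζs, h0]; ring
    rw [this, one_pow] at hζ
    norm_num at hζ
  set w : ℂ := -u⁻¹ with hw
  have hwR : w ∈ R := R.neg_mem huinv
  have h2 : (2 : ℂ) = s ^ n * w := by
    rw [hsn, hw]
    field_simp
  -- `m` is a unit of `R`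
  have hmI : (m : ℂ) ∉ I := by
    intro hm
    have := (hIint m).1 hm
    rw [← even_iff_two_dvd] at this
    exact (Int.not_even_iff_odd.2 hodd) this
  have hmR : (m : ℂ) ∈ R := intCast_mem R m
  have hminv : (m : ℂ)⁻¹ ∈ R := hunit _ hmR hmI
  have hm0 : (m : ℂ) ≠ 0 := fun h0 => hmI (h0 ▸ h0I)
  -- induction on `h`
  have main : ∀ h : ℕ, ∀ P : Polynomial ℤ, (∀ i, n ≤ i → P.coeff i = 0) → ∀ r : ℂ, r ∈ R →
      (m : ℂ) * aeval ζ P = 2 ^ h * r → ∀ i, (2 : ℤ) ^ h ∣ P.coeff i := by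
    intro h
    induction h with
    | zero => intro P _ r _ _ i; simp
    | succ h ih =>
      intro P hP r hr heq i
      -- `P(ζ) = 2 r₁`
      set r₁ : ℂ := 2 ^ h * r * (m : ℂ)⁻¹ with hr₁
      have hr₁R : r₁ ∈ R :=
        R.mul_mem (R.mul_mem (R.pow_mem (ofNat_mem R 2) h) hr) hminv
      have hPζ : aeval ζ P = 2 * r₁ := by
        rw [hr₁]
        field_simp
        rw [mul_comm, heq]; ring
      set Pb : Polynomial ℤ := P.comp (X + 1) with hPb
      have hPbs : aeval s Pb = aeval ζ P := by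
        rw [hPb, aeval_comp]
        simp [hζs]
      have hPbc : ∀ i, n ≤ i → Pb.coeff i = 0 := by
        intro i hi
        apply coeff_eq_zero_of_natDegree_lt
        have h1 : Pb.natDegree ≤ P.natDegree := by
          rw [hPb, natDegree_comp]
          have : (X + 1 : Polynomial ℤ).natDegree = 1 := by
            rw [show (X + 1 : Polynomial ℤ) = X + C 1 by simp]
            exact natDegree_X_add_C 1
          rw [this, mul_one]
        have h2 : P.natDegree < n := by
          by_contra hcon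
          push Not at hcon
          by_cases hP0 : P = 0
          · rw [hP0] at hcon
            simp at hcon
            have := Nat.one_le_two_pow (n := e)
            omega
          · have := hP P.natDegree hcon
            rw [coeff_natDegree, leadingCoeff_eq_zero] at this
            exact hP0 this
        omega
      have hPbeven : ∀ i, (2 : ℤ) ∣ Pb.coeff i := by
        refine d2_peel R I hImul hIint hsR hsI hs0 hwR n h2 n le_rfl Pb hPbc
          ⟨w * r₁, R.mul_mem hwR hr₁R, ?_⟩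
        rw [Nat.sub_self, pow_zero, one_mul, hPbs, hPζ, h2]; ring
      obtain ⟨Pb', hPb'⟩ := (C_dvd_iff_dvd_coeff 2 Pb).2 hPbeven
      set P' : Polynomial ℤ := Pb'.comp (X - 1) with hP'
      have hPP' : P = C 2 * P' := by
        have h1 : Pb.comp (X - 1) = P := by
          rw [hPb, comp_assoc]
          simp
        rw [← h1, hPb', hP']
        simp
      have hP'c : ∀ i, n ≤ i → P'.coeff i = 0 := by
        intro i hi
        have := hP i hi
        rw [hPP', coeff_C_mul] at this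
        rcases mul_eq_zero.1 this with h | h
        · norm_num at h
        · exact h
      have heq' : (m : ℂ) * aeval ζ P' = 2 ^ h * r := by
        have : (m : ℂ) * aeval ζ P = 2 * ((m : ℂ) * aeval ζ P') := by
          rw [hPP', map_mul, aeval_C]
          simp only [eq_intCast, Int.cast_ofNat]
          ring
        rw [this, pow_succ] at heq
        have h2ne : (2 : ℂ) ≠ 0 := two_ne_zero
        apply mul_left_cancel₀ h2ne
        rw [heq]; ring
      have := ih P' hP'c r hr heq' i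
      rw [hPP', coeff_C_mul, pow_succ, mul_comm]
      exact mul_dvd_mul_left 2 this
  refine main h P ?_ r hr heq
  intro i hi
  exact coeff_eq_zero_of_natDegree_lt (lt_of_lt_of_le hdeg hi)

end Cfsg.Agent.Lib.H3.KZ
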