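import Cfsg.Agent.Lib.H3.KZD2
import Cfsg.Agent.Lib.H23.BlockLocal

/-!
# S4540 piece D2, instantiated at helper23's local ring at a 2-modular ideal (helper3).
-/

set_option autoImplicit false

namespace Cfsg.Agent.Lib.H3.KZ

open Polynomial Cfsg Cfsg.Agent.Lib.H23

/-- D2 for `MemLocalRing M` / `MemLocalIdeal M`, `M` a 2-modular ideal of the algebraic
integers: if `ζ ^ (2 ^ e) = -1`, `P ∈ ℤ[X]` of degree `< 2 ^ e`, `m` odd and
`m * P(ζ) = 2 ^ h * r` with `r` a local integer, then `2 ^ h` divides every coefficient of `P`. -/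
theorem two_pow_dvd_coeff_local {M : Ideal AlgInt} (hM : IsPModular 2 M)
    (ζ : ℂ) (e : ℕ) (hζ : ζ ^ (2 ^ e) = -1)
    (P : Polynomial ℤ) (hdeg : P.natDegree < 2 ^ e) (m : ℤ) (hodd : Odd m)
    (h : ℕ) (r : ℂ) (hr : MemLocalRing M r) (heq : (m : ℂ) * aeval ζ P = 2 ^ h * r) :
    ∀ i, (2 : ℤ) ^ h ∣ P.coeff i := by
  have := isPrime_of_isPModular hM
  have hζint : IsIntegral ℤ ζ := by
    refine IsIntegral.of_pow (n := 2 ^ e) (by positivity) ?_
    rw [hζ]
    exact (isIntegral_one).neg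
  refine two_pow_dvd_coeff (localRing M) {z | MemLocalIdeal M z}
    (fun a b ha hb => memLocalIdeal_add ha hb)
    (fun a b ha hb => memLocalIdeal_mul_left ha hb)
    (fun k => by
      have := intCast_memLocalIdeal_iff hM k
      simpa using this)
    (fun z hz hz' => memLocalRing_inv hz hz')
    ζ (isIntegral_mem_localRing hζint) e hζ P hdeg m hodd h r hr heq

end Cfsg.Agent.Lib.H3.KZ
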