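import Mathlib
import Cfsg.Agent.Lib.H1.Hall
import Cfsg.Agent.Lib.H1.SolvableBasic
import Cfsg.Agent.S0069

/-!
# Lucido's three-primes lemma

In a finite solvable group, among any three distinct primes dividing the order, two are "adjacent":
some element has order the product of two of them.
-/

set_option autoImplicit false

universe u

namespace Cfsg.Agent.Lib.H3.Lucido3

open scoped Pointwise

/-- orders of elements lift along surjective homomorphisms of finite groups -/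
theorem exists_orderOf_eq_of_surjective {G Q : Type*} [Group G] [Finite G] [Group Q]
    (f : G →* Q) (hf : Function.Surjective f) (y : Q) : ∃ g : G, orderOf g = orderOf y := by
  obtain ⟨g, rfl⟩ := hf y
  have h1 : orderOf (f g) ∣ orderOf g := orderOf_map_dvd f g
  have h0 : orderOf g ≠ 0 := (orderOf_pos g).ne'
  exact ⟨g ^ (orderOf g / orderOf (f g)), orderOf_pow_orderOf_div h0 h1⟩

/-- the order of a Hall `{a, b}`-subgroup -/
theorem hall_order (N a b : ℕ) (hN : N ≠ 0) (ha : a.Prime) (hb : b.Prime) (hab : a ≠ b)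
    (haN : a ∣ N) (hbN : b ∣ N) :
    ∃ m n : ℕ, N = m * n ∧ m.Coprime n ∧ a ∣ m ∧ b ∣ m ∧
      ∀ ℓ : ℕ, ℓ.Prime → ℓ ∣ m → ℓ = a ∨ ℓ = b := by
  set α := N.factorization a with hα
  set N1 := N / a ^ α with hN1
  have e1 : a ^ α * N1 = N := Nat.ordProj_mul_ordCompl_eq_self N a
  have hN1pos : N1 ≠ 0 := (Nat.ordCompl_pos a hN).ne'
  have hcopa : Nat.Coprime a N1 := Nat.coprime_ordCompl ha hN
  set β := N1.factorization b with hβ
  set N2 := N1 / b ^ β with hN2
  have e2 : b ^ β * N2 = N1 := Nat.ordProj_mul_ordCompl_eq_self N1 b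
  have hcopb : Nat.Coprime b N2 := Nat.coprime_ordCompl hb hN1pos
  have hN2dvd : N2 ∣ N1 := ⟨b ^ β, by rw [← e2, mul_comm]⟩
  have hcopa2 : Nat.Coprime a N2 := Nat.Coprime.coprime_dvd_right hN2dvd hcopa
  have hα1 : 0 < α := ha.factorization_pos_of_dvd hN haN
  have hbN1 : b ∣ N1 := by
    have h1 : b ∣ a ^ α * N1 := e1 ▸ hbN
    have h2 : Nat.Coprime b (a ^ α) := Nat.Coprime.pow_right _ ((Nat.coprime_primes hb ha).2 hab.symm)
    exact h2.dvd_of_dvd_mul_left h1
  have hβ1 : 0 < β := hb.factorization_pos_of_dvd hN1pos hbN1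
  refine ⟨a ^ α * b ^ β, N2, ?_, ?_, ?_, ?_, ?_⟩
  · rw [mul_assoc, e2, e1]
  · exact Nat.Coprime.mul_left (hcopa2.pow_left _) (hcopb.pow_left _)
  · exact dvd_mul_of_dvd_left (dvd_pow_self a hα1.ne') _
  · exact dvd_mul_of_dvd_right (dvd_pow_self b hβ1.ne') _
  · intro ℓ hℓ hdvd
    rcases (Nat.Prime.dvd_mul hℓ).1 hdvd with h | h
    · left
      exact (Nat.prime_dvd_prime_iff_eq hℓ ha).1 (hℓ.dvd_of_dvd_pow h)
    · right
      exact (Nat.prime_dvd_prime_iff_eq hℓ hb).1 (hℓ.dvd_of_dvd_pow h)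

/-- a power of prime order -/
theorem exists_pow_prime_order {G : Type*} [Group G] [Finite G] (x : G) {ℓ : ℕ}
    (hℓ : ℓ ∣ orderOf x) : orderOf (x ^ (orderOf x / ℓ)) = ℓ :=
  orderOf_pow_orderOf_div (orderOf_pos x).ne' hℓ

/-- a fixed-point-free group of automorphisms has a nontrivial centre (S0069, internal form) -/
theorem exists_central_of_fpf {G : Type u} [Group G] [Finite G] (R H : Subgroup G)
    (hRn : R.Normal) (hR1 : R ≠ ⊥) (hH1 : H ≠ ⊥)
    (hfpf : ∀ h ∈ H, h ≠ 1 → ∀ x ∈ R, x ≠ 1 → h * x ≠ x * h) :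
    ∃ z ∈ H, z ≠ 1 ∧ ∀ h ∈ H, h * z = z * h := by
  set L : Subgroup G := R ⊔ H with hL
  have hRL : R ≤ L := le_sup_left
  have hHL : H ≤ L := le_sup_right
  set K' : Subgroup L := R.subgroupOf L with hK'
  set H' : Subgroup L := H.subgroupOf L with hH'
  haveI : K'.Normal := hRn.subgroupOf L
  have hd : Disjoint K' H' := by
    rw [Subgroup.disjoint_def]
    intro x hxK hxH
    have h1 : (x : G) ∈ R := Subgroup.mem_subgroupOf.1 hxK
    have h2 : (x : G) ∈ H := Subgroup.mem_subgroupOf.1 hxH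
    by_contra hx1
    have hx1' : (x : G) ≠ 1 := fun h => hx1 (Subtype.ext h)
    exact hfpf _ h2 hx1' _ h1 hx1' rfl
  have hmul : (K' : Set L) * (H' : Set L) = Set.univ := by
    rw [Set.eq_univ_iff_forall]
    intro l
    haveI := hRn
    obtain ⟨y, hy, z, hz, hyz⟩ := (Subgroup.mem_sup_of_normal_left (s := R) (t := H)).1 l.2
    refine Set.mem_mul.2 ⟨⟨y, hRL hy⟩, ?_, ⟨z, hHL hz⟩, ?_, ?_⟩
    · exact Subgroup.mem_subgroupOf.2 hy
    · exact Subgroup.mem_subgroupOf.2 hz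
    · exact Subtype.ext hyz
  have hc : Subgroup.IsComplement' K' H' :=
    Subgroup.isComplement'_of_disjoint_and_mul_eq_univ hd hmul
  have hK1 : K' ≠ ⊥ := by
    intro h
    apply hR1
    rw [eq_bot_iff]
    intro x hx
    have : (⟨x, hRL hx⟩ : L) ∈ K' := Subgroup.mem_subgroupOf.2 hx
    rw [h, Subgroup.mem_bot] at this
    rw [Subgroup.mem_bot]
    exact congrArg Subtype.val this
  have hH1' : H' ≠ ⊥ := by
    intro h
    apply hH1
    rw [eq_bot_iff]
    intro x hx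
    have : (⟨x, hHL hx⟩ : L) ∈ H' := Subgroup.mem_subgroupOf.2 hx
    rw [h, Subgroup.mem_bot] at this
    rw [Subgroup.mem_bot]
    exact congrArg Subtype.val this
  have hfpf' : ∀ h ∈ H', h ≠ 1 → K' ⊓ Subgroup.centralizer {h} = ⊥ := by
    intro h hh hh1
    rw [eq_bot_iff]
    intro x hx
    rw [Subgroup.mem_bot]
    by_contra hx1
    have h1 : (x : G) ∈ R := Subgroup.mem_subgroupOf.1 hx.1
    have h2 : (h : G) ∈ H := Subgroup.mem_subgroupOf.1 hh
    have h3 : h * x = x * h := by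
      have := Subgroup.mem_centralizer_iff.1 hx.2 h (Set.mem_singleton h)
      exact this
    exact hfpf _ h2 (fun e => hh1 (Subtype.ext e)) _ h1 (fun e => hx1 (Subtype.ext e))
      (congrArg Subtype.val h3)
  have hcen := Cfsg.Agent.S0069.result K' H' hc hK1 hH1' hfpf'
  obtain ⟨z, hz1⟩ := (Subgroup.ne_bot_iff_exists_ne_one).1 hcen
  refine ⟨((z : H') : L), Subgroup.mem_subgroupOf.1 (z : H').2, ?_, ?_⟩
  · intro h
    apply hz1
    apply Subtype.ext
    apply Subtype.ext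
    apply Subtype.ext
    exact h
  · intro h hh
    have hmem : (⟨h, hHL hh⟩ : L) ∈ H' := Subgroup.mem_subgroupOf.2 hh
    have := Subgroup.mem_center_iff.1 z.2 ⟨⟨h, hHL hh⟩, hmem⟩
    have h4 := congrArg (fun w : H' => ((w : L) : G)) this
    exact h4

/-- the core: a nontrivial normal `t`-subgroup and two further primes -/
theorem core {G : Type u} [Group G] [Finite G] (hG : Group.IsSolvable G) {t a b : ℕ}
    (ht : t.Prime) (ha : a.Prime) (hb : b.Prime) (hta : t ≠ a) (htb : t ≠ b) (hab : a ≠ b)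
    (R : Subgroup G) (hRn : R.Normal) (hRt : IsPGroup t R) (hR1 : R ≠ ⊥)
    (haG : a ∣ Nat.card G) (hbG : b ∣ Nat.card G) :
    ∃ g : G, orderOf g = t * a ∨ orderOf g = t * b ∨ orderOf g = a * b := by
  haveI := hG
  obtain ⟨m, n, hN, hcop, ham, hbm, hprimes⟩ :=
    hall_order (Nat.card G) a b Nat.card_pos.ne' ha hb hab haG hbG
  obtain ⟨H, hH⟩ := Cfsg.Agent.Lib.H1.hall_exists hN hcop
  -- every nontrivial element of `H` has a power of order `a` or `b`
  have hpowH : ∀ h ∈ H, h ≠ 1 → ∃ ℓ : ℕ, (ℓ = a ∨ ℓ = b) ∧ ∃ j : ℕ, orderOf (h ^ j) = ℓ := by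
    intro h hh hh1
    have hdvd : orderOf h ∣ m := hH ▸ Subgroup.orderOf_dvd_natCard H hh
    have hne : orderOf h ≠ 1 := fun e => hh1 (orderOf_eq_one_iff.1 e)
    obtain ⟨ℓ, hℓ, hℓd⟩ := Nat.exists_prime_and_dvd hne
    exact ⟨ℓ, hprimes ℓ hℓ (hℓd.trans hdvd), _, exists_pow_prime_order h hℓd⟩
  -- every nontrivial element of `R` has a power of order `t`
  have hpowR : ∀ x ∈ R, x ≠ 1 → ∃ j : ℕ, orderOf (x ^ j) = t := by
    intro x hx hx1
    obtain ⟨k, hk⟩ := hRt ⟨x, hx⟩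
    have hk' : x ^ t ^ k = 1 := by
      have := congrArg Subtype.val hk
      simpa using this
    have hdvd : orderOf x ∣ t ^ k := orderOf_dvd_of_pow_eq_one hk'
    obtain ⟨j, -, hj⟩ := (Nat.dvd_prime_pow ht).1 hdvd
    have hj0 : j ≠ 0 := by
      intro e
      rw [e, pow_zero] at hj
      exact hx1 (orderOf_eq_one_iff.1 hj)
    have htd : t ∣ orderOf x := by
      rw [hj]
      exact dvd_pow_self t hj0
    exact ⟨_, exists_pow_prime_order x htd⟩
  have hcoprime : ∀ ℓ : ℕ, (ℓ = a ∨ ℓ = b) → Nat.Coprime t ℓ := by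
    rintro ℓ (rfl | rfl)
    · exact (Nat.coprime_primes ht ha).2 hta
    · exact (Nat.coprime_primes ht hb).2 htb
  by_cases hcase : ∃ h ∈ H, h ≠ 1 ∧ ∃ x ∈ R, x ≠ 1 ∧ h * x = x * h
  · obtain ⟨h, hh, hh1, x, hx, hx1, hcomm⟩ := hcase
    obtain ⟨ℓ, hℓ, j, hj⟩ := hpowH h hh hh1
    obtain ⟨i, hi⟩ := hpowR x hx hx1
    have hc : Commute (x ^ i) (h ^ j) := (Commute.pow_pow (show Commute x h from hcomm.symm) i j)
    have hord : orderOf (x ^ i * h ^ j) = t * ℓ := by
      rw [hc.orderOf_mul_eq_mul_orderOf_of_coprime (by rw [hi, hj]; exact hcoprime ℓ hℓ), hi, hj]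
    refine ⟨x ^ i * h ^ j, ?_⟩
    rcases hℓ with rfl | rfl
    · exact Or.inl hord
    · exact Or.inr (Or.inl hord)
  · push Not at hcase
    have hH1 : H ≠ ⊥ := by
      intro e
      rw [e, Subgroup.card_bot] at hH
      rw [← hH] at ham
      exact ha.one_lt.ne' (Nat.dvd_one.1 ham)
    obtain ⟨z, hzH, hz1, hzc⟩ := exists_central_of_fpf R H hRn hR1 hH1
      (fun h hh hh1 x hx hx1 => hcase h hh hh1 x hx hx1)
    obtain ⟨ℓ, hℓ, j, hj⟩ := hpowH z hzH hz1
    have hzjc : ∀ h ∈ H, Commute (z ^ j) h := fun h hh =>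
      (Commute.pow_left (show Commute z h from (hzc h hh).symm) j)
    -- the other prime
    have hother : ∀ ℓ' : ℕ, ℓ'.Prime → ℓ' ∣ m → ∃ y ∈ H, orderOf y = ℓ' := by
      intro ℓ' hℓ' hd
      haveI : Fact ℓ'.Prime := ⟨hℓ'⟩
      obtain ⟨y, hy⟩ := exists_prime_orderOf_dvd_card' (G := H) ℓ' (hH ▸ hd)
      exact ⟨(y : G), y.2, by rw [Subgroup.orderOf_coe]; exact hy⟩
    rcases hℓ with rfl | rfl
    · obtain ⟨y, hyH, hy⟩ := hother b hb hbm
      refine ⟨z ^ j * y, Or.inr (Or.inr ?_)⟩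
      rw [(hzjc y hyH).orderOf_mul_eq_mul_orderOf_of_coprime
        (by rw [hj, hy]; exact (Nat.coprime_primes ha hb).2 hab), hj, hy]
    · obtain ⟨y, hyH, hy⟩ := hother a ha ham
      refine ⟨z ^ j * y, Or.inr (Or.inr ?_)⟩
      rw [(hzjc y hyH).orderOf_mul_eq_mul_orderOf_of_coprime
        (by rw [hj, hy]; exact (Nat.coprime_primes hb ha).2 hab.symm), hj, hy, mul_comm]

/-- auxiliary form for the induction on the order -/
theorem three_primes_aux : ∀ (N : ℕ) (G : Type u) [Group G] [Finite G], Nat.card G = N →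
    Group.IsSolvable G → ∀ {p q r : ℕ}, p.Prime → q.Prime → r.Prime → p ≠ q → p ≠ r → q ≠ r →
    p ∣ Nat.card G → q ∣ Nat.card G → r ∣ Nat.card G →
    ∃ g : G, orderOf g = p * q ∨ orderOf g = p * r ∨ orderOf g = q * r := by
  intro N
  induction N using Nat.strong_induction_on with
  | _ N ih =>
    intro G _ _ hcard hG p q r hp hq hr hpq hpr hqr hpG hqG hrG
    haveI := hG
    haveI : Nontrivial G := by
      rw [← Finite.one_lt_card_iff_nontrivial]
      exact lt_of_lt_of_le hp.one_lt (Nat.le_of_dvd Nat.card_pos hpG)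
    obtain ⟨t, htF, R, hRn, hRt, hR1⟩ :=
      Cfsg.Agent.Lib.H1.exists_normal_isPGroup_ne_bot_of_isSolvable (G := G)
    have ht : t.Prime := htF.out
    by_cases htp : t = p
    · subst htp
      exact core hG ht hq hr hpq hpr hqr R hRn hRt hR1 hqG hrG
    by_cases htq : t = q
    · subst htq
      obtain ⟨g, hg⟩ := core hG ht hp hr (Ne.symm hpq) hqr hpr R hRn hRt hR1 hpG hrG
      refine ⟨g, ?_⟩
      rcases hg with h | h | h
      · exact Or.inl (by rw [h, mul_comm])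
      · exact Or.inr (Or.inr h)
      · exact Or.inr (Or.inl h)
    by_cases htr : t = r
    · subst htr
      obtain ⟨g, hg⟩ := core hG ht hp hq (Ne.symm hpr) (Ne.symm hqr) hpq R hRn hRt hR1 hpG hqG
      refine ⟨g, ?_⟩
      rcases hg with h | h | h
      · exact Or.inr (Or.inl (by rw [h, mul_comm]))
      · exact Or.inr (Or.inr (by rw [h, mul_comm]))
      · exact Or.inl h
    -- `t` is a fourth prime: pass to the quotient
    haveI := hRn
    have hcardQ : Nat.card G = Nat.card (G ⧸ R) * Nat.card R :=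
      Subgroup.card_eq_card_quotient_mul_card_subgroup R
    have hRcard : ∃ k : ℕ, Nat.card R = t ^ k := (IsPGroup.iff_card).1 hRt
    obtain ⟨k, hk⟩ := hRcard
    have hdvdQ : ∀ ℓ : ℕ, ℓ.Prime → t ≠ ℓ → ℓ ∣ Nat.card G → ℓ ∣ Nat.card (G ⧸ R) := by
      intro ℓ hℓ hne hd
      rw [hcardQ, hk] at hd
      have hco : Nat.Coprime ℓ (t ^ k) := Nat.Coprime.pow_right _ ((Nat.coprime_primes hℓ ht).2 hne.symm)
      exact hco.dvd_of_dvd_mul_right hd
    have hlt : Nat.card (G ⧸ R) < N := by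
      rw [← hcard, hcardQ]
      have hRgt : 1 < Nat.card R := by
        rw [Finite.one_lt_card_iff_nontrivial]
        exact (Subgroup.nontrivial_iff_ne_bot R).2 hR1
      have hQpos : 0 < Nat.card (G ⧸ R) := Nat.card_pos
      nlinarith
    have hQsolv : Group.IsSolvable (G ⧸ R) := inferInstance
    obtain ⟨y, hy⟩ := ih _ hlt (G ⧸ R) rfl hQsolv hp hq hr hpq hpr hqr
      (hdvdQ p hp htp hpG) (hdvdQ q hq htq hqG) (hdvdQ r hr htr hrG)
    obtain ⟨g, hg⟩ := exists_orderOf_eq_of_surjective (QuotientGroup.mk' R)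
      (QuotientGroup.mk'_surjective R) y
    exact ⟨g, by rw [hg]; exact hy⟩

/-- **Lucido's three-primes lemma.** -/
theorem three_primes {G : Type u} [Group G] [Finite G] (hG : Group.IsSolvable G) {p q r : ℕ}
    (hp : p.Prime) (hq : q.Prime) (hr : r.Prime) (hpq : p ≠ q) (hpr : p ≠ r) (hqr : q ≠ r)
    (hpG : p ∣ Nat.card G) (hqG : q ∣ Nat.card G) (hrG : r ∣ Nat.card G) :
    ∃ g : G, orderOf g = p * q ∨ orderOf g = p * r ∨ orderOf g = q * r :=
  three_primes_aux _ G rfl hG hp hq hr hpq hpr hqr hpG hqG hrG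

end Cfsg.Agent.Lib.H3.Lucido3
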