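import Mathlib
import Cfsg.Agent.Lib.H1.M11U.Defs

/-!
# S0420 piece QREG (`Q_semiregular`): sig-shaped core (helper3)

`Q = N(P) ∩ N(P')` (order 8) acts semiregularly on `P ∖ {1}`.  The earlier pieces `card_sylow3_sub`,
`centralizer_eq`, `central_invol_fpf`, `exists_sylow2_ge`, `invol_count` of `tools/blueprints/S0420_sigs.lean`
enter as explicit hypotheses, in the exact shapes of the sigs file; the conclusion is the one of `Sigs.Q_semiregular`.

Route: if `q ≠ 1` in `Q` centralises `v ≠ 1` in `P`, replace `v` by an element `w` of order 3 (`v` or `v ^ 3`);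
`q` lies in `C(w)` (order 18) and in `Q` (order 8), so `q` is an involution.
* unique involution in `Q`: `Q` is normal in `S` (index 2), so `q` is central in `S`; `central_invol_fpf`.
* `Q` of exponent 2: `Q` is abelian, `A = C_P(q)` is `Q`-invariant of order 3 or 9. Order 9: `q ∈ C(P) = P`, absurd.
  Order 3: `A = ⟨w⟩`, every element of `Q` centralises or inverts `w`, `K = C_Q(w)` has order dividing
  `gcd (8, 18) = 2` and `Q = K ∪ a K`, so `8 ≤ 4`.
-/

set_option autoImplicit false
open scoped Pointwise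

universe u

namespace Cfsg.Agent.Lib.H3.M11U

open Cfsg.Agent.Lib.H1.M11U

variable {G : Type u} [Group G] [Finite G]

omit [Finite G] in
/-- an element of exponent-2 subgroup commutes with the others -/
theorem comm_of_exp_two {Q : Subgroup G} (hexp : ∀ q ∈ Q, q * q = 1) {a b : G} (ha : a ∈ Q) (hb : b ∈ Q) :
    a * b = b * a := by
  have h1 : a * b * (a * b) = 1 := hexp _ (Q.mul_mem ha hb)
  have ha' : a⁻¹ = a := (eq_inv_of_mul_eq_one_left (hexp a ha)).symm
  have hb' : b⁻¹ = b := (eq_inv_of_mul_eq_one_left (hexp b hb)).symm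
  have h2 : a * b = (a * b)⁻¹ := eq_inv_of_mul_eq_one_left h1
  rw [h2, mul_inv_rev, ha', hb']

omit [Finite G] in
/-- in a Sylow 3-subgroup of order 9, a fixed nontrivial element gives a fixed element of order 3 -/
theorem exists_order3_fixed {P : Sylow 3 G} (hP9 : Nat.card (P : Subgroup G) = 9) {q v : G}
    (hv : v ∈ (P : Subgroup G)) (hv1 : v ≠ 1) (hfix : q * v * q⁻¹ = v) :
    ∃ w ∈ (P : Subgroup G), orderOf w = 3 ∧ q * w * q⁻¹ = w := by
  have h1 : orderOf v ∣ 3 ^ 2 := by
    have := orderOf_dvd_natCard (⟨v, hv⟩ : ↥(P : Subgroup G))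
    rwa [Subgroup.orderOf_mk, hP9] at this
  obtain ⟨k, hk, hk'⟩ := (Nat.dvd_prime_pow Nat.prime_three).1 h1
  interval_cases k
  · exfalso
    rw [pow_zero, orderOf_eq_one_iff] at hk'
    exact hv1 hk'
  · exact ⟨v, hv, by rw [hk']; norm_num, hfix⟩
  · refine ⟨v ^ 3, (P : Subgroup G).pow_mem hv 3, ?_, ?_⟩
    · rw [orderOf_pow' v (by norm_num : (3 : ℕ) ≠ 0), hk']
      norm_num
    · rw [← conj_pow, hfix]

/-- (QREG, core) `Q = N(P) ∩ N(P')` acts semiregularly on `P ∖ {1}`. -/
theorem Q_semiregular_core (h : Hyp G)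
    (card_sylow3_sub : ∀ P : Sylow 3 G, Nat.card (P : Subgroup G) = 9)
    (centralizer_eq : ∀ P : Sylow 3 G,
      Subgroup.centralizer ((P : Subgroup G) : Set G) = (P : Subgroup G))
    (central_invol_fpf : ∀ (P : Sylow 3 G) (S : Subgroup G), S ≤ Nrm P → Nat.card S = 16 →
      ∀ {z : G}, z ∈ S → orderOf z = 2 → (∀ s ∈ S, s * z = z * s) →
      ∀ {v : G}, v ∈ (P : Subgroup G) → z * v * z⁻¹ = v → v = 1)
    (exists_sylow2_ge : ∀ {P P' : Sylow 3 G}, Adj P P' →
      ∃ S : Subgroup G, S ≤ Nrm P ∧ Nat.card S = 16 ∧ Nrm P ⊓ Nrm P' ≤ S)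
    (invol_count : ∀ {P P' : Sylow 3 G}, Adj P P' →
      (∃! z, z ∈ Nrm P ⊓ Nrm P' ∧ orderOf z = 2) ∨ (∀ q ∈ Nrm P ⊓ Nrm P', q * q = 1))
    {P P' : Sylow 3 G} (hadj : Adj P P') {q : G}
    (hq : q ∈ Nrm P ⊓ Nrm P') (hq1 : q ≠ 1) {v : G} (hv : v ∈ (P : Subgroup G)) (hv1 : v ≠ 1) :
    q * v * q⁻¹ ≠ v := by
  classical
  intro hfix
  set Q : Subgroup G := Nrm P ⊓ Nrm P' with hQdef
  have hQ8 : Nat.card Q = 8 := hadj
  have hP9 := card_sylow3_sub P
  -- an element of order 3 centralised by `q`
  obtain ⟨w, hwP, hw3, hwfix⟩ := exists_order3_fixed hP9 hv hv1 hfix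
  have hw1 : w ≠ 1 := by
    intro h1
    rw [h1, orderOf_one] at hw3
    omega
  have hqw : q * w = w * q := by
    have := hwfix
    rw [mul_inv_eq_iff_eq_mul] at this
    exact this
  have hC18 := h.cent3 w hw3
  -- `q` is an involution
  have hq2 : orderOf q = 2 := by
    have h1 : orderOf q ∣ 8 := by
      have := orderOf_dvd_natCard (⟨q, hq⟩ : ↥Q)
      rwa [Subgroup.orderOf_mk, hQ8] at this
    have hqC : q ∈ Subgroup.centralizer ({w} : Set G) := by
      rw [Subgroup.mem_centralizer_singleton_iff]; exact hqw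
    have h2 : orderOf q ∣ 18 := by
      have := orderOf_dvd_natCard (⟨q, hqC⟩ : ↥(Subgroup.centralizer ({w} : Set G)))
      rwa [Subgroup.orderOf_mk, hC18] at this
    have h3 : orderOf q ∣ Nat.gcd 8 18 := Nat.dvd_gcd h1 h2
    have h4 : orderOf q ∣ 2 := by simpa using h3
    rcases (Nat.dvd_prime Nat.prime_two).1 h4 with h5 | h5
    · exact absurd (orderOf_eq_one_iff.1 h5) hq1
    · exact h5
  rcases invol_count hadj with ⟨z, ⟨hzQ, hz2⟩, huniq⟩ | hexp
  · -- unique involution: `q` is central in `S`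
    have hqz : q = z := huniq q ⟨hq, hq2⟩
    obtain ⟨S, hSN, hS16, hQS⟩ := exists_sylow2_ge hadj
    have hrel : Q.relIndex S = 2 := by
      have h1 : Nat.card Q * Q.relIndex S = Nat.card S := by
        have := Subgroup.relIndex_mul_relIndex ⊥ Q S bot_le hQS
        rwa [Subgroup.relIndex_bot_left, Subgroup.relIndex_bot_left] at this
      rw [hQ8, hS16] at h1
      omega
    have hQn : (Q.subgroupOf S).Normal := Subgroup.normal_of_index_eq_two hrel
    have hconjQ : ∀ t ∈ S, ∀ x ∈ Q, t * x * t⁻¹ ∈ Q := by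
      intro t ht x hx
      have := hQn.conj_mem ⟨x, hQS hx⟩ (Subgroup.mem_subgroupOf.mpr hx) ⟨t, ht⟩
      rw [Subgroup.mem_subgroupOf] at this
      simpa using this
    have hcentral : ∀ s ∈ S, s * q = q * s := by
      intro s hs
      have h1 : s * q * s⁻¹ ∈ Q := hconjQ s hs q hq
      have h2 : orderOf (s * q * s⁻¹) = 2 := by
        have := orderOf_injective (MulAut.conj s).toMonoidHom (MulAut.conj s).injective q
        rw [MulEquiv.coe_toMonoidHom, MulAut.conj_apply] at this
        rw [this, hq2]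
      have h3 : s * q * s⁻¹ = z := huniq _ ⟨h1, h2⟩
      rw [← hqz, mul_inv_eq_iff_eq_mul] at h3
      exact h3
    exact hv1 (central_invol_fpf P S hSN hS16 (hQS hq) hq2 hcentral hv hfix)
  · -- `Q` of exponent 2, hence abelian
    have hcomm : ∀ a ∈ Q, ∀ b ∈ Q, a * b = b * a := fun a ha b hb => comm_of_exp_two hexp ha hb
    have hqinv : q⁻¹ = q := (eq_inv_of_mul_eq_one_left (hexp q hq)).symm
    set A : Subgroup G := (P : Subgroup G) ⊓ Subgroup.centralizer ({q} : Set G) with hAdef
    have hmemA : ∀ u : G, u ∈ A ↔ u ∈ (P : Subgroup G) ∧ u * q = q * u := by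
      intro u
      rw [hAdef, Subgroup.mem_inf, Subgroup.mem_centralizer_singleton_iff]
    have hwA : w ∈ A := (hmemA w).2 ⟨hwP, hqw.symm⟩
    have hAP : A ≤ (P : Subgroup G) := inf_le_left
    have hzw : Subgroup.zpowers w ≤ A := by
      rw [Subgroup.zpowers_le]; exact hwA
    have hcz : Nat.card (Subgroup.zpowers w) = 3 := by rw [Nat.card_zpowers, hw3]
    have h3A : 3 ∣ Nat.card A := by
      rw [← hcz]; exact Subgroup.card_dvd_of_le hzw
    have hA9 : Nat.card A ∣ 3 ^ 2 := by
      have := Subgroup.card_dvd_of_le hAP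
      rwa [hP9] at this
    obtain ⟨k, hk, hk'⟩ := (Nat.dvd_prime_pow Nat.prime_three).1 hA9
    interval_cases k
    · rw [hk'] at h3A
      norm_num at h3A
    · -- `|A| = 3`: `A = ⟨w⟩`
      have hAeq : Subgroup.zpowers w = A :=
        Subgroup.eq_of_le_of_card_ge hzw (by rw [hcz, hk']; norm_num)
      -- `A` is `Q`-invariant
      have hAinv : ∀ a ∈ Q, a * w * a⁻¹ ∈ A := by
        intro a ha
        rw [hmemA]
        refine ⟨(Subgroup.mem_normalizer_iff.1 (Subgroup.mem_inf.1 ha).1 w).1 hwP, ?_⟩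
        have hainv : a⁻¹ ∈ Q := Q.inv_mem ha
        have e1 : a * q = q * a := hcomm a ha q hq
        have e2 : a⁻¹ * q = q * a⁻¹ := hcomm a⁻¹ hainv q hq
        calc a * w * a⁻¹ * q = a * w * (a⁻¹ * q) := by group
          _ = a * w * (q * a⁻¹) := by rw [e2]
          _ = a * (w * q) * a⁻¹ := by group
          _ = a * (q * w) * a⁻¹ := by rw [hqw]
          _ = (a * q) * w * a⁻¹ := by group
          _ = (q * a) * w * a⁻¹ := by rw [e1]
          _ = q * (a * w * a⁻¹) := by group
      have hw3' : w ^ 3 = 1 := by rw [← hw3]; exact pow_orderOf_eq_one w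
      -- every element of `Q` centralises or inverts `w`
      have hdich : ∀ a ∈ Q, a * w * a⁻¹ = w ∨ a * w * a⁻¹ = w⁻¹ := by
        intro a ha
        have h1 := hAinv a ha
        rw [← hAeq, Subgroup.mem_zpowers_iff] at h1
        obtain ⟨n, hn⟩ := h1
        have h2 : w ^ (n % 3) = a * w * a⁻¹ := by
          have := zpow_mod_orderOf w n
          rw [hw3] at this
          rw [← hn]
          exact_mod_cast this
        have h3 : 0 ≤ n % 3 := Int.emod_nonneg _ (by norm_num)
        have h4 : n % 3 < 3 := Int.emod_lt_of_pos _ (by norm_num)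
        have h5 : n % 3 = 0 ∨ n % 3 = 1 ∨ n % 3 = 2 := by omega
        rcases h5 with h5 | h5 | h5
        · exfalso
          rw [h5, zpow_zero] at h2
          have : w = 1 := by
            have h6 : a * w * a⁻¹ = 1 := h2.symm
            rw [mul_inv_eq_one] at h6
            exact mul_left_cancel (a := a) (by rw [h6, mul_one])
          exact hw1 this
        · left
          rw [h5, zpow_one] at h2
          exact h2.symm
        · right
          rw [h5] at h2
          rw [← h2]
          have : w ^ (2 : ℤ) * w = 1 := by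
            have : w ^ (2 : ℤ) * w = w ^ 3 := by
              rw [show (2 : ℤ) = ((2 : ℕ) : ℤ) from rfl, zpow_natCast]; group
            rw [this, hw3']
          exact eq_inv_of_mul_eq_one_left this
      -- `K = C_Q(w)` has order at most 2
      set K : Subgroup G := Q ⊓ Subgroup.centralizer ({w} : Set G) with hKdef
      have hmemK : ∀ a : G, a ∈ K ↔ a ∈ Q ∧ a * w * a⁻¹ = w := by
        intro a
        rw [hKdef, Subgroup.mem_inf, Subgroup.mem_centralizer_singleton_iff, mul_inv_eq_iff_eq_mul]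
      have hK2 : Nat.card K ≤ 2 := by
        have h1 : Nat.card K ∣ 8 := by
          rw [← hQ8]; exact Subgroup.card_dvd_of_le inf_le_left
        have h2 : Nat.card K ∣ 18 := by
          rw [← hC18]; exact Subgroup.card_dvd_of_le inf_le_right
        have h3 : Nat.card K ∣ Nat.gcd 8 18 := Nat.dvd_gcd h1 h2
        have h4 : Nat.card K ∣ 2 := by simpa using h3
        exact Nat.le_of_dvd (by norm_num) h4
      have hKn : (K : Set G).ncard ≤ 2 := by
        rw [← Nat.card_coe_set_eq]; exact hK2
      have hQn : (Q : Set G).ncard = 8 := by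
        rw [← Nat.card_coe_set_eq]; exact hQ8
      by_cases hall : ∀ a ∈ Q, a * w * a⁻¹ = w
      · have hQK : (Q : Set G) ⊆ (K : Set G) := fun a ha => (hmemK a).2 ⟨ha, hall a ha⟩
        have := Set.ncard_le_ncard hQK (Set.toFinite _)
        omega
      · push Not at hall
        obtain ⟨a, haQ, haw⟩ := hall
        have haw' : a * w * a⁻¹ = w⁻¹ := (hdich a haQ).resolve_left haw
        have hcover : (Q : Set G) ⊆ (K : Set G) ∪ (fun x => a * x) '' (K : Set G) := by
          intro b hb
          rcases hdich b hb with hb1 | hb1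
          · left
            exact (hmemK b).2 ⟨hb, hb1⟩
          · right
            refine ⟨a⁻¹ * b, (hmemK _).2 ⟨Q.mul_mem (Q.inv_mem haQ) hb, ?_⟩, by group⟩
            have e1 : a⁻¹ * w⁻¹ * a = w := by
              rw [← haw']; group
            calc a⁻¹ * b * w * (a⁻¹ * b)⁻¹ = a⁻¹ * (b * w * b⁻¹) * a := by group
              _ = a⁻¹ * w⁻¹ * a := by rw [hb1]
              _ = w := e1
        have h1 := Set.ncard_le_ncard hcover (Set.toFinite _)
        have h2 := Set.ncard_union_le (K : Set G) ((fun x => a * x) '' (K : Set G))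
        have h3 : ((fun x => a * x) '' (K : Set G)).ncard ≤ (K : Set G).ncard :=
          Set.ncard_image_le (Set.toFinite _)
        omega
    · -- `|A| = 9`: `q` centralises `P`
      have hAeq : A = (P : Subgroup G) :=
        Subgroup.eq_of_le_of_card_ge hAP (by rw [hP9, hk']; norm_num)
      have hqC : q ∈ Subgroup.centralizer ((P : Subgroup G) : Set G) := by
        rw [Subgroup.mem_centralizer_iff]
        intro u hu
        have : u ∈ A := by rw [hAeq]; exact hu
        exact ((hmemA u).1 this).2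
      rw [centralizer_eq P] at hqC
      have h1 : orderOf q ∣ 9 := by
        have := orderOf_dvd_natCard (⟨q, hqC⟩ : ↥(P : Subgroup G))
        rwa [Subgroup.orderOf_mk, hP9] at this
      rw [hq2] at h1
      omega

end Cfsg.Agent.Lib.H3.M11U
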