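import Mathlib
import Cfsg.Prelude.Def_Sporadic
import Cfsg.Agent.S0434
import Cfsg.Agent.Lib.H14.M7920STRUCT
import Cfsg.Agent.Lib.H19.O7920FINAL48
import Cfsg.Agent.Lib.H23.PermIrrA
import Cfsg.Agent.Lib.H24.CharOrth
import Cfsg.Agent.Lib.H24.CharBasic
import Cfsg.Agent.Lib.L0.CharOps

/-!
# S0420, piece R (architect helper1): a simple group of order 7920 acts with rank 3 on its 55 Sylow 3-subgroups

`π = permChar (Sylow 3 G)`: `π 1 = 55`, `π y = 0` for the element `y` with `|C(y)| = 5` (`5 ∤ 144 = |N(P)|`, landed S0434),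
`⟨π, 1⟩ = 1`; with the character data `H14.M7920.structure_7920` (degrees and the column of `y`) the multiplicities
are forced: `π = 1 + ψ i + θ'`, so `⟨π, π⟩ = 3`, which is the number of orbits on pairs
(`H23.PermIrr.classInner_permChar_permChar`).
-/

set_option autoImplicit false
set_option maxHeartbeats 1000000

universe u

namespace Cfsg.Agent.Lib.H3.M11U

open Cfsg Cfsg.Agent.Lib.L0 Cfsg.Agent.Lib.H24 Cfsg.Agent.Lib.H23 MulAction
open scoped ComplexConjugate BigOperators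

variable {G : Type u} [Group G] [Finite G]

theorem rank3_of_isM11 (hG : Cfsg.IsM11 G) :
    Nat.card (MulAction.orbitRel.Quotient G (Sylow 3 G × Sylow 3 G)) = 3 := by
  classical
  have hG' := hG
  obtain ⟨hS, hcard⟩ := hG
  have : IsSimpleGroup G := hS
  have : Fintype G := Fintype.ofFinite G
  have : Fintype (Sylow 3 G) := Fintype.ofFinite _
  have : Fintype (IrrCharacter G) := Fintype.ofFinite _
  have : Fact (Nat.Prime 3) := ⟨by norm_num⟩
  obtain ⟨x, y, ψ, ψ₄, χ₁, χ₂, θ, θ', φ, hx, hCx, hCy, hall, hinj, hdist, hne1, hdeg, hvalx, hF5,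
    hvaly⟩ := Cfsg.Agent.Lib.H14.M7920.structure_7920 (G := G) hcard
  -- the permutation character
  set π : G → ℂ := fun g => permChar (Sylow 3 G) g with hπdef
  have hπ : IsCharacter G π := PermIrr.isCharacter_permChar (Sylow 3 G)
  have hπcf := isClassFunction_of_isCharacter hπ
  -- normalizers have order 144
  have hN : ∀ P : Sylow 3 G, Nat.card (Subgroup.normalizer ((P : Subgroup G) : Set G)) = 144 :=
    fun P => Cfsg.Agent.S0434.result hG' P
  -- π 1 = 55
  have hπ1 : π 1 = 55 := by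
    obtain ⟨P⟩ : Nonempty (Sylow 3 G) := inferInstance
    have h1 : Nat.card (Sylow 3 G) = 55 := by
      have h2 := Subgroup.card_mul_index (Subgroup.normalizer ((P : Subgroup G) : Set G))
      rw [hN P, hcard] at h2
      have h2' : (Subgroup.normalizer ((P : Subgroup G) : Set G)).index = 55 := by omega
      rw [Sylow.card_eq_index_normalizer P]
      exact h2'
    have h3 : Nat.card (fixedBy (Sylow 3 G) (1 : G)) = 55 := by
      rw [← h1]
      apply Nat.card_congr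
      refine ⟨fun z => z.1, fun z => ⟨z, by rw [mem_fixedBy, one_smul]⟩, fun z => rfl, fun z => rfl⟩
    rw [hπdef]
    show (Nat.card (fixedBy (Sylow 3 G) (1 : G)) : ℂ) = 55
    rw [h3]; norm_num
  -- π y = 0
  have hy5 : orderOf y = 5 := by
    have hymem : y ∈ Subgroup.centralizer ({y} : Set G) :=
      Subgroup.mem_centralizer_singleton_iff.2 rfl
    have h1 : orderOf y ∣ 5 := by
      have := orderOf_dvd_natCard (⟨y, hymem⟩ : Subgroup.centralizer ({y} : Set G))
      rwa [Subgroup.orderOf_mk, hCy] at this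
    rcases (Nat.dvd_prime (by norm_num : Nat.Prime 5)).1 h1 with h | h
    · exfalso
      have hy1 : y = 1 := orderOf_eq_one_iff.1 h
      rw [hy1] at hCy
      have htop : Subgroup.centralizer ({(1 : G)} : Set G) = ⊤ := by
        rw [eq_top_iff]
        intro g _
        rw [Subgroup.mem_centralizer_singleton_iff]; simp
      rw [htop, Subgroup.card_top, hcard] at hCy
      omega
    · exact h
  have hπy : π y = 0 := by
    have hempty : IsEmpty (fixedBy (Sylow 3 G) y) := by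
      constructor
      rintro ⟨P, hP⟩
      rw [mem_fixedBy, Sylow.smul_eq_iff_mem_normalizer] at hP
      have h1 := orderOf_dvd_natCard (⟨y, hP⟩ : Subgroup.normalizer ((P : Subgroup G) : Set G))
      rw [Subgroup.orderOf_mk, hy5, hN P] at h1
      omega
    rw [hπdef]
    show (Nat.card (fixedBy (Sylow 3 G) y) : ℂ) = 0
    rw [Nat.card_of_isEmpty]; norm_num
  -- ⟨π, 1⟩ = 1
  have horb1 : Nat.card (orbitRel.Quotient G (Sylow 3 G)) = 1 := by
    have : Subsingleton (orbitRel.Quotient G (Sylow 3 G)) :=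
      (MulAction.pretransitive_iff_subsingleton_quotient G (Sylow 3 G)).1 inferInstance
    have : Nonempty (orbitRel.Quotient G (Sylow 3 G)) := by
      obtain ⟨P⟩ : Nonempty (Sylow 3 G) := inferInstance
      exact ⟨Quotient.mk'' P⟩
    exact Nat.card_unique
  -- multiplicities
  choose n hn using fun χ : IrrCharacter G =>
    classInner_char_char_nat hπ (isCharacter_of_irr χ.2)
  have hexp : π = ∑ χ : IrrCharacter G, (n χ : ℂ) • (χ : G → ℂ) := by
    have h := classFunction_expansion π hπcf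
    simp only [hn] at h
    exact h
  have hn1 : n (trivialIrr G) = 1 := by
    have h1 := PermIrr.classInner_permChar_one (H := G) (Sylow 3 G)
    rw [horb1] at h1
    have h2 : Cfsg.classInner π ((trivialIrr G : IrrCharacter G) : G → ℂ) = 1 := by
      have : ((trivialIrr G : IrrCharacter G) : G → ℂ) = (1 : G → ℂ) := rfl
      rw [this, hπdef]
      simpa using h1
    rw [hn] at h2
    exact_mod_cast h2
  obtain ⟨hdψ, hd4, hdχ₁, hdχ₂, hdθ, hdθ', hdφ⟩ := hdeg
  obtain ⟨hyψ, hy4, hyχ₁, hyχ₂, hyθ, hyθ', hyφ⟩ := hvaly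
  -- evaluation at `1` and at `y`
  have heval : ∀ g : G, π g = ∑ χ : IrrCharacter G, (n χ : ℂ) * (χ : G → ℂ) g := by
    intro g
    conv_lhs => rw [hexp]
    rw [Finset.sum_apply]
    refine Finset.sum_congr rfl fun χ _ => ?_
    rw [Pi.smul_apply, smul_eq_mul]
  have hE1 := heval 1
  rw [Cfsg.Agent.Lib.H19.O7920.sum_irr_ten ψ ψ₄ χ₁ χ₂ θ θ' φ hall hinj hdist hne1, hπ1] at hE1
  have hEy := heval y
  rw [Cfsg.Agent.Lib.H19.O7920.sum_irr_ten ψ ψ₄ χ₁ χ₂ θ θ' φ hall hinj hdist hne1, hπy] at hEy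
  simp only [trivialIrr_apply, hdψ, hd4, hdχ₁, hdχ₂, hdθ, hdθ', hdφ, hn1, Fin.sum_univ_three,
    Nat.cast_one] at hE1
  simp only [trivialIrr_apply, hyψ, hy4, hyχ₁, hyχ₂, hyθ, hyθ', hyφ, hn1, Fin.sum_univ_three,
    Nat.cast_one] at hEy
  -- pass to natural numbers
  have hE1' : (55 : ℤ) = 1 + (n (ψ 0) * 10 + n (ψ 1) * 10 + n (ψ 2) * 10) + n ψ₄ * 45 + n χ₁ * 16 +
      n χ₂ * 16 + n θ * 11 + n θ' * 44 + n φ * 55 := by
    have : ((55 : ℤ) : ℂ) = ((1 + (n (ψ 0) * 10 + n (ψ 1) * 10 + n (ψ 2) * 10) + n ψ₄ * 45 + n χ₁ * 16 +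
      n χ₂ * 16 + n θ * 11 + n θ' * 44 + n φ * 55 : ℤ) : ℂ) := by
      push_cast
      linear_combination hE1
    exact_mod_cast this
  have hEy' : (0 : ℤ) = 1 + n χ₁ + n χ₂ + n θ - n θ' := by
    have : ((0 : ℤ) : ℂ) = ((1 + n χ₁ + n χ₂ + n θ - n θ' : ℤ) : ℂ) := by
      push_cast
      linear_combination hEy
    exact_mod_cast this
  have hsol : n (ψ 0) + n (ψ 1) + n (ψ 2) = 1 ∧ n ψ₄ = 0 ∧ n χ₁ = 0 ∧ n χ₂ = 0 ∧ n θ = 0 ∧
      n θ' = 1 ∧ n φ = 0 := by omega
  obtain ⟨ha, hb, hc1, hc2, hd, hd', hf⟩ := hsol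
  -- the norm
  have hnorm : Cfsg.classInner π π = ∑ χ : IrrCharacter G, ((n χ : ℂ)) ^ 2 := by
    conv_lhs => rw [hexp, classInner_sum_left]
    refine Finset.sum_congr rfl fun χ _ => ?_
    rw [classInner_smul_left, ← hexp, ← classInner_conj_symm π, hn, Complex.conj_natCast, sq]
  rw [Cfsg.Agent.Lib.H19.O7920.sum_irr_ten ψ ψ₄ χ₁ χ₂ θ θ' φ hall hinj hdist hne1] at hnorm
  simp only [hn1, hb, hc1, hc2, hd, hd', hf, Fin.sum_univ_three] at hnorm
  have hsq : (n (ψ 0) : ℂ) ^ 2 + (n (ψ 1) : ℂ) ^ 2 + (n (ψ 2) : ℂ) ^ 2 = 1 := by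
    have hcases : (n (ψ 0) = 1 ∧ n (ψ 1) = 0 ∧ n (ψ 2) = 0) ∨ (n (ψ 0) = 0 ∧ n (ψ 1) = 1 ∧ n (ψ 2) = 0) ∨
        (n (ψ 0) = 0 ∧ n (ψ 1) = 0 ∧ n (ψ 2) = 1) := by omega
    rcases hcases with ⟨h0, h1, h2⟩ | ⟨h0, h1, h2⟩ | ⟨h0, h1, h2⟩ <;> rw [h0, h1, h2] <;> norm_num
  have h3 : Cfsg.classInner π π = 3 := by
    rw [hnorm, hsq]; norm_num
  have h4 := PermIrr.classInner_permChar_permChar (H := G) (Sylow 3 G) (Sylow 3 G)
  rw [show (fun g : G => permChar (Sylow 3 G) g) = π from rfl, h3] at h4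
  exact_mod_cast h4.symm

end Cfsg.Agent.Lib.H3.M11U
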