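import Mathlib
import Cfsg.Prelude.Def_Blocks
import Cfsg.Prelude.Def_Characters

/-!
# S4756 (architect helper23), pieces FPF1 + FPF2 (helper3): pure group theory

If the class of every non-`p`-element `g` is the full coset `g G'`, then `G'` is a `p`-group and a
nonidentity `p'`-element centralizes no nonidentity element of `G'`.
-/

set_option autoImplicit false

namespace Cfsg.Agent.Lib.H3.MUL

open Cfsg

/-- FPF1 -/
theorem isPGroup_commutator {G : Type*} [Group G] [Finite G] (p : ℕ) (hp : p.Prime)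
    (hK : ∀ g z : G, (¬ ∃ k : ℕ, orderOf g = p ^ k) → g⁻¹ * z ∈ commutator G → IsConj g z) :
    IsPGroup p ↥(commutator G) := by
  have : Fact p.Prime := ⟨hp⟩
  rw [IsPGroup.iff_card]
  -- every prime divisor of `|G'|` is `p`
  have hprime : ∀ s : ℕ, s.Prime → s ∣ Nat.card ↥(commutator G) → s = p := by
    intro s hs hdvd
    by_contra hsp
    have : Fact s.Prime := ⟨hs⟩
    obtain ⟨y, hy⟩ := exists_prime_orderOf_dvd_card' s hdvd
    have hy' : orderOf (y : G) = s := by
      rw [Subgroup.orderOf_coe]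
      exact hy
    have hnp : ¬ ∃ k : ℕ, orderOf (y : G) = p ^ k := by
      rintro ⟨k, hk⟩
      rw [hy'] at hk
      have h1 : s ∣ p ^ k := by rw [← hk]
      have h2 : s ∣ p := hs.dvd_of_dvd_pow h1
      exact hsp ((Nat.prime_dvd_prime_iff_eq hs hp).mp h2)
    have hconj : IsConj (y : G) 1 := by
      apply hK (y : G) 1 hnp
      rw [mul_one]
      exact (commutator G).inv_mem y.2
    have h1 : (y : G) = 1 := isConj_one_left.mp hconj
    rw [h1, orderOf_one] at hy'
    exact hs.one_lt.ne hy'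
  have hpos : Nat.card ↥(commutator G) ≠ 0 := Nat.card_pos.ne'
  exact ⟨_, Nat.eq_prime_pow_of_unique_prime_dvd hpos (fun {s} hs hd => hprime s hs hd)⟩

/-- FPF2 -/
theorem eq_one_of_commute_of_mem_commutator {G : Type*} [Group G] [Finite G] (p : ℕ) (hp : p.Prime)
    (hK : ∀ g z : G, (¬ ∃ k : ℕ, orderOf g = p ^ k) → g⁻¹ * z ∈ commutator G → IsConj g z)
    (h d : G) (hh : h ≠ 1) (hcop : (orderOf h).Coprime p) (hd : d ∈ commutator G)
    (hcomm : h * d = d * h) : d = 1 := by
  have : Fact p.Prime := ⟨hp⟩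
  have hD := isPGroup_commutator p hp hK
  -- `d` is a `p`-element
  obtain ⟨k, hk⟩ := hD ⟨d, hd⟩
  have hk' : d ^ p ^ k = 1 := by
    have := congrArg Subtype.val hk
    simpa using this
  have hdo : orderOf d ∣ p ^ k := orderOf_dvd_of_pow_eq_one hk'
  have hcop' : (orderOf h).Coprime (orderOf d) :=
    Nat.Coprime.coprime_dvd_right hdo (Nat.Coprime.pow_right k hcop)
  have hmul : orderOf (h * d) = orderOf h * orderOf d :=
    (show Commute h d from hcomm).orderOf_mul_eq_mul_orderOf_of_coprime hcop'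
  -- `h` is not a `p`-element
  have hnp : ¬ ∃ k : ℕ, orderOf h = p ^ k := by
    rintro ⟨j, hj⟩
    rw [hj] at hcop
    rcases Nat.eq_zero_or_pos j with h0 | h0
    · rw [h0, pow_zero, orderOf_eq_one_iff] at hj
      exact hh hj
    · have h1 : p ∣ p ^ j := dvd_pow_self p h0.ne'
      have h2 : p ∣ Nat.gcd (p ^ j) p := Nat.dvd_gcd h1 dvd_rfl
      rw [hcop] at h2
      exact hp.one_lt.ne' (Nat.dvd_one.mp h2)
  have hconj : IsConj h (h * d) := by
    apply hK h (h * d) hnp
    rw [inv_mul_cancel_left]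
    exact hd
  have hord : orderOf (h * d) = orderOf h := by
    obtain ⟨c, hc⟩ := isConj_iff.mp hconj
    rw [← hc]
    have e : c * h * c⁻¹ = MulAut.conj c h := rfl
    rw [e]
    exact MulEquiv.orderOf_eq (MulAut.conj c) h
  rw [hmul] at hord
  have hpos : 0 < orderOf h := orderOf_pos h
  have h1 : orderOf d = 1 := by
    have : orderOf h * orderOf d = orderOf h * 1 := by rw [hord, mul_one]
    exact Nat.eq_of_mul_eq_mul_left hpos this
  exact orderOf_eq_one_iff.mp h1

end Cfsg.Agent.Lib.H3.MUL
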