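/-
S2140 farm-out (architect helper26), piece C `not_caseII`:
Case II of the dichotomy (for every `a ≠ 0` the transvections `T(a,f)` in `H` are exactly those with
`f w_a = 0`) is contradictory.  Pure linear algebra + `tv_commutator`.
-/
import Cfsg.Agent.Lib.H26.MinIdxDefs
import Cfsg.Agent.Lib.H1.C3MaxBase

set_option autoImplicit false
set_option linter.unusedSectionVars false
set_option linter.unusedVariables false

namespace Cfsg.Agent.Lib.H3.MinIdx

open Module MulAction Cfsg.Agent.Lib.H26.MinIdx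

variable {F V : Type*} [Field F] [AddCommGroup V] [Module F V]

/-- `w` is valid for `a`: `w ∉ F a` and `T(a,f) ∈ H ↔ f w = 0` for all `f` with `f a = 0` -/
def CValid (H : Subgroup (SpecialLinearGroup F V)) (a w : V) : Prop :=
  (∀ c : F, c • a ≠ w) ∧ ∀ (f : Dual F V) (h : f a = 0), tv f a h ∈ H ↔ f w = 0

/-- a functional separating a vector from a subspace -/
theorem c_sep (S : Submodule F V) {x : V} (hx : x ∉ S) :
    ∃ f : Dual F V, f x ≠ 0 ∧ ∀ s ∈ S, f s = 0 := by
  obtain ⟨f, hf, hS⟩ := Submodule.exists_dual_map_eq_bot_of_notMem hx inferInstance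
  refine ⟨f, hf, fun s hs => ?_⟩
  have h1 : f s ∈ S.map f := Submodule.mem_map_of_mem hs
  rw [hS] at h1
  exact (Submodule.mem_bot F).1 h1

theorem c_shift {H : Subgroup (SpecialLinearGroup F V)} {a w : V} (hv : CValid H a w) (α : F)
    {β : F} (hβ : β ≠ 0) : CValid H a (α • a + β • w) := by
  refine ⟨fun c hc => ?_, fun f h => ?_⟩
  · apply hv.1 (β⁻¹ * (c - α))
    have h1 : β • w = (c - α) • a := by
      rw [sub_smul, hc]
      abel
    rw [← smul_smul, ← h1, smul_smul, inv_mul_cancel₀ hβ, one_smul]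
  · rw [hv.2 f h, map_add, map_smul, map_smul, h, smul_zero, zero_add, smul_eq_mul]
    constructor
    · intro h0
      rw [h0, mul_zero]
    · intro h0
      rcases mul_eq_zero.1 h0 with h1 | h1
      · exact absurd h1 hβ
      · exact h1

/-- the basic implication (commutator of two transvections) -/
theorem c_basic {H : Subgroup (SpecialLinearGroup F V)} {a wa b wb : V} (hva : CValid H a wa)
    (hvb : CValid H b wb) (ψ φ : Dual F V) (h1 : ψ b = 0) (h2 : ψ wb = 0) (h3 : ψ a ≠ 0)
    (h4 : φ a = 0) (h5 : φ wa = 0) (h6 : φ b = 0) : φ wb = 0 := by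
  have hT1 : tv ψ b h1 ∈ H := (hvb.2 ψ h1).2 h2
  have hT2 : tv φ a h4 ∈ H := (hva.2 φ h4).2 h5
  have hc := tv_commutator ψ φ b a h1 h4 h6
  have hmem : tv (ψ a • φ) b (by simp [h6]) ∈ H := by
    rw [← hc]
    exact H.mul_mem (H.mul_mem (H.mul_mem hT1 hT2) (H.inv_mem hT1)) (H.inv_mem hT2)
  have h7 := (hvb.2 (ψ a • φ) (by simp [h6])).1 hmem
  rw [LinearMap.smul_apply, smul_eq_mul] at h7
  rcases mul_eq_zero.1 h7 with h8 | h8
  · exact absurd h8 h3
  · exact h8

theorem c_key {H : Subgroup (SpecialLinearGroup F V)} {a wa b wb : V} (hva : CValid H a wa)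
    (hvb : CValid H b wb) (ha : a ∉ Submodule.span F {b, wb}) :
    wb ∈ Submodule.span F {a, wa, b} := by
  by_contra hwb
  obtain ⟨ψ, hψa, hψ⟩ := c_sep _ ha
  obtain ⟨φ, hφw, hφ⟩ := c_sep _ hwb
  have h1 : ψ b = 0 := hψ b (Submodule.subset_span (by simp))
  have h2 : ψ wb = 0 := hψ wb (Submodule.subset_span (by simp))
  have h4 : φ a = 0 := hφ a (Submodule.subset_span (by simp))
  have h5 : φ wa = 0 := hφ wa (Submodule.subset_span (by simp))
  have h6 : φ b = 0 := hφ b (Submodule.subset_span (by simp))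
  exact hφw (c_basic hva hvb ψ φ h1 h2 hψa h4 h5 h6)

/-- Step 1: if `b` is valid for `a` and `w'` is valid for `b` then `w' ∈ span(a,b)` -/
theorem c_step1 {H : Subgroup (SpecialLinearGroup F V)} {a b w' : V} (ha : a ≠ 0)
    (hab : CValid H a b) (hbw : CValid H b w') : w' ∈ Submodule.span F {a, b} := by
  by_cases hmem : a ∈ Submodule.span F {b, w'}
  · obtain ⟨β, γ, h⟩ := Submodule.mem_span_pair.1 hmem
    have hγ : γ ≠ 0 := by
      rintro rfl
      rw [zero_smul, add_zero] at h
      have hβ : β ≠ 0 := by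
        rintro rfl
        rw [zero_smul] at h
        exact ha h.symm
      apply hab.1 β⁻¹
      rw [← h, smul_smul, inv_mul_cancel₀ hβ, one_smul]
    have h1 : w' = γ⁻¹ • (a - β • b) := by
      rw [← h, add_sub_cancel_left, smul_smul, inv_mul_cancel₀ hγ, one_smul]
    rw [h1]
    exact Submodule.smul_mem _ _ (Submodule.sub_mem _ (Submodule.subset_span (by simp))
      (Submodule.smul_mem _ _ (Submodule.subset_span (by simp))))
  · have h := c_key hab hbw hmem
    have h2 : ({a, b, b} : Set V) = {a, b} := by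
      ext y
      simp
    rw [h2] at h
    exact h

/-- **S2140-C**.  Case II is impossible. -/
theorem not_caseII [Module.Finite F V] (hn : 3 ≤ finrank F V)
    (H : Subgroup (SpecialLinearGroup F V))
    (hII : ∀ a : V, a ≠ 0 → ∃ w : V, (∀ c : F, c • a ≠ w) ∧
      ∀ (f : Dual F V) (h : f a = 0), tv f a h ∈ H ↔ f w = 0) : False := by
  have hII' : ∀ a : V, a ≠ 0 → ∃ w : V, CValid H a w := hII
  obtain ⟨a, ha⟩ : ∃ a : V, a ≠ 0 := by
    have : Nontrivial V := Module.nontrivial_of_finrank_pos (R := F) (by omega)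
    exact exists_ne 0
  obtain ⟨b, hab⟩ := hII' a ha
  obtain ⟨c, hc⟩ := Cfsg.Agent.Lib.H1.C3Max.exists_not_smul_add (K := F) hn a b
  have hcL : c ∉ Submodule.span F {a, b} := by
    intro h
    obtain ⟨κ, μ, h⟩ := Submodule.mem_span_pair.1 h
    exact hc κ μ h
  have haL : a ∈ Submodule.span F {a, b} := Submodule.subset_span (by simp)
  have hbL : b ∈ Submodule.span F {a, b} := Submodule.subset_span (by simp)
  have hc0 : c ≠ 0 := by
    rintro rfl
    exact hcL (Submodule.zero_mem _)
  obtain ⟨wc, hcw⟩ := hII' c hc0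
  -- a non-zero vector in `L ∩ L'`
  have hx : ∃ x : V, x ≠ 0 ∧ x ∈ Submodule.span F {a, b} ∧ x ∈ Submodule.span F {c, wc} := by
    by_cases hmem : a ∈ Submodule.span F {c, wc}
    · exact ⟨a, ha, haL, hmem⟩
    · have h := c_key hab hcw hmem
      obtain ⟨α, β, γ, h⟩ := Submodule.mem_span_triple.1 h
      refine ⟨wc - γ • c, ?_, ?_, ?_⟩
      · intro h0
        exact hcw.1 γ (sub_eq_zero.1 h0).symm
      · rw [← h, add_sub_cancel_right]
        exact Submodule.add_mem _ (Submodule.smul_mem _ _ haL) (Submodule.smul_mem _ _ hbL)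
      · exact Submodule.sub_mem _ (Submodule.subset_span (by simp))
          (Submodule.smul_mem _ _ (Submodule.subset_span (by simp)))
  obtain ⟨x, hx0, hxL, hxL'⟩ := hx
  obtain ⟨α, β, hxab⟩ := Submodule.mem_span_pair.1 hxL
  obtain ⟨γ, δ, hxcw⟩ := Submodule.mem_span_pair.1 hxL'
  have hδ : δ ≠ 0 := by
    rintro rfl
    rw [zero_smul, add_zero] at hxcw
    have hγ : γ ≠ 0 := by
      rintro rfl
      rw [zero_smul] at hxcw
      exact hx0 hxcw.symm
    apply hcL
    have h1 : c = γ⁻¹ • x := by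
      rw [← hxcw, smul_smul, inv_mul_cancel₀ hγ, one_smul]
    rw [h1]
    exact Submodule.smul_mem _ _ hxL
  have hvx : CValid H c x := by
    rw [← hxcw]
    exact c_shift hcw γ hδ
  obtain ⟨wx, hxw⟩ := hII' x hx0
  have h1 := c_step1 hc0 hvx hxw
  by_cases hβ : β = 0
  · subst hβ
    rw [zero_smul, add_zero] at hxab
    have hα : α ≠ 0 := by
      rintro rfl
      rw [zero_smul] at hxab
      exact hx0 hxab.symm
    have hva : CValid H c a := by
      have h2 : a = (α⁻¹ * γ) • c + (α⁻¹ * δ) • wc := by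
        rw [← smul_smul, ← smul_smul, ← smul_add, hxcw, ← hxab, smul_smul, inv_mul_cancel₀ hα,
          one_smul]
      rw [h2]
      exact c_shift hcw _ (mul_ne_zero (inv_ne_zero hα) hδ)
    have h2 := c_step1 hc0 hva hab
    obtain ⟨γ', δ', h⟩ := Submodule.mem_span_pair.1 h2
    have hγ' : γ' ≠ 0 := by
      rintro rfl
      rw [zero_smul, zero_add] at h
      exact hab.1 δ' h
    apply hcL
    have h3 : c = γ'⁻¹ • (b - δ' • a) := by
      rw [← h, add_sub_cancel_right, smul_smul, inv_mul_cancel₀ hγ', one_smul]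
    rw [h3]
    exact Submodule.smul_mem _ _ (Submodule.sub_mem _ hbL (Submodule.smul_mem _ _ haL))
  · have hvax : CValid H a x := by
      rw [← hxab]
      exact c_shift hab α hβ
    have h2 := c_step1 ha hvax hxw
    have hwxL : wx ∈ Submodule.span F {a, b} := by
      obtain ⟨p, r, h⟩ := Submodule.mem_span_pair.1 h2
      rw [← h]
      exact Submodule.add_mem _ (Submodule.smul_mem _ _ haL) (Submodule.smul_mem _ _ hxL)
    obtain ⟨γ', δ', h⟩ := Submodule.mem_span_pair.1 h1
    have hγ' : γ' ≠ 0 := by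
      rintro rfl
      rw [zero_smul, zero_add] at h
      exact hxw.1 δ' h
    apply hcL
    have h3 : c = γ'⁻¹ • (wx - δ' • x) := by
      rw [← h, add_sub_cancel_right, smul_smul, inv_mul_cancel₀ hγ', one_smul]
    rw [h3]
    exact Submodule.smul_mem _ _ (Submodule.sub_mem _ hwxL (Submodule.smul_mem _ _ hxL))

end Cfsg.Agent.Lib.H3.MinIdx
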