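import Mathlib
import Cfsg.Agent.Lib.H3.DC2

set_option autoImplicit false

/-!
# The computational model of `GL₇(𝔽₁₁)` acting on `𝔽₁₁⁷`

Vectors are packed in base `1024`; a matrix is the list of its packed columns.
-/

namespace Cfsg.Agent.Lib.H3.ModP

open Cfsg.Agent.Lib.H3.DC Matrix

/-- `∑ x_k c_k` where the `x_k` are the base-1024 digits of `x` -/
def dotE : List ℕ → ℕ → ℕ
  | [], _ => 0
  | c :: cs, x => force (Nat.div x 1024) fun x' => Nat.add (Nat.mul (Nat.mod x 1024) c) (dotE cs x')

/-- reduce the lowest `n` base-1024 digits of `S` modulo `11` -/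
def redE : ℕ → ℕ → ℕ
  | 0, _ => 0
  | n + 1, S => force (Nat.div S 1024) fun S' =>
      Nat.add (Nat.mod (Nat.mod S 1024) 11) (Nat.mul 1024 (redE n S'))

/-- the action of a matrix code on a vector code -/
def actE (cols : List ℕ) (x : ℕ) : ℕ := force (dotE cols x) fun S => redE 7 S

/-- map with forced values -/
def mapF (f : ℕ → ℕ) : List ℕ → List ℕ
  | [] => []
  | b :: bs => force (f b) fun r => r :: mapF f bs

theorem mapF_eq (f : ℕ → ℕ) (l : List ℕ) : mapF f l = l.map f := by
  induction l with
  | nil => rfl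
  | cons b bs ih => simp [mapF, ih]

/-- product of matrix codes -/
def mulE (A B : List ℕ) : List ℕ := mapF (actE A) B

theorem redE_ofDigits (l : List ℕ) (hl : ∀ d ∈ l, d < 1024) :
    redE l.length (Nat.ofDigits 1024 l) = Nat.ofDigits 1024 (l.map (· % 11)) := by
  induction l with
  | nil => rfl
  | cons d l ih =>
    have hd : d < 1024 := hl d (List.mem_cons_self ..)
    have hl' : ∀ d ∈ l, d < 1024 := fun x hx => hl x (List.mem_cons_of_mem _ hx)
    simp only [List.length_cons, redE, force_eq, Nat.ofDigits_cons, List.map_cons]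
    have h1 : Nat.div (d + 1024 * Nat.ofDigits 1024 l) 1024 = Nat.ofDigits 1024 l := by
      show (d + 1024 * Nat.ofDigits 1024 l) / 1024 = _
      omega
    have h2 : Nat.mod (d + 1024 * Nat.ofDigits 1024 l) 1024 = d := by
      show (d + 1024 * Nat.ofDigits 1024 l) % 1024 = _
      omega
    rw [h1, h2, ih hl']
    rfl

theorem dotE_ofDigits (cs xs : List ℕ) (hlen : xs.length = cs.length) (hx : ∀ d ∈ xs, d < 1024) :
    dotE cs (Nat.ofDigits 1024 xs) = (List.zipWith (· * ·) xs cs).sum := by
  induction cs generalizing xs with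
  | nil =>
    cases xs with
    | nil => rfl
    | cons _ _ => simp at hlen
  | cons c cs ih =>
    cases xs with
    | nil => simp at hlen
    | cons d xs =>
      have hd : d < 1024 := hx d (List.mem_cons_self ..)
      have hx' : ∀ d ∈ xs, d < 1024 := fun x h => hx x (List.mem_cons_of_mem _ h)
      simp only [dotE, force_eq, Nat.ofDigits_cons, List.zipWith_cons_cons, List.sum_cons]
      have h1 : Nat.div (d + 1024 * Nat.ofDigits 1024 xs) 1024 = Nat.ofDigits 1024 xs := by
        show (d + 1024 * Nat.ofDigits 1024 xs) / 1024 = _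
        omega
      have h2 : Nat.mod (d + 1024 * Nat.ofDigits 1024 xs) 1024 = d := by
        show (d + 1024 * Nat.ofDigits 1024 xs) % 1024 = _
        omega
      rw [h1, h2, ih xs (by simpa using hlen) hx']
      rfl

abbrev V7 := Fin 7 → ZMod 11

/-- the list of values of a vector -/
def vals (v : V7) : List ℕ := List.ofFn fun i => (v i).val

/-- the code of a vector -/
def enc (v : V7) : ℕ := Nat.ofDigits 1024 (vals v)

theorem vals_lt (v : V7) : ∀ d ∈ vals v, d < 11 := by
  intro d hd
  rw [vals, List.mem_ofFn] at hd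
  obtain ⟨i, rfl⟩ := hd
  exact ZMod.val_lt _

theorem enc_inj : Function.Injective enc := by
  intro v w h
  have h1 : vals v = vals w := by
    apply Nat.ofDigits_inj_of_len_eq (b := 1024) (by norm_num)
    · simp [vals]
    · intro d hd; exact lt_trans (vals_lt v d hd) (by norm_num)
    · intro d hd; exact lt_trans (vals_lt w d hd) (by norm_num)
    · exact h
  have h2 := List.ofFn_injective h1
  funext i
  exact ZMod.val_injective _ (congrFun h2 i)

/-- the code of a matrix: its packed columns -/
def codeM (A : Matrix (Fin 7) (Fin 7) (ZMod 11)) : List ℕ :=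
  List.ofFn fun k => enc fun i => A i k

theorem val_sum_mul (a b : Fin 7 → ZMod 11) :
    (∑ k, a k * b k).val = (∑ k, (a k).val * (b k).val) % 11 := by
  have : (∑ k, a k * b k) = ((∑ k, (a k).val * (b k).val : ℕ) : ZMod 11) := by
    push_cast
    simp [ZMod.natCast_zmod_val]
  rw [this, ZMod.val_natCast]

theorem enc_mulVec (A : Matrix (Fin 7) (Fin 7) (ZMod 11)) (v : V7) :
    enc (A *ᵥ v) = actE (codeM A) (enc v) := by
  -- row sums
  let rows : List ℕ := List.ofFn fun i : Fin 7 => ∑ k, (A i k).val * (v k).val
  have hrows : ∀ d ∈ rows, d < 1024 := by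
    intro d hd
    rw [List.mem_ofFn] at hd
    obtain ⟨i, rfl⟩ := hd
    have : ∀ k, (A i k).val * (v k).val ≤ 100 := fun k =>
      Nat.mul_le_mul (Nat.le_of_lt_succ (ZMod.val_lt _)) (Nat.le_of_lt_succ (ZMod.val_lt _))
    calc ∑ k, (A i k).val * (v k).val ≤ ∑ _k : Fin 7, 100 := Finset.sum_le_sum fun k _ => this k
      _ = 700 := by simp
      _ < 1024 := by norm_num
  have h1 : dotE (codeM A) (enc v) = Nat.ofDigits 1024 rows := by
    rw [enc, dotE_ofDigits _ _ (by simp [vals, codeM])
      (fun d hd => lt_trans (vals_lt v d hd) (by norm_num))]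
    simp only [vals, codeM, enc, rows, List.ofFn_succ, List.ofFn_zero, Fin.sum_univ_succ,
      Fin.sum_univ_zero, List.zipWith_cons_cons, List.zipWith_nil_right, List.sum_cons,
      List.sum_nil, Nat.ofDigits_cons, Nat.ofDigits_nil]
    ring
  have h2 : rows.length = 7 := by simp [rows]
  have h3 : redE 7 (Nat.ofDigits 1024 rows) = Nat.ofDigits 1024 (rows.map (· % 11)) := by
    have := redE_ofDigits rows hrows
    rw [h2] at this
    exact this
  rw [actE, force_eq, h1, h3, enc]
  congr 1
  simp only [vals, rows, List.map_ofFn]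
  congr 1
  funext i
  simp only [Function.comp, Matrix.mulVec, dotProduct]
  exact val_sum_mul _ _

theorem codeM_inj : Function.Injective codeM := by
  intro A B h
  have h2 := List.ofFn_injective h
  ext i k
  have := enc_inj (congrFun h2 k)
  exact congrFun this i

theorem codeM_mul (A B : Matrix (Fin 7) (Fin 7) (ZMod 11)) :
    codeM (A * B) = mulE (codeM A) (codeM B) := by
  rw [mulE, mapF_eq]
  show (List.ofFn fun k => enc fun i => (A * B) i k) =
    List.map (actE (codeM A)) (List.ofFn fun k => enc fun i => B i k)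
  rw [List.map_ofFn]
  congr 1
  funext k
  simp only [Function.comp]
  rw [← enc_mulVec]
  congr 1

/-- code of the identity matrix -/
def oneE : List ℕ := [1, 1024, 1048576, 1073741824, 1099511627776, 1125899906842624,
  1152921504606846976]

theorem codeM_one : codeM 1 = oneE := by decide +kernel

/-- the model of `GL₇(𝔽₁₁)` on `𝔽₁₁⁷` -/
def model : Model (GL (Fin 7) (ZMod 11)) V7 where
  code g := codeM (g : Matrix (Fin 7) (Fin 7) (ZMod 11))
  enc := enc
  mulE := mulE
  actE := actE
  oneE := oneE
  code_inj := fun g h hgh => Units.ext (codeM_inj hgh)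
  enc_inj := enc_inj
  code_one := codeM_one
  code_mul := fun g h => codeM_mul _ _
  enc_smul := fun g v => enc_mulVec _ _

end Cfsg.Agent.Lib.H3.ModP
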