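import Mathlib

/-!
# Non-commuting graph of `M11` (core of S3413; helper3)

Let `M` be a finite group of order 7920 in which every element of order 11 has a centralizer of order 11, and let
`H` be a finite group with a bijection `f : H ∖ {1} ≃ M ∖ {1}` that preserves commutation.  Then `|H| = 7920`,
`|C_H(x)| = |C_M(f x)|`, every element of order 11 of `H` has a centralizer of order 11, and `H` has no element of
order `11 b` (`b ≥ 2`).  With the landed S2490 (order 7920 + disconnected prime graph gives simplicity) and S0420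
(uniqueness of the simple group of order 7920) this gives S3413.
-/

set_option autoImplicit false

namespace Cfsg.Agent.Lib.H3.NCG11

/-- the order of a centralizer, counted on the non-identity elements -/
theorem card_centralizer_eq {X : Type*} [Group X] [Finite X] (x : X) :
    Nat.card (Subgroup.centralizer ({x} : Set X)) =
      Nat.card {y : {h : X // h ≠ 1} // (y : X) * x = x * (y : X)} + 1 := by
  classical
  set S : Set X := {y | y ≠ 1 ∧ y * x = x * y} with hS
  have h1 : ((Subgroup.centralizer ({x} : Set X) : Subgroup X) : Set X) = insert 1 S := by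
    ext y
    simp only [SetLike.mem_coe, Subgroup.mem_centralizer_singleton_iff, Set.mem_insert_iff, hS,
      Set.mem_ofPred_eq]
    constructor
    · intro h
      by_cases hy : y = 1
      · exact Or.inl hy
      · exact Or.inr ⟨hy, h⟩
    · rintro (h | h)
      · rw [h, one_mul, mul_one]
      · exact h.2
  have h2 : (1 : X) ∉ S := fun h => h.1 rfl
  have h3 : Nat.card (Subgroup.centralizer ({x} : Set X)) = (insert 1 S).ncard := by
    rw [← h1]
    exact Nat.card_coe_set_eq _
  rw [h3, Set.ncard_insert_of_notMem h2 (Set.toFinite S)]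
  congr 1
  rw [← Nat.card_coe_set_eq]
  exact Nat.card_congr (Equiv.subtypeSubtypeEquivSubtypeInter (fun h : X => h ≠ 1)
    (fun y : X => y * x = x * y)).symm

/-- the number of non-identity elements -/
theorem card_eq_card_ne_one_add_one {X : Type*} [Group X] [Finite X] :
    Nat.card X = Nat.card {h : X // h ≠ 1} + 1 := by
  classical
  have h1 : (Set.univ : Set X) = insert 1 {h : X | h ≠ 1} := by
    ext y
    simp only [Set.mem_univ, Set.mem_insert_iff, Set.mem_ofPred_eq, true_iff]
    exact em _
  have h2 : (1 : X) ∉ {h : X | h ≠ 1} := fun h => h rfl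
  rw [← Set.ncard_univ, h1, Set.ncard_insert_of_notMem h2 (Set.toFinite _), ← Nat.card_coe_set_eq]
  rfl

variable {H M : Type*} [Group H] [Finite H] [Group M] [Finite M]

/-- a commutation-preserving bijection of the non-identity elements preserves the centralizer orders -/
theorem card_centralizer_congr (f : {h : H // h ≠ 1} ≃ {g : M // g ≠ 1})
    (hf : ∀ x y : {h : H // h ≠ 1}, (x : H) * y = y * x ↔ ((f x) : M) * (f y) = (f y) * (f x))
    (x : {h : H // h ≠ 1}) :
    Nat.card (Subgroup.centralizer ({(x : H)} : Set H)) =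
      Nat.card (Subgroup.centralizer ({((f x) : M)} : Set M)) := by
  rw [card_centralizer_eq, card_centralizer_eq]
  congr 1
  exact Nat.card_congr (f.subtypeEquiv (fun y => hf y x))

/-- the order of `H` -/
theorem card_eq (f : {h : H // h ≠ 1} ≃ {g : M // g ≠ 1}) : Nat.card H = Nat.card M := by
  rw [card_eq_card_ne_one_add_one (X := H), card_eq_card_ne_one_add_one (X := M), Nat.card_congr f]

/-- elements of order 11 of `H` are self-centralizing -/
theorem card_centralizer_of_orderOf_eleven
    (hcent11 : ∀ t : M, orderOf t = 11 → Nat.card (Subgroup.centralizer ({t} : Set M)) = 11)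
    (f : {h : H // h ≠ 1} ≃ {g : M // g ≠ 1})
    (hf : ∀ x y : {h : H // h ≠ 1}, (x : H) * y = y * x ↔ ((f x) : M) * (f y) = (f y) * (f x))
    (y : H) (hy : orderOf y = 11) : Nat.card (Subgroup.centralizer ({y} : Set H)) = 11 := by
  have hp : Fact (Nat.Prime 11) := ⟨by norm_num⟩
  have hy1 : y ≠ 1 := by
    intro h
    rw [h, orderOf_one] at hy
    omega
  set x : {h : H // h ≠ 1} := ⟨y, hy1⟩ with hx
  have hc := card_centralizer_congr f hf x
  have hymem : y ∈ Subgroup.centralizer ({y} : Set H) := Subgroup.mem_centralizer_singleton_iff.2 rfl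
  have h11 : 11 ∣ Nat.card (Subgroup.centralizer ({((f x) : M)} : Set M)) := by
    rw [← hc]
    have := orderOf_dvd_natCard (⟨y, hymem⟩ : Subgroup.centralizer ({y} : Set H))
    rwa [Subgroup.orderOf_mk, hy] at this
  obtain ⟨t, ht⟩ := exists_prime_orderOf_dvd_card'
    (G := ↥(Subgroup.centralizer ({((f x) : M)} : Set M))) 11 h11
  have ht11 : orderOf (t : M) = 11 := by rw [Subgroup.orderOf_coe]; exact ht
  have htc : (t : M) * (f x : M) = (f x : M) * (t : M) := Subgroup.mem_centralizer_singleton_iff.1 t.2
  have hfx : ((f x) : M) ∈ Subgroup.centralizer ({(t : M)} : Set M) :=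
    Subgroup.mem_centralizer_singleton_iff.2 htc.symm
  have h1 : orderOf ((f x) : M) ∣ 11 := by
    have := orderOf_dvd_natCard (⟨(f x : M), hfx⟩ : Subgroup.centralizer ({(t : M)} : Set M))
    rwa [Subgroup.orderOf_mk, hcent11 _ ht11] at this
  have h2 : orderOf ((f x) : M) = 11 := by
    rcases (Nat.dvd_prime hp.out).1 h1 with h | h
    · exact absurd (orderOf_eq_one_iff.1 h) (f x).2
    · exact h
  rw [show ({y} : Set H) = {(x : H)} from rfl, hc, hcent11 _ h2]

/-- **core of S3413** -/
theorem ncg_core (hMcard : Nat.card M = 7920)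
    (hcent11 : ∀ t : M, orderOf t = 11 → Nat.card (Subgroup.centralizer ({t} : Set M)) = 11)
    (f : {h : H // h ≠ 1} ≃ {g : M // g ≠ 1})
    (hf : ∀ x y : {h : H // h ≠ 1}, (x : H) * y = y * x ↔ ((f x) : M) * (f y) = (f y) * (f x)) :
    Nat.card H = 7920 ∧ ∀ b : ℕ, 2 ≤ b → ¬ ∃ g : H, orderOf g = 11 * b := by
  refine ⟨by rw [card_eq f, hMcard], ?_⟩
  rintro b hb ⟨g, hg⟩
  have hb0 : b ≠ 0 := by omega
  have hy : orderOf (g ^ b) = 11 := by
    rw [orderOf_pow' g hb0, hg, Nat.gcd_eq_right (Dvd.intro_left 11 rfl),
      Nat.mul_div_cancel _ (by omega : 0 < b)]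
  have hc := card_centralizer_of_orderOf_eleven hcent11 f hf (g ^ b) hy
  have hgmem : g ∈ Subgroup.centralizer ({g ^ b} : Set H) := by
    rw [Subgroup.mem_centralizer_singleton_iff]
    exact (pow_mul_comm' g b).symm
  have h1 : orderOf g ∣ 11 := by
    have := orderOf_dvd_natCard (⟨g, hgmem⟩ : Subgroup.centralizer ({g ^ b} : Set H))
    rwa [Subgroup.orderOf_mk, hc] at this
  rw [hg] at h1
  have := Nat.le_of_dvd (by norm_num) h1
  nlinarith

end Cfsg.Agent.Lib.H3.NCG11
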