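import Mathlib

set_option autoImplicit false

/-! # S0976 task T5 (helper3): a group of order 4 normalizing a group of order 9.
DUPLICATE of helper17's `Cfsg.Agent.Lib.H5.O4032.false_of_nine_four` (Lib/H17/O4032_T5.lean), renamed to
avoid a name clash; use helper17's file. -/

namespace Cfsg.Agent.Lib.H3.O4032

open Subgroup MulAction

section general
variable {G : Type*} [Group G]

/-- **T5** a four-group/cyclic group of order 4 normalizing a group of order 9 containing an element
`z` with `|C_G(z)|` odd and `z` not conjugate to `z⁻¹`: impossible. -/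
theorem false_of_nine_four_alt [Finite G] (S T : Subgroup G) (hS : Nat.card S = 9)
    (hT : Nat.card T = 4) (hTS : T ≤ normalizer (S : Set G)) {z : G} (hzS : z ∈ S) (hz1 : z ≠ 1)
    (hodd : Odd (Nat.card (centralizer ({z} : Set G)))) (hconj : ¬ IsConj z z⁻¹) : False := by
  classical
  -- Step 1: `T ∩ C_G(z) = 1`.
  have h1 : ∀ t ∈ T, t * z = z * t → t = 1 := by
    intro t ht hcomm
    have hmem : t ∈ T ⊓ centralizer ({z} : Set G) := by
      refine Subgroup.mem_inf.mpr ⟨ht, ?_⟩
      rw [mem_centralizer_iff]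
      intro y hy
      rw [Set.mem_singleton_iff] at hy
      subst hy
      exact hcomm.symm
    have hd1 : Nat.card (T ⊓ centralizer ({z} : Set G) : Subgroup G) ∣ 4 :=
      hT ▸ Subgroup.card_dvd_of_le inf_le_left
    have hd2 : Nat.card (T ⊓ centralizer ({z} : Set G) : Subgroup G) ∣
        Nat.card (centralizer ({z} : Set G)) := Subgroup.card_dvd_of_le inf_le_right
    have hodd' : Odd (Nat.card (T ⊓ centralizer ({z} : Set G) : Subgroup G)) :=
      Odd.of_dvd_nat hodd hd2
    have hone : Nat.card (T ⊓ centralizer ({z} : Set G) : Subgroup G) = 1 := by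
      have hle : Nat.card (T ⊓ centralizer ({z} : Set G) : Subgroup G) ≤ 4 :=
        Nat.le_of_dvd (by norm_num) hd1
      generalize Nat.card (T ⊓ centralizer ({z} : Set G) : Subgroup G) = k at *
      interval_cases k
      · simp at hodd'
      · rfl
      · exact absurd hodd' (by decide)
      · exact absurd hd1 (by decide)
      · exact absurd hodd' (by decide)
    have hbot := (Subgroup.card_eq_one).mp hone
    rw [hbot] at hmem
    exact Subgroup.mem_bot.mp hmem
  -- the same for `z⁻¹`
  have h1' : ∀ t ∈ T, t * z⁻¹ = z⁻¹ * t → t = 1 := by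
    intro t ht hcomm
    apply h1 t ht
    have : z * (t * z⁻¹) * z = z * (z⁻¹ * t) * z := by rw [hcomm]
    simpa [mul_assoc] using this.symm
  -- conjugation keeps `S`
  have hconjS : ∀ t ∈ T, ∀ s ∈ S, t * s * t⁻¹ ∈ S := by
    intro t ht s hs
    exact ((mem_normalizer_iff (H := S)).mp (hTS ht) s).mp hs
  have hzi : z⁻¹ ∈ S := S.inv_mem hzS
  -- Step 2: the eight elements `t z^{±1} t⁻¹`.
  let φ : T × Bool → {s : S // s ≠ 1} := fun x =>
    if x.2 then ⟨⟨(x.1 : G) * z⁻¹ * (x.1 : G)⁻¹, hconjS _ x.1.2 _ hzi⟩, by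
        intro h
        have h' := congrArg Subtype.val h
        simp only [OneMemClass.coe_one] at h'
        apply hz1
        have : z⁻¹ = 1 := by
          have := congrArg (fun y => (x.1 : G)⁻¹ * y * (x.1 : G)) h'
          simpa [mul_assoc] using this
        simpa using this⟩
    else ⟨⟨(x.1 : G) * z * (x.1 : G)⁻¹, hconjS _ x.1.2 _ hzS⟩, by
        intro h
        have h' := congrArg Subtype.val h
        simp only [OneMemClass.coe_one] at h'
        apply hz1
        have := congrArg (fun y => (x.1 : G)⁻¹ * y * (x.1 : G)) h'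
        simpa [mul_assoc] using this⟩
  have hφval : ∀ x : T × Bool, ((φ x : S) : G) =
      (x.1 : G) * (if x.2 then z⁻¹ else z) * (x.1 : G)⁻¹ := by
    rintro ⟨t, b⟩
    cases b <;> simp [φ]
  have key : ∀ (t t' : T) (w : G), (∀ u ∈ T, u * w = w * u → u = 1) →
      (t : G) * w * (t : G)⁻¹ = (t' : G) * w * (t' : G)⁻¹ → t = t' := by
    intro t t' w hw h
    have hu : ((t' : G)⁻¹ * (t : G)) * w = w * ((t' : G)⁻¹ * (t : G)) := by
      have := congrArg (fun y => (t' : G)⁻¹ * y * (t : G)) h
      simpa [mul_assoc] using this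
    have := hw _ (T.mul_mem (T.inv_mem t'.2) t.2) hu
    ext
    have h2 : (t : G) = (t' : G) := by
      have := congrArg (fun y => (t' : G) * y) this
      simpa [mul_assoc] using this
    exact h2
  have hφinj : Function.Injective φ := by
    rintro ⟨t, b⟩ ⟨t', b'⟩ h
    have hv : ((φ (t, b) : S) : G) = ((φ (t', b') : S) : G) := by rw [h]
    rw [hφval, hφval] at hv
    cases b <;> cases b' <;> simp only [if_true, if_false, Bool.false_eq_true] at hv
    · rw [key t t' z h1 hv]
    · exfalso
      apply hconj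
      rw [isConj_iff]
      refine ⟨(t' : G)⁻¹ * (t : G), ?_⟩
      have := congrArg (fun y => (t' : G)⁻¹ * y * (t' : G)) hv
      simpa [mul_assoc] using this
    · exfalso
      apply hconj
      rw [isConj_iff]
      refine ⟨(t : G)⁻¹ * (t' : G), ?_⟩
      have := congrArg (fun y => (t : G)⁻¹ * y * (t : G)) hv
      simpa [mul_assoc] using this.symm
    · rw [key t t' z⁻¹ h1' hv]
  have hcardL : Nat.card (T × Bool) = 8 := by
    rw [Nat.card_prod, hT]; simp
  have hcardR : Nat.card {s : S // s ≠ 1} = 8 := by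
    have : Nat.card {s : S // s ≠ 1} = Nat.card S - 1 := by
      have : Fintype S := Fintype.ofFinite S
      rw [Nat.card_eq_fintype_card, Nat.card_eq_fintype_card]
      exact Fintype.card_subtype_compl (fun s : S => s = 1) |>.trans (by simp)
    rw [this, hS]
  have hφbij : Function.Bijective φ := by
    rw [Nat.bijective_iff_injective_and_card]
    exact ⟨hφinj, by rw [hcardL, hcardR]⟩
  -- Step 3: an involution `t₀` of `T` centralizes no element of `S \ {1}`.
  have : Fact (Nat.Prime 2) := ⟨Nat.prime_two⟩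
  obtain ⟨t₀, ht₀⟩ := exists_prime_orderOf_dvd_card' (G := T) 2 (by rw [hT]; norm_num)
  have ht₀1 : (t₀ : G) ≠ 1 := by
    intro h
    have : t₀ = 1 := Subtype.ext h
    rw [this, orderOf_one] at ht₀
    norm_num at ht₀
  have ht₀sq : (t₀ : G) * (t₀ : G) = 1 := by
    have : t₀ ^ 2 = 1 := by rw [← ht₀]; exact pow_orderOf_eq_one t₀
    have h2 := congrArg Subtype.val this
    simpa [pow_two] using h2
  have ht₀inv : (t₀ : G)⁻¹ = (t₀ : G) := inv_eq_of_mul_eq_one_left ht₀sq
  have h3 : ∀ s ∈ S, (t₀ : G) * s = s * (t₀ : G) → s = 1 := by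
    intro s hs hcomm
    by_contra hs1
    obtain ⟨⟨t, b⟩, hx⟩ := hφbij.2 ⟨⟨s, hs⟩, fun h => hs1 (congrArg Subtype.val h)⟩
    have hv : (t : G) * (if b then z⁻¹ else z) * (t : G)⁻¹ = s := by
      rw [← hφval (t, b), hx]
    -- `t⁻¹ t₀ t` centralizes `z^{±1}`
    have hmemT : (t : G)⁻¹ * (t₀ : G) * (t : G) ∈ T :=
      T.mul_mem (T.mul_mem (T.inv_mem t.2) t₀.2) t.2
    have hc : ∀ w : G, (t : G) * w * (t : G)⁻¹ = s →
        ((t : G)⁻¹ * (t₀ : G) * (t : G)) * w = w * ((t : G)⁻¹ * (t₀ : G) * (t : G)) := by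
      intro w hw
      have hw' : w = (t : G)⁻¹ * s * (t : G) := by
        rw [← hw]; simp [mul_assoc]
      rw [hw']
      have : (t : G)⁻¹ * (t₀ : G) * (t : G) * ((t : G)⁻¹ * s * (t : G)) =
          (t : G)⁻¹ * ((t₀ : G) * s) * (t : G) := by simp [mul_assoc]
      rw [this, hcomm]
      simp [mul_assoc]
    have hone : (t : G)⁻¹ * (t₀ : G) * (t : G) = 1 := by
      cases b
      · exact h1 _ hmemT (hc z (by simpa using hv))
      · exact h1' _ hmemT (hc z⁻¹ (by simpa using hv))
    apply ht₀1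
    have := congrArg (fun y => (t : G) * y * (t : G)⁻¹) hone
    simpa [mul_assoc] using this
  -- Step 4: `S` is abelian, so `t₀` inverts `z`.
  have : Fact (Nat.Prime 3) := ⟨by norm_num⟩
  have hSc : ∀ a ∈ S, ∀ b ∈ S, a * b = b * a := by
    intro a ha b hb
    have hS' : Nat.card S = 3 ^ 2 := by rw [hS]; norm_num
    have := IsPGroup.commutative_of_card_eq_prime_sq (p := 3) (G := S) hS'
    have h' := this ⟨a, ha⟩ ⟨b, hb⟩
    exact congrArg Subtype.val h'
  have hz' : (t₀ : G) * z * (t₀ : G)⁻¹ ∈ S := hconjS _ t₀.2 _ hzS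
  have hw : z * ((t₀ : G) * z * (t₀ : G)⁻¹) = 1 := by
    apply h3 _ (S.mul_mem hzS hz')
    rw [ht₀inv]
    have e2 : (t₀ : G) * (z * ((t₀ : G) * z * (t₀ : G))) =
        (t₀ : G) * z * (t₀ : G) * z * (t₀ : G) := by simp [mul_assoc]
    rw [e2]
    have e3 : (t₀ : G) * z * (t₀ : G) * z = z * ((t₀ : G) * z * (t₀ : G)) := by
      have := hSc _ hz' _ hzS
      rw [ht₀inv] at this
      exact this
    rw [e3]
  apply hconj
  rw [isConj_iff]
  refine ⟨(t₀ : G), ?_⟩
  exact (eq_inv_of_mul_eq_one_right hw)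

end general

end Cfsg.Agent.Lib.H3.O4032
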