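import Mathlib
import Cfsg.Agent.S0111
import Cfsg.Agent.Lib.H5.Orbits
import Cfsg.Agent.Lib.H5.Ord.Ord1440a

set_option autoImplicit false

/-! # Involution centralizers when the Sylow 2-subgroups have order 8 (helper3)

In a finite group without subgroups of index `2` whose Sylow `2`-subgroups have order `8`, every
involution has a centralizer of order divisible by `8` (Thompson transfer, `S0111`). -/

namespace Cfsg.Agent.Lib.H3.O983

open Subgroup

/-- An element of order `2` of a cyclic group `⟨σ⟩` of order `4` is `σ ^ 2`. -/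
theorem eq_sq_of_mem_zpowers_of_orderOf_two {G : Type*} [Group G] {σ w : G} (hσ : orderOf σ = 4)
    (hw : w ∈ zpowers σ) (hw2 : orderOf w = 2) : w = σ ^ 2 := by
  obtain ⟨k, rfl⟩ := mem_zpowers_iff.mp hw
  have h4 : σ ^ 4 = 1 := by rw [← hσ]; exact pow_orderOf_eq_one σ
  have hk : σ ^ k = σ ^ (k % 4) := by
    have := zpow_mod_orderOf σ k
    rw [hσ] at this
    exact_mod_cast this.symm
  have hk0 : 0 ≤ k % 4 := Int.emod_nonneg k (by norm_num)
  have hk4 : k % 4 < 4 := Int.emod_lt_of_pos k (by norm_num)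
  rw [hk] at hw2 ⊢
  obtain ⟨j, hj⟩ : ∃ j : ℕ, k % 4 = j := ⟨(k % 4).toNat, (Int.toNat_of_nonneg hk0).symm⟩
  rw [hj, zpow_natCast] at hw2 ⊢
  have hj4 : j < 4 := by omega
  interval_cases j
  · rw [pow_zero, orderOf_one] at hw2; omega
  · rw [pow_one, hσ] at hw2; omega
  · rfl
  · exfalso
    have h3 : σ ^ 3 = σ⁻¹ := by
      apply eq_inv_of_mul_eq_one_left
      rw [← pow_succ, h4]
    rw [h3, orderOf_inv, hσ] at hw2
    omega

/-- If the Sylow `2`-subgroups of a group without subgroups of index `2` have order `8`, then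
the centralizer of every involution has order divisible by `8`. -/
theorem eight_dvd_card_centralizer_of_orderOf_two {G : Type*} [Group G] [Finite G]
    (hidx : ∀ M : Subgroup G, M.Normal → M.index ≠ 2) (P : Sylow 2 G)
    (hP : Nat.card (P : Subgroup G) = 8) (y : G) (hy : orderOf y = 2) :
    8 ∣ Nat.card (centralizer ({y} : Set G)) := by
  have : Fact (Nat.Prime 2) := ⟨Nat.prime_two⟩
  have hyy : y * y = 1 := by rw [← pow_two, ← hy, pow_orderOf_eq_one]
  have hyinv : y⁻¹ = y := inv_eq_of_mul_eq_one_right hyy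
  -- a Sylow 2-subgroup containing y
  have hpg : IsPGroup 2 (zpowers y) :=
    IsPGroup.of_card (n := 1) (by rw [Nat.card_zpowers, hy, pow_one])
  obtain ⟨R, hR⟩ := hpg.exists_le_sylow
  have hyR : y ∈ (R : Subgroup G) := hR (mem_zpowers y)
  have hRc : Nat.card (R : Subgroup G) = 8 := by
    rw [← hP, Sylow.card_eq_multiplicity, Sylow.card_eq_multiplicity]
  by_contra h8
  have hncen : ¬ (R : Subgroup G) ≤ centralizer ({y} : Set G) := by
    intro hle
    apply h8
    rw [← hRc]
    exact card_dvd_of_le hle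
  have hord : ∀ s ∈ (R : Subgroup G), orderOf s ∣ 8 := by
    intro s hs
    have := orderOf_dvd_natCard (⟨s, hs⟩ : (R : Subgroup G))
    rwa [Subgroup.orderOf_mk, hRc] at this
  -- an element of order 4
  have hex4 : ∃ σ ∈ (R : Subgroup G), orderOf σ = 4 := by
    by_contra hno
    push Not at hno
    apply hncen
    intro s hs
    rw [mem_centralizer_singleton_iff]
    by_cases h8' : ∃ t ∈ (R : Subgroup G), orderOf t = 8
    · obtain ⟨t, htR, ht⟩ := h8'
      have hle : zpowers t ≤ (R : Subgroup G) := (zpowers_le).mpr htR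
      have heq : zpowers t = (R : Subgroup G) := by
        apply Subgroup.eq_of_le_of_card_ge hle
        rw [Nat.card_zpowers, ht, hRc]
      have hs' : s ∈ zpowers t := heq ▸ hs
      have hy' : y ∈ zpowers t := heq ▸ hyR
      obtain ⟨a, rfl⟩ := mem_zpowers_iff.mp hs'
      obtain ⟨b, hb⟩ := mem_zpowers_iff.mp hy'
      rw [← hb, ← zpow_add, ← zpow_add, add_comm]
    · push Not at h8'
      have hsq : ∀ u ∈ (R : Subgroup G), u * u = 1 := by
        intro u hu
        have h1 := hord u hu
        have h2 := hno u hu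
        have h3 := h8' u hu
        have hle : orderOf u ≤ 8 := Nat.le_of_dvd (by norm_num) h1
        have hpos : 0 < orderOf u := Nat.pos_of_dvd_of_pos h1 (by norm_num)
        have h12 : orderOf u = 1 ∨ orderOf u = 2 := by
          interval_cases h : orderOf u <;> simp_all
        rw [← pow_two]
        rcases h12 with h | h
        · rw [orderOf_eq_one_iff.mp h, one_pow]
        · rw [← h, pow_orderOf_eq_one]
      have hs2 := hsq s hs
      have hsy := hsq (s * y) ((R : Subgroup G).mul_mem hs hyR)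
      have hsinv : s⁻¹ = s := inv_eq_of_mul_eq_one_right hs2
      calc s * y = (s * y)⁻¹ := (inv_eq_of_mul_eq_one_right hsy).symm
        _ = y⁻¹ * s⁻¹ := mul_inv_rev s y
        _ = y * s := by rw [hyinv, hsinv]
  obtain ⟨σ, hσR, hσ⟩ := hex4
  have h4 : σ ^ 4 = 1 := by rw [← hσ]; exact pow_orderOf_eq_one σ
  set Q : Subgroup G := zpowers σ with hQ
  have hQR : Q ≤ (R : Subgroup G) := (zpowers_le).mpr hσR
  have hQc : Nat.card Q = 4 := by rw [hQ, Nat.card_zpowers, hσ]
  have hQi : Q.relIndex (R : Subgroup G) = 2 := by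
    have := Cfsg.Agent.Lib.H5.SylPrime.card_mul_relIndex_of_le hQR
    rw [hQc, hRc] at this
    omega
  -- σ ^ 2 is central in R
  have hQn : (Q.subgroupOf (R : Subgroup G)).Normal := normal_of_index_eq_two hQi
  have hnorm : (R : Subgroup G) ≤ normalizer (Q : Set G) :=
    (normal_subgroupOf_iff_le_normalizer hQR).mp hQn
  have hcen : ∀ s ∈ (R : Subgroup G), s * σ ^ 2 * s⁻¹ = σ ^ 2 := by
    intro s hs
    have hmem : s * σ ^ 2 * s⁻¹ ∈ Q := by
      have := (mem_normalizer_iff.mp (hnorm hs) (σ ^ 2)).mp (Q.pow_mem (mem_zpowers σ) 2)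
      exact this
    apply eq_sq_of_mem_zpowers_of_orderOf_two hσ hmem
    have hconj : orderOf (s * σ ^ 2 * s⁻¹) = orderOf (σ ^ 2) := by
      have : s * σ ^ 2 * s⁻¹ = MulAut.conj s (σ ^ 2) := by simp [MulAut.conj_apply]
      rw [this, MulEquiv.orderOf_eq]
    rw [hconj, orderOf_pow_of_dvd (by norm_num) (by rw [hσ]; norm_num), hσ]
  have hcenR : (R : Subgroup G) ≤ centralizer ({σ ^ 2} : Set G) := by
    intro s hs
    rw [mem_centralizer_singleton_iff]
    have := hcen s hs
    calc s * σ ^ 2 = s * σ ^ 2 * s⁻¹ * s := by group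
      _ = σ ^ 2 * s := by rw [this]
  have h8σ : 8 ∣ Nat.card (centralizer ({σ ^ 2} : Set G)) := by
    rw [← hRc]; exact card_dvd_of_le hcenR
  have hyQ : y ∉ Q := by
    intro hyQ
    have := eq_sq_of_mem_zpowers_of_orderOf_two hσ hyQ hy
    rw [this] at h8
    exact h8 h8σ
  rcases Cfsg.Agent.S0111.result R Q hQR hQi y hy hyR hyQ with ⟨M, hM, hMi, -⟩ | ⟨g, hg⟩
  · exact hidx M hM hMi
  · have ho : orderOf (g * y * g⁻¹) = 2 := by
      have : g * y * g⁻¹ = MulAut.conj g y := by simp [MulAut.conj_apply]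
      rw [this, MulEquiv.orderOf_eq, hy]
    have heq := eq_sq_of_mem_zpowers_of_orderOf_two hσ hg ho
    apply h8
    rw [← Cfsg.Agent.Lib.H5.card_centralizer_conj g y, heq]
    exact h8σ

/-- Version for simple groups. -/
theorem eight_dvd_card_centralizer_of_simple {G : Type*} [Group G] [Finite G] [IsSimpleGroup G]
    (P : Sylow 2 G) (hP : Nat.card (P : Subgroup G) = 8) (y : G) (hy : orderOf y = 2) :
    8 ∣ Nat.card (centralizer ({y} : Set G)) := by
  apply eight_dvd_card_centralizer_of_orderOf_two _ P hP y hy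
  intro M hM hMi
  rcases hM.eq_bot_or_eq_top with h | h
  · rw [h, index_bot] at hMi
    have h8 : 8 ∣ Nat.card G := hP ▸ card_subgroup_dvd_card (P : Subgroup G)
    omega
  · rw [h, index_top] at hMi
    omega

end Cfsg.Agent.Lib.H3.O983
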