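import Mathlib
import Cfsg.Agent.Lib.H5.Ord.GenTests
import Cfsg.Agent.Lib.H14.O5040Z
import Cfsg.Agent.Lib.H16.PGroupCenter

set_option autoImplicit false

/-! # No simple group of order 3960 (piece of S0983, helper3)

`n_11 = 45`, `|N(P)| = 88`, `|C(P)| = 44`.  A subgroup `S` of order `8` of `N = N(P)` meets `C(P)`
nontrivially, so `S ⊓ C(P)` contains an involution `y` central in `S`; `y` centralizes `P`, hence
`y ∈ Z(N)`.  The fixed-point test (`f ≡ 1 mod 11`, `f` odd, `f < 45`, `4 ∣ 45 - f`) shows that `y`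
fixes exactly one Sylow `11`-subgroup, so every conjugate of `y` commuting with `y` is a conjugate
under `N`, i.e. equals `y`: `y` is isolated, against Glauberman's `Z*`-theorem. -/

namespace Cfsg.Agent.Lib.H3.O983

open Subgroup MulAction Cfsg.Agent.Lib.H5 Cfsg.Agent.Lib.H5.SylPrime Cfsg.Agent.Lib.H5.GenTests

/-- An involution `y` central in a proper subgroup `N` of a nonabelian simple group fixes at
least two cosets of `N`. -/
theorem card_fixedBy_ne_one_of_central {G : Type*} [Group G] [Finite G] [IsSimpleGroup G]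
    (hnc : ¬ IsMulCommutative G) (N : Subgroup G) (y : G) (hy : orderOf y = 2) (hyN : y ∈ N)
    (hcen : N ≤ centralizer ({y} : Set G)) :
    Nat.card (fixedBy (G ⧸ N) y) ≠ 1 := by
  intro hf
  have hyy : y * y = 1 := by rw [← pow_two, ← hy, pow_orderOf_eq_one]
  have hyinv : y⁻¹ = y := inv_eq_of_mul_eq_one_right hyy
  -- (F): a fixed coset is the trivial coset
  have hF : ∀ h : G, h⁻¹ * y * h ∈ N → h ∈ N := by
    intro h hh
    obtain ⟨hsub, -⟩ := (Nat.card_eq_one_iff_unique).mp hf
    have m1 : ((1 : G) : G ⧸ N) ∈ fixedBy (G ⧸ N) y := by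
      rw [mem_fixedBy, MulAction.Quotient.smul_mk, QuotientGroup.eq]
      simpa using hyN
    have mh : ((h : G) : G ⧸ N) ∈ fixedBy (G ⧸ N) y := by
      rw [mem_fixedBy, MulAction.Quotient.smul_mk, QuotientGroup.eq]
      have : (y • h)⁻¹ * h = (h⁻¹ * y * h)⁻¹ := by
        rw [smul_eq_mul]; group
      rw [this]
      exact N.inv_mem hh
    have := hsub.elim ⟨_, mh⟩ ⟨_, m1⟩
    have h2 : ((h : G) : G ⧸ N) = ((1 : G) : G ⧸ N) := congrArg Subtype.val this
    rw [QuotientGroup.eq] at h2
    have h3 : h⁻¹ ∈ N := by simpa using h2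
    simpa using N.inv_mem h3
  obtain ⟨g, hne, hcomm⟩ := Cfsg.Agent.Lib.H14.O5040.exists_conj_commute_of_simple hnc y hy
  have hc : y * (g * y * g⁻¹) = g * y * g⁻¹ * y := hcomm.eq
  have ha : g⁻¹ * y * g ∈ N := by
    apply hF
    have : (g⁻¹ * y * g)⁻¹ * y * (g⁻¹ * y * g) = y := by
      calc (g⁻¹ * y * g)⁻¹ * y * (g⁻¹ * y * g)
          = g⁻¹ * y⁻¹ * (g * y * g⁻¹ * y) * g := by group
        _ = g⁻¹ * y⁻¹ * (y * (g * y * g⁻¹)) * g := by rw [hc]
        _ = y := by group
    rw [this]
    exact hyN
  have hg : g ∈ N := hF g ha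
  have hgc := hcen hg
  rw [mem_centralizer_singleton_iff] at hgc
  apply hne
  calc g * y * g⁻¹ = y * g * g⁻¹ := by rw [hgc]
    _ = y := by group

theorem not_simple_3960 {G : Type*} [Group G] [Finite G] [IsSimpleGroup G] :
    Nat.card G ≠ 3960 := by
  intro hn
  have hnc : ¬ IsMulCommutative G :=
    not_isMulCommutative_of_card_not_prime (by rw [hn]; norm_num)
  have : Fact (Nat.Prime 11) := ⟨by norm_num⟩
  have : Fact (Nat.Prime 2) := ⟨by norm_num⟩
  let P : Sylow 11 G := default
  obtain ⟨h1, h2, h3, -, h5, h6, h7, h8, hP, hNd, hNtop, hPC, hcr, hfp⟩ :=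
    prime_data_explicit hnc hn (p := 11) (m := 360) (by norm_num) (by norm_num) (by norm_num) P
  have hd : Nat.card (Sylow 11 G) = 12 ∨ Nat.card (Sylow 11 G) = 45 := by
    have hmem : Nat.card (Sylow 11 G) ∈ (Nat.divisors 360).filter (fun d => d % 11 = 1) := by
      rw [Finset.mem_filter, Nat.mem_divisors]
      exact ⟨⟨h1, by norm_num⟩, h2⟩
    have hfil : (Nat.divisors 360).filter (fun d => d % 11 = 1) = {1, 12, 45} := by decide
    rw [hfil] at hmem
    simp only [Finset.mem_insert, Finset.mem_singleton] at hmem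
    rcases hmem with h | h | h
    · exact absurd h h3
    · exact Or.inl h
    · exact Or.inr h
  set N := normalizer ((P : Subgroup G) : Set G) with hN
  set C := centralizer ((P : Subgroup G) : Set G) with hC
  set r := C.relIndex N with hr
  set c₀ := Nat.card C with hc₀
  have hr10 : r ≤ 10 := Nat.le_of_dvd (by norm_num) h5
  obtain ⟨k, hk⟩ := h8
  rcases hd with hd | hd
  · -- n_11 = 12 : fixed-point test with q = 3
    rw [hd] at h7 hfp
    have h3c : 3 ∣ c₀ := by
      have : r = 2 ∨ r = 5 ∨ r = 10 := by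
        interval_cases r <;> omega
      rcases this with hr' | hr' | hr' <;> rw [hr'] at h7 <;> omega
    obtain ⟨f, hf1, hf2, hf3, -⟩ := hfp 3 (by norm_num) h3c
    omega
  · -- n_11 = 45
    rw [hd] at h7 hNd
    have hrc : r = 2 ∧ c₀ = 44 := by
      interval_cases r <;> omega
    have hNcard : Nat.card N = 88 := by omega
    have hidx : N.index = 45 := by rw [hN, index_normalizer_eq_card_sylow P, hd]
    -- a subgroup of order 8 of N
    let Q : Sylow 2 ↥N := default
    have hQ : Nat.card (Q : Subgroup ↥N) = 2 ^ 3 :=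
      (sylow_card_and_index Q (k := 3) (m := 11) (by rw [hNcard]; norm_num) (by norm_num)).1
    set S : Subgroup G := (Q : Subgroup ↥N).map N.subtype with hS
    have hScard : Nat.card S = 8 := by
      rw [hS, Subgroup.card_map_of_injective N.subtype_injective, hQ]; norm_num
    have hSN : S ≤ N := Subgroup.map_subtype_le _
    have hSp : IsPGroup 2 S := IsPGroup.of_card (n := 3) (by rw [hScard]; norm_num)
    set D : Subgroup G := S ⊓ C with hD
    have hDS : D ≤ S := inf_le_left
    have hDne : D ≠ ⊥ := by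
      intro hbot
      have e1 : Nat.card D * D.relIndex S = Nat.card S := card_mul_relIndex_of_le hDS
      have e2 : D.relIndex S = C.relIndex S := by rw [hD, inf_comm, inf_relIndex_right]
      have e3 : C.relIndex S ≤ C.relIndex N :=
        relIndex_le_of_le_right hSN (by rw [← hr, hrc.1]; norm_num)
      rw [e2, hbot, Subgroup.card_bot, one_mul, hScard] at e1
      rw [e1, ← hr, hrc.1] at e3
      omega
    have hnorm : S ≤ normalizer (D : Set G) := by
      apply Cfsg.Agent.Lib.H16.le_normalizer_of_conj_mem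
      intro s hs d hd'
      refine Subgroup.mem_inf.mpr ⟨S.mul_mem (S.mul_mem hs hd'.1) (S.inv_mem hs), ?_⟩
      have hsN : s ∈ N := hSN hs
      have hdC : d ∈ C := hd'.2
      rw [hC, mem_centralizer_iff] at hdC ⊢
      intro p hp
      have hp' : s⁻¹ * p * s ∈ (P : Subgroup G) := by
        have := (mem_normalizer_iff.mp (N.inv_mem hsN) p).mp hp
        simpa using this
      have hcm := hdC _ hp'
      calc p * (s * d * s⁻¹) = s * ((s⁻¹ * p * s) * d) * s⁻¹ := by group
        _ = s * (d * (s⁻¹ * p * s)) * s⁻¹ := by rw [hcm]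
        _ = s * d * s⁻¹ * p := by group
    obtain ⟨x, hxD, hx1, hxS⟩ :=
      Cfsg.Agent.Lib.H16.exists_ne_one_central_of_le_normalizer (by norm_num : Nat.Prime 2) S D hSp
        hDS hnorm hDne
    -- an involution y, power of x
    have hxo : orderOf x ∣ 8 := by
      have := orderOf_dvd_natCard (⟨x, hDS hxD⟩ : S)
      rw [Subgroup.orderOf_mk, hScard] at this
      exact this
    have hxo1 : orderOf x ≠ 1 := fun h => hx1 (orderOf_eq_one_iff.mp h)
    have hxo' : orderOf x = 2 ∨ orderOf x = 4 ∨ orderOf x = 8 := by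
      have hle : orderOf x ≤ 8 := Nat.le_of_dvd (by norm_num) hxo
      have hpos : 0 < orderOf x := Nat.pos_of_dvd_of_pos hxo (by norm_num)
      interval_cases h : orderOf x <;> simp_all
    set y := x ^ (orderOf x / 2) with hy
    have hyo : orderOf y = 2 := by
      rw [hy, orderOf_pow_of_dvd]
      · rcases hxo' with h | h | h <;> rw [h]
      · rcases hxo' with h | h | h <;> rw [h] <;> norm_num
      · rcases hxo' with h | h | h <;> rw [h] <;> norm_num
    have hyD : y ∈ D := D.pow_mem hxD _
    have hyS : ∀ s ∈ S, s * y = y * s := by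
      intro s hs
      have : Commute s x := hxS s hs
      exact (this.pow_right _).eq
    have hyC : y ∈ C := hyD.2
    have hyN : y ∈ N := hSN hyD.1
    -- y is central in N
    set K : Subgroup G := centralizer ({y} : Set G) ⊓ N with hK
    have hPK : (P : Subgroup G) ≤ K := by
      intro p hp
      refine Subgroup.mem_inf.mpr ⟨?_, le_normalizer hp⟩
      rw [mem_centralizer_singleton_iff]
      have := hyC
      rw [hC, mem_centralizer_iff] at this
      exact this p hp
    have hSK : S ≤ K := by
      intro s hs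
      refine Subgroup.mem_inf.mpr ⟨?_, hSN hs⟩
      rw [mem_centralizer_singleton_iff]
      exact hyS s hs
    have hKN : K ≤ N := inf_le_right
    have hK88 : 88 ∣ Nat.card K := by
      have d1 : 11 ∣ Nat.card K := by rw [← hP]; exact card_dvd_of_le hPK
      have d2 : 8 ∣ Nat.card K := by rw [← hScard]; exact card_dvd_of_le hSK
      exact Nat.Coprime.mul_dvd_of_dvd_of_dvd (by norm_num : Nat.Coprime 11 8) d1 d2
    have hKeq : K = N := by
      apply Subgroup.eq_of_le_of_card_ge hKN
      rw [hNcard]
      exact Nat.le_of_dvd Nat.card_pos hK88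
    have hcen : N ≤ centralizer ({y} : Set G) := by
      rw [← hKeq]; exact inf_le_left
    -- the fixed-point count of y is 1
    apply card_fixedBy_ne_one_of_central hnc N y hyo hyN hcen
    have hf1 : Nat.card (fixedBy (G ⧸ N) y) ≡ 1 [MOD 11] := card_fixedBy_modEq_one 11 P hP hyC
    have hf2 := card_modEq_card_fixedBy (Ω := G ⧸ N) (r := 2) (k := 1) (y := y)
      (by rw [pow_one]; exact hyo)
    have hcardq : Nat.card (G ⧸ N) = N.index := rfl
    rw [hcardq, hidx] at hf2
    have hf3 := card_fixedBy_le_index N y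
    rw [hidx] at hf3
    have hf4 : Nat.card (fixedBy (G ⧸ N) y) ≠ 45 := by
      intro heq
      have := eq_one_of_card_fixedBy_eq N hNtop (y := y) (by rw [hidx]; exact heq)
      rw [this, orderOf_one] at hyo
      omega
    have hf5 := four_dvd_index_sub_card_fixedBy (by rw [hn]; norm_num) N hyo
    rw [hidx] at hf5
    unfold Nat.ModEq at hf1 hf2
    omega

end Cfsg.Agent.Lib.H3.O983
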