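import Mathlib
import Cfsg.Agent.Lib.H5.Ord.GenTests
import Cfsg.Agent.Lib.H3.O983TT8

set_option autoImplicit false

/-! # No simple group of order 4200 (piece of S0983, helper3)

`n_7 = 50`, `|N(P_7)| = 84` and `C(P_7)` has even order.  An involution `y ∈ C(P_7)` fixes exactly
`22` Sylow `7`-subgroups, so `|C(y)|` divides `gcd(4200, 22 * 84) = 168`.  By Thompson transfer
`8 ∣ |C(y)|` (`|G|_2 = 8`), so `|C(y)| ∈ {56, 168}`; the normalizer of a Sylow `7`-subgroup of
`C(y)` contains `y`, hence has order divisible by `14`, which forces `n_7(C(y)) = 1`,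
`C(y) ≤ N(P_7)` and `8 ∣ 84`. -/

namespace Cfsg.Agent.Lib.H3.O983

open Subgroup MulAction Cfsg.Agent.Lib.H5 Cfsg.Agent.Lib.H5.SylPrime Cfsg.Agent.Lib.H5.GenTests

theorem not_simple_4200 {G : Type*} [Group G] [Finite G] [IsSimpleGroup G] :
    Nat.card G ≠ 4200 := by
  intro hn
  have hnc : ¬ IsMulCommutative G :=
    not_isMulCommutative_of_card_not_prime (by rw [hn]; norm_num)
  have : Fact (Nat.Prime 7) := ⟨by norm_num⟩
  have : Fact (Nat.Prime 2) := ⟨by norm_num⟩
  let P : Sylow 7 G := default
  obtain ⟨h1, h2, h3, h4, h5, h6, h7, h8, hP, hNd, hNtop, hPC, hcr, hfp⟩ :=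
    prime_data_explicit hnc hn (p := 7) (m := 600) (by norm_num) (by norm_num) (by norm_num) P
  have hd : Nat.card (Sylow 7 G) = 8 ∨ Nat.card (Sylow 7 G) = 15 ∨ Nat.card (Sylow 7 G) = 50 ∨
      Nat.card (Sylow 7 G) = 120 := by
    have hmem : Nat.card (Sylow 7 G) ∈ (Nat.divisors 600).filter (fun d => d % 7 = 1) := by
      rw [Finset.mem_filter, Nat.mem_divisors]
      exact ⟨⟨h1, by norm_num⟩, h2⟩
    have hfil : (Nat.divisors 600).filter (fun d => d % 7 = 1) = {1, 8, 15, 50, 120} := by decide
    rw [hfil] at hmem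
    simp only [Finset.mem_insert, Finset.mem_singleton] at hmem
    rcases hmem with h | h | h | h | h
    · exact absurd h h3
    · exact Or.inl h
    · exact Or.inr (Or.inl h)
    · exact Or.inr (Or.inr (Or.inl h))
    · exact Or.inr (Or.inr (Or.inr h))
  set N := normalizer ((P : Subgroup G) : Set G) with hN
  set C := centralizer ((P : Subgroup G) : Set G) with hC
  set r := C.relIndex N with hr
  set c₀ := Nat.card C with hc₀
  have hr6 : r ≤ 6 := Nat.le_of_dvd (by norm_num) h5
  obtain ⟨k, hk⟩ := h8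
  rcases hd with hd | hd | hd | hd
  · rw [hd] at h4
    norm_num [Nat.factorial] at h4
  · rw [hd] at h7 hfp
    have h5c : 5 ∣ c₀ := by
      have : r = 2 ∨ r = 3 ∨ r = 6 := by
        interval_cases r <;> omega
      rcases this with hr' | hr' | hr' <;> rw [hr'] at h7 <;> omega
    obtain ⟨f, hf1, hf2, hf3, -⟩ := hfp 5 (by norm_num) h5c
    omega
  · -- n_7 = 50
    rw [hd] at h7 hNd
    have hNcard : Nat.card N = 84 := by omega
    have hidx : N.index = 50 := by rw [hN, index_normalizer_eq_card_sylow P, hd]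
    have h2c : 2 ∣ c₀ := by
      have : r = 2 ∨ r = 3 ∨ r = 6 := by
        interval_cases r <;> omega
      rcases this with hr' | hr' | hr' <;> rw [hr'] at h7 <;> omega
    obtain ⟨y, hw⟩ := exists_prime_orderOf_dvd_card' 2 (G := C) h2c
    have hyo : orderOf (y : G) = 2 := by rw [Subgroup.orderOf_coe]; exact hw
    have hyC : (y : G) ∈ C := y.2
    have hyN : (y : G) ∈ N := centralizer_le_normalizer _ hyC
    -- the fixed-point count of y is 22
    have hf1 : Nat.card (fixedBy (G ⧸ N) (y : G)) ≡ 1 [MOD 7] :=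
      card_fixedBy_modEq_one 7 P hP hyC
    have hf2 := card_modEq_card_fixedBy (Ω := G ⧸ N) (r := 2) (k := 1) (y := (y : G))
      (by rw [pow_one]; exact hyo)
    have hcardq : Nat.card (G ⧸ N) = N.index := rfl
    rw [hcardq, hidx] at hf2
    have hf3 := card_fixedBy_le_index N (y : G)
    rw [hidx] at hf3
    have hf4 : Nat.card (fixedBy (G ⧸ N) (y : G)) ≠ 50 := by
      intro heq
      have := eq_one_of_card_fixedBy_eq N hNtop (y := (y : G)) (by rw [hidx]; exact heq)
      rw [this, orderOf_one] at hyo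
      omega
    have hf5 := four_dvd_index_sub_card_fixedBy (by rw [hn]; norm_num) N hyo
    rw [hidx] at hf5
    have hf : Nat.card (fixedBy (G ⧸ N) (y : G)) = 22 := by
      unfold Nat.ModEq at hf1 hf2
      omega
    have hform := card_fixedBy_mul_card N hyN
    rw [hf, hNcard] at hform
    set H : Subgroup G := centralizer ({(y : G)} : Set G) with hH
    have hH1848 : Nat.card H ∣ 1848 := ⟨_, hform⟩
    have hH4200 : Nat.card H ∣ 4200 := hn ▸ card_subgroup_dvd_card H
    have hH168 : Nat.card H ∣ 168 := by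
      have := Nat.dvd_gcd hH4200 hH1848
      norm_num at this
      exact this
    -- 8 ∣ |H| by Thompson transfer
    let P2 : Sylow 2 G := default
    have hP2 : Nat.card (P2 : Subgroup G) = 2 ^ 3 :=
      (sylow_card_and_index P2 (k := 3) (m := 525) (by rw [hn]; norm_num) (by norm_num)).1
    have h8H : 8 ∣ Nat.card H :=
      eight_dvd_card_centralizer_of_simple P2 (by rw [hP2]; norm_num) (y : G) hyo
    -- P ≤ H
    have hPH : (P : Subgroup G) ≤ H := by
      intro p hp
      rw [hH, mem_centralizer_singleton_iff]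
      exact (mem_centralizer_iff.mp hyC) p hp
    have h7H : 7 ∣ Nat.card H := by rw [← hP]; exact card_dvd_of_le hPH
    have h56 : 56 ∣ Nat.card H :=
      Nat.Coprime.mul_dvd_of_dvd_of_dvd (by norm_num : Nat.Coprime 8 7) h8H h7H
    -- Sylow 7 of H
    set PH : Subgroup ↥H := (P : Subgroup G).subgroupOf H with hPHdef
    have hPHc : Nat.card PH = 7 := by
      rw [hPHdef, Nat.card_congr (Subgroup.subgroupOfEquivOfLe hPH).toEquiv, hP]
    have hPHp : IsPGroup 7 PH := IsPGroup.of_card (n := 1) (by rw [hPHc, pow_one])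
    obtain ⟨Q', hQ'⟩ := hPHp.exists_le_sylow
    have hQ'c : Nat.card (Q' : Subgroup ↥H) = 7 := by
      obtain ⟨t, ht⟩ := h56
      have ht3 : t = 1 ∨ t = 3 := by
        obtain ⟨s, hs⟩ := hH168
        rw [ht] at hs
        have : t * s = 3 :=
          Nat.eq_of_mul_eq_mul_left (by norm_num : 0 < 56) (by rw [← mul_assoc, ← hs])
        have ht3 : t ∣ 3 := ⟨s, this.symm⟩
        exact (Nat.dvd_prime Nat.prime_three).mp ht3
      have := (sylow_card_and_index Q' (k := 1) (m := 8 * t)
        (by rw [ht]; ring) (by rcases ht3 with h | h <;> rw [h] <;> norm_num)).1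
      rw [pow_one] at this
      exact this
    have hPQ : PH = (Q' : Subgroup ↥H) := by
      apply Subgroup.eq_of_le_of_card_ge hQ'
      rw [hPHc, hQ'c]
    -- the number of Sylow 7-subgroups of H is 1
    have hn' := card_sylow_modEq_one 7 ↥H
    have hidx' := index_normalizer_eq_card_sylow Q'
    have hmul := card_normalizer_mul_card_sylow Q'
    have h7n : 7 ∣ Nat.card (normalizer ((Q' : Subgroup ↥H) : Set ↥H)) := by
      have := card_dvd_of_le (le_normalizer : (Q' : Subgroup ↥H) ≤
        normalizer ((Q' : Subgroup ↥H) : Set ↥H))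
      rwa [hQ'c] at this
    have h2n : 2 ∣ Nat.card (normalizer ((Q' : Subgroup ↥H) : Set ↥H)) := by
      have hy' : (⟨(y : G), by rw [hH, mem_centralizer_singleton_iff]⟩ : ↥H) ∈
          normalizer ((Q' : Subgroup ↥H) : Set ↥H) := by
        apply Subgroup.center_le_normalizer
        rw [Subgroup.mem_center_iff]
        intro g
        apply Subtype.ext
        exact mem_centralizer_singleton_iff.mp g.2
      have ho := orderOf_dvd_natCard
        (⟨_, hy'⟩ : normalizer ((Q' : Subgroup ↥H) : Set ↥H))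
      rw [Subgroup.orderOf_mk, Subgroup.orderOf_mk, hyo] at ho
      exact ho
    have h14n : 14 ∣ Nat.card (normalizer ((Q' : Subgroup ↥H) : Set ↥H)) :=
      Nat.Coprime.mul_dvd_of_dvd_of_dvd (by norm_num : Nat.Coprime 2 7) h2n h7n
    have hone : Nat.card (Sylow 7 ↥H) = 1 := by
      obtain ⟨a, ha⟩ := h14n
      obtain ⟨t, ht⟩ := h56
      obtain ⟨s, hs⟩ := hH168
      rw [ha, ht] at hmul
      rw [ht] at hs
      have hts : t * s = 3 :=
        Nat.eq_of_mul_eq_mul_left (by norm_num : 0 < 56) (by rw [← mul_assoc, ← hs])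
      have ht3 : t ∣ 3 := ⟨s, hts.symm⟩
      have htle := Nat.le_of_dvd (by norm_num) ht3
      have hpos : 0 < Nat.card (Sylow 7 ↥H) := Nat.card_pos
      unfold Nat.ModEq at hn'
      have hdv : Nat.card (Sylow 7 ↥H) ∣ 4 * t := ⟨a, by nlinarith⟩
      have : t = 1 ∨ t = 3 := (Nat.dvd_prime Nat.prime_three).mp ht3
      rcases this with h | h
      · rw [h] at hdv
        have hle := Nat.le_of_dvd (by norm_num) hdv
        interval_cases hc : Nat.card (Sylow 7 ↥H) <;> omega
      · rw [h] at hdv
        have hle := Nat.le_of_dvd (by norm_num) hdv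
        interval_cases hc : Nat.card (Sylow 7 ↥H) <;> omega
    have hnormal : normalizer ((Q' : Subgroup ↥H) : Set ↥H) = ⊤ := by
      rw [← Subgroup.index_eq_one, hidx', hone]
    have hPHn : PH.Normal := by
      rw [hPQ]
      exact Subgroup.normalizer_eq_top_iff.mp hnormal
    have hHN : H ≤ N := (normal_subgroupOf_iff_le_normalizer hPH).mp hPHn
    have := card_dvd_of_le hHN
    rw [hNcard] at this
    have h8' : 8 ∣ 84 := dvd_trans h8H this
    omega
  · rw [hd] at h7
    interval_cases r <;> omega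

end Cfsg.Agent.Lib.H3.O983
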