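import Mathlib
import Cfsg.Agent.Lib.H16.OddStable
import Cfsg.Agent.Lib.H26.SmallFocal
set_option autoImplicit false
open scoped commutatorElement
namespace Cfsg.Agent.Lib.H3

open Cfsg

/-- a `p`-element normalizing a cyclic group of exponent `p` centralizes it. -/
theorem conj_eq_of_isCyclic_exp {Γ : Type*} [Group Γ] {p : ℕ} [Fact p.Prime] {B : Subgroup Γ}
    (hB : IsCyclic ↥B) (hBe : ∀ b ∈ B, b ^ p = 1) {s : Γ}
    (hs : s ∈ Subgroup.normalizer (B : Set Γ)) (hsp : ∃ j : ℕ, s ^ (p ^ j) = 1) :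
    ∀ b ∈ B, s * b * s⁻¹ = b := by
  obtain ⟨u, hu⟩ := hB.exists_generator
  have hu1 : s * (u : Γ) * s⁻¹ ∈ Subgroup.zpowers (u : Γ) := by
    have h1 : s * (u : Γ) * s⁻¹ ∈ B := (Subgroup.mem_normalizer_iff.1 hs u).1 u.2
    obtain ⟨k, hk⟩ := Subgroup.mem_zpowers_iff.1 (hu ⟨_, h1⟩)
    refine Subgroup.mem_zpowers_iff.2 ⟨k, ?_⟩
    have := congrArg Subtype.val hk
    simpa using this
  have hu2 := Cfsg.Agent.Lib.H26.conj_eq_of_pow_prime (p := p) hsp (hBe u u.2) hu1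
  intro b hb
  obtain ⟨k, hk⟩ := Subgroup.mem_zpowers_iff.1 (hu ⟨b, hb⟩)
  have hb' : b = (u : Γ) ^ k := by
    have := congrArg Subtype.val hk
    simpa using this.symm
  rw [hb']
  have : s * (u : Γ) ^ k * s⁻¹ = (s * u * s⁻¹) ^ k := by
    rw [conj_zpow]
  rw [this, hu2]

variable {X : Type*} [Group X] [Finite X] {p : ℕ} [Fact p.Prime]

/-- variant of helper16's `odd_quadratic_mem_pCore`: quadratic action modulo the Frattini subgroup
suffices (same proof). -/
theorem odd_quadratic_mod_frattini (hp : p ≠ 2) (hodd : Odd (Nat.card X)) (P : Subgroup X)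
    [P.Normal] (hP : IsPGroup p P) (a : X)
    (hq : ⁅⁅P, Subgroup.zpowers a⁆, Subgroup.zpowers a⁆ ≤ (frattini ↥P).map P.subtype) :
    (QuotientGroup.mk a : X ⧸ Subgroup.centralizer (P : Set X)) ∈
      Cfsg.pCore p (X ⧸ Subgroup.centralizer (P : Set X)) := by
  classical
  obtain ⟨Φ, hΦ⟩ : ∃ Φ : Subgroup X, Φ = (frattini ↥P).map P.subtype := ⟨_, rfl⟩
  have hΦn : Φ.Normal := by
    rw [← Subgroup.normalizer_eq_top_iff, eq_top_iff, hΦ]
    have h1 := Cfsg.Agent.Lib.H1.normalizer_le_normalizer_map_of_characteristic (K := P)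
      (frattini ↥P)
    rwa [Subgroup.normalizer_eq_top_iff.2 inferInstance] at h1
  haveI := hΦn
  have hΦP : Φ ≤ P := hΦ ▸ Subgroup.map_subtype_le _
  obtain ⟨π, hπ⟩ : ∃ π : X →* X ⧸ Φ, π = QuotientGroup.mk' Φ := ⟨_, rfl⟩
  have hπs : Function.Surjective π := hπ ▸ QuotientGroup.mk'_surjective Φ
  have hπk : ∀ x : X, π x = 1 ↔ x ∈ Φ := fun x => by
    rw [hπ]; exact QuotientGroup.eq_one_iff x
  obtain ⟨V, hVdef⟩ : ∃ V : Subgroup (X ⧸ Φ), V = P.map π := ⟨_, rfl⟩
  haveI hVn : V.Normal := hVdef ▸ Subgroup.Normal.map inferInstance π hπs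
  have hcomm : ∀ x ∈ P, ∀ y ∈ P, x * y * x⁻¹ * y⁻¹ ∈ Φ := by
    intro x hx y hy
    have h1 : ⁅(⟨x, hx⟩ : P), ⟨y, hy⟩⁆ ∈ frattini ↥P :=
      Cfsg.Agent.Lib.H1.isPGroup_commutator_le_frattini hP
        (Subgroup.commutator_mem_commutator (Subgroup.mem_top _) (Subgroup.mem_top _))
    rw [hΦ]
    exact ⟨_, h1, by simp [commutatorElement_def]⟩
  have hVea : IsElementaryAbelian p V := by
    constructor
    · constructor
      constructor
      rintro ⟨u, hu⟩ ⟨v, hv⟩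
      rw [hVdef] at hu hv
      obtain ⟨x, hx, rfl⟩ := hu
      obtain ⟨y, hy, rfl⟩ := hv
      apply Subtype.ext
      change π x * π y = π y * π x
      have h1 := (hπk _).2 (hcomm x hx y hy)
      rw [map_mul, map_mul, map_mul, map_inv, map_inv] at h1
      calc π x * π y = (π x * π y * (π x)⁻¹ * (π y)⁻¹) * (π y * π x) := by group
        _ = π y * π x := by rw [h1, one_mul]
    · intro u hu
      rw [hVdef] at hu
      obtain ⟨x, hx, rfl⟩ := hu
      rw [← map_pow, hπk, hΦ]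
      have h1 := Cfsg.Agent.Lib.H1.isPGroup_pow_mem_frattini hP (⟨x, hx⟩ : P)
      exact ⟨_, h1, by simp⟩
  have hoddq : Odd (Nat.card (X ⧸ Φ)) :=
    Odd.of_dvd_nat hodd (Subgroup.card_quotient_dvd_card Φ)
  have hst := Cfsg.Agent.Lib.H16.odd_isPStableOn hp hoddq V hVea
  have hqa : ⁅⁅V, Subgroup.zpowers (π a)⁆, Subgroup.zpowers (π a)⁆ = ⊥ := by
    rw [hVdef, ← MonoidHom.map_zpowers, ← Subgroup.map_commutator, ← Subgroup.map_commutator,
      eq_bot_iff]
    refine (Subgroup.map_mono (hΦ ▸ hq)).trans ?_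
    rintro _ ⟨x, hx, rfl⟩
    rw [Subgroup.mem_bot]
    exact (hπk x).2 hx
  have ha := hst (π a) hqa
  set Cb : Subgroup (X ⧸ Φ) := Subgroup.centralizer (V : Set (X ⧸ Φ)) with hCb
  set D : Subgroup X := (Cfsg.pCore p ((X ⧸ Φ) ⧸ Cb)).comap ((QuotientGroup.mk' Cb).comp π) with hD
  haveI hDn : D.Normal := by
    haveI := Cfsg.Agent.Lib.H1.pCore_normal p ((X ⧸ Φ) ⧸ Cb)
    exact Subgroup.Normal.comap inferInstance _
  have haD : a ∈ D := ha
  have hK : ∀ e : X, π e ∈ Cb → ∀ j : ℕ, (orderOf (e ^ (p ^ j))).Coprime p →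
      e ^ (p ^ j) ∈ Subgroup.centralizer (P : Set X) := by
    intro e he j hj
    have h1 := Cfsg.Agent.Lib.H9.commute_of_commutator_mem_frattini hP
      (y := e ^ (p ^ j)) (by rw [Subgroup.normalizer_eq_top_iff.2 inferInstance]; trivial) hj ?_
    · intro q hq
      exact (h1 q hq).symm
    · intro b hb q hq
      rw [← hΦ, ← hπk]
      have hbC : π b ∈ Cb := by
        have : Subgroup.zpowers (e ^ (p ^ j)) ≤ Cb.comap π := by
          rw [Subgroup.zpowers_le]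
          exact Subgroup.pow_mem (Cb.comap π) (show e ∈ Cb.comap π from he) _
        exact this hb
      have h2 : π q * π b = π b * π q := hbC (π q) (hVdef ▸ Subgroup.mem_map_of_mem π hq)
      rw [map_mul, map_mul, map_mul, map_inv, map_inv, ← h2]
      group
  have hDp : IsPGroup p (D.map (QuotientGroup.mk' (Subgroup.centralizer (P : Set X)))) := by
    rintro ⟨u, hu⟩
    obtain ⟨d, hd, rfl⟩ := hu
    have hpc := Cfsg.Agent.Lib.H1.pCore_isPGroup p ((X ⧸ Φ) ⧸ Cb)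
    obtain ⟨k, hk⟩ := hpc ⟨_, hd⟩
    have hk' : ((QuotientGroup.mk' Cb).comp π) d ^ (p ^ k) = 1 := by
      simpa using congrArg Subtype.val hk
    have he : π (d ^ (p ^ k)) ∈ Cb := by
      rw [map_pow]
      have : (QuotientGroup.mk' Cb) (π d ^ (p ^ k)) = 1 := by
        rw [map_pow]; exact hk'
      exact (QuotientGroup.eq_one_iff _).1 this
    obtain ⟨j, hj⟩ := Cfsg.Agent.Lib.H16.exists_pow_coprime_order (p := p) (d ^ (p ^ k))
    have h3 := hK _ he j hj
    refine ⟨k + j, Subtype.ext ?_⟩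
    change (QuotientGroup.mk' (Subgroup.centralizer (P : Set X))) d ^ (p ^ (k + j)) = 1
    rw [← map_pow, pow_add, pow_mul]
    exact (QuotientGroup.eq_one_iff _).2 h3
  have hDmn : (D.map (QuotientGroup.mk' (Subgroup.centralizer (P : Set X)))).Normal :=
    Subgroup.Normal.map hDn _ (QuotientGroup.mk'_surjective _)
  exact Cfsg.Agent.Lib.H1.le_pCore hDmn hDp (Subgroup.mem_map_of_mem _ haD)

end Cfsg.Agent.Lib.H3
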