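import Mathlib
import Cfsg.Agent.Lib.H3.OddLen1
import Cfsg.Agent.Lib.H3.OffenderSL2a
set_option autoImplicit false
open scoped commutatorElement
namespace Cfsg.Agent.Lib.H3

open Cfsg

theorem isCyclic_map' {G H : Type*} [Group G] [Group H] (f : G →* H) (K : Subgroup G)
    [hK : IsCyclic ↥K] : IsCyclic ↥(K.map f) :=
  isCyclic_of_surjective (f.subgroupMap K) (f.subgroupMap_surjective K)

variable {X : Type*} [Group X] [Finite X] {p : ℕ} [Fact p.Prime]

/-- solvable, odd order, `O_{p'} = 1`, Sylow with cyclic derived group ⇒ Sylow is normal. -/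
theorem sylow_le_pCore_of_cyclic_commutator [hsol : Group.IsSolvable X] (hodd : Odd (Nat.card X))
    (hO : pPrimeCore p X = ⊥) (S : Sylow p X)
    (hS : IsCyclic ↥⁅(S : Subgroup X), (S : Subgroup X)⁆) :
    (S : Subgroup X) ≤ pCore p X := by
  classical
  have hpp : p.Prime := Fact.out
  by_cases hp : p = 2
  · intro s hs
    obtain ⟨k, hk⟩ := S.isPGroup' ⟨s, hs⟩
    have hk' : s ^ (p ^ k) = 1 := by simpa using congrArg Subtype.val hk
    have h1 : orderOf s ∣ p ^ k := orderOf_dvd_of_pow_eq_one hk'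
    have h2 : orderOf s ∣ Nat.card X := orderOf_dvd_natCard s
    have h3 : orderOf s = 1 := by
      have hcop : (p ^ k).Coprime (Nat.card X) := by
        rw [hp]
        exact Nat.Coprime.pow_left k (Nat.coprime_two_left.2 hodd)
      exact Nat.eq_one_of_dvd_coprimes hcop h1 h2
    rw [orderOf_eq_one_iff] at h3
    rw [h3]; exact Subgroup.one_mem _
  · set P := pCore p X with hPdef
    haveI hPn : P.Normal := Cfsg.Agent.Lib.H1.pCore_normal p X
    have hP : IsPGroup p P := Cfsg.Agent.Lib.H1.pCore_isPGroup p X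
    have hc : Subgroup.centralizer (P : Set X) ≤ P :=
      Cfsg.Agent.Lib.H16.centralizer_pCore_le_of_isSolvable p hsol hO
    have hPS : P ≤ (S : Subgroup X) := Cfsg.Agent.Lib.H1.pCore_le_sylow S
    intro a ha
    set Φ : Subgroup X := (frattini ↥P).map P.subtype with hΦ
    have hΦn : Φ.Normal := by
      rw [← Subgroup.normalizer_eq_top_iff, eq_top_iff, hΦ]
      have h1 := Cfsg.Agent.Lib.H1.normalizer_le_normalizer_map_of_characteristic (K := P)
        (frattini ↥P)
      rwa [Subgroup.normalizer_eq_top_iff.2 inferInstance] at h1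
    haveI := hΦn
    set π : X →* X ⧸ Φ := QuotientGroup.mk' Φ with hπ
    set T := ⁅P, Subgroup.zpowers a⁆ with hT
    have hzS : Subgroup.zpowers a ≤ (S : Subgroup X) := Subgroup.zpowers_le.2 ha
    have hTS : T ≤ ⁅(S : Subgroup X), (S : Subgroup X)⁆ := Subgroup.commutator_mono hPS hzS
    have hTP : T ≤ P := Subgroup.commutator_le_left _ _
    haveI hTc : IsCyclic ↥T := Subgroup.isCyclic_of_le hTS
    have hBc : IsCyclic ↥(T.map π) := isCyclic_map' π T
    have hBe : ∀ b ∈ T.map π, b ^ p = 1 := by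
      rintro _ ⟨t, ht, rfl⟩
      rw [← map_pow, hπ, QuotientGroup.mk'_apply, QuotientGroup.eq_one_iff, hΦ]
      have h1 := Cfsg.Agent.Lib.H1.isPGroup_pow_mem_frattini hP (⟨t, hTP ht⟩ : P)
      exact ⟨_, h1, by simp⟩
    have hzN : Subgroup.zpowers a ≤ Subgroup.normalizer (T : Set X) := by
      apply le_normalizer_commutator' _ Subgroup.le_normalizer
      rw [Subgroup.normalizer_eq_top_iff.2 hPn]
      exact le_top
    have hq : ⁅T, Subgroup.zpowers a⁆ ≤ Φ := by
      rw [Subgroup.commutator_le]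
      intro t ht y hy
      have hyN : π y ∈ Subgroup.normalizer ((T.map π : Subgroup (X ⧸ Φ)) : Set (X ⧸ Φ)) :=
        Subgroup.le_normalizer_map π ⟨y, hzN hy, rfl⟩
      have hyp : ∃ j : ℕ, (π y) ^ (p ^ j) = 1 := by
        obtain ⟨j, hj⟩ := S.isPGroup' ⟨y, hzS hy⟩
        refine ⟨j, ?_⟩
        have hj' : y ^ (p ^ j) = 1 := by simpa using congrArg Subtype.val hj
        rw [← map_pow, hj', map_one]
      have h1 := conj_eq_of_isCyclic_exp hBc hBe hyN hyp (π t) ⟨t, ht, rfl⟩
      have h2 : π ⁅t, y⁆ = 1 := by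
        rw [commutatorElement_def, map_mul, map_mul, map_mul, map_inv, map_inv]
        calc π t * π y * (π t)⁻¹ * (π y)⁻¹
            = π t * (π y * π t * (π y)⁻¹)⁻¹ := by group
          _ = 1 := by rw [h1]; group
      rw [hπ, QuotientGroup.mk'_apply, QuotientGroup.eq_one_iff] at h2
      exact h2
    have h := odd_quadratic_mod_frattini hp hodd P hP a hq
    haveI hCn : (Subgroup.centralizer (P : Set X)).Normal := Subgroup.normal_centralizer
    have hCp : IsPGroup p (Subgroup.centralizer (P : Set X)) := hP.to_le hc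
    exact Cfsg.Agent.Lib.H16.comap_pCore_le_pCore _ hCp h

/-- **BG**: solvable odd order group whose Sylow `p`-subgroup has cyclic derived group has
`p`-length one. -/
theorem pPrimeCore_sup_sylow_normal [hsol : Group.IsSolvable X] (hodd : Odd (Nat.card X))
    (S : Sylow p X) (hS : IsCyclic (commutator ↥(S : Subgroup X))) :
    (pPrimeCore p X ⊔ (S : Subgroup X)).Normal := by
  classical
  set N := pPrimeCore p X with hN
  haveI hNn : N.Normal := Cfsg.Agent.Lib.H22.pPrimeCore_normal p
  set f : X →* X ⧸ N := QuotientGroup.mk' N with hf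
  have hfs : Function.Surjective f := QuotientGroup.mk'_surjective N
  set Sb : Sylow p (X ⧸ N) := S.mapSurjective hfs with hSb
  have hSbc : (Sb : Subgroup (X ⧸ N)) = (S : Subgroup X).map f := Sylow.coe_mapSurjective hfs S
  have hoddq : Odd (Nat.card (X ⧸ N)) :=
    Odd.of_dvd_nat hodd (Subgroup.card_quotient_dvd_card N)
  have hOq : pPrimeCore p (X ⧸ N) = ⊥ := Cfsg.Agent.Lib.H9.pPrimeCore_quotient_eq_bot p
  have hcyc : IsCyclic ↥⁅(Sb : Subgroup (X ⧸ N)), (Sb : Subgroup (X ⧸ N))⁆ := by
    rw [hSbc, ← Subgroup.map_commutator, ← Subgroup.map_subtype_commutator]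
    haveI := hS
    haveI : IsCyclic ↥((commutator ↥(S : Subgroup X)).map (S : Subgroup X).subtype) :=
      isCyclic_map' _ _
    exact isCyclic_map' f _
  have h1 := sylow_le_pCore_of_cyclic_commutator hoddq hOq Sb hcyc
  have h2 : (Sb : Subgroup (X ⧸ N)) = pCore p (X ⧸ N) :=
    le_antisymm h1 (Cfsg.Agent.Lib.H1.pCore_le_sylow Sb)
  have h3 : ((S : Subgroup X).map f).Normal := by
    rw [← hSbc, h2]; exact Cfsg.Agent.Lib.H1.pCore_normal p _
  have h4 : N ⊔ (S : Subgroup X) = ((S : Subgroup X).map f).comap f := by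
    rw [Subgroup.comap_map_eq, hf, QuotientGroup.ker_mk', sup_comm]
  rw [h4]
  exact Subgroup.Normal.comap h3 f

end Cfsg.Agent.Lib.H3
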