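import Mathlib
import Cfsg.Agent.Lib.H3.PMinDefs

/-!
# S2937 (helper3): `BadAt` from a four element overgroup lattice and a fixed element

`U ≤ K`; the subgroups of `K` containing `U` are `U`, `H₁`, `H₂`, `K`; `z ∈ U` is fixed by every automorphism of `K`
stabilizing `U` (for instance `Z(U) = {1, z}`); `H₂` centralizes `z` and some `a ∈ H₁` does not.  Then `BadAt p K U`
(for every `p`): `H₁` and `H₂` are invariant under the automorphisms stabilizing `U`.

Intended for `K = Γ'` with `Γ = ²F₄(2)`, `G₂(2)` (no `(B, N)`-pair on `K` itself in the defining characteristic).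
-/

set_option autoImplicit false

namespace Cfsg.Agent.Lib.H3.PMin

open Subgroup

variable {K : Type*} [Group K]

/-- if `Z(U) = {1, z}` then every automorphism stabilizing `U` fixes `z` -/
theorem fixed_of_center (U : Subgroup K) (z : K) (hzU : z ∈ U) (hzc : ∀ u ∈ U, z * u = u * z)
    (hcen : ∀ t ∈ U, (∀ u ∈ U, t * u = u * t) → t = 1 ∨ t = z) (hz1 : z ≠ 1)
    (φ : K ≃* K) (hφ : U.map (MulEquiv.toMonoidHom φ) = U) : φ z = z := by
  have h1 : φ z ∈ U := by
    rw [← hφ]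
    exact ⟨z, hzU, rfl⟩
  have h2 : ∀ u ∈ U, φ z * u = u * φ z := by
    intro u hu
    rw [← hφ] at hu
    obtain ⟨u', hu', rfl⟩ := hu
    show φ z * φ u' = φ u' * φ z
    rw [← map_mul, ← map_mul, hzc u' hu']
  rcases hcen _ h1 h2 with h | h
  · exfalso
    apply hz1
    apply φ.injective
    rw [h, map_one]
  · exact h

/-- `BadAt` from the lattice `{U, H₁, H₂, K}` and an element `z` fixed by the automorphisms stabilizing `U` -/
theorem badAt_of_four_fixed (p : ℕ) (U H₁ H₂ : Subgroup K) (z a : K)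
    (hUH1 : U ≤ H₁) (hUH2 : U ≤ H₂)
    (hlat : ∀ M : Subgroup K, U ≤ M → M = U ∨ M = H₁ ∨ M = H₂ ∨ M = ⊤)
    (hgen : H₁ ⊔ H₂ = ⊤)
    (hfix : ∀ φ : K ≃* K, U.map (MulEquiv.toMonoidHom φ) = U → φ z = z)
    (hzc : ∀ u ∈ U, z * u = u * z)
    (hH2 : ∀ x ∈ H₂, z * x = x * z)
    (ha : a ∈ H₁) (hane : z * a ≠ a * z)
    (hH1top : H₁ ≠ ⊤) (hH2U : H₂ ≠ U) : BadAt p K U := by
  have haU : a ∉ U := fun h => hane (hzc a h)
  have haH2 : a ∉ H₂ := fun h => hane (hH2 a h)
  have hH1U : H₁ ≠ U := fun h => haU (h ▸ ha)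
  have hH12 : H₁ ≠ H₂ := fun h => haH2 (h ▸ ha)
  have hH2top : H₂ ≠ ⊤ := fun h => haH2 (h ▸ mem_top a)
  have hinj : ∀ φ : K ≃* K, Function.Injective (Subgroup.map (MulEquiv.toMonoidHom φ)) :=
    fun φ => Subgroup.map_injective φ.injective
  have hmaptop : ∀ φ : K ≃* K, (⊤ : Subgroup K).map (MulEquiv.toMonoidHom φ) = ⊤ := by
    intro φ
    rw [eq_top_iff]
    intro x _
    exact ⟨φ.symm x, mem_top _, φ.apply_symm_apply x⟩
  -- the two invariance statements
  have hinv2 : ∀ φ : K ≃* K, U.map (MulEquiv.toMonoidHom φ) = U → H₂.map (MulEquiv.toMonoidHom φ) = H₂ := by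
    intro φ hφ
    have hz := hfix φ hφ
    have hUM : U ≤ H₂.map (MulEquiv.toMonoidHom φ) := by
      rw [← hφ]
      exact Subgroup.map_mono hUH2
    have hcM : ∀ x ∈ H₂.map (MulEquiv.toMonoidHom φ), z * x = x * z := by
      rintro x ⟨y, hy, rfl⟩
      show z * φ y = φ y * z
      calc z * φ y = φ z * φ y := by rw [hz]
        _ = φ (z * y) := (map_mul φ z y).symm
        _ = φ (y * z) := by rw [hH2 y hy]
        _ = φ y * φ z := map_mul φ y z
        _ = φ y * z := by rw [hz]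
    rcases hlat _ hUM with h | h | h | h
    · exfalso
      apply hH2U
      apply hinj φ
      rw [h, hφ]
    · exfalso
      exact hane (hcM a (h ▸ ha))
    · exact h
    · exfalso
      exact hane (hcM a (h ▸ mem_top a))
  have hinv1 : ∀ φ : K ≃* K, U.map (MulEquiv.toMonoidHom φ) = U → H₁.map (MulEquiv.toMonoidHom φ) = H₁ := by
    intro φ hφ
    have hUM : U ≤ H₁.map (MulEquiv.toMonoidHom φ) := by
      rw [← hφ]
      exact Subgroup.map_mono hUH1
    rcases hlat _ hUM with h | h | h | h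
    · exfalso
      apply hH1U
      apply hinj φ
      rw [h, hφ]
    · exact h
    · exfalso
      apply hH12
      apply hinj φ
      rw [h, hinv2 φ hφ]
    · exfalso
      apply hH1top
      apply hinj φ
      rw [h, hmaptop φ]
  intro A _ hstab
  refine ⟨?_, H₁, H₂, hUH1, hUH2, hH1top, hH2top, hgen, fun φ hφ => ⟨hinv1 φ (hstab φ hφ), hinv2 φ (hstab φ hφ)⟩⟩
  -- `U` is not normal: conjugation by `a` would fix `z`
  intro hN
  have haN : a ∈ normalizer (U : Set K) := hN ▸ mem_top a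
  have hφ : U.map (MulEquiv.toMonoidHom (MulAut.conj a)) = U := by
    ext x
    constructor
    · rintro ⟨y, hy, rfl⟩
      exact (mem_normalizer_iff.mp haN y).mp hy
    · intro hx
      refine ⟨a⁻¹ * x * a, ?_, ?_⟩
      · have := (mem_normalizer_iff.mp haN (a⁻¹ * x * a)).mpr
        apply this
        have e : a * (a⁻¹ * x * a) * a⁻¹ = x := by group
        rw [e]
        exact hx
      · show a * (a⁻¹ * x * a) * a⁻¹ = x
        group
  have hz := hfix _ hφ
  have hz' : a * z * a⁻¹ = z := hz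
  apply hane
  calc z * a = a * z * a⁻¹ * a := by rw [hz']
    _ = a * z := by group

/-- `BadAt` from the lattice `{U, H₁, H₂, K}` when `Z(U) = {1, z}` -/
theorem badAt_of_four_center (p : ℕ) (U H₁ H₂ : Subgroup K) (z a : K)
    (hUH1 : U ≤ H₁) (hUH2 : U ≤ H₂)
    (hlat : ∀ M : Subgroup K, U ≤ M → M = U ∨ M = H₁ ∨ M = H₂ ∨ M = ⊤)
    (hgen : H₁ ⊔ H₂ = ⊤)
    (hzU : z ∈ U) (hzc : ∀ u ∈ U, z * u = u * z)
    (hcen : ∀ t ∈ U, (∀ u ∈ U, t * u = u * t) → t = 1 ∨ t = z) (hz1 : z ≠ 1)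
    (hH2 : ∀ x ∈ H₂, z * x = x * z)
    (ha : a ∈ H₁) (hane : z * a ≠ a * z)
    (hH1top : H₁ ≠ ⊤) (hH2U : H₂ ≠ U) : BadAt p K U :=
  badAt_of_four_fixed p U H₁ H₂ z a hUH1 hUH2 hlat hgen
    (fun φ hφ => fixed_of_center U z hzU hzc hcen hz1 φ hφ) hzc hH2 ha hane hH1top hH2U

end Cfsg.Agent.Lib.H3.PMin
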