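import Mathlib
import Cfsg.Prelude.Def_LieTwisted
import Cfsg.Agent.Lib.H3.PMinDefs
import Cfsg.Agent.Lib.H3.PMinTransport
import Cfsg.Agent.Lib.H3.PMinFour
import Cfsg.Agent.Lib.H9.IRTITS
import Cfsg.Agent.Lib.H9.OGTITSc

/-!
# S2937, piece TITS (helper3): `PMinBad 2` for the Tits group `²F₄(2)'`

`Γ = ²F₄(2)`, `T = Γ'`, `S = U ∩ T` a Sylow `2`-subgroup of `T`.  By helper9's `overgroups_T` (+ `s_mem_of_cell`, `parab_le`) the
subgroups of `T` containing `S` are `S`, `P₁ ∩ T`, `P₂ ∩ T`, `T`; `Z(S) = ⟨z⟩` (`center_U`), `P₂ ∩ T` centralizes `z` and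
`a₁ = s₁c₀ ∈ P₁ ∩ T` does not; `badAt_of_four_center`.
-/

set_option autoImplicit false
set_option linter.unusedSectionVars false
set_option linter.unusedVariables false

namespace Cfsg.Agent.Lib.H3.PM

open Cfsg Cfsg.Lie Cfsg.Agent.Lib.H3.PMin Cfsg.Agent.Lib.H3.Tits Cfsg.Agent.Lib.H3.Tits2T Cfsg.Agent.Lib.H29.Chev
open Cfsg.Agent.Lib.H29 Cfsg.Agent.Lib.H2.BN Cfsg.Agent.Lib.H9.IR Cfsg.Agent.Lib.H9.OG

/-- the parabolic subgroup of a reflection -/
theorem PM_sG_true : sG true = s₁ := rfl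
theorem PM_sG_false : sG false = s₂ := rfl

/-- a subgroup between `U ∩ T` and `(B ⊔ ⟨s⟩) ∩ T` is one of the two -/
theorem between_tits (e : Bool) (M : Subgroup Γ) (hSM : Bor ⊓ T ≤ M) (hMT : M ≤ T)
    (hMP : M ≤ Bor ⊔ Subgroup.zpowers (sG e)) :
    M = Bor ⊓ T ∨ M = (Bor ⊔ Subgroup.zpowers (sG e)) ⊓ T := by
  by_cases hs : sG e ∈ M
  · right
    exact le_antisymm (le_inf hMP hMT) (parab_le M hSM hMT e hs)
  · left
    refine le_antisymm ?_ hSM
    intro g hg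
    refine ⟨?_, hMT hg⟩
    have hJ : ({sG e} : Set Γ) ⊆ P0.S := by
      rintro x hx
      rw [Set.mem_singleton_iff.mp hx]
      exact sG_mem_S e
    have hpar : g ∈ P0.parabolic {sG e} := by
      unfold BNPair.parabolic
      rw [← Subgroup.zpowers_eq_closure]
      exact hMP hg
    obtain ⟨n, hn, hgn⟩ := (mem_parabolic_iff hJ g).1 hpar
    obtain ⟨b, hb, b', hb', rfl⟩ := mem_C_iff.1 hgn
    rcases closure_single e n hn with rfl | rfl
    · rw [mul_one]
      exact Bor.mul_mem hb hb'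
    · exact absurd (s_mem_of_cell M hSM hMT e b b' hb hb' hg) hs

/-- transport of an equality of subgroups of `Γ` inside `T` to `↥T` -/
theorem eq_subgroupOf_of_map_eq (M : Subgroup ↥T) (Q : Subgroup Γ) (h : M.map T.subtype = Q ⊓ T) :
    M = Q.subgroupOf T := by
  ext x
  rw [Subgroup.mem_subgroupOf]
  constructor
  · intro hx
    have : (x : Γ) ∈ M.map T.subtype := ⟨x, hx, rfl⟩
    rw [h] at this
    exact this.1
  · intro hx
    have : (x : Γ) ∈ M.map T.subtype := by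
      rw [h]
      exact ⟨hx, x.2⟩
    obtain ⟨y, hy, hxy⟩ := this
    have : y = x := Subtype.ext hxy
    rwa [← this]

/-- the subgroups of `T` containing `U ∩ T` -/
theorem lattice_T (M : Subgroup ↥T) (hM : Bor.subgroupOf T ≤ M) :
    M = Bor.subgroupOf T ∨ M = P1.subgroupOf T ∨ M = P2.subgroupOf T ∨ M = ⊤ := by
  set M'' : Subgroup Γ := M.map T.subtype with hM''
  have hSM : Bor ⊓ T ≤ M'' := by
    rintro g ⟨hgB, hgT⟩
    exact ⟨⟨g, hgT⟩, hM (Subgroup.mem_subgroupOf.mpr hgB), rfl⟩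
  have hMT : M'' ≤ T := Subgroup.map_subtype_le _
  rcases overgroups_T M'' hSM hMT with h | h | h
  · rcases between_tits true M'' hSM hMT h with h' | h'
    · left; exact eq_subgroupOf_of_map_eq M Bor h'
    · right; left; exact eq_subgroupOf_of_map_eq M P1 h'
  · rcases between_tits false M'' hSM hMT h with h' | h'
    · left; exact eq_subgroupOf_of_map_eq M Bor h'
    · right; right; left; exact eq_subgroupOf_of_map_eq M P2 h'
  · right; right; right
    rw [eq_top_iff]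
    intro x _
    obtain ⟨y, hy, hxy⟩ := h x.2
    have : y = x := Subtype.ext hxy
    rwa [← this]

/-- an element of `B` of odd order is trivial -/
theorem eq_one_of_mem_Bor_of_pow (g : Γ) (hg : g ∈ Bor) (k : ℕ) (hk : g ^ (2 * k + 1) = 1) : g = 1 := by
  have h1 : orderOf g ∣ 2 ^ 12 := orderOf_dvd_of_pow_eq_one (Bor_pow g hg)
  have h2 : orderOf g ∣ 2 * k + 1 := orderOf_dvd_of_pow_eq_one hk
  have hc : Nat.Coprime (2 ^ 12) (2 * k + 1) := by
    apply Nat.Coprime.pow_left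
    rw [Nat.coprime_two_left]
    exact odd_two_mul_add_one k
  have := Nat.eq_one_of_dvd_coprimes hc h1 h2
  exact orderOf_eq_one_iff.mp this

/-- `BadAt` for helper3's model `T = [Γ, Γ]` at `U ∩ T` -/
theorem badAt_T : BadAt 2 ↥T (Bor.subgroupOf T) := by
  have hBP1 : Bor ≤ P1 := le_sup_left
  have hBP2 : Bor ≤ P2 := le_sup_left
  have hc0B := cG_mem_Bor 0 (by norm_num)
  have hc7B := cG_mem_Bor 7 (by norm_num)
  -- the elements `a₁ = s₁ c₀` and `a₂ = s₂ c₇²`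
  have ha1P : wΓ a1W ∈ P1 := by
    rw [a1_eq]
    exact P1.mul_mem (Subgroup.mem_sup_right (Subgroup.mem_zpowers _)) (hBP1 hc0B)
  have ha1T : wΓ a1W ∈ T := by
    rw [a1_eq]
    exact T.mul_mem s₁_mem_T (mem_T_of_par par_h.2.2)
  have ha2P : wΓ a2W ∈ P2 := by
    rw [a2_eq]
    exact P2.mul_mem (Subgroup.mem_sup_right (Subgroup.mem_zpowers _)) (hBP2 (Bor.mul_mem hc7B hc7B))
  have ha2T : wΓ a2W ∈ T := by
    rw [a2_eq, ← wΓ_append]
    exact T.mul_mem s₂_mem_T (yG_mem_T false)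
  have ha2B : wΓ a2W ∉ Bor := by
    intro h
    have h1 := eq_one_of_mem_Bor_of_pow _ h 2 a2_pow
    apply a2_ne
    rw [h1, one_mul, mul_one]
  refine badAt_of_four_center 2 (Bor.subgroupOf T) (P1.subgroupOf T) (P2.subgroupOf T) ⟨zΓ, zΓ_mem_T⟩
    ⟨wΓ a1W, ha1T⟩ (subgroupOf_mono' hBP1) (subgroupOf_mono' hBP2) lattice_T ?_ ?_ ?_ ?_ ?_ ?_ ?_ ?_ ?_ ?_
  · -- generation
    have h := P1_P2_gen
    have h1 : ((P1 ⊓ T) ⊔ (P2 ⊓ T)).subgroupOf T = ⊤ := by
      rw [h, Subgroup.subgroupOf_self]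
    rw [Subgroup.subgroupOf_sup inf_le_right inf_le_right, Subgroup.inf_subgroupOf_right,
      Subgroup.inf_subgroupOf_right] at h1
    exact h1
  · exact Subgroup.mem_subgroupOf.mpr zΓ_mem_Bor
  · intro u hu
    apply Subtype.ext
    rw [Subgroup.coe_mul, Subgroup.coe_mul]
    exact z_comm_P2 u.1 (hBP2 (Subgroup.mem_subgroupOf.mp hu))
  · -- the centre of `S`
    intro t ht htc
    have htB : t.1 ∈ Bor := Subgroup.mem_subgroupOf.mp ht
    have hu : t.1.1 ∈ Cfsg.Lie.chevF4.posUnipotent (ZMod 2) ⊓ G2 :=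
      Subgroup.mem_inf.mpr ⟨(mem_Bor_iff t.1).mp htB, t.1.2⟩
    have hc1 := cG_mem_Bor 1 (by norm_num)
    have hc5 := cG_mem_Bor 5 (by norm_num)
    have hcomm : ∀ w : List ℕ, par w = false → wΓ w ∈ Bor → t.1.1 * wordG w = wordG w * t.1.1 := by
      intro w hw hwB
      have h1 := htc ⟨wΓ w, mem_T_of_par hw⟩ (Subgroup.mem_subgroupOf.mpr hwB)
      have h2 := congrArg (fun x : ↥T => x.1.1) h1
      exact h2
    have h15 := hcomm (clsW 1 ++ clsW 5) par_h.1 (by rw [wΓ_append]; exact mul_mem hc1 hc5)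
    have h17 := hcomm (clsW 1 ++ clsW 7) par_h.2.1 (by rw [wΓ_append]; exact mul_mem hc1 hc7B)
    have h0 := hcomm (clsW 0) par_h.2.2 hc0B
    rcases center_U t.1.1 hu h15 h17 h0 with h1 | hz
    · left
      exact Subtype.ext (Subtype.ext h1)
    · right
      exact Subtype.ext (Subtype.ext hz)
  · intro h
    have h' : ((⟨zΓ, zΓ_mem_T⟩ : ↥T) : Γ) = ((1 : ↥T) : Γ) := congrArg Subtype.val h
    rw [Subgroup.coe_one] at h'
    exact q2_ne_one h'
  · intro x hx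
    apply Subtype.ext
    rw [Subgroup.coe_mul, Subgroup.coe_mul]
    exact z_comm_P2 x.1 (Subgroup.mem_subgroupOf.mp hx)
  · exact Subgroup.mem_subgroupOf.mpr ha1P
  · intro h
    apply a1_ne
    exact (congrArg Subtype.val h).symm
  · -- `P₁ ∩ T ≠ T`: else `Q_b` would be a normal subgroup of the simple group `T`
    intro htop
    have hsimple : IsSimpleGroup ↥T := T_simple
    have hQn : (Qb.subgroupOf T).Normal := by
      rw [← Subgroup.normalizer_eq_top_iff, eq_top_iff, ← htop]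
      exact subgroupOf_le_normalizer P1_le_normalizer
    rcases hQn.eq_bot_or_eq_top with hQ | hQ
    · have hz : (⟨zΓ, zΓ_mem_T⟩ : ↥T) ∈ Qb.subgroupOf T :=
        Subgroup.mem_subgroupOf.mpr (qW_mem_QI (by simp))
      rw [hQ, Subgroup.mem_bot] at hz
      have h' : ((⟨zΓ, zΓ_mem_T⟩ : ↥T) : Γ) = ((1 : ↥T) : Γ) := congrArg Subtype.val hz
      rw [Subgroup.coe_one] at h'
      exact q2_ne_one h'
    · have h2 : (⟨wΓ a2W, ha2T⟩ : ↥T) ∈ Qb.subgroupOf T := by rw [hQ]; exact Subgroup.mem_top _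
      have h3 : wΓ a2W ∈ Qb := (Subgroup.mem_subgroupOf (H := Qb) (K := T) (h := ⟨wΓ a2W, ha2T⟩)).mp h2
      exact ha2B (QI_le_Bor _ Ib5 h3)
  · -- `P₂ ∩ T ≠ U ∩ T`
    intro h
    have h2 : (⟨wΓ a2W, ha2T⟩ : ↥T) ∈ P2.subgroupOf T := Subgroup.mem_subgroupOf.mpr ha2P
    rw [h] at h2
    have h3 : wΓ a2W ∈ Bor := (Subgroup.mem_subgroupOf (H := Bor) (K := T) (h := ⟨wΓ a2W, ha2T⟩)).mp h2
    exact ha2B h3

/-- helper3's model `T = [Γ, Γ]` of the Tits group -/
theorem pm_T : PMinBad 2 ↥T := by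
  have : Fact (Nat.Prime 2) := ⟨Nat.prime_two⟩
  have hp : IsPGroup 2 (Bor.subgroupOf T) := Bor_pgroup.comap_subtype
  have hidx : ¬ 2 ∣ (Bor.subgroupOf T).index := by
    have e : (Bor.subgroupOf T).index = 8775 := Bor_relIndex_T
    rw [e]
    decide
  apply pminBad_of_one 2 (hp.toSylow hidx)
  rw [IsPGroup.toSylow_coe]
  exact badAt_T

/-- TITS (p = 2) -/
theorem pm_Tits : PMinBad 2 Lie.TitsGroup := pm_T

end Cfsg.Agent.Lib.H3.PM
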