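import Mathlib
import Cfsg.Agent.Lib.H3.PMinDefs

set_option autoImplicit false

namespace Cfsg.Agent.Lib.H3.PMin

open Subgroup

section core

variable {X : Type*} [Group X] [Finite X] {p : ℕ} [Fact p.Prime]

/-- a Sylow `p`-subgroup `S` of `X` over `U ∈ Syl_p(K)`, `K ⊴ X`: `S ∩ K = U` and `S ≤ N_X(U)` -/
theorem exists_sylow_over (K : Subgroup X) [K.Normal] (U : Sylow p K) :
    ∃ S : Sylow p X, (U : Subgroup K).map K.subtype ≤ (S : Subgroup X) ∧
      (∀ x ∈ (S : Subgroup X), x ∈ K → x ∈ (U : Subgroup K).map K.subtype) ∧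
      (S : Subgroup X) ≤ normalizer (((U : Subgroup K).map K.subtype : Subgroup X) : Set X) := by
  obtain ⟨S, hS⟩ := (U.isPGroup'.map K.subtype).exists_le_sylow
  have h2 : ∀ x ∈ (S : Subgroup X), x ∈ K → x ∈ (U : Subgroup K).map K.subtype := by
    intro x hxS hxK
    have hp : IsPGroup p ↥((S : Subgroup X).comap K.subtype) := S.isPGroup'.comap_subtype
    have hle : (U : Subgroup K) ≤ (S : Subgroup X).comap K.subtype := by
      intro y hy
      exact hS ⟨y, hy, rfl⟩
    have heq := U.is_maximal' hp hle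
    have : (⟨x, hxK⟩ : K) ∈ (S : Subgroup X).comap K.subtype := hxS
    rw [heq] at this
    exact ⟨⟨x, hxK⟩, this, rfl⟩
  refine ⟨S, hS, h2, ?_⟩
  intro s hs
  have key : ∀ t ∈ (S : Subgroup X), ∀ h ∈ (U : Subgroup K).map K.subtype,
      t * h * t⁻¹ ∈ (U : Subgroup K).map K.subtype := by
    intro t ht h hh
    apply h2
    · exact mul_mem (mul_mem ht (hS hh)) (inv_mem ht)
    · obtain ⟨y, _, rfl⟩ := hh
      exact (inferInstance : K.Normal).conj_mem _ y.2 t
  rw [mem_normalizer_iff]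
  intro h
  constructor
  · exact key s hs h
  · intro hh
    have := key s⁻¹ (inv_mem hs) _ hh
    simpa [mul_assoc] using this

/-- in a finite group every proper subgroup over `S` lies in the unique maximal subgroup over `S` -/
theorem le_of_unique_coatom {S M : Subgroup X} (hM : IsCoatom M ∧ S ≤ M)
    (huniq : ∀ M' : Subgroup X, IsCoatom M' ∧ S ≤ M' → M' = M) {Y : Subgroup X} (hSY : S ≤ Y) (hY : Y ≠ ⊤) :
    Y ≤ M := by
  rcases eq_top_or_exists_le_coatom Y with h | ⟨M', hM', hYM'⟩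
  · exact absurd h hY
  · rw [← huniq M' ⟨hM', hSY.trans hYM'⟩]
    exact hYM'

/-- `N_X(U) ≠ X` if `N_K(U) ≠ K` -/
theorem normalizer_map_ne_top (K : Subgroup X) (U : Subgroup K)
    (h : normalizer ((U : Subgroup K) : Set K) ≠ ⊤) :
    normalizer (((U : Subgroup K).map K.subtype : Subgroup X) : Set X) ≠ ⊤ := by
  intro htop
  apply h
  rw [eq_top_iff]
  intro k _
  have hk : (k : X) ∈ normalizer (((U : Subgroup K).map K.subtype : Subgroup X) : Set X) := by
    rw [htop]; trivial
  rw [mem_normalizer_iff] at hk ⊢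
  intro h
  have := hk (h : X)
  constructor
  · intro hh
    obtain ⟨y, hy, hyx⟩ := this.mp ⟨h, hh, rfl⟩
    have : y = k * h * k⁻¹ := Subtype.ext (by simpa using hyx)
    rwa [← this]
  · intro hh
    obtain ⟨y, hy, hyx⟩ := this.mpr ⟨k * h * k⁻¹, hh, by simp⟩
    have : y = h := Subtype.ext (by simpa using hyx)
    rwa [← this]

end core

end Cfsg.Agent.Lib.H3.PMin
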