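import Mathlib
import Cfsg.Agent.Lib.H3.PMinDefs
import Cfsg.Agent.Lib.H3.PMinCoreA

set_option autoImplicit false

namespace Cfsg.Agent.Lib.H3.PMin

open Subgroup

section core

variable {X : Type*} [Group X] [Finite X] {p : ℕ} [Fact p.Prime]

/-- `H ≤ K` is invariant under conjugation by the elements of `S` -/
def SInv (K : Subgroup X) [K.Normal] (S : Subgroup X) (H : Subgroup K) : Prop :=
  ∀ s ∈ S, ∀ x ∈ H, MulAut.conjNormal s x ∈ H

theorem SInv.map_eq {K : Subgroup X} [K.Normal] {S : Subgroup X} {H : Subgroup K} (h : SInv K S H)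
    {s : X} (hs : s ∈ S) : H.map (MulEquiv.toMonoidHom (MulAut.conjNormal s : MulAut K)) = H := by
  apply le_antisymm
  · rintro _ ⟨x, hx, rfl⟩
    exact h s hs x hx
  · intro x hx
    refine ⟨MulAut.conjNormal s⁻¹ x, h s⁻¹ (inv_mem hs) x hx, ?_⟩
    show (MulAut.conjNormal s) ((MulAut.conjNormal s⁻¹) x) = x
    rw [← MulAut.mul_apply, ← map_mul, mul_inv_cancel, map_one, MulAut.one_apply]

theorem sInv_of_map_eq {K : Subgroup X} [K.Normal] {S : Subgroup X} {H : Subgroup K}
    (h : ∀ s ∈ S, H.map (MulEquiv.toMonoidHom (MulAut.conjNormal s : MulAut K)) = H) : SInv K S H := by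
  intro s hs x hx
  rw [← h s hs]
  exact ⟨x, hx, rfl⟩

/-- the engine: two proper `S`-invariant subgroups of `K` over `U` cannot generate `K` -/
theorem engine (K : Subgroup X) [K.Normal] (U : Sylow p K) (S : Sylow p X)
    (hSK : ∀ x ∈ (S : Subgroup X), x ∈ K → x ∈ (U : Subgroup K).map K.subtype)
    (hSN : (S : Subgroup X) ≤ normalizer (((U : Subgroup K).map K.subtype : Subgroup X) : Set X))
    (M : Subgroup X) (hM : IsCoatom M ∧ (S : Subgroup X) ≤ M)
    (huniq : ∀ M' : Subgroup X, IsCoatom M' ∧ (S : Subgroup X) ≤ M' → M' = M)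
    (hn : normalizer ((U : Subgroup K) : Set K) ≠ ⊤)
    (H₁ H₂ : Subgroup K) (h1 : (U : Subgroup K) ≤ H₁) (h2 : (U : Subgroup K) ≤ H₂) (h3 : H₁ ≠ ⊤) (h4 : H₂ ≠ ⊤)
    (h5 : H₁ ⊔ H₂ = ⊤) (hi1 : SInv K (S : Subgroup X) H₁) (hi2 : SInv K (S : Subgroup X) H₂) : False := by
  have key : ∀ H : Subgroup K, (U : Subgroup K) ≤ H → H ≠ ⊤ → SInv K (S : Subgroup X) H →
      H.map K.subtype ≤ M := by
    intro H hUH hH hinv
    have hnorm : (S : Subgroup X) ≤ normalizer ((H.map K.subtype : Subgroup X) : Set X) := by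
      intro s hs
      have half : ∀ t ∈ (S : Subgroup X), ∀ h ∈ H.map K.subtype, t * h * t⁻¹ ∈ H.map K.subtype := by
        rintro t ht _ ⟨x, hx, rfl⟩
        exact ⟨MulAut.conjNormal t x, hinv t ht x hx, by simp [MulAut.conjNormal_apply]⟩
      rw [mem_normalizer_iff]
      intro h
      constructor
      · exact half s hs h
      · intro hh
        have := half s⁻¹ (inv_mem hs) _ hh
        simpa [mul_assoc] using this
    have hY : H.map K.subtype ⊔ (S : Subgroup X) ≠ ⊤ := by
      intro htop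
      apply hH
      rw [eq_top_iff]
      intro k _
      have hk : (k : X) ∈ ((H.map K.subtype ⊔ (S : Subgroup X) : Subgroup X) : Set X) := by
        rw [htop]; trivial
      rw [coe_mul_of_right_le_normalizer_left _ _ hnorm] at hk
      obtain ⟨h, hh, s, hs, hhs⟩ := hk
      obtain ⟨x, hx, rfl⟩ := hh
      have hsK : s ∈ K := by
        have : s = (x : X)⁻¹ * k := by rw [← hhs]; simp
        rw [this]
        exact mul_mem (inv_mem x.2) k.2
      obtain ⟨u, hu, hus⟩ := hSK s hs hsK
      have : k = x * u := Subtype.ext (by rw [← hhs, ← hus]; rfl)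
      rw [this]
      exact mul_mem hx (hUH hu)
    exact le_sup_left.trans (le_of_unique_coatom hM huniq le_sup_right hY)
  have hK : K ≤ M := by
    have h6 : (H₁ ⊔ H₂).map K.subtype ≤ M := by
      rw [Subgroup.map_sup]
      exact sup_le (key H₁ h1 h3 hi1) (key H₂ h2 h4 hi2)
    rw [h5, ← MonoidHom.range_eq_map, Subgroup.range_subtype] at h6
    exact h6
  have hN : normalizer (((U : Subgroup K).map K.subtype : Subgroup X) : Set X) ≤ M :=
    le_of_unique_coatom hM huniq hSN (normalizer_map_ne_top K U hn)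
  have hF := Sylow.normalizer_sup_eq_top U
  have : (⊤ : Subgroup X) ≤ M := by
    rw [← hF]
    exact sup_le hN hK
  exact hM.1.1 (top_le_iff.mp this)

/-- `U` is stabilized by the conjugations by elements of `S ≤ N_X(U)` -/
theorem map_conjNormal_eq (K : Subgroup X) [K.Normal] (U : Subgroup K) {s : X}
    (hs : s ∈ normalizer ((U.map K.subtype : Subgroup X) : Set X)) :
    U.map (MulEquiv.toMonoidHom (MulAut.conjNormal s : MulAut K)) = U := by
  have half : ∀ t ∈ normalizer ((U.map K.subtype : Subgroup X) : Set X), ∀ x ∈ U,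
      (MulAut.conjNormal t : MulAut K) x ∈ U := by
    intro t ht x hx
    obtain ⟨y, hy, hyx⟩ := (mem_normalizer_iff.mp ht (x : X)).mp ⟨x, hx, rfl⟩
    have : y = (MulAut.conjNormal t : MulAut K) x := Subtype.ext (by rw [MulAut.conjNormal_apply]; exact hyx)
    rwa [← this]
  apply le_antisymm
  · rintro _ ⟨x, hx, rfl⟩
    exact half s hs x hx
  · intro x hx
    refine ⟨(MulAut.conjNormal s⁻¹ : MulAut K) x, half s⁻¹ (inv_mem hs) x hx, ?_⟩
    show (MulAut.conjNormal s) ((MulAut.conjNormal s⁻¹) x) = x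
    rw [← MulAut.mul_apply, ← map_mul, mul_inv_cancel, map_one, MulAut.one_apply]

/-- **the excluded groups**: `PMinBad p K` is incompatible with `p`-minimality of `X ⊵ K` -/
theorem core_bad (hX : Cfsg.IsPMinimal p X) (K : Subgroup X) [K.Normal] (hbad : PMinBad p K) : False := by
  obtain ⟨U⟩ : Nonempty (Sylow p K) := inferInstance
  obtain ⟨S, hUS, hSK, hSN⟩ := exists_sylow_over K U
  obtain ⟨_, M, hM, huniq⟩ := hX S
  set A : Subgroup (MulAut K) := (S : Subgroup X).map (MulAut.conjNormal (H := K)) with hA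
  have hAp : IsPGroup p A := S.isPGroup'.map _
  have hfix : ∀ φ ∈ A, (U : Subgroup K).map (MulEquiv.toMonoidHom φ) = (U : Subgroup K) := by
    rintro _ ⟨s, hs, rfl⟩
    exact map_conjNormal_eq K (U : Subgroup K) (hSN hs)
  obtain ⟨hn, H₁, H₂, h1, h2, h3, h4, h5, h6⟩ := hbad U A hAp hfix
  exact engine K U S hSK hSN M hM huniq hn H₁ H₂ h1 h2 h3 h4 h5
    (sInv_of_map_eq fun s hs => (h6 _ ⟨s, hs, rfl⟩).1) (sInv_of_map_eq fun s hs => (h6 _ ⟨s, hs, rfl⟩).2)

/-- `N_K(U)` maps into `N_X(U)` -/
theorem normalizer_map_le (K : Subgroup X) (U : Subgroup K) :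
    (normalizer (U : Set K)).map K.subtype ≤ normalizer ((U.map K.subtype : Subgroup X) : Set X) :=
  Subgroup.le_normalizer_map K.subtype

/-- if `Y ≥ N_X(U)` meets `K` in `N_K(U)` then `Y = N_X(U)` -/
theorem le_normalizer_of_comap_le (K : Subgroup X) [K.Normal] (U : Sylow p K) (Y : Subgroup X)
    (hNY : normalizer (((U : Subgroup K).map K.subtype : Subgroup X) : Set X) ≤ Y)
    (hY : Y.comap K.subtype ≤ normalizer ((U : Subgroup K) : Set K)) :
    Y ≤ normalizer (((U : Subgroup K).map K.subtype : Subgroup X) : Set X) := by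
  intro y hy
  have hF := Sylow.normalizer_sup_eq_top U
  have hy' : y ∈ ((normalizer (((U : Subgroup K).map K.subtype : Subgroup X) : Set X) ⊔ K : Subgroup X) : Set X) := by
    rw [hF]; trivial
  rw [mul_normal] at hy'
  obtain ⟨n, hn, k, hk, rfl⟩ := hy'
  have hkY : k ∈ Y := by
    have : k = n⁻¹ * (n * k) := by simp
    rw [this]
    exact mul_mem (inv_mem (hNY hn)) hy
  have : (⟨k, hk⟩ : K) ∈ normalizer ((U : Subgroup K) : Set K) := hY hkY
  exact mul_mem hn (normalizer_map_le K (U : Subgroup K) ⟨⟨k, hk⟩, this, rfl⟩)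

/-- if `Y ≥ N_X(U)` contains `K` then `Y = X` -/
theorem eq_top_of_comap_eq_top (K : Subgroup X) [K.Normal] (U : Sylow p K) (Y : Subgroup X)
    (hNY : normalizer (((U : Subgroup K).map K.subtype : Subgroup X) : Set X) ≤ Y)
    (hY : Y.comap K.subtype = ⊤) : Y = ⊤ := by
  have hF := Sylow.normalizer_sup_eq_top U
  rw [eq_top_iff, ← hF]
  refine sup_le hNY ?_
  intro k hk
  have : (⟨k, hk⟩ : K) ∈ Y.comap K.subtype := by rw [hY]; trivial
  exact this

/-- **rank one**: `N_X(U)` is a maximal subgroup of `X` -/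
theorem core_r1 (K : Subgroup X) [K.Normal] (U : Sylow p K) (h : PMinR1 p K) :
    IsCoatom (normalizer (((U : Subgroup K).map K.subtype : Subgroup X) : Set X)) := by
  have hU := h U
  refine ⟨normalizer_map_ne_top K U hU.1, ?_⟩
  intro Y hY
  by_contra hYt
  have hNY := hY.le
  have h1 : normalizer ((U : Subgroup K) : Set K) ≤ Y.comap K.subtype := by
    intro k hk
    exact hNY (normalizer_map_le K (U : Subgroup K) ⟨k, hk, rfl⟩)
  rcases eq_or_lt_of_le h1 with h2 | h2
  · exact hY.not_ge (le_normalizer_of_comap_le K U Y hNY h2.symm.le)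
  · exact hYt (eq_top_of_comap_eq_top K U Y hNY (hU.2 _ h2))

/-- **rank two**: `N_X(U)` is a maximal subgroup of `X`, and `K ≠ X` -/
theorem core_r2 (hX : Cfsg.IsPMinimal p X) (K : Subgroup X) [K.Normal] (U : Sylow p K) (h : PMinR2 p K) :
    IsCoatom (normalizer (((U : Subgroup K).map K.subtype : Subgroup X) : Set X)) ∧ K ≠ ⊤ := by
  obtain ⟨S, hUS, hSK, hSN⟩ := exists_sylow_over K U
  obtain ⟨_, M, hM, huniq⟩ := hX S
  obtain ⟨H₁, H₂, h1, h2, h3, h4, h5, h6, h7⟩ := h U
  set NK := normalizer ((U : Subgroup K) : Set K) with hNK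
  have hn : NK ≠ ⊤ := fun h => h3 (top_le_iff.mp (h ▸ h1))
  have hUN : (U : Subgroup K) ≤ NK := le_normalizer
  -- `N_K(U)` is stabilized by `S`
  have hNKinv : ∀ s ∈ (S : Subgroup X),
      NK.map (MulEquiv.toMonoidHom (MulAut.conjNormal s : MulAut K)) = NK := by
    intro s hs
    rw [hNK, Subgroup.map_equiv_normalizer_eq, map_conjNormal_eq K (U : Subgroup K) (hSN hs)]
  -- an `S`-invariant one among `H₁`, `H₂` is impossible
  have main : ∀ Ha Hb : Subgroup K, NK ≤ Ha → NK ≤ Hb → Ha ≠ ⊤ → Hb ≠ ⊤ → ¬ Ha ≤ Hb → ¬ Hb ≤ Ha →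
      (∀ H : Subgroup K, NK ≤ H → H = NK ∨ H = Ha ∨ H = Hb ∨ H = ⊤) →
      SInv K (S : Subgroup X) Ha → False := by
    intro Ha Hb ha hb hat hbt hab hba hall hinv
    have hinvb : SInv K (S : Subgroup X) Hb := by
      apply sInv_of_map_eq
      intro s hs
      set φ := MulEquiv.toMonoidHom (MulAut.conjNormal s : MulAut K) with hφ
      have hinj : Function.Injective φ := (MulAut.conjNormal s : MulAut K).injective
      have hle : NK ≤ Hb.map φ := by
        rw [← hNKinv s hs]
        exact Subgroup.map_mono hb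
      rcases hall _ hle with h | h | h | h
      · exfalso
        apply hba
        have : Hb.map φ = NK.map φ := by rw [h, hNKinv s hs]
        have := Subgroup.map_injective hinj this
        rw [this]
        exact ha
      · exfalso
        apply hba
        have : Hb.map φ = Ha.map φ := by rw [h, hinv.map_eq hs]
        have := Subgroup.map_injective hinj this
        rw [this]
      · exact h
      · exfalso
        apply hbt
        have : Hb.map φ = (⊤ : Subgroup K).map φ := by
          rw [h, ← MonoidHom.range_eq_map]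
          exact (MonoidHom.range_eq_top.mpr (MulAut.conjNormal s : MulAut K).surjective).symm
        exact Subgroup.map_injective hinj this
    have hsup : Ha ⊔ Hb = ⊤ := by
      rcases hall (Ha ⊔ Hb) (ha.trans le_sup_left) with h | h | h | h
      · exact absurd ((le_sup_left.trans h.le).trans hb) hab
      · exact absurd (le_sup_right.trans h.le) hba
      · exact absurd (le_sup_left.trans h.le) hab
      · exact h
    exact engine K U S hSK hSN M hM huniq hn Ha Hb (hUN.trans ha) (hUN.trans hb) hat hbt hsup hinv hinvb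
  have hall' : ∀ H : Subgroup K, NK ≤ H → H = NK ∨ H = H₂ ∨ H = H₁ ∨ H = ⊤ := by
    intro H hH
    rcases h7 H hH with h | h | h | h
    · exact Or.inl h
    · exact Or.inr (Or.inr (Or.inl h))
    · exact Or.inr (Or.inl h)
    · exact Or.inr (Or.inr (Or.inr h))
  refine ⟨⟨normalizer_map_ne_top K U hn, ?_⟩, ?_⟩
  · intro Y hY
    by_contra hYt
    have hNY := hY.le
    have hle : NK ≤ Y.comap K.subtype := by
      intro k hk
      exact hNY (normalizer_map_le K (U : Subgroup K) ⟨k, hk, rfl⟩)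
    have hYinv : SInv K (S : Subgroup X) (Y.comap K.subtype) := by
      intro s hs x hx
      show ((MulAut.conjNormal s : MulAut K) x : X) ∈ Y
      rw [MulAut.conjNormal_apply]
      have hsY : s ∈ Y := hNY (hSN hs)
      exact mul_mem (mul_mem hsY hx) (inv_mem hsY)
    rcases h7 _ hle with h | h | h | h
    · exact hY.not_ge (le_normalizer_of_comap_le K U Y hNY h.le)
    · exact main H₁ H₂ h1 h2 h3 h4 h5 h6 h7 (h ▸ hYinv)
    · exact main H₂ H₁ h2 h1 h4 h3 h6 h5 hall' (h ▸ hYinv)
    · exact hYt (eq_top_of_comap_eq_top K U Y hNY h)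
  · intro hK
    apply main H₁ H₂ h1 h2 h3 h4 h5 h6 h7
    intro s hs x hx
    have hsK : s ∈ K := by rw [hK]; trivial
    obtain ⟨u, hu, hus⟩ := hSK s hs hsK
    have : (MulAut.conjNormal s : MulAut K) x = u * x * u⁻¹ := by
      apply Subtype.ext
      rw [MulAut.conjNormal_apply, ← hus]
      rfl
    rw [this]
    have huH : u ∈ H₁ := h1 (hUN hu)
    exact mul_mem (mul_mem huH hx) (inv_mem huH)

end core

end Cfsg.Agent.Lib.H3.PMin
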