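import Mathlib
import Cfsg.Prelude.Def_LieTypeChar
import Cfsg.Prelude.Def_EvenType
import Cfsg.Prelude.Def_AlmostLie
import Cfsg.Prelude.Def_LocalEven
import Cfsg.Agent.Lib.H3.PMinBN
import Cfsg.Agent.Lib.H9.Basic
import Cfsg.Agent.Lib.H1.PMOMINUS
import Cfsg.Agent.Lib.H1.PMOPLUS
import Cfsg.Agent.Lib.H1.PMPSP
import Cfsg.Agent.Lib.H11.PMOODD
import Cfsg.Agent.Lib.H13.PMEXC
import Cfsg.Agent.Lib.H15.PMPSL28
import Cfsg.Agent.Lib.H18.PMPSL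
import Cfsg.Agent.Lib.H18.PMU33
import Cfsg.Agent.Lib.H22.PMG2
import Cfsg.Agent.Lib.H22.PMTD4
import Cfsg.Agent.Lib.H22.PMTF4
import Cfsg.Agent.Lib.H24.PMA6
import Cfsg.Agent.Lib.H28.PMPSU3
import Cfsg.Agent.Lib.H28.PMTE6
import Cfsg.Agent.Lib.H3.PMTITS
import Cfsg.Agent.Lib.H4.PMREE
import Cfsg.Agent.Lib.H4.PMSZ
import Cfsg.Agent.Lib.H8.PMPSU

/-!
# S2937 (helper3): the families: every `IsChevSimple p K` is Lie rank one with maximal Sylow normalizers, or one of the listed rank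
two groups with the rank two overgroup lattice, or `PMinBad`

Pieces by helper1, helper4, helper7, helper8, helper11, helper13, helper15, helper18, helper22, helper24, helper28 (see
`tools/blueprints/S2937.md`).
-/

set_option autoImplicit false

namespace Cfsg.Agent.Lib.H3.PM

open Cfsg Cfsg.Agent.Lib.H3.PMin

/-! ## MAIN -/

/-- the rank two groups of the conclusion of S2937 -/
def Listed (K : Type*) [Group K] : Prop :=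
  (∃ (F : Type) (_ : Field F) (_ : Fintype F) (_ : CharP F 2),
      Nonempty (K ≃* Matrix.ProjectiveSpecialLinearGroup (Fin 3) F)) ∨
    (∃ (F : Type) (_ : Field F) (_ : Fintype F) (_ : CharP F 2), 4 ≤ Fintype.card F ∧ Nonempty (K ≃* Cfsg.PSp 2 F)) ∨
    Nonempty (K ≃* ↥(alternatingGroup (Fin 6)))

/-- what the families give -/
def PMGood (p : ℕ) (K : Type*) [Group K] : Prop :=
  (PMinR1 p K ∧ IsLieRankOneChar p K) ∨ (PMinR2 p K ∧ p = 2 ∧ Listed K) ∨ PMinBad p K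

theorem two_le_card_of_charP_two (F : Type) [Field F] [Fintype F] [CharP F 2] (h3 : 3 ≤ Fintype.card F) :
    4 ≤ Fintype.card F := by
  by_contra hlt
  have h3' : Fintype.card F = 3 := by omega
  have hdvd : 2 ∣ Fintype.card F := by
    obtain ⟨n, hprime, hn⟩ := FiniteField.card F 2
    rw [hn]
    exact dvd_pow_self 2 n.ne_zero
  omega

theorem pmGood_of_isLieTypeChar {G : Type*} [Group G] (p : ℕ) [Fact p.Prime] (hG : IsLieTypeChar p G) :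
    PMGood p G := by
  rcases hG with h | h | h | h | h | h | h | h | h | h | h
  · -- PSL
    obtain ⟨F, _, _, _, n, hn, h2, ⟨e⟩⟩ := h
    by_cases hn2 : n = 2
    · subst hn2
      exact Or.inl ⟨PMinR1.of_mulEquiv p e.symm (Cfsg.Agent.Lib.H18.PM.pm_PSL2 F p (h2 rfl)),
        Or.inl ⟨F, inferInstance, inferInstance, inferInstance, h2 rfl, ⟨e⟩⟩⟩
    · by_cases h32 : n = 3 ∧ p = 2
      · obtain ⟨rfl, rfl⟩ := h32
        exact Or.inr (Or.inl ⟨PMinR2.of_mulEquiv 2 e.symm (Cfsg.Agent.Lib.H18.PM.pm_PSL3_two F), rfl,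
          Or.inl ⟨F, inferInstance, inferInstance, inferInstance, ⟨e⟩⟩⟩)
      · exact Or.inr (Or.inr (PMinBad.of_mulEquiv p e.symm (Cfsg.Agent.Lib.H18.PM.pm_PSL F p n (by omega) h32)))
  · -- PSp
    obtain ⟨F, _, _, _, m, hm, h2, ⟨e⟩⟩ := h
    by_cases h22 : m = 2 ∧ p = 2
    · obtain ⟨rfl, rfl⟩ := h22
      have h4 : 4 ≤ Fintype.card F := two_le_card_of_charP_two F (h2 rfl)
      exact Or.inr (Or.inl ⟨PMinR2.of_mulEquiv 2 e.symm (Cfsg.Agent.Lib.H1.PM.pm_PSp4_two F h4), rfl,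
        Or.inr (Or.inl ⟨F, inferInstance, inferInstance, inferInstance, h4, ⟨e⟩⟩)⟩)
    · exact Or.inr (Or.inr (PMinBad.of_mulEquiv p e.symm (Cfsg.Agent.Lib.H1.PM.pm_PSp F p m hm h2 h22)))
  · -- PSU
    obtain ⟨F, _, _, _, n, q, hF, hn, h32, ⟨e⟩⟩ := h
    by_cases hn3 : n = 3
    · subst hn3
      have hq : q ≠ 2 := fun hq => h32 ⟨rfl, hq⟩
      exact Or.inl ⟨PMinR1.of_mulEquiv p e.symm (Cfsg.Agent.Lib.H28.PM.pm_PSU3 F p q hF hq),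
        Or.inr (Or.inl ⟨F, inferInstance, inferInstance, inferInstance, q, hF, hq, ⟨e⟩⟩)⟩
    · exact Or.inr (Or.inr (PMinBad.of_mulEquiv p e.symm (Cfsg.Agent.Lib.H8.PM.pm_PSU F p n q hF (by omega))))
  · obtain ⟨F, _, _, _, m, hm, hodd, ⟨e⟩⟩ := h
    exact Or.inr (Or.inr (PMinBad.of_mulEquiv p e.symm (Cfsg.Agent.Lib.H11.PM.pm_POmegaOdd F p m hm hodd)))
  · obtain ⟨F, _, _, _, m, hm, ⟨e⟩⟩ := h
    exact Or.inr (Or.inr (PMinBad.of_mulEquiv p e.symm (Cfsg.Agent.Lib.H1.PM.pm_POmegaPlus F p m hm)))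
  · obtain ⟨F, _, _, _, m, a, b, hm, hab, ⟨e⟩⟩ := h
    exact Or.inr (Or.inr (PMinBad.of_mulEquiv p e.symm (Cfsg.Agent.Lib.H1.PM.pm_POmegaMinus F p (m - 1) (by omega) a b hab)))
  · obtain ⟨F, _, _, _, h⟩ := h
    rcases h with ⟨h3, ⟨e⟩⟩ | ⟨⟨e⟩⟩ | ⟨⟨e⟩⟩ | ⟨⟨e⟩⟩ | ⟨⟨e⟩⟩
    · exact Or.inr (Or.inr (PMinBad.of_mulEquiv p e.symm (Cfsg.Agent.Lib.H22.PM.pm_G2 F p h3)))
    · exact Or.inr (Or.inr (PMinBad.of_mulEquiv p e.symm (Cfsg.Agent.Lib.H13.PM.pm_chev F p Lie.chevF4 (by simp))))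
    · exact Or.inr (Or.inr (PMinBad.of_mulEquiv p e.symm (Cfsg.Agent.Lib.H13.PM.pm_chev F p Lie.chevE6 (by simp))))
    · exact Or.inr (Or.inr (PMinBad.of_mulEquiv p e.symm (Cfsg.Agent.Lib.H13.PM.pm_chev F p Lie.chevE7 (by simp))))
    · exact Or.inr (Or.inr (PMinBad.of_mulEquiv p e.symm (Cfsg.Agent.Lib.H13.PM.pm_chev F p Lie.chevE8 (by simp))))
  · obtain ⟨K, _, _, _, q, hq, h⟩ := h
    rcases h with ⟨hK, ⟨e⟩⟩ | ⟨hK, ⟨e⟩⟩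
    · exact Or.inr (Or.inr (PMinBad.of_mulEquiv p e.symm (Cfsg.Agent.Lib.H28.PM.pm_2E6 K p q hq hK)))
    · exact Or.inr (Or.inr (PMinBad.of_mulEquiv p e.symm (Cfsg.Agent.Lib.H22.PM.pm_3D4 K p q hq hK)))
  · -- Suzuki
    have h' := h
    obtain ⟨rfl, F, _, _, m, hm, hF, ⟨e⟩⟩ := h
    exact Or.inl ⟨PMinR1.of_mulEquiv 2 e.symm (Cfsg.Agent.Lib.H4.PM.pm_Sz F m hm hF), Or.inr (Or.inr (Or.inl ⟨rfl, h'.2⟩))⟩
  · obtain ⟨rfl, K, _, _, m, hm, hK, ⟨e⟩⟩ := h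
    exact Or.inr (Or.inr (PMinBad.of_mulEquiv 2 e.symm (Cfsg.Agent.Lib.H22.PM.pm_2F4 K m hm hK)))
  · -- Ree
    have h' := h
    obtain ⟨rfl, K, _, _, m, hm, hK, ⟨e⟩⟩ := h
    exact Or.inl ⟨PMinR1.of_mulEquiv 3 e.symm (Cfsg.Agent.Lib.H4.PM.pm_Ree K m hm hK),
      Or.inr (Or.inr (Or.inr ⟨rfl, Or.inl h'.2⟩))⟩

theorem pmGood_of_isChevSimple {K : Type*} [Group K] (p : ℕ) [Fact p.Prime] (hK : IsChevSimple p K) :
    PMGood p K := by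
  rcases hK with h | ⟨rfl, h | h | h⟩ | ⟨rfl, h⟩
  · exact pmGood_of_isLieTypeChar p h
  · obtain ⟨e⟩ := h
    exact Or.inr (Or.inl ⟨PMinR2.of_mulEquiv 2 e.symm Cfsg.Agent.Lib.H24.PM.pm_A6, rfl, Or.inr (Or.inr ⟨e⟩)⟩)
  · obtain ⟨F, _, _, hF, ⟨e⟩⟩ := h
    exact Or.inr (Or.inr (PMinBad.of_mulEquiv 2 e.symm (Cfsg.Agent.Lib.H18.PM.pm_PSU33 F hF)))
  · obtain ⟨e⟩ := h
    exact Or.inr (Or.inr (@PMinBad.of_mulEquiv Lie.TitsGroup K inferInstance _ 2 _ e.symm Cfsg.Agent.Lib.H3.PM.pm_Tits))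
  · obtain ⟨F, _, _, hF, ⟨e⟩⟩ := h
    exact Or.inl ⟨PMinR1.of_mulEquiv 3 e.symm (Cfsg.Agent.Lib.H15.PM.pm_PSL28 F hF),
      Or.inr (Or.inr (Or.inr ⟨rfl, Or.inr ⟨F, inferInstance, inferInstance, hF, ⟨e⟩⟩⟩))⟩

end Cfsg.Agent.Lib.H3.PM
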