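import Cfsg.Agent.Lib.H3.HallSystem3
import Cfsg.Agent.Lib.H3.CoverAvoid
import Cfsg.Agent.Lib.H3.Supersolvable3
import Cfsg.Agent.S0549
import Mathlib

/-!
helper3 library: in a finite solvable group all core-free maximal subgroups are conjugate.
-/

set_option autoImplicit false
open scoped Pointwise

namespace Cfsg.Agent.Lib.H3

variable {G : Type*} [Group G]

/-- Two subgroups of the same order `m` inside a solvable subgroup `M` of order `m * n` with
`m`, `n` coprime are conjugate by an element of `M`. -/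
theorem hall_conj_in_subgroup' [Finite G] {m n : ℕ} (M X L : Subgroup G) [Group.IsSolvable M]
    (hM : Nat.card M = m * n) (hmn : m.Coprime n) (hXM : X ≤ M) (hLM : L ≤ M)
    (hX : Nat.card X = m) (hL : Nat.card L = m) :
    ∃ y ∈ M, MulAut.conj y • X = L := by
  have hX' : Nat.card (X.subgroupOf M) = m := by rw [card_subgroupOf_of_le hXM, hX]
  have hL' : Nat.card (L.subgroupOf M) = m := by rw [card_subgroupOf_of_le hLM, hL]
  obtain ⟨g, hg⟩ := Cfsg.Agent.Lib.H1.hall_conj hM hmn (X.subgroupOf M) (L.subgroupOf M) hX' hL'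
  refine ⟨g, g.2, ?_⟩
  have := congrArg (Subgroup.map M.subtype) hg
  rwa [conj_smul_map_subtype, Subgroup.map_subgroupOf_eq_of_le hXM,
    Subgroup.map_subgroupOf_eq_of_le hLM] at this

theorem isComplement'_of_normal_of_inf_of_sup (X U : Subgroup G) [X.Normal] (h1 : X ⊓ U = ⊥)
    (h2 : X ⊔ U = ⊤) : Subgroup.IsComplement' X U := by
  apply Subgroup.isComplement'_of_disjoint_and_mul_eq_univ (disjoint_iff.2 h1)
  rw [← Subgroup.normal_mul, h2]; rfl

/-- In a finite solvable group all core-free maximal subgroups are conjugate. -/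
theorem coreFree_maximal_conj [Finite G] [Group.IsSolvable G] (U V : Subgroup G)
    (hU : IsCoatom U) (hV : IsCoatom V) (hUc : U.normalCore = ⊥) (hVc : V.normalCore = ⊥) :
    ∃ g : G, MulAut.conj g • U = V := by
  classical
  have hGnt : Nontrivial G := by
    by_contra hnt
    rw [not_nontrivial_iff_subsingleton] at hnt
    exact hU.1 (Subsingleton.elim _ _)
  obtain ⟨N, ⟨hNn, hN1, hNmin⟩, _⟩ := exists_isMinNormal_le (⊤ : Subgroup G) inferInstance
    top_ne_bot
  have hNcomm := minNormal_comm_of_isSolvable N hN1 hNmin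
  obtain ⟨p, d, hp, hd, hNcard, _⟩ := minNormal_exists_prime_pow N hN1 hNmin hNcomm
  have hpF : Fact p.Prime := ⟨hp⟩
  have hNp : IsPGroup p N := IsPGroup.of_card hNcard
  set C := Subgroup.centralizer (N : Set G) with hC
  have hNC : N ≤ C := by
    intro x hx
    rw [Subgroup.mem_centralizer_iff]
    intro y hy
    exact hNcomm y hy x hx
  have hCN : C = N := by
    obtain ⟨_, hC2⟩ := Cfsg.Agent.S0549.result U hU hUc N hN1
    rcases hC2 with h | ⟨_, h2⟩
    · exfalso; apply hN1; rw [eq_bot_iff, ← h]; exact hNC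
    · rcases h2 N hNn hNC with h | h
      · exact absurd h hN1
      · exact h.symm
  have hNU : N ⊓ U = ⊥ := by
    have := (Cfsg.Agent.S0549.result U hU hUc N hN1).1
    rwa [← hC, hCN] at this
  have hNV : N ⊓ V = ⊥ := by
    have := (Cfsg.Agent.S0549.result V hV hVc N hN1).1
    rwa [← hC, hCN] at this
  have hNUtop := Cfsg.Agent.S0549.sup_eq_top_of_normal U hU hUc N hN1
  have hNVtop := Cfsg.Agent.S0549.sup_eq_top_of_normal V hV hVc N hN1
  have hcardU := (isComplement'_of_normal_of_inf_of_sup N U hNU hNUtop).card_mul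
  have hcardV := (isComplement'_of_normal_of_inf_of_sup N V hNV hNVtop).card_mul
  have hUV : Nat.card U = Nat.card V := by
    have h1 : Nat.card N * Nat.card U = Nat.card N * Nat.card V := by rw [hcardU, hcardV]
    exact Nat.eq_of_mul_eq_mul_left Nat.card_pos h1
  by_cases hNtop : N = ⊤
  · refine ⟨1, ?_⟩
    have h1 : U = ⊥ := by rw [← hNU, hNtop, top_inf_eq]
    have h2 : V = ⊥ := by rw [← hNV, hNtop, top_inf_eq]
    rw [h1, h2]
    exact Subgroup.smul_bot _
  -- a chief factor `L / N`
  have hQnt : Nontrivial (G ⧸ N) := by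
    by_contra hnt
    rw [not_nontrivial_iff_subsingleton] at hnt
    exact hNtop (QuotientGroup.subgroup_eq_top_of_subsingleton N hnt)
  obtain ⟨Lbar, ⟨hLbn, hLb1, hLbmin⟩, _⟩ := exists_isMinNormal_le (⊤ : Subgroup (G ⧸ N))
    inferInstance top_ne_bot
  obtain ⟨q, e, hq, he, hLbcard, _⟩ := minNormal_exists_prime_pow Lbar hLb1 hLbmin
    (minNormal_comm_of_isSolvable Lbar hLb1 hLbmin)
  set L := Lbar.comap (QuotientGroup.mk' N) with hL
  have hLn : L.Normal := hLbn.comap _
  have hNL : N ≤ L := by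
    have h1 := MonoidHom.ker_le_comap (QuotientGroup.mk' N) Lbar
    rwa [QuotientGroup.ker_mk'] at h1
  have hrel : N.relIndex L = q ^ e := by
    have h1 := Subgroup.relIndex_ker (K := L) (QuotientGroup.mk' N)
    rw [QuotientGroup.ker_mk', hL,
      Subgroup.map_comap_eq_self_of_surjective (QuotientGroup.mk'_surjective N), hLbcard] at h1
    exact h1
  have hLcard : Nat.card L = q ^ e * p ^ d := by
    rw [hL, card_comap_mk', hLbcard, hNcard]
  have hqe1 : 1 < q ^ e := Nat.one_lt_pow he.ne' hq.one_lt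
  have hqp : q ≠ p := by
    intro hqp
    subst hqp
    have hLp : IsPGroup q L := IsPGroup.of_card (by rw [hLcard, ← pow_add])
    obtain ⟨b, hbN, hb1, hbL⟩ := exists_ne_one_commute_of_isPGroup N L hNp hLp hN1
    set Y := N ⊓ Subgroup.centralizer (L : Set G) with hY
    have hYn : Y.Normal := inferInstance
    have hbY : b ∈ Y := by
      refine ⟨hbN, ?_⟩
      show b ∈ Subgroup.centralizer (L : Set G)
      rw [Subgroup.mem_centralizer_iff]
      intro l hl
      exact hbL l hl
    have hY1 : Y ≠ ⊥ := by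
      intro h
      rw [h, Subgroup.mem_bot] at hbY
      exact hb1 hbY
    have hYN : Y = N := (hNmin Y hYn inf_le_left).resolve_left hY1
    have h1 : N ≤ Subgroup.centralizer (L : Set G) := by rw [← hYN]; exact inf_le_right
    have h2 : L ≤ N := by
      rw [← hCN]; exact Subgroup.le_centralizer_iff.1 h1
    have h3 : N.relIndex L = 1 := Subgroup.relIndex_eq_one.2 h2
    rw [hrel] at h3
    exact hqe1.ne' h3
  -- the intersections with `U`, `V`
  have hcardT : ∀ W : Subgroup G, N ⊓ W = ⊥ → N ⊔ W = ⊤ → Nat.card (L ⊓ W : Subgroup G) = q ^ e := by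
    intro W h1 h2
    have h3 := inf_sup_eq_of_le_of_normal (H := L) (M := W) (F := N) hNL
    rw [sup_comm W N, h2, inf_top_eq] at h3
    have h4 : N.relIndex L = N.relIndex (L ⊓ W) := by
      conv_lhs => rw [h3]
      exact Subgroup.relIndex_sup_right (L ⊓ W) N
    have h5 : N ⊓ (L ⊓ W) = ⊥ := by
      rw [eq_bot_iff, ← h1]
      exact le_inf inf_le_left (inf_le_right.trans inf_le_right)
    have h6 : N.relIndex (L ⊓ W) = Nat.card (L ⊓ W : Subgroup G) := by
      rw [← Subgroup.inf_relIndex_right, h5, Subgroup.relIndex_bot_left]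
    rw [← h6, ← h4, hrel]
  have hT1 := hcardT U hNU hNUtop
  have hT2 := hcardT V hNV hNVtop
  have hsolv : Group.IsSolvable L := inferInstance
  have hcop : (q ^ e).Coprime (p ^ d) := Nat.coprime_pow_primes _ _ hq hp hqp
  obtain ⟨y, hyL, hy⟩ := hall_conj_in_subgroup' L (L ⊓ U) (L ⊓ V) hLcard hcop inf_le_left
    inf_le_left hT1 hT2
  refine ⟨y, ?_⟩
  set T := L ⊓ V with hT
  set W := Subgroup.normalizer (T : Set G) with hW
  have hVW : V ≤ W := by
    intro v hv
    apply mem_normalizer_of_conj_smul_eq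
    rw [hT, Subgroup.smul_inf, Subgroup.Normal.conj_smul_eq_self, Subgroup.conj_smul_eq_self_of_mem hv]
  have hWtop : W ≠ ⊤ := by
    intro h
    have hTn : T.Normal := Subgroup.normalizer_eq_top_iff.1 h
    have h1 : N ⊓ T = ⊥ := by
      rw [eq_bot_iff, ← hNV]
      exact le_inf inf_le_left (inf_le_right.trans inf_le_right)
    have h2 : T ≤ C := by
      intro t ht
      rw [Subgroup.mem_centralizer_iff]
      intro x hx
      exact (Subgroup.commute_of_normal_of_disjoint N T hNn hTn (disjoint_iff.2 h1) x t hx ht).eq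
    rw [hCN] at h2
    have h3 : T ≤ N ⊓ T := le_inf h2 le_rfl
    rw [h1, le_bot_iff] at h3
    rw [h3, Subgroup.card_bot] at hT2
    exact hqe1.ne hT2
  have hWV : W = V := by
    by_contra hne
    exact hWtop (hV.2 _ (lt_of_le_of_ne hVW (Ne.symm hne)))
  have hUW : MulAut.conj y • U ≤ W := by
    intro z hz
    obtain ⟨u, hu, rfl⟩ := (Subgroup.mem_smul_pointwise_iff_exists z _ U).1 hz
    apply mem_normalizer_of_conj_smul_eq
    have h1 : MulAut.conj u • (L ⊓ U) = L ⊓ U := by
      rw [Subgroup.smul_inf, Subgroup.Normal.conj_smul_eq_self, Subgroup.conj_smul_eq_self_of_mem hu]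
    have h2 : MulAut.conj y • u = y * u * y⁻¹ := rfl
    rw [h2, ← hy, map_mul, map_mul, mul_smul, mul_smul, map_inv, inv_smul_smul, h1]
  rw [hWV] at hUW
  apply Subgroup.eq_of_le_of_card_ge hUW
  rw [card_conj_smul, hUV]

end Cfsg.Agent.Lib.H3
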