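import Mathlib
import Cfsg.Prelude.Def_OddOrderLocal
import Cfsg.Prelude.Def_CaseTheorems
import Cfsg.Prelude.Def_PLocal
import Cfsg.Agent.Lib.H19.R2Defs

/-!
# S3888 (Blackburn, rank ≤ 2), pieces ALPHAT2 / ALPHAT3: shared lemmas (helper3)

* `comm_of_central_lift`: under (H2), `Z = N ⊓ Z(G)` of order `p`: if `G ⧸ Z` has a central element `f`
  with `f ^ p ≠ 1`, `f ^ p ^ 2 = 1`, then any two elements of `G` whose `p`-th powers lie in `Z` commute.
* `pow_ne_one_of_gen`: the order count in a group of order `p ^ m` generated by `x, y, z`.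
-/

set_option autoImplicit false

namespace Cfsg.Agent.Lib.H3.R2

open Cfsg Cfsg.Agent.Lib.H19.R2
open scoped commutatorElement

theorem card_sup_dvd_of_le_normalizer' {M : Type*} [Group M] {H N : Subgroup M}
    (h : H ≤ Subgroup.normalizer (N : Set M)) :
    Nat.card (H ⊔ N : Subgroup M) ∣ Nat.card H * Nat.card N := by
  have := Subgroup.normal_subgroupOf_of_le_normalizer h
  have := Subgroup.normal_subgroupOf_sup_of_le_normalizer h
  have h0 : N.relIndex (H ⊔ N) = N.relIndex H := by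
    unfold Subgroup.relIndex Subgroup.index
    exact (Nat.card_congr (QuotientGroup.quotientInfEquivProdNormalizerQuotient H N h).toEquiv).symm
  have h1 : Nat.card N * N.relIndex (H ⊔ N) = Nat.card (H ⊔ N : Subgroup M) := by
    have := Subgroup.relIndex_mul_relIndex ⊥ N (H ⊔ N) bot_le le_sup_right
    rwa [Subgroup.relIndex_bot_left, Subgroup.relIndex_bot_left] at this
  rw [← h1, h0, mul_comm]
  exact Nat.mul_dvd_mul_right (Subgroup.relIndex_dvd_card N H) _

theorem conj_mem_closure_pair {M : Type*} [Group M] (g y z : M)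
    (hy : g * y * g⁻¹ ∈ Subgroup.closure ({y, z} : Set M))
    (hz : g * z * g⁻¹ ∈ Subgroup.closure ({y, z} : Set M)) :
    ∀ a ∈ Subgroup.closure ({y, z} : Set M), g * a * g⁻¹ ∈ Subgroup.closure ({y, z} : Set M) := by
  intro a ha
  induction ha using Subgroup.closure_induction with
  | mem a ha =>
    rcases ha with h | h
    · rw [h]; exact hy
    · rw [Set.mem_singleton_iff.1 h]; exact hz
  | one => simp
  | mul a b _ _ ha hb =>
    have : g * (a * b) * g⁻¹ = (g * a * g⁻¹) * (g * b * g⁻¹) := by group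
    rw [this]; exact Subgroup.mul_mem _ ha hb
  | inv a _ ha =>
    have : g * a⁻¹ * g⁻¹ = (g * a * g⁻¹)⁻¹ := by group
    rw [this]; exact Subgroup.inv_mem _ ha

/-- the order count: if `z ^ p ^ (m - 3) = 1` the group generated by `x, y, z` is too small -/
theorem pow_ne_one_of_gen {Q : Type*} [Group Q] [Finite Q] {p m : ℕ} [Fact p.Prime] (hm : 3 ≤ m)
    (hcard : Nat.card Q = p ^ m) {x y z : Q}
    (hgen : Subgroup.closure ({x, y, z} : Set Q) = ⊤) (hx : x ^ p = 1) (hy : y ^ p = 1)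
    (hyz : y * z = z * y) (hxy : z ^ p ^ (m - 3) = 1 → x⁻¹ * y * x = y)
    (hxz : x⁻¹ * z * x = z ∨ x⁻¹ * z * x = y * z) : z ^ p ^ (m - 3) ≠ 1 := by
  intro hz
  have hp := (Fact.out : p.Prime)
  have hxy' := hxy hz
  have hyA : y ∈ Subgroup.closure ({y, z} : Set Q) := Subgroup.subset_closure (by simp)
  have hzA : z ∈ Subgroup.closure ({y, z} : Set Q) := Subgroup.subset_closure (by simp)
  have h3 : x⁻¹ * y * x⁻¹⁻¹ ∈ Subgroup.closure ({y, z} : Set Q) := by
    rw [inv_inv, hxy']; exact hyA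
  have h4 : x⁻¹ * z * x⁻¹⁻¹ ∈ Subgroup.closure ({y, z} : Set Q) := by
    rw [inv_inv]
    rcases hxz with e | e
    · rw [e]; exact hzA
    · rw [e]; exact Subgroup.mul_mem _ hyA hzA
  have hxn : x⁻¹ ∈ Subgroup.normalizer ((Subgroup.closure ({y, z} : Set Q) : Subgroup Q) : Set Q) :=
    Subgroup.mem_normalizer_fintype (conj_mem_closure_pair x⁻¹ y z h3 h4)
  have hxn' : x ∈ Subgroup.normalizer ((Subgroup.closure ({y, z} : Set Q) : Subgroup Q) : Set Q) := by
    simpa using Subgroup.inv_mem _ hxn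
  have hAeq : Subgroup.closure ({y, z} : Set Q) = Subgroup.zpowers y ⊔ Subgroup.zpowers z := by
    rw [Set.insert_eq, Subgroup.closure_union, Subgroup.zpowers_eq_closure,
      Subgroup.zpowers_eq_closure]
  have hyn : Subgroup.zpowers y ≤ Subgroup.normalizer (Subgroup.zpowers z : Set Q) := by
    rw [Subgroup.zpowers_le]
    apply Subgroup.centralizer_le_normalizer
    rw [Subgroup.mem_centralizer_iff]
    intro g hg
    obtain ⟨k, rfl⟩ := Subgroup.mem_zpowers_iff.1 hg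
    exact ((Commute.zpow_right (show Commute y z from hyz) k).eq).symm
  have hA1 : Nat.card (Subgroup.closure ({y, z} : Set Q)) ∣ p * p ^ (m - 3) := by
    rw [hAeq]
    refine (card_sup_dvd_of_le_normalizer' hyn).trans (Nat.mul_dvd_mul ?_ ?_)
    · rw [Nat.card_zpowers]; exact orderOf_dvd_of_pow_eq_one hy
    · rw [Nat.card_zpowers]; exact orderOf_dvd_of_pow_eq_one hz
  have hxA : Subgroup.zpowers x ≤
      Subgroup.normalizer ((Subgroup.closure ({y, z} : Set Q) : Subgroup Q) : Set Q) := by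
    rw [Subgroup.zpowers_le]; exact hxn'
  have h5 : Nat.card (Subgroup.zpowers x ⊔ Subgroup.closure ({y, z} : Set Q) : Subgroup Q) ∣
      p * (p * p ^ (m - 3)) := by
    refine (card_sup_dvd_of_le_normalizer' hxA).trans (Nat.mul_dvd_mul ?_ hA1)
    rw [Nat.card_zpowers]; exact orderOf_dvd_of_pow_eq_one hx
  have h6 : Subgroup.zpowers x ⊔ Subgroup.closure ({y, z} : Set Q) = ⊤ := by
    rw [eq_top_iff, ← hgen, Subgroup.closure_le]
    intro g hg
    rcases hg with h | h | h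
    · rw [h]
      exact (le_sup_left : Subgroup.zpowers x ≤ _) (Subgroup.mem_zpowers x)
    · rw [h]
      exact (le_sup_right : Subgroup.closure ({y, z} : Set Q) ≤ _) hyA
    · rw [Set.mem_singleton_iff.1 h]
      exact (le_sup_right : Subgroup.closure ({y, z} : Set Q) ≤ _) hzA
  rw [h6, Subgroup.card_top, hcard] at h5
  have h7 : p * (p * p ^ (m - 3)) = p ^ (m - 1) := by
    rw [← pow_succ', ← pow_succ']; congr 1; omega
  rw [h7] at h5
  have := (Nat.pow_dvd_pow_iff_le_right hp.one_lt).1 h5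
  omega

/-- lifting a central element of order `p ^ 2` from `G ⧸ Z` -/
theorem comm_of_central_lift {p : ℕ} [Fact p.Prime] {G : Type*} [Group G] {N : Subgroup G}
    (h : H2 p G N) (Z : Subgroup G) [Z.Normal] (hZ : Z = N ⊓ Subgroup.center G)
    (hZp : Nat.card Z = p) (f : G ⧸ Z) (hf : ∀ g : G ⧸ Z, g * f = f * g) (hf1 : f ^ p ≠ 1)
    (hf2 : f ^ (p ^ 2) = 1) {x y : G} (hx : x ^ p ∈ Z) (hy : y ^ p ∈ Z) : x * y = y * x := by
  obtain ⟨f₁, rfl⟩ := QuotientGroup.mk_surjective f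
  have hZN : Z ≤ N := hZ ▸ inf_le_left
  have hZc : Z ≤ Subgroup.center G := hZ ▸ inf_le_right
  -- commutators with `f₁` lie in `Z`
  have hcomm : ∀ g : G, f₁ * g * f₁⁻¹ * g⁻¹ ∈ Z := by
    intro g
    rw [← QuotientGroup.eq_one_iff]
    have := hf (g : G ⧸ Z)
    simp only [QuotientGroup.mk_mul, QuotientGroup.mk_inv]
    calc (f₁ : G ⧸ Z) * g * (f₁ : G ⧸ Z)⁻¹ * (g : G ⧸ Z)⁻¹
        = ((g : G ⧸ Z) * f₁) * (f₁ : G ⧸ Z)⁻¹ * (g : G ⧸ Z)⁻¹ := by rw [this]
      _ = 1 := by group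
  have hpow : ∀ (g : G) (k : ℕ),
      f₁ ^ k * g * (f₁ ^ k)⁻¹ = (f₁ * g * f₁⁻¹ * g⁻¹) ^ k * g := by
    intro g k
    induction k with
    | zero => simp
    | succ k ih =>
      set c := f₁ * g * f₁⁻¹ * g⁻¹ with hc
      have hck : c ^ k ∈ Subgroup.center G := Subgroup.pow_mem _ (hZc (hcomm g)) k
      rw [Subgroup.mem_center_iff] at hck
      have e : f₁ * g * f₁⁻¹ = c * g := by rw [hc]; group
      calc f₁ ^ (k + 1) * g * (f₁ ^ (k + 1))⁻¹ = f₁ * (f₁ ^ k * g * (f₁ ^ k)⁻¹) * f₁⁻¹ := by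
            rw [pow_succ']; group
        _ = f₁ * (c ^ k * g) * f₁⁻¹ := by rw [ih]
        _ = (f₁ * c ^ k) * g * f₁⁻¹ := by group
        _ = (c ^ k * f₁) * g * f₁⁻¹ := by rw [hck f₁]
        _ = c ^ k * (f₁ * g * f₁⁻¹) := by group
        _ = c ^ k * (c * g) := by rw [e]
        _ = c ^ (k + 1) * g := by rw [pow_succ, mul_assoc (c ^ k) c g]
  have hcp : ∀ c ∈ Z, c ^ p = 1 := fun c hc => h.1.exp c (hZN hc)
  obtain ⟨n₀, hn₀⟩ : ∃ n₀ : G, n₀ = f₁ ^ p := ⟨_, rfl⟩
  have hn₀c : ∀ g : G, n₀ * g = g * n₀ := by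
    intro g
    have := hpow g p
    rw [hcp _ (hcomm g), one_mul, ← hn₀] at this
    calc n₀ * g = n₀ * g * n₀⁻¹ * n₀ := by group
      _ = g * n₀ := by rw [this]
  have hn₀Z : n₀ ∉ Z := by
    intro hmem
    apply hf1
    have := (QuotientGroup.eq_one_iff (N := Z) n₀).2 hmem
    rw [hn₀, QuotientGroup.mk_pow] at this
    exact this
  have hn₀pZ : n₀ ^ p ∈ Z := by
    rw [← QuotientGroup.eq_one_iff, hn₀, ← pow_mul, ← sq, QuotientGroup.mk_pow]
    exact hf2
  have hn₀p : n₀ ^ p ≠ 1 := by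
    intro h1
    apply hn₀Z
    rw [hZ]
    exact ⟨h.2 n₀ h1, Subgroup.mem_center_iff.2 (fun g => (hn₀c g).symm)⟩
  have hdec : ∀ x : G, x ^ p ∈ Z → ∃ (x' : G) (α : ℕ), x' ∈ N ∧ x = x' * n₀ ^ α := by
    intro x hx
    have hgen : (⟨x ^ p, hx⟩ : Z) ∈ Submonoid.powers (⟨n₀ ^ p, hn₀pZ⟩ : Z) :=
      mem_powers_of_prime_card hZp (by
        intro h1; apply hn₀p; exact congrArg Subtype.val h1)
    obtain ⟨α, hα⟩ := hgen
    have hα' : (n₀ ^ p) ^ α = x ^ p := by
      have := congrArg Subtype.val hα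
      simpa using this
    refine ⟨x * (n₀ ^ α)⁻¹, α, ?_, by group⟩
    apply h.2
    have hcm : Commute x (n₀ ^ α)⁻¹ := by
      apply Commute.inv_right
      apply Commute.pow_right
      exact (hn₀c x).symm
    have e1 : ((n₀ ^ α)⁻¹) ^ p = ((n₀ ^ p) ^ α)⁻¹ := by
      rw [inv_pow, ← pow_mul, ← pow_mul, mul_comm]
    rw [hcm.mul_pow, e1, hα', mul_inv_cancel]
  obtain ⟨x', α, hx', rfl⟩ := hdec x hx
  obtain ⟨y', β, hy', rfl⟩ := hdec y hy
  have hxy := h.1.comm x' hx' y' hy'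
  have c1 : ∀ g : G, n₀ ^ α * g = g * n₀ ^ α := fun g =>
    (Commute.pow_left (show Commute n₀ g from hn₀c g) α).eq
  have c2 : ∀ g : G, n₀ ^ β * g = g * n₀ ^ β := fun g =>
    (Commute.pow_left (show Commute n₀ g from hn₀c g) β).eq
  calc x' * n₀ ^ α * (y' * n₀ ^ β) = x' * (n₀ ^ α * y') * n₀ ^ β := by group
    _ = x' * (y' * n₀ ^ α) * n₀ ^ β := by rw [c1]
    _ = (x' * y') * (n₀ ^ α * n₀ ^ β) := by group
    _ = (y' * x') * (n₀ ^ β * n₀ ^ α) := by rw [hxy, ← pow_add, ← pow_add, add_comm]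
    _ = y' * (x' * n₀ ^ β) * n₀ ^ α := by group
    _ = y' * (n₀ ^ β * x') * n₀ ^ α := by rw [c2]
    _ = y' * n₀ ^ β * (x' * n₀ ^ α) := by group

theorem card_quot_of_card {p : ℕ} [Fact p.Prime] {G : Type*} [Group G] {n : ℕ} (h1 : 1 ≤ n)
    (hcard : Nat.card G = p ^ n) (Z : Subgroup G) [Z.Normal] (hZp : Nat.card Z = p) :
    Nat.card (G ⧸ Z) = p ^ (n - 1) := by
  have hp := (Fact.out : p.Prime)
  have := Subgroup.card_eq_card_quotient_mul_card_subgroup Z
  rw [hcard, hZp] at this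
  have h2 : p ^ n = p ^ (n - 1) * p := by rw [← pow_succ]; congr 1; omega
  rw [h2] at this
  exact (Nat.eq_of_mul_eq_mul_right hp.pos this).symm

end Cfsg.Agent.Lib.H3.R2
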