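import Mathlib
import Cfsg.Prelude.Def_OddOrderLocal
import Cfsg.Prelude.Def_CaseTheorems
import Cfsg.Prelude.Def_PLocal
import Cfsg.Agent.Lib.H19.R2Defs
import Cfsg.Agent.Lib.H3.R2AlphaLift

/-!
# S3888 (Blackburn, rank ≤ 2), piece ALPHAT2 (helper3)
-/

set_option autoImplicit false
set_option linter.unusedVariables false

namespace Cfsg.Agent.Lib.H3.R2

open Cfsg Cfsg.Agent.Lib.H19.R2
open scoped commutatorElement

universe u

variable {p : ℕ} [Fact p.Prime] {G : Type u} [Group G] [Finite G]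

/-- ALPHAT2. -/
theorem alpha_T2 (hp2 : p ≠ 2) (hG : IsPGroup p G) {N : Subgroup G} (h : H2 p G N) {n : ℕ} (h5 : 5 ≤ n)
    (hcard : Nat.card G = p ^ n) (Z : Subgroup G) [Z.Normal] (hZ : Z = N ⊓ Subgroup.center G)
    (hZp : Nat.card Z = p) : ¬ T2 p (n - 1) (G ⧸ Z) := by
  rintro ⟨-, x, y, z, hgen, hx, hy, hz, hxz, hyz, hxy⟩
  have hp := (Fact.out : p.Prime)
  have hQ : Nat.card (G ⧸ Z) = p ^ (n - 1) := card_quot_of_card (by omega) hcard Z hZp
  have hw : z ^ p ^ (n - 1 - 3) ≠ 1 := by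
    apply pow_ne_one_of_gen (by omega) hQ hgen hx hy hyz
    · intro hz1; rw [hxy, hz1, mul_one]
    · left; rw [mul_assoc, ← hxz, ← mul_assoc, inv_mul_cancel, one_mul]
  obtain ⟨f, hf⟩ : ∃ f : G ⧸ Z, f = z ^ p ^ (n - 5) := ⟨_, rfl⟩
  have hfp : f ^ p = z ^ p ^ (n - 1 - 3) := by
    rw [hf, ← pow_mul, ← pow_succ]; congr 2; omega
  have hfc : ∀ g : G ⧸ Z, g * f = f * g := by
    have : f ∈ Subgroup.center (G ⧸ Z) := by
      rw [← Subgroup.centralizer_univ, ← Subgroup.coe_top, ← hgen, Subgroup.centralizer_closure,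
        Subgroup.mem_centralizer_iff]
      intro g hg
      rw [hf]
      rcases hg with h | h | h
      · rw [h]; exact (Commute.pow_right (show Commute x z from hxz) _).eq
      · rw [h]; exact (Commute.pow_right (show Commute y z from hyz) _).eq
      · rw [Set.mem_singleton_iff.1 h]; exact (Commute.pow_right (Commute.refl z) _).eq
    exact Subgroup.mem_center_iff.1 this
  have hf2 : f ^ (p ^ 2) = 1 := by
    rw [hf, ← pow_mul, ← pow_add]
    have : n - 5 + 2 = n - 1 - 2 := by omega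
    rw [this]; exact hz
  obtain ⟨x₀, rfl⟩ := QuotientGroup.mk_surjective x
  obtain ⟨y₀, rfl⟩ := QuotientGroup.mk_surjective y
  have hx₀ : x₀ ^ p ∈ Z := by
    rw [← QuotientGroup.eq_one_iff, QuotientGroup.mk_pow]; exact hx
  have hy₀ : y₀ ^ p ∈ Z := by
    rw [← QuotientGroup.eq_one_iff, QuotientGroup.mk_pow]; exact hy
  have hc := comm_of_central_lift h Z hZ hZp f hfc (by rw [hfp]; exact hw) hf2 hx₀ hy₀
  apply hw
  have e : ((x₀ : G ⧸ Z))⁻¹ * y₀ * x₀ = y₀ := by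
    rw [← QuotientGroup.mk_inv, ← QuotientGroup.mk_mul, ← QuotientGroup.mk_mul]
    congr 1
    rw [mul_assoc, ← hc, ← mul_assoc, inv_mul_cancel, one_mul]
  rw [e] at hxy
  have := mul_left_cancel (a := (y₀ : G ⧸ Z)) (b := 1) (c := z ^ p ^ (n - 1 - 3))
    (by rw [mul_one]; exact hxy)
  exact this.symm

end Cfsg.Agent.Lib.H3.R2
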