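import Mathlib
import Cfsg.Prelude.Def_OddOrderLocal
import Cfsg.Prelude.Def_CaseTheorems
import Cfsg.Prelude.Def_PLocal
import Cfsg.Agent.Lib.H19.R2Defs
import Cfsg.Agent.Lib.H3.R2AlphaLift

/-!
# S3888 (Blackburn, rank ≤ 2), piece ALPHAT3 (helper3)
-/

set_option autoImplicit false
set_option linter.unusedVariables false

namespace Cfsg.Agent.Lib.H3.R2

open Cfsg Cfsg.Agent.Lib.H19.R2
open scoped commutatorElement

universe u

variable {p : ℕ} [Fact p.Prime] {G : Type u} [Group G] [Finite G]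

/-- ALPHAT3. -/
theorem alpha_T3 (hp2 : p ≠ 2) (hG : IsPGroup p G) {N : Subgroup G} (h : H2 p G N) {n : ℕ} (h5 : 5 ≤ n)
    (hcard : Nat.card G = p ^ n) (Z : Subgroup G) [Z.Normal] (hZ : Z = N ⊓ Subgroup.center G)
    (hZp : Nat.card Z = p) (ht : T3 p (n - 1) (G ⧸ Z)) :
    n = 5 ∧ (⊤ : Subgroup (G ⧸ Z)).lowerCentralSeries 2 ≠ ⊥ := by
  obtain ⟨-, s, x, y, z, hs, hgen, hx, hy, hz, hyz, hxy, hxz⟩ := ht
  have hp := (Fact.out : p.Prime)
  have hsp : ¬ p ∣ s := by
    rcases hs with rfl | hs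
    · intro hd
      exact hp.one_lt.ne' (Nat.dvd_one.1 hd)
    · intro hd
      apply hs
      have : ((s : ℕ) : ZMod p) = 0 := (ZMod.natCast_eq_zero_iff s p).2 hd
      rw [this]
      exact ⟨0, by simp⟩
  have hQ : Nat.card (G ⧸ Z) = p ^ (n - 1) := card_quot_of_card (by omega) hcard Z hZp
  have hw : z ^ p ^ (n - 1 - 3) ≠ 1 := by
    apply pow_ne_one_of_gen (by omega) hQ hgen hx hy hyz
    · intro hz1; rw [hxy, mul_comm s, pow_mul, hz1, one_pow, mul_one]
    · right; exact hxz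
  have hwp : (z ^ p ^ (n - 1 - 3)) ^ p = 1 := by
    rw [← pow_mul, ← pow_succ]
    have : n - 1 - 3 + 1 = n - 1 - 2 := by omega
    rw [this]; exact hz
  have hws : z ^ (s * p ^ (n - 1 - 3)) ≠ 1 := by
    intro h1
    rw [mul_comm, pow_mul] at h1
    have d1 := orderOf_dvd_of_pow_eq_one h1
    have d2 := orderOf_dvd_of_pow_eq_one hwp
    have h3 : orderOf (z ^ p ^ (n - 1 - 3)) ∣ Nat.gcd s p := Nat.dvd_gcd d1 d2
    have hcop : Nat.gcd s p = 1 := by
      rw [Nat.gcd_comm]; exact (Nat.Prime.coprime_iff_not_dvd hp).2 hsp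
    rw [hcop, Nat.dvd_one, orderOf_eq_one_iff] at h3
    exact hw h3
  by_cases hn : n = 5
  · refine ⟨hn, ?_⟩
    intro hbot
    apply hws
    have hyc : y⁻¹ ∈ (⊤ : Subgroup (G ⧸ Z)).lowerCentralSeries 1 := by
      apply Subgroup.inv_mem
      have e : y = ⁅z⁻¹, x⁻¹⁆ := by
        rw [commutatorElement_def, inv_inv, inv_inv, mul_assoc z⁻¹, mul_assoc z⁻¹,
          hxz, hyz, inv_mul_cancel_left]
      rw [e, Subgroup.lowerCentralSeries_succ]
      exact Subgroup.commutator_mem_commutator (Subgroup.mem_top _) (Subgroup.mem_top _)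
    have hmem : z ^ (s * p ^ (n - 1 - 3)) ∈ (⊤ : Subgroup (G ⧸ Z)).lowerCentralSeries 2 := by
      have e : z ^ (s * p ^ (n - 1 - 3)) = ⁅y⁻¹, x⁻¹⁆ := by
        rw [commutatorElement_def, inv_inv, inv_inv, mul_assoc y⁻¹, mul_assoc y⁻¹,
          hxy, inv_mul_cancel_left]
      rw [e, Subgroup.lowerCentralSeries_succ]
      exact Subgroup.commutator_mem_commutator hyc (Subgroup.mem_top _)
    rw [hbot, Subgroup.mem_bot] at hmem
    exact hmem
  · exfalso
    have h6 : 6 ≤ n := by omega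
    obtain ⟨f, hf⟩ : ∃ f : G ⧸ Z, f = z ^ p ^ (n - 5) := ⟨_, rfl⟩
    have hfp : f ^ p = z ^ p ^ (n - 1 - 3) := by
      rw [hf, ← pow_mul, ← pow_succ]; congr 2; omega
    have hxf : x * f = f * x := by
      have e1 : x⁻¹ * z ^ p ^ (n - 5) * x = (x⁻¹ * z * x) ^ p ^ (n - 5) := by
        have := conj_pow (a := x⁻¹) (b := z) (i := p ^ (n - 5))
        rw [inv_inv] at this
        exact this.symm
      have e2 : y ^ p ^ (n - 5) = 1 := by
        have : n - 5 = (n - 6) + 1 := by omega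
        rw [this, pow_succ', pow_mul, hy, one_pow]
      have e3 : x⁻¹ * f * x = f := by
        rw [hf, e1, hxz, (show Commute y z from hyz).mul_pow, e2, one_mul]
      calc x * f = x * (x⁻¹ * f * x) := by rw [e3]
        _ = f * x := by group
    have hfc : ∀ g : G ⧸ Z, g * f = f * g := by
      have : f ∈ Subgroup.center (G ⧸ Z) := by
        rw [← Subgroup.centralizer_univ, ← Subgroup.coe_top, ← hgen, Subgroup.centralizer_closure,
          Subgroup.mem_centralizer_iff]
        intro g hg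
        rcases hg with h | h | h
        · rw [h]; exact hxf
        · rw [h, hf]; exact (Commute.pow_right (show Commute y z from hyz) _).eq
        · rw [Set.mem_singleton_iff.1 h, hf]; exact (Commute.pow_right (Commute.refl z) _).eq
      exact Subgroup.mem_center_iff.1 this
    have hf2 : f ^ (p ^ 2) = 1 := by
      rw [hf, ← pow_mul, ← pow_add]
      have : n - 5 + 2 = n - 1 - 2 := by omega
      rw [this]; exact hz
    obtain ⟨x₀, rfl⟩ := QuotientGroup.mk_surjective x
    obtain ⟨y₀, rfl⟩ := QuotientGroup.mk_surjective y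
    have hx₀ : x₀ ^ p ∈ Z := by
      rw [← QuotientGroup.eq_one_iff, QuotientGroup.mk_pow]; exact hx
    have hy₀ : y₀ ^ p ∈ Z := by
      rw [← QuotientGroup.eq_one_iff, QuotientGroup.mk_pow]; exact hy
    have hc := comm_of_central_lift h Z hZ hZp f hfc (by rw [hfp]; exact hw) hf2 hx₀ hy₀
    apply hws
    have e : ((x₀ : G ⧸ Z))⁻¹ * y₀ * x₀ = y₀ := by
      rw [← QuotientGroup.mk_inv, ← QuotientGroup.mk_mul, ← QuotientGroup.mk_mul]
      congr 1
      rw [mul_assoc, ← hc, ← mul_assoc, inv_mul_cancel, one_mul]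
    rw [e] at hxy
    have := mul_left_cancel (a := (y₀ : G ⧸ Z)) (b := 1) (c := z ^ (s * p ^ (n - 1 - 3)))
      (by rw [mul_one]; exact hxy)
    exact this.symm

end Cfsg.Agent.Lib.H3.R2
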