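import Mathlib

/-! S3626 piece COMB (architect helper4): the lcm combinatorics. -/

set_option autoImplicit false

namespace Cfsg.Agent.Lib.H3.RS

/-- COMB: if `ω(R)` is the set of divisors of `6, 9, a, b, c, d`, and `ω(Y)` consists of divisors of
`6, 9, a, b` and contains `6, 9, a, b`, then `R × R × Y` and `R × R × R` have the same spectrum. -/
theorem range_orderOf_eq {R : Type*} [Group R] {Y : Type*} [Group Y] (a b c d : ℕ)
    (hR : ∀ n : ℕ, (∃ g : R, orderOf g = n) ↔ (n ∣ 6 ∨ n ∣ 9 ∨ n ∣ a ∨ n ∣ b ∨ n ∣ c ∨ n ∣ d))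
    (hY1 : ∀ y : Y, orderOf y ∣ 6 ∨ orderOf y ∣ 9 ∨ orderOf y ∣ a ∨ orderOf y ∣ b)
    (h6 : ∃ y : Y, orderOf y = 6) (h9 : ∃ y : Y, orderOf y = 9)
    (ha : ∃ y : Y, orderOf y = a) (hb : ∃ y : Y, orderOf y = b) (ha0 : a ≠ 0) (hb0 : b ≠ 0) :
    Set.range (orderOf : R × R × Y → ℕ) = Set.range (orderOf : R × R × R → ℕ) := by
  have hdiv : ∀ (N : ℕ), N ≠ 0 → (∃ y : Y, orderOf y = N) → ∀ n, n ∣ N →
      ∃ y : Y, orderOf y = n := by
    rintro N hN0 ⟨y, hy⟩ n ⟨k, hk⟩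
    have hk0 : k ≠ 0 := by
      rintro rfl
      rw [Nat.mul_zero] at hk
      exact hN0 hk
    refine ⟨y ^ k, ?_⟩
    rw [orderOf_pow_of_dvd hk0 (by rw [hy, hk]; exact dvd_mul_left k n), hy, hk]
    exact Nat.mul_div_cancel _ (Nat.pos_of_ne_zero hk0)
  have hYgood : ∀ n, (n ∣ 6 ∨ n ∣ 9 ∨ n ∣ a ∨ n ∣ b) → ∃ y : Y, orderOf y = n := by
    rintro n (h | h | h | h)
    · exact hdiv 6 (by norm_num) h6 n h
    · exact hdiv 9 (by norm_num) h9 n h
    · exact hdiv a ha0 ha n h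
    · exact hdiv b hb0 hb n h
  apply Set.Subset.antisymm
  · rintro _ ⟨⟨r1, r2, y⟩, rfl⟩
    obtain ⟨r3, hr3⟩ : ∃ g : R, orderOf g = orderOf y := by
      rw [hR]
      rcases hY1 y with h | h | h | h
      · exact Or.inl h
      · exact Or.inr (Or.inl h)
      · exact Or.inr (Or.inr (Or.inl h))
      · exact Or.inr (Or.inr (Or.inr (Or.inl h)))
    refine ⟨(r1, r2, r3), ?_⟩
    simp only [Prod.orderOf, hr3]
  · rintro _ ⟨⟨r1, r2, r3⟩, rfl⟩
    have L1 : ∀ (s1 s2 : R) (n : ℕ), (n ∣ 6 ∨ n ∣ 9 ∨ n ∣ a ∨ n ∣ b) →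
        Nat.lcm (orderOf s1) (Nat.lcm (orderOf s2) n) ∈
          Set.range (orderOf : R × R × Y → ℕ) := by
      intro s1 s2 n hn
      obtain ⟨y, hy⟩ := hYgood n hn
      exact ⟨(s1, s2, y), by simp only [Prod.orderOf, hy]⟩
    have L2 : ∀ (e : ℕ), (∀ n, n ∣ e → ∃ g : R, orderOf g = n) → ∀ (s1 s2 s3 : R),
        orderOf s1 ∣ e → orderOf s2 ∣ e →
        Nat.lcm (Nat.lcm (orderOf s1) (orderOf s2)) (orderOf s3) ∈
          Set.range (orderOf : R × R × Y → ℕ) := by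
      intro e he s1 s2 s3 h1 h2
      obtain ⟨r, hr⟩ := he _ (Nat.lcm_dvd h1 h2)
      refine ⟨(r, s3, 1), ?_⟩
      simp only [Prod.orderOf, hr, orderOf_one, Nat.lcm_one_right]
    have hc : ∀ n, n ∣ c → ∃ g : R, orderOf g = n := fun n hn =>
      (hR n).2 (Or.inr (Or.inr (Or.inr (Or.inr (Or.inl hn)))))
    have hd : ∀ n, n ∣ d → ∃ g : R, orderOf g = n := fun n hn =>
      (hR n).2 (Or.inr (Or.inr (Or.inr (Or.inr (Or.inr hn)))))
    have key : ∀ n : ℕ, (∃ g : R, orderOf g = n) →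
        (n ∣ 6 ∨ n ∣ 9 ∨ n ∣ a ∨ n ∣ b) ∨ n ∣ c ∨ n ∣ d := by
      intro n hn
      rcases (hR n).1 hn with h | h | h | h | h | h
      · exact Or.inl (Or.inl h)
      · exact Or.inl (Or.inr (Or.inl h))
      · exact Or.inl (Or.inr (Or.inr (Or.inl h)))
      · exact Or.inl (Or.inr (Or.inr (Or.inr h)))
      · exact Or.inr (Or.inl h)
      · exact Or.inr (Or.inr h)
    have e1 := key _ ⟨r1, rfl⟩
    have e2 := key _ ⟨r2, rfl⟩
    have e3 := key _ ⟨r3, rfl⟩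
    rw [Prod.orderOf, Prod.orderOf]
    show Nat.lcm (orderOf r1) (Nat.lcm (orderOf r2) (orderOf r3)) ∈ _
    have fin12 : ∀ e, (∀ n, n ∣ e → ∃ g : R, orderOf g = n) → orderOf r1 ∣ e → orderOf r2 ∣ e →
        Nat.lcm (orderOf r1) (Nat.lcm (orderOf r2) (orderOf r3)) ∈
          Set.range (orderOf : R × R × Y → ℕ) := by
      intro e he h1 h2
      have := L2 e he r1 r2 r3 h1 h2
      rwa [Nat.lcm_assoc] at this
    have fin13 : ∀ e, (∀ n, n ∣ e → ∃ g : R, orderOf g = n) → orderOf r1 ∣ e → orderOf r3 ∣ e →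
        Nat.lcm (orderOf r1) (Nat.lcm (orderOf r2) (orderOf r3)) ∈
          Set.range (orderOf : R × R × Y → ℕ) := by
      intro e he h1 h2
      have := L2 e he r1 r3 r2 h1 h2
      rwa [Nat.lcm_assoc, Nat.lcm_comm (orderOf r3)] at this
    have fin23 : ∀ e, (∀ n, n ∣ e → ∃ g : R, orderOf g = n) → orderOf r2 ∣ e → orderOf r3 ∣ e →
        Nat.lcm (orderOf r1) (Nat.lcm (orderOf r2) (orderOf r3)) ∈
          Set.range (orderOf : R × R × Y → ℕ) := by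
      intro e he h1 h2
      have := L2 e he r2 r3 r1 h1 h2
      rwa [Nat.lcm_comm] at this
    rcases e3 with h3 | h3
    · exact L1 r1 r2 _ h3
    rcases e1 with h1 | h1
    · have := L1 r2 r3 _ h1
      rwa [← Nat.lcm_assoc, Nat.lcm_comm] at this
    rcases e2 with h2 | h2
    · have := L1 r1 r3 _ h2
      rwa [Nat.lcm_comm (orderOf r3)] at this
    rcases h1 with h1 | h1 <;> rcases h2 with h2 | h2 <;> rcases h3 with h3 | h3
    · exact fin12 c hc h1 h2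
    · exact fin12 c hc h1 h2
    · exact fin13 c hc h1 h3
    · exact fin23 d hd h2 h3
    · exact fin23 c hc h2 h3
    · exact fin13 d hd h1 h3
    · exact fin12 d hd h1 h2
    · exact fin12 d hd h1 h2

end Cfsg.Agent.Lib.H3.RS
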