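import Mathlib
import Cfsg.Agent.Lib.H9.S28Defs

/-! S2928 piece C8b-ii (architect helper9). -/

set_option autoImplicit false

namespace Cfsg.Agent.Lib.H3.S28

open Equiv Cfsg.Agent.Lib.H9.S28 Cfsg.Agent.Lib.H15.SymF

variable {β : Type*} [Fintype β] [DecidableEq β] {G L : Subgroup (Perm β)}

theorem image_compl_perm (g : Perm β) (S : Finset β) : (Sᶜ).image g = (S.image g)ᶜ := by
  ext y
  simp only [Finset.mem_image, Finset.mem_compl]
  constructor
  · rintro ⟨x, hx, rfl⟩ ⟨x', hx', hxx⟩
    have : x' = x := g.injective hxx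
    exact hx (this ▸ hx')
  · intro hy
    refine ⟨g⁻¹ y, ?_, by simp⟩
    intro hmem
    exact hy ⟨g⁻¹ y, hmem, by simp⟩

/-- C8b-ii: the kernel of the action on pairs has exponent 2. -/
theorem sq_eq_one_of_fix_pairs
    (h7 : ∀ a : β, ((kleinSets G).filter (fun S => a ∈ S)).card = 7)
    (h3 : ∀ a b : β, a ≠ b → ((kleinSets G).filter (fun S => a ∈ S ∧ b ∈ S)).card = 3)
    {g : Perm β} (hg : ∀ S ∈ kleinSets G, S.image g = S ∨ S.image g = Sᶜ) : g * g = 1 := by
  classical
  have hsq : ∀ S ∈ kleinSets G, (S.image g).image g = S := by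
    intro S hS
    rcases hg S hS with h1 | h1
    · rw [h1, h1]
    · rw [h1, image_compl_perm, h1, compl_compl]
  ext x
  simp only [Perm.mul_apply, Perm.one_apply]
  by_contra hne
  have h7x := h7 x
  have h3x := h3 x (g (g x)) (fun h => hne h.symm)
  have hsub : (kleinSets G).filter (fun S => x ∈ S) ⊆
      (kleinSets G).filter (fun S => x ∈ S ∧ g (g x) ∈ S) := by
    intro S hS
    rw [Finset.mem_filter] at hS ⊢
    refine ⟨hS.1, hS.2, ?_⟩
    rw [← hsq S hS.1]
    exact Finset.mem_image_of_mem g (Finset.mem_image_of_mem g hS.2)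
  have := Finset.card_le_card hsub
  omega

end Cfsg.Agent.Lib.H3.S28
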