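import Mathlib
import Cfsg.Agent.Lib.H9.S28Defs
import Cfsg.Agent.Lib.H3.S28C8bii

/-! S2928 piece C8b-i (architect helper9). -/

set_option autoImplicit false

namespace Cfsg.Agent.Lib.H3.S28

open Equiv Cfsg.Agent.Lib.H9.S28 Cfsg.Agent.Lib.H15.SymF

variable {β : Type*} [Fintype β] [DecidableEq β] {G L : Subgroup (Perm β)}

theorem isKlein_image_h3 {S : Finset β} (hS : IsKlein G S) {g : Perm β} (hg : g ∈ G) :
    IsKlein G (S.image g) := by
  refine ⟨by rw [Finset.card_image_of_injective _ g.injective]; exact hS.1, ?_⟩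
  intro a b c d ha hb hc hd hab hac had hbc hbd hcd
  obtain ⟨a', ha', rfl⟩ := Finset.mem_image.1 ha
  obtain ⟨b', hb', rfl⟩ := Finset.mem_image.1 hb
  obtain ⟨c', hc', rfl⟩ := Finset.mem_image.1 hc
  obtain ⟨d', hd', rfl⟩ := Finset.mem_image.1 hd
  have hm := hS.2 a' b' c' d' ha' hb' hc' hd' (fun e => hab (by rw [e])) (fun e => hac (by rw [e]))
    (fun e => had (by rw [e])) (fun e => hbc (by rw [e])) (fun e => hbd (by rw [e]))
    (fun e => hcd (by rw [e]))
  have e : swap (g a') (g b') * swap (g c') (g d') = g * (swap a' b' * swap c' d') * g⁻¹ := by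
    rw [Equiv.swap_apply_apply, Equiv.swap_apply_apply]
    group
  rw [e]
  exact G.mul_mem (G.mul_mem hg hm) (G.inv_mem hg)

/-- the action on the pairs `{S, Sᶜ}`, each pair represented by its member through `a₀`. -/
def pairAct (a₀ : β) (g : Perm β) (S : Finset β) : Finset β :=
  if a₀ ∈ S.image g then S.image g else (S.image g)ᶜ

theorem pairAct_compl (a₀ : β) (g : Perm β) (S : Finset β) :
    pairAct a₀ g Sᶜ = pairAct a₀ g S := by
  unfold pairAct
  rw [image_compl_perm]
  by_cases h : a₀ ∈ S.image g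
  · have h' : a₀ ∉ (S.image g)ᶜ := by simpa using h
    rw [if_pos h, if_neg h', compl_compl]
  · have h' : a₀ ∈ (S.image g)ᶜ := by simpa using h
    rw [if_neg h, if_pos h']

theorem pairAct_mul (a₀ : β) (g h : Perm β) (S : Finset β) :
    pairAct a₀ (g * h) S = pairAct a₀ g (pairAct a₀ h S) := by
  have him : S.image (g * h) = (S.image h).image g := by
    rw [Finset.image_image]; rfl
  have h1 : pairAct a₀ (g * h) S = pairAct a₀ g (S.image h) := by
    unfold pairAct; rw [him]
  rw [h1]
  by_cases hh : a₀ ∈ S.image h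
  · have : pairAct a₀ h S = S.image h := by unfold pairAct; rw [if_pos hh]
    rw [this]
  · have : pairAct a₀ h S = (S.image h)ᶜ := by unfold pairAct; rw [if_neg hh]
    rw [this, pairAct_compl]

theorem pairAct_one (a₀ : β) (S : Finset β) (hS : a₀ ∈ S) : pairAct a₀ 1 S = S := by
  unfold pairAct
  have : S.image (1 : Perm β) = S := by
    ext x; simp
  rw [this, if_pos hS]

theorem pairAct_mem (a₀ : β) (hcompl : ∀ S ∈ kleinSets G, Sᶜ ∈ kleinSets G) {g : Perm β}
    (hg : g ∈ G) {S : Finset β} (hS : S ∈ kleinSets G) :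
    pairAct a₀ g S ∈ (kleinSets G).filter (fun S => a₀ ∈ S) := by
  have hk : S.image g ∈ kleinSets G := mem_kleinSets.2 (isKlein_image_h3 (mem_kleinSets.1 hS) hg)
  unfold pairAct
  by_cases h : a₀ ∈ S.image g
  · rw [if_pos h]
    exact Finset.mem_filter.2 ⟨hk, h⟩
  · rw [if_neg h]
    exact Finset.mem_filter.2 ⟨hcompl _ hk, by simpa using h⟩

/-- C8b-i: the action of `G` on the 7 pairs `{S, Sᶜ}`. -/
theorem exists_pairHom (a₀ : β) (hcompl : ∀ S ∈ kleinSets G, Sᶜ ∈ kleinSets G)
    (h7 : ((kleinSets G).filter (fun S => a₀ ∈ S)).card = 7) :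
    ∃ φ : ↥G →* Perm (Fin 7), ∀ g : ↥G, φ g = 1 →
      ∀ S ∈ kleinSets G, S.image (g : Perm β) = S ∨ S.image (g : Perm β) = Sᶜ := by
  classical
  set F : Finset (Finset β) := (kleinSets G).filter (fun S => a₀ ∈ S) with hF
  have hFk : ∀ S ∈ F, S ∈ kleinSets G := fun S hS => (Finset.mem_filter.1 hS).1
  have hFa : ∀ S ∈ F, a₀ ∈ S := fun S hS => (Finset.mem_filter.1 hS).2
  let f : ↥G →* Function.End {S // S ∈ F} :=
    { toFun := fun g S => ⟨pairAct a₀ (g : Perm β) S.1, pairAct_mem a₀ hcompl g.2 (hFk _ S.2)⟩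
      map_one' := by
        funext S
        apply Subtype.ext
        exact pairAct_one a₀ S.1 (hFa _ S.2)
      map_mul' := by
        intro g h
        funext S
        apply Subtype.ext
        exact pairAct_mul a₀ (g : Perm β) (h : Perm β) S.1 }
  have hcard : Fintype.card {S // S ∈ F} = 7 := by
    rw [Fintype.card_coe]; exact h7
  let e : {S // S ∈ F} ≃ Fin 7 := Fintype.equivFinOfCardEq hcard
  refine ⟨(e.permCongrHom.toMonoidHom).comp (MonoidHom.toHomPerm f), ?_⟩
  intro g hg S hS
  have hg1 : MonoidHom.toHomPerm f g = 1 := by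
    have : e.permCongrHom (MonoidHom.toHomPerm f g) = 1 := hg
    exact (MulEquiv.map_eq_one_iff e.permCongrHom).1 this
  have hfix : ∀ T : {S // S ∈ F}, pairAct a₀ (g : Perm β) T.1 = T.1 := by
    intro T
    have h2 : (MonoidHom.toHomPerm f g) T = T := by rw [hg1]; rfl
    exact congrArg Subtype.val h2
  by_cases ha : a₀ ∈ S
  · have hSF : S ∈ F := Finset.mem_filter.2 ⟨hS, ha⟩
    have h1 := hfix ⟨S, hSF⟩
    simp only [pairAct] at h1
    by_cases hi : a₀ ∈ S.image (g : Perm β)
    · rw [if_pos hi] at h1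
      exact Or.inl h1
    · rw [if_neg hi] at h1
      right
      apply compl_injective
      rw [compl_compl]
      exact h1
  · have hSF : Sᶜ ∈ F := Finset.mem_filter.2 ⟨hcompl S hS, by simpa using ha⟩
    have h1 := hfix ⟨Sᶜ, hSF⟩
    simp only [pairAct_compl] at h1
    simp only [pairAct] at h1
    by_cases hi : a₀ ∈ S.image (g : Perm β)
    · rw [if_pos hi] at h1
      exact Or.inr h1
    · rw [if_neg hi] at h1
      left
      exact compl_injective h1
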