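import Mathlib
import Cfsg.Agent.Lib.H9.S28Defs

/-! S2928 piece C9 FINISH (architect helper9). -/

set_option autoImplicit false

namespace Cfsg.Agent.Lib.H3.S28

open Equiv Cfsg.Agent.Lib.H9.S28 Cfsg.Agent.Lib.H15.SymF

variable {β : Type*} [Fintype β] [DecidableEq β] {G L : Subgroup (Perm β)}

theorem eq_alternatingGroup (h : Core G L) (hprim : MulAction.IsPreprimitive ↥G β)
    (h5 : 5 ≤ Fintype.card β) {c : Perm β} (hc : c ∈ G) (h3 : c.IsThreeCycle) :
    L = alternatingGroup β := by
  classical
  have hAG : alternatingGroup β ≤ G :=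
    Equiv.Perm.alternatingGroup_le_of_isPreprimitive_of_isThreeCycle_mem hprim h3 hc
  have hLA : L ≤ alternatingGroup β :=
    perfect_le_alternating L (commutator_self_of_quasisimple L h.qs)
  haveI hsimp : IsSimpleGroup ↥(alternatingGroup β) :=
    alternatingGroup.isSimpleGroup (by rw [Nat.card_eq_fintype_card]; exact h5)
  have hN : (L.subgroupOf (alternatingGroup β)).Normal := by
    refine ⟨fun x hx g => ?_⟩
    rw [Subgroup.mem_subgroupOf] at hx ⊢
    have := h.normal (g : Perm β) (hAG g.2) (x : Perm β) hx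
    simpa using this
  rcases hN.eq_bot_or_eq_top with hb | ht
  · exfalso
    have hLbot : L = ⊥ := by
      rw [Subgroup.subgroupOf_eq_bot] at hb
      rw [← inf_eq_left.mpr hLA]
      exact disjoint_iff.mp hb
    have hne : Nonempty β := by
      rw [← Fintype.card_pos_iff]; omega
    obtain ⟨b⟩ := hne
    obtain ⟨x, hx, hxb⟩ := h.moved b
    rw [hLbot, Subgroup.mem_bot] at hx
    rw [hx] at hxb
    exact hxb rfl
  · rw [Subgroup.subgroupOf_eq_top] at ht
    exact le_antisymm hLA ht

end Cfsg.Agent.Lib.H3.S28
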