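import Cfsg.Agent.Lib.H9.S3571Defs
import Cfsg.Agent.Lib.H18.AutAlt

/-!
helper3: S3571 GR piece (EMB): for `m ≠ 6` the group `G` embeds in `Sym(m)` extending `eT`
(through `Aut(A_m) = S_m`, landed `H18.conjNormal_alternating_bijective` = S2119).
-/

set_option autoImplicit false

namespace Cfsg.Agent.Lib.H3.S3571EMB

open Equiv

theorem emb : Cfsg.Agent.Lib.H9.S3571.EmbStmt := by
  intro G _ _ T hT hTc m hm h6 eT
  have hbij : Function.Bijective
      (MulAut.conjNormal : Perm (Fin m) →* MulAut ↥(alternatingGroup (Fin m))) :=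
    Cfsg.Agent.Lib.H18.conjNormal_alternating_bijective
      (by rw [Fintype.card_fin]; omega) (by rw [Fintype.card_fin]; exact h6)
  let c₃ : Perm (Fin m) ≃* MulAut ↥(alternatingGroup (Fin m)) :=
    MulEquiv.ofBijective MulAut.conjNormal hbij
  let c₁ : G →* MulAut ↥T := MulAut.conjNormal
  let c₂ : MulAut ↥T ≃* MulAut ↥(alternatingGroup (Fin m)) := MulAut.congr eT
  let ψ : G →* Perm (Fin m) := c₃.symm.toMonoidHom.comp (c₂.toMonoidHom.comp c₁)
  refine ⟨ψ, ?_, ?_⟩
  · -- injective
    rw [injective_iff_map_eq_one]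
    intro g hg
    have h1 : c₂ (c₁ g) = 1 := by
      have h2 : c₃.symm (c₂ (c₁ g)) = 1 := hg
      have h3 := congrArg c₃ h2
      rw [MulEquiv.apply_symm_apply, map_one] at h3
      exact h3
    have h4 : c₁ g = 1 := by
      have h5 := congrArg c₂.symm h1
      rw [MulEquiv.symm_apply_apply, map_one] at h5
      exact h5
    have h6 : g ∈ Subgroup.centralizer (T : Set G) := by
      rw [Subgroup.mem_centralizer_iff]
      intro t ht
      have h7 : (c₁ g) ⟨t, ht⟩ = ⟨t, ht⟩ := by rw [h4]; rfl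
      have h8 := congrArg Subtype.val h7
      rw [MulAut.conjNormal_apply] at h8
      -- h8 : g * t * g⁻¹ = t
      have h9 : g * t * g⁻¹ * g = t * g := by rw [h8]
      rw [inv_mul_cancel_right] at h9
      exact h9.symm
    rw [hTc, Subgroup.mem_bot] at h6
    exact h6
  · intro t
    have h1 : c₂ (c₁ (t : G)) = c₃ ((eT t : ↥(alternatingGroup (Fin m))) : Perm (Fin m)) := by
      apply MulEquiv.ext
      intro a
      apply Subtype.ext
      have h2 : c₂ (c₁ (t : G)) a = eT ((c₁ (t : G)) (eT.symm a)) := rfl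
      have h3 : (c₁ (t : G)) (eT.symm a) = t * eT.symm a * t⁻¹ := by
        apply Subtype.ext
        rw [MulAut.conjNormal_apply]
        rfl
      rw [h2, h3, map_mul, map_mul, map_inv, MulEquiv.apply_symm_apply]
      have h4 : c₃ ((eT t : ↥(alternatingGroup (Fin m))) : Perm (Fin m)) a
          = MulAut.conjNormal ((eT t : ↥(alternatingGroup (Fin m))) : Perm (Fin m)) a := rfl
      rw [h4, MulAut.conjNormal_apply]
      rfl
    have h5 : ψ (t : G) = c₃.symm (c₂ (c₁ (t : G))) := rfl
    rw [h5, h1, MulEquiv.symm_apply_apply]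

end Cfsg.Agent.Lib.H3.S3571EMB
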