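import Cfsg.Agent.Lib.H9.S3571Defs

/-!
helper3: S3571 GR piece (TR1): the permutation-level hypotheses hold for
`Γ = ψ(G)`, `H = ψ(G_ω)`, `n = |Ω|`.
-/

set_option autoImplicit false

namespace Cfsg.Agent.Lib.H3.S3571TR1

open Equiv

theorem tr1 : Cfsg.Agent.Lib.H9.S3571.TR1Stmt := by
  intro G Ω _ _ _ _ _ T hT m hm eT hprim hΩ r hr hrd hmax ψ hψ hψT ω
  have hnt : Nontrivial Ω := by
    rw [← Finite.one_lt_card_iff_nontrivial]
    omega
  have htr : MulAction.IsPretransitive G Ω := hprim.toIsPretransitive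
  have hco : IsCoatom (MulAction.stabilizer G ω) :=
    MulAction.IsPreprimitive.isCoatom_stabilizer_of_isPreprimitive (G := G) (X := Ω) ω
  refine ⟨hm, ?_, ?_, ?_, ?_, ?_, hr, hrd, hmax⟩
  · -- A_m ≤ range
    intro a ha
    refine ⟨((eT.symm ⟨a, ha⟩ : ↥T) : G), ?_⟩
    rw [hψT, MulEquiv.apply_symm_apply]
  · exact Subgroup.map_le_range ψ _
  · -- maximality
    intro L hHL hLΓ
    have h1 : MulAction.stabilizer G ω ≤ L.comap ψ := by
      intro s hs
      rw [Subgroup.mem_comap]
      exact hHL (Subgroup.mem_map_of_mem ψ hs)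
    have h2 : (L.comap ψ).map ψ = L := Subgroup.map_comap_eq_self hLΓ
    rcases eq_or_lt_of_le h1 with h3 | h3
    · left
      rw [← h2, ← h3]
    · right
      have h4 : L.comap ψ = ⊤ := hco.2 _ h3
      rw [← h2, h4, MonoidHom.range_eq_map]
  · -- ¬ A_m ≤ H
    intro hA
    have hTs : ∀ t : ↥T, (t : G) ∈ MulAction.stabilizer G ω := by
      intro t
      have h1 : ψ (t : G) ∈ (MulAction.stabilizer G ω).map ψ := by
        rw [hψT]
        exact hA (eT t).2
      obtain ⟨s, hs, hst⟩ := h1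
      rw [← hψ hst]
      exact hs
    have hfix : ∀ (t : ↥T) (x : Ω), (t : G) • x = x := by
      intro t x
      obtain ⟨g, rfl⟩ := MulAction.exists_smul_eq G ω x
      have h1 : g⁻¹ * (t : G) * g⁻¹⁻¹ ∈ T := hT.conj_mem _ t.2 g⁻¹
      have h2 := hTs ⟨_, h1⟩
      rw [MulAction.mem_stabilizer_iff] at h2
      change (g⁻¹ * (t : G) * g⁻¹⁻¹) • ω = ω at h2
      rw [inv_inv, mul_smul, mul_smul] at h2
      have h3 := congrArg (fun y => g • y) h2
      simp only [smul_inv_smul] at h3
      exact h3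
    have hnt' : Nontrivial ↥(alternatingGroup (Fin m)) :=
      alternatingGroup.nontrivial_of_three_le_card (by rw [Nat.card_fin]; omega)
    obtain ⟨a, ha⟩ := exists_ne (1 : ↥(alternatingGroup (Fin m)))
    apply ha
    have h1 : ((eT.symm a : ↥T) : G) = 1 := by
      apply eq_of_smul_eq_smul (α := Ω)
      intro x
      rw [hfix, one_smul]
    have h2 : (eT.symm a : ↥T) = 1 := Subtype.ext h1
    have h3 := congrArg eT h2
    rw [MulEquiv.apply_symm_apply, map_one] at h3
    exact h3
  · -- orbit-stabiliser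
    have h1 : Nat.card ↥ψ.range = Nat.card G :=
      (Nat.card_congr (MonoidHom.ofInjective hψ).toEquiv).symm
    have h2 : Nat.card ↥((MulAction.stabilizer G ω).map ψ)
        = Nat.card ↥(MulAction.stabilizer G ω) := Subgroup.card_map_of_injective hψ
    have h3 : (MulAction.stabilizer G ω).index = Nat.card Ω :=
      MulAction.index_stabilizer_of_transitive G ω
    have h4 := Subgroup.card_mul_index (MulAction.stabilizer G ω)
    rw [h1, h2, ← h4, h3, mul_comm]

end Cfsg.Agent.Lib.H3.S3571TR1
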