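import Mathlib
import Cfsg.Agent.Lib.H9.S3776Defs

/-!
# S3776: LEMMA E applied to `T = G ⧸ J` for a GENERAL `J = C_G(K)` (brick for helper5's R23)

Adapted from helper16's landed `Lib/H16/S3776R3` (there `J = K`).  With `b (gJ, v) = [k_v, g]`
(`k_v ∈ K` a square root of `v`), LEMMA E gives: for `g ∉ J` every `k ∈ K` commuting with `g` lies in `V`.
-/

set_option autoImplicit false

namespace Cfsg.Agent.Lib.H3.S3776LEJ

open Cfsg.Agent.Lib.H9.S3776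

universe u

variable {G : Type u} [Group G] {V K J : Subgroup G}

/-- the elementwise facts on `(V, K, J)` used below -/
structure Ctx (V K J : Subgroup G) : Prop where
  Vmem : ∀ x : G, x ∈ V ↔ x ^ 2 = 1
  Vcen : ∀ v ∈ V, ∀ g : G, g * v = v * g
  Kmem : ∀ x : G, x ∈ K ↔ (x ^ 2 ∈ V ∧ ∀ g : G, x * g * x⁻¹ * g⁻¹ ∈ V)
  Kab : ∀ a ∈ K, ∀ b ∈ K, a * b = b * a
  sq : ∀ v ∈ V, ∃ k ∈ K, k ^ 2 = v
  Jmem : ∀ x : G, x ∈ J ↔ ∀ k ∈ K, x * k = k * x

namespace Ctx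

variable (c : Ctx V K J)
include c

theorem comm_mem {k : G} (hk : k ∈ K) (g : G) : k * g * k⁻¹ * g⁻¹ ∈ V := ((c.Kmem k).1 hk).2 g

theorem sq_mem {k : G} (hk : k ∈ K) : k ^ 2 ∈ V := ((c.Kmem k).1 hk).1

theorem v_mul_self {v : G} (hv : v ∈ V) : v * v = 1 := by
  have := (c.Vmem v).1 hv
  rwa [pow_two] at this

/-- `[k, g h] = [k, g] [k, h]` -/
theorem comm_mul_right {k : G} (hk : k ∈ K) (g h : G) :
    k * (g * h) * k⁻¹ * (g * h)⁻¹ = (k * g * k⁻¹ * g⁻¹) * (k * h * k⁻¹ * h⁻¹) := by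
  have hz := c.Vcen _ (c.comm_mem hk h) g
  calc k * (g * h) * k⁻¹ * (g * h)⁻¹
      = (k * g * k⁻¹ * g⁻¹) * (g * (k * h * k⁻¹ * h⁻¹)) * g⁻¹ := by group
    _ = (k * g * k⁻¹ * g⁻¹) * ((k * h * k⁻¹ * h⁻¹) * g) * g⁻¹ := by rw [hz]
    _ = (k * g * k⁻¹ * g⁻¹) * (k * h * k⁻¹ * h⁻¹) := by group

/-- `[k k', g] = [k, g] [k', g]` -/
theorem comm_mul_left {k k' : G} (hk : k ∈ K) (hk' : k' ∈ K) (g : G) :
    (k * k') * g * (k * k')⁻¹ * g⁻¹ = (k * g * k⁻¹ * g⁻¹) * (k' * g * k'⁻¹ * g⁻¹) := by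
  have hz := c.Vcen _ (c.comm_mem hk' g) k
  have hz2 := c.Vcen _ (c.comm_mem hk' g) (k * g * k⁻¹ * g⁻¹)
  calc (k * k') * g * (k * k')⁻¹ * g⁻¹
      = k * (k' * g * k'⁻¹ * g⁻¹) * (g * k⁻¹ * g⁻¹) := by group
    _ = (k' * g * k'⁻¹ * g⁻¹) * k * (g * k⁻¹ * g⁻¹) := by rw [hz]
    _ = (k' * g * k'⁻¹ * g⁻¹) * (k * g * k⁻¹ * g⁻¹) := by group
    _ = (k * g * k⁻¹ * g⁻¹) * (k' * g * k'⁻¹ * g⁻¹) := hz2.symm

/-- `[k, g]` depends only on `k²` -/
theorem comm_indep {k k' : G} (hk : k ∈ K) (hk' : k' ∈ K) (h : k ^ 2 = k' ^ 2) (g : G) :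
    k * g * k⁻¹ * g⁻¹ = k' * g * k'⁻¹ * g⁻¹ := by
  have h1 : k * k'⁻¹ = k'⁻¹ * k := c.Kab k hk k'⁻¹ (K.inv_mem hk')
  have h2 : (k'⁻¹ * k) ^ 2 = 1 := by
    calc (k'⁻¹ * k) ^ 2 = k'⁻¹ * (k * k'⁻¹) * k := by rw [pow_two]; group
      _ = k'⁻¹ * (k'⁻¹ * k) * k := by rw [h1]
      _ = (k' ^ 2)⁻¹ * k ^ 2 := by rw [pow_two, pow_two]; group
      _ = 1 := by rw [h, inv_mul_cancel]
  have hzV : k'⁻¹ * k ∈ V := (c.Vmem _).2 h2
  have hzc : g * (k'⁻¹ * k) = (k'⁻¹ * k) * g := c.Vcen _ hzV g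
  calc k * g * k⁻¹ * g⁻¹ = k' * ((k'⁻¹ * k) * g) * (k'⁻¹ * k)⁻¹ * k'⁻¹ * g⁻¹ := by group
    _ = k' * (g * (k'⁻¹ * k)) * (k'⁻¹ * k)⁻¹ * k'⁻¹ * g⁻¹ := by rw [hzc]
    _ = k' * g * k'⁻¹ * g⁻¹ := by group

/-- `g²` centralises `K`, so lies in `J` -/
theorem sq_in_J (g : G) : g * g ∈ J := by
  rw [c.Jmem]
  intro k hk
  have hzV := c.comm_mem hk g
  have hzz := c.v_mul_self hzV
  have hzc := c.Vcen _ hzV g
  have h1 : k * g = (k * g * k⁻¹ * g⁻¹) * (g * k) := by group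
  symm
  calc k * (g * g) = (k * g) * g := by group
    _ = (k * g * k⁻¹ * g⁻¹) * (g * k) * g := by rw [← h1]
    _ = (k * g * k⁻¹ * g⁻¹) * g * (k * g) := by group
    _ = (k * g * k⁻¹ * g⁻¹) * g * ((k * g * k⁻¹ * g⁻¹) * (g * k)) := by rw [← h1]
    _ = (k * g * k⁻¹ * g⁻¹) * (g * (k * g * k⁻¹ * g⁻¹)) * (g * k) := by group
    _ = (k * g * k⁻¹ * g⁻¹) * ((k * g * k⁻¹ * g⁻¹) * g) * (g * k) := by rw [hzc]
    _ = ((k * g * k⁻¹ * g⁻¹) * (k * g * k⁻¹ * g⁻¹)) * g * (g * k) := by group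
    _ = g * g * k := by rw [hzz]; group

/-- the chosen square root of `v` in `K` -/
noncomputable def rt (v : ↥V) : G := Classical.choose (c.sq v v.2)

theorem rt_mem (v : ↥V) : c.rt v ∈ K := (Classical.choose_spec (c.sq v v.2)).1

theorem rt_sq (v : ↥V) : (c.rt v) ^ 2 = v := (Classical.choose_spec (c.sq v v.2)).2

/-- `b₀ g v = [k_v, g]` -/
noncomputable def b0 (g : G) (v : ↥V) : ↥V :=
  ⟨c.rt v * g * (c.rt v)⁻¹ * g⁻¹, c.comm_mem (c.rt_mem v) g⟩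

theorem b0_eq {k : G} (hk : k ∈ K) (v : ↥V) (hkv : k ^ 2 = v) (g : G) :
    ((c.b0 g v : ↥V) : G) = k * g * k⁻¹ * g⁻¹ :=
  c.comm_indep (c.rt_mem v) hk ((c.rt_sq v).trans hkv.symm) g

theorem b0_mul_left (g h : G) (v : ↥V) : c.b0 (g * h) v = c.b0 g v * c.b0 h v :=
  Subtype.ext (c.comm_mul_right (c.rt_mem v) g h)

theorem b0_mul_right (g : G) (v w : ↥V) : c.b0 g (v * w) = c.b0 g v * c.b0 g w := by
  apply Subtype.ext
  have hk : c.rt v * c.rt w ∈ K := K.mul_mem (c.rt_mem v) (c.rt_mem w)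
  have hsq : (c.rt v * c.rt w) ^ 2 = ((v * w : ↥V) : G) := by
    have h1 := c.Kab _ (c.rt_mem w) _ (c.rt_mem v)
    calc (c.rt v * c.rt w) ^ 2 = c.rt v * (c.rt w * c.rt v) * c.rt w := by rw [pow_two]; group
      _ = c.rt v * (c.rt v * c.rt w) * c.rt w := by rw [h1]
      _ = (c.rt v) ^ 2 * (c.rt w) ^ 2 := by rw [pow_two, pow_two]; group
      _ = ((v * w : ↥V) : G) := by rw [c.rt_sq, c.rt_sq]; rfl
  rw [c.b0_eq hk (v * w) hsq g, c.comm_mul_left (c.rt_mem v) (c.rt_mem w) g]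
  rfl

theorem b0_of_mem_J {g : G} (hg : g ∈ J) (v : ↥V) : c.b0 g v = 1 := by
  apply Subtype.ext
  show c.rt v * g * (c.rt v)⁻¹ * g⁻¹ = 1
  rw [← (c.Jmem g).1 hg _ (c.rt_mem v)]
  group

end Ctx

variable [hJn : J.Normal]

/-- `b` on `G ⧸ J` -/
noncomputable def bq (c : Ctx V K J) (t : G ⧸ J) (v : ↥V) : ↥V :=
  Quotient.liftOn' t (fun g => c.b0 g v) (by
    intro g g' hgg
    rw [QuotientGroup.leftRel_apply] at hgg
    have : g' = g * (g⁻¹ * g') := by group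
    show c.b0 g v = c.b0 g' v
    rw [this, c.b0_mul_left, c.b0_of_mem_J hgg, mul_one])

theorem bq_mk (c : Ctx V K J) (g : G) (v : ↥V) : bq c (QuotientGroup.mk g) v = c.b0 g v := rfl

/-- **LEMMA E for `G ⧸ J`**: for `g ∉ J`, `C_K(g) ≤ V`. -/
theorem lej : ∀ (G E : Type u) [Group G] [Finite G] [Group E] [Finite E] (φ : E →* MulAut G)
    (V K J : Subgroup G), LemEMulStmt.{u} → Resid φ V K → JData φ K J →
    (∀ G1 : Subgroup G, J ≤ G1 → Inv φ G1 → G1 = J ∨ G1 = ⊤) →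
    ∀ g : G, g ∉ J → ∀ k ∈ K, k * g = g * k → k ∈ V := by
  intro G E _ _ _ _ φ V K J hE r j hirr
  haveI : J.Normal := j.nor
  have c : Ctx V K J := ⟨r.fr.mem, r.fr.cen, r.kd.mem, r.ab, r.sq, j.mem⟩
  let aV : E → ↥V → ↥V := fun e v => ⟨φ e v, r.fr.inv e v v.2⟩
  have hJcomap : ∀ e : E, J ≤ J.comap ((φ e : G ≃* G) : G →* G) := fun e x hx => j.inv e x hx
  let aT : E → G ⧸ J → G ⧸ J :=
    fun e => QuotientGroup.map J J ((φ e : G ≃* G) : G →* G) (hJcomap e)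
  have haT_mk : ∀ e g, aT e (QuotientGroup.mk g) = QuotientGroup.mk (φ e g) := fun e g => rfl
  have h1 : ∀ v : ↥V, v * v = 1 := fun v => Subtype.ext (c.v_mul_self v.2)
  have h2 : ∀ t : G ⧸ J, t * t = 1 := by
    intro t
    refine QuotientGroup.induction_on t (fun g => ?_)
    show (QuotientGroup.mk (g * g) : G ⧸ J) = 1
    exact (QuotientGroup.eq_one_iff _).2 (c.sq_in_J g)
  have h3 : ∀ e v w, aV e (v * w) = aV e v * aV e w :=
    fun e v w => Subtype.ext (map_mul (φ e) (v : G) (w : G))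
  have h4 : ∀ e f v, aV (e * f) v = aV e (aV f v) := fun e f v => Subtype.ext (by
    show φ (e * f) (v : G) = φ e (φ f (v : G))
    rw [map_mul]; rfl)
  have h5 : ∀ v, aV 1 v = v := fun v => Subtype.ext (by
    show φ 1 (v : G) = (v : G)
    rw [map_one]; rfl)
  have h6 : ∀ e t s, aT e (t * s) = aT e t * aT e s := fun e t s => map_mul _ t s
  have h7 : ∀ e f t, aT (e * f) t = aT e (aT f t) := by
    intro e f t
    refine QuotientGroup.induction_on t (fun g => ?_)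
    rw [haT_mk, haT_mk, haT_mk, map_mul]; rfl
  have h8 : ∀ t, aT 1 t = t := by
    intro t
    refine QuotientGroup.induction_on t (fun g => ?_)
    rw [haT_mk, map_one]; rfl
  have h9 : ∃ v w : ↥V, v ≠ 1 ∧ w ≠ 1 ∧ v ≠ w := by
    obtain ⟨x, y, hx, hy, hxy, hx1, hy1⟩ := r.fr.two
    exact ⟨⟨x, hx⟩, ⟨y, hy⟩, fun h => hx1 (congrArg Subtype.val h),
      fun h => hy1 (congrArg Subtype.val h), fun h => hxy (congrArg Subtype.val h)⟩
  have h10 : ∀ v w : ↥V, v ≠ 1 → w ≠ 1 → ∃ e, aV e v = w := by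
    intro v w hv hw
    obtain ⟨e, he⟩ := r.fr.trans v w v.2 w.2 (fun h => hv (Subtype.ext h))
      (fun h => hw (Subtype.ext h))
    exact ⟨e, Subtype.ext he⟩
  have h11 : ∀ S : Subgroup (G ⧸ J), (∀ e, ∀ t ∈ S, aT e t ∈ S) → S = ⊥ ∨ S = ⊤ := by
    intro S hS
    have hG1 := hirr (S.comap (QuotientGroup.mk' J)) (by
      intro k hk
      show (QuotientGroup.mk' J) k ∈ S
      have : (QuotientGroup.mk' J) k = 1 := (QuotientGroup.eq_one_iff k).2 hk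
      rw [this]; exact S.one_mem) (by
      intro e g hg
      show QuotientGroup.mk' J (φ e g) ∈ S
      exact hS e _ hg)
    rcases hG1 with h | h
    · left
      rw [eq_bot_iff]
      intro t
      refine QuotientGroup.induction_on t (fun g => ?_)
      intro ht
      have h' : g ∈ S.comap (QuotientGroup.mk' J) := ht
      rw [h] at h'
      rw [Subgroup.mem_bot]
      exact (QuotientGroup.eq_one_iff g).2 h'
    · right
      rw [eq_top_iff]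
      intro t _
      refine QuotientGroup.induction_on t (fun g => ?_)
      have h' : g ∈ S.comap (QuotientGroup.mk' J) := by rw [h]; trivial
      exact h'
  have h12 : ∀ t s v, bq c (t * s) v = bq c t v * bq c s v := by
    intro t s v
    refine QuotientGroup.induction_on t (fun g => ?_)
    refine QuotientGroup.induction_on s (fun h => ?_)
    exact c.b0_mul_left g h v
  have h13 : ∀ t v w, bq c t (v * w) = bq c t v * bq c t w := by
    intro t v w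
    refine QuotientGroup.induction_on t (fun g => ?_)
    exact c.b0_mul_right g v w
  have h14 : ∀ e t v, bq c (aT e t) (aV e v) = aV e (bq c t v) := by
    intro e t v
    refine QuotientGroup.induction_on t (fun g => ?_)
    show c.b0 (φ e g) (aV e v) = aV e (c.b0 g v)
    apply Subtype.ext
    have hk : φ e (c.rt v) ∈ K := r.kd.inv e _ (c.rt_mem v)
    have hsq : (φ e (c.rt v)) ^ 2 = ((aV e v : ↥V) : G) := by
      rw [← map_pow, c.rt_sq]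
    rw [c.b0_eq hk (aV e v) hsq (φ e g)]
    show _ = φ e (c.rt v * g * (c.rt v)⁻¹ * g⁻¹)
    simp only [map_mul, map_inv]
  have h15 : ∃ t v, bq c t v ≠ 1 := by
    obtain ⟨g, hg⟩ : ∃ g : G, g ∉ J := by
      by_contra hall
      push Not at hall
      apply j.ne
      rw [eq_top_iff]
      intro x _
      exact hall x
    have hnot : ¬ ∀ k ∈ K, g * k = k * g := fun h => hg ((c.Jmem g).2 h)
    push Not at hnot
    obtain ⟨k, hk, hne⟩ := hnot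
    refine ⟨QuotientGroup.mk g, ⟨k ^ 2, c.sq_mem hk⟩, ?_⟩
    intro h
    have h1' : ((c.b0 g ⟨k ^ 2, c.sq_mem hk⟩ : ↥V) : G) = 1 := congrArg Subtype.val h
    rw [c.b0_eq hk ⟨k ^ 2, c.sq_mem hk⟩ rfl g] at h1'
    apply hne
    have : k * g = g * k := by
      calc k * g = (k * g * k⁻¹ * g⁻¹) * (g * k) := by group
        _ = g * k := by rw [h1', one_mul]
    exact this.symm
  have H := hE E ↥V (G ⧸ J) aV aT (bq c) r.hyp.solv h1 h2 h3 h4 h5 h6 h7 h8 h9 h10 h11 h12 h13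
    h14 h15
  intro g hg k hk hkg
  have ht : (QuotientGroup.mk g : G ⧸ J) ≠ 1 :=
    fun h => hg ((QuotientGroup.eq_one_iff g).1 h)
  by_contra hkV
  have hv1 : (⟨k ^ 2, c.sq_mem hk⟩ : ↥V) ≠ 1 := by
    intro h
    have h' : k ^ 2 = 1 := congrArg Subtype.val h
    exact hkV ((c.Vmem k).2 h')
  apply H _ _ ht hv1
  apply Subtype.ext
  show ((c.b0 g ⟨k ^ 2, c.sq_mem hk⟩ : ↥V) : G) = 1
  rw [c.b0_eq hk ⟨k ^ 2, c.sq_mem hk⟩ rfl g, hkg]
  group

end Cfsg.Agent.Lib.H3.S3776LEJ
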