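import Mathlib
import Cfsg.Agent.Lib.H16.PGroupCenter

/-!
# S3776, step 2a (helper9's frame): `Z(K1) ≤ V` forces `G / V` elementary abelian

`G` a finite `2`-group, `V` the (central) subgroup of all involutions, `K1` the set of all `x` with
`x ^ 2 ∈ V` and `⁅x, g⁆ ∈ V` for all `g` (the preimage of `Ω₁ Z(G / V)`).  If every element of `K1`
commuting with all of `K1` lies in `V`, then all squares and all commutators of `G` lie in `V`.
-/

set_option autoImplicit false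

universe u

namespace Cfsg.Agent.Lib.H3.S3776S2A

open scoped commutatorElement

variable {G : Type u} [Group G]

/-- the set `K1` -/
def K1set (V : Subgroup G) : Set G := {x | x ^ 2 ∈ V ∧ ∀ g : G, ⁅x, g⁆ ∈ V}

theorem normal_of_central (V : Subgroup G) (hVc : ∀ v ∈ V, ∀ g : G, g * v = v * g) : V.Normal := by
  refine ⟨fun v hv g => ?_⟩
  rw [hVc v hv g]
  simpa using hv

theorem K1set_conj (V : Subgroup G) (hVc : ∀ v ∈ V, ∀ g : G, g * v = v * g) {k : G}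
    (hk : k ∈ K1set V) (n : G) : n⁻¹ * k * n ∈ K1set V := by
  have hVn := normal_of_central V hVc
  refine ⟨?_, fun g => ?_⟩
  · have h1 : (n⁻¹ * k * n) ^ 2 = n⁻¹ * k ^ 2 * (n⁻¹)⁻¹ := by
      rw [pow_two, pow_two]; group
    rw [h1]
    exact hVn.conj_mem _ hk.1 _
  · have h1 : ⁅n⁻¹ * k * n, g⁆ = n⁻¹ * ⁅k, n * g * n⁻¹⁆ * (n⁻¹)⁻¹ := by
      simp only [commutatorElement_def]; group
    rw [h1]
    exact hVn.conj_mem _ (hk.2 _) _

/-- the centraliser of `K1` is normal -/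
theorem centralizer_normal (V : Subgroup G) (hVc : ∀ v ∈ V, ∀ g : G, g * v = v * g) :
    (Subgroup.centralizer (K1set V)).Normal := by
  refine ⟨fun c hc n => ?_⟩
  rw [Subgroup.mem_centralizer_iff] at hc ⊢
  intro k hk
  have h1 := hc _ (K1set_conj V hVc hk n)
  calc k * (n * c * n⁻¹) = n * ((n⁻¹ * k * n) * c) * n⁻¹ := by group
    _ = n * (c * (n⁻¹ * k * n)) * n⁻¹ := by rw [h1]
    _ = n * c * n⁻¹ * k := by group

/-- for `k ∈ K1`, `g ↦ ⁅k, g⁆` is multiplicative -/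
theorem comm_mul (V : Subgroup G) (hVc : ∀ v ∈ V, ∀ g : G, g * v = v * g) {k : G}
    (hk : ∀ g : G, ⁅k, g⁆ ∈ V) (g h : G) : ⁅k, g * h⁆ = ⁅k, g⁆ * ⁅k, h⁆ := by
  have hc := hVc _ (hk h) g⁻¹
  calc ⁅k, g * h⁆ = k * g * k⁻¹ * (⁅k, h⁆ * g⁻¹) := by
        simp only [commutatorElement_def]; group
    _ = k * g * k⁻¹ * (g⁻¹ * ⁅k, h⁆) := by rw [hc]
    _ = ⁅k, g⁆ * ⁅k, h⁆ := by simp only [commutatorElement_def]; group

/-- the hom `g ↦ ⁅k, g⁆` into `V` -/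
def comHom (V : Subgroup G) (hVc : ∀ v ∈ V, ∀ g : G, g * v = v * g) (k : G)
    (hk : ∀ g : G, ⁅k, g⁆ ∈ V) : G →* V :=
  MonoidHom.mk' (fun g => ⟨⁅k, g⁆, hk g⟩) (fun g h => Subtype.ext (comm_mul V hVc hk g h))

theorem comHom_eq_one_iff (V : Subgroup G) (hVc : ∀ v ∈ V, ∀ g : G, g * v = v * g) (k : G)
    (hk : ∀ g : G, ⁅k, g⁆ ∈ V) (g : G) : comHom V hVc k hk g = 1 ↔ k * g = g * k := by
  rw [Subtype.ext_iff]
  show ⁅k, g⁆ = 1 ↔ _
  rw [commutatorElement_eq_one_iff_mul_comm]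

theorem V_comm (V : Subgroup G) (hVc : ∀ v ∈ V, ∀ g : G, g * v = v * g) (a b : V) :
    a * b = b * a := Subtype.ext (hVc b.1 b.2 a.1)

/-- squares and commutators centralise `K1` -/
theorem sq_mem_centralizer (V : Subgroup G) (hV : ∀ x : G, x ∈ V ↔ x ^ 2 = 1)
    (hVc : ∀ v ∈ V, ∀ g : G, g * v = v * g) (g : G) :
    g ^ 2 ∈ Subgroup.centralizer (K1set V) := by
  rw [Subgroup.mem_centralizer_iff]
  intro k hk
  rw [← comHom_eq_one_iff V hVc k hk.2, map_pow]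
  apply Subtype.ext
  have := (hV _).1 (comHom V hVc k hk.2 g).2
  simpa using this

theorem comm_mem_centralizer (V : Subgroup G)
    (hVc : ∀ v ∈ V, ∀ g : G, g * v = v * g) (g h : G) :
    ⁅g, h⁆ ∈ Subgroup.centralizer (K1set V) := by
  rw [Subgroup.mem_centralizer_iff]
  intro k hk
  rw [← comHom_eq_one_iff V hVc k hk.2, map_commutatorElement,
    commutatorElement_eq_one_iff_mul_comm]
  exact V_comm V hVc _ _

/-- an element `≠ 1` of a `2`-group has a power which is an involution -/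
theorem exists_pow_involution {Q : Type*} [Group Q] (hQ : IsPGroup 2 Q) (y : Q) (hy : y ≠ 1) :
    ∃ j : ℕ, y ^ j ≠ 1 ∧ (y ^ j) ^ 2 = 1 := by
  classical
  have hex : ∃ j : ℕ, y ^ 2 ^ j = 1 := hQ y
  have hj := Nat.find_spec hex
  have hmin := fun m => Nat.find_min hex (m := m)
  set j := Nat.find hex with hjdef
  have hj0 : j ≠ 0 := by
    intro h0
    rw [h0] at hj
    simp at hj
    exact hy hj
  obtain ⟨i, hi⟩ := Nat.exists_eq_succ_of_ne_zero hj0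
  refine ⟨2 ^ i, ?_, ?_⟩
  · intro h
    exact hmin i (by omega) h
  · rw [← pow_mul, ← pow_succ, ← Nat.succ_eq_add_one, ← hi]
    exact hj

/-- `C_G(K1) ≤ V` as soon as `Z(K1) ≤ V` -/
theorem centralizer_le [Finite G] (hG : IsPGroup 2 G) (V : Subgroup G)
    (hVc : ∀ v ∈ V, ∀ g : G, g * v = v * g)
    (hZK : ∀ x : G, x ^ 2 ∈ V → (∀ g : G, ⁅x, g⁆ ∈ V) →
      (∀ k : G, k ^ 2 ∈ V → (∀ g : G, ⁅k, g⁆ ∈ V) → x * k = k * x) → x ∈ V) :
    Subgroup.centralizer (K1set V) ≤ V := by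
  have hVn := normal_of_central V hVc
  have hCn := centralizer_normal V hVc
  by_contra hle
  obtain ⟨c, hcC, hcV⟩ := SetLike.not_le_iff_exists.1 hle
  have hQ : IsPGroup 2 (G ⧸ V) := hG.to_quotient V
  set N : Subgroup (G ⧸ V) := (Subgroup.centralizer (K1set V)).map (QuotientGroup.mk' V)
    with hNdef
  have hNn : N.Normal := Subgroup.Normal.map hCn _ (QuotientGroup.mk'_surjective V)
  have hNb : N ≠ ⊥ := by
    intro hb
    have h1 : (QuotientGroup.mk' V) c ∈ N := Subgroup.mem_map_of_mem _ hcC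
    rw [hb, Subgroup.mem_bot] at h1
    exact hcV ((QuotientGroup.eq_one_iff c).1 h1)
  obtain ⟨y, hyN, hy1, hyZ⟩ :=
    Cfsg.Agent.Lib.H16.exists_ne_one_mem_center_of_normal' Nat.prime_two hQ N hNb
  obtain ⟨j, hj1, hj2⟩ := exists_pow_involution hQ y hy1
  have hzN : y ^ j ∈ N := pow_mem hyN j
  have hzZ : y ^ j ∈ Subgroup.center (G ⧸ V) := pow_mem hyZ j
  obtain ⟨x, hxC, hxz⟩ := hzN
  have hxV : x ∉ V := by
    intro h
    apply hj1
    rw [← hxz]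
    exact (QuotientGroup.eq_one_iff x).2 h
  have hx2 : x ^ 2 ∈ V := by
    rw [← QuotientGroup.eq_one_iff]
    have : ((x ^ 2 : G) : G ⧸ V) = ((QuotientGroup.mk' V) x) ^ 2 := rfl
    rw [this, hxz, hj2]
  have hxc : ∀ g : G, ⁅x, g⁆ ∈ V := by
    intro g
    rw [← QuotientGroup.eq_one_iff]
    have : ((⁅x, g⁆ : G) : G ⧸ V) = ⁅(QuotientGroup.mk' V) x, (QuotientGroup.mk' V) g⁆ :=
      map_commutatorElement (QuotientGroup.mk' V) x g
    rw [this, hxz, commutatorElement_eq_one_iff_mul_comm]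
    exact (Subgroup.mem_center_iff.1 hzZ _).symm
  apply hxV
  refine hZK x hx2 hxc (fun k hk2 hkc => ?_)
  exact ((Subgroup.mem_centralizer_iff.1 hxC) k ⟨hk2, hkc⟩).symm

/-- **Step 2a.** -/
theorem step2a [Finite G] (hG : IsPGroup 2 G) (V : Subgroup G)
    (hV : ∀ x : G, x ∈ V ↔ x ^ 2 = 1)
    (hVc : ∀ v ∈ V, ∀ g : G, g * v = v * g)
    (hZK : ∀ x : G, x ^ 2 ∈ V → (∀ g : G, ⁅x, g⁆ ∈ V) →
      (∀ k : G, k ^ 2 ∈ V → (∀ g : G, ⁅k, g⁆ ∈ V) → x * k = k * x) → x ∈ V) :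
    (∀ g : G, g ^ 2 ∈ V) ∧ (∀ g h : G, ⁅g, h⁆ ∈ V) :=
  ⟨fun g => centralizer_le hG V hVc hZK (sq_mem_centralizer V hV hVc g),
   fun g h => centralizer_le hG V hVc hZK (comm_mem_centralizer V hVc g h)⟩

end Cfsg.Agent.Lib.H3.S3776S2A
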