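import Mathlib
import Cfsg.Agent.Lib.H9.S3776Defs
import Cfsg.Agent.Lib.H3.S3776S2A
import Cfsg.Agent.Lib.H1.PGroupBasic

/-!
# S3776, piece (10) S2A in the exact shape of the cut `Cfsg.Agent.Lib.H9.S3776.S2AStmt`
-/

set_option autoImplicit false

universe u

namespace Cfsg.Agent.Lib.H3.S3776S2AW

open scoped commutatorElement
open Cfsg.Agent.Lib.H9.S3776

theorem s2a : S2AStmt.{u} := by
  intro G E _ _ _ _ φ V K hyp fr hZ kd hnc hZK
  have hfact : Fact (Nat.Prime 2) := ⟨Nat.prime_two⟩
  -- squares and commutators lie in `V`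
  obtain ⟨hsq, hcomm⟩ := Cfsg.Agent.Lib.H3.S3776S2A.step2a hyp.pG V fr.mem fr.cen (by
    intro x hx2 hxc hxk
    exact hZK x ((kd.mem x).2 ⟨hx2, hxc⟩)
      (fun k' hk' => hxk k' ((kd.mem k').1 hk').1 ((kd.mem k').1 hk').2))
  -- the centre is `V`
  have hcen : ∀ x : G, x ∈ Subgroup.center G ↔ x ^ 2 = 1 := by
    intro x
    constructor
    · exact hZ x
    · intro hx
      rw [Subgroup.mem_center_iff]
      exact fr.cen x ((fr.mem x).2 hx)
  have hcenV : Subgroup.center G = V := by
    ext x
    rw [hcen, fr.mem]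
  -- the derived subgroup is `V`
  have hcV : commutator G ≤ V := by
    rw [commutator_eq_closure, Subgroup.closure_le]
    rintro x ⟨a, b, rfl⟩
    exact hcomm a b
  have hcinv : Inv φ (commutator G) := by
    intro e h hh
    have hchar : (commutator G).Characteristic := inferInstance
    exact (Subgroup.characteristic_iff_le_comap.1 hchar (φ e)) hh
  have hcne : commutator G ≠ ⊥ := by
    intro hb
    obtain ⟨a, b, hab⟩ := hnc
    apply hab
    have h1 : ⁅a, b⁆ ∈ commutator G := by
      rw [commutator_def]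
      exact Subgroup.commutator_mem_commutator (Subgroup.mem_top a) (Subgroup.mem_top b)
    rw [hb, Subgroup.mem_bot] at h1
    exact commutatorElement_eq_one_iff_mul_comm.1 h1
  have hcom_eq : commutator G = V := (fr.irr _ hcV hcinv).resolve_left hcne
  -- the Frattini subgroup is `V`
  have hf1 : frattini G ≤ V :=
    Cfsg.Agent.Lib.H1.frattini_le_of_commutator_le_of_pow_mem (p := 2) V hcV hsq
  have hf2 : V ≤ frattini G := by
    rw [← hcom_eq]
    exact Cfsg.Agent.Lib.H1.isPGroup_commutator_le_frattini hyp.pG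
  have hfrat : frattini G = V := le_antisymm hf1 hf2
  exact ⟨by rw [hcom_eq, hfrat], by rw [hfrat, hcenV], hcen⟩

example : S2AStmt.{0} := s2a

end Cfsg.Agent.Lib.H3.S3776S2AW
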