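import Mathlib

/-!
# S3797, MAIN LEMMA, piece (M2) (helper3): commuting `κ`-preserving involutions

`U`, `V` additive groups of exponent 2, `κ : U → V` an anisotropic quadratic map with polar form `β`.
For a set `W1` of pairwise commuting additive involutions of `U` preserving `κ`, the subgroup
`M` generated by all `u + g u` (`g ∈ W1`) is fixed pointwise by `W1`, totally isotropic for `β`,
and `κ` is additive and injective on it.
-/

set_option autoImplicit false

namespace Cfsg.Agent.Lib.H3.S3797M2

variable {U V : Type*} [AddCommGroup U] [AddCommGroup V]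

/-- an anisotropic quadratic map between groups of exponent 2, with its polar form -/
structure QData (κ : U → V) (β : U → U → V) : Prop where
  hU2 : ∀ u : U, u + u = 0
  hV2 : ∀ v : V, v + v = 0
  pol : ∀ u w : U, κ (u + w) = κ u + κ w + β u w
  addL : ∀ u u' w : U, β (u + u') w = β u w + β u' w
  aniso : ∀ u : U, κ u = 0 → u = 0

namespace QData

variable {κ : U → V} {β : U → U → V} (h : QData κ β)
include h

theorem symm (u w : U) : β u w = β w u := by
  have h1 := h.pol u w
  have h2 := h.pol w u
  rw [add_comm w u] at h2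
  have : κ u + κ w + β u w = κ w + κ u + β w u := by rw [← h1, ← h2]
  rw [add_comm (κ w) (κ u)] at this
  exact add_left_cancel this

theorem addR (u w w' : U) : β u (w + w') = β u w + β u w' := by
  rw [h.symm u (w + w'), h.addL, h.symm w u, h.symm w' u]

theorem zeroL (w : U) : β 0 w = 0 := by
  have := h.addL 0 0 w
  rw [add_zero] at this
  exact left_eq_add.mp this

theorem kappa_zero : κ 0 = 0 := by
  have := h.pol 0 0
  rw [add_zero, h.zeroL] at this
  have h2 : κ (0 : U) + κ 0 = κ 0 + (κ 0 + κ 0) := by
    rw [add_zero] at this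
    nth_rewrite 1 [this]
    rw [add_assoc]
  rw [h.hV2] at h2
  exact (by rw [add_zero] at h2; exact h2.symm)

theorem self (u : U) : β u u = 0 := by
  have := h.pol u u
  rw [h.hU2, h.kappa_zero, h.hV2, zero_add] at this
  exact this.symm

theorem neg_eq (u : U) : -u = u := by
  have := h.hU2 u
  exact neg_eq_of_add_eq_zero_left this

theorem eq_of_add_eq_zero {x y : U} (hxy : x + y = 0) : y = x := by
  have := neg_eq_of_add_eq_zero_right hxy
  rw [h.neg_eq] at this
  exact this.symm

/-- invariance of the polar form under a `κ`-preserving additive map -/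
theorem beta_inv (g : U →+ U) (hg : ∀ u, κ (g u) = κ u) (u w : U) : β (g u) (g w) = β u w := by
  have h1 := h.pol (g u) (g w)
  rw [← map_add, hg, hg, hg, h.pol u w] at h1
  exact (add_left_cancel h1).symm

/-- `κ (u + g u) = β u (g u)` -/
theorem kappa_one_add (g : U →+ U) (hg : ∀ u, κ (g u) = κ u) (u : U) :
    κ (u + g u) = β u (g u) := by
  rw [h.pol, hg, h.hV2, zero_add]

/-- `κ` is additive on the range of `1 + g` for a `κ`-preserving additive involution `g`. -/
theorem kappa_add_range (g : U →+ U) (hg : ∀ u, κ (g u) = κ u) (hg2 : ∀ u, g (g u) = u)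
    (u w : U) : κ ((u + g u) + (w + g w)) = κ (u + g u) + κ (w + g w) := by
  have e : (u + g u) + (w + g w) = (u + w) + g (u + w) := by rw [map_add]; abel
  rw [e, h.kappa_one_add g hg, h.kappa_one_add g hg, h.kappa_one_add g hg, map_add, h.addL,
    h.addR, h.addR]
  have c : β w (g u) = β u (g w) := by
    rw [← h.beta_inv g hg w (g u), hg2, h.symm]
  rw [c]
  have := h.hV2 (β u (g w))
  calc β u (g u) + β u (g w) + (β u (g w) + β w (g w))
      = β u (g u) + (β u (g w) + β u (g w)) + β w (g w) := by abel
    _ = β u (g u) + β w (g w) := by rw [this, add_zero]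

/-- a commuting `κ`-preserving additive map fixes the range of `1 + g` pointwise. -/
theorem fix_range (g k : U →+ U) (hg : ∀ u, κ (g u) = κ u) (hg2 : ∀ u, g (g u) = u)
    (hk : ∀ u, κ (k u) = κ u) (hgk : ∀ u, g (k u) = k (g u)) (u : U) :
    k (u + g u) = u + g u := by
  have e : k (u + g u) = k u + g (k u) := by rw [map_add, hgk]
  have h1 : κ ((u + g u) + (k u + g (k u))) = 0 := by
    rw [h.kappa_add_range g hg hg2, ← e, hk, h.hV2]
  have h2 := h.aniso _ h1
  rw [e]
  exact h.eq_of_add_eq_zero h2

end QData

/-- the subgroup generated by the ranges of `1 + g`, `g ∈ W1` -/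
def commSub (W1 : Set (U →+ U)) : AddSubgroup U :=
  AddSubgroup.closure {x | ∃ g ∈ W1, ∃ u : U, x = u + g u}

section main

variable {κ : U → V} {β : U → U → V} (h : QData κ β) (W1 : Set (U →+ U))
  (hpres : ∀ g ∈ W1, ∀ u, κ (g u) = κ u) (hinv : ∀ g ∈ W1, ∀ u, g (g u) = u)
  (hcomm : ∀ g ∈ W1, ∀ k ∈ W1, ∀ u, g (k u) = k (g u))
include h hpres hinv hcomm

/-- `W1` fixes `M = commSub W1` pointwise. -/
theorem fix_commSub (k : U →+ U) (hk : k ∈ W1) (x : U) (hx : x ∈ commSub W1) : k x = x := by
  induction hx using AddSubgroup.closure_induction with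
  | mem x hx =>
    obtain ⟨g, hg, u, rfl⟩ := hx
    exact h.fix_range g k (hpres g hg) (hinv g hg) (hpres k hk) (hcomm g hg k hk) u
  | zero => exact map_zero k
  | add x y _ _ hx hy => rw [map_add, hx, hy]
  | neg x _ hx => rw [map_neg, hx]

/-- `M` is totally isotropic. -/
theorem beta_commSub (x y : U) (hx : x ∈ commSub W1) (hy : y ∈ commSub W1) : β x y = 0 := by
  induction hx using AddSubgroup.closure_induction with
  | mem x hx =>
    obtain ⟨g, hg, u, rfl⟩ := hx
    have hgy : g y = y := fix_commSub h W1 hpres hinv hcomm g hg y hy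
    have e : β (g u) y = β u y := by
      have := h.beta_inv g (hpres g hg) (g u) y
      rw [hinv g hg, hgy] at this
      exact this.symm
    rw [h.addL, e, h.hV2]
  | zero => exact h.zeroL y
  | add x x' _ _ hx hx' => rw [h.addL, hx, hx', add_zero]
  | neg x _ hx => rw [h.neg_eq]; exact hx

/-- `κ` is additive on `M`. -/
theorem kappa_add_commSub (x y : U) (hx : x ∈ commSub W1) (hy : y ∈ commSub W1) :
    κ (x + y) = κ x + κ y := by
  rw [h.pol, beta_commSub h W1 hpres hinv hcomm x y hx hy, add_zero]

/-- `κ` is injective on `M`. -/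
theorem kappa_inj_commSub (x y : U) (hx : x ∈ commSub W1) (hy : y ∈ commSub W1)
    (hxy : κ x = κ y) : x = y := by
  have h1 : κ (x + y) = 0 := by
    rw [kappa_add_commSub h W1 hpres hinv hcomm x y hx hy, hxy, h.hV2]
  exact (h.eq_of_add_eq_zero (h.aniso _ h1)).symm

end main

end Cfsg.Agent.Lib.H3.S3797M2
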