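import Cfsg.Agent.Lib.H3.S3797M2
import Cfsg.Agent.Lib.H5.S3797MLDefs

/-!
# S3797, MAIN LEMMA, piece (M2) in helper5's exact sub-cut shape (helper3), wrapper over `S3797M2`.
-/

set_option autoImplicit false

namespace Cfsg.Agent.Lib.H3.S3797M2W

open Cfsg.Agent.Lib.H5.S3797ML Cfsg.Agent.Lib.H3.S3797M2

universe u

theorem m2 : M2Stmt.{u} := by
  intro U V _ _ κ β W hQ hI
  have hD : QData κ β :=
    ⟨hQ.two_U, hQ.two_V, hQ.polar, hQ.add_left, hQ.anis⟩
  -- the additive maps attached to `W`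
  let W1 : Set (U →+ U) := {f | (f : U → U) ∈ W}
  have hpres : ∀ g ∈ W1, ∀ u, κ (g u) = κ u := fun g hg u => hI.pres _ hg u
  have hinv : ∀ g ∈ W1, ∀ u, g (g u) = u := fun g hg u => hI.invol _ hg u
  have hcomm : ∀ g ∈ W1, ∀ k ∈ W1, ∀ u, g (k u) = k (g u) :=
    fun g hg k hk u => hI.comm _ hg _ hk u
  have hM : Mof W = commSub W1 := by
    unfold Mof commSub
    congr 1
    ext y
    constructor
    · rintro ⟨g, hg, x, rfl⟩
      exact ⟨AddMonoidHom.mk' g (hI.add g hg), hg, x, rfl⟩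
    · rintro ⟨g, hg, x, rfl⟩
      exact ⟨(g : U → U), hg, x, rfl⟩
  refine ⟨?_, ?_⟩
  · intro m hm g hg
    rw [hM] at hm
    exact fix_commSub hD W1 hpres hinv hcomm (AddMonoidHom.mk' g (hI.add g hg)) hg m hm
  · intro m hm m' hm'
    rw [hM] at hm hm'
    exact beta_commSub hD W1 hpres hinv hcomm m m' hm hm'

example : M2Stmt.{0} := m2

end Cfsg.Agent.Lib.H3.S3797M2W
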