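import Cfsg.Agent.Lib.H3.S3797M2
import Cfsg.Agent.Lib.H5.S3797MLDefs

/-!
# S3797, MAIN LEMMA, piece (M4) = the END GAME, exact sub-cut shape (helper3)

For a non-identity `g ∈ W` the additive map `θ_g x = x + g x` has kernel exactly `M = Mof W`
(if `θ_g x₁ = m₁ ≠ 0` and `θ_g y = 0` then `β m₁ y = 0`), hence range `M` by counting.  For `x ∉ M`
and a second non-identity `h ∈ W` pick `y` with `θ_g y = θ_h x =: m'`; then `β m' (x + y) = 0`, so
`x + y ∈ M`, `θ_g x = θ_g y = θ_h x`.  (The action of `E` is not needed.)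
-/

set_option autoImplicit false

namespace Cfsg.Agent.Lib.H3.S3797M4

open Cfsg.Agent.Lib.H5.S3797ML Cfsg.Agent.Lib.H3.S3797M2

universe u

theorem m4 : M4Stmt.{u} := by
  intro U V _ _ _ _ κ β W I a b hQ hI _hA hfix hiso hcU hcM _hsurj hker g hg h hh hgx hhx x
  have hD : QData κ β :=
    ⟨hQ.two_U, hQ.two_V, hQ.polar, hQ.add_left, hQ.anis⟩
  -- the additive maps `θ f x = x + f x`
  have hθadd : ∀ f ∈ W, ∀ x y : U, (x + y) + f (x + y) = (x + f x) + (y + f y) := by
    intro f hf x y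
    rw [hI.add f hf]; abel
  let θ : ∀ f ∈ W, U →+ U := fun f hf => AddMonoidHom.mk' (fun x => x + f x) (hθadd f hf)
  have θ_apply : ∀ f (hf : f ∈ W) (x : U), θ f hf x = x + f x := fun _ _ _ => rfl
  have T1 : ∀ f (hf : f ∈ W) (x : U), θ f hf x ∈ Mof W := by
    intro f hf x
    exact AddSubgroup.subset_closure ⟨f, hf, x, rfl⟩
  have T2 : ∀ f (hf : f ∈ W) (x : U), β (θ f hf x) x = κ (θ f hf x) := by
    intro f hf x
    rw [θ_apply f hf, hD.addL, hD.self, zero_add, hD.symm]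
    have := hD.kappa_one_add (AddMonoidHom.mk' f (hI.add f hf)) (hI.pres f hf) x
    exact this.symm
  have T3 : ∀ f (hf : f ∈ W) (m : U), m ∈ Mof W → θ f hf m = 0 := by
    intro f hf m hm
    rw [θ_apply f hf, hfix m hm f hf, hD.hU2]
  -- kernel of `θ f` for a non-identity `f`
  have T5 : ∀ f (hf : f ∈ W), (∃ x : U, f x ≠ x) → ∀ y : U, θ f hf y = 0 → y ∈ Mof W := by
    intro f hf ⟨x₁, hx₁⟩ y hy
    have hm₁ : θ f hf x₁ ≠ 0 := by
      intro h0
      rw [θ_apply f hf] at h0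
      exact hx₁ (hD.eq_of_add_eq_zero h0)
    have e1 := T2 f hf (x₁ + y)
    rw [map_add, hy, add_zero, hD.addR, T2 f hf x₁] at e1
    have e2 : β (θ f hf x₁) y = 0 := by
      have := e1
      exact add_eq_left.mp this
    exact hker _ (T1 f hf x₁) hm₁ y e2
  have Tker : ∀ f (hf : f ∈ W), (∃ x : U, f x ≠ x) → (θ f hf).ker = Mof W := by
    intro f hf hne
    ext y
    rw [AddMonoidHom.mem_ker]
    exact ⟨T5 f hf hne y, T3 f hf y⟩
  have Trange : ∀ f (hf : f ∈ W), (∃ x : U, f x ≠ x) → (θ f hf).range = Mof W := by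
    intro f hf hne
    have hle : (θ f hf).range ≤ Mof W := by
      rintro _ ⟨x, rfl⟩
      exact T1 f hf x
    apply AddSubgroup.eq_of_le_of_card_ge hle
    have h1 := AddSubgroup.card_mul_index (θ f hf).ker
    rw [AddSubgroup.index_ker, Tker f hf hne, hcU, hcM, pow_two] at h1
    have hVpos : 0 < Nat.card V := Nat.card_pos
    have h2 : Nat.card (θ f hf).range = Nat.card V := Nat.eq_of_mul_eq_mul_left hVpos h1
    rw [hcM, h2]
  by_cases hxM : x ∈ Mof W
  · rw [hfix x hxM g hg, hfix x hxM h hh]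
  · -- `m' = θ h x ≠ 0`
    have hm' : θ h hh x ≠ 0 := fun h0 => hxM (T5 h hh hhx x h0)
    have hm'M : θ h hh x ∈ Mof W := T1 h hh x
    have hr : θ h hh x ∈ (θ g hg).range := by rw [Trange g hg hgx]; exact hm'M
    obtain ⟨y, hy⟩ := hr
    have e1 : β (θ h hh x) y = κ (θ h hh x) := by
      have := T2 g hg y
      rw [hy] at this
      exact this
    have e2 : β (θ h hh x) x = κ (θ h hh x) := T2 h hh x
    have e3 : β (θ h hh x) (x + y) = 0 := by
      rw [hD.addR, e1, e2, hD.hV2]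
    have hxy : x + y ∈ Mof W := hker _ hm'M hm' (x + y) e3
    have e4 := T3 g hg (x + y) hxy
    rw [map_add, hy] at e4
    have e5 : θ h hh x = θ g hg x := hD.eq_of_add_eq_zero e4
    rw [θ_apply h hh, θ_apply g hg] at e5
    exact (add_left_cancel e5).symm

example : M4Stmt.{0} := m4

end Cfsg.Agent.Lib.H3.S3797M4
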