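import Mathlib
import Cfsg.Agent.Lib.H27.S3814C1Defs
import Cfsg.Agent.Lib.H12.S3814MPLine

/-!
# S3814, Case 1 (helper27's sub-cut), piece A0UNIQ: `A0 = C_X(M)` has at most one subgroup of prime order
-/

set_option autoImplicit false

universe u

namespace Cfsg.Agent.Lib.H3.S3814C1A0Uniq

open Cfsg.Agent.H7.S3814Defs Cfsg.Agent.H27.S3814C1 Cfsg.Agent.Lib.H8.S3814MP
open Cfsg.Agent.Lib.H12.S3814MPLine

theorem a0uniq : A0UniqStmt.{u} := by
  intro G _ σ p V K c M X t t' h hA0P y hy z hz hcy hcz hyP hoz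
  haveI := h.c0.cex.fin
  set q := orderOf y with hq
  haveI : Fact q.Prime := ⟨hyP⟩
  have hcP : c.Prime := h.c0.hc
  have hXK : X ≤ K := h.compl.le
  have hMK : M ≤ K := h.c0.hMK
  by_contra hzy
  -- `A0 = C_X(M)`
  let A0 : Subgroup G := X ⊓ Subgroup.centralizer (M : Set G)
  have hA0mem : ∀ w : G, w ∈ A0 ↔ w ∈ X ∧ Cent w M := by
    intro w
    constructor
    · intro hw
      have hw' := Subgroup.mem_inf.1 hw
      exact ⟨hw'.1, fun m hm => (Subgroup.mem_centralizer_iff.1 hw'.2 m hm).symm⟩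
    · rintro ⟨h1, h2⟩
      refine Subgroup.mem_inf.2 ⟨h1, ?_⟩
      rw [Subgroup.mem_centralizer_iff]
      intro m hm
      exact (h2 m hm).symm
  have hyA : y ∈ A0 := (hA0mem y).2 ⟨hy, hcy⟩
  have hzA : z ∈ A0 := (hA0mem z).2 ⟨hz, hcz⟩
  have hy1 : y ≠ 1 := by
    intro e
    rw [hq, e, orderOf_one] at hyP
    exact Nat.not_prime_one hyP
  -- `A0` is a `q`-group
  have hA0q : IsPGroup q A0 := by
    have hcard : Nat.card A0 = q ^ (Nat.card A0).primeFactorsList.length := by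
      apply Nat.eq_prime_pow_of_unique_prime_dvd Nat.card_pos.ne'
      intro d hd hdvd
      haveI : Fact d.Prime := ⟨hd⟩
      obtain ⟨w, hw⟩ := exists_prime_orderOf_dvd_card' (G := A0) d hdvd
      have hwA : (w : G) ∈ A0 := w.2
      have hwo : orderOf (w : G) = d := by rw [Subgroup.orderOf_coe]; exact hw
      have := hA0P y hy (w : G) ((hA0mem _).1 hwA).1 hcy ((hA0mem _).1 hwA).2 hyP
        (by rw [hwo]; exact hd)
      rw [hwo] at this
      exact this.symm
    exact IsPGroup.of_card hcard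
  -- a central element of order `q`
  haveI : Nontrivial A0 := ⟨⟨⟨y, hyA⟩, 1, fun e => hy1 (congrArg Subtype.val e)⟩⟩
  haveI := hA0q.center_nontrivial
  obtain ⟨z0, hz0⟩ := exists_ne (1 : Subgroup.center A0)
  have hz0A : ((z0 : A0) : G) ∈ A0 := (z0 : A0).2
  have hz01 : ((z0 : A0) : G) ≠ 1 := by
    intro e
    apply hz0
    apply Subtype.ext
    apply Subtype.ext
    exact e
  have hz0c : ∀ w ∈ A0, w * ((z0 : A0) : G) = ((z0 : A0) : G) * w := by
    intro w hw
    have := Subgroup.mem_center_iff.1 z0.2 ⟨w, hw⟩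
    exact congrArg Subtype.val this
  -- its power of order `q`
  have hqdvd : q ∣ orderOf ((z0 : A0) : G) := by
    obtain ⟨k, hk⟩ := hA0q (z0 : A0)
    have hk' : ((z0 : A0) : G) ^ q ^ k = 1 := by
      have := congrArg Subtype.val hk
      simpa using this
    have hdvd : orderOf ((z0 : A0) : G) ∣ q ^ k := orderOf_dvd_of_pow_eq_one hk'
    obtain ⟨j, -, hj⟩ := (Nat.dvd_prime_pow hyP).1 hdvd
    have hj0 : j ≠ 0 := by
      intro e
      rw [e, pow_zero] at hj
      exact hz01 (orderOf_eq_one_iff.1 hj)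
    rw [hj]
    exact dvd_pow_self q hj0
  set z1 : G := ((z0 : A0) : G) ^ (orderOf ((z0 : A0) : G) / q) with hz1def
  have hoz1 : orderOf z1 = q := orderOf_pow_orderOf_div (orderOf_pos _).ne' hqdvd
  have hz1A : z1 ∈ A0 := A0.pow_mem hz0A _
  have hz1c : ∀ w ∈ A0, z1 * w = w * z1 := by
    intro w hw
    have hc : Commute ((z0 : A0) : G) w := (hz0c w hw).symm
    exact (hc.pow_left _).eq
  -- a rank 2 pair `(z1, b)` in `A0`
  obtain ⟨b, hbA, hob, hbz1⟩ : ∃ b ∈ A0, orderOf b = q ∧ b ∉ Subgroup.zpowers z1 := by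
    by_cases hyz1 : y ∈ Subgroup.zpowers z1
    · refine ⟨z, hzA, hoz, ?_⟩
      intro hzz1
      apply hzy
      have hle : Subgroup.zpowers y ≤ Subgroup.zpowers z1 := Subgroup.zpowers_le.2 hyz1
      have hge : Nat.card (Subgroup.zpowers z1) ≤ Nat.card (Subgroup.zpowers y) := by
        rw [Nat.card_zpowers, Nat.card_zpowers, hoz1]
      rw [Subgroup.eq_of_le_of_card_ge hle hge]
      exact hzz1
    · exact ⟨y, hyA, rfl, hyz1⟩
  have hpair : IsRank2Pair q z1 b := ⟨hoz1, hob, hz1c b hbA, hbz1⟩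
  have hz1X := (hA0mem z1).1 hz1A
  have hbX := (hA0mem b).1 hbA
  -- the good element of `M`
  obtain ⟨x, hx, hox, hgood⟩ := h.good
  have hgood' : ∃ v ∈ V, v ≠ 1 ∧ x * v = v * x := by
    by_contra hne
    push Not at hne
    apply hgood
    intro v hv hxv
    by_contra hv1
    exact hne v hv hv1 hxv
  obtain ⟨v₀, hv₀V, hv₀1, hxv₀⟩ := hgood'
  let U : Subgroup G := V ⊓ Subgroup.centralizer ({x} : Set G)
  have hUmem : ∀ u : G, u ∈ U ↔ u ∈ V ∧ x * u = u * x := by
    intro u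
    constructor
    · intro hu
      have hu' := Subgroup.mem_inf.1 hu
      exact ⟨hu'.1, Subgroup.mem_centralizer_iff.1 hu'.2 x (Set.mem_singleton x)⟩
    · rintro ⟨hu1, hu2⟩
      refine Subgroup.mem_inf.2 ⟨hu1, ?_⟩
      rw [Subgroup.mem_centralizer_iff]
      intro w hw
      rw [Set.mem_singleton_iff] at hw
      subst hw
      exact hu2
  have hU1 : U ≠ ⊥ := by
    intro hb'
    have : v₀ ∈ U := (hUmem v₀).2 ⟨hv₀V, hxv₀⟩
    rw [hb', Subgroup.mem_bot] at this
    exact hv₀1 this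
  have hVn : V.Normal := h.c0.shape.normal
  have hinvU : ∀ w : G, w * x = x * w → ∀ u ∈ U, w * u * w⁻¹ ∈ U := by
    intro w hwx u hu
    rw [hUmem] at hu ⊢
    refine ⟨hVn.conj_mem u hu.1 w, ?_⟩
    have hwi : x * w⁻¹ = w⁻¹ * x := by
      calc x * w⁻¹ = w⁻¹ * (w * x) * w⁻¹ := by group
        _ = w⁻¹ * (x * w) * w⁻¹ := by rw [hwx]
        _ = w⁻¹ * x := by group
    calc x * (w * u * w⁻¹) = (x * w) * u * w⁻¹ := by group
      _ = w * (x * u) * w⁻¹ := by rw [← hwx]; group
      _ = w * (u * x) * w⁻¹ := by rw [hu.2]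
      _ = w * u * (x * w⁻¹) := by group
      _ = w * u * (w⁻¹ * x) := by rw [hwi]
      _ = w * u * w⁻¹ * x := by group
  -- coprimality
  have hclK : Subgroup.closure ({z1, b} : Set G) ≤ K := by
    rw [Subgroup.closure_le]
    intro w hw
    rcases hw with rfl | hw
    · exact hXK hz1X.1
    · rw [Set.mem_singleton_iff.1 hw]; exact hXK hbX.1
  have hVp : IsPGroup p V := by
    intro v
    refine ⟨1, ?_⟩
    rw [pow_one]
    exact Subtype.ext (h.c0.shape.elem.2 v v.2)
  haveI : Fact p.Prime := ⟨h.c0.cex.prime p h.c0.shape.hp⟩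
  obtain ⟨n, hn⟩ := (IsPGroup.iff_card).1 hVp
  have hcop : (Nat.card (Subgroup.closure ({z1, b} : Set G))).Coprime (Nat.card U) := by
    have h1 : Nat.card (Subgroup.closure ({z1, b} : Set G)) ∣ Nat.card K :=
      Subgroup.card_dvd_of_le hclK
    have h2 : Nat.card U ∣ Nat.card V := Subgroup.card_dvd_of_le inf_le_left
    have h3 : (Nat.card K).Coprime (Nat.card V) := by
      rw [hn]
      exact Nat.Coprime.pow_right _ h.c0.shape.coprime
    exact Nat.Coprime.coprime_dvd_left h1 (Nat.Coprime.coprime_dvd_right h2 h3)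
  obtain ⟨e, heE, he1, v, hvU, hv1, hev⟩ := line_core hyP hpair U hU1 hcop
    (hinvU z1 (hz1X.2 x hx)) (hinvU b (hbX.2 x hx))
  have hvU' := (hUmem v).1 hvU
  -- the element `x * e` of order `c * q`
  have hex : e * x = x * e :=
    commute_of_mem_closure_pair (hz1X.2 x hx) (hbX.2 x hx) heE
  have hoe : orderOf e = q := by
    have hat : z1 ^ q = 1 := by rw [← hoz1]; exact pow_orderOf_eq_one z1
    have hbt : b ^ q = 1 := by rw [← hob]; exact pow_orderOf_eq_one b
    exact orderOf_eq_prime (pow_eq_one_of_mem_closure_pair (hz1c b hbA) hat hbt heE) he1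
  have hqc : q ≠ c := by
    intro e'
    have hdvd : orderOf y ∣ Nat.card X := Subgroup.orderOf_dvd_natCard X hy
    rw [← hq, e'] at hdvd
    have : c ∣ Nat.gcd (Nat.card X) c := Nat.dvd_gcd hdvd dvd_rfl
    rw [h.compl.cop] at this
    exact hcP.one_lt.ne' (Nat.dvd_one.1 this)
  have hord : orderOf (x * e) = c * q := by
    rw [(show Commute x e from hex.symm).orderOf_mul_eq_mul_orderOf_of_coprime
      (by rw [hox, hoe]; exact (Nat.coprime_primes hcP hyP).2 hqc.symm), hox, hoe]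
  have hqK : q ∣ Nat.card K := (Subgroup.orderOf_dvd_natCard K (hXK hy))
  have hqσ := h.c0.kf.primes q hyP hqK
  have hfpf : Fpf (x * e) V :=
    h.c0.kf.n1 (x * e) (K.mul_mem (hMK hx) (hclK heE)) c h.oth.hc q hqσ.1 h.oth.cp hqσ.2 hqc.symm
      (by rw [hord])
  apply hv1
  apply hfpf v hvU'.1
  calc x * e * v = x * (e * v) := by group
    _ = x * (v * e) := by rw [hev]
    _ = (x * v) * e := by group
    _ = (v * x) * e := by rw [hvU'.2]
    _ = v * (x * e) := by group

example : A0UniqStmt.{0} := a0uniq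

end Cfsg.Agent.Lib.H3.S3814C1A0Uniq
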