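import Mathlib
import Cfsg.Agent.Lib.H27.S3814C1Defs

/-!
# S3814, Case 1 (helper27's sub-cut), piece A6: for a `tt'`-element `uw` of `X` exactly one part
centralises `M`, the other is fixed-point-free on `M`
-/

set_option autoImplicit false

universe u

namespace Cfsg.Agent.Lib.H3.S3814C1A6

open Cfsg.Agent.H7.S3814Defs Cfsg.Agent.H27.S3814C1

theorem a6 : A6Stmt.{u} := by
  intro G _ σ p V K c M X t t' h hG1 hA4 hA5 u hu w hw huw hou how
  have hcex := h.c0.cex
  have oth := h.oth
  have hcP : c.Prime := h.c0.hc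
  have htP : t.Prime := hcex.prime t oth.ht
  have ht'P : t'.Prime := hcex.prime t' oth.ht'
  haveI : Fact c.Prime := ⟨hcP⟩
  have hXK : X ≤ K := h.compl.le
  have hMK : M ≤ K := h.c0.hMK
  have hordM : ∀ m ∈ M, m ≠ 1 → orderOf m = c :=
    fun m hm hm1 => orderOf_eq_prime (h.c0.hMe.2 m hm) hm1
  -- (a) no common fixed point
  have hcommon : ∀ m ∈ M, u * m = m * u → w * m = m * w → m = 1 := by
    intro m hm hum hwm
    by_contra hm1
    have hom := hordM m hm hm1
    have h1 : orderOf (u * w) = t * t' := by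
      rw [(show Commute u w from huw).orderOf_mul_eq_mul_orderOf_of_coprime
        (by rw [hou, how]; exact (Nat.coprime_primes htP ht'P).2 oth.tt'), hou, how]
    have hc1 : Commute m (u * w) := by
      have h2 : Commute m u := (show Commute u m from hum).symm
      have h3 : Commute m w := (show Commute w m from hwm).symm
      exact h2.mul_right h3
    have hcop : Nat.Coprime c (t * t') :=
      Nat.Coprime.mul_right ((Nat.coprime_primes hcP htP).2 oth.tc.symm)
        ((Nat.coprime_primes hcP ht'P).2 oth.t'c.symm)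
    have h4 : orderOf (m * (u * w)) = c * t * t' := by
      rw [hc1.orderOf_mul_eq_mul_orderOf_of_coprime (by rw [hom, h1]; exact hcop), hom, h1,
        mul_assoc]
    exact hcex.notriple c oth.hc t oth.ht t' oth.ht' oth.tc.symm oth.tt' oth.t'c.symm _ h4
  by_cases hfix : ∃ m ∈ M, m ≠ 1 ∧ u * m = m * u
  · -- `u` is bad, hence centralises `M`
    obtain ⟨m, hm, hm1, hum⟩ := hfix
    left
    have hbad : Fpf u V := by
      refine hG1 u (hXK hu) m (hMK hm) w (hXK hw) (by rw [hou]; exact htP)
        (by rw [hordM m hm hm1]; exact hcP) (by rw [how]; exact ht'P) ?_ ?_ ?_ hum huw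
      · rw [hou, hordM m hm hm1]; exact oth.tc
      · rw [hou, how]; exact oth.tt'
      · rw [hordM m hm hm1, how]; exact oth.t'c.symm
    have hcent : Cent u M := hA4 u hu (by rw [hou]; exact htP) hbad
    refine ⟨hcent, ?_⟩
    intro m' hm' hwm'
    exact hcommon m' hm' (hcent m' hm') hwm'
  · push Not at hfix
    right
    refine ⟨?_, fun m hm hum => by
      by_contra hm1
      exact hfix m hm hm1 hum⟩
    intro m hm
    obtain ⟨m₁, hm₁, m₂, hm₂, hmm, hum₁, hwm₂⟩ := hA5 u hu w hw huw hou how m hm
    have hm₁1 : m₁ = 1 := by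
      by_contra hne
      exact hfix m₁ hm₁ hne hum₁
    rw [hmm, hm₁1, one_mul]
    exact hwm₂

example : A6Stmt.{0} := a6

end Cfsg.Agent.Lib.H3.S3814C1A6
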