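import Mathlib
import Cfsg.Agent.Lib.H8.S3814MPDefs

/-!
# S3814, block (MP), piece (6) K3b (helper8's cut): `T = ⟨c,d⟩` does not centralise `A = ⟨a,b⟩`
-/

set_option autoImplicit false

universe u

namespace Cfsg.Agent.Lib.H3.S3814MPK3b

open Cfsg.Agent.H7.S3814Defs Cfsg.Agent.Lib.H8.S3814MP

variable {G : Type u} [Group G]

/-- elements of `⟨a, b⟩` commute with `a` and `b` -/
theorem closure_pair_le_centralizer {a b : G} (hab : a * b = b * a) :
    Subgroup.closure ({a, b} : Set G) ≤ Subgroup.centralizer ({a, b} : Set G) := by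
  rw [Subgroup.closure_le]
  intro x hx
  rw [SetLike.mem_coe, Subgroup.mem_centralizer_iff]
  intro h hh
  rcases hx with rfl | rfl <;> rcases hh with rfl | rfl
  · rfl
  · exact hab.symm
  · exact hab
  · rfl

/-- `⟨a, b⟩` is commutative -/
theorem closure_pair_comm {a b : G} (hab : a * b = b * a) :
    ∀ x ∈ Subgroup.closure ({a, b} : Set G), ∀ y ∈ Subgroup.closure ({a, b} : Set G),
      x * y = y * x := by
  intro x hx y hy
  have hy' := Subgroup.mem_centralizer_iff.1 (closure_pair_le_centralizer hab hy)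
  have hle : Subgroup.closure ({a, b} : Set G) ≤ Subgroup.centralizer ({y} : Set G) := by
    rw [Subgroup.closure_le]
    intro z hz
    rw [SetLike.mem_coe, Subgroup.mem_centralizer_iff]
    intro h hh
    rw [Set.mem_singleton_iff] at hh
    subst hh
    exact (hy' z hz).symm
  have := Subgroup.mem_centralizer_iff.1 (hle hx) y (Set.mem_singleton y)
  exact this.symm

/-- `⟨a, b⟩` has exponent `t` -/
theorem closure_pair_pow {a b : G} {t : ℕ} (hab : a * b = b * a) (hat : a ^ t = 1)
    (hbt : b ^ t = 1) : ∀ e ∈ Subgroup.closure ({a, b} : Set G), e ^ t = 1 := by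
  intro e he
  induction he using Subgroup.closure_induction with
  | mem x hx =>
    rcases hx with rfl | rfl
    · exact hat
    · exact hbt
  | one => exact one_pow t
  | mul x y hx hy ihx ihy =>
    rw [(show Commute x y from closure_pair_comm hab x hx y hy).mul_pow, ihx, ihy, one_mul]
  | inv x hx ihx => rw [inv_pow, ihx, inv_one]

/-- nonidentity elements of a `C_t × C_t` have order `t` -/
theorem orderOf_of_mem_closure_pair {a b : G} {t : ℕ} (ht : t.Prime) (hp : IsRank2Pair t a b)
    {e : G} (he : e ∈ Subgroup.closure ({a, b} : Set G)) (he1 : e ≠ 1) : orderOf e = t := by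
  haveI : Fact t.Prime := ⟨ht⟩
  obtain ⟨hoa, hob, hab, -⟩ := hp
  have hat : a ^ t = 1 := by rw [← hoa]; exact pow_orderOf_eq_one a
  have hbt : b ^ t = 1 := by rw [← hob]; exact pow_orderOf_eq_one b
  exact orderOf_eq_prime (closure_pair_pow hab hat hbt e he) he1

theorem k3b : K3bStmt.{u} := by
  intro hL G _ _ r s V W X h a b c d ctx hall
  obtain ⟨ha, hb, hc, hd, pab, pcd, -, -, -, -⟩ := ctx
  have hinvV : ∀ x ∈ X, ∀ u ∈ V, x * u * x⁻¹ ∈ V := fun x hx u hu =>
    (Subgroup.mem_normalizer_iff.1 (h.normV hx) u).1 hu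
  -- a `V`-coloured `e ≠ 1` of `A`
  obtain ⟨e, heA, he1, v₀, hv₀V, hv₀1, hev₀⟩ :=
    @hL G _ _ r s V W X h r a b h.hr ha hb pab V le_rfl h.neV (hinvV a ha) (hinvV b hb)
  -- `U' = C_V(e)`
  let U' : Subgroup G := V ⊓ Subgroup.centralizer ({e} : Set G)
  have hU'mem : ∀ u : G, u ∈ U' ↔ u ∈ V ∧ e * u = u * e := by
    intro u
    constructor
    · intro hu
      have hu' := Subgroup.mem_inf.1 hu
      exact ⟨hu'.1, Subgroup.mem_centralizer_iff.1 hu'.2 e (Set.mem_singleton e)⟩
    · rintro ⟨hu1, hu2⟩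
      refine Subgroup.mem_inf.2 ⟨hu1, ?_⟩
      rw [Subgroup.mem_centralizer_iff]
      intro x hx
      rw [Set.mem_singleton_iff] at hx
      subst hx
      exact hu2
  have hU'V : U' ≤ V := inf_le_left
  have hU'1 : U' ≠ ⊥ := by
    intro hb'
    have : v₀ ∈ U' := (hU'mem v₀).2 ⟨hv₀V, hev₀⟩
    rw [hb', Subgroup.mem_bot] at this
    exact hv₀1 this
  have hcT : c ∈ Subgroup.closure ({c, d} : Set G) := Subgroup.subset_closure (by simp)
  have hdT : d ∈ Subgroup.closure ({c, d} : Set G) := Subgroup.subset_closure (by simp)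
  have hinvU' : ∀ x ∈ X, x * e = e * x → ∀ u ∈ U', x * u * x⁻¹ ∈ U' := by
    intro x hx hxe u hu
    rw [hU'mem] at hu ⊢
    refine ⟨hinvV x hx u hu.1, ?_⟩
    calc e * (x * u * x⁻¹) = (e * x) * u * x⁻¹ := by group
      _ = x * (e * u) * x⁻¹ := by rw [← hxe]; group
      _ = x * (u * e) * x⁻¹ := by rw [hu.2]
      _ = x * u * (e * x⁻¹) := by group
      _ = x * u * (x⁻¹ * e) := by
        have : e * x⁻¹ = x⁻¹ * e := by
          calc e * x⁻¹ = x⁻¹ * (x * e) * x⁻¹ := by group
            _ = x⁻¹ * (e * x) * x⁻¹ := by rw [hxe]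
            _ = x⁻¹ * e := by group
        rw [this]
      _ = x * u * x⁻¹ * e := by group
  obtain ⟨y, hyT, hy1, v, hvU', hv1, hyv⟩ :=
    @hL G _ _ r s V W X h s c d h.hs hc hd pcd U' hU'V hU'1
      (hinvU' c hc (hall c hcT e heA)) (hinvU' d hd (hall d hdT e heA))
  have hvU := (hU'mem v).1 hvU'
  -- orders
  have hoe : orderOf e = r := orderOf_of_mem_closure_pair h.hr pab heA he1
  have hoy : orderOf y = s := orderOf_of_mem_closure_pair h.hs pcd hyT hy1
  have hye : y * e = e * y := hall y hyT e heA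
  have hcomm : Commute e y := hye.symm
  have hord : orderOf (e * y) = r * s := by
    rw [hcomm.orderOf_mul_eq_mul_orderOf_of_coprime
      (by rw [hoe, hoy]; exact (Nat.coprime_primes h.hr h.hs).2 h.hrs), hoe, hoy]
  have heX : e ∈ X := (Subgroup.closure_le X).2 (by
    intro z hz
    rcases hz with rfl | rfl
    · exact ha
    · exact hb) heA
  have hyX : y ∈ X := (Subgroup.closure_le X).2 (by
    intro z hz
    rcases hz with rfl | rfl
    · exact hc
    · exact hd) hyT
  have hno := (h.h2 (e * y) (X.mul_mem heX hyX) hord).1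
  apply hno
  refine ⟨v, hvU.1, hv1, ?_⟩
  calc e * y * v = e * (y * v) := by group
    _ = e * (v * y) := by rw [hyv]
    _ = (e * v) * y := by group
    _ = (v * e) * y := by rw [hvU.2]
    _ = v * (e * y) := by group

example : K3bStmt.{0} := k3b

end Cfsg.Agent.Lib.H3.S3814MPK3b
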