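import Mathlib
import Cfsg.Agent.Lib.H8.S3814MPDefs

/-!
# S3814, block (MP), piece (9) K4 (helper8's cut): a normal elementary abelian `r`-subgroup of `X`
has order at most `r` and its nonidentity elements are neutral
-/

set_option autoImplicit false

universe u

namespace Cfsg.Agent.Lib.H3.S3814MPK4

open Cfsg.Agent.H7.S3814Defs Cfsg.Agent.Lib.H8.S3814MP

theorem k4 : K4Stmt.{u} := by
  intro hK1 hK2 hK3 G _ _ r s V W X h A hAX hAn hAc hAr
  haveI : Fact r.Prime := ⟨h.hr⟩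
  have hord : ∀ a ∈ A, a ≠ 1 → orderOf a = r :=
    fun a ha ha1 => orderOf_eq_prime (hAr a ha) ha1
  obtain ⟨c, hc, d, hd, pcd⟩ := h.rk_s
  -- part 1: rank at most one
  have part1 : ∀ a ∈ A, ∀ b ∈ A, a ≠ 1 → b ∈ Subgroup.zpowers a := by
    intro a ha b hb ha1
    by_contra hbz
    have hb1 : b ≠ 1 := fun e => hbz (e ▸ Subgroup.one_mem _)
    have pab : IsRank2Pair r a b := ⟨hord a ha ha1, hord b hb hb1, hAc a ha b hb, hbz⟩
    by_cases hex : ∃ g ∈ A, g ∉ Subgroup.closure ({a, b} : Set G)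
    · obtain ⟨g, hg, hgn⟩ := hex
      have hg1 : g ≠ 1 := fun e => hgn (e ▸ Subgroup.one_mem _)
      exact @hK1 G _ _ r s V W X h r a b g h.hr (hAX ha) (hAX hb) (hAX hg) (hord a ha ha1)
        (hord b hb hb1) (hord g hg hg1) (hAc a ha b hb) (hAc a ha g hg) (hAc b hb g hg) hbz hgn
    · push Not at hex
      have ctx : K3Ctx r s X a b c d :=
        ⟨hAX ha, hAX hb, hc, hd, pab, pcd, hex _ (hAn c hc a ha), hex _ (hAn c hc b hb),
          hex _ (hAn d hd a ha), hex _ (hAn d hd b hb)⟩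
      exact @hK3 G _ _ r s V W X h a b c d ctx
  refine ⟨part1, ?_⟩
  intro a ha ha1
  constructor
  · intro hcol
    exact @hK2 G _ _ r s V W X h a (hAX ha) (hord a ha ha1) hcol c d hc hd pcd
      (part1 a ha _ (hAn c hc a ha) ha1) (part1 a ha _ (hAn d hd a ha) ha1)
  · intro hcol
    exact @hK2 G _ _ r s W V X h.swapVW a (hAX ha) (hord a ha ha1) hcol c d hc hd pcd
      (part1 a ha _ (hAn c hc a ha) ha1) (part1 a ha _ (hAn d hd a ha) ha1)

example : K4Stmt.{0} := k4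

end Cfsg.Agent.Lib.H3.S3814MPK4
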