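import Mathlib
import Cfsg.Agent.Lib.H7.S3814Defs2

/-!
# S3814, piece NSTRUCT (helper7's cut): a nontrivial normal `a`-subgroup of a minimal counterexample
is elementary abelian and minimal normal
-/

set_option autoImplicit false

universe u

namespace Cfsg.Agent.Lib.H3.S3814NStruct

open Cfsg.Agent.H7.S3814Defs

theorem normalStruct : NormalStructStmt.{u} := by
  intro hNS G _ σ hcex hmin a N ha hNn hN1 hNa
  haveI := hcex.fin
  haveI : Fact a.Prime := ⟨ha⟩
  -- (1) minimal normality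
  have hminN : ∀ N' : Subgroup G, N'.Normal → N' ≤ N → N' = ⊥ ∨ N' = N := by
    intro N' hN'n hle
    by_cases hb : N' = ⊥
    · exact Or.inl hb
    right
    have hN'a : IsPGroup a N' := hNa.to_le hle
    have hidx : ¬ a ∣ N'.index := hNS G σ hcex hmin a N' ha hN'n hb hN'a
    have hrel : N'.relIndex N * N.index = N'.index := Subgroup.relIndex_mul_index hle
    obtain ⟨k, hk⟩ := (IsPGroup.iff_card).1 hNa
    have hdvd : N'.relIndex N ∣ a ^ k := by
      rw [← hk]
      exact Subgroup.index_dvd_card _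
    obtain ⟨j, -, hj⟩ := (Nat.dvd_prime_pow ha).1 hdvd
    have hj0 : j = 0 := by
      by_contra hne
      apply hidx
      rw [← hrel, hj]
      exact dvd_mul_of_dvd_left (dvd_pow_self a hne) _
    rw [hj0, pow_zero] at hj
    exact le_antisymm hle (Subgroup.relIndex_eq_one.1 hj)
  refine ⟨?_, hminN⟩
  -- (2) `N` is abelian: `Z(N)` is a nontrivial normal subgroup of `G`
  have hab : ∀ v ∈ N, ∀ w ∈ N, v * w = w * v := by
    let Z : Subgroup G := N ⊓ Subgroup.centralizer (N : Set G)
    have hZn : Z.Normal := by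
      refine ⟨fun z hz g => Subgroup.mem_inf.2 ⟨hNn.conj_mem z hz.1 g, ?_⟩⟩
      have hz := Subgroup.mem_inf.1 hz
      rw [Subgroup.mem_centralizer_iff]
      intro n hn
      have h1 : g⁻¹ * n * g ∈ N := by
        have := hNn.conj_mem n hn g⁻¹
        simpa using this
      have h2 := Subgroup.mem_centralizer_iff.1 hz.2 _ h1
      calc n * (g * z * g⁻¹) = g * ((g⁻¹ * n * g) * z) * g⁻¹ := by group
        _ = g * (z * (g⁻¹ * n * g)) * g⁻¹ := by rw [h2]
        _ = g * z * g⁻¹ * n := by group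
    have hZ1 : Z ≠ ⊥ := by
      haveI : Nontrivial N := (Subgroup.nontrivial_iff_ne_bot N).2 hN1
      haveI := hNa.center_nontrivial
      obtain ⟨z, hz⟩ := exists_ne (1 : Subgroup.center N)
      intro hb
      have hzZ : (((z : N)) : G) ∈ Z := by
        refine Subgroup.mem_inf.2 ⟨(z : N).2, ?_⟩
        rw [Subgroup.mem_centralizer_iff]
        intro n hn
        have := Subgroup.mem_center_iff.1 z.2 ⟨n, hn⟩
        exact congrArg Subtype.val this
      rw [hb, Subgroup.mem_bot] at hzZ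
      apply hz
      apply Subtype.ext
      apply Subtype.ext
      exact hzZ
    have hZN : Z = N := (hminN Z hZn inf_le_left).resolve_left hZ1
    intro v hv w hw
    have hwZ : w ∈ Z := hZN ▸ hw
    exact Subgroup.mem_centralizer_iff.1 (Subgroup.mem_inf.1 hwZ).2 v hv
  refine ⟨hab, ?_⟩
  -- (3) exponent `a`: `Ω₁(N)` is a nontrivial normal subgroup of `G`
  let Ω : Subgroup G :=
    { carrier := {v | v ∈ N ∧ v ^ a = 1}
      mul_mem' := by
        rintro v w ⟨hv, hva⟩ ⟨hw, hwa⟩
        refine ⟨N.mul_mem hv hw, ?_⟩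
        rw [(show Commute v w from hab v hv w hw).mul_pow, hva, hwa, one_mul]
      one_mem' := ⟨N.one_mem, one_pow a⟩
      inv_mem' := by
        rintro v ⟨hv, hva⟩
        exact ⟨N.inv_mem hv, by rw [inv_pow, hva, inv_one]⟩ }
  have hΩmem : ∀ v : G, v ∈ Ω ↔ v ∈ N ∧ v ^ a = 1 := fun v => Iff.rfl
  have hΩn : Ω.Normal := by
    refine ⟨fun v hv g => ?_⟩
    rw [hΩmem] at hv ⊢
    exact ⟨hNn.conj_mem v hv.1 g, by rw [conj_pow, hv.2, mul_one, mul_inv_cancel]⟩
  have hΩ1 : Ω ≠ ⊥ := by
    obtain ⟨k, hk⟩ := (IsPGroup.iff_card).1 hNa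
    have hk0 : k ≠ 0 := by
      intro e
      rw [e, pow_zero] at hk
      exact hN1 (Subgroup.card_eq_one.1 hk)
    have hdvd : a ∣ Nat.card N := by
      rw [hk]
      exact dvd_pow_self a hk0
    obtain ⟨y, hy⟩ := exists_prime_orderOf_dvd_card' (G := N) a hdvd
    intro hb
    have hyΩ : (y : G) ∈ Ω := by
      rw [hΩmem]
      refine ⟨y.2, ?_⟩
      have h1 : y ^ a = 1 := by rw [← hy]; exact pow_orderOf_eq_one y
      have := congrArg Subtype.val h1
      simpa using this
    rw [hb, Subgroup.mem_bot] at hyΩ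
    have hy1 : y = 1 := Subtype.ext hyΩ
    rw [hy1, orderOf_one] at hy
    exact ha.one_lt.ne hy
  have hΩle : Ω ≤ N := fun v hv => ((hΩmem v).1 hv).1
  have hΩN : Ω = N := (hminN Ω hΩn hΩle).resolve_left hΩ1
  intro v hv
  have hvΩ : v ∈ Ω := hΩN ▸ hv
  exact ((hΩmem v).1 hvΩ).2

example : NormalStructStmt.{0} := normalStruct

end Cfsg.Agent.Lib.H3.S3814NStruct
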