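import Mathlib

/-!
# S3901: cut into pieces (helper3)

`N` nontrivial normal in `G`, all elements outside `N` of prime power order, `G ⧸ N` NOT solvable
⟹ `N` is a `p`-group.  Pieces, each stated in Mathlib terms only.
-/

set_option autoImplicit false

universe u

namespace Cfsg.Agent.Lib.H3.S3901

/-- (0) the centraliser in `N` of a `p`-element outside `N` consists of `p`-elements. -/
def CentStmt : Prop :=
  ∀ (G : Type u) [Group G] [Finite G] (N : Subgroup G),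
    (∀ x : G, x ∉ N → IsPrimePow (orderOf x)) →
    ∀ (x : G) (p : ℕ), p.Prime → x ∉ N → (∃ k : ℕ, orderOf x = p ^ k) →
    ∀ n ∈ N, x * n = n * x → ∃ j : ℕ, orderOf n = p ^ j

/-- (1) a nonsolvable finite group all of whose nontrivial elements have prime power order contains
two commuting elements of order `p` generating a noncyclic group. -/
def Rank2Stmt : Prop :=
  ∀ (X : Type u) [Group X] [Finite X],
    (∀ g : X, g ≠ 1 → IsPrimePow (orderOf g)) → ¬ Group.IsSolvable X →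
    ∃ (p : ℕ) (a b : X), p.Prime ∧ orderOf a = p ∧ orderOf b = p ∧ a * b = b * a ∧
      b ∉ Subgroup.zpowers a

/-- (5) Lemma NC: a "`C_p × C_p`" acting on an abelian group without `p`-torsion, all nonidentity elements
fixed-point-freely, forces the group to be trivial.  (Conjugation form inside `G`.) -/
def NCStmt : Prop :=
  ∀ (G : Type u) [Group G] (W : Subgroup G) (p : ℕ) (a b : G), p.Prime →
    (∀ u ∈ W, ∀ v ∈ W, u * v = v * u) →
    (∀ w ∈ W, a * w * a⁻¹ ∈ W) → (∀ w ∈ W, b * w * b⁻¹ ∈ W) →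
    (∀ w ∈ W, a ^ p * w = w * a ^ p) → (∀ w ∈ W, b ^ p * w = w * b ^ p) →
    (∀ w ∈ W, (a * b * a⁻¹ * b⁻¹) * w = w * (a * b * a⁻¹ * b⁻¹)) →
    (∀ i j : ℕ, ¬ (p ∣ i ∧ p ∣ j) → ∀ w ∈ W, (a ^ i * b ^ j) * w = w * (a ^ i * b ^ j) → w = 1) →
    (∀ w ∈ W, w ^ p = 1 → w = 1) → W = ⊥

/-- (3) a minimal supplement `H ≤ T` of the normal subgroup `N`: for every prime `q` dividing
`|H ∩ N|` there is a nontrivial `q`-subgroup `W ≤ H ∩ N`, normalised by `H` and centralised by `H ∩ N`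
(the centre of the Sylow `q`-subgroup of `H ∩ N`, which is normal in `H` by Frattini + minimality). -/
def SuppStmt : Prop :=
  ∀ (G : Type u) [Group G] [Finite G] (N : Subgroup G) [N.Normal] (T : Subgroup G), T ⊔ N = ⊤ →
    ∃ H : Subgroup G, H ≤ T ∧ H ⊔ N = ⊤ ∧
      ∀ (q : ℕ), q.Prime → q ∣ Nat.card ↥(H ⊓ N) →
        ∃ W : Subgroup G, W ≠ ⊥ ∧ W ≤ H ⊓ N ∧ IsPGroup q ↥W ∧
          (∀ h ∈ H, ∀ w ∈ W, h * w * h⁻¹ ∈ W) ∧ (∀ y ∈ H ⊓ N, ∀ w ∈ W, y * w = w * y)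

/-- (2) Frattini: for a prime `r` dividing `|N|` the centre `V` of a Sylow `r`-subgroup of `N` is a
nontrivial abelian `r`-subgroup of `N` normalised by a supplement `T` of `N`. -/
def FratStmt : Prop :=
  ∀ (G : Type u) [Group G] [Finite G] (N : Subgroup G) [N.Normal] (r : ℕ), r.Prime →
    r ∣ Nat.card ↥N →
    ∃ V T : Subgroup G, V ≠ ⊥ ∧ V ≤ N ∧ IsPGroup r ↥V ∧ (∀ u ∈ V, ∀ v ∈ V, u * v = v * u) ∧
      (∀ g ∈ T, ∀ v ∈ V, g * v * g⁻¹ ∈ V) ∧ T ⊔ N = ⊤

/-- (6) Burnside `p^a q^b`: a nonsolvable finite group has a third prime. -/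
def ThirdPrimeStmt : Prop :=
  ∀ (X : Type u) [Group X] [Finite X], ¬ Group.IsSolvable X → ∀ p r : ℕ, p.Prime → r.Prime →
    ∃ q : ℕ, q.Prime ∧ q ∣ Nat.card X ∧ q ≠ p ∧ q ≠ r

/-- the statement S3901 itself. -/
def MainStmt : Prop :=
  ∀ (G : Type u) [Group G] [Finite G] (N : Subgroup G) [N.Normal], N ≠ ⊥ → ¬ Group.IsSolvable ↥N →
    (∀ x : G, x ∉ N → IsPrimePow (orderOf x)) → Group.IsSolvable (G ⧸ N)

end Cfsg.Agent.Lib.H3.S3901
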