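import Cfsg.Agent.Lib.H22.S3901Defs
import Cfsg.Agent.S0144

/-!
# S3901: the MAIN assembly (helper3, twin of the architect's assembly)

`PropAStmt → StepBStmt → S3901`, with the landed Burnside two-prime theorem S0144.
-/

set_option autoImplicit false

universe u

namespace Cfsg.Agent.Lib.H3.S3901Main

open Cfsg.Agent.Lib.H22.S3901Defs
open scoped Pointwise

/-- a normal subgroup whose quotient is generated by the image of `g`, `g ^ q ∈ K`, `g ∉ K`, has index `q`. -/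
theorem index_eq_prime_of_gen {T : Type*} [Group T] [Finite T] (K : Subgroup T) [K.Normal] (g : T)
    (q : ℕ) (hq : q.Prime) (hgq : g ^ q ∈ K) (hg : g ∉ K)
    (hgen : ∀ a : T, ∃ n : ℤ, a * g ^ n ∈ K) : K.index = q := by
  classical
  have := Fact.mk hq
  have hord : orderOf (QuotientGroup.mk' K g) = q := by
    apply orderOf_eq_prime
    · rw [← map_pow]; exact (QuotientGroup.eq_one_iff _).2 hgq
    · intro h; exact hg ((QuotientGroup.eq_one_iff _).1 h)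
  have htop : (⊤ : Subgroup (T ⧸ K)) = Subgroup.zpowers (QuotientGroup.mk' K g) := by
    symm; rw [eq_top_iff]
    intro x _
    obtain ⟨a, rfl⟩ := QuotientGroup.mk'_surjective K x
    obtain ⟨n, hn⟩ := hgen a
    have h1 : QuotientGroup.mk' K a * (QuotientGroup.mk' K g) ^ n = 1 := by
      rw [← map_zpow, ← map_mul]; exact (QuotientGroup.eq_one_iff _).2 hn
    have h2 : QuotientGroup.mk' K a = ((QuotientGroup.mk' K g) ^ n)⁻¹ := eq_inv_of_mul_eq_one_left h1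
    rw [h2]
    exact Subgroup.inv_mem _ (Subgroup.zpow_mem _ (Subgroup.mem_zpowers _) n)
  rw [Subgroup.index_eq_card, ← Subgroup.card_top (G := T ⧸ K), htop, Nat.card_zpowers, hord]

/-- a positive number all of whose prime divisors are `p` or `q` is `p ^ a * q ^ b`. -/
theorem eq_pow_mul_pow (n p q : ℕ) (hn : n ≠ 0) (hp : p.Prime) (hq : q.Prime)
    (h : ∀ r : ℕ, r.Prime → r ∣ n → r = p ∨ r = q) : ∃ a b : ℕ, n = p ^ a * q ^ b := by
  obtain ⟨a, m, hpm, hnm⟩ := Nat.exists_eq_pow_mul_and_not_dvd hn p hp.ne_one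
  have hm0 : m ≠ 0 := by rintro rfl; simp at hnm; exact hn hnm
  obtain ⟨b, m', hqm, hmm⟩ := Nat.exists_eq_pow_mul_and_not_dvd hm0 q hq.ne_one
  have hm1 : m' = 1 := by
    by_contra hne
    obtain ⟨r, hr, hrm⟩ := Nat.exists_prime_and_dvd hne
    have hrm2 : r ∣ m := hmm ▸ Dvd.dvd.mul_left hrm _
    have hrn : r ∣ n := hnm ▸ Dvd.dvd.mul_left hrm2 _
    rcases h r hr hrn with rfl | rfl
    · exact hpm hrm2
    · exact hqm hrm
  refine ⟨a, b, ?_⟩
  rw [hnm, hmm, hm1, mul_one]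

theorem main (hA : PropAStmt.{u}) (hB : StepBStmt.{u}) :
    ∀ (G : Type u) [Group G] [Finite G] (N : Subgroup G) [N.Normal], N ≠ ⊥ →
      ¬ Group.IsSolvable ↥N → (∀ x : G, x ∉ N → IsPrimePow (orderOf x)) →
      Group.IsSolvable (G ⧸ N) := by
  intro G _ _ N _ _ hns h
  classical
  by_contra hX
  have hnpp : ¬ ∃ p k : ℕ, p.Prime ∧ Nat.card (G ⧸ N) = p ^ k := by
    rintro ⟨p, k, hp, hc⟩
    have := Fact.mk hp
    have h1 : IsPGroup p (G ⧸ N) := IsPGroup.of_card hc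
    have : Group.IsNilpotent (G ⧸ N) := h1.isNilpotent
    exact hX inferInstance
  obtain ⟨p, q, hp, hq, hpq, Hb, hHb, hHne, y, hy, hyq⟩ := hB (G ⧸ N) hnpp
  let π : G →* G ⧸ N := QuotientGroup.mk' N
  have hπs : Function.Surjective π := QuotientGroup.mk'_surjective N
  have hπ1 : ∀ g : G, π g = 1 ↔ g ∈ N := fun g => QuotientGroup.eq_one_iff g
  let Ub : Subgroup (G ⧸ N) := Hb ⊔ Subgroup.zpowers y
  let G₁ : Subgroup G := Ub.comap π
  let K : Subgroup G := Hb.comap π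
  have hNK : N ≤ K := fun n hn => by
    show π n ∈ Hb
    rw [(hπ1 n).2 hn]; exact Hb.one_mem
  have hKG₁ : K ≤ G₁ := Subgroup.comap_mono le_sup_left
  have hNG₁ : N ≤ G₁ := hNK.trans hKG₁
  have hzn : Subgroup.zpowers y ≤ Subgroup.normalizer (Hb : Set (G ⧸ N)) := by
    rw [Subgroup.zpowers_le]; exact hy
  have hUn : Ub ≤ Subgroup.normalizer (Hb : Set (G ⧸ N)) := sup_le Subgroup.le_normalizer hzn
  have hUmul : ∀ x ∈ Ub, ∃ hb ∈ Hb, ∃ m : ℤ, x = hb * y ^ m := by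
    intro x hx
    have h1 : (↑(Hb ⊔ Subgroup.zpowers y) : Set (G ⧸ N)) = (Hb : Set (G ⧸ N)) * (Subgroup.zpowers y : Set (G ⧸ N)) :=
      Subgroup.coe_mul_of_right_le_normalizer_left Hb (Subgroup.zpowers y) hzn
    have h2 : x ∈ (Hb : Set (G ⧸ N)) * (Subgroup.zpowers y : Set (G ⧸ N)) := by
      rw [← h1]; exact hx
    obtain ⟨hb, hhb, z, hz, rfl⟩ := Set.mem_mul.1 h2
    obtain ⟨m, rfl⟩ := Subgroup.mem_zpowers_iff.1 hz
    exact ⟨hb, hhb, m, rfl⟩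
  -- y ∉ Hb
  have hyH : y ∉ Hb := by
    intro hyH
    obtain ⟨k, hk⟩ := hHb ⟨y, hyH⟩
    have h1 : y ^ (p ^ k) = 1 := by
      have := congrArg (fun z : Hb => (z : G ⧸ N)) hk
      simpa using this
    have h2 : q ∣ p ^ k := hyq ▸ orderOf_dvd_of_pow_eq_one h1
    have h3 : q ∣ p := hq.dvd_of_dvd_pow h2
    exact hpq ((Nat.prime_dvd_prime_iff_eq hq hp).1 h3).symm
  obtain ⟨g, hg⟩ := hπs y
  have hgG₁ : g ∈ G₁ := by
    show π g ∈ Ub
    rw [hg]; exact (le_sup_right : Subgroup.zpowers y ≤ Ub) (Subgroup.mem_zpowers y)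
  let N₁ : Subgroup ↥G₁ := N.subgroupOf G₁
  let K₁ : Subgroup ↥G₁ := K.subgroupOf G₁
  have hN₁n : N₁.Normal := inferInstance
  have hK₁n : K₁.Normal := ⟨fun k hk a => by
    have hk' : π (k : G) ∈ Hb := hk
    show π (((a * k * a⁻¹ : ↥G₁) : ↥G₁) : G) ∈ Hb
    have h1 : (((a * k * a⁻¹ : ↥G₁) : ↥G₁) : G) = (a : G) * (k : G) * (a : G)⁻¹ := by
      simp
    rw [h1, map_mul, map_mul, map_inv]
    exact ((Subgroup.mem_normalizer_iff).1 (hUn a.2) _).1 hk'⟩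
  have hle₁ : N₁ ≤ K₁ := fun x hx => hNK hx
  have hidx : K₁.index = q := by
    apply index_eq_prime_of_gen K₁ ⟨g, hgG₁⟩ q hq
    · show π ((⟨g, hgG₁⟩ ^ q : ↥G₁) : G) ∈ Hb
      have h1 : ((⟨g, hgG₁⟩ ^ q : ↥G₁) : G) = g ^ q := by simp
      rw [h1, map_pow, hg, ← hyq, pow_orderOf_eq_one]; exact Hb.one_mem
    · intro hmem
      have h1 : π g ∈ Hb := hmem
      rw [hg] at h1; exact hyH h1
    · intro a
      obtain ⟨hb, hhb, m, hm⟩ := hUmul (π (a : G)) a.2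
      refine ⟨-m, ?_⟩
      show π ((a * (⟨g, hgG₁⟩ : ↥G₁) ^ (-m) : ↥G₁) : G) ∈ Hb
      have h1 : ((a * (⟨g, hgG₁⟩ : ↥G₁) ^ (-m) : ↥G₁) : G) = (a : G) * g ^ (-m) := by simp
      rw [h1, map_mul, map_zpow, hg, hm, mul_assoc, ← zpow_add, add_neg_cancel, zpow_zero, mul_one]
      exact hhb
  have hpow : ∀ k ∈ K₁, ∃ j : ℕ, k ^ (p ^ j) ∈ N₁ := by
    intro k hk
    have hk' : π (k : G) ∈ Hb := hk
    obtain ⟨j, hj⟩ := hHb ⟨π (k : G), hk'⟩
    refine ⟨j, ?_⟩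
    have h1 : (π (k : G)) ^ (p ^ j) = 1 := by
      have := congrArg (fun z : Hb => (z : G ⧸ N)) hj
      simpa using this
    show ((k ^ (p ^ j) : ↥G₁) : G) ∈ N
    have h2 : ((k ^ (p ^ j) : ↥G₁) : G) = (k : G) ^ (p ^ j) := by simp
    rw [h2, ← hπ1, map_pow]; exact h1
  have hex : ∃ k ∈ K₁, k ∉ N₁ := by
    obtain ⟨⟨hb, hhb⟩, hne⟩ := (Subgroup.ne_bot_iff_exists_ne_one).1 hHne
    obtain ⟨k, hk⟩ := hπs hb
    have hkK : k ∈ K := by
      show π k ∈ Hb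
      rw [hk]; exact hhb
    refine ⟨⟨k, hKG₁ hkK⟩, hkK, ?_⟩
    intro hkN
    have h1 : k ∈ N := hkN
    have h2 : hb = 1 := by rw [← hk]; exact (hπ1 k).2 h1
    exact hne (Subtype.ext h2)
  have hpp : ∀ x : ↥G₁, x ∉ N₁ → IsPrimePow (orderOf x) := by
    intro x hx
    have h1 : (x : G) ∉ N := hx
    have := h (x : G) h1
    rwa [Subgroup.orderOf_coe] at this
  have hprimes := hA ↥G₁ N₁ K₁ p q hp hq hpq hle₁ hidx hpow hex hpp
  have hcardN : Nat.card N₁ = Nat.card N :=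
    Nat.card_congr (Subgroup.subgroupOfEquivOfLe hNG₁).toEquiv
  have hN0 : Nat.card N ≠ 0 := Nat.card_pos.ne'
  obtain ⟨a, b, hab⟩ := eq_pow_mul_pow (Nat.card N) p q hN0 hp hq (fun r hr hrn => hprimes r hr (hcardN ▸ hrn))
  exact hns (Cfsg.Agent.S0144.result p q a b hp hq hab)

end Cfsg.Agent.Lib.H3.S3901Main
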