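import Cfsg.Agent.Lib.H10.S4415BadDefs
import Cfsg.Agent.Lib.H3.S4415B6

/-!
helper3: S4415 BAD piece (B6) in the exact shape of helper10's sub-cut:
`b6 : Cfsg.Agent.Lib.H10.S4415.B6Stmt`, from the generic `lemma_T`.
-/

set_option autoImplicit false

namespace Cfsg.Agent.Lib.H3.S4415B6W

open Cfsg.Agent.Lib.H10.S4415

universe u v

section

variable {S : Type u} {E : Type v} [Group S] [AddCommGroup E] [Module (ZMod 3) E]
  {ρ : Representation (ZMod 3) S E}

theorem rho_mul' (g h : S) (w : E) : ρ (g * h) w = ρ g (ρ h w) := by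
  rw [map_mul]; rfl

theorem rho_inv' (g : S) (w : E) : ρ g⁻¹ (ρ g w) = w := by
  have : (ρ g⁻¹ * ρ g) w = w := by rw [← map_mul]; simp
  exact this

theorem rho_inv'' (g : S) (w : E) : ρ g (ρ g⁻¹ w) = w := by
  have : (ρ g * ρ g⁻¹) w = w := by rw [← map_mul]; simp
  exact this

/-- `g⁻¹` preserves `W` when `g ∈ G` does (`G` a subgroup). -/
theorem z_central_of_isNeg {R : Subgroup S} {b : S} {W : Submodule (ZMod 3) E} {z : S}
    (hL : LinCtx ρ R b W) (hzR : z ∈ R) (hneg : IsNeg ρ W z) :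
    ∀ g ∈ RB R b, g * z = z * g := by
  intro g hg
  have hzRB : z ∈ RB R b := (le_sup_left : R ≤ RB R b) hzR
  have hmem : g * z * g⁻¹ * z⁻¹ ∈ RB R b :=
    (RB R b).mul_mem ((RB R b).mul_mem ((RB R b).mul_mem hg hzRB) ((RB R b).inv_mem hg))
      ((RB R b).inv_mem hzRB)
  have hzinvW : ∀ w ∈ W, ρ z⁻¹ w = -w := by
    intro w hw
    have h1 : ρ z⁻¹ (ρ z w) = w := rho_inv' z w
    rw [hneg w hw, map_neg] at h1
    exact neg_eq_iff_eq_neg.mp h1
  have htriv : ∀ w ∈ W, ρ (g * z * g⁻¹ * z⁻¹) w = w := by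
    intro w hw
    have hginvW : ρ g⁻¹ (-w) ∈ W :=
      hL.W_inv g⁻¹ ((RB R b).inv_mem hg) (-w) (W.neg_mem hw)
    rw [rho_mul', rho_mul', rho_mul', hzinvW w hw, hneg _ hginvW, map_neg, rho_inv'', neg_neg]
  have h1 := hL.faithful _ hmem htriv
  have h2 : g * z * g⁻¹ * z⁻¹ * z * g = z * g := by rw [h1, one_mul]
  rw [← h2]; group

end

theorem b6 : B6Stmt.{u, v} := by
  intro S _ _ E _ _ _ ρ R b W z X M hL hAb hzR hneg _hW hXM hMR hXn hMn hXS h2 m hm g hg
  have hRRB : R ≤ RB R b := le_sup_left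
  have hzc := z_central_of_isNeg hL hzR hneg
  have hzinv : z⁻¹ = z := inv_eq_of_mul_eq_one_right hXS.z_sq
  have hcomm : ∀ x ∈ X, ∀ y ∈ X, x * y = y * x ∨ x * y = z * (y * x) := by
    intro x hx y hy
    rcases hXS.comm x hx y hy with h | h
    · left
      have : x * y * x⁻¹ * y⁻¹ * y * x = y * x := by rw [h, one_mul]
      rw [← this]; group
    · right
      have : x * y * x⁻¹ * y⁻¹ * (y * x) = z * (y * x) := by rw [h]
      rw [← this]; group
  have hB1 : ∀ A : Subgroup S, A ≤ X → (∀ g ∈ RB R b, ∀ a ∈ A, g * a * g⁻¹ ∈ A) →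
      (∀ a ∈ A, ∀ a' ∈ A, a * a' = a' * a) → ∀ a ∈ A, a = 1 ∨ a = z := by
    intro A hAX hAn hAab a ha
    have hAR : A ≤ R := hAX.trans (hXM.trans hMR)
    have haRB : a ∈ RB R b := hRRB (hAR ha)
    rcases hAb A hAR hAn hAab a ha with h | h
    · left
      exact hL.faithful a haRB h
    · right
      have hazRB : a * z ∈ RB R b := (RB R b).mul_mem haRB (hRRB hzR)
      have htriv : ∀ w ∈ W, ρ (a * z) w = w := by
        intro w hw
        rw [rho_mul', hneg w hw, map_neg, h w hw, neg_neg]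
      have h1 := hL.faithful _ hazRB htriv
      have : a = z⁻¹ := eq_inv_of_mul_eq_one_left h1
      rw [this, hzinv]
  have hfin : Finite M := inferInstance
  have key := Cfsg.Agent.Lib.H3.S4415B6.lemma_T M X (RB R b) h2 hXM (hMR.trans hRRB) z hXS.zX
    hXS.z_sq hzc hXn hMn hcomm hB1 m hm g hg
  rcases key with h | h
  · left; rw [h, mul_inv_cancel]
  · right; rw [h, mul_inv_cancel_right]

end Cfsg.Agent.Lib.H3.S4415B6W
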