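import Cfsg.Agent.Lib.H1.S77.Hyp

/-!
# S0429 piece (CARD): every class has four elements (blueprint `tools/blueprints/S0429.md`)
-/

set_option autoImplicit false
set_option linter.unusedSectionVars false
open Cfsg

namespace Cfsg.Agent.Lib.H3.S77

open Cfsg.Agent.Lib.H1.S77 Finset

section
variable {V : Type*} [Fintype V] [DecidableEq V] {G : SimpleGraph V} [DecidableRel G.Adj]
variable {v0 : V}

theorem hcard (hG : G.IsSRGWith 77 16 0 4) (h : HI2 G v0) : HCard G v0 := by
  intro b hb
  set E := (nB G v0).erase b with hE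
  set f : V → ℕ := fun b' => (blk G v0 b ∩ blk G v0 b').card with hf
  have hle : ∀ b' ∈ E, f b' ≤ 2 := fun b' hb' =>
    h b hb b' (Finset.mem_of_mem_erase hb') (Finset.ne_of_mem_erase hb')
  have hcardE : E.card = 59 := by
    rw [hE, Finset.card_erase_of_mem hb, card_nB hG]
  have hs1 : ∑ b' ∈ E, f b' = 56 := sum_inter hG hb
  have hs2 : ∑ b' ∈ E, (f b' * f b' - f b') = 24 := sum_inter_sq hG hb
  have k0 : E.card = (E.filter (fun b' => f b' = 0)).card
      + (E.filter (fun b' => f b' = 1)).card + (E.filter (fun b' => f b' = 2)).card := by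
    rw [Finset.card_eq_sum_ones E, Finset.card_filter, Finset.card_filter, Finset.card_filter,
      ← Finset.sum_add_distrib, ← Finset.sum_add_distrib]
    refine Finset.sum_congr rfl fun b' hb' => ?_
    have h2 := hle b' hb'
    generalize f b' = n at h2 ⊢
    interval_cases n <;> simp
  have k1 : ∑ b' ∈ E, f b' = (E.filter (fun b' => f b' = 1)).card
      + 2 * (E.filter (fun b' => f b' = 2)).card := by
    rw [Finset.card_filter, Finset.card_filter, Finset.mul_sum, ← Finset.sum_add_distrib]
    refine Finset.sum_congr rfl fun b' hb' => ?_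
    have h2 := hle b' hb'
    generalize f b' = n at h2 ⊢
    interval_cases n <;> simp
  have k2 : ∑ b' ∈ E, (f b' * f b' - f b') = 2 * (E.filter (fun b' => f b' = 2)).card := by
    rw [Finset.card_filter, Finset.mul_sum]
    refine Finset.sum_congr rfl fun b' hb' => ?_
    have h2 := hle b' hb'
    generalize f b' = n at h2 ⊢
    interval_cases n <;> simp
  have hE0 : (E.filter (fun b' => f b' = 0)).card = 15 := by omega
  -- the adjacent ones
  have hadj : (E.filter (fun b' => f b' = 0)).filter (fun b' => G.Adj b b')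
      = (nB G v0).filter (fun b' => G.Adj b b') := by
    ext b'
    simp only [Finset.mem_filter, hE, Finset.mem_erase]
    constructor
    · rintro ⟨⟨⟨-, hb'⟩, -⟩, ha⟩
      exact ⟨hb', ha⟩
    · rintro ⟨hb', ha⟩
      refine ⟨⟨⟨?_, hb'⟩, ?_⟩, ha⟩
      · rintro rfl
        exact G.irrefl ha
      · have hd := disjoint_of_adj (v0 := v0) hG ha
        rw [Finset.disjoint_iff_inter_eq_empty] at hd
        simp only [hf, hd, Finset.card_empty]
  have hsplit := Finset.card_filter_add_card_filter_not
    (s := E.filter (fun b' => f b' = 0)) (fun b' => G.Adj b b')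
  rw [hadj, card_adj_nB hG hb, hE0] at hsplit
  have h3 : ((E.filter (fun b' => f b' = 0)).filter (fun b' => ¬ G.Adj b b')).card = 3 := by
    omega
  have hcls : cls G v0 b
      = insert b ((E.filter (fun b' => f b' = 0)).filter (fun b' => ¬ G.Adj b b')) := by
    ext b'
    simp only [mem_cls, Finset.mem_insert, Finset.mem_filter, hE, Finset.mem_erase, hf,
      Finset.card_eq_zero, ← Finset.disjoint_iff_inter_eq_empty]
    constructor
    · rintro ⟨hb', rfl | ⟨hna, hd⟩⟩
      · exact Or.inl rfl
      · by_cases hbb : b' = b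
        · exact Or.inl hbb
        · exact Or.inr ⟨⟨⟨hbb, hb'⟩, hd⟩, hna⟩
    · rintro (rfl | ⟨⟨⟨hbb, hb'⟩, hd⟩, hna⟩)
      · exact ⟨hb, Or.inl rfl⟩
      · exact ⟨hb', Or.inr ⟨hna, hd⟩⟩
  rw [hcls, Finset.card_insert_of_notMem, h3]
  simp [hE]

end

end Cfsg.Agent.Lib.H3.S77
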