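import Cfsg.Agent.Lib.H1.S77.Hyp

/-!
# S0429 piece (I2): two blocks meet in at most two points (blueprint `tools/blueprints/S0429.md`)
-/

set_option autoImplicit false
set_option linter.unusedSectionVars false
open Cfsg

namespace Cfsg.Agent.Lib.H3.S77

open Cfsg.Agent.Lib.H1.S77 Finset

section
variable {V : Type*} [Fintype V] [DecidableEq V] {G : SimpleGraph V} [DecidableRel G.Adj]
variable {v0 : V}

theorem hi2 (hG : G.IsSRGWith 77 16 0 4) (h : HT2 G) : HI2 G v0 := by
  intro b hb b' hb' hne
  by_cases hadj : G.Adj b b'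
  · have hd := disjoint_of_adj (v0 := v0) hG hadj
    rw [Finset.disjoint_iff_inter_eq_empty] at hd
    rw [hd]
    simp
  · obtain ⟨hb0, hnb⟩ := mem_nB.mp hb
    obtain ⟨hb0', hnb'⟩ := mem_nB.mp hb'
    have h3 := h v0 b b' (Ne.symm hb0) (Ne.symm hb0') (Ne.symm hne) hnb hnb' hadj
    have he : blk G v0 b ∩ blk G v0 b'
        = G.neighborFinset v0 ∩ G.neighborFinset b ∩ G.neighborFinset b' := by
      ext a
      simp only [Finset.mem_inter, mem_blk, SimpleGraph.mem_neighborFinset]
      tauto
    rw [he]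
    exact h3

end

end Cfsg.Agent.Lib.H3.S77
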