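import Mathlib
import Cfsg.Prelude.Def_LieTypeChar
import Cfsg.Agent.Lib.H6.SEADefs
import Cfsg.Agent.S2326

/-!
# S4625, piece EXC: the Sylow 2-subgroups of the Chevalley groups `G₂, F₄, E₆, E₇, E₈` in characteristic 2

`U = posUnipotent` is a Sylow 2-subgroup (S2326); it is generated by the root elements `x_r(t)`, `r` positive,
which are involutions in characteristic 2 (`x_r(t) x_r(t) = x_r(t + t) = x_r(0) = 1`).
-/

set_option autoImplicit false
set_option linter.unusedSectionVars false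
set_option linter.unusedVariables false

namespace Cfsg.Agent.Lib.H3.SEA

open Cfsg Cfsg.Lie Matrix Cfsg.Agent.Lib.H29.Chev Cfsg.Agent.Lib.H6.SEA

/-- generation passes to `subgroupOf` when the generators lie in the subgroup -/
theorem subgroupOf_le_closure_preimage_exc {G : Type*} [Group G] (K U : Subgroup G) (S : Set G)
    (hSK : S ⊆ (K : Set G)) (hgen : U ≤ Subgroup.closure S) :
    U.subgroupOf K ≤ Subgroup.closure {x : ↥K | (x : G) ∈ S} := by
  have hmap : (Subgroup.closure {x : ↥K | (x : G) ∈ S}).map K.subtype = Subgroup.closure S := by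
    rw [MonoidHom.map_closure]
    congr 1
    ext g
    constructor
    · rintro ⟨x, hx, rfl⟩
      exact hx
    · intro hg
      exact ⟨⟨g, hSK hg⟩, hg, rfl⟩
  intro x hx
  have hx' : (x : G) ∈ Subgroup.closure S := hgen (Subgroup.mem_subgroupOf.mp hx)
  rw [← hmap] at hx'
  obtain ⟨y, hy, hyx⟩ := hx'
  have : y = x := Subtype.ext hyx
  rw [← this]
  exact hy

/-- the generic statement for a certified datum -/
theorem sylEA_chev_of_cert {D : ChevalleyDatum} {fd : FD} {fx : FX} {fc : FC} {fz : FZ}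
    {F : Type*} [Field F] [Fintype F] [CharP F 2] (C : Cert12 D fd fx fc fz)
    (P : Sylow 2 ↥(D.group F))
    (hP : (P : Subgroup ↥(D.group F)) = (D.posUnipotent F).subgroupOf (D.group F)) :
    SylEA ↥(D.group F) := by
  haveI : Finite ↥(D.group F) := inferInstance
  apply sylEA_of_sylow P
  -- the generating set
  let S₀ : Set (GL D.Idx F) :=
    {g | ∃ (r : ℕ) (t : F), D.IsPosRoot r ∧ (g : Matrix D.Idx D.Idx F) = D.x F r t}
  have hS₀G : S₀ ⊆ ((D.group F : Subgroup (GL D.Idx F)) : Set (GL D.Idx F)) := by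
    rintro g ⟨r, t, _, hg⟩
    have : g = C.c6.c2.xA r t := gl_ext (by rw [hg, C.c6.c2.xA_val])
    rw [SetLike.mem_coe, this]
    exact C.c6.c2.xA_mem_group r t
  have hgen₀ : D.posUnipotent F ≤ Subgroup.closure S₀ := le_of_eq rfl
  have hgen := subgroupOf_le_closure_preimage_exc (D.group F) (D.posUnipotent F) S₀
    hS₀G hgen₀
  refine EA.of_gen (P : Subgroup ↥(D.group F)) {x : ↥(D.group F) | (x : GL D.Idx F) ∈ S₀} ?_ ?_ ?_
  · intro x hx
    rw [SetLike.mem_coe, hP, Subgroup.mem_subgroupOf]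
    exact Subgroup.subset_closure hx
  · rw [hP]
    exact hgen
  · rintro s ⟨r, t, _, hg⟩
    have hs : (s : GL D.Idx F) = C.c6.c2.xA r t := gl_ext (by rw [hg, C.c6.c2.xA_val])
    have h1 : s ^ 2 = 1 := by
      apply Subtype.ext
      rw [Subgroup.coe_pow, hs, pow_two, C.c6.c2.xA_mul, CharTwo.add_self_eq_zero, C.c6.c2.xA_zero]
      rfl
    rw [h1]
    exact Subgroup.one_mem _

/-- EXC : `U = posUnipotent` is a Sylow subgroup (S2326, landed) generated by the involutions `x_r(t)`. -/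
theorem sylEA_chev (F : Type*) [Field F] [Fintype F] [CharP F 2] (D : Lie.ChevalleyDatum)
    (hD : D ∈ [Lie.chevG2, Lie.chevF4, Lie.chevE6, Lie.chevE7, Lie.chevE8]) : SylEA ↥(D.group F) := by
  have hD' : D ∈ [Lie.chevG2, Lie.chevB2, Lie.chevD4, Lie.chevF4, Lie.chevE6, Lie.chevE7, Lie.chevE8] := by
    simp only [List.mem_cons, List.not_mem_nil, or_false] at hD ⊢
    tauto
  obtain ⟨fd, fx, fc, fz, C⟩ := cert12_of_mem D hD'
  haveI : Fact (Nat.Prime 2) := ⟨Nat.prime_two⟩
  obtain ⟨P, hP⟩ := Cfsg.Agent.S2326.result (F := F) 2 D hD'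
  exact sylEA_chev_of_cert C P hP

end Cfsg.Agent.Lib.H3.SEA
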