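import Mathlib
import Cfsg.Agent.Lib.H6.SEADefs
import Cfsg.Agent.Lib.H13.AutPSLSylow

/-!
# S4625 piece SL (helper6 blueprint): `SL_n(F)`, `F` finite of characteristic 2

The upper unitriangular group `UT` (a Sylow 2-subgroup by H13.AutPSLSylow) is generated by the upper elementary
transvections `el i j c` (`i < j`), which are involutions in characteristic 2.
-/

set_option autoImplicit false

namespace Cfsg.Agent.Lib.H3.SEA

open Cfsg Cfsg.Agent.Lib.H6.SEA Cfsg.Agent.Lib.H13.AutPSL Matrix

section gen

variable {n : ℕ} {F : Type*} [Field F]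

/-- the set of upper elementary transvections -/
def elSet (n : ℕ) (F : Type*) [Field F] : Set (SpecialLinearGroup (Fin n) F) :=
  {s | ∃ (i j : Fin n) (hij : i < j) (c : F), s = el i j (ne_of_lt hij) c}

theorem tm_single_mul_apply (i j : Fin n) (c : F) (M : Matrix (Fin n) (Fin n) F) (a b : Fin n) :
    (tm (Pi.single i 1) (c • (Pi.single j 1 : Fin n → F)) * M) a b =
      M a b + if a = i then c * M j b else 0 := by
  unfold tm
  rw [Matrix.add_mul, Matrix.one_mul, Matrix.add_apply, Matrix.mul_apply]
  congr 1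
  simp only [vecMulVec_apply, Pi.smul_apply, Pi.single_apply, smul_eq_mul]
  by_cases ha : a = i
  · simp [ha]
  · simp [ha]

open Classical in
/-- the number of nonzero entries above the diagonal -/
noncomputable def upSupp (M : Matrix (Fin n) (Fin n) F) : Finset (Fin n × Fin n) :=
  Finset.univ.filter (fun p => p.1 < p.2 ∧ M p.1 p.2 ≠ 0)

theorem mem_upSupp {M : Matrix (Fin n) (Fin n) F} {p : Fin n × Fin n} :
    p ∈ upSupp M ↔ p.1 < p.2 ∧ M p.1 p.2 ≠ 0 := by
  unfold upSupp
  simp

theorem eq_one_of_upSupp_empty {M : Matrix (Fin n) (Fin n) F} (hM : IsUT M) (h : upSupp M = ∅) :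
    M = 1 := by
  ext a b
  rcases lt_trichotomy a b with hab | hab | hab
  · rw [Matrix.one_apply_ne (ne_of_lt hab)]
    by_contra hne
    have : (a, b) ∈ upSupp M := mem_upSupp.2 ⟨hab, hne⟩
    rw [h] at this
    exact absurd this (Finset.notMem_empty _)
  · subst hab
    rw [Matrix.one_apply_eq]
    exact hM.2 a
  · rw [Matrix.one_apply_ne (ne_of_gt hab)]
    exact hM.1 a b hab

variable [Fintype F]

theorem UT_le_closure_aux : ∀ (k : ℕ) (s : SpecialLinearGroup (Fin n) F), s ∈ UT →
    (upSupp (s : Matrix (Fin n) (Fin n) F)).card = k → s ∈ Subgroup.closure (elSet n F) := by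
  intro k
  induction k with
  | zero =>
    intro s hs hk
    have h1 : (s : Matrix (Fin n) (Fin n) F) = 1 :=
      eq_one_of_upSupp_empty (mem_UT.1 hs) (Finset.card_eq_zero.1 hk)
    have : s = 1 := Subtype.ext h1
    rw [this]
    exact Subgroup.one_mem _
  | succ k ih =>
    intro s hs hk
    set M : Matrix (Fin n) (Fin n) F := (s : Matrix (Fin n) (Fin n) F) with hMdef
    have hM : IsUT M := mem_UT.1 hs
    have hne : (upSupp M).Nonempty := by
      rw [← Finset.card_pos, hk]; exact Nat.succ_pos k
    obtain ⟨⟨i, j⟩, hp, hmax⟩ := Finset.exists_max_image (upSupp M) (fun p => p.1) hne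
    have hij : i < j := (mem_upSupp.1 hp).1
    have hMij : M i j ≠ 0 := (mem_upSupp.1 hp).2
    -- row `j` of `M` is trivial
    have hrow : ∀ b, M j b = if b = j then 1 else 0 := by
      intro b
      rcases lt_trichotomy j b with hjb | hjb | hjb
      · rw [if_neg (ne_of_gt hjb)]
        by_contra hne'
        have h2 : (j, b) ∈ upSupp M := mem_upSupp.2 ⟨hjb, hne'⟩
        have h3 : j ≤ i := hmax (j, b) h2
        exact absurd hij (not_lt.2 h3)
      · subst hjb
        rw [if_pos rfl]; exact hM.2 j
      · rw [if_neg (ne_of_lt hjb)]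
        exact hM.1 j b hjb
    set E : SpecialLinearGroup (Fin n) F := el i j (ne_of_lt hij) (-(M i j)) with hE
    have hEmem : E ∈ elSet n F := ⟨i, j, hij, _, rfl⟩
    have hEUT : E ∈ (UT : Subgroup (SpecialLinearGroup (Fin n) F)) := el_mem_UT hij _
    have hEs : E * s ∈ (UT : Subgroup (SpecialLinearGroup (Fin n) F)) := Subgroup.mul_mem _ hEUT hs
    have hentry : ∀ a b, ((E * s : SpecialLinearGroup (Fin n) F) : Matrix (Fin n) (Fin n) F) a b =
        if (a, b) = (i, j) then 0 else M a b := by
      intro a b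
      rw [Matrix.SpecialLinearGroup.coe_mul, hE, el_coe, tm_single_mul_apply]
      change (M a b + if a = i then -(M i j) * M j b else 0) = _
      rw [hrow]
      by_cases ha : a = i
      · by_cases hb : b = j
        · subst ha hb
          simp
        · have : (a, b) ≠ (i, j) := fun h => hb (Prod.ext_iff.1 h).2
          rw [if_pos ha, if_neg hb, if_neg this, mul_zero, add_zero]
      · have : (a, b) ≠ (i, j) := fun h => ha (Prod.ext_iff.1 h).1
        rw [if_neg ha, if_neg this, add_zero]
    have hsupp : upSupp ((E * s : SpecialLinearGroup (Fin n) F) : Matrix (Fin n) (Fin n) F) =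
        (upSupp M).erase (i, j) := by
      ext ⟨a, b⟩
      rw [mem_upSupp, Finset.mem_erase, mem_upSupp, hentry]
      by_cases hab : (a, b) = (i, j)
      · simp [hab]
      · simp [hab]
    have hcard : (upSupp ((E * s : SpecialLinearGroup (Fin n) F) : Matrix (Fin n) (Fin n) F)).card = k := by
      rw [hsupp, Finset.card_erase_of_mem hp, hk]; rfl
    have h1 : E * s ∈ Subgroup.closure (elSet n F) := ih (E * s) hEs hcard
    have h2 : E ∈ Subgroup.closure (elSet n F) := Subgroup.subset_closure hEmem
    have h3 : s = E⁻¹ * (E * s) := by group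
    rw [h3]
    exact Subgroup.mul_mem _ (Subgroup.inv_mem _ h2) h1

theorem UT_le_closure : (UT : Subgroup (SpecialLinearGroup (Fin n) F)) ≤ Subgroup.closure (elSet n F) :=
  fun s hs => UT_le_closure_aux _ s hs rfl

theorem elSet_subset_UT : elSet n F ⊆ (UT : Subgroup (SpecialLinearGroup (Fin n) F)) := by
  rintro s ⟨i, j, hij, c, rfl⟩
  exact el_mem_UT hij c

omit [Fintype F] in
theorem el_sq [CharP F 2] (i j : Fin n) (hij : i ≠ j) (c : F) : el i j hij c ^ 2 = 1 := by
  apply Subtype.ext
  rw [Matrix.SpecialLinearGroup.coe_pow, pow_two, el_coe,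
    tm_mul_right _ _ _ (single_dot_single hij c), ← add_smul, CharTwo.add_self_eq_zero, zero_smul,
    tm_zero_right]
  rfl

end gen

/-- SL : `U` = upper unitriangular matrices, generated by the transvections `1 + c E_ij` (`i < j`),
which are involutions in characteristic 2. -/
theorem sylEA_SL (F : Type*) [Field F] [Fintype F] [CharP F 2] (n : ℕ) :
    SylEA (Matrix.SpecialLinearGroup (Fin n) F) := by
  have : Fact (Nat.Prime 2) := ⟨Nat.prime_two⟩
  refine sylEA_of_gen_invol (UT : Subgroup (SpecialLinearGroup (Fin n) F)) (isPGroup_UT (p := 2))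
    (not_dvd_index_UT (p := 2)) (elSet n F) elSet_subset_UT UT_le_closure ?_
  rintro s ⟨i, j, hij, c, rfl⟩
  exact el_sq i j _ c

end Cfsg.Agent.Lib.H3.SEA
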