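import Mathlib
import Cfsg.Prelude.Def_Local
import Cfsg.Agent.Lib.H7.PLocal
import Cfsg.Agent.Lib.H9.PPrimeCore

/-!
# S2924, piece CHAR2 (steps 1-2 of helper24's proof), sig-independent core

`X` finite, `z u : X` commuting, `u ^ 2 = 1`, `F*(C_X(z)) = O_2(C_X(z))`. Then
* (A) `oddCore (C_X(z)) = ⊥`;
* (B) with `H := C_X(u)` (as a type) and `zH := ⟨z, _⟩ : H`:
  `F*(C_H(zH)) = O_2(C_H(zH))`, hence `layer (C_H(zH)) = ⊥` and `oddCore (C_H(zH)) = ⊥`;
* (C) `∀ a ∈ oddCore H, zH * a = a * zH → a = 1`.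

Main exports: `oddCore_eq_bot_of_gfs_eq_pCore`, `layer_eq_bot_of_gfs_eq_pCore`, `centSwap`,
`gfs_cent_cent`, `oddCore_cent_fixedPoint_eq_one`, `theta_eq_bot`, `theta_fixedPoint_eq_one`.
-/

set_option autoImplicit false
open Cfsg

namespace Cfsg.Agent.Lib.H3.SF

universe v w

/-- `O_p` is preserved by isomorphisms (one inclusion). -/
theorem pCore_map_equiv_le {A : Type v} {B : Type w} [Group A] [Group B] (p : ℕ) (e : A ≃* B) :
    (pCore p A).map e.toMonoidHom ≤ pCore p B := by
  rw [Subgroup.map_le_iff_le_comap]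
  unfold pCore
  apply sSup_le
  rintro N ⟨hN, hp⟩
  rw [← Subgroup.map_le_iff_le_comap]
  apply le_sSup
  refine ⟨?_, ?_⟩
  · exact Subgroup.Normal.map hN e.toMonoidHom e.surjective
  · exact hp.map e.toMonoidHom

/-- `O_p` is preserved by isomorphisms. -/
theorem pCore_map_equiv {A : Type v} {B : Type w} [Group A] [Group B] (p : ℕ) (e : A ≃* B) :
    (pCore p A).map e.toMonoidHom = pCore p B := by
  apply le_antisymm (pCore_map_equiv_le p e)
  have h := pCore_map_equiv_le p e.symm
  have h2 := Subgroup.map_mono (f := e.toMonoidHom) h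
  rw [Subgroup.map_map] at h2
  have h3 : e.toMonoidHom.comp e.symm.toMonoidHom = MonoidHom.id B := by
    ext x; simp
  rwa [h3, Subgroup.map_id] at h2

/-- `F*(G) = O_p(G)` is invariant under isomorphism. -/
theorem gfs_eq_pCore_of_equiv {A : Type v} {B : Type w} [Group A] [Group B] (p : ℕ) (e : A ≃* B)
    (h : generalizedFittingSubgroup A = pCore p A) :
    generalizedFittingSubgroup B = pCore p B := by
  rw [← Cfsg.Agent.Lib.H7.generalizedFittingSubgroup_map_equiv e, ← pCore_map_equiv p e, h]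

/-- `F*(G) = O_p(G)` forces `E(G) = 1`. -/
theorem layer_eq_bot_of_gfs_eq_pCore {A : Type v} [Group A] [Finite A] (p : ℕ) [Fact p.Prime]
    (h : generalizedFittingSubgroup A = pCore p A) : layer A = ⊥ := by
  have h2 : layer A ≤ pCore p A := by
    rw [← h]; exact Cfsg.Agent.Lib.H7.layer_le_generalizedFittingSubgroup
  have hpp : IsPGroup p (pCore p A) := Cfsg.Agent.Lib.H1.pCore_isPGroup p A
  have hs : Group.IsSolvable (layer A) := by
    have : Group.IsNilpotent (layer A) := (hpp.to_le h2).isNilpotent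
    infer_instance
  have := Cfsg.Agent.Lib.H7.layer_commutator_solvable (G := A) (N := layer A) hs
  rw [Cfsg.Agent.Lib.H7.layer_commutator_self] at this
  exact this

/-- Step (1): `F*(G) = O_2(G)` forces `O(G) = 1`. -/
theorem oddCore_eq_bot_of_gfs_eq_pCore {A : Type v} [Group A] [Finite A]
    (h : generalizedFittingSubgroup A = pCore 2 A) : oddCore A = ⊥ := by
  have : Fact (Nat.Prime 2) := ⟨Nat.prime_two⟩
  have hOn : (oddCore A).Normal := Cfsg.Agent.Lib.H22.pPrimeCore_normal 2
  have hQn : (pCore 2 A).Normal := Cfsg.Agent.Lib.H1.pCore_normal 2 A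
  have hQ : IsPGroup 2 (pCore 2 A) := Cfsg.Agent.Lib.H1.pCore_isPGroup 2 A
  have hOc : (Nat.card (oddCore A)).Coprime 2 := Cfsg.Agent.Lib.H22.card_pPrimeCore_coprime 2
  have hdisj : Disjoint (oddCore A) (pCore 2 A) := by
    apply Subgroup.disjoint_of_coprime_natCard
    obtain ⟨k, hk⟩ := IsPGroup.iff_card.1 hQ
    rw [hk]
    exact Nat.Coprime.pow_right k hOc
  have hcomm : ⁅oddCore A, pCore 2 A⁆ = ⊥ := by
    rw [← le_bot_iff, ← hdisj.eq_bot]
    exact le_inf (Subgroup.commutator_le_left _ _) (Subgroup.commutator_le_right _ _)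
  have h1 : oddCore A ≤ Subgroup.centralizer (pCore 2 A : Set A) :=
    Subgroup.commutator_eq_bot_iff_le_centralizer.1 hcomm
  have h2 : oddCore A ≤ pCore 2 A :=
    h1.trans (Cfsg.Agent.Lib.H7.centralizer_pCore_le_of_generalizedFittingSubgroup_eq 2 h)
  rw [← le_bot_iff, ← hdisj.eq_bot]
  exact le_inf le_rfl h2


section swap

variable {X : Type v} [Group X]

/-- For commuting `z u : X`: `C_{C_X(z)}(u) ≃* C_{C_X(u)}(z)` (both are `C_X(z) ∩ C_X(u)`). -/
def centSwap (z u : X) (hzu : z * u = u * z) :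
    ↥(Subgroup.centralizer
        ({(⟨u, Subgroup.mem_centralizer_singleton_iff.2 hzu.symm⟩ :
          ↥(Subgroup.centralizer ({z} : Set X)))} : Set ↥(Subgroup.centralizer ({z} : Set X)))) ≃*
    ↥(Subgroup.centralizer
        ({(⟨z, Subgroup.mem_centralizer_singleton_iff.2 hzu⟩ :
          ↥(Subgroup.centralizer ({u} : Set X)))} : Set ↥(Subgroup.centralizer ({u} : Set X)))) where
  toFun x := ⟨⟨x.1.1, by
      have h := Subgroup.mem_centralizer_singleton_iff.1 x.2
      have h' := congrArg Subtype.val h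
      exact Subgroup.mem_centralizer_singleton_iff.2 h'⟩, by
      have h := Subgroup.mem_centralizer_singleton_iff.1 x.1.2
      exact Subgroup.mem_centralizer_singleton_iff.2 (Subtype.ext h)⟩
  invFun x := ⟨⟨x.1.1, by
      have h := Subgroup.mem_centralizer_singleton_iff.1 x.2
      have h' := congrArg Subtype.val h
      exact Subgroup.mem_centralizer_singleton_iff.2 h'⟩, by
      have h := Subgroup.mem_centralizer_singleton_iff.1 x.1.2
      exact Subgroup.mem_centralizer_singleton_iff.2 (Subtype.ext h)⟩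
  left_inv x := rfl
  right_inv x := rfl
  map_mul' x y := rfl


/-- Step (2a): if `F*(C_X(z)) = O_2(C_X(z))` and `u` is an involution (or `1`) commuting with `z`,
then `F*(C_{C_X(u)}(z)) = O_2(C_{C_X(u)}(z))`. -/
theorem gfs_cent_cent [Finite X] (z u : X) (hzu : z * u = u * z) (hu2 : u ^ 2 = 1)
    (hz : generalizedFittingSubgroup ↥(Subgroup.centralizer ({z} : Set X)) =
      pCore 2 ↥(Subgroup.centralizer ({z} : Set X))) :
    generalizedFittingSubgroup ↥(Subgroup.centralizer
        ({(⟨z, Subgroup.mem_centralizer_singleton_iff.2 hzu⟩ :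
          ↥(Subgroup.centralizer ({u} : Set X)))} : Set ↥(Subgroup.centralizer ({u} : Set X)))) =
      pCore 2 ↥(Subgroup.centralizer
        ({(⟨z, Subgroup.mem_centralizer_singleton_iff.2 hzu⟩ :
          ↥(Subgroup.centralizer ({u} : Set X)))} : Set ↥(Subgroup.centralizer ({u} : Set X)))) := by
  have : Fact (Nat.Prime 2) := ⟨Nat.prime_two⟩
  apply gfs_eq_pCore_of_equiv 2 (centSwap z u hzu)
  set L := ↥(Subgroup.centralizer ({z} : Set X)) with hL
  set uL : L := ⟨u, Subgroup.mem_centralizer_singleton_iff.2 hzu.symm⟩ with huL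
  have huL2 : uL ^ 2 = 1 := Subtype.ext hu2
  have hQn : (pCore 2 L).Normal := Cfsg.Agent.Lib.H1.pCore_normal 2 L
  have hQ : IsPGroup 2 (pCore 2 L) := Cfsg.Agent.Lib.H1.pCore_isPGroup 2 L
  have hNQ : Subgroup.normalizer ((pCore 2 L : Subgroup L) : Set L) = ⊤ :=
    Subgroup.normalizer_eq_top _
  have hP : IsPGroup 2 (Subgroup.zpowers uL) := by
    rintro ⟨g, hg⟩
    obtain ⟨k, rfl⟩ := Subgroup.mem_zpowers_iff.1 hg
    refine ⟨1, Subtype.ext ?_⟩
    simp only [pow_one, Subgroup.coe_pow, Subgroup.coe_one]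
    rw [← zpow_natCast, ← zpow_mul, mul_comm, zpow_mul, zpow_natCast, huL2, one_zpow]
  have hcent : Subgroup.centralizer ({uL} : Set L) ≤
      Subgroup.centralizer ((Subgroup.zpowers uL : Subgroup L) : Set L) := by
    intro x hx
    rw [Subgroup.mem_centralizer_iff]
    intro y hy
    obtain ⟨k, rfl⟩ := Subgroup.mem_zpowers_iff.1 hy
    have h := Subgroup.mem_centralizer_singleton_iff.1 hx
    have hc : Commute uL x := h.symm
    exact (hc.zpow_left k).eq
  apply Cfsg.Agent.Lib.H7.generalizedFittingSubgroup_eq_pCore_of_le_centralizer 2 hQ hP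
  · rw [hNQ]; exact le_top
  · exact hcent
  · rw [hNQ]; exact le_top
  · refine inf_le_right.trans ?_
    apply Subgroup.centralizer_le
    intro y hy
    rw [Set.mem_singleton_iff] at hy
    rw [hy]
    exact Subgroup.mem_zpowers uL
  · intro y _ hy hyQ
    exact Cfsg.Agent.Lib.H7.eq_one_of_mem_of_isPGroup_of_coprime hQ
      (Cfsg.Agent.Lib.H7.centralizer_pCore_le_of_generalizedFittingSubgroup_eq 2 hz hyQ) hy

/-- Step (2b): under the same hypotheses, `C_{O(C_X(u))}(z) = 1`. -/
theorem oddCore_cent_fixedPoint_eq_one [Finite X] (z u : X) (hzu : z * u = u * z) (hu2 : u ^ 2 = 1)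
    (hz : generalizedFittingSubgroup ↥(Subgroup.centralizer ({z} : Set X)) =
      pCore 2 ↥(Subgroup.centralizer ({z} : Set X)))
    (a : ↥(Subgroup.centralizer ({u} : Set X)))
    (ha : a ∈ oddCore ↥(Subgroup.centralizer ({u} : Set X)))
    (hcomm : (⟨z, Subgroup.mem_centralizer_singleton_iff.2 hzu⟩ :
      ↥(Subgroup.centralizer ({u} : Set X))) * a = a * ⟨z, Subgroup.mem_centralizer_singleton_iff.2 hzu⟩) :
    a = 1 := by
  have hgfs := gfs_cent_cent z u hzu hu2 hz
  have hbot := oddCore_eq_bot_of_gfs_eq_pCore hgfs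
  have hOn : (oddCore ↥(Subgroup.centralizer ({u} : Set X))).Normal :=
    Cfsg.Agent.Lib.H22.pPrimeCore_normal 2
  have hOc : (Nat.card (oddCore ↥(Subgroup.centralizer ({u} : Set X)))).Coprime 2 :=
    Cfsg.Agent.Lib.H22.card_pPrimeCore_coprime 2
  have haC : a ∈ Subgroup.centralizer
      ({(⟨z, Subgroup.mem_centralizer_singleton_iff.2 hzu⟩ :
        ↥(Subgroup.centralizer ({u} : Set X)))} : Set ↥(Subgroup.centralizer ({u} : Set X))) :=
    Subgroup.mem_centralizer_singleton_iff.2 hcomm.symm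
  have hDc : (Nat.card ((oddCore ↥(Subgroup.centralizer ({u} : Set X))).subgroupOf
      (Subgroup.centralizer
      ({(⟨z, Subgroup.mem_centralizer_singleton_iff.2 hzu⟩ :
        ↥(Subgroup.centralizer ({u} : Set X)))} : Set ↥(Subgroup.centralizer ({u} : Set X)))))).Coprime 2 := by
    rw [Nat.card_congr (((oddCore ↥(Subgroup.centralizer ({u} : Set X))).subgroupOf
      (Subgroup.centralizer
      ({(⟨z, Subgroup.mem_centralizer_singleton_iff.2 hzu⟩ :
        ↥(Subgroup.centralizer ({u} : Set X)))} : Set ↥(Subgroup.centralizer ({u} : Set X))))).equivMapOfInjective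
        (Subgroup.subtype _) (Subgroup.subtype_injective _)).toEquiv, Subgroup.subgroupOf_map_subtype]
    exact Nat.Coprime.coprime_dvd_left (Subgroup.card_dvd_of_le inf_le_left) hOc
  have hle := Cfsg.Agent.Lib.H22.le_pPrimeCore 2 _ (inferInstance : ((oddCore ↥(Subgroup.centralizer ({u} : Set X))).subgroupOf
      (Subgroup.centralizer
      ({(⟨z, Subgroup.mem_centralizer_singleton_iff.2 hzu⟩ :
        ↥(Subgroup.centralizer ({u} : Set X)))} : Set ↥(Subgroup.centralizer ({u} : Set X))))).Normal) hDc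
  have hmem : (⟨a, haC⟩ : ↥(Subgroup.centralizer
      ({(⟨z, Subgroup.mem_centralizer_singleton_iff.2 hzu⟩ :
        ↥(Subgroup.centralizer ({u} : Set X)))} : Set ↥(Subgroup.centralizer ({u} : Set X))))) ∈
      (oddCore ↥(Subgroup.centralizer ({u} : Set X))).subgroupOf _ := Subgroup.mem_subgroupOf.2 ha
  have h1 := hle hmem
  rw [show pPrimeCore 2 _ = oddCore _ from rfl, hbot, Subgroup.mem_bot] at h1
  exact congrArg Subtype.val h1


/-- Step (1), `X`-level: `θ(z) = O(C_X(z))`, viewed in `X`, is trivial. -/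
theorem theta_eq_bot [Finite X] (z : X)
    (hz : generalizedFittingSubgroup ↥(Subgroup.centralizer ({z} : Set X)) =
      pCore 2 ↥(Subgroup.centralizer ({z} : Set X))) :
    (oddCore ↥(Subgroup.centralizer ({z} : Set X))).map
      (Subgroup.centralizer ({z} : Set X)).subtype = ⊥ := by
  rw [oddCore_eq_bot_of_gfs_eq_pCore hz, Subgroup.map_bot]

/-- Step (2b), `X`-level: `z` has no nontrivial fixed point on `θ(u) = O(C_X(u))`. -/
theorem theta_fixedPoint_eq_one [Finite X] (z u : X) (hzu : z * u = u * z) (hu2 : u ^ 2 = 1)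
    (hz : generalizedFittingSubgroup ↥(Subgroup.centralizer ({z} : Set X)) =
      pCore 2 ↥(Subgroup.centralizer ({z} : Set X)))
    (a : X)
    (ha : a ∈ (oddCore ↥(Subgroup.centralizer ({u} : Set X))).map
      (Subgroup.centralizer ({u} : Set X)).subtype)
    (hcomm : z * a = a * z) : a = 1 := by
  obtain ⟨b, hb, rfl⟩ := ha
  have h := oddCore_cent_fixedPoint_eq_one z u hzu hu2 hz b hb (Subtype.ext hcomm)
  rw [h]; rfl

end swap

end Cfsg.Agent.Lib.H3.SF
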