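import Mathlib
import Cfsg.Prelude.Def_SolvableStructure
import Cfsg.Prelude.Def_Solvable
import Cfsg.Agent.Lib.L0.SFDefs
import Cfsg.Agent.Lib.H26.SFA
import Cfsg.Agent.Lib.H29.SFD1

/-!
# S4130-G3 + S4130-G4 (lead's farm-out), CORE versions with G2 as a hypothesis: `G'` is cyclic of squarefree order

* `SFClass.not_sq_dvd_card_commutator` : `r² ∤ |G'|` (induction on `|G|`: if `G'` is an `r`-group this is G2, else
  factor out a Sylow `q`-subgroup (`q ≠ r`) of the nilpotent group `G'`, which is normal in `G`).
* `SFClass.commutator_isCyclic`.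
-/

set_option autoImplicit false

namespace Cfsg.Agent.Lib.H3.SF

open Cfsg.Agent.Lib.L0.SF

/-- `|K| = |image of K in G/N| · |N|` for `N ≤ K`, `N` normal. -/
theorem card_map_mk_mul_card {G : Type*} [Group G] [Finite G] (N K : Subgroup G) [N.Normal] (hNK : N ≤ K) :
    Nat.card K = Nat.card (K.map (QuotientGroup.mk' N)) * Nat.card N := by
  let φ : ↥K →* G ⧸ N := (QuotientGroup.mk' N).comp K.subtype
  have hrange : φ.range = K.map (QuotientGroup.mk' N) := by
    rw [MonoidHom.range_comp, Subgroup.range_subtype]
  have hker : φ.ker = N.subgroupOf K := by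
    rw [← MonoidHom.comap_ker, QuotientGroup.ker_mk']
    rfl
  have h := Subgroup.card_eq_card_quotient_mul_card_subgroup φ.ker
  rw [Nat.card_congr (QuotientGroup.quotientKerEquivRange φ).toEquiv, hrange, hker,
    Nat.card_congr (Subgroup.subgroupOfEquivOfLe hNK).toEquiv] at h
  exact h

/-- The commutator subgroup of a quotient is the image of the commutator subgroup. -/
theorem commutator_quotient_eq_map {G : Type*} [Group G] (N : Subgroup G) [N.Normal] :
    commutator (G ⧸ N) = (commutator G).map (QuotientGroup.mk' N) := by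
  rw [commutator_def, commutator_def, Subgroup.map_commutator,
    Subgroup.map_top_of_surjective _ (QuotientGroup.mk'_surjective N)]

theorem not_sq_dvd_aux.{u} (r : ℕ) [hrf : Fact r.Prime]
    (hG2 : ∀ (H : Type u) [Group H] [Finite H], SFClass H → ∀ (P : Sylow r H) [(P : Subgroup H).Normal],
      commutator H ≤ (P : Subgroup H) → Nat.card (commutator H) ∣ r) :
    ∀ n : ℕ, ∀ (G : Type u) [Group G] [Finite G],
    Nat.card G = n → SFClass G → ¬ r ^ 2 ∣ Nat.card (commutator G) := by
  have hr : r.Prime := hrf.out
  intro n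
  induction n using Nat.strong_induction_on with
  | _ n ih =>
    intro G _ _ hn h
    have hnil : Group.IsNilpotent ↥(commutator G) := Cfsg.Agent.Lib.H29.SF.SFClass.isNilpotent_commutator h
    by_cases hP : IsPGroup r ↥(commutator G)
    · -- `G'` is an `r`-group: G2
      obtain ⟨P, hP'⟩ := hP.exists_le_sylow
      have hPn : (P : Subgroup G).Normal := by
        refine ⟨fun x hx g => ?_⟩
        have h1 : g * x * g⁻¹ * x⁻¹ ∈ commutator G := by
          have := Subgroup.commutator_mem_commutator (Subgroup.mem_top g) (Subgroup.mem_top x)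
          rw [commutatorElement_def] at this
          rw [commutator_def]; exact this
        have h2 : g * x * g⁻¹ = (g * x * g⁻¹ * x⁻¹) * x := by group
        rw [h2]
        exact (P : Subgroup G).mul_mem (hP' h1) hx
      have hd := hG2 G h P hP'
      intro h2
      have h3 : r ^ 2 ∣ r := h2.trans hd
      have h4 : r ^ 2 ≤ r := Nat.le_of_dvd hr.pos h3
      have h5 : r < r ^ 2 := by
        have := hr.one_lt
        nlinarith
      omega
    · -- some other prime `q` divides `|G'|`
      have hq : ∃ q : ℕ, q.Prime ∧ q ∣ Nat.card ↥(commutator G) ∧ q ≠ r := by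
        by_contra hcon
        apply hP
        have hall : ∀ {d : ℕ}, d.Prime → d ∣ Nat.card ↥(commutator G) → d = r := by
          intro d hd hdd
          by_contra hne
          exact hcon ⟨d, hd, hdd, hne⟩
        have := Nat.eq_prime_pow_of_unique_prime_dvd (Nat.card_pos.ne') hall
        exact IsPGroup.of_card this
      obtain ⟨q, hqp, hqd, hqr⟩ := hq
      have : Fact q.Prime := ⟨hqp⟩
      obtain ⟨Q⟩ : Nonempty (Sylow q ↥(commutator G)) := inferInstance
      have htfae : ∀ (p : ℕ), Fact (Nat.Prime p) → ∀ (P : Sylow p ↥(commutator G)),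
          (P : Subgroup ↥(commutator G)).Normal :=
        ((Group.isNilpotent_of_finite_tfae (G := ↥(commutator G))).out 0 3).1 hnil
      have hQn : (Q : Subgroup ↥(commutator G)).Normal := htfae q ‹_› Q
      have hQc : (Q : Subgroup ↥(commutator G)).Characteristic := Sylow.characteristic_of_normal Q hQn
      set N : Subgroup G := (Q : Subgroup ↥(commutator G)).map (commutator G).subtype with hN
      have hNn : N.Normal := ConjAct.normal_of_characteristic_of_normal
      have hNK : N ≤ commutator G := by
        rintro _ ⟨y, _, rfl⟩; exact y.2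
      have hNcard : Nat.card N = Nat.card (Q : Subgroup ↥(commutator G)) :=
        (Nat.card_congr ((Q : Subgroup ↥(commutator G)).equivMapOfInjective _
          (commutator G).subtype_injective).toEquiv).symm
      have hQne : (Q : Subgroup ↥(commutator G)) ≠ ⊥ := Q.ne_bot_of_dvd_card hqd
      have hN1 : 1 < Nat.card N := by
        rw [hNcard]
        by_contra hle
        have h1 : Nat.card (Q : Subgroup ↥(commutator G)) = 1 := by
          have := Nat.card_pos (α := (Q : Subgroup ↥(commutator G)))
          omega
        exact hQne (Subgroup.eq_bot_of_card_eq _ h1)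
      have hNr : (Nat.card N).Coprime r := by
        rw [hNcard]
        obtain ⟨k, hk⟩ := IsPGroup.iff_card.1 Q.isPGroup'
        rw [hk]
        exact Nat.Coprime.pow_left k ((Nat.coprime_primes hqp hr).2 hqr)
      have hcard : Nat.card (G ⧸ N) < n := by
        have h1 := Subgroup.card_eq_card_quotient_mul_card_subgroup N
        rw [hn] at h1
        have h3 : 0 < Nat.card (G ⧸ N) := Nat.card_pos
        rw [h1]
        nlinarith
      have hq' := ih _ hcard (G ⧸ N) rfl (Cfsg.Agent.Lib.H26.SF.SFClass.quotient h N)
      rw [commutator_quotient_eq_map] at hq'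
      have hmul := card_map_mk_mul_card N (commutator G) hNK
      intro h2
      rw [hmul] at h2
      exact hq' ((Nat.Coprime.pow_left 2 hNr.symm).dvd_of_dvd_mul_right h2)

/-- **S4130-G3**, core (G2 as a hypothesis). -/
theorem not_sq_dvd_card_commutator_of_G2.{u} (r : ℕ) [Fact r.Prime]
    (hG2 : ∀ (H : Type u) [Group H] [Finite H], SFClass H → ∀ (P : Sylow r H) [(P : Subgroup H).Normal],
      commutator H ≤ (P : Subgroup H) → Nat.card (commutator H) ∣ r)
    {G : Type u} [Group G] [Finite G] (h : SFClass G) : ¬ r ^ 2 ∣ Nat.card (commutator G) :=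
  not_sq_dvd_aux r hG2 _ G rfl h

/-- A finite nilpotent group all of whose Sylow subgroups are abelian is abelian
(helper8's `BG12.isMulCommutative_of_nilpotent_of_sylow`, copied to keep the import closure small). -/
theorem comm_of_nilpotent_of_sylow {N : Type*} [Group N] [Finite N] (hN : Group.IsNilpotent N)
    (h : ∀ (p : ℕ) [Fact p.Prime] (P : Sylow p N), ∀ a b : ↥(P : Subgroup N), a * b = b * a) :
    ∀ a b : N, a * b = b * a := by
  have := hN
  let e := Sylow.directProductOfNormal (G := N) (fun {p} _ P => inferInstance)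
  intro a b
  obtain ⟨f, rfl⟩ := e.surjective a
  obtain ⟨g, rfl⟩ := e.surjective b
  rw [← map_mul, ← map_mul]
  congr 1
  funext p P
  have : Fact (p : ℕ).Prime := Fact.mk (Nat.prime_of_mem_primeFactors p.2)
  exact h p P (f p P) (g p P)

/-- A finite nilpotent group with cyclic Sylow subgroups is cyclic
(helper7's `BG147.isCyclic_of_nilpotent_of_sylow_cyclic`, copied to keep the import closure small). -/
theorem isCyclic_of_nilpotent_of_sylow {N : Type*} [Group N] [Finite N] (hN : Group.IsNilpotent N)
    (h : ∀ (p : ℕ) [Fact p.Prime] (P : Sylow p N), IsCyclic ↥(P : Subgroup N)) : IsCyclic N := by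
  have hab : ∀ a b : N, a * b = b * a :=
    comm_of_nilpotent_of_sylow hN (fun p _ P => by
      have := h p P
      exact fun a b => IsCyclic.commGroup.mul_comm a b)
  let _ : CommGroup N := { ‹Group N› with mul_comm := hab }
  rw [IsCyclic.iff_exponent_eq_card]
  have hexp0 : Monoid.exponent N ≠ 0 := Monoid.exponent_ne_zero_of_finite
  have hcard0 : Nat.card N ≠ 0 := Nat.card_pos.ne'
  apply Nat.dvd_antisymm (Monoid.exponent_dvd_of_forall_pow_eq_one (fun g => pow_card_eq_one'))
  rw [← Nat.factorization_le_iff_dvd hcard0 hexp0]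
  intro p
  by_cases hp : p.Prime
  · have : Fact p.Prime := ⟨hp⟩
    obtain ⟨P⟩ : Nonempty (Sylow p N) := inferInstance
    have := h p P
    obtain ⟨x, hx⟩ := IsCyclic.exists_generator (α := ↥(P : Subgroup N))
    have ho : orderOf (x : N) = p ^ (Nat.card N).factorization p := by
      rw [Subgroup.orderOf_coe, orderOf_eq_card_of_forall_mem_zpowers hx,
        Sylow.card_eq_multiplicity]
    have hd : p ^ (Nat.card N).factorization p ∣ Monoid.exponent N := by
      rw [← ho]; exact Monoid.order_dvd_exponent _
    exact (Nat.Prime.pow_dvd_iff_le_factorization hp hexp0).1 hd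
  · rw [Nat.factorization_eq_zero_of_not_prime _ hp]
    exact Nat.zero_le _

/-- **S4130-G4**, core (G3 as a hypothesis). -/
theorem commutator_isCyclic_of_G3 {G : Type*} [Group G] [Finite G] (h : SFClass G)
    (hG3 : ∀ r : ℕ, r.Prime → ¬ r ^ 2 ∣ Nat.card (commutator G)) :
    IsCyclic ↥(commutator G) ∧ Squarefree (Nat.card ↥(commutator G)) := by
  have hsq : Squarefree (Nat.card ↥(commutator G)) := by
    rw [Nat.squarefree_iff_prime_squarefree]
    intro x hx
    rw [← pow_two]
    exact hG3 x hx
  refine ⟨?_, hsq⟩
  apply isCyclic_of_nilpotent_of_sylow (Cfsg.Agent.Lib.H29.SF.SFClass.isNilpotent_commutator h)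
  intro p _ P
  obtain ⟨k, hk⟩ := IsPGroup.iff_card.1 P.isPGroup'
  have hdvd : p ^ k ∣ Nat.card ↥(commutator G) := hk ▸ Subgroup.card_subgroup_dvd_card _
  have hk1 : k ≤ 1 := by
    by_contra hcon
    have h2 : p ^ 2 ∣ Nat.card ↥(commutator G) := (pow_dvd_pow p (by omega)).trans hdvd
    exact hG3 p (Fact.out) h2
  rcases Nat.le_one_iff_eq_zero_or_eq_one.1 hk1 with rfl | rfl
  · rw [pow_zero] at hk
    have : Subsingleton ↥(P : Subgroup ↥(commutator G)) := (Nat.card_eq_one_iff_unique.1 hk).1
    exact isCyclic_of_subsingleton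
  · rw [pow_one] at hk
    exact isCyclic_of_prime_card hk

end Cfsg.Agent.Lib.H3.SF
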