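import Mathlib
import Cfsg.Prelude.Def_SolvableStructure
import Cfsg.Prelude.Def_Solvable
import Cfsg.Agent.Lib.L0.SFDefs
import Cfsg.Agent.Lib.H3.SFG3Core
import Cfsg.Agent.Lib.H22.SFG2

/-!
# S4130-G3 + S4130-G4 (lead's farm-out): `G'` is cyclic of squarefree order (exact signatures)

Proofs: `Lib/H3/SFG3Core` + helper22's G2 (`SFClass.card_commutator_dvd_of_normal_sylow`).
-/

set_option autoImplicit false

namespace Cfsg.Agent.Lib.H3.SF

open Cfsg.Agent.Lib.L0.SF

/-- **S4130-G3**. -/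
theorem SFClass.not_sq_dvd_card_commutator {G : Type*} [Group G] [Finite G] (h : SFClass G) (r : ℕ)
    (hr : r.Prime) : ¬ r ^ 2 ∣ Nat.card (commutator G) := by
  have : Fact r.Prime := ⟨hr⟩
  exact not_sq_dvd_card_commutator_of_G2 r
    (fun H _ _ hH P _ hab => Cfsg.Agent.Lib.H22.SF.SFClass.card_commutator_dvd_of_normal_sylow hH P hab) h

/-- **S4130-G4**. -/
theorem SFClass.commutator_isCyclic {G : Type*} [Group G] [Finite G] (h : SFClass G) :
    IsCyclic ↥(commutator G) ∧ Squarefree (Nat.card ↥(commutator G)) :=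
  commutator_isCyclic_of_G3 h (fun r hr => SFClass.not_sq_dvd_card_commutator h r hr)

end Cfsg.Agent.Lib.H3.SF
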