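import Mathlib
import Cfsg.Prelude.Def_Local
import Cfsg.Agent.Lib.H3.SFCHAR2

/-!
# S2924, piece CHAR2 in the EXACT signature of `tools/blueprints/S2924_sigs.lean` (architect helper24)

Wrapper around the sig-independent core `Cfsg.Agent.Lib.H3.SF.gfs_cent_cent` (`Lib/H3/SFCHAR2.lean`).
-/

set_option autoImplicit false

namespace Cfsg.Agent.Lib.H3.SG

open Cfsg

theorem char2 {X : Type*} [Group X] [Finite X] (u z : X) (hu : orderOf u = 2) (huz : u * z = z * u)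
    (hF : Cfsg.generalizedFittingSubgroup ↥(Subgroup.centralizer ({z} : Set X)) =
      Cfsg.pCore 2 ↥(Subgroup.centralizer ({z} : Set X)))
    (z' : ↥(Subgroup.centralizer ({u} : Set X))) (hz' : (z' : X) = z) :
    Cfsg.pPrimeCore 2 ↥(Subgroup.centralizer ({z'} : Set ↥(Subgroup.centralizer ({u} : Set X)))) = ⊥ ∧
    Cfsg.layer ↥(Subgroup.centralizer ({z'} : Set ↥(Subgroup.centralizer ({u} : Set X)))) = ⊥ := by
  subst hz'
  have : Fact (Nat.Prime 2) := ⟨Nat.prime_two⟩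
  have hu2 : u ^ 2 = 1 := by rw [← hu]; exact pow_orderOf_eq_one u
  have hgfs := Cfsg.Agent.Lib.H3.SF.gfs_cent_cent (z' : X) u huz.symm hu2 hF
  exact ⟨Cfsg.Agent.Lib.H3.SF.oddCore_eq_bot_of_gfs_eq_pCore hgfs,
    Cfsg.Agent.Lib.H3.SF.layer_eq_bot_of_gfs_eq_pCore 2 hgfs⟩

end Cfsg.Agent.Lib.H3.SG
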