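import Mathlib
import Cfsg.Prelude.Def_Local
import Cfsg.Agent.Lib.H7.FStar
import Cfsg.Agent.Lib.H9.SGKEYb
import Cfsg.Agent.Lib.H19.SGKEY1
import Cfsg.Agent.Lib.H20.SFINV
import Cfsg.Agent.Lib.H22.PPrimeCore

/-!
# S2924, piece KEY in the EXACT signature of `tools/blueprints/S2924_sigs.lean` (architect helper24)

Glue of helper9's landed `H9.SG.key_b` (every component of `H ⧸ A` lies in the image of `C_H(A)`), helper19's landed
`H19.SG.component_of_central_ext` (KEY1) and helper20's landed `H20.SF.comm_of_fpf`; `A = O(H)`, `z` fixed-point-free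
on `A` because `A ∩ C_H(z)` is a normal odd-order subgroup of `C_H(z)` and `O(C_H(z)) = 1`.
-/

set_option autoImplicit false

namespace Cfsg.Agent.Lib.H3.SG

open Cfsg

theorem key {H : Type*} [Group H] [Finite H] (z : H) (hz : orderOf z = 2)
    (hE : Cfsg.layer H = ⊥)
    (hO : Cfsg.pPrimeCore 2 ↥(Subgroup.centralizer ({z} : Set H)) = ⊥)
    (hL : Cfsg.layer ↥(Subgroup.centralizer ({z} : Set H)) = ⊥) :
    Cfsg.layer (H ⧸ Cfsg.pPrimeCore 2 H) = ⊥ := by
  have hzz : z * z = 1 := by
    have := pow_orderOf_eq_one z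
    rw [hz, pow_two] at this
    exact this
  -- `z` is fixed-point-free on `A = O(H)`
  have hOc : (Nat.card (pPrimeCore 2 H)).Coprime 2 := Cfsg.Agent.Lib.H22.card_pPrimeCore_coprime 2
  have hfix : ∀ a ∈ pPrimeCore 2 H, z * a = a * z → a = 1 := by
    intro a ha hcomm
    have haC : a ∈ Subgroup.centralizer ({z} : Set H) :=
      Subgroup.mem_centralizer_singleton_iff.2 hcomm.symm
    have hDc : (Nat.card ((pPrimeCore 2 H).subgroupOf (Subgroup.centralizer ({z} : Set H)))).Coprime 2 := by
      rw [Nat.card_congr (((pPrimeCore 2 H).subgroupOf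
        (Subgroup.centralizer ({z} : Set H))).equivMapOfInjective
        (Subgroup.subtype _) (Subgroup.subtype_injective _)).toEquiv, Subgroup.subgroupOf_map_subtype]
      exact Nat.Coprime.coprime_dvd_left (Subgroup.card_dvd_of_le inf_le_left) hOc
    have hle := Cfsg.Agent.Lib.H22.le_pPrimeCore 2 _
      (inferInstance : ((pPrimeCore 2 H).subgroupOf (Subgroup.centralizer ({z} : Set H))).Normal) hDc
    have hmem : (⟨a, haC⟩ : ↥(Subgroup.centralizer ({z} : Set H))) ∈
        (pPrimeCore 2 H).subgroupOf _ := Subgroup.mem_subgroupOf.2 ha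
    have h1 := hle hmem
    rw [hO, Subgroup.mem_bot] at h1
    exact congrArg Subtype.val h1
  have hAcomm := Cfsg.Agent.Lib.H20.SF.comm_of_fpf (pPrimeCore 2 H) hzz hfix
  rw [Cfsg.Agent.Lib.H7.layer_eq_bot_iff]
  intro K hK
  have hKle := Cfsg.Agent.Lib.H9.SG.key_b (pPrimeCore 2 H) z hzz hfix hL K hK
  set π := QuotientGroup.mk' (pPrimeCore 2 H) with hπ
  have hAL : pPrimeCore 2 H ≤ K.comap π := by
    intro a ha
    rw [Subgroup.mem_comap]
    have : π a = 1 := by
      rw [hπ, QuotientGroup.mk'_apply, QuotientGroup.eq_one_iff]; exact ha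
    rw [this]; exact K.one_mem
  have hcent : K.comap π ≤ Subgroup.centralizer ((pPrimeCore 2 H : Subgroup H) : Set H) := by
    intro x hx
    rw [Subgroup.mem_comap] at hx
    obtain ⟨c, hc, hcx⟩ := hKle hx
    -- x = c * a with a ∈ A
    have hca : c⁻¹ * x ∈ pPrimeCore 2 H := by
      rw [← QuotientGroup.eq_one_iff, ← QuotientGroup.mk'_apply, ← hπ, map_mul, map_inv, hcx]
      simp
    have hx' : x = c * (c⁻¹ * x) := by group
    rw [hx']
    apply Subgroup.mul_mem _ hc
    rw [Subgroup.mem_centralizer_iff]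
    intro b hb
    exact hAcomm b hb _ hca
  have hLs : (K.comap π).IsSubnormal := Subgroup.IsSubnormal.comap π hK.1
  have hmap : (K.comap π).map π = K :=
    Subgroup.map_comap_eq_self_of_surjective (QuotientGroup.mk'_surjective _) K
  have hq : IsQuasisimple ↥((K.comap π).map (QuotientGroup.mk' (pPrimeCore 2 H))) := by
    rw [← hπ, hmap]; exact hK.2
  have hcomp := Cfsg.Agent.Lib.H19.SG.component_of_central_ext (pPrimeCore 2 H) (K.comap π)
    hAL hcent hLs hq
  exact (Cfsg.Agent.Lib.H7.layer_eq_bot_iff.1 hE) _ hcomp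

end Cfsg.Agent.Lib.H3.SG
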