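import Mathlib

/-!
S3016 (odd-p Shult), CASE B with `q = |H| = 3`: the arithmetic endgame (helper26's route,
board #9055).  Pure arithmetic, Mathlib only.

Data: for every irreducible character `i` of the principal block, `d i = χ(a) ∈ ℤ`,
`f i = χ(1)`, `R i` = the real average of `χ` over the products `a * b^g` of "type −".
* `hcs`  : `2 d² = f (d + R)`            (class-sum relation at `q = 3`)
* `hq3`  : `2 d - f ≤ R`                  (average of the pointwise Lemma Q3)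
* `hsum` : `∑ d R = 0`                    (block orthogonality against the regular part)
* `horth`: `∑ d f = 0`                    (block orthogonality `1` vs `a`)
* trivial character `i₀`: `d = f = 1`;  `d < f` otherwise.
Conclusion: `False`.
-/

namespace Cfsg.Agent.Lib.H3.SHQ3

theorem q3_aux (D F R : ℝ) (hcs : 2 * D ^ 2 = F * (D + R)) :
    F * (D * R) = D ^ 2 * (2 * D - F) := by
  have h : F * R = 2 * D ^ 2 - F * D := by linarith
  calc F * (D * R) = D * (F * R) := by ring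
    _ = D * (2 * D ^ 2 - F * D) := by rw [h]
    _ = D ^ 2 * (2 * D - F) := by ring

/-- `2 d ≤ f` from the class-sum relation and the Q3 bound. -/
theorem q3_two_le (D F R : ℝ) (hF : 0 < F) (hDF : D < F)
    (hcs : 2 * D ^ 2 = F * (D + R)) (hq3 : 2 * D - F ≤ R) : 2 * D ≤ F := by
  by_contra h
  push Not at h
  have h1 : F * (3 * D - F) ≤ F * (D + R) :=
    mul_le_mul_of_nonneg_left (by linarith) hF.le
  have h2 : 0 < (2 * D - F) * (F - D) := mul_pos (by linarith) (by linarith)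
  nlinarith

/-- Every nontrivial term `d R` is `≤ 0`. -/
theorem q3_term_nonpos (D F R : ℝ) (hF : 0 < F) (hDF : D < F)
    (hcs : 2 * D ^ 2 = F * (D + R)) (hq3 : 2 * D - F ≤ R) : D * R ≤ 0 := by
  have h1 := q3_two_le D F R hF hDF hcs hq3
  have h2 := q3_aux D F R hcs
  have h3 : F * (D * R) ≤ 0 := by
    rw [h2]; exact mul_nonpos_of_nonneg_of_nonpos (sq_nonneg D) (by linarith)
  by_contra h
  push Not at h
  have := mul_pos hF h
  linarith

/-- A term with `d ≤ -1` is `< -1`. -/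
theorem q3_term_neg (D F R : ℝ) (hF : 0 < F) (hD : D ≤ -1)
    (hcs : 2 * D ^ 2 = F * (D + R)) : D * R < -1 := by
  have h2 := q3_aux D F R hcs
  have hD2 : 1 ≤ D ^ 2 := by nlinarith
  have hD3 : D ^ 2 * D < 0 := mul_neg_of_pos_of_neg (by linarith) (by linarith)
  have h4 : D ^ 2 * F ≥ F := by nlinarith
  have h3 : F * (D * R) < F * (-1) := by
    rw [h2]; nlinarith
  exact lt_of_mul_lt_mul_left h3 hF.le

/-- **Q3-ARITH**, integer-valued degrees (the shape of `H8.SHp.endb_core_odd`). -/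
theorem endb_q3 {ι : Type*} (s : Finset ι) (i₀ : ι) (hi₀ : i₀ ∈ s)
    (d f : ι → ℤ) (R : ι → ℝ) (hf : ∀ i ∈ s, 0 < f i) (hd0 : d i₀ = 1) (hf0 : f i₀ = 1)
    (hdf : ∀ i ∈ s, i ≠ i₀ → d i < f i)
    (hcs : ∀ i ∈ s, 2 * (d i : ℝ) ^ 2 = (f i : ℝ) * ((d i : ℝ) + R i))
    (hq3 : ∀ i ∈ s, 2 * (d i : ℝ) - (f i : ℝ) ≤ R i)
    (hsum : ∑ i ∈ s, (d i : ℝ) * R i = 0)
    (horth : ∑ i ∈ s, (d i : ℝ) * (f i : ℝ) = 0) : False := by
  classical
  have hR0 : R i₀ = 1 := by
    have h := hcs i₀ hi₀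
    rw [hd0, hf0] at h
    push_cast at h
    linarith
  have hterm : ∀ i ∈ s, i ≠ i₀ → (d i : ℝ) * R i ≤ 0 := fun i hi hne =>
    q3_term_nonpos _ _ _ (by exact_mod_cast hf i hi) (by exact_mod_cast hdf i hi hne)
      (hcs i hi) (hq3 i hi)
  have hsplit : ∑ i ∈ s, (d i : ℝ) * R i
      = (d i₀ : ℝ) * R i₀ + ∑ i ∈ s.erase i₀, (d i : ℝ) * R i :=
    (Finset.add_sum_erase s _ hi₀).symm
  have hrest : ∑ i ∈ s.erase i₀, (d i : ℝ) * R i = -1 := by
    rw [hsplit, hd0, hR0] at hsum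
    push_cast at hsum
    linarith
  have hnonneg : ∀ i ∈ s, 0 ≤ d i := by
    intro i hi
    by_cases hne : i = i₀
    · rw [hne, hd0]; norm_num
    by_contra hneg
    push Not at hneg
    have hD : (d i : ℝ) ≤ -1 := by exact_mod_cast (by omega : d i ≤ -1)
    have hlt := q3_term_neg _ _ (R i) (by exact_mod_cast hf i hi) hD (hcs i hi)
    have hi' : i ∈ s.erase i₀ := Finset.mem_erase.mpr ⟨hne, hi⟩
    have h2 : ∑ j ∈ s.erase i₀, (d j : ℝ) * R j
        = (d i : ℝ) * R i + ∑ j ∈ (s.erase i₀).erase i, (d j : ℝ) * R j :=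
      (Finset.add_sum_erase _ _ hi').symm
    have h3 : ∑ j ∈ (s.erase i₀).erase i, (d j : ℝ) * R j ≤ 0 :=
      Finset.sum_nonpos (fun j hj => by
        have hj1 := Finset.mem_erase.mp hj
        have hj2 := Finset.mem_erase.mp hj1.2
        exact hterm j hj2.2 hj2.1)
    linarith
  have hsplit2 : ∑ i ∈ s, (d i : ℝ) * (f i : ℝ)
      = (d i₀ : ℝ) * (f i₀ : ℝ) + ∑ i ∈ s.erase i₀, (d i : ℝ) * (f i : ℝ) :=
    (Finset.add_sum_erase s _ hi₀).symm
  have hge : 0 ≤ ∑ i ∈ s.erase i₀, (d i : ℝ) * (f i : ℝ) :=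
    Finset.sum_nonneg (fun j hj => by
      have hj1 := Finset.mem_erase.mp hj
      exact mul_nonneg (by exact_mod_cast hnonneg j hj1.2)
        (by exact_mod_cast (hf j hj1.2).le))
  rw [hsplit2, hd0, hf0] at horth
  push_cast at horth
  linarith

/-- **Q3-ARITH**, natural-number degrees (the shape of helper26's board post #9055). -/
theorem endb_q3_nat {ι : Type*} (s : Finset ι) (i₀ : ι) (hi₀ : i₀ ∈ s)
    (d : ι → ℤ) (f : ι → ℕ) (R : ι → ℝ) (hf : ∀ i ∈ s, 0 < f i)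
    (hd0 : d i₀ = 1) (hf0 : f i₀ = 1)
    (hdf : ∀ i ∈ s, i ≠ i₀ → d i < (f i : ℤ))
    (hcs : ∀ i ∈ s, 2 * (d i : ℝ) ^ 2 = (f i : ℝ) * ((d i : ℝ) + R i))
    (hq3 : ∀ i ∈ s, 2 * (d i : ℝ) - (f i : ℝ) ≤ R i)
    (hsum : ∑ i ∈ s, (d i : ℝ) * R i = 0)
    (horth : ∑ i ∈ s, (d i : ℝ) * (f i : ℝ) = 0) : False := by
  refine endb_q3 s i₀ hi₀ d (fun i => (f i : ℤ)) R (fun i hi => by exact_mod_cast hf i hi)
    hd0 (by simp [hf0]) hdf ?_ ?_ hsum ?_
  · intro i hi
    have := hcs i hi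
    push_cast
    exact this
  · intro i hi
    have := hq3 i hi
    push_cast
    exact this
  · have : ∑ i ∈ s, (d i : ℝ) * (((f i : ℤ) : ℝ)) = ∑ i ∈ s, (d i : ℝ) * (f i : ℝ) := by
      apply Finset.sum_congr rfl
      intro i _
      push_cast
      rfl
    rw [this]; exact horth


end Cfsg.Agent.Lib.H3.SHQ3
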