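import Mathlib
import Cfsg.Prelude.Def_Characters
import Cfsg.Agent.Lib.L0.FiniteOrderEnd
import Cfsg.Agent.Lib.H17.SHINV2

/-!
S3016 (odd-p Shult), CASE B with `q = |H| = 3`: **Lemma Q3** (helper26's route, board #9055).

`χ` a character of a finite group, `L` a subgroup, `a` normalising `L`, with
`χ (a * l) = χ a` for all `l ∈ L`.  Then for all `y ∈ L`: `2 Re χ(a) - χ(1) ≤ Re χ(y)`.

Proof: `e = |L|⁻¹ ∑_{l ∈ L} ρ l` is an idempotent commuting with `ρ a`, `tr (ρ a * e) = χ a`,
`F = ρ a * e + (1 - e)` has finite order so `Re tr F ≤ dim V`, i.e. `Re χ a ≤ rank e`; and every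
`y ∈ L` fixes `range e` pointwise, so `Re χ y ≥ 2 rank e - dim V`.
-/

set_option autoImplicit false

open Module

namespace Cfsg.Agent.Lib.H3.SHQ3

open Cfsg.Agent.Lib.L0

section Ring

variable {R : Type*} [Ring R]

theorem idem_pow (A e : R) (he : e * e = e) (hc : A * e = e * A) (k : ℕ) :
    (A * e + (1 - e)) ^ k = A ^ k * e + (1 - e) := by
  have h1 : e * (1 - e) = 0 := by rw [mul_sub, mul_one, he, sub_self]
  have h2 : (1 - e) * e = 0 := by rw [sub_mul, one_mul, he, sub_self]
  have h3 : (1 - e) * (1 - e) = 1 - e := by rw [mul_sub, mul_one, h2, sub_zero]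
  induction k with
  | zero => simp
  | succ k ih =>
    rw [pow_succ, ih, add_mul, mul_add, mul_add]
    have e1 : A ^ k * e * (A * e) = A ^ (k + 1) * e := by
      rw [pow_succ, mul_assoc (A ^ k) e, ← mul_assoc e A e, ← hc, mul_assoc A e e, he, mul_assoc]
    have e2 : A ^ k * e * (1 - e) = 0 := by rw [mul_assoc, h1, mul_zero]
    have e3 : (1 - e) * (A * e) = 0 := by rw [hc, ← mul_assoc, h2, zero_mul]
    rw [e1, e2, e3, h3, add_zero, zero_add]

end Ring

section LinAlg

variable {V : Type*} [AddCommGroup V] [Module ℂ V] [FiniteDimensional ℂ V]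

/-- `A` of finite order commuting with an idempotent `e`: `Re tr (A e) ≤ rank e`. -/
theorem re_trace_mul_idem_le (A e : End ℂ V) (he : e * e = e) (hc : A * e = e * A)
    (m : ℕ) (hm : 0 < m) (hA : A ^ m = 1) :
    (LinearMap.trace ℂ V (A * e)).re ≤ (finrank ℂ (LinearMap.range e) : ℝ) := by
  have hF : (A * e + (1 - e)) ^ m = 1 := by
    rw [idem_pow A e he hc m, hA, one_mul]; abel
  have hn := norm_trace_le hm hF
  have hre := (Complex.re_le_norm _).trans hn
  have hidem : IsIdempotentElem e := he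
  have htre : LinearMap.trace ℂ V e = (finrank ℂ (LinearMap.range e) : ℂ) :=
    (LinearMap.IsIdempotentElem.isProj_range e hidem).trace
  have htr : LinearMap.trace ℂ V (A * e + (1 - e))
      = LinearMap.trace ℂ V (A * e) + ((finrank ℂ V : ℂ) - (finrank ℂ (LinearMap.range e) : ℂ)) := by
    rw [map_add, map_sub, htre, show (1 : End ℂ V) = LinearMap.id from rfl, LinearMap.trace_id]
  rw [htr] at hre
  simp only [Complex.add_re, Complex.sub_re, Complex.natCast_re] at hre
  linarith

end LinAlg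

section Character

variable {G : Type*} [Group G] [Finite G]

/-- **Lemma Q3.** -/
theorem lemma_Q3 (χ : G → ℂ) (hχ : Cfsg.IsCharacter G χ) (L : Subgroup G) (a : G)
    (hnorm : ∀ l ∈ L, a * l * a⁻¹ ∈ L)
    (hconst : ∀ l ∈ L, χ (a * l) = χ a) (y : G) (hy : y ∈ L) :
    2 * (χ a).re - (χ 1).re ≤ (χ y).re := by
  classical
  obtain ⟨n, ρ, rfl⟩ := hχ
  have : Fintype L := Fintype.ofFinite L
  set S : End ℂ (Fin n → ℂ) := ∑ l : L, ρ (l : G) with hS
  have hcard : (Nat.card L : ℂ) ≠ 0 := by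
    have : 0 < Nat.card L := Nat.card_pos
    exact_mod_cast this.ne'
  set e : End ℂ (Fin n → ℂ) := ((Nat.card L : ℂ)⁻¹) • S with he
  -- (i) ρ y * S = S for y ∈ L
  have hyS : ∀ z : G, z ∈ L → ρ z * S = S := by
    intro z hz
    rw [hS, Finset.mul_sum]
    have hb : Function.Bijective (fun l : L => (⟨z, hz⟩ : L) * l) :=
      (Equiv.mulLeft (⟨z, hz⟩ : L)).bijective
    rw [← hb.sum_comp (fun l : L => ρ (l : G))]
    refine Finset.sum_congr rfl fun l _ => ?_
    rw [← map_mul]
    rfl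
  have hye : ∀ z : G, z ∈ L → ρ z * e = e := by
    intro z hz
    rw [he, mul_smul_comm, hyS z hz]
  -- (ii) idempotent
  have hSe : S * e = (Nat.card L : ℂ) • e := by
    rw [hS, Finset.sum_mul]
    rw [Finset.sum_congr rfl (fun (l : L) _ => hye (l : G) l.property)]
    rw [Finset.sum_const, Finset.card_univ, Nat.card_eq_fintype_card, Nat.cast_smul_eq_nsmul]
  have hee : e * e = e := by
    conv_lhs => rw [he]
    rw [smul_mul_assoc, hSe, smul_smul, inv_mul_cancel₀ hcard, one_smul]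
  -- (iii) commutes with ρ a
  have hcomm : ρ a * e = e * ρ a := by
    rw [he, mul_smul_comm, smul_mul_assoc]
    congr 1
    rw [hS, Finset.mul_sum, Finset.sum_mul]
    have hinj : Function.Injective (fun l : L => (⟨a * l * a⁻¹, hnorm (l : G) l.property⟩ : L)) := by
      intro l₁ l₂ h
      have h' : a * (l₁ : G) * a⁻¹ = a * (l₂ : G) * a⁻¹ := congrArg Subtype.val h
      exact Subtype.ext (mul_left_cancel (mul_right_cancel h'))
    have hb : Function.Bijective (fun l : L => (⟨a * l * a⁻¹, hnorm (l : G) l.property⟩ : L)) :=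
      Finite.injective_iff_bijective.mp hinj
    rw [← hb.sum_comp (fun l : L => ρ (l : G) * ρ a)]
    refine Finset.sum_congr rfl fun l _ => ?_
    rw [← map_mul, ← map_mul]
    congr 1
    simp
  -- (iv) trace of ρ a * e
  have htr : LinearMap.trace ℂ (Fin n → ℂ) (ρ a * e) = ρ.character a := by
    rw [he, mul_smul_comm, map_smul, hS, Finset.mul_sum, map_sum]
    have : ∀ l : L, LinearMap.trace ℂ (Fin n → ℂ) (ρ a * ρ (l : G)) = ρ.character a := by
      intro l
      rw [← map_mul]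
      exact hconst (l : G) l.2
    rw [Finset.sum_congr rfl (fun (l : L) _ => this l), Finset.sum_const, Finset.card_univ,
      ← Nat.card_eq_fintype_card, nsmul_eq_mul, smul_eq_mul, ← mul_assoc, inv_mul_cancel₀ hcard,
      one_mul]
  -- (v) range e ≤ Fix (ρ y)
  have hle : LinearMap.range e ≤ End.eigenspace (ρ y) 1 := by
    rintro v ⟨w, rfl⟩
    rw [End.mem_eigenspace_iff, one_smul, ← Module.End.mul_apply, hye y hy]
  have hrank : (finrank ℂ (LinearMap.range e) : ℝ) ≤ (finrank ℂ (End.eigenspace (ρ y) 1) : ℝ) := by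
    exact_mod_cast Submodule.finrank_mono hle
  -- (vi)
  have hA : (ρ a) ^ orderOf a = 1 := by rw [← map_pow, pow_orderOf_eq_one, map_one]
  have h6 := re_trace_mul_idem_le (ρ a) e hee hcomm (orderOf a) (orderOf_pos a) hA
  rw [htr] at h6
  -- (vii)
  have hY : (ρ y) ^ orderOf y = 1 := by rw [← map_pow, pow_orderOf_eq_one, map_one]
  have h7 := Cfsg.Agent.Lib.H17.SH.re_trace_ge_of_pow_eq_one (ρ y) (orderOf y) (orderOf_pos y) hY
  have h1 : (ρ.character 1).re = (finrank ℂ (Fin n → ℂ) : ℝ) := by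
    rw [Representation.char_one]
    simp
  have h8 : (ρ.character y).re = (LinearMap.trace ℂ (Fin n → ℂ) (ρ y)).re := rfl
  rw [h1, h8]
  linarith

/-- **Lemma Q3**, conjugacy form: if every element of the coset `a L` is conjugate to `a`. -/
theorem lemma_Q3_conj (χ : G → ℂ) (hχ : Cfsg.IsCharacter G χ) (L : Subgroup G) (a : G)
    (hnorm : ∀ l ∈ L, a * l * a⁻¹ ∈ L)
    (hconj : ∀ l ∈ L, ∃ k : G, a * l = k * a * k⁻¹) (y : G) (hy : y ∈ L) :
    2 * (χ a).re - (χ 1).re ≤ (χ y).re := by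
  refine lemma_Q3 χ hχ L a hnorm ?_ y hy
  intro l hl
  obtain ⟨k, hk⟩ := hconj l hl
  obtain ⟨n, ρ, rfl⟩ := hχ
  rw [hk]
  exact ρ.char_conj a k

end Character

end Cfsg.Agent.Lib.H3.SHQ3
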