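import Mathlib
import Cfsg.Agent.S4072

set_option autoImplicit false

/-! S4073 piece CA2 (architect helper23): in a finite simple non-abelian SN-group,
a centralizer `C_G(x)`, `x ≠ 1`, cannot be solvable and non-nilpotent. -/

namespace Cfsg.Agent.Lib.H3.SNS

open Cfsg.Agent.S4072 (SN)

/-- `S4071.forward` for a subgroup `K` of an SN-group, with all the data moved into `G`. -/
theorem forward_sub {G : Type*} [Group G] [Finite G] (h : SN G) (K : Subgroup G)
    [hsol : Group.IsSolvable ↥K] (hnn : ¬ Group.IsNilpotent ↥K) :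
    ∃ (y : G) (A : Subgroup G) (p k : ℕ), p.Prime ∧ y ∈ K ∧ A ≤ K ∧
      (∀ g ∈ K, ∀ a ∈ A, g * a * g⁻¹ ∈ A) ∧ (∀ a ∈ A, ∀ b ∈ A, a * b = b * a) ∧
      orderOf y = p ^ k ∧ ¬ p ∣ Nat.card A ∧ (∀ g ∈ K, ∃ i : ℤ, ∃ a ∈ A, g = y ^ i * a) ∧
      (∀ g ∈ K, g * y ^ p = y ^ p * g) ∧ (∀ a ∈ A, a ≠ 1 → y * a * y⁻¹ ≠ a) ∧
      Nat.card K = p ^ k * Nat.card A := by
  obtain ⟨y', A', p, hp, hAn, hAc, ⟨k, hk⟩, hpA, hcompl, hz, hfpf⟩ :=
    Cfsg.Agent.S4071.forward hnn (h.subgroup K)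
  have hcardA : Nat.card (A'.map K.subtype) = Nat.card A' :=
    Subgroup.card_map_of_injective (Subgroup.subtype_injective K)
  refine ⟨(y' : G), A'.map K.subtype, p, k, hp, y'.2, Subgroup.map_subtype_le A', ?_, ?_, ?_, ?_,
    ?_, ?_, ?_, ?_⟩
  · rintro g hg _ ⟨a', ha', rfl⟩
    exact ⟨⟨g, hg⟩ * a' * ⟨g, hg⟩⁻¹, hAn.conj_mem a' ha' ⟨g, hg⟩, rfl⟩
  · rintro _ ⟨a', ha', rfl⟩ _ ⟨b', hb', rfl⟩
    exact congrArg Subtype.val (Cfsg.Agent.S4071.comm_of_isMulCommutative hAc a' ha' b' hb')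
  · rw [Subgroup.orderOf_coe]; exact hk
  · rw [hcardA]; exact hpA
  · intro g hg
    obtain ⟨⟨⟨s, hs⟩, ⟨t, ht⟩⟩, hst⟩ := hcompl.2 ⟨g, hg⟩
    obtain ⟨i, rfl⟩ := Subgroup.mem_zpowers_iff.mp hs
    refine ⟨i, (t : G), ⟨t, ht, rfl⟩, ?_⟩
    have := congrArg Subtype.val hst
    simpa using this.symm
  · intro g hg
    have := congrArg Subtype.val (Subgroup.mem_center_iff.mp hz ⟨g, hg⟩)
    simpa using this
  · rintro _ ⟨a', ha', rfl⟩ hne heq
    have hne' : a' ≠ 1 := fun h1 => hne (by rw [h1]; rfl)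
    exact hfpf a' ha' hne' (Subtype.ext (by simpa using heq))
  · rw [hcardA, ← hk, ← Nat.card_zpowers y']
    exact hcompl.card_mul_card.symm


theorem conj_mem_zpowers_of {G : Type*} [Group G] {w y x : G}
    (hw : w * y * w⁻¹ ∈ Subgroup.zpowers y) (hx : x ∈ Subgroup.zpowers y) :
    w * x * w⁻¹ ∈ Subgroup.zpowers x := by
  obtain ⟨j, hj⟩ := Subgroup.mem_zpowers_iff.mp hw
  obtain ⟨i, rfl⟩ := Subgroup.mem_zpowers_iff.mp hx
  refine Subgroup.mem_zpowers_iff.mpr ⟨j, ?_⟩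
  rw [← zpow_mul, mul_comm, zpow_mul, hj, conj_zpow]

theorem mem_normalizer_zpowers {G : Type*} [Group G] {g x : G}
    (h1 : g * x * g⁻¹ ∈ Subgroup.zpowers x) (h2 : g⁻¹ * x * g ∈ Subgroup.zpowers x) :
    g ∈ Subgroup.normalizer ((Subgroup.zpowers x : Subgroup G) : Set G) := by
  rw [Subgroup.mem_set_normalizer_iff]
  intro h
  constructor
  · intro hh
    obtain ⟨m, rfl⟩ := Subgroup.mem_zpowers_iff.mp hh
    have : g * x ^ m * g⁻¹ = (g * x * g⁻¹) ^ m := by rw [conj_zpow]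
    rw [SetLike.mem_coe, this]
    exact Subgroup.zpow_mem _ h1 m
  · intro hh
    obtain ⟨m, hm⟩ := Subgroup.mem_zpowers_iff.mp hh
    have : h = (g⁻¹ * x * g) ^ m := by
      have e : (g⁻¹ * x * g) ^ m = g⁻¹ * x ^ m * g := by
        have := conj_zpow (a := g⁻¹) (b := x) (i := m)
        rw [inv_inv] at this
        exact this
      rw [e, hm]; group
    rw [SetLike.mem_coe, this]
    exact Subgroup.zpow_mem _ h2 m

theorem nilpotent_of_le_zpowers {G : Type*} [Group G] (K : Subgroup G) (z : G)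
    (hK : K ≤ Subgroup.zpowers z) : Group.IsNilpotent ↥K := by
  have hcomm : ∀ a b : K, a * b = b * a := by
    intro a b
    obtain ⟨i, hi⟩ := Subgroup.mem_zpowers_iff.mp (hK a.2)
    obtain ⟨j, hj⟩ := Subgroup.mem_zpowers_iff.mp (hK b.2)
    apply Subtype.ext
    show (a : G) * b = b * a
    rw [← hi, ← hj, ← zpow_add, ← zpow_add, add_comm]
  letI : CommGroup ↥K := { (inferInstance : Group ↥K) with mul_comm := hcomm }
  exact CommGroup.isNilpotent

theorem mem_of_pow_mem_coprime {G : Type*} [Group G] {H : Subgroup G} {g : G} {a b : ℕ}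
    (hab : Nat.Coprime a b) (ha : g ^ a ∈ H) (hb : g ^ b = 1) : g ∈ H := by
  obtain ⟨u, v, huv⟩ := Nat.isCoprime_iff_coprime.mpr hab
  have : g = (g ^ a) ^ u * (g ^ b) ^ v := by
    rw [← zpow_natCast, ← zpow_natCast, ← zpow_mul, ← zpow_mul, ← zpow_add,
      mul_comm (a : ℤ) u, mul_comm (b : ℤ) v, huv, zpow_one]
  rw [this, hb, one_zpow, mul_one]
  exact H.zpow_mem ha u

theorem eq_one_of_orders {G : Type*} [Group G] {c : G} {a b : ℕ} (hab : Nat.Coprime a b)
    (ha : c ^ a = 1) (hb : c ^ b = 1) : c = 1 := by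
  have := mem_of_pow_mem_coprime (H := (⊥ : Subgroup G)) hab (by rw [ha]; exact Subgroup.one_mem _) hb
  exact Subgroup.mem_bot.mp this


/-- Step (b): `⟨y⟩` is a Sylow `p`-subgroup of `G`. -/
theorem sylow_eq_zpowers {G : Type*} [Group G] [Finite G] (h : SN G) (x y : G) (A : Subgroup G)
    (p k : ℕ) [Fact p.Prime] (hyord : orderOf y = p ^ k) (hpA : ¬ p ∣ Nat.card A)
    (hcardC : Nat.card (Subgroup.centralizer ({x} : Set G)) = p ^ k * Nat.card A)
    (hyC : y ∈ Subgroup.centralizer ({x} : Set G))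
    (i' : ℤ) (hxe : x = (y ^ p) ^ i') (P : Sylow p G) (hYP : Subgroup.zpowers y ≤ (P : Subgroup G)) :
    (P : Subgroup G) = Subgroup.zpowers y := by
  classical
  have hp : p.Prime := Fact.out
  have hxY : x ∈ Subgroup.zpowers y := by
    rw [hxe]; exact Subgroup.zpow_mem _ (Subgroup.pow_mem _ (Subgroup.mem_zpowers y) p) i'
  -- T = P ⊓ C = ⟨y⟩
  have hT : Subgroup.zpowers y = (P : Subgroup G) ⊓ Subgroup.centralizer ({x} : Set G) := by
    apply Subgroup.eq_of_le_of_card_ge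
    · exact le_inf hYP ((Subgroup.zpowers_le).mpr hyC)
    · have hTp : IsPGroup p ↥((P : Subgroup G) ⊓ Subgroup.centralizer ({x} : Set G)) :=
        P.isPGroup'.to_le inf_le_left
      obtain ⟨n, hn⟩ := IsPGroup.iff_card.mp hTp
      have hdvd : Nat.card ↥((P : Subgroup G) ⊓ Subgroup.centralizer ({x} : Set G)) ∣
          p ^ k * Nat.card A := by
        rw [← hcardC]; exact Subgroup.card_dvd_of_le inf_le_right
      rw [hn] at hdvd ⊢
      have hcop : Nat.Coprime (p ^ n) (Nat.card A) :=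
        Nat.Coprime.pow_left n ((Nat.Prime.coprime_iff_not_dvd hp).mpr hpA)
      have := hcop.dvd_of_dvd_mul_right hdvd
      rw [Nat.card_zpowers, hyord]
      exact Nat.le_of_dvd (pow_pos hp.pos k) this
  have hPsn : SN ↥(P : Subgroup G) := h.subgroup _
  haveI : Group.IsNilpotent ↥(P : Subgroup G) := P.isPGroup'.isNilpotent
  have hmemT : ∀ s ∈ (P : Subgroup G), s * x = x * s → s ∈ Subgroup.zpowers y := by
    intro s hs hsx
    rw [hT]
    exact ⟨hs, Subgroup.mem_centralizer_singleton_iff.mpr hsx⟩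
  rcases (Cfsg.Agent.S4075.result (G := ↥(P : Subgroup G))).mp hPsn with hab | ⟨-, hPna, hPmin⟩
  · -- abelian
    apply le_antisymm _ hYP
    intro s hs
    apply hmemT s hs
    have := hab.is_comm.comm ⟨s, hs⟩ ⟨x, hYP hxY⟩
    exact congrArg Subtype.val this
  · -- minimal non-abelian
    by_contra hne
    have hnle : ¬ (P : Subgroup G) ≤ Subgroup.zpowers y := fun hle => hne (le_antisymm hle hYP)
    obtain ⟨s, hs, hsY⟩ := SetLike.not_le_iff_exists.mp hnle
    obtain ⟨s', hs'⟩ : ∃ s' : ↥(P : Subgroup G), s' = ⟨s, hs⟩ := ⟨_, rfl⟩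
    obtain ⟨y', hy'⟩ : ∃ y' : ↥(P : Subgroup G), y' = ⟨y, hYP (Subgroup.mem_zpowers y)⟩ := ⟨_, rfl⟩
    -- zpowers s' is proper
    have hsne : Subgroup.zpowers s' ≠ ⊤ := by
      intro htop
      apply hPna
      refine ⟨⟨fun a b => ?_⟩⟩
      have ha : a ∈ Subgroup.zpowers s' := by rw [htop]; trivial
      have hb : b ∈ Subgroup.zpowers s' := by rw [htop]; trivial
      obtain ⟨i, rfl⟩ := Subgroup.mem_zpowers_iff.mp ha
      obtain ⟨j, rfl⟩ := Subgroup.mem_zpowers_iff.mp hb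
      rw [← zpow_add, ← zpow_add, add_comm]
    obtain ⟨n, hn⟩ := IsPGroup.iff_card.mp P.isPGroup'
    have hsp : IsPGroup p ↥(Subgroup.zpowers s') := (P.isPGroup').to_subgroup _
    obtain ⟨j, hj⟩ := IsPGroup.iff_card.mp hsp
    have hjn : j ≤ n - 1 := by
      have h1 : Nat.card ↥(Subgroup.zpowers s') ∣ Nat.card ↥(P : Subgroup G) :=
        Subgroup.card_subgroup_dvd_card _
      rw [hj, hn] at h1
      have h2 : j ≤ n := (Nat.pow_dvd_pow_iff_le_right hp.one_lt).mp h1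
      have h3 : j ≠ n := by
        intro hjn
        apply hsne
        apply (Subgroup.card_eq_iff_eq_top _).mp
        rw [hj, hn, hjn]
      omega
    have hn1 : 1 ≤ n := by
      rcases Nat.eq_zero_or_pos n with h0 | h0
      · exfalso
        apply hsne
        apply (Subgroup.card_eq_iff_eq_top _).mp
        have h1 : Nat.card ↥(Subgroup.zpowers s') ∣ Nat.card ↥(P : Subgroup G) :=
          Subgroup.card_subgroup_dvd_card _
        rw [hn, h0, pow_zero, Nat.dvd_one] at h1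
        rw [h1, hn, h0, pow_zero]
      · exact h0
    obtain ⟨M, hMcard, hsM⟩ := Sylow.exists_subgroup_card_pow_prime_le p
      (show p ^ (n - 1) ∣ Nat.card ↥(P : Subgroup G) by rw [hn]; exact pow_dvd_pow p (Nat.sub_le n 1))
      (Subgroup.zpowers s') hj hjn
    have hMidx : M.index = p := by
      have h1 := M.card_mul_index
      rw [hMcard, hn] at h1
      have h2 : p ^ n = p ^ (n - 1) * p := by
        rw [← pow_succ]; congr 1; omega
      rw [h2] at h1
      exact Nat.eq_of_mul_eq_mul_left (pow_pos hp.pos _) h1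
    haveI hMn : M.Normal := by
      apply Subgroup.normal_of_index_eq_minFac_card
      rw [hMidx, hn, hp.pow_minFac (by omega)]
    have hypM : y' ^ p ∈ M := by
      have := M.pow_index_mem y'
      rwa [hMidx] at this
    have hxM : (⟨x, hYP hxY⟩ : ↥(P : Subgroup G)) ∈ M := by
      have : (⟨x, hYP hxY⟩ : ↥(P : Subgroup G)) = (y' ^ p) ^ i' := by
        apply Subtype.ext
        rw [hy']
        simp only [Subgroup.coe_zpow, Subgroup.coe_pow]
        exact hxe
      rw [this]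
      exact M.zpow_mem hypM i'
    have hMtop : M ≠ ⊤ := by
      intro htop
      rw [htop, Subgroup.index_top] at hMidx
      exact hp.one_lt.ne hMidx
    have hMab := hPmin M hMtop
    have hsM' : s' ∈ M := hsM (Subgroup.mem_zpowers s')
    have hcomm := hMab.is_comm.comm ⟨s', hsM'⟩ ⟨_, hxM⟩
    have hcomm' : s * x = x * s := by
      have := congrArg (fun z : ↥M => ((z : ↥(P : Subgroup G)) : G)) hcomm
      simpa [hs'] using this
    exact hsY (hmemT s hs hcomm')


/-- the quotient facts for `L = ⟨v⟩ ⋉ B`: `L/B` is cyclic of exponent `r ^ m`. -/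
theorem quot_facts {G : Type*} [Group G] (L B : Subgroup G) (v : G) (n : ℕ)
    (hvL : v ∈ L) (hBL : B ≤ L) (hBconj : ∀ g ∈ L, ∀ b ∈ B, g * b * g⁻¹ ∈ B)
    (hvn : v ^ n = 1) (hdec : ∀ g ∈ L, ∃ i : ℤ, ∃ b ∈ B, g = v ^ i * b) :
    (∀ g ∈ L, g ^ n ∈ B) ∧ (∀ g ∈ L, ∀ g' ∈ L, g * g' * g⁻¹ * g'⁻¹ ∈ B) := by
  haveI hBn : (B.subgroupOf L).Normal := by
    refine ⟨fun b hb g => ?_⟩
    rw [Subgroup.mem_subgroupOf] at hb ⊢
    simpa using hBconj g g.2 b hb
  obtain ⟨π, hπ⟩ : ∃ π : ↥L →* ↥L ⧸ B.subgroupOf L, π = QuotientGroup.mk' (B.subgroupOf L) :=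
    ⟨_, rfl⟩
  have hker : ∀ g : ↥L, π g = 1 ↔ (g : G) ∈ B := by
    intro g
    rw [hπ, QuotientGroup.mk'_apply, QuotientGroup.eq_one_iff, Subgroup.mem_subgroupOf]
  have hQ1 : ∀ g : ↥L, ∃ i : ℤ, π g = π ⟨v, hvL⟩ ^ i := by
    intro g
    obtain ⟨i, b, hb, hgb⟩ := hdec g g.2
    refine ⟨i, ?_⟩
    have : g = (⟨v, hvL⟩ : ↥L) ^ i * ⟨b, hBL hb⟩ := by
      apply Subtype.ext
      simp only [Subgroup.coe_mul, Subgroup.coe_zpow]
      exact hgb
    rw [this, map_mul, map_zpow, (hker ⟨b, hBL hb⟩).mpr hb, mul_one]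
  have hQ2 : π ⟨v, hvL⟩ ^ n = 1 := by
    rw [← map_pow]
    have : (⟨v, hvL⟩ : ↥L) ^ n = 1 := by
      apply Subtype.ext
      simp only [Subgroup.coe_pow, Subgroup.coe_one]
      exact hvn
    rw [this, map_one]
  constructor
  · intro g hg
    have := (hker (⟨g, hg⟩ ^ n)).mp (by
      obtain ⟨i, hi⟩ := hQ1 ⟨g, hg⟩
      rw [map_pow, hi, ← zpow_natCast, ← zpow_mul, mul_comm, zpow_mul, zpow_natCast, hQ2, one_zpow])
    simpa using this
  · intro g hg g' hg'
    have := (hker (⟨g, hg⟩ * ⟨g', hg'⟩ * ⟨g, hg⟩⁻¹ * ⟨g', hg'⟩⁻¹)).mp (by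
      obtain ⟨i, hi⟩ := hQ1 ⟨g, hg⟩
      obtain ⟨j, hj⟩ := hQ1 ⟨g', hg'⟩
      rw [map_mul, map_mul, map_mul, map_inv, map_inv, hi, hj]
      rw [← zpow_neg, ← zpow_neg, ← zpow_add, ← zpow_add, ← zpow_add]
      have : i + j + -i + -j = 0 := by ring
      rw [this, zpow_zero])
    simpa using this

/-- CA2 (solvable non-nilpotent centralizer is impossible). -/
theorem ca2 {G : Type*} [Group G] [Finite G] [IsSimpleGroup G] (hna : ¬ IsMulCommutative G)
    (h : SN G) (x : G) (hx : x ≠ 1)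
    (hsol : Group.IsSolvable ↥(Subgroup.centralizer ({x} : Set G)))
    (hnn : ¬ Group.IsNilpotent ↥(Subgroup.centralizer ({x} : Set G))) : False := by
  classical
  have hCmem : ∀ g : G, g ∈ Subgroup.centralizer ({x} : Set G) ↔ g * x = x * g := fun g =>
    Subgroup.mem_centralizer_singleton_iff
  obtain ⟨y, A, p, k, hp, hyC, hAC, hAconj, hAcomm, hyord, hpA, hdec, hcen, hfpf, hcardC⟩ :=
    forward_sub h (Subgroup.centralizer ({x} : Set G)) hnn
  haveI : Fact p.Prime := ⟨hp⟩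
  -- A ≠ ⊥
  have hA1 : ∃ a ∈ A, a ≠ 1 := by
    by_contra hcon
    apply hnn
    apply nilpotent_of_le_zpowers _ y
    intro g hg
    obtain ⟨i, a, ha, hga⟩ := hdec g hg
    have ha1 : a = 1 := by
      by_contra hne
      exact hcon ⟨a, ha, hne⟩
    rw [hga, ha1, mul_one]
    exact Subgroup.zpow_mem _ (Subgroup.mem_zpowers y) i
  obtain ⟨a₁, ha₁A, ha₁ne⟩ := hA1
  -- (a) x = y ^ i with p ∣ i
  have hxC : x ∈ Subgroup.centralizer ({x} : Set G) := (hCmem x).mpr rfl
  obtain ⟨i, a0, ha0, hxe⟩ := hdec x hxC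
  have hyx : y * x = x * y := (hCmem y).mp hyC
  have ha0y : y * a0 * y⁻¹ = a0 := by
    have h1 : y * (y ^ i * a0) = (y ^ i * a0) * y := by rw [← hxe]; exact hyx
    have h2 : y ^ i * (y * a0) = y ^ i * (a0 * y) := by
      calc y ^ i * (y * a0) = y * (y ^ i * a0) := by
            rw [← mul_assoc, ← mul_assoc, (Commute.zpow_self y i).eq]
        _ = (y ^ i * a0) * y := h1
        _ = y ^ i * (a0 * y) := by rw [mul_assoc]
    have h3 : y * a0 = a0 * y := mul_left_cancel h2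
    rw [h3, mul_inv_cancel_right]
  have ha01 : a0 = 1 := by
    by_contra hne
    exact hfpf a0 ha0 hne ha0y
  rw [ha01, mul_one] at hxe
  have hpi : (p : ℤ) ∣ i := by
    by_contra hnd
    have hcop : IsCoprime i ((p : ℤ) ^ k) := by
      apply IsCoprime.pow_right
      exact (((Nat.prime_iff_prime_int.mp hp).irreducible.coprime_iff_not_dvd).mpr hnd).symm
    obtain ⟨u, v, huv⟩ := hcop
    have hypk : y ^ ((p : ℤ) ^ k) = 1 := by
      have : ((p : ℤ) ^ k) = ((p ^ k : ℕ) : ℤ) := by push_cast; rfl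
      rw [this, zpow_natCast, ← hyord, pow_orderOf_eq_one]
    have hyxu : y = x ^ u := by
      have : y = y ^ (u * i + v * (p : ℤ) ^ k) := by rw [huv, zpow_one]
      rw [this, zpow_add, mul_comm v, zpow_mul _ _ v, hypk, one_zpow, mul_one, mul_comm u,
        zpow_mul, ← hxe]
    -- a₁ commutes with x hence with y
    have h1 : a₁ * x = x * a₁ := (hCmem a₁).mp (hAC ha₁A)
    have h2 : Commute a₁ y := by
      rw [hyxu]
      exact Commute.zpow_right h1 u
    apply hfpf a₁ ha₁A ha₁ne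
    rw [← h2.eq, mul_inv_cancel_right]
  obtain ⟨i', rfl⟩ := hpi
  have hxe' : x = (y ^ p) ^ i' := by
    rw [hxe, zpow_mul, zpow_natCast]
  have hxY : x ∈ Subgroup.zpowers y := by
    rw [hxe]; exact Subgroup.zpow_mem _ (Subgroup.mem_zpowers y) _
  -- (b) Sylow
  have hYp : IsPGroup p ↥(Subgroup.zpowers y) :=
    IsPGroup.of_card (n := k) (by rw [Nat.card_zpowers, hyord])
  obtain ⟨P, hYP⟩ := hYp.exists_le_sylow
  have hPY : (P : Subgroup G) = Subgroup.zpowers y :=
    sylow_eq_zpowers h x y A p k hyord hpA hcardC hyC i' hxe' P hYP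
  -- (c) Burnside
  have hw : ∃ w : G, w * y * w⁻¹ ∈ Subgroup.zpowers y ∧ w⁻¹ * y * w ∈ Subgroup.zpowers y ∧
      w * y * w⁻¹ ≠ y := by
    by_contra hcon
    have hNC : Subgroup.normalizer ((P : Subgroup G) : Set G) ≤
        Subgroup.centralizer ((P : Subgroup G) : Set G) := by
      intro w hw
      have hyP : y ∈ (P : Subgroup G) := hYP (Subgroup.mem_zpowers y)
      have h1 : w * y * w⁻¹ ∈ Subgroup.zpowers y := by
        rw [← hPY]; exact (Subgroup.mem_set_normalizer_iff.mp hw y).mp hyP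
      have h2 : w⁻¹ * y * w ∈ Subgroup.zpowers y := by
        rw [← hPY]; exact (Subgroup.mem_set_normalizer_iff''.mp hw y).mp hyP
      have h3 : w * y * w⁻¹ = y := by
        by_contra hne
        exact hcon ⟨w, h1, h2, hne⟩
      have h4 : Commute w y := by
        have : w * y = y * w := by
          calc w * y = (w * y * w⁻¹) * w := by group
            _ = y * w := by rw [h3]
        exact this
      rw [Subgroup.mem_centralizer_iff]
      intro s hs
      rw [SetLike.mem_coe, hPY] at hs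
      obtain ⟨m, rfl⟩ := Subgroup.mem_zpowers_iff.mp hs
      exact ((h4.zpow_right m).eq).symm
    have hcompl := MonoidHom.ker_transferSylow_isComplement' P hNC
    rcases (MonoidHom.normal_ker (MonoidHom.transferSylow P hNC)).eq_bot_or_eq_top with hb | ht
    · rw [hb, Subgroup.isComplement'_bot_left, hPY] at hcompl
      apply hna
      refine ⟨⟨fun a b => ?_⟩⟩
      have ha : a ∈ Subgroup.zpowers y := by rw [hcompl]; trivial
      have hb' : b ∈ Subgroup.zpowers y := by rw [hcompl]; trivial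
      obtain ⟨i, rfl⟩ := Subgroup.mem_zpowers_iff.mp ha
      obtain ⟨j, rfl⟩ := Subgroup.mem_zpowers_iff.mp hb'
      rw [← zpow_add, ← zpow_add, add_comm]
    · rw [ht, Subgroup.isComplement'_top_left, hPY] at hcompl
      have hy1 : y = 1 := by
        have := Subgroup.mem_zpowers y
        rw [hcompl] at this
        exact Subgroup.mem_bot.mp this
      apply hfpf a₁ ha₁A ha₁ne
      rw [hy1]; group
  obtain ⟨w, hw1, hw2, hw3⟩ := hw
  -- (d) L = N_G(⟨x⟩)
  obtain ⟨L, hLdef⟩ : ∃ L : Subgroup G,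
    L = Subgroup.normalizer ((Subgroup.zpowers x : Subgroup G) : Set G) := ⟨_, rfl⟩
  have hCL : Subgroup.centralizer ({x} : Set G) ≤ L := by
    intro g hg
    rw [hLdef]
    have hgx : g * x = x * g := (hCmem g).mp hg
    apply mem_normalizer_zpowers
    · rw [hgx, mul_inv_cancel_right]; exact Subgroup.mem_zpowers x
    · rw [mul_assoc, ← hgx, inv_mul_cancel_left]; exact Subgroup.mem_zpowers x
  have hwL : w ∈ L := by
    rw [hLdef]
    apply mem_normalizer_zpowers
    · exact conj_mem_zpowers_of hw1 hxY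
    · have := conj_mem_zpowers_of (w := w⁻¹) (y := y) (x := x) (by rw [inv_inv]; exact hw2) hxY
      rwa [inv_inv] at this
  have hyL : y ∈ L := hCL hyC
  have hLsn : SN ↥L := h.subgroup L
  have hLnn : ¬ Group.IsNilpotent ↥L := by
    intro hnil
    apply hnn
    haveI := hnil
    exact Group.nilpotent_of_mulEquiv (Subgroup.subgroupOfEquivOfLe hCL)
  haveI hLsol : Group.IsSolvable ↥L := by
    rcases Cfsg.Agent.S4072.result hLsn with hs | hsimp
    · exact hs
    · exfalso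
      have hN : ((Subgroup.zpowers x).subgroupOf L).Normal := by
        rw [hLdef]; exact Subgroup.normal_in_normalizer
      rcases hN.eq_bot_or_eq_top with hb | ht
      · have hxL : x ∈ L := hCL hxC
        have : (⟨x, hxL⟩ : ↥L) ∈ (Subgroup.zpowers x).subgroupOf L := by
          rw [Subgroup.mem_subgroupOf]; exact Subgroup.mem_zpowers x
        rw [hb, Subgroup.mem_bot] at this
        exact hx (congrArg Subtype.val this)
      · rw [Subgroup.subgroupOf_eq_top] at ht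
        exact hLnn (nilpotent_of_le_zpowers L x ht)
  obtain ⟨v, B, r, m, hr, hvL, hBL, hBconj, hBcomm, hvord, hrB, hdecL, hcenL, hfpfL, hcardL⟩ :=
    forward_sub h L hLnn
  have hvn : v ^ (r ^ m) = 1 := by rw [← hvord, pow_orderOf_eq_one]
  obtain ⟨hQ3, hQ4⟩ := quot_facts L B v (r ^ m) hvL hBL hBconj hvn hdecL
  have hBord : ∀ b ∈ B, b ^ Nat.card B = 1 := by
    intro b hb
    have := pow_card_eq_one' (G := ↥B) (x := ⟨b, hb⟩)
    exact congrArg Subtype.val this
  by_cases hrp : r = p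
  · -- case r = p
    have hc1 : w * y * w⁻¹ * y⁻¹ ∈ B := hQ4 w hwL y hyL
    have hc2 : w * y * w⁻¹ * y⁻¹ ∈ Subgroup.zpowers y :=
      Subgroup.mul_mem _ hw1 (Subgroup.inv_mem _ (Subgroup.mem_zpowers y))
    have hc3 : (w * y * w⁻¹ * y⁻¹) ^ (p ^ k) = 1 := by
      obtain ⟨j, hj⟩ := Subgroup.mem_zpowers_iff.mp hc2
      rw [← hj, ← zpow_natCast, ← zpow_mul, mul_comm, zpow_mul, zpow_natCast, ← hyord,
        pow_orderOf_eq_one, one_zpow]
    have hcop : Nat.Coprime (p ^ k) (Nat.card B) :=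
      Nat.Coprime.pow_left k ((Nat.Prime.coprime_iff_not_dvd hp).mpr (hrp ▸ hrB))
    have hc4 := eq_one_of_orders hcop hc3 (hBord _ hc1)
    apply hw3
    calc w * y * w⁻¹ = (w * y * w⁻¹ * y⁻¹) * y := by group
      _ = y := by rw [hc4, one_mul]
  · -- case r ≠ p
    have hcop1 : Nat.Coprime (r ^ m) (p ^ k) :=
      Nat.Coprime.pow m k ((Nat.coprime_primes hr hp).mpr hrp)
    have hyB : y ∈ B :=
      mem_of_pow_mem_coprime hcop1 (hQ3 y hyL) (by rw [← hyord, pow_orderOf_eq_one])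
    have hAr : ∀ a ∈ A, a ^ (r ^ m) = 1 := by
      intro a ha
      by_contra hne
      have h1 : a ^ (r ^ m) ∈ B := hQ3 a (hCL (hAC ha))
      have h2 : a ^ (r ^ m) ∈ A := A.pow_mem ha _
      apply hfpf _ h2 hne
      rw [hBcomm y hyB _ h1, mul_inv_cancel_right]
    -- commutator of a₁ and y
    have hc1 : a₁ * y * a₁⁻¹ * y⁻¹ ∈ B :=
      B.mul_mem (hBconj a₁ (hCL (hAC ha₁A)) y hyB) (B.inv_mem hyB)
    have hc2 : a₁ * y * a₁⁻¹ * y⁻¹ ∈ A := by
      have : a₁ * y * a₁⁻¹ * y⁻¹ = a₁ * (y * a₁⁻¹ * y⁻¹) := by group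
      rw [this]
      exact A.mul_mem ha₁A (hAconj y hyC _ (A.inv_mem ha₁A))
    have hcop2 : Nat.Coprime (r ^ m) (Nat.card B) :=
      Nat.Coprime.pow_left m ((Nat.Prime.coprime_iff_not_dvd hr).mpr hrB)
    have hc3 := eq_one_of_orders hcop2 (hAr _ hc2) (hBord _ hc1)
    apply hfpf a₁ ha₁A ha₁ne
    have h4 : a₁ * y = y * a₁ := by
      calc a₁ * y = (a₁ * y * a₁⁻¹ * y⁻¹) * (y * a₁) := by group
        _ = y * a₁ := by rw [hc3, one_mul]
    rw [← h4, mul_inv_cancel_right]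

end Cfsg.Agent.Lib.H3.SNS
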