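/-
helper3: piece B1 of the S5778 farm-out (helper27, tools/blueprints/SU3_sigs.lean):
`SU_3(q)`, `q ≥ 3`, stabilises no orthogonal frame of non-degenerate lines.
-/
import Cfsg.Agent.Lib.H27.SU3Defs
import Cfsg.Agent.Lib.H2.UP2B2p

set_option autoImplicit false

namespace Cfsg.Agent.Lib.H3.SU3

open Cfsg Cfsg.Geo Cfsg.Agent.Lib.Lead.Asch
open scoped MatrixGroups Matrix
open Cfsg.Agent.S0837 (Bs Bs_apply Bs_symm Bs_nondeg)
open Cfsg.Agent.S0782 (Bs_eq_herm)
open Cfsg.Agent.Lib.H11.SuSp (tv tv_val tv_mulVec tv_mem_GU tv_mem_SL)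
open Cfsg.Agent.Lib.H10.Su (B_symm')
open Cfsg.Agent.Lib.H2.UP2
open Cfsg.Agent.Lib.H27.SU3

variable {F : Type*} [Field F] [Fintype F] {q : ℕ}

/-- an element of the fixed field of `x ↦ x ^ q` other than `0` and `1` (`q ≥ 3`) -/
theorem b1_exists_fixed (hF : Fintype.card F = q ^ 2) (hq : 3 ≤ q) {φ : F →+* F}
    (hφ : ∀ x, φ x = x ^ q) : ∃ c : F, c ≠ 0 ∧ c ≠ 1 ∧ φ c = c := by
  classical
  obtain ⟨g, hg⟩ := IsCyclic.exists_generator (α := Fˣ)
  have hord : orderOf g = q ^ 2 - 1 := by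
    rw [orderOf_eq_card_of_forall_mem_zpowers hg, Nat.card_eq_fintype_card, Fintype.card_units, hF]
  have hq2 : q + 1 < q ^ 2 - 1 := by
    have : 3 * q ≤ q * q := Nat.mul_le_mul_right q hq
    have h2 : q ^ 2 = q * q := by ring
    omega
  refine ⟨((g ^ (q + 1) : Fˣ) : F), Units.ne_zero _, ?_, ?_⟩
  · intro h
    have h1 : g ^ (q + 1) = 1 := Units.ext (by simpa using h)
    have h2 := orderOf_dvd_of_pow_eq_one h1
    rw [hord] at h2
    have := Nat.le_of_dvd (by omega) h2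
    omega
  · rw [hφ]
    have h3 : (g ^ (q + 1)) ^ q = g ^ (q + 1) := by
      rw [← pow_mul]
      have h4 : (q + 1) * q = (q ^ 2 - 1) + (q + 1) := by
        have h2 : q ^ 2 = q * q := by ring
        have : (q + 1) * q = q * q + q := by ring
        omega
      rw [h4, pow_add, ← hord, pow_orderOf_eq_one, one_mul]
    have := congrArg (fun u : Fˣ => (u : F)) h3
    simpa using this

/-- **B1** of the `SU_3(q)` row: no orthogonal frame of non-degenerate lines is stabilised. -/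
theorem b1 (hF : Fintype.card F = q ^ 2) (hq : 3 ≤ q) : B1Stmt F q := by
  classical
  intro D hD hle
  obtain ⟨φ, hφ, hφ2, hφne⟩ := exists_phi hF
  obtain ⟨a₀, ha₀0, ha₀⟩ := exists_skew hφ2 hφne
  have hindep := hD.decomp.indep
  -- generators of the lines
  have hx : ∀ i, ∃ x ∈ D i, x ≠ 0 := by
    intro i
    have hne : D i ≠ ⊥ := by
      intro h
      have := hD.decomp.finrank_eq i
      rw [h, finrank_bot] at this
      omega
    exact (Submodule.ne_bot_iff _).1 hne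
  choose x hxD hx0 using hx
  have hβ : ∀ i, Bs φ 3 (x i) (x i) ≠ 0 := by
    intro i
    obtain ⟨⟨y, hyD, hy⟩, -⟩ := hD.nondegenerate i (x i) (hxD i) (hx0 i)
    have h1 := (finrank_eq_one_iff_of_nonzero' (⟨x i, hxD i⟩ : ↥(D i))
      (fun h => hx0 i (congrArg Subtype.val h))).1 (hD.decomp.finrank_eq i) ⟨y, hyD⟩
    obtain ⟨b, hb⟩ := h1
    have hb' : b • x i = y := congrArg Subtype.val hb
    rw [← hb', Cfsg.Agent.Lib.H4.hermForm_smul_left] at hy
    rw [Bs_eq_herm φ hφ]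
    exact right_ne_zero_of_mul hy
  have horth : ∀ i j, i ≠ j → Bs φ 3 (x i) (x j) = 0 := by
    intro i j hij
    rw [Bs_eq_herm φ hφ]
    exact hD.orthogonal j i (Ne.symm hij) (x j) (hxD j) (x i) (hxD i)
  have hfix : ∀ i, φ (Bs φ 3 (x i) (x i)) = Bs φ 3 (x i) (x i) := fun i => B_symm' φ hφ2 _ _
  have h01 : (0 : Fin 3) ≠ 1 := by decide
  -- the coefficient
  obtain ⟨c, hc0, hc⟩ : ∃ c : F, c ≠ 0 ∧
      c * φ c = -(Bs φ 3 (x 0) (x 0)) / Bs φ 3 (x 1) (x 1) := by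
    apply exists_norm_eq hF hφ
    · exact div_ne_zero (neg_ne_zero.2 (hβ 0)) (hβ 1)
    · rw [map_div₀, map_neg, hfix, hfix]
  set v : Fin 3 → F := x 0 + c • x 1 with hv
  have hvi : Bs φ 3 v v = 0 := iso_pair (horth _ _ h01) (horth _ _ h01.symm) (hβ 1) hc
  have hvx0 : Bs φ 3 v (x 0) = Bs φ 3 (x 0) (x 0) := by
    simp only [hv, map_add, map_smulₛₗ, LinearMap.add_apply, LinearMap.smul_apply,
      smul_eq_mul, horth _ _ h01.symm, mul_zero, add_zero]
  -- every skew non-zero `a` satisfies `a * β₀ = -1`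
  have key : ∀ a : F, a ≠ 0 → a + φ a = 0 → a * Bs φ 3 (x 0) (x 0) = -1 := by
    intro a ha0 ha
    have hmem : tv φ hφ hφ2 v a hvi ha ∈ decompositionStabilizer D :=
      hle (Subgroup.mem_inf.2 ⟨tv_mem_GU hφ hφ2 v a hvi ha, tv_mem_SL hφ hφ2 v a hvi ha⟩)
    obtain ⟨σ, hσ⟩ := hmem
    have himg : (tv φ hφ hφ2 v a hvi ha).1 *ᵥ x 0 ∈ D (σ 0) := by
      rw [← hσ 0]
      exact ⟨x 0, hxD 0, by simp [Matrix.toLin'_apply]⟩
    rw [tv_mulVec, hvx0] at himg
    set lam : F := a * Bs φ 3 (x 0) (x 0) with hlam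
    have hlam0 : lam ≠ 0 := mul_ne_zero ha0 (hβ 0)
    -- `σ 0 = 1`
    have hσ0 : σ 0 = 1 := by
      by_contra hl
      have hz : x 0 + lam • x 0 ∈ ⨆ m, ⨆ (_ : m ≠ (1 : Fin 3)), D m :=
        Submodule.add_mem _ (mem_iSup_ne h01 (hxD 0)) (mem_iSup_ne h01 ((D 0).smul_mem _ (hxD 0)))
      have hy : (lam * c) • x 1 ∈ D 1 := (D 1).smul_mem _ (hxD 1)
      have hsum : (lam * c) • x 1 + (x 0 + lam • x 0) ∈ D (σ 0) := by
        convert himg using 1
        rw [hv]
        module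
      have := indep_aux hindep hl hy hz hsum
      rcases smul_eq_zero.1 this with h | h
      · exact mul_ne_zero hlam0 hc0 h
      · exact hx0 1 h
    rw [hσ0] at himg
    have hz : (lam * c) • x 1 ∈ ⨆ m, ⨆ (_ : m ≠ (0 : Fin 3)), D m :=
      mem_iSup_ne h01.symm ((D 1).smul_mem _ (hxD 1))
    have hy : (1 + lam) • x 0 ∈ D 0 := (D 0).smul_mem _ (hxD 0)
    have hsum : (1 + lam) • x 0 + (lam * c) • x 1 ∈ D 1 := by
      convert himg using 1
      rw [hv]
      module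
    have := indep_aux hindep h01.symm hy hz hsum
    rcases smul_eq_zero.1 this with h | h
    · linear_combination h
    · exact absurd h (hx0 0)
  -- two different skew elements
  obtain ⟨e, he0, he1, he⟩ := b1_exists_fixed hF hq hφ
  have h1 := key a₀ ha₀0 ha₀
  have h2 := key (e * a₀) (mul_ne_zero he0 ha₀0) (by
    rw [map_mul, he, ← mul_add, ha₀, mul_zero])
  have h3 : (e - 1) * (a₀ * Bs φ 3 (x 0) (x 0)) = 0 := by linear_combination h2 - h1
  rcases mul_eq_zero.1 h3 with h | h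
  · exact he1 (sub_eq_zero.1 h)
  · rw [h1] at h
    exact absurd h (by norm_num)

end Cfsg.Agent.Lib.H3.SU3
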