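/-
helper3 library: a sharply 4-transitive group of degree 11 is simple of order 7920;
a sharply 5-transitive group of degree 12 is simple of order 95040.
-/
import Mathlib
import Cfsg.Agent.Lib.H3.SharpK1
import Cfsg.Agent.Lib.H3.SharpK2
import Cfsg.Agent.Lib.H3.SharpK3
import Cfsg.Agent.Lib.H5.SylowIn
import Cfsg.Agent.Lib.H28.TwoTransSimple

set_option autoImplicit false

namespace Cfsg.Agent.Lib.H3.SharpK

open MulAction

universe u v

/-- a nontrivial normal subgroup of a faithful 2-transitive group is transitive -/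
theorem normal_pretransitive {G : Type u} [Group G] {Ω : Type v} [MulAction G Ω]
    (h2 : IsMultiplyPretransitive G Ω 2)
    (hfaith : ∀ g : G, (∀ ω : Ω, g • ω = ω) → g = 1) (N : Subgroup G) [hN : N.Normal]
    (hbot : N ≠ ⊥) : IsPretransitive N Ω := by
  obtain ⟨n, hnN, hn1⟩ : ∃ n ∈ N, n ≠ 1 := by
    by_contra hcon
    apply hbot
    rw [Subgroup.eq_bot_iff_forall]
    intro x hx
    by_contra hx1
    exact hcon ⟨x, hx, hx1⟩
  obtain ⟨ω0, hω0⟩ : ∃ ω0 : Ω, n • ω0 ≠ ω0 := by
    by_contra hcon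
    apply hn1
    apply hfaith
    intro ω
    by_contra hω
    exact hcon ⟨ω, hω⟩
  constructor
  intro c d
  by_cases hcd : c = d
  · exact ⟨1, by rw [one_smul, hcd]⟩
  · obtain ⟨g, hg1, hg2⟩ := is_two_pretransitive_iff.1 h2 (Ne.symm hω0) hcd
    refine ⟨⟨g * n * g⁻¹, hN.conj_mem n hnN g⟩, ?_⟩
    show (g * n * g⁻¹) • c = d
    rw [mul_smul, mul_smul, ← hg1, inv_smul_smul, hg2]

theorem sharp4_card11_simple {G : Type u} [Group G] {Ω : Type v} [MulAction G Ω] [Finite Ω]
    (h4 : IsMultiplyPretransitive G Ω 4)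
    (hsharp : ∀ x : Fin 4 ↪ Ω, stabilizer G x = ⊥) (hΩ : Nat.card Ω = 11) :
    IsSimpleGroup G ∧ Nat.card G = 7920 := by
  classical
  have hne : Nonempty (Fin 4 ↪ Ω) := nonempty_emb (by omega)
  haveI : Finite G := finite_of_sharp h4 hsharp hne
  have hG : Nat.card G = 11 * 720 := by
    rw [card_eq h4 hsharp hne, hΩ]; rfl
  have hfaith : ∀ g : G, (∀ ω : Ω, g • ω = ω) → g = 1 :=
    fun g hg => eq_one_of_forall_smul hsharp hne hg
  haveI h2 : IsMultiplyPretransitive G Ω 2 := by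
    haveI := h4
    exact isMultiplyPretransitive_of_le (n := 4) (by omega) (by omega)
  haveI : Fact (Nat.Prime 11) := ⟨by norm_num⟩
  -- Sylow count in `G`
  obtain ⟨d, hd, hnd⟩ := exists_dvd_sylow (p := 11) hfaith hΩ hG (by norm_num)
  have hmod : Nat.card (Sylow 11 G) % 11 = 1 := card_sylow_modEq_one 11 G
  have hd10 : d ≤ 10 := Nat.le_of_dvd (by norm_num) hd
  have hnG : Nat.card (Sylow 11 G) = 144 := by
    interval_cases d <;> omega
  have hPG : ∀ Q : Sylow 11 G, Nat.card (Q : Subgroup G) = 11 := by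
    intro Q
    have := (Cfsg.Agent.Lib.H5.sylow_card_and_index Q (k := 1) (by rw [hG, pow_one])
      (by norm_num)).1
    rwa [pow_one] at this
  have hcountG := Cfsg.Agent.Lib.H5.card_orderOf_eq_prime hPG
  rw [hnG] at hcountG
  refine ⟨?_, by rw [hG]⟩
  haveI : Nontrivial G := by
    rw [← Finite.one_lt_card_iff_nontrivial, hG]; norm_num
  refine ⟨fun N hN => ?_⟩
  by_cases hbot : N = ⊥
  · exact Or.inl hbot
  right
  haveI := hN
  haveI hNtr : IsPretransitive N Ω := normal_pretransitive h2 hfaith N hbot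
  have hfaithN : ∀ g : N, (∀ ω : Ω, g • ω = ω) → g = 1 := by
    intro g hg
    exact Subtype.ext (hfaith g.1 hg)
  obtain ⟨ω0⟩ : Nonempty Ω := by
    rw [← Nat.card_pos_iff.trans ⟨fun h => h.1, fun h => ⟨h, inferInstance⟩⟩, hΩ]
    norm_num
  -- order of `N`
  obtain ⟨m', hm'⟩ : ∃ m', Nat.card N = 11 * m' := by
    refine ⟨Nat.card (stabilizer N ω0), ?_⟩
    have h1 := index_stabilizer_of_transitive N ω0
    have h2 := (stabilizer N ω0).card_mul_index
    rw [h1, hΩ, mul_comm] at h2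
    exact h2.symm
  have hNdvd : Nat.card N ∣ Nat.card G := Subgroup.card_subgroup_dvd_card N
  rw [hm', hG] at hNdvd
  have hm'dvd : m' ∣ 720 := by
    obtain ⟨c, hc⟩ := hNdvd
    exact ⟨c, by
      have : 11 * 720 = 11 * (m' * c) := by rw [hc]; ring
      exact Nat.eq_of_mul_eq_mul_left (by norm_num) this⟩
  have hpm' : ¬ 11 ∣ m' := by
    intro h
    have := h.trans hm'dvd
    norm_num at this
  obtain ⟨d', hd', hnd'⟩ := exists_dvd_sylow (p := 11) hfaithN hΩ hm' hpm'
  -- all elements of order 11 lie in `N`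
  obtain ⟨x, hx⟩ := exists_prime_orderOf_dvd_card' (G := ↥N) 11 (by rw [hm']; exact dvd_mul_right _ _)
  have hx' : orderOf x.1 = 11 := by rw [Subgroup.orderOf_coe]; exact hx
  obtain ⟨P, hxP⟩ := Cfsg.Agent.Lib.H5.exists_sylow_mem_of_orderOf_eq x.1 hx'
  have hPz := Cfsg.Agent.Lib.H5.zpowers_eq_sylow_of_mem P (hPG P) x.1 hx' hxP
  have hPN : (P : Subgroup G) ≤ N := by
    rw [← hPz, Subgroup.zpowers_le]
    exact x.2
  have hall : ∀ g : G, orderOf g = 11 → g ∈ N := by
    intro g hg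
    obtain ⟨Q, hgQ⟩ := Cfsg.Agent.Lib.H5.exists_sylow_mem_of_orderOf_eq g hg
    obtain ⟨c, hc⟩ := MulAction.exists_smul_eq G P Q
    rw [← hc, Cfsg.Agent.Lib.H5.sylow_mem_smul_iff] at hgQ
    have h1 := hPN hgQ
    have h2 := hN.conj_mem _ h1 c
    have e : c * (c⁻¹ * g * c) * c⁻¹ = g := by group
    rwa [e] at h2
  have hPN' : ∀ Q : Sylow 11 N, Nat.card (Q : Subgroup N) = 11 := by
    intro Q
    have := (Cfsg.Agent.Lib.H5.sylow_card_and_index Q (k := 1) (by rw [hm', pow_one]) hpm').1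
    rwa [pow_one] at this
  have hcountN := Cfsg.Agent.Lib.H5.card_orderOf_eq_prime hPN'
  have hbij : Nat.card {g : N // orderOf g = 11} = Nat.card {g : G // orderOf g = 11} := by
    apply Nat.card_congr
    refine Equiv.ofBijective (fun g => ⟨g.1.1, by rw [Subgroup.orderOf_coe]; exact g.2⟩) ⟨?_, ?_⟩
    · intro g g' h
      have : g.1.1 = g'.1.1 := congrArg (fun y : {g : G // orderOf g = 11} => y.1) h
      exact Subtype.ext (Subtype.ext this)
    · rintro ⟨g, hg⟩
      refine ⟨⟨⟨g, hall g hg⟩, ?_⟩, rfl⟩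
      rw [← Subgroup.orderOf_coe]; exact hg
  rw [hcountN, hcountG] at hbij
  have hnN : Nat.card (Sylow 11 N) = 144 := by omega
  rw [hnN] at hnd'
  have hd'10 : d' ≤ 10 := Nat.le_of_dvd (by norm_num) hd'
  have hm'720 : m' ≤ 720 := Nat.le_of_dvd (by norm_num) hm'dvd
  have hcases : d' = 1 ∨ d' = 5 := by
    interval_cases d' <;> first | omega | (exfalso; rw [← hnd'] at hm'dvd; norm_num at hm'dvd)
  rcases hcases with h1 | h5
  · exfalso
    rw [h1, mul_one] at hnd'
    have := eq_one_of_card_sylow_eq (p := 11) hfaithN hΩ hm' hpm' (by rw [hnN, hnd'])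
    omega
  · rw [h5] at hnd'
    apply Subgroup.eq_top_of_card_eq
    rw [hm', hG, ← hnd']

theorem sharp5_card12_simple {G : Type u} [Group G] {Ω : Type v} [MulAction G Ω] [Finite Ω]
    (h5 : IsMultiplyPretransitive G Ω 5)
    (hsharp : ∀ x : Fin 5 ↪ Ω, stabilizer G x = ⊥) (hΩ : Nat.card Ω = 12) :
    IsSimpleGroup G ∧ Nat.card G = 95040 := by
  classical
  haveI := Fintype.ofFinite Ω
  have hne : Nonempty (Fin 5 ↪ Ω) := nonempty_emb (by omega)
  haveI : Finite G := finite_of_sharp h5 hsharp hne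
  have hG : Nat.card G = 95040 := by
    rw [card_eq h5 hsharp hne, hΩ]; rfl
  have hfaith : ∀ g : G, (∀ ω : Ω, g • ω = ω) → g = 1 :=
    fun g hg => eq_one_of_forall_smul hsharp hne hg
  haveI h2 : IsMultiplyPretransitive G Ω 2 := by
    haveI := h5
    exact isMultiplyPretransitive_of_le (n := 5) (by omega) (by omega)
  obtain ⟨a⟩ : Nonempty Ω := by
    rw [← Nat.card_pos_iff.trans ⟨fun h => h.1, fun h => ⟨h, inferInstance⟩⟩, hΩ]
    norm_num
  have h4' := stabilizer_pretransitive (k := 4) h5 (by omega) a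
  have hs' := stabilizer_sharp (k := 4) hsharp a
  have hc := card_ofStabilizer (G := G) a
  have hsimple := (sharp4_card11_simple h4' hs' (by omega)).1
  refine ⟨?_, hG⟩
  have hcard : (Finset.univ : Finset Ω).card = 12 := by
    rw [Finset.card_univ, ← Nat.card_eq_fintype_card, hΩ]
  refine Cfsg.Agent.Lib.H28.isSimpleGroup_of_two_trans (Finset.univ : Finset Ω)
    (fun _ _ _ => Finset.mem_univ _) (fun g hg => hfaith g (fun ω => hg ω (Finset.mem_univ _)))
    ?_ a (Finset.mem_univ _) hsimple 2 3 Nat.prime_two Nat.prime_three (by norm_num)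
    (by rw [hcard]; norm_num) (by rw [hcard]; norm_num)
  intro a _ b _ c _ d _ hab hcd
  exact is_two_pretransitive_iff.1 h2 hab hcd

end Cfsg.Agent.Lib.H3.SharpK
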