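/-
S2142-CNT (helper3, for helper7): the two perpendicularity counts over the field with two elements.
-/
import Cfsg.Agent.Lib.H7.SpMinDefs
import Cfsg.Agent.Lib.H2.SpOrder

set_option autoImplicit false
set_option linter.unusedSectionVars false
set_option linter.unusedVariables false

namespace Cfsg.Agent.Lib.H3.SpMin

open Matrix Cfsg.Agent.Lib.H4 Cfsg.Agent.Lib.H2 Cfsg.Agent.Lib.H2.Sp Cfsg.Agent.Lib.H7.SpMin

variable {F : Type*} [Field F] [Fintype F] (m : ℕ)

set_option quotPrecheck false in
local notation "VV" => (Fin m ⊕ Fin m → F)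

set_option quotPrecheck false in
local notation "B" => Cfsg.sympForm m F

/-- removing the zero vector from a set of vectors containing it -/
theorem cnt_card_ne_zero (P : VV → Prop) (h0 : P 0) :
    Nat.card {z : VV // z ≠ 0 ∧ P z} = Nat.card {z : VV // P z} - 1 := by
  classical
  have e : {z : VV // P z} ≃ Option {z : VV // z ≠ 0 ∧ P z} :=
    { toFun := fun z => if h : z.1 = 0 then none else some ⟨z.1, h, z.2⟩
      invFun := fun o => match o with
        | none => ⟨0, h0⟩
        | some z => ⟨z.1, z.2.2⟩
      left_inv := by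
        intro z
        by_cases h : z.1 = 0
        · simp only [h, dite_true]
          exact Subtype.ext h.symm
        · simp only [h, dite_false]
      right_inv := by
        intro o
        cases o with
        | none => simp
        | some z => simp [z.2.1] }
  rw [Nat.card_congr e, Finite.card_option]
  omega

theorem cnt_pos_m (x : VV) (hx : x ≠ 0) : 1 ≤ m := by
  rcases m with _ | m
  · exfalso; apply hx; funext i; rcases i with i | i <;> exact i.elim0
  · omega

theorem card_ker (hF : Fintype.card F = 2) (x : VV) (hx : x ≠ 0) :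
    Nat.card {z : VV // B x z = 0} = 2 ^ (2 * m - 1) := by
  let φ : VV →+ F :=
    { toFun := fun v => B x v
      map_zero' := by
        have := sympForm_smul_right m (0 : F) x 0
        rwa [zero_smul, zero_mul] at this
      map_add' := fun v w => sympForm_add_right m x v w }
  have hφ : Function.Surjective φ := by
    intro a
    obtain ⟨z, hz⟩ := exists_sympForm_ne_zero m x hx
    refine ⟨(a / B x z) • z, ?_⟩
    show B x _ = a
    rw [sympForm_smul_right, div_mul_cancel₀ _ hz]
  have h := card_fiber_mul φ hφ 0
  rw [Nat.card_eq_fintype_card (α := F), Nat.card_eq_fintype_card (α := VV),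
    Fintype.card_fun, Fintype.card_sum, Fintype.card_fin, ← two_mul, hF] at h
  have hm := cnt_pos_m m x hx
  have h2 : (2 : ℕ) ^ (2 * m) = 2 ^ (2 * m - 1) * 2 := by
    rw [← pow_succ]; congr 1; omega
  rw [h2] at h
  exact Nat.eq_of_mul_eq_mul_right (by norm_num) h

theorem card_perp (hF : Fintype.card F = 2) (x : VV) (hx : x ≠ 0) :
    Nat.card {z : VV // z ≠ 0 ∧ B x z = 0} = 2 ^ (2 * m - 1) - 1 := by
  have h0 : B x 0 = 0 := by
    have := sympForm_smul_right m (0 : F) x 0
    rwa [zero_smul, zero_mul] at this
  rw [cnt_card_ne_zero m (fun z => B x z = 0) h0, card_ker m hF x hx]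

theorem card_ker_two (hF : Fintype.card F = 2) (x y : VV) (hx : x ≠ 0) (hy : y ≠ 0) (hxy : x ≠ y) :
    Nat.card {z : VV // B x z = 0 ∧ B z y = 0} = 2 ^ (2 * m - 2) := by
  have hB0 : ∀ u : VV, B u 0 = 0 := by
    intro u
    have := sympForm_smul_right m (0 : F) u 0
    rwa [zero_smul, zero_mul] at this
  -- the kernel of `B x ·` as an additive subgroup
  let Kx : AddSubgroup VV :=
    { carrier := {z | B x z = 0}
      zero_mem' := hB0 x
      add_mem' := by
        intro a b ha hb
        show B x (a + b) = 0
        rw [sympForm_add_right, ha, hb, add_zero]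
      neg_mem' := by
        intro a ha
        show B x (-a) = 0
        have := sympForm_smul_right m (-1 : F) x a
        rw [neg_one_smul] at this
        rw [this, ha, mul_zero] }
  have hKx : Nat.card Kx = 2 ^ (2 * m - 1) := card_ker m hF x hx
  let φ : Kx →+ F :=
    { toFun := fun v => B y v.1
      map_zero' := hB0 y
      map_add' := fun v w => sympForm_add_right m y v.1 w.1 }
  -- a vector of `Kx` not perpendicular to `y`
  have hxy' : x + y ≠ 0 := by
    intro h
    apply hxy
    have h1 : y = -x := (neg_eq_of_add_eq_zero_right h).symm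
    rw [h1]
    funext i
    rw [Pi.neg_apply, neg_eq hF]
  obtain ⟨w, hw⟩ := exists_sympForm_ne_zero m (x + y) hxy'
  rw [sympForm_add_left] at hw
  obtain ⟨u, hu⟩ := exists_sympForm_ne_zero m y hy
  have hu1 : B y u = 1 := eq_one_of_ne_zero hF hu
  have hex : ∃ z : VV, B x z = 0 ∧ B y z = 1 := by
    rcases eq_zero_or_one hF (B x u) with hxu | hxu
    · exact ⟨u, hxu, hu1⟩
    · rcases eq_zero_or_one hF (B x w) with hxw | hxw
      · refine ⟨w, hxw, ?_⟩
        rw [hxw, zero_add] at hw
        exact eq_one_of_ne_zero hF hw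
      · have hyw : B y w = 0 := by
          rcases eq_zero_or_one hF (B y w) with h | h
          · exact h
          · exfalso; apply hw; rw [hxw, h]; exact add_self_eq hF 1
        refine ⟨u + w, ?_, ?_⟩
        · rw [sympForm_add_right, hxu, hxw]; exact add_self_eq hF 1
        · rw [sympForm_add_right, hu1, hyw, add_zero]
  obtain ⟨z₀, hz₀x, hz₀y⟩ := hex
  have hφ : Function.Surjective φ := by
    intro a
    refine ⟨⟨a • z₀, ?_⟩, ?_⟩
    · show B x (a • z₀) = 0
      rw [sympForm_smul_right, hz₀x, mul_zero]
    · show B y (a • z₀) = a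
      rw [sympForm_smul_right, hz₀y, mul_one]
  have h := card_fiber_mul φ hφ 0
  rw [Nat.card_eq_fintype_card (α := F), hF, hKx] at h
  have e : {v : Kx // φ v = 0} ≃ {z : VV // B x z = 0 ∧ B z y = 0} :=
    { toFun := fun v => ⟨v.1.1, v.1.2, by
        have := v.2
        change B y v.1.1 = 0 at this
        rw [sympForm_symm m hF]; exact this⟩
      invFun := fun z => ⟨⟨z.1, z.2.1⟩, by
        show B y z.1 = 0
        rw [sympForm_symm m hF]; exact z.2.2⟩
      left_inv := fun v => rfl
      right_inv := fun z => rfl }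
  rw [Nat.card_congr e] at h
  have hm := cnt_pos_m m x hx
  have h2 : (2 : ℕ) ^ (2 * m - 1) = 2 ^ (2 * m - 2) * 2 := by
    rw [← pow_succ]; congr 1; omega
  rw [h2] at h
  exact Nat.eq_of_mul_eq_mul_right (by norm_num) h

theorem card_perp_two (hF : Fintype.card F = 2) (x y : VV) (hx : x ≠ 0) (hy : y ≠ 0) (hxy : x ≠ y) :
    Nat.card {z : VV // z ≠ 0 ∧ B x z = 0 ∧ B z y = 0} = 2 ^ (2 * m - 2) - 1 := by
  have h0 : B x 0 = 0 ∧ B 0 y = 0 := by
    constructor
    · have := sympForm_smul_right m (0 : F) x 0
      rwa [zero_smul, zero_mul] at this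
    · have := sympForm_smul_left m (0 : F) 0 y
      rwa [zero_smul, zero_mul] at this
  rw [cnt_card_ne_zero m (fun z => B x z = 0 ∧ B z y = 0) h0, card_ker_two m hF x y hx hy hxy]

end Cfsg.Agent.Lib.H3.SpMin
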