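/-
S2142-GL1 (helper3, for helper7): `G = H P`, `Q` abelian normal in `P`:
`|Q : Q ∩ H| * #(P-conjugates of Q ∩ H) ≤ |G : H|`.
-/
import Mathlib

set_option autoImplicit false

namespace Cfsg.Agent.Lib.H3.SpMin

theorem index_ge_mul_conj {G : Type*} [Group G] [Finite G] (H P Q : Subgroup G)
    (hHP : ∀ g : G, ∃ h ∈ H, ∃ p ∈ P, g = h * p)
    (hQP : Q ≤ P) (hQn : ∀ p ∈ P, ∀ q ∈ Q, p * q * p⁻¹ ∈ Q) (hQc : ∀ q ∈ Q, ∀ q' ∈ Q, q * q' = q' * q) :
    (Q ⊓ H).relIndex Q *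
      Nat.card {K : Subgroup G // ∃ p ∈ P, K = (Q ⊓ H).map (MulAut.conj p).toMonoidHom} ≤ H.index := by
  classical
  -- `Q` and `H ⊓ P` normalise `A = Q ⊓ H`
  have hQN : Q ≤ Subgroup.normalizer ((Q ⊓ H : Subgroup G) : Set G) := by
    rw [Subgroup.le_normalizer_iff]
    intro q hq n hn
    have hnQ : n ∈ Q := hn.1
    have : q * n * q⁻¹ = n := by rw [hQc q hq n hnQ]; group
    rw [this]; exact hn
  have hHN : H ⊓ P ≤ Subgroup.normalizer ((Q ⊓ H : Subgroup G) : Set G) := by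
    rw [Subgroup.le_normalizer_iff]
    intro g hg n hn
    exact ⟨hQn g hg.2 n hn.1, H.mul_mem (H.mul_mem hg.1 hn.2) (H.inv_mem hg.1)⟩
  -- representatives
  have hS : ∀ K : {K : Subgroup G // ∃ p ∈ P, K = (Q ⊓ H).map (MulAut.conj p).toMonoidHom},
      ∃ p ∈ P, K.1 = (Q ⊓ H).map (MulAut.conj p).toMonoidHom := fun K => K.2
  choose pK hpK hKeq using hS
  let f : (Q ⧸ (Q ⊓ H).subgroupOf Q) ×
      {K : Subgroup G // ∃ p ∈ P, K = (Q ⊓ H).map (MulAut.conj p).toMonoidHom} → G ⧸ H :=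
    fun x => QuotientGroup.mk (pK x.2 * ((Quotient.out x.1 : Q) : G))
  have hf : Function.Injective f := by
    rintro ⟨x, K⟩ ⟨x', K'⟩ h
    simp only [f] at h
    have h0 := QuotientGroup.eq.mp h
    set qx : G := ((Quotient.out x : Q) : G) with hqx
    set qx' : G := ((Quotient.out x' : Q) : G) with hqx'
    have hqxQ : qx ∈ Q := (Quotient.out x : Q).2
    have hqx'Q : qx' ∈ Q := (Quotient.out x' : Q).2
    set u : G := (pK K)⁻¹ * pK K' with hu
    have huP : u ∈ P := P.mul_mem (P.inv_mem (hpK K)) (hpK K')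
    have h1 : qx⁻¹ * u * qx' ∈ H ⊓ P := by
      refine ⟨?_, P.mul_mem (P.mul_mem (P.inv_mem (hQP hqxQ)) huP) (hQP hqx'Q)⟩
      have : qx⁻¹ * u * qx' = (pK K * qx)⁻¹ * (pK K' * qx') := by rw [hu]; group
      rw [this]; exact h0
    have huN : u ∈ Subgroup.normalizer ((Q ⊓ H : Subgroup G) : Set G) := by
      have : u = qx * (qx⁻¹ * u * qx') * qx'⁻¹ := by group
      rw [this]
      exact Subgroup.mul_mem _ (Subgroup.mul_mem _ (hQN hqxQ) (hHN h1)) (Subgroup.inv_mem _ (hQN hqx'Q))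
    have hKK : K = K' := by
      apply Subtype.ext
      rw [hKeq K, hKeq K']
      have h2 : pK K' = pK K * u := by rw [hu]; group
      have h4 := Subgroup.mem_normalizer_iff_map_conj_eq.mp huN
      ext g
      simp only [Subgroup.mem_map, MulEquiv.coe_toMonoidHom, MulAut.conj_apply]
      constructor
      · rintro ⟨a, ha, rfl⟩
        refine ⟨u⁻¹ * a * u, ?_, ?_⟩
        · have : u⁻¹ ∈ Subgroup.normalizer ((Q ⊓ H : Subgroup G) : Set G) := Subgroup.inv_mem _ huN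
          have := (Subgroup.mem_normalizer_iff.mp this a).mp ha
          simpa using this
        · rw [h2]; group
      · rintro ⟨a, ha, rfl⟩
        refine ⟨u * a * u⁻¹, (Subgroup.mem_normalizer_iff.mp huN a).mp ha, ?_⟩
        rw [h2]; group
    subst hKK
    have h5 : qx⁻¹ * qx' ∈ H := by
      have : qx⁻¹ * qx' = (pK K * qx)⁻¹ * (pK K * qx') := by group
      rw [this]; exact h0
    have h6 : (Quotient.out x : Q)⁻¹ * (Quotient.out x' : Q) ∈ (Q ⊓ H).subgroupOf Q := by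
      rw [Subgroup.mem_subgroupOf]
      refine ⟨?_, ?_⟩
      · exact Q.mul_mem (Q.inv_mem hqxQ) hqx'Q
      · simpa using h5
    have h7 : (QuotientGroup.mk (Quotient.out x : Q) : Q ⧸ (Q ⊓ H).subgroupOf Q) =
        QuotientGroup.mk (Quotient.out x' : Q) := QuotientGroup.eq.mpr h6
    rw [QuotientGroup.out_eq', QuotientGroup.out_eq'] at h7
    rw [h7]
  have hle := Nat.card_le_card_of_injective f hf
  rw [Nat.card_prod] at hle
  exact hle

end Cfsg.Agent.Lib.H3.SpMin
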