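import Mathlib
import Cfsg.Agent.Lib.H3.SubnormalP
import Cfsg.Agent.Lib.H3.Wielandt
import Cfsg.Agent.Lib.H1.PCore
set_option autoImplicit false
open scoped commutatorElement
namespace Cfsg.Agent.Lib.H3

variable {G : Type*} [Group G]

/-- `X` is a subnormal subgroup of `E`. -/
def SubIn (X E : Subgroup G) : Prop := X ≤ E ∧ (X.subgroupOf E).IsSubnormal

namespace SubIn
variable {X Y E F : Subgroup G}

theorem refl (E : Subgroup G) : SubIn E E := ⟨le_rfl, by rw [Subgroup.subgroupOf_self]; exact .top⟩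

theorem mono (h : SubIn X E) (hXF : X ≤ F) (hFE : F ≤ E) : SubIn X F := by
  refine ⟨hXF, ?_⟩
  rw [← Subgroup.comap_inclusion_subgroupOf hFE X]
  exact h.2.comap _

theorem trans (h1 : SubIn X F) (h2 : SubIn F E) : SubIn X E := by
  refine ⟨h1.1.trans h2.1, ?_⟩
  have hle : X.subgroupOf E ≤ F.subgroupOf E := Subgroup.subgroupOf_mono E h1.1
  refine Subgroup.IsSubnormal.trans hle ?_ h2.2
  have h3 := h1.2.comap (Subgroup.subgroupOfEquivOfLe h2.1).toMonoidHom
  have h4 : (X.subgroupOf F).comap (Subgroup.subgroupOfEquivOfLe h2.1).toMonoidHom =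
      (X.subgroupOf E).subgroupOf (F.subgroupOf E) := by
    ext y
    simp only [Subgroup.mem_comap, Subgroup.mem_subgroupOf]
    rfl
  rwa [h4] at h3

theorem conj (h : SubIn X E) {g : G} (hg : g ∈ E) :
    SubIn (X.map (MulAut.conj g).toMonoidHom) E := by
  have hle : X.map (MulAut.conj g).toMonoidHom ≤ E := by
    rintro _ ⟨y, hy, rfl⟩
    simp only [MulEquiv.coe_toMonoidHom, MulAut.conj_apply]
    exact E.mul_mem (E.mul_mem hg (h.1 hy)) (E.inv_mem hg)
  refine ⟨hle, ?_⟩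
  have h1 := h.2.map (f := (MulAut.conj (⟨g, hg⟩ : ↥E)).toMonoidHom)
    (MulAut.conj (⟨g, hg⟩ : ↥E)).surjective
  have h2 : (X.subgroupOf E).map (MulAut.conj (⟨g, hg⟩ : ↥E)).toMonoidHom =
      (X.map (MulAut.conj g).toMonoidHom).subgroupOf E := by
    ext y
    simp only [Subgroup.mem_map, Subgroup.mem_subgroupOf, MulEquiv.coe_toMonoidHom,
      MulAut.conj_apply]
    constructor
    · rintro ⟨z, hz, rfl⟩
      exact ⟨(z : G), hz, by simp⟩
    · rintro ⟨z, hz, hzy⟩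
      refine ⟨⟨z, h.1 hz⟩, hz, ?_⟩
      apply Subtype.ext
      simpa using hzy
  rwa [h2] at h1

theorem sup [Finite G] (h1 : SubIn X E) (h2 : SubIn Y E) : SubIn (X ⊔ Y) E := by
  refine ⟨sup_le h1.1 h2.1, ?_⟩
  rw [Subgroup.subgroupOf_sup h1.1 h2.1]
  exact isSubnormal_sup _ _ rfl _ _ h1.2 h2.2

theorem of_le_normalizer (hXE : X ≤ E) (hn : E ≤ Subgroup.normalizer (X : Set G)) : SubIn X E :=
  ⟨hXE, ((Subgroup.normal_subgroupOf_iff_le_normalizer hXE).2 hn).isSubnormal⟩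

theorem eq_bot_of_isPGroup [Finite G] {p : ℕ} [Fact p.Prime] (h : SubIn X E) (hX : IsPGroup p X)
    (hOp : Cfsg.pCore p ↥E = ⊥) : X = ⊥ := by
  have h1 : IsPGroup p (X.subgroupOf E) :=
    hX.of_equiv (Subgroup.subgroupOfEquivOfLe h.1).symm
  have h2 := isSubnormal_isPGroup_le_pCore h.2 h1
  rw [hOp, le_bot_iff, Subgroup.subgroupOf_eq_bot, disjoint_iff, inf_of_le_left h.1] at h2
  exact h2

theorem pCore_eq_bot [Finite G] {p : ℕ} [Fact p.Prime] (h : SubIn F E)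
    (hOp : Cfsg.pCore p ↥E = ⊥) : Cfsg.pCore p ↥F = ⊥ := by
  set P := (Cfsg.pCore p ↥F).map F.subtype with hP
  have hPF : P ≤ F := Subgroup.map_subtype_le _
  have h1 : P.subgroupOf F = Cfsg.pCore p ↥F :=
    Subgroup.comap_map_eq_self_of_injective F.subtype_injective _
  have h2 : SubIn P F := ⟨hPF, by rw [h1]; exact (Cfsg.Agent.Lib.H1.pCore_normal p ↥F).isSubnormal⟩
  have h3 : IsPGroup p P :=
    (Cfsg.Agent.Lib.H1.pCore_isPGroup p ↥F).of_equiv
      (Subgroup.equivMapOfInjective _ _ F.subtype_injective)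
  have h4 := (h2.trans h).eq_bot_of_isPGroup h3 hOp
  rw [hP, Subgroup.map_eq_bot_iff_of_injective _ F.subtype_injective] at h4
  exact h4

theorem exists_normal_ne (h : SubIn X E) (hne : X ≠ E) :
    ∃ N : Subgroup G, N ≤ E ∧ E ≤ Subgroup.normalizer (N : Set G) ∧ X ≤ N ∧ N ≠ E := by
  have h1 : X.subgroupOf E ≠ ⊤ := by
    rw [Ne, Subgroup.subgroupOf_eq_top]
    intro h2
    exact hne (le_antisymm h.1 h2)
  obtain ⟨K, hK, hXK, hKt⟩ := h.2.exists_normal_and_le_and_lt_top_of_ne h1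
  refine ⟨K.map E.subtype, Subgroup.map_subtype_le _, ?_, ?_, ?_⟩
  · intro e he
    rw [Subgroup.mem_normalizer_iff]
    intro g
    constructor
    · rintro ⟨k, hk, rfl⟩
      exact ⟨⟨e, he⟩ * k * ⟨e, he⟩⁻¹, hK.conj_mem k hk _, by simp⟩
    · rintro ⟨k, hk, hkg⟩
      refine ⟨⟨e, he⟩⁻¹ * k * ⟨e, he⟩, ?_, ?_⟩
      · have := hK.conj_mem k hk ⟨e, he⟩⁻¹
        simpa using this
      · have : (k : G) = e * g * e⁻¹ := by simpa using hkg
        simp [this, mul_assoc]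
  · intro x hx
    exact ⟨⟨x, h.1 hx⟩, hXK (Subgroup.mem_subgroupOf.2 hx), rfl⟩
  · intro h2
    apply hKt.ne
    rw [eq_top_iff]
    intro y _
    have : (y : G) ∈ K.map E.subtype := by rw [h2]; exact y.2
    obtain ⟨k, hk, hky⟩ := this
    have : k = y := Subtype.ext hky
    rwa [← this]

end SubIn
end Cfsg.Agent.Lib.H3
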