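import Mathlib
import Cfsg.Agent.Lib.H3.SubPair1
import Cfsg.Agent.Lib.H3.OffenderE1
import Cfsg.Agent.Lib.H3.OffenderE8
set_option autoImplicit false
open scoped commutatorElement
namespace Cfsg.Agent.Lib.H3

variable {G : Type*} [Group G]

/-- ambient data for the subnormal-pair lemma. -/
structure Amb (p : ℕ) (V E : Subgroup G) : Prop where
  hV : Cfsg.IsElementaryAbelian p V
  hEV : E ≤ Subgroup.normalizer (V : Set G)
  hf : E ⊓ Subgroup.centralizer (V : Set G) = ⊥
  hOp : Cfsg.pCore p ↥E = ⊥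

/-- `X` is subnormal in `E`, irreducible on `[V, X]`, of order `> 2`. -/
structure Good (V E X : Subgroup G) : Prop where
  sub : SubIn X E
  irr : ∀ U : Subgroup G, U ≤ ⁅V, X⁆ → X ≤ Subgroup.normalizer (U : Set G) → U = ⊥ ∨ U = ⁅V, X⁆
  card : 2 < Nat.card X

theorem isPGroup_of_quadratic [Finite G] {p : ℕ} [Fact p.Prime] {V S : Subgroup G}
    (hV : Cfsg.IsElementaryAbelian p V) (hSV : S ≤ Subgroup.normalizer (V : Set G))
    (hf : S ⊓ Subgroup.centralizer (V : Set G) = ⊥) (hq : ⁅⁅V, S⁆, S⁆ = ⊥) : IsPGroup p S := by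
  have hWV : ⁅V, S⁆ ≤ V := (Subgroup.le_normalizer_iff_commutator_le_left).mp hSV
  have hWS : ⁅V, S⁆ ≤ Subgroup.centralizer (S : Set G) :=
    (Subgroup.commutator_eq_bot_iff_le_centralizer).1 hq
  have key : ∀ s ∈ S, s ^ p = 1 := by
    intro s hs
    have h1 : s ^ p ∈ S ⊓ Subgroup.centralizer (V : Set G) := by
      refine ⟨S.pow_mem hs p, ?_⟩
      show s ^ p ∈ Subgroup.centralizer (V : Set G)
      rw [Subgroup.mem_centralizer_iff]
      intro v hv
      set t := v⁻¹ * (s * v * s⁻¹) with ht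
      have htW : t ∈ ⁅V, S⁆ := by
        have := Subgroup.commutator_mem_commutator (V.inv_mem hv) hs
        rw [commutatorElement_def] at this
        have e : v⁻¹ * s * v⁻¹⁻¹ * s⁻¹ = t := by rw [ht]; group
        rwa [e] at this
      have hbu : s * v * s⁻¹ = v * t := by rw [ht]; group
      have hbt : s * t * s⁻¹ = t := by
        have := Subgroup.mem_centralizer_iff.1 (hWS htW) s hs
        rw [this]; group
      have h2 := conj_pow_eq_mul_pow hbu hbt p
      rw [hV.2 t (hWV htW), mul_one] at h2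
      calc v * s ^ p = (s ^ p * v * (s ^ p)⁻¹) * s ^ p := by rw [h2]
        _ = s ^ p * v := by group
    rw [hf, Subgroup.mem_bot] at h1
    exact h1
  intro s
  refine ⟨1, Subtype.ext ?_⟩
  simpa using key s s.2

namespace Amb
variable {p : ℕ} [Fact p.Prime] {V E : Subgroup G}

theorem comm_V (a : Amb p V E) : ∀ x ∈ V, ∀ y ∈ V, x * y = y * x :=
  Cfsg.Agent.Lib.H16.comm_of_elemAb a.hV

theorem W_le (a : Amb p V E) {X : Subgroup G} (hX : X ≤ E) : ⁅V, X⁆ ≤ V :=
  (Subgroup.le_normalizer_iff_commutator_le_left).mp (hX.trans a.hEV)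

theorem le_normalizer_W (a : Amb p V E) {X : Subgroup G} (hX : X ≤ E) :
    X ≤ Subgroup.normalizer ((⁅V, X⁆ : Subgroup G) : Set G) :=
  le_normalizer_commutator' (hX.trans a.hEV) Subgroup.le_normalizer

theorem mono (a : Amb p V E) [Finite G] {F : Subgroup G} (h : SubIn F E) : Amb p V F :=
  ⟨a.hV, h.1.trans a.hEV, by
    rw [eq_bot_iff, ← a.hf]; exact inf_le_inf_right _ h.1, h.pCore_eq_bot a.hOp⟩

/-- a subnormal subgroup acting quadratically is trivial -/
theorem eq_bot_of_quadratic (a : Amb p V E) [Finite G] {K : Subgroup G} (h : SubIn K E)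
    (hq : ⁅⁅V, K⁆, K⁆ = ⊥) : K = ⊥ := by
  apply h.eq_bot_of_isPGroup _ a.hOp
  apply isPGroup_of_quadratic a.hV (h.1.trans a.hEV) _ hq
  rw [eq_bot_iff, ← a.hf]; exact inf_le_inf_right _ h.1

theorem ne_bot_of_good (a : Amb p V E) {X : Subgroup G} (g : Good V E X) : X ≠ ⊥ := by
  intro h
  have := g.card
  rw [h, Subgroup.card_bot] at this
  omega

theorem W_ne_bot (a : Amb p V E) {X : Subgroup G} (g : Good V E X) : ⁅V, X⁆ ≠ ⊥ := by
  intro h
  apply a.ne_bot_of_good g
  rw [Subgroup.commutator_comm, Subgroup.commutator_eq_bot_iff_le_centralizer] at h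
  rw [eq_bot_iff, ← a.hf]
  exact le_inf g.sub.1 h

/-- (F3a) -/
theorem comm_W (a : Amb p V E) [Finite G] {X : Subgroup G} (g : Good V E X) :
    ⁅⁅V, X⁆, X⁆ = ⁅V, X⁆ := by
  have h1 : ⁅⁅V, X⁆, X⁆ ≤ ⁅V, X⁆ :=
    (Subgroup.le_normalizer_iff_commutator_le_left).mp (a.le_normalizer_W g.sub.1)
  have h2 : X ≤ Subgroup.normalizer ((⁅⁅V, X⁆, X⁆ : Subgroup G) : Set G) :=
    le_normalizer_commutator' (a.le_normalizer_W g.sub.1) Subgroup.le_normalizer
  rcases g.irr _ h1 h2 with h3 | h3
  · exact absurd (a.eq_bot_of_quadratic g.sub h3) (a.ne_bot_of_good g)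
  · exact h3

/-- (F3b) `X` is faithful on `[V, X]`. -/
theorem faithful_W (a : Amb p V E) [Finite G] {X : Subgroup G} (g : Good V E X) :
    X ⊓ Subgroup.centralizer ((⁅V, X⁆ : Subgroup G) : Set G) = ⊥ := by
  set K := X ⊓ Subgroup.centralizer ((⁅V, X⁆ : Subgroup G) : Set G) with hK
  have hKX : K ≤ X := inf_le_left
  have hXK : X ≤ Subgroup.normalizer (K : Set G) := by
    apply le_normalizer_inf Subgroup.le_normalizer
    intro x hx
    rw [Subgroup.mem_normalizer_iff]
    intro c
    constructor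
    · intro hc
      exact conj_mem_centralizer_of_mem_normalizer (a.le_normalizer_W g.sub.1 hx) hc
    · intro hc
      have := conj_mem_centralizer_of_mem_normalizer
        (Subgroup.inv_mem _ (a.le_normalizer_W g.sub.1 hx)) hc
      simpa [mul_assoc] using this
  have hKsub : SubIn K E := (SubIn.of_le_normalizer hKX hXK).trans g.sub
  apply a.eq_bot_of_quadratic hKsub
  rw [Subgroup.commutator_eq_bot_iff_le_centralizer]
  refine (Subgroup.commutator_mono le_rfl hKX).trans ?_
  rw [Subgroup.le_centralizer_iff]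
  exact inf_le_right

/-- (F3c) `X` has no fixed points on `[V, X]`. -/
theorem W_inf_centralizer (a : Amb p V E) [Finite G] {X : Subgroup G} (g : Good V E X) :
    ⁅V, X⁆ ⊓ Subgroup.centralizer (X : Set G) = ⊥ := by
  have h1 : X ≤ Subgroup.normalizer
      ((⁅V, X⁆ ⊓ Subgroup.centralizer (X : Set G) : Subgroup G) : Set G) := by
    apply le_normalizer_inf (a.le_normalizer_W g.sub.1)
    intro x hx
    rw [Subgroup.mem_normalizer_iff]
    intro c
    constructor
    · intro hc
      exact conj_mem_centralizer_of_mem_normalizer (Subgroup.le_normalizer hx) hc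
    · intro hc
      have := conj_mem_centralizer_of_mem_normalizer
        (Subgroup.inv_mem _ (Subgroup.le_normalizer (H := X) hx)) hc
      simpa [mul_assoc] using this
  rcases g.irr _ inf_le_left h1 with h2 | h2
  · exact h2
  · exfalso
    have h3 : ⁅V, X⁆ ≤ Subgroup.centralizer (X : Set G) := by
      rw [← h2]; exact inf_le_right
    rw [← Subgroup.commutator_eq_bot_iff_le_centralizer, a.comm_W g] at h3
    exact a.W_ne_bot g h3

end Amb
end Cfsg.Agent.Lib.H3
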