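import Mathlib
import Cfsg.Agent.Lib.H3.SubPair2
import Cfsg.Agent.Lib.H3.OffenderE10
set_option autoImplicit false
open scoped commutatorElement
namespace Cfsg.Agent.Lib.H3

variable {G : Type*} [Group G]

theorem map_conj_one (X : Subgroup G) : X.map (MulAut.conj (1 : G)).toMonoidHom = X := by
  ext y
  simp

theorem map_conj_mul (X : Subgroup G) (g h : G) :
    (X.map (MulAut.conj h).toMonoidHom).map (MulAut.conj g).toMonoidHom =
      X.map (MulAut.conj (g * h)).toMonoidHom := by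
  rw [Subgroup.map_map]
  congr 1
  ext y
  simp [mul_assoc]

theorem map_conj_inv_map_conj (B : Subgroup G) (z : G) :
    (B.map (MulAut.conj z⁻¹).toMonoidHom).map (MulAut.conj z).toMonoidHom = B := by
  have := map_conj_map_conj_inv B z⁻¹
  rwa [inv_inv] at this

namespace Amb
variable {p : ℕ} [Fact p.Prime] {V E : Subgroup G}

theorem map_conj_V (a : Amb p V E) {g : G} (hg : g ∈ E) :
    V.map (MulAut.conj g).toMonoidHom = V :=
  Subgroup.mem_normalizer_iff_map_conj_eq.1 (a.hEV hg)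

theorem W_conj (a : Amb p V E) (X : Subgroup G) {g : G} (hg : g ∈ E) :
    ⁅V, X.map (MulAut.conj g).toMonoidHom⁆ = (⁅V, X⁆).map (MulAut.conj g).toMonoidHom := by
  rw [Subgroup.map_commutator, a.map_conj_V hg]

theorem good_conj (a : Amb p V E) {X : Subgroup G} (h : Good V E X) {g : G} (hg : g ∈ E) :
    Good V E (X.map (MulAut.conj g).toMonoidHom) := by
  refine ⟨h.sub.conj hg, ?_, by rw [card_map_conj']; exact h.card⟩
  intro U hU hXU
  rw [a.W_conj X hg] at hU ⊢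
  set U' := U.map (MulAut.conj g⁻¹).toMonoidHom with hU'
  have h1 : U' ≤ ⁅V, X⁆ := by
    have := Subgroup.map_mono (f := (MulAut.conj g⁻¹).toMonoidHom) hU
    rwa [map_conj_map_conj_inv] at this
  have h2 : X ≤ Subgroup.normalizer (U' : Set G) := by
    have h3 := Subgroup.map_mono (f := (MulAut.conj g⁻¹).toMonoidHom) hXU
    rw [map_conj_map_conj_inv] at h3
    refine h3.trans ?_
    rw [hU']
    exact (Subgroup.map_equiv_normalizer_eq U (MulAut.conj g⁻¹)).le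
  have h4 : U'.map (MulAut.conj g).toMonoidHom = U := map_conj_inv_map_conj U g
  rcases h.irr U' h1 h2 with h5 | h5
  · left
    rw [← h4, h5, Subgroup.map_bot]
  · right
    rw [← h4, h5]

end Amb

/-- the inductive hypothesis. -/
def IHyp (p : ℕ) (V : Subgroup G) (n : ℕ) : Prop :=
  ∀ E X Y : Subgroup G, Nat.card E < n → Amb p V E → E = X ⊔ Y → Good V E X → Good V E Y →
    ¬ ⁅V, X⁆ ≤ ⁅V, Y⁆ → ¬ ⁅V, Y⁆ ≤ ⁅V, X⁆ → ⁅X, Y⁆ = ⊥ ∧ ⁅V, X⁆ ⊓ ⁅V, Y⁆ = ⊥

namespace Amb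
variable {p : ℕ} [Fact p.Prime] {V E : Subgroup G}

theorem pair_of_ih (a : Amb p V E) [Finite G] (ih : IHyp p V (Nat.card E)) {X Y : Subgroup G}
    (hX : Good V E X) (hY : Good V E Y) (hlt : Nat.card ↥(X ⊔ Y) < Nat.card E)
    (hc : Nat.card ↥(⁅V, X⁆) = Nat.card ↥(⁅V, Y⁆)) (hne : ⁅V, X⁆ ≠ ⁅V, Y⁆) :
    ⁅V, X⁆ ⊓ ⁅V, Y⁆ = ⊥ ∧ X ≤ Subgroup.centralizer ((⁅V, Y⁆ : Subgroup G) : Set G) ∧
      Y ≤ Subgroup.centralizer ((⁅V, X⁆ : Subgroup G) : Set G) := by
  have sub' : SubIn (X ⊔ Y) E := hX.sub.sup hY.sub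
  have a' : Amb p V (X ⊔ Y) := a.mono sub'
  have gX : Good V (X ⊔ Y) X := ⟨hX.sub.mono le_sup_left sub'.1, hX.irr, hX.card⟩
  have gY : Good V (X ⊔ Y) Y := ⟨hY.sub.mono le_sup_right sub'.1, hY.irr, hY.card⟩
  have inc1 : ¬ ⁅V, X⁆ ≤ ⁅V, Y⁆ := fun hle =>
    hne (Subgroup.eq_of_le_of_card_ge hle hc.ge)
  have inc2 : ¬ ⁅V, Y⁆ ≤ ⁅V, X⁆ := fun hle =>
    hne (Subgroup.eq_of_le_of_card_ge hle hc.le).symm
  obtain ⟨hcomm, hinf⟩ := ih (X ⊔ Y) X Y hlt a' rfl gX gY inc1 inc2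
  have hXY : X ≤ Subgroup.centralizer (Y : Set G) :=
    (Subgroup.commutator_eq_bot_iff_le_centralizer).1 hcomm
  have hYX : Y ≤ Subgroup.centralizer (X : Set G) := Subgroup.le_centralizer_iff.1 hXY
  have hXV : X ≤ Subgroup.normalizer (V : Set G) := hX.sub.1.trans a.hEV
  have hYV : Y ≤ Subgroup.normalizer (V : Set G) := hY.sub.1.trans a.hEV
  refine ⟨hinf, ?_, ?_⟩
  · rw [Subgroup.le_centralizer_iff, ← Subgroup.commutator_eq_bot_iff_le_centralizer, eq_bot_iff,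
      ← hinf]
    refine le_inf (Subgroup.commutator_mono (a.W_le hY.sub.1) le_rfl) ?_
    exact (Subgroup.le_normalizer_iff_commutator_le_left).mp
      (le_normalizer_commutator' hXV (hXY.trans (Subgroup.centralizer_le_normalizer _)))
  · rw [Subgroup.le_centralizer_iff, ← Subgroup.commutator_eq_bot_iff_le_centralizer, eq_bot_iff,
      ← hinf]
    refine le_inf ?_ (Subgroup.commutator_mono (a.W_le hX.sub.1) le_rfl)
    exact (Subgroup.le_normalizer_iff_commutator_le_left).mp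
      (le_normalizer_commutator' hYV (hYX.trans (Subgroup.centralizer_le_normalizer _)))

/-- conjugates of a proper good subgroup generate a proper subgroup. -/
theorem card_sup_conj_lt (a : Amb p V E) [Finite G] {X : Subgroup G} (hX : Good V E X)
    (hXE : X ≠ E) {g g' : G} (hg : g ∈ E) (hg' : g' ∈ E) :
    Nat.card ↥(X.map (MulAut.conj g).toMonoidHom ⊔ X.map (MulAut.conj g').toMonoidHom) <
      Nat.card E := by
  obtain ⟨N, hNE, hEN, hXN, hNne⟩ := hX.sub.exists_normal_ne hXE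
  have key : ∀ k ∈ E, X.map (MulAut.conj k).toMonoidHom ≤ N := by
    intro k hk
    rintro _ ⟨x, hx, rfl⟩
    simp only [MulEquiv.coe_toMonoidHom, MulAut.conj_apply]
    exact (Subgroup.mem_normalizer_iff.1 (hEN hk) x).1 (hXN hx)
  have h1 : Nat.card ↥(X.map (MulAut.conj g).toMonoidHom ⊔ X.map (MulAut.conj g').toMonoidHom) ≤
      Nat.card N := Subgroup.card_le_of_le (sup_le (key g hg) (key g' hg'))
  have h2 : Nat.card N < Nat.card E := by
    by_contra hcon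
    push Not at hcon
    exact hNne (Subgroup.eq_of_le_of_card_ge hNE hcon)
  omega

/-- IH for two conjugates with different commutators. -/
theorem conj_pair (a : Amb p V E) [Finite G] (ih : IHyp p V (Nat.card E)) {X : Subgroup G}
    (hX : Good V E X) (hXE : X ≠ E) {g g' : G} (hg : g ∈ E) (hg' : g' ∈ E)
    (hne : (⁅V, X⁆).map (MulAut.conj g).toMonoidHom ≠ (⁅V, X⁆).map (MulAut.conj g').toMonoidHom) :
    (⁅V, X⁆).map (MulAut.conj g).toMonoidHom ⊓ (⁅V, X⁆).map (MulAut.conj g').toMonoidHom = ⊥ ∧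
    X.map (MulAut.conj g).toMonoidHom ≤ Subgroup.centralizer
      (((⁅V, X⁆).map (MulAut.conj g').toMonoidHom : Subgroup G) : Set G) := by
  rw [← a.W_conj X hg, ← a.W_conj X hg'] at hne ⊢
  have h := a.pair_of_ih ih (a.good_conj hX hg) (a.good_conj hX hg')
    (a.card_sup_conj_lt hX hXE hg hg')
    (by rw [a.W_conj X hg, a.W_conj X hg', card_map_conj', card_map_conj']) hne
  exact ⟨h.1, h.2.1⟩

/-- Lemma X: if `E₁` centralizes `[V,E₂]` then `E₂` normalizes `[V,E₁]`. -/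
theorem invariant_of_centralizes (a : Amb p V E) [Finite G] (ih : IHyp p V (Nat.card E))
    {E₁ E₂ : Subgroup G} (h1 : Good V E E₁) (h2 : Good V E E₂) (hE₁ : E₁ ≠ E)
    (hc : E₁ ≤ Subgroup.centralizer ((⁅V, E₂⁆ : Subgroup G) : Set G)) :
    E₂ ≤ Subgroup.normalizer ((⁅V, E₁⁆ : Subgroup G) : Set G) := by
  intro x hx
  by_contra hnot
  have hxE : x ∈ E := h2.sub.1 hx
  have hne : (⁅V, E₁⁆).map (MulAut.conj (1 : G)).toMonoidHom ≠
      (⁅V, E₁⁆).map (MulAut.conj x).toMonoidHom := by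
    rw [map_conj_one]
    intro h3
    exact hnot (Subgroup.mem_normalizer_iff_map_conj_eq.2 h3.symm)
  obtain ⟨-, h3⟩ := a.conj_pair ih h1 hE₁ (Subgroup.one_mem _) hxE hne
  rw [map_conj_one] at h3
  -- E₁ centralizes [V,E₁]
  have h4 : ⁅V, E₁⁆ ≤ Subgroup.centralizer (E₁ : Set G) := by
    intro w hw
    rw [Subgroup.mem_centralizer_iff]
    intro e he
    have hu : x * w⁻¹ * x⁻¹ ∈ (⁅V, E₁⁆).map (MulAut.conj x).toMonoidHom :=
      ⟨w⁻¹, Subgroup.inv_mem _ hw, rfl⟩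
    have hcW : w * (x * w⁻¹ * x⁻¹) ∈ ⁅V, E₂⁆ := by
      have := Subgroup.commutator_mem_commutator (a.W_le h1.sub.1 hw) hx
      rw [commutatorElement_def] at this
      have e' : w * x * w⁻¹ * x⁻¹ = w * (x * w⁻¹ * x⁻¹) := by group
      rwa [e'] at this
    have e1 := Subgroup.mem_centralizer_iff.1 (hc he) _ hcW
    have e2 := Subgroup.mem_centralizer_iff.1 (h3 he) _ hu
    obtain ⟨u, hu_def⟩ : ∃ u, u = x * w⁻¹ * x⁻¹ := ⟨_, rfl⟩
    rw [← hu_def] at e1 e2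
    have hw' : w = (w * u) * u⁻¹ := by group
    obtain ⟨c, hc_def⟩ : ∃ c, c = w * u := ⟨_, rfl⟩
    rw [← hc_def] at e1 hw'
    rw [hw']
    calc e * (c * u⁻¹) = (e * c) * u⁻¹ := by group
      _ = (c * e) * u⁻¹ := by rw [e1]
      _ = c * (u⁻¹ * (u * e) * u⁻¹) := by group
      _ = c * (u⁻¹ * (e * u) * u⁻¹) := by rw [e2]
      _ = c * u⁻¹ * e := by group
  have h5 := a.W_inf_centralizer h1
  rw [inf_of_le_left h4] at h5
  exact a.W_ne_bot h1 h5

end Amb
end Cfsg.Agent.Lib.H3
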