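import Mathlib
import Cfsg.Agent.Lib.H3.SubPair3
set_option autoImplicit false
open scoped commutatorElement
namespace Cfsg.Agent.Lib.H3

variable {G : Type*} [Group G]

namespace Amb
variable {p : ℕ} [Fact p.Prime] {V E : Subgroup G}

/-- the injection `u ↦ [u, e]` from `[V,Y]` to `[V,X]` for `e ∈ X` moving `[V,Y]`. -/
theorem exists_inj_of_moved (a : Amb p V E) [Finite G] (ih : IHyp p V (Nat.card E))
    {X Y : Subgroup G} (hX : Good V E X) (hY : Good V E Y) (hYE : Y ≠ E) {e : G} (he : e ∈ X)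
    (hmove : (⁅V, Y⁆).map (MulAut.conj e).toMonoidHom ≠ ⁅V, Y⁆) :
    ∃ f : ↥(⁅V, Y⁆) → ↥(⁅V, X⁆), Function.Injective f ∧
      ∀ u, ((f u : ↥(⁅V, X⁆)) : G) = (u : G) * (e * (u : G)⁻¹ * e⁻¹) := by
  have heE : e ∈ E := hX.sub.1 he
  have hne : (⁅V, Y⁆).map (MulAut.conj (1 : G)).toMonoidHom ≠
      (⁅V, Y⁆).map (MulAut.conj e).toMonoidHom := by
    rw [map_conj_one]; exact hmove.symm
  obtain ⟨hinf, -⟩ := a.conj_pair ih hY hYE (Subgroup.one_mem _) heE hne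
  rw [map_conj_one] at hinf
  have hmem : ∀ u : ↥(⁅V, Y⁆), (u : G) * (e * (u : G)⁻¹ * e⁻¹) ∈ ⁅V, X⁆ := by
    intro u
    have := Subgroup.commutator_mem_commutator (a.W_le hY.sub.1 u.2) he
    rw [commutatorElement_def] at this
    have e' : (u : G) * e * (u : G)⁻¹ * e⁻¹ = (u : G) * (e * (u : G)⁻¹ * e⁻¹) := by group
    rwa [e'] at this
  refine ⟨fun u => ⟨_, hmem u⟩, ?_, fun u => rfl⟩
  intro u u' huu'
  have h1 : (u : G) * (e * (u : G)⁻¹ * e⁻¹) = (u' : G) * (e * (u' : G)⁻¹ * e⁻¹) :=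
    congrArg Subtype.val huu'
  have h2 : (u' : G)⁻¹ * (u : G) = e * ((u' : G)⁻¹ * (u : G)) * e⁻¹ := by
    calc (u' : G)⁻¹ * (u : G)
        = (u' : G)⁻¹ * ((u : G) * (e * (u : G)⁻¹ * e⁻¹)) * (e * (u : G) * e⁻¹) := by group
      _ = (u' : G)⁻¹ * ((u' : G) * (e * (u' : G)⁻¹ * e⁻¹)) * (e * (u : G) * e⁻¹) := by rw [h1]
      _ = e * ((u' : G)⁻¹ * (u : G)) * e⁻¹ := by group
  have h3 : (u' : G)⁻¹ * (u : G) ∈ ⁅V, Y⁆ ⊓ (⁅V, Y⁆).map (MulAut.conj e).toMonoidHom := by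
    have hz : (u' : G)⁻¹ * (u : G) ∈ ⁅V, Y⁆ := Subgroup.mul_mem _ (Subgroup.inv_mem _ u'.2) u.2
    refine ⟨hz, ?_⟩
    rw [h2]
    exact ⟨_, hz, rfl⟩
  rw [hinf, Subgroup.mem_bot] at h3
  apply Subtype.ext
  calc (u : G) = (u' : G) * ((u' : G)⁻¹ * (u : G)) := by group
    _ = (u' : G) := by rw [h3, mul_one]

theorem card_le_of_moved (a : Amb p V E) [Finite G] (ih : IHyp p V (Nat.card E))
    {X Y : Subgroup G} (hX : Good V E X) (hY : Good V E Y) (hYE : Y ≠ E) {e : G} (he : e ∈ X)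
    (hmove : (⁅V, Y⁆).map (MulAut.conj e).toMonoidHom ≠ ⁅V, Y⁆) :
    Nat.card ↥(⁅V, Y⁆) ≤ Nat.card ↥(⁅V, X⁆) := by
  obtain ⟨f, hf, -⟩ := a.exists_inj_of_moved ih hX hY hYE he hmove
  exact Nat.card_le_card_of_injective f hf

theorem moved_facts (a : Amb p V E) [Finite G] (ih : IHyp p V (Nat.card E))
    {X Y : Subgroup G} (hX : Good V E X) (hY : Good V E Y) (hYE : Y ≠ E)
    (hcard : Nat.card ↥(⁅V, X⁆) ≤ Nat.card ↥(⁅V, Y⁆)) {e : G} (he : e ∈ X)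
    (hmove : (⁅V, Y⁆).map (MulAut.conj e).toMonoidHom ≠ ⁅V, Y⁆) :
    ⁅V, X⁆ ≤ ⁅V, Y⁆ ⊔ (⁅V, Y⁆).map (MulAut.conj e).toMonoidHom ∧
      ⁅V, X⁆ ⊓ ⁅V, Y⁆ = ⊥ ∧ ⁅V, X⁆ ⊓ (⁅V, Y⁆).map (MulAut.conj e).toMonoidHom = ⊥ := by
  have heE : e ∈ E := hX.sub.1 he
  have hne : (⁅V, Y⁆).map (MulAut.conj (1 : G)).toMonoidHom ≠
      (⁅V, Y⁆).map (MulAut.conj e).toMonoidHom := by
    rw [map_conj_one]; exact hmove.symm
  obtain ⟨hinf, -⟩ := a.conj_pair ih hY hYE (Subgroup.one_mem _) heE hne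
  rw [map_conj_one] at hinf
  obtain ⟨f, hf, hfv⟩ := a.exists_inj_of_moved ih hX hY hYE he hmove
  have hbij : Function.Bijective f := hf.bijective_of_nat_card_le hcard
  have key : ∀ v ∈ ⁅V, X⁆, ∃ u ∈ ⁅V, Y⁆, v = u * (e * u⁻¹ * e⁻¹) := by
    intro v hv
    obtain ⟨u, hu⟩ := hbij.2 ⟨v, hv⟩
    refine ⟨u, u.2, ?_⟩
    rw [← hfv u, hu]
  refine ⟨?_, ?_, ?_⟩
  · intro v hv
    obtain ⟨u, hu, rfl⟩ := key v hv
    exact Subgroup.mul_mem _ (Subgroup.mem_sup_left hu)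
      (Subgroup.mem_sup_right ⟨u⁻¹, Subgroup.inv_mem _ hu, rfl⟩)
  · rw [eq_bot_iff]
    rintro v ⟨hv1, hv2⟩
    obtain ⟨u, hu, rfl⟩ := key v hv1
    have h1 : e * u⁻¹ * e⁻¹ ∈ ⁅V, Y⁆ ⊓ (⁅V, Y⁆).map (MulAut.conj e).toMonoidHom := by
      refine ⟨?_, ⟨u⁻¹, Subgroup.inv_mem _ hu, rfl⟩⟩
      have : e * u⁻¹ * e⁻¹ = u⁻¹ * (u * (e * u⁻¹ * e⁻¹)) := by group
      rw [this]
      exact Subgroup.mul_mem _ (Subgroup.inv_mem _ hu) hv2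
    rw [hinf, Subgroup.mem_bot] at h1
    rw [Subgroup.mem_bot, h1, mul_one]
    have : u⁻¹ = 1 := by
      have h2 : e⁻¹ * (e * u⁻¹ * e⁻¹) * e = u⁻¹ := by group
      rw [← h2, h1]; group
    exact inv_eq_one.1 this
  · rw [eq_bot_iff]
    rintro v ⟨hv1, hv2⟩
    obtain ⟨u, hu, rfl⟩ := key v hv1
    have h1 : u ∈ ⁅V, Y⁆ ⊓ (⁅V, Y⁆).map (MulAut.conj e).toMonoidHom := by
      refine ⟨hu, ?_⟩
      have : u = (u * (e * u⁻¹ * e⁻¹)) * (e * u⁻¹ * e⁻¹)⁻¹ := by group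
      rw [this]
      exact Subgroup.mul_mem _ hv2 (Subgroup.inv_mem _ ⟨u⁻¹, Subgroup.inv_mem _ hu, rfl⟩)
    rw [hinf, Subgroup.mem_bot] at h1
    rw [Subgroup.mem_bot, h1]
    group

theorem three_conj_false (a : Amb p V E) [Finite G] (ih : IHyp p V (Nat.card E))
    {X Y : Subgroup G} (hX : Good V E X) (hY : Good V E Y) (hYE : Y ≠ E)
    (hcard : Nat.card ↥(⁅V, X⁆) ≤ Nat.card ↥(⁅V, Y⁆)) {e e' : G} (he : e ∈ X) (he' : e' ∈ X)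
    (h1 : (⁅V, Y⁆).map (MulAut.conj e).toMonoidHom ≠ ⁅V, Y⁆)
    (h2 : (⁅V, Y⁆).map (MulAut.conj e').toMonoidHom ≠ ⁅V, Y⁆)
    (h3 : (⁅V, Y⁆).map (MulAut.conj e).toMonoidHom ≠ (⁅V, Y⁆).map (MulAut.conj e').toMonoidHom) :
    False := by
  have heE : e ∈ E := hX.sub.1 he
  have he'E : e' ∈ E := hX.sub.1 he'
  obtain ⟨f1, f2, -⟩ := a.moved_facts ih hX hY hYE hcard he h1
  obtain ⟨f1', -, -⟩ := a.moved_facts ih hX hY hYE hcard he' h2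
  have hVc := a.comm_V
  have hYV : ⁅V, Y⁆ ≤ V := a.W_le hY.sub.1
  have hmapV : ∀ k ∈ E, (⁅V, Y⁆).map (MulAut.conj k).toMonoidHom ≤ V := by
    intro k hk
    rw [← a.W_conj Y hk]
    exact a.W_le (hY.sub.conj hk).1
  have hne1 : (⁅V, Y⁆).map (MulAut.conj e).toMonoidHom ≠
      (⁅V, Y⁆).map (MulAut.conj (1 : G)).toMonoidHom := by
    rw [map_conj_one]; exact h1
  obtain ⟨-, c1⟩ := a.conj_pair ih hY hYE heE (Subgroup.one_mem _) hne1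
  rw [map_conj_one] at c1
  obtain ⟨-, c2⟩ := a.conj_pair ih hY hYE heE he'E h3
  have c1' := Subgroup.le_centralizer_iff.1 c1
  have c2' := Subgroup.le_centralizer_iff.1 c2
  have hfix := a.W_inf_centralizer (a.good_conj hY heE)
  rw [a.W_conj Y heE] at hfix
  apply a.W_ne_bot hX
  rw [eq_bot_iff]
  intro v hv
  obtain ⟨x, hx, y, hy, hxy⟩ := mem_sup_of_abelian hVc hYV (hmapV e heE) (f1 hv)
  obtain ⟨x', hx', y', hy', hxy'⟩ := mem_sup_of_abelian hVc hYV (hmapV e' he'E) (f1' hv)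
  have hy1 : y ∈ (⁅V, Y⁆).map (MulAut.conj e).toMonoidHom ⊓
      Subgroup.centralizer ((Y.map (MulAut.conj e).toMonoidHom : Subgroup G) : Set G) := by
    refine ⟨hy, ?_⟩
    have : y = x⁻¹ * (x' * y') := by rw [← hxy', hxy]; group
    rw [this]
    exact Subgroup.mul_mem _ (Subgroup.inv_mem _ (c1' hx))
      (Subgroup.mul_mem _ (c1' hx') (c2' hy'))
  rw [hfix, Subgroup.mem_bot] at hy1
  have hvx : v ∈ ⁅V, X⁆ ⊓ ⁅V, Y⁆ := by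
    refine ⟨hv, ?_⟩
    rw [hxy, hy1, mul_one]; exact hx
  rw [f2] at hvx
  exact hvx

end Amb
end Cfsg.Agent.Lib.H3
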