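import Mathlib
import Cfsg.Agent.Lib.H3.SubPair4
set_option autoImplicit false
open scoped commutatorElement
namespace Cfsg.Agent.Lib.H3

variable {G : Type*} [Group G]

theorem exists_two_ne_one [Finite G] {X : Subgroup G} (h : 2 < Nat.card X) :
    ∃ e₁ ∈ X, ∃ e₂ ∈ X, e₁ ≠ 1 ∧ e₂ ≠ 1 ∧ e₁ ≠ e₂ := by
  haveI : Fintype ↥X := Fintype.ofFinite _
  rw [Nat.card_eq_fintype_card, Fintype.two_lt_card_iff] at h
  obtain ⟨x, y, z, hxy, hxz, hyz⟩ := h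
  have key : ∀ u v : ↥X, u ≠ v → u ≠ 1 → v ≠ 1 →
      ∃ e₁ ∈ X, ∃ e₂ ∈ X, e₁ ≠ 1 ∧ e₂ ≠ 1 ∧ e₁ ≠ e₂ := by
    intro u v huv hu hv
    exact ⟨u, u.2, v, v.2, fun h => hu (Subtype.ext h), fun h => hv (Subtype.ext h),
      fun h => huv (Subtype.ext h)⟩
  by_cases hx : x = 1
  · subst hx
    exact key y z hyz (Ne.symm hxy) (Ne.symm hxz)
  · by_cases hy : y = 1
    · subst hy
      exact key x z hxz hx (Ne.symm hyz)
    · exact key x y hxy hx hy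

namespace Amb
variable {p : ℕ} [Fact p.Prime] {V E : Subgroup G}

/-- Lemma Y': neither commutator invariant is impossible. -/
theorem false_of_moved (a : Amb p V E) [Finite G] (ih : IHyp p V (Nat.card E))
    {E₁ E₂ : Subgroup G} (h1 : Good V E E₁) (h2 : Good V E E₂) (hE₁ : E₁ ≠ E) (hE₂ : E₂ ≠ E)
    {e₀ : G} (he₀ : e₀ ∈ E₁)
    (hm₂ : (⁅V, E₂⁆).map (MulAut.conj e₀).toMonoidHom ≠ ⁅V, E₂⁆)
    {x₀ : G} (hx₀ : x₀ ∈ E₂)
    (hm₁ : (⁅V, E₁⁆).map (MulAut.conj x₀).toMonoidHom ≠ ⁅V, E₁⁆) : False := by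
  have hc12 : Nat.card ↥(⁅V, E₂⁆) ≤ Nat.card ↥(⁅V, E₁⁆) :=
    a.card_le_of_moved ih h1 h2 hE₂ he₀ hm₂
  have hc21 : Nat.card ↥(⁅V, E₁⁆) ≤ Nat.card ↥(⁅V, E₂⁆) :=
    a.card_le_of_moved ih h2 h1 hE₁ hx₀ hm₁
  -- (Y6)
  have hY6 : ∃ s ∈ E₁, s ≠ 1 ∧ (⁅V, E₂⁆).map (MulAut.conj s).toMonoidHom = ⁅V, E₂⁆ := by
    by_contra hcon
    have hcon' : ∀ s ∈ E₁, (⁅V, E₂⁆).map (MulAut.conj s).toMonoidHom = ⁅V, E₂⁆ → s = 1 := by
      intro s hs hfix
      by_contra hs1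
      exact hcon ⟨s, hs, hs1, hfix⟩
    obtain ⟨e₁, he₁, e₂, he₂, h11, h21, h12⟩ := exists_two_ne_one h1.card
    refine a.three_conj_false ih h1 h2 hE₂ hc21 he₁ he₂ (fun h => h11 (hcon' e₁ he₁ h))
      (fun h => h21 (hcon' e₂ he₂ h)) ?_
    intro heq
    have h3 : (⁅V, E₂⁆).map (MulAut.conj (e₁⁻¹ * e₂)).toMonoidHom = ⁅V, E₂⁆ := by
      rw [← map_conj_mul, ← heq, map_conj_map_conj_inv]
    have h4 := hcon' _ (E₁.mul_mem (E₁.inv_mem he₁) he₂) h3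
    apply h12
    calc e₁ = e₁ * (e₁⁻¹ * e₂) * e₂⁻¹ * e₂ := by rw [h4]; group
      _ = e₂ := by group
  obtain ⟨s, hs, hs1, hsfix⟩ := hY6
  obtain ⟨f1, f2, f3⟩ := a.moved_facts ih h1 h2 hE₂ hc21 he₀ hm₂
  -- s normalizes the moved conjugate too
  have hsfix' : ((⁅V, E₂⁆).map (MulAut.conj e₀).toMonoidHom).map (MulAut.conj s).toMonoidHom =
      (⁅V, E₂⁆).map (MulAut.conj e₀).toMonoidHom := by
    by_contra hne
    rw [map_conj_mul] at hne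
    refine a.three_conj_false ih h1 h2 hE₂ hc21 he₀ (E₁.mul_mem hs he₀) hm₂ ?_ (Ne.symm hne)
    intro heq
    rw [← map_conj_mul] at heq
    have : ((⁅V, E₂⁆).map (MulAut.conj e₀).toMonoidHom).map (MulAut.conj s).toMonoidHom =
        (⁅V, E₂⁆).map (MulAut.conj s).toMonoidHom := by rw [heq, hsfix]
    exact hm₂ (Subgroup.map_injective (MulAut.conj s).injective this)
  -- s centralizes both
  have hsN : ∀ U : Subgroup G, U.map (MulAut.conj s).toMonoidHom = U → U ≤ V → ⁅V, E₁⁆ ⊓ U = ⊥ →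
      U ≤ Subgroup.centralizer ((Subgroup.zpowers s : Subgroup G) : Set G) := by
    intro U hU hUV hinf
    have hsU : s ∈ Subgroup.normalizer (U : Set G) := Subgroup.mem_normalizer_iff_map_conj_eq.2 hU
    rw [← Cfsg.Agent.Lib.H7.centralizer_singleton_eq_centralizer_zpowers]
    intro u hu
    rw [Subgroup.mem_centralizer_iff]
    intro g hg
    rw [Set.mem_singleton_iff] at hg
    subst hg
    have h3 : ⁅u, g⁆ ∈ ⁅V, E₁⁆ ⊓ U := by
      refine ⟨Subgroup.commutator_mem_commutator (hUV hu) hs, ?_⟩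
      rw [commutatorElement_def]
      have h4 : g * u⁻¹ * g⁻¹ ∈ U := (Subgroup.mem_normalizer_iff.1 hsU u⁻¹).1 (U.inv_mem hu)
      have e' : u * g * u⁻¹ * g⁻¹ = u * (g * u⁻¹ * g⁻¹) := by group
      rw [e']
      exact U.mul_mem hu h4
    rw [hinf, Subgroup.mem_bot, commutatorElement_eq_one_iff_mul_comm] at h3
    exact h3.symm
  have hV₂V : ⁅V, E₂⁆ ≤ V := a.W_le h2.sub.1
  have he₀E : e₀ ∈ E := h1.sub.1 he₀
  have hV₂eV : (⁅V, E₂⁆).map (MulAut.conj e₀).toMonoidHom ≤ V := by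
    rw [← a.W_conj E₂ he₀E]
    exact a.W_le (h2.sub.conj he₀E).1
  have c1 := hsN _ hsfix hV₂V f2
  have c2 := hsN _ hsfix' hV₂eV f3
  have c3 : ⁅V, E₁⁆ ≤ Subgroup.centralizer ((Subgroup.zpowers s : Subgroup G) : Set G) :=
    f1.trans (sup_le c1 c2)
  have c4 : s ∈ E₁ ⊓ Subgroup.centralizer ((⁅V, E₁⁆ : Subgroup G) : Set G) :=
    ⟨hs, (Subgroup.le_centralizer_iff.1 c3) (Subgroup.mem_zpowers s)⟩
  rw [a.faithful_W h1, Subgroup.mem_bot] at c4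
  exact hs1 c4

/-- the conclusion, once both centralize each other's commutator. -/
theorem finish (a : Amb p V E) [Finite G] {E₁ E₂ : Subgroup G} (hgen : E = E₁ ⊔ E₂)
    (h1 : Good V E E₁) (h2 : Good V E E₂) (hinf : ⁅V, E₁⁆ ⊓ ⁅V, E₂⁆ = ⊥)
    (hc1 : E₁ ≤ Subgroup.centralizer ((⁅V, E₂⁆ : Subgroup G) : Set G))
    (hc2 : E₂ ≤ Subgroup.centralizer ((⁅V, E₁⁆ : Subgroup G) : Set G)) :
    ⁅E₁, E₂⁆ = ⊥ ∧ E₁ ⊓ E₂ = ⊥ ∧ ⁅V, E₁⁆ ⊓ ⁅V, E₂⁆ = ⊥ ∧ ⁅V, E⁆ = ⁅V, E₁⁆ ⊔ ⁅V, E₂⁆ := by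
  have hcomm : ⁅E₁, E₂⁆ = ⊥ := by
    have h3 : ⁅⁅E₁, E₂⁆, V⁆ = ⊥ := by
      apply Subgroup.commutator_commutator_eq_bot_of_rotate
      · rw [Subgroup.commutator_comm E₂ V, Subgroup.commutator_eq_bot_iff_le_centralizer,
          Subgroup.le_centralizer_iff]
        exact hc1
      · rw [Subgroup.commutator_eq_bot_iff_le_centralizer, Subgroup.le_centralizer_iff]
        exact hc2
    rw [Subgroup.commutator_eq_bot_iff_le_centralizer] at h3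
    have h4 : ⁅E₁, E₂⁆ ≤ E := by
      rw [hgen]; exact commutator_le_sup E₁ E₂
    rw [eq_bot_iff, ← a.hf]
    exact le_inf h4 h3
  have hE12 : E₁ ≤ Subgroup.centralizer (E₂ : Set G) :=
    (Subgroup.commutator_eq_bot_iff_le_centralizer).1 hcomm
  have hE21 : E₂ ≤ Subgroup.centralizer (E₁ : Set G) := Subgroup.le_centralizer_iff.1 hE12
  refine ⟨hcomm, ?_, hinf, ?_⟩
  · rw [eq_bot_iff, ← a.faithful_W h1]
    exact le_inf inf_le_left (inf_le_right.trans hc2)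
  · apply le_antisymm
    · rw [Subgroup.commutator_le]
      intro v hv g hg
      have hcoe := Subgroup.coe_mul_of_right_le_normalizer_left E₁ E₂
        (hE21.trans (Subgroup.centralizer_le_normalizer _))
      have hg' : g ∈ ((E₁ ⊔ E₂ : Subgroup G) : Set G) := by rw [← hgen]; exact hg
      rw [hcoe] at hg'
      obtain ⟨e₁, he₁, e₂, he₂, rfl⟩ := hg'
      beta_reduce
      have h3 : ⁅v, e₁⁆ ∈ ⁅V, E₁⁆ := Subgroup.commutator_mem_commutator hv he₁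
      have h4 : ⁅v, e₂⁆ ∈ ⁅V, E₂⁆ := Subgroup.commutator_mem_commutator hv he₂
      have e' : ⁅v, e₁ * e₂⁆ = ⁅v, e₁⁆ * (e₁ * ⁅v, e₂⁆ * e₁⁻¹) := by
        simp only [commutatorElement_def]; group
      have e'' : e₁ * ⁅v, e₂⁆ * e₁⁻¹ = ⁅v, e₂⁆ := by
        have := Subgroup.mem_centralizer_iff.1 (hc1 he₁) _ h4
        rw [← this]; group
      rw [e', e'']
      exact Subgroup.mul_mem _ (Subgroup.mem_sup_left h3) (Subgroup.mem_sup_right h4)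
    · rw [hgen]
      exact sup_le (Subgroup.commutator_mono le_rfl le_sup_left)
        (Subgroup.commutator_mono le_rfl le_sup_right)

end Amb

/-- **KS 9.3.5 (S0615)**. -/
theorem subnormal_pair [Finite G] (p : ℕ) [Fact p.Prime] (V : Subgroup G) :
    ∀ (n : ℕ) (E E₁ E₂ : Subgroup G), Nat.card E = n → Amb p V E → E = E₁ ⊔ E₂ →
      Good V E E₁ → Good V E E₂ → ¬ ⁅V, E₁⁆ ≤ ⁅V, E₂⁆ → ¬ ⁅V, E₂⁆ ≤ ⁅V, E₁⁆ →
      ⁅E₁, E₂⁆ = ⊥ ∧ E₁ ⊓ E₂ = ⊥ ∧ ⁅V, E₁⁆ ⊓ ⁅V, E₂⁆ = ⊥ ∧ ⁅V, E⁆ = ⁅V, E₁⁆ ⊔ ⁅V, E₂⁆ := by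
  intro n
  induction n using Nat.strong_induction_on with
  | _ n IH =>
    intro E E₁ E₂ hn a hgen h1 h2 h12 h21
    have ih : IHyp p V (Nat.card E) := by
      intro E' X Y hlt a' hgen' gX gY i1 i2
      rw [hn] at hlt
      obtain ⟨r1, -, r3, -⟩ := IH (Nat.card E') hlt E' X Y rfl a' hgen' gX gY i1 i2
      exact ⟨r1, r3⟩
    have hE₁ : E₁ ≠ E := by
      intro h
      apply h21
      rw [h]
      exact Subgroup.commutator_mono le_rfl h2.sub.1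
    have hE₂ : E₂ ≠ E := by
      intro h
      apply h12
      rw [h]
      exact Subgroup.commutator_mono le_rfl h1.sub.1
    have hN1 := a.le_normalizer_W h1.sub.1
    have hN2 := a.le_normalizer_W h2.sub.1
    -- consequences of invariance
    have caseA : E₁ ≤ Subgroup.normalizer ((⁅V, E₂⁆ : Subgroup G) : Set G) →
        ⁅V, E₁⁆ ⊓ ⁅V, E₂⁆ = ⊥ ∧ E₁ ≤ Subgroup.centralizer ((⁅V, E₂⁆ : Subgroup G) : Set G) := by
      intro c1
      have hinf : ⁅V, E₁⁆ ⊓ ⁅V, E₂⁆ = ⊥ := by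
        rcases h1.irr _ inf_le_left (le_normalizer_inf hN1 c1) with h3 | h3
        · exact h3
        · exact absurd (inf_eq_left.1 h3) h12
      refine ⟨hinf, ?_⟩
      rw [Subgroup.le_centralizer_iff, ← Subgroup.commutator_eq_bot_iff_le_centralizer, eq_bot_iff,
        ← hinf]
      exact le_inf (Subgroup.commutator_mono (a.W_le h2.sub.1) le_rfl)
        ((Subgroup.le_normalizer_iff_commutator_le_left).mp c1)
    have caseB : E₂ ≤ Subgroup.normalizer ((⁅V, E₁⁆ : Subgroup G) : Set G) →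
        ⁅V, E₁⁆ ⊓ ⁅V, E₂⁆ = ⊥ ∧ E₂ ≤ Subgroup.centralizer ((⁅V, E₁⁆ : Subgroup G) : Set G) := by
      intro c2
      have hinf : ⁅V, E₁⁆ ⊓ ⁅V, E₂⁆ = ⊥ := by
        rcases h2.irr _ inf_le_right (le_normalizer_inf c2 hN2) with h3 | h3
        · exact h3
        · exact absurd (inf_eq_right.1 h3) h21
      refine ⟨hinf, ?_⟩
      rw [Subgroup.le_centralizer_iff, ← Subgroup.commutator_eq_bot_iff_le_centralizer, eq_bot_iff,
        ← hinf]
      exact le_inf ((Subgroup.le_normalizer_iff_commutator_le_left).mp c2)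
        (Subgroup.commutator_mono (a.W_le h1.sub.1) le_rfl)
    by_cases c1 : E₁ ≤ Subgroup.normalizer ((⁅V, E₂⁆ : Subgroup G) : Set G)
    · obtain ⟨hinf, hc1⟩ := caseA c1
      have c2 := a.invariant_of_centralizes ih h1 h2 hE₁ hc1
      obtain ⟨-, hc2⟩ := caseB c2
      exact a.finish hgen h1 h2 hinf hc1 hc2
    · by_cases c2 : E₂ ≤ Subgroup.normalizer ((⁅V, E₁⁆ : Subgroup G) : Set G)
      · obtain ⟨hinf, hc2⟩ := caseB c2
        have c1' := a.invariant_of_centralizes ih h2 h1 hE₂ hc2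
        exact absurd c1' c1
      · exfalso
        obtain ⟨e₀, he₀, he₀'⟩ := SetLike.not_le_iff_exists.1 c1
        obtain ⟨x₀, hx₀, hx₀'⟩ := SetLike.not_le_iff_exists.1 c2
        refine a.false_of_moved ih h1 h2 hE₁ hE₂ he₀ ?_ hx₀ ?_
        · intro h
          exact he₀' (Subgroup.mem_normalizer_iff_map_conj_eq.2 h)
        · intro h
          exact hx₀' (Subgroup.mem_normalizer_iff_map_conj_eq.2 h)

end Cfsg.Agent.Lib.H3
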