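import Mathlib
import Cfsg.Agent.Lib.H8.SUN6
import Cfsg.Agent.Lib.H3.J3TransportU

set_option autoImplicit false

/-!
# `SU_5(2)`: data for the local statement `Local5` (helper3, for helper8's S2282)

Part a: the concrete field `F4`, naturality of the constructions of `Lib/H8/SUN1-2` under a ring
homomorphism `F4 →+* F`, and the generic rules for the set of points `p` whose transvection
`tJn σ p 1` lies in a subgroup `K`.
-/

namespace Cfsg.Agent.Lib.H3.Sun5q2

open Matrix Cfsg.Agent.Lib.H8.SUN Cfsg.Agent.Lib.H3.F4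

abbrev V4 : Type := Fin 5 → F4
abbrev M4 : Type := Matrix (Fin 5) (Fin 5) F4

/-- the Frobenius map of the concrete field with four elements -/
def sq4 : F4 →+* F4 where
  toFun x := x * x
  map_one' := rfl
  map_mul' := by intro a b; cases a <;> cases b <;> rfl
  map_zero' := rfl
  map_add' := by intro a b; cases a <;> cases b <;> rfl

theorem sq4_apply (x : F4) : sq4 x = x * x := rfl

theorem sq4_sq4 (x : F4) : sq4 (sq4 x) = x := by cases x <;> rfl

theorem cube_eq_one {c : F4} (hc : c ≠ 0) : c * sq4 c = 1 := by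
  cases c
  · exact absurd rfl hc
  · rfl
  · rfl
  · rfl

section Nat

variable {F : Type*} [Field F] (e : F4 →+* F) (σ : F →+* F) (hσe : ∀ a, σ (e a) = e (sq4 a))

include hσe

theorem map_th (u w : V4) : (th sq4 u w).map e = th σ (e ∘ u) (e ∘ w) := by
  ext i j
  simp only [Matrix.map_apply, th_apply, Function.comp_apply, map_mul, hσe]

theorem map_dagn (M : M4) : (dagn sq4 M).map e = dagn σ (M.map e) := by
  ext i j
  simp only [Matrix.map_apply, dagn_apply, hσe]

theorem map_hJn (u v : V4) : e (hJn sq4 u v) = hJn σ (e ∘ u) (e ∘ v) := by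
  unfold hJn
  rw [map_sum]
  apply Finset.sum_congr rfl
  intro i _
  simp only [Function.comp_apply, map_mul, hσe]

theorem map_tJn (v : V4) (c : F4) : (tJn sq4 v c).map e = tJn σ (e ∘ v) (e c) := by
  ext i j
  have h := congrFun (congrFun (map_th e σ hσe v v) i) j
  simp only [Matrix.map_apply] at h
  simp only [tJn, Matrix.map_apply, Matrix.add_apply, Matrix.smul_apply, smul_eq_mul, map_add,
    map_mul, h, Matrix.one_apply]
  split_ifs <;> simp

omit hσe in
theorem map_mulVec4 (M : M4) (v : V4) : (M.map e) *ᵥ (e ∘ v) = e ∘ (M *ᵥ v) := by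
  funext i
  exact RingHom.map_mulVec e M v i |>.symm

omit hσe in
theorem map_mul4 (M N : M4) : (M * N).map e = M.map e * N.map e := Matrix.map_mul

omit hσe in
theorem map_one4 : (1 : M4).map e = 1 := by
  ext i j
  simp only [Matrix.map_apply, Matrix.one_apply]
  split_ifs <;> simp

omit hσe in
theorem map_smul4 (c : F4) (v : V4) : e ∘ (c • v) = e c • (e ∘ v) := by
  funext i
  simp

omit hσe in
theorem map_add4 (u v : V4) : e ∘ (u + v) = e ∘ u + e ∘ v := by
  funext i
  simp

end Nat

/-! ### the rules -/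

section Rules

variable {F : Type*} [Field F] {σ : F →+* F} (hs : ∀ x, σ (σ x) = x)

/-- the transvection with centre `p` lies in `K` -/
def S (K : Subgroup (SUJn σ 5)) (p : Fin 5 → F) : Prop := ∃ g ∈ K, matn g = tJn σ p 1

include hs

theorem S_conj {K : Subgroup (SUJn σ 5)} {k : SUJn σ 5} (hk : k ∈ K) {p : Fin 5 → F}
    (h : S K p) : S K (matn k *ᵥ p) := by
  obtain ⟨g, hg, hgm⟩ := h
  refine ⟨k * g * k⁻¹, K.mul_mem (K.mul_mem hk hg) (K.inv_mem hk), ?_⟩
  rw [matn_mul, matn_mul, matn_inv, hgm, conj_tJn σ hs (matn_mul_dagn k)]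

theorem S_conj_inv {K : Subgroup (SUJn σ 5)} {k : SUJn σ 5} (hk : k ∈ K) {p : Fin 5 → F}
    (h : S K p) : S K (dagn σ (matn k) *ᵥ p) := by
  have := S_conj hs (K.inv_mem hk) h
  rwa [matn_inv] at this

theorem S_tv {K : Subgroup (SUJn σ 5)} {p q : Fin 5 → F} (hp : S K p) (hq : S K q) :
    S K (q + hJn σ q p • p) := by
  obtain ⟨g, hg, hgm⟩ := hp
  have := S_conj hs hg hq
  rwa [hgm, tJn_mulVec, one_mul] at this

omit hs in
theorem S_smul {K : Subgroup (SUJn σ 5)} {c : F} (hc : c * σ c = 1) {p : Fin 5 → F} :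
    S K (c • p) ↔ S K p := by
  unfold S
  rw [tJn_smul, hc, mul_one]

end Rules

end Cfsg.Agent.Lib.H3.Sun5q2
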