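import Mathlib
import Cfsg.Agent.Lib.H3.Sun5q2a

set_option autoImplicit false

/-!
# `SU_5(2)`: the explicit data and its verification over the concrete field `F4` (helper3)
-/

namespace Cfsg.Agent.Lib.H3.Sun5q2

open Matrix Cfsg.Agent.Lib.H8.SUN Cfsg.Agent.Lib.H3.F4

local notation "ω" => F4.w
local notation "ϖ" => F4.w2

/-- the regular unipotent element -/
def X4 : M4 := !![1, ϖ, 1, ω, 1; 0, 1, ϖ, ϖ, 1; 0, 0, 1, ω, ω; 0, 0, 0, 1, ω; 0, 0, 0, 0, 1]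
/-- the first conjugating element -/
def G4 : M4 := !![1, 0, 0, 1, 0; 0, 1, 0, 0, 1; 0, 0, 1, 0, 0; 0, 0, 0, 1, 0; 0, 0, 0, 0, 1]
/-- the second conjugating element -/
def H4 : M4 := !![ϖ, 0, 0, 0, ϖ; 0, 0, 0, ω, 0; 0, 0, 1, 0, 0; 0, ω, 0, ω, 0; ϖ, 0, 0, 0, 0]
/-- the second commutator -/
def K4 : M4 := !![1, 1, ϖ, ω, 1; ϖ, 0, ω, ω, ω; 1, ϖ, 0, 0, ϖ; 1, ϖ, ω, ϖ, ϖ; 1, ϖ, ω, 1, 0]

def hv1 : V4 := ![1, ϖ, 0, 1, ω]
def hv2 : V4 := ![1, 1, 0, ω, ω]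

def pt : ℕ → V4
  | 0 => ![1, 0, 0, 0, 0]
  | 1 => ![0, 1, ϖ, ω, 1]
  | 2 => ![1, ϖ, 1, 1, 1]
  | 3 => ![1, 0, 0, ϖ, 0]
  | 4 => ![1, 1, ϖ, ω, 1]
  | 5 => ![1, ϖ, 0, ϖ, 0]
  | 6 => ![0, 1, 0, 0, 0]
  | 7 => ![0, 1, 1, ω, 0]
  | 8 => ![1, ω, ϖ, 1, 0]
  | 9 => ![1, ϖ, 1, ω, 0]
  | 10 => ![0, 1, ω, ϖ, 0]
  | 11 => ![1, 0, ω, ω, ω]
  | 12 => ![1, 1, 0, 0, 0]
  | 13 => ![1, ω, 0, 0, 0]
  | 14 => ![1, 0, 0, 1, 0]
  | 15 => ![1, 0, 0, ω, 0]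
  | _ => 0

/-- the base points of the three lines -/
def b4 : Fin 3 → V4 := ![![0, 0, 0, 1, 0], ![0, 1, ω, ϖ, 0], ![0, 1, 0, 0, 0]]
/-- the three parameters on each line -/
def s4 : Fin 3 → Fin 3 → F4 := ![![ω, ϖ, 1], ![ω, ϖ, 0], ![0, ϖ, 1]]

theorem X4_unit : dagn sq4 X4 * X4 = 1 := by decide +kernel
theorem G4_unit : dagn sq4 G4 * G4 = 1 := by decide +kernel
theorem H4_unit : dagn sq4 H4 * H4 = 1 := by decide +kernel
theorem X4_lower : ∀ i j : Fin 5, j < i → X4 i j = 0 := by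
  intro i j; fin_cases i <;> fin_cases j <;> decide
theorem X4_diag : ∀ i : Fin 5, X4 i i = 1 := by decide +kernel
theorem X4_super : ∀ i j : Fin 5, (j : ℕ) = (i : ℕ) + 1 → X4 i j ≠ 0 := by
  intro i j; fin_cases i <;> fin_cases j <;> decide
theorem G4_lower : ∀ i j : Fin 5, j < i → G4 i j = 0 := by
  intro i j; fin_cases i <;> fin_cases j <;> decide
theorem G4_diag : ∀ i : Fin 5, G4 i i = 1 := by decide +kernel
theorem G4_col : ∀ i : Fin 5, G4 i 2 = if i = 2 then 1 else 0 := by decide +kernel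
theorem G4_row : ∀ j : Fin 5, G4 2 j = if j = 2 then 1 else 0 := by decide +kernel
theorem H4_col : ∀ i : Fin 5, H4 i 2 = if i = 2 then 1 else 0 := by decide +kernel
theorem H4_row : ∀ j : Fin 5, H4 2 j = if j = 2 then 1 else 0 := by decide +kernel
theorem hv1_iso : hJn sq4 hv1 hv1 = 0 := by decide +kernel
theorem hv2_iso : hJn sq4 hv2 hv2 = 0 := by decide +kernel
theorem H4_eq : H4 = tJn sq4 hv1 1 * tJn sq4 hv2 1 := by decide +kernel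
theorem comm1 : X4 * dagn sq4 (G4 * X4 * dagn sq4 G4) = tJn sq4 (pt 0) 1 := by decide +kernel
theorem comm2 : X4 * dagn sq4 (H4 * X4 * dagn sq4 H4) = K4 := by decide +kernel
theorem K4_entry : K4 4 0 = 1 := by decide +kernel
theorem pt0_eq : pt 0 = Pi.single 0 1 := by decide +kernel

theorem step1 : dagn sq4 K4 *ᵥ pt 0 = (1 : F4) • pt 1 := by decide +kernel
theorem step2 : K4 *ᵥ pt 0 = (1 : F4) • pt 2 := by decide +kernel
theorem step3 : dagn sq4 K4 *ᵥ pt 1 = (ϖ : F4) • pt 3 := by decide +kernel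
theorem step4 : pt 1 + hJn sq4 (pt 1) (pt 0) • pt 0 = (1 : F4) • pt 4 := by decide +kernel
theorem step5 : K4 *ᵥ pt 2 = (ω : F4) • pt 5 := by decide +kernel
theorem step6 : pt 3 + hJn sq4 (pt 3) (pt 5) • pt 5 = (ϖ : F4) • pt 6 := by decide +kernel
theorem step7 : pt 4 + hJn sq4 (pt 4) (pt 2) • pt 2 = (ω : F4) • pt 7 := by decide +kernel
theorem step8 : dagn sq4 K4 *ᵥ pt 3 = (ω : F4) • pt 8 := by decide +kernel
theorem step9 : K4 *ᵥ pt 5 = (ϖ : F4) • pt 9 := by decide +kernel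
theorem step10 : pt 6 + hJn sq4 (pt 6) (pt 7) • pt 7 = (ω : F4) • pt 10 := by decide +kernel
theorem step11 : pt 9 + hJn sq4 (pt 9) (pt 4) • pt 4 = (ω : F4) • pt 11 := by decide +kernel
theorem step12 : pt 7 + hJn sq4 (pt 7) (pt 8) • pt 8 = (ω : F4) • pt 12 := by decide +kernel
theorem step13 : pt 7 + hJn sq4 (pt 7) (pt 9) • pt 9 = (1 : F4) • pt 13 := by decide +kernel
theorem step14 : pt 13 + hJn sq4 (pt 13) (pt 5) • pt 5 = (ω : F4) • pt 14 := by decide +kernel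
theorem step15 : K4 *ᵥ pt 11 = (1 : F4) • pt 15 := by decide +kernel
theorem line00 : pt 3 = (ϖ : F4) • (b4 0 + s4 0 0 • pt 0) := by decide +kernel
theorem line01 : pt 15 = (ω : F4) • (b4 0 + s4 0 1 • pt 0) := by decide +kernel
theorem line02 : pt 14 = (1 : F4) • (b4 0 + s4 0 2 • pt 0) := by decide +kernel
theorem line10 : pt 9 = (ϖ : F4) • (b4 1 + s4 1 0 • pt 0) := by decide +kernel
theorem line11 : pt 8 = (ω : F4) • (b4 1 + s4 1 1 • pt 0) := by decide +kernel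
theorem line12 : pt 10 = (1 : F4) • (b4 1 + s4 1 2 • pt 0) := by decide +kernel
theorem line20 : pt 6 = (1 : F4) • (b4 2 + s4 2 0 • pt 0) := by decide +kernel
theorem line21 : pt 13 = (ω : F4) • (b4 2 + s4 2 1 • pt 0) := by decide +kernel
theorem line22 : pt 12 = (1 : F4) • (b4 2 + s4 2 2 • pt 0) := by decide +kernel

theorem b4_zero : ∀ j : Fin 3, b4 j 0 = 0 := by decide +kernel
theorem b4_four : ∀ j : Fin 3, b4 j 4 = 0 := by decide +kernel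
theorem b4_iso : ∀ j : Fin 3, hJn sq4 (b4 j) (b4 j) = 0 := by decide +kernel
theorem s4_inj : ∀ j : Fin 3, Function.Injective (s4 j) := by decide +kernel
theorem b4_span : ∀ v : V4, v 0 = 0 → v 4 = 0 →
    v = (v 3 + v 2 * ω) • b4 0 + (v 2 * ϖ) • b4 1 + (v 1 + v 2 * ϖ) • b4 2 := by decide +kernel

end Cfsg.Agent.Lib.H3.Sun5q2
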