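import Mathlib
import Cfsg.Agent.Lib.H3.Sun5q2b

set_option autoImplicit false

/-!
# `SU_5(2)`: the local statement `Local5`, modulo the "three lines" lemma (helper3)

`local5_q2_of`: for a field `F` with four elements and `σ x = x ^ 2`, the statement
`Cfsg.Agent.Lib.H8.SUN.Local5 σ` follows from the "three lines" lemma (PART 6b of helper8's
REQUEST-6), which is taken here as a hypothesis.
-/

namespace Cfsg.Agent.Lib.H3.Sun5q2

open Matrix Cfsg.Agent.Lib.H8.SUN Cfsg.Agent.Lib.H3.F4

local notation "ω" => F4.w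
local notation "ϖ" => F4.w2

section Steps

variable {F : Type*} [Field F] (e : F4 →+* F) (σ : F →+* F) (hσe : ∀ a, σ (e a) = e (sq4 a))
  (hs : ∀ x, σ (σ x) = x)

include hσe

theorem unit_scal {c : F4} (hc : c ≠ 0) : e c * σ (e c) = 1 := by
  rw [hσe, ← map_mul, cube_eq_one hc, map_one]

include hs

theorem step_k {K : Subgroup (SUJn σ 5)} {k : SUJn σ 5} (hk : k ∈ K) (hkm : matn k = K4.map e)
    {p t : V4} {c : F4} (h : S K (e ∘ p)) (heq : K4 *ᵥ p = c • t) (hc : c ≠ 0) :
    S K (e ∘ t) := by
  have h1 := S_conj hs hk h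
  rw [hkm, map_mulVec4, heq, map_smul4] at h1
  exact (S_smul (unit_scal e σ hσe hc)).mp h1

theorem step_ki {K : Subgroup (SUJn σ 5)} {k : SUJn σ 5} (hk : k ∈ K) (hkm : matn k = K4.map e)
    {p t : V4} {c : F4} (h : S K (e ∘ p)) (heq : dagn sq4 K4 *ᵥ p = c • t) (hc : c ≠ 0) :
    S K (e ∘ t) := by
  have h1 := S_conj_inv hs hk h
  rw [hkm, ← map_dagn e σ hσe, map_mulVec4, heq, map_smul4] at h1
  exact (S_smul (unit_scal e σ hσe hc)).mp h1

theorem step_tv {K : Subgroup (SUJn σ 5)} {p q t : V4} {c : F4} (hp : S K (e ∘ p))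
    (hq : S K (e ∘ q)) (heq : q + hJn sq4 q p • p = c • t) (hc : c ≠ 0) : S K (e ∘ t) := by
  have h1 := S_tv hs hp hq
  rw [← map_hJn e σ hσe, ← map_smul4, ← map_add4, heq, map_smul4] at h1
  exact (S_smul (unit_scal e σ hσe hc)).mp h1

omit hs in
theorem step_line {K : Subgroup (SUJn σ 5)} {p bb : V4} {c s : F4} (hp : S K (e ∘ p))
    (heq : p = c • (bb + s • pt 0)) (hc : c ≠ 0) :
    S K (e ∘ bb + e s • Pi.single 0 1) := by
  rw [heq, map_smul4, map_add4, map_smul4, pt0_eq] at hp
  have h1 := (S_smul (unit_scal e σ hσe hc)).mp hp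
  have h2 : e ∘ (Pi.single 0 1 : V4) = Pi.single 0 1 := by
    funext i
    fin_cases i <;> simp
  rwa [h2] at h1

/-- the chain of the certificate -/
theorem chain {K : Subgroup (SUJn σ 5)} {k : SUJn σ 5} (hk : k ∈ K) (hkm : matn k = K4.map e)
    (h0 : S K (e ∘ pt 0)) (j i : Fin 3) :
    S K ((fun j => e ∘ b4 j) j + (fun j i => e (s4 j i)) j i • Pi.single 0 1) := by
  have h1 := step_ki e σ hσe hs hk hkm h0 step1 (by decide)
  have h2 := step_k e σ hσe hs hk hkm h0 step2 (by decide)
  have h3 := step_ki e σ hσe hs hk hkm h1 step3 (by decide)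
  have h4 := step_tv e σ hσe hs h0 h1 step4 (by decide)
  have h5 := step_k e σ hσe hs hk hkm h2 step5 (by decide)
  have h6 := step_tv e σ hσe hs h5 h3 step6 (by decide)
  have h7 := step_tv e σ hσe hs h2 h4 step7 (by decide)
  have h8 := step_ki e σ hσe hs hk hkm h3 step8 (by decide)
  have h9 := step_k e σ hσe hs hk hkm h5 step9 (by decide)
  have h10 := step_tv e σ hσe hs h7 h6 step10 (by decide)
  have h11 := step_tv e σ hσe hs h4 h9 step11 (by decide)
  have h12 := step_tv e σ hσe hs h8 h7 step12 (by decide)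
  have h13 := step_tv e σ hσe hs h9 h7 step13 (by decide)
  have h14 := step_tv e σ hσe hs h5 h13 step14 (by decide)
  have h15 := step_k e σ hσe hs hk hkm h11 step15 (by decide)
  fin_cases j <;> fin_cases i
  · exact step_line e σ hσe h3 line00 (by decide)
  · exact step_line e σ hσe h15 line01 (by decide)
  · exact step_line e σ hσe h14 line02 (by decide)
  · exact step_line e σ hσe h9 line10 (by decide)
  · exact step_line e σ hσe h8 line11 (by decide)
  · exact step_line e σ hσe h10 line12 (by decide)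
  · exact step_line e σ hσe h6 line20 (by decide)
  · exact step_line e σ hσe h13 line21 (by decide)
  · exact step_line e σ hσe h12 line22 (by decide)

end Steps

/-! ### the field with four elements -/

theorem exists_omega (F : Type*) [Field F] [Fintype F] (hF : Fintype.card F = 4) :
    ∃ x : F, x ^ 2 + x + 1 = 0 := by
  classical
  have h1 : ∃ x : F, x ≠ 0 ∧ x ≠ 1 := by
    by_contra hcon
    have hall : ∀ x : F, x = 0 ∨ x = 1 := by
      intro x
      by_contra hx
      exact hcon ⟨x, fun h => hx (Or.inl h), fun h => hx (Or.inr h)⟩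
    have hsub : (Finset.univ : Finset F) ⊆ {0, 1} := by
      intro x _
      rcases hall x with h | h <;> simp [h]
    have h2 := Finset.card_le_card hsub
    rw [Finset.card_univ, hF] at h2
    have h3 : ({0, 1} : Finset F).card ≤ 2 := Finset.card_le_two
    omega
  obtain ⟨x, hx0, hx1⟩ := h1
  refine ⟨x, ?_⟩
  have h3 : x ^ 3 = 1 := by
    have := FiniteField.pow_card_sub_one_eq_one x hx0
    rwa [hF] at this
  have h4 : (x - 1) * (x ^ 2 + x + 1) = 0 := by linear_combination h3
  exact (mul_eq_zero.mp h4).resolve_left (sub_ne_zero.mpr hx1)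

/-! ### determinants over the concrete field -/

theorem X4_det : X4.det = 1 := by
  rw [Matrix.det_of_upperTriangular (fun i j h => X4_lower i j h)]
  simp only [X4_diag, Finset.prod_const_one]

theorem G4_det : G4.det = 1 := by
  rw [Matrix.det_of_upperTriangular (fun i j h => G4_lower i j h)]
  simp only [G4_diag, Finset.prod_const_one]

theorem H4_det : H4.det = 1 := by
  rw [H4_eq, Matrix.det_mul, det_tJn sq4 hv1_iso, det_tJn sq4 hv2_iso, one_mul]

section Main

variable {F : Type*} [Field F] (e : F4 →+* F) (σ : F →+* F) (hσe : ∀ a, σ (e a) = e (sq4 a))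

omit hσe in
theorem map_det4 (M : M4) (h : M.det = 1) : (M.map e).det = 1 := by
  have := RingHom.map_det e M
  rw [h, map_one] at this
  rw [RingHom.mapMatrix_apply] at this
  exact this.symm

include hσe

theorem map_unit4 (M : M4) (h : dagn sq4 M * M = 1) : dagn σ (M.map e) * M.map e = 1 := by
  rw [← map_dagn e σ hσe, ← map_mul4, h, map_one4]

/-- the element of `SUJn σ 5` with matrix `M.map e` -/
noncomputable def el (M : M4) (hd : M.det = 1) (hu : dagn sq4 M * M = 1) : SUJn σ 5 :=
  mkJn σ (M.map e) (map_det4 e M hd) (map_unit4 e σ hσe M hu)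

theorem matn_el (M : M4) (hd : M.det = 1) (hu : dagn sq4 M * M = 1) :
    matn (el e σ hσe M hd hu) = M.map e := rfl

theorem matn_comm (M N : M4) (hd : M.det = 1) (hu : dagn sq4 M * M = 1) (hd' : N.det = 1)
    (hu' : dagn sq4 N * N = 1) :
    matn (el e σ hσe M hd hu * (el e σ hσe N hd' hu' * el e σ hσe M hd hu *
      (el e σ hσe N hd' hu')⁻¹)⁻¹) = (M * dagn sq4 (N * M * dagn sq4 N)).map e := by
  rw [matn_mul, matn_inv, matn_mul, matn_mul, matn_inv, matn_el, matn_el, map_mul4,
    map_dagn e σ hσe, map_mul4, map_mul4, map_dagn e σ hσe]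

end Main

end Cfsg.Agent.Lib.H3.Sun5q2
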