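import Mathlib
import Cfsg.Agent.Lib.H3.Sun5q2c

set_option autoImplicit false

/-!
# `SU_5(2)`: `Local5 σ` from the "three lines" lemma (helper3, for helper8's S2282)
-/

namespace Cfsg.Agent.Lib.H3.Sun5q2

open Matrix Cfsg.Agent.Lib.H8.SUN Cfsg.Agent.Lib.H3.F4

local notation "ω" => F4.w
local notation "ϖ" => F4.w2

/-- the shape of the "three lines" lemma (PART 6b of helper8's REQUEST-6) -/
def ThreeLines {F : Type*} [Field F] (σ : F →+* F) : Prop :=
  ∀ (K : Subgroup (SUJn σ 5)) (b : Fin 3 → Fin 5 → F) (s : Fin 3 → Fin 3 → F),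
    (∀ j, b j 0 = 0) → (∀ j, b j 4 = 0) → (∀ j, hJn σ (b j) (b j) = 0) →
    (∀ v : Fin 5 → F, v 0 = 0 → v 4 = 0 →
      ∃ c : Fin 3 → F, v = Finset.univ.sum fun j => c j • b j) →
    (∀ j, Function.Injective (s j)) →
    (∃ g, g ∈ K ∧ matn g = tJn σ (Pi.single 0 1) 1) →
    (∀ j i, ∃ g, g ∈ K ∧ matn g = tJn σ (b j + s j i • Pi.single 0 1) 1) →
    ∀ z : SUJn σ 5, z ∈ K → matn z 4 0 ≠ 0 → K = ⊤

theorem local5_q2_of {F : Type*} [Field F] [Fintype F] (hF : Fintype.card F = 2 ^ 2)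
    (σ : F →+* F) (hsq : ∀ x, σ x = x ^ 2) (hs : ∀ x, σ (σ x) = x) (h6b : ThreeLines σ) :
    Local5 σ := by
  have hF4 : Fintype.card F = 4 := by rw [hF]; norm_num
  obtain ⟨w, hw⟩ := exists_omega F hF4
  let E : F4 ≃+* F := Cfsg.Agent.Lib.H3.J3TU.toFEquiv F hF4 w hw
  let e : F4 →+* F := E.toRingHom
  have hσe : ∀ a, σ (e a) = e (sq4 a) := by
    intro a
    rw [hsq, sq4_apply, map_mul, sq]
  refine ⟨el e σ hσe X4 X4_det X4_unit, el e σ hσe G4 G4_det G4_unit,
    el e σ hσe H4 H4_det H4_unit, ?_, ?_, ?_, ?_, ?_, ?_, ?_, ?_⟩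
  · intro i j hij
    rw [matn_el, Matrix.map_apply, X4_lower i j hij, map_zero]
  · intro i
    rw [matn_el, Matrix.map_apply, X4_diag, map_one]
  · intro i j hij
    rw [matn_el, Matrix.map_apply]
    exact (map_ne_zero e).mpr (X4_super i j hij)
  · intro i
    rw [matn_el, Matrix.map_apply, G4_col]
    split_ifs <;> simp
  · intro j
    rw [matn_el, Matrix.map_apply, G4_row]
    split_ifs <;> simp
  · intro i
    rw [matn_el, Matrix.map_apply, H4_col]
    split_ifs <;> simp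
  · intro j
    rw [matn_el, Matrix.map_apply, H4_row]
    split_ifs <;> simp
  · intro K hK1 hK2
    have h0 : S K (e ∘ pt 0) := by
      refine ⟨_, hK1, ?_⟩
      rw [matn_comm, comm1, map_tJn e σ hσe, map_one]
    have hkm := matn_comm e σ hσe X4 H4 X4_det X4_unit H4_det H4_unit
    rw [comm2] at hkm
    refine h6b K (fun j => e ∘ b4 j) (fun j i => e (s4 j i)) ?_ ?_ ?_ ?_ ?_ ?_ ?_ _ hK2 ?_
    · intro j
      show e (b4 j 0) = 0
      rw [b4_zero, map_zero]
    · intro j
      show e (b4 j 4) = 0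
      rw [b4_four, map_zero]
    · intro j
      show hJn σ (e ∘ b4 j) (e ∘ b4 j) = 0
      rw [← map_hJn e σ hσe, b4_iso, map_zero]
    · intro v hv0 hv4
      let v' : V4 := fun i => E.symm (v i)
      have hv : v = e ∘ v' := by
        funext i
        show v i = E (E.symm (v i))
        rw [RingEquiv.apply_symm_apply]
      have h0' : v' 0 = 0 := by
        show E.symm (v 0) = 0
        rw [hv0, map_zero]
      have h4' : v' 4 = 0 := by
        show E.symm (v 4) = 0
        rw [hv4, map_zero]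
      have hsp := b4_span v' h0' h4'
      refine ⟨![e (v' 3 + v' 2 * ω), e (v' 2 * ϖ), e (v' 1 + v' 2 * ϖ)], ?_⟩
      rw [Fin.sum_univ_three, hv]
      conv_lhs => rw [hsp]
      rw [map_add4, map_add4, map_smul4, map_smul4, map_smul4]
      rfl
    · intro j a b hab
      exact s4_inj j (e.injective hab)
    · obtain ⟨g, hg, hgm⟩ := h0
      refine ⟨g, hg, ?_⟩
      rw [hgm, pt0_eq]
      congr 1
      funext i
      fin_cases i <;> simp
    · intro j i
      exact chain e σ hσe hs hK2 hkm h0 j i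
    · rw [hkm, Matrix.map_apply, K4_entry, map_one]
      exact one_ne_zero

end Cfsg.Agent.Lib.H3.Sun5q2
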