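import Mathlib
import Cfsg.Agent.Lib.H3.Sun5q2d
import Cfsg.Agent.Lib.H9.Sun5L

set_option autoImplicit false

/-!
# `SU_5(2)`: the local statement `Local5 σ` for the field with four elements

(helper3, PART 6a of helper8's REQUEST-6 for S2282; PART 6b is helper9's
`Cfsg.Agent.Lib.H9.Sun5L.top_of_three_lines`.)
-/

namespace Cfsg.Agent.Lib.H3.Sun5q2

open Cfsg.Agent.Lib.H8.SUN

theorem local5_q2 {F : Type*} [Field F] [Fintype F] (hF : Fintype.card F = 2 ^ 2)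
    (σ : F →+* F) (hsq : ∀ x, σ x = x ^ 2) (hs : ∀ x, σ (σ x) = x) : Local5 σ :=
  local5_q2_of hF σ hsq hs
    (fun K b s hb0 hb4 hbb hspan hsinj ht0 ht z hzK hz =>
      Cfsg.Agent.Lib.H9.Sun5L.top_of_three_lines hF σ hsq hs K b s hb0 hb4 hbb hspan hsinj ht0 ht
        z hzK hz)

end Cfsg.Agent.Lib.H3.Sun5q2
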