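import Mathlib
import Cfsg.Agent.Lib.H3.T27CHAR4
import Cfsg.Agent.Lib.H14.T27IND2
import Cfsg.Agent.Lib.L0.CharInner

/-!
# S3701 (helper7 blueprint), piece VAL: the three linear forms `Lf u0`, `Lf v0`, `Lf w0`
-/

set_option autoImplicit false

namespace Cfsg.Agent.Lib.H3.T27

open Cfsg Cfsg.Agent.Lib.H7.K4 Cfsg.Agent.Lib.H3.H108 Cfsg.Agent.Lib.H7.T27
open scoped ComplexConjugate

variable {G : Type*} [Group G] [Fintype G]

/-- an integer combination of the five `⟨I(a), F⟩` as a weighted sum over `T` -/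
theorem comb_eq (h : Hyp3 G) (F : G → ℂ) (hF : IsClassFunction G F)
    (c0 c2 c3 cr0 cr1 : ℤ) (wt : V → ℤ) (K : ℤ)
    (hwt : ∀ t : V, 4 * c0 + 2 * cc t.2.1 * c2 + 2 * cc t.2.2 * c3 + cc t.2.1 * cc t.2.2 * cr0
      + cc t.1 * cc t.2.2 * cr1 = K * wt t) :
    (c0 : ℂ) * classInner (Ind h 0) F + (c2 : ℂ) * classInner (Ind h e2) F
      + (c3 : ℂ) * classInner (Ind h e3) F + (cr0 : ℂ) * classInner (Ind h (r 0)) F
      + (cr1 : ℂ) * classInner (Ind h (r 1)) F = (K : ℂ) / 108 * conj (h.Lf wt F) := by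
  rw [Cfsg.Agent.Lib.H14.T27.inner_Ind_class h 0 F hF,
    Cfsg.Agent.Lib.H14.T27.inner_Ind_class h e2 F hF,
    Cfsg.Agent.Lib.H14.T27.inner_Ind_class h e3 F hF,
    Cfsg.Agent.Lib.H14.T27.inner_Ind_class h (r 0) F hF,
    Cfsg.Agent.Lib.H14.T27.inner_Ind_class h (r 1) F hF]
  unfold classInner
  rw [card_M3]
  unfold Hyp3.Lf
  rw [map_sum]
  simp only [Finset.mul_sum]
  rw [← Finset.sum_add_distrib, ← Finset.sum_add_distrib, ← Finset.sum_add_distrib,
    ← Finset.sum_add_distrib]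
  refine Finset.sum_congr rfl fun s _ => ?_
  by_cases hs : (s : S333) ^ 3 = 1
  · obtain ⟨v1, v2, v3, v4, v5⟩ := Sfun_values s hs
    rw [if_pos hs, v1, v2, v3, v4, v5]
    have hw := hwt (lg3 (s : S333))
    have hw' : (4 * c0 + 2 * cc (lg3 (s : S333)).2.1 * c2 + 2 * cc (lg3 (s : S333)).2.2 * c3
        + cc (lg3 (s : S333)).2.1 * cc (lg3 (s : S333)).2.2 * cr0
        + cc (lg3 (s : S333)).1 * cc (lg3 (s : S333)).2.2 * cr1 : ℂ)
        = (K : ℂ) * (wt (lg3 (s : S333)) : ℂ) := by exact_mod_cast hw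
    rw [map_mul, map_intCast]
    push_cast
    linear_combination ((108 : ℂ))⁻¹ * conj (F (h.el s)) * hw'
  · rw [if_neg hs, Cfsg.Agent.Lib.H14.T27.Sfun_of_ne 0 s hs,
      Cfsg.Agent.Lib.H14.T27.Sfun_of_ne e2 s hs, Cfsg.Agent.Lib.H14.T27.Sfun_of_ne e3 s hs,
      Cfsg.Agent.Lib.H14.T27.Sfun_of_ne (r 0) s hs, Cfsg.Agent.Lib.H14.T27.Sfun_of_ne (r 1) s hs]
    simp

theorem wt_u0 (t : V) : 4 * (0 : ℤ) + 2 * cc t.2.1 * 0 + 2 * cc t.2.2 * 0 + cc t.2.1 * cc t.2.2 * 1
    + cc t.1 * cc t.2.2 * (-1) = 1 * u0 t := by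
  unfold u0; ring

theorem wt_v0 (t : V) : 4 * (1 : ℤ) + 2 * cc t.2.1 * (-1) + 2 * cc t.2.2 * 2
    + cc t.2.1 * cc t.2.2 * (-2) + cc t.1 * cc t.2.2 * 0 = 18 * v0 t := by
  revert t; decide

theorem wt_w0 (t : V) : 4 * (1 : ℤ) + 2 * cc t.2.1 * 2 + 2 * cc t.2.2 * (-1)
    + cc t.2.1 * cc t.2.2 * (-2) + cc t.1 * cc t.2.2 * 0 = 18 * w0 t := by
  revert t; decide

/-- **VAL.** -/
theorem Lf_eq (h : Hyp3 G) (F : G → ℂ) (hF : IsClassFunction G F) :
    h.Lf u0 F = 108 * conj (classInner (Ind h (r 0) - Ind h (r 1)) F) ∧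
    h.Lf v0 F = 6 * conj (classInner (Ind h 0 - Ind h (r 0)) F +
      2 * classInner (Ind h e3 - Ind h (r 0)) F - classInner (Ind h e2 - Ind h (r 0)) F) ∧
    h.Lf w0 F = 6 * conj (classInner (Ind h 0 - Ind h (r 0)) F +
      2 * classInner (Ind h e2 - Ind h (r 0)) F - classInner (Ind h e3 - Ind h (r 0)) F) := by
  have hu := comb_eq h F hF 0 0 0 1 (-1) u0 1 wt_u0
  have hv := comb_eq h F hF 1 (-1) 2 (-2) 0 v0 18 wt_v0
  have hw := comb_eq h F hF 1 2 (-1) (-2) 0 w0 18 wt_w0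
  simp only [L0.classInner_sub_left]
  refine ⟨?_, ?_, ?_⟩
  · have : classInner (Ind h (r 0)) F - classInner (Ind h (r 1)) F
        = (1 : ℂ) / 108 * conj (h.Lf u0 F) := by
      push_cast at hu
      linear_combination hu
    rw [this, map_mul, Complex.conj_conj]
    have : conj ((1 : ℂ) / 108) = 1 / 108 := by
      rw [map_div₀, map_one]
      congr 1
      exact Complex.conj_ofNat 108
    rw [this]; ring
  · have : classInner (Ind h 0) F - classInner (Ind h (r 0)) F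
        + 2 * (classInner (Ind h e3) F - classInner (Ind h (r 0)) F)
        - (classInner (Ind h e2) F - classInner (Ind h (r 0)) F)
        = (18 : ℂ) / 108 * conj (h.Lf v0 F) := by
      push_cast at hv
      linear_combination hv
    rw [this, map_mul, Complex.conj_conj]
    have : conj ((18 : ℂ) / 108) = 18 / 108 := by
      rw [map_div₀]
      congr 1
      · exact Complex.conj_ofNat 18
      · exact Complex.conj_ofNat 108
    rw [this]; ring
  · have : classInner (Ind h 0) F - classInner (Ind h (r 0)) F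
        + 2 * (classInner (Ind h e2) F - classInner (Ind h (r 0)) F)
        - (classInner (Ind h e3) F - classInner (Ind h (r 0)) F)
        = (18 : ℂ) / 108 * conj (h.Lf w0 F) := by
      push_cast at hw
      linear_combination hw
    rw [this, map_mul, Complex.conj_conj]
    have : conj ((18 : ℂ) / 108) = 18 / 108 := by
      rw [map_div₀]
      congr 1
      · exact Complex.conj_ofNat 18
      · exact Complex.conj_ofNat 108
    rw [this]; ring

end Cfsg.Agent.Lib.H3.T27
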