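import Mathlib
import Cfsg.Agent.Lib.H14.ThetaDefs

/-!
# S1632, piece AR: a weight 12 level one modular form with `a₀ = 1`, `a₁ = 0` is `(7 E₄³ + 5 E₆²)/12`

Its next coefficients are `196560`, `16773120`, `398034000` (Sturm bound for level one).
-/

set_option autoImplicit false

namespace Cfsg.Agent.Lib.H3.Theta

open Complex Matrix UpperHalfPlane ModularForm ModularFormClass MatrixGroups EisensteinSeries
open Cfsg.Agent.Lib.H14.Theta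

/-- the weight 12 form `(7 E₄³ + 5 E₆²)/12` -/
noncomputable def G12 : ModularForm 𝒮ℒ 12 :=
  (7 / 12 : ℂ) • ModularForm.mcast (by decide) (E₄.pow 3) +
    (5 / 12 : ℂ) • ModularForm.mcast (by decide) (E₆.pow 2)

theorem G12_qExpansion :
    qExpansion 1 G12 = (7 / 12 : ℂ) • (qExpansion 1 E₄) ^ 3 + (5 / 12 : ℂ) • (qExpansion 1 E₆) ^ 2 := by
  have h1 : (G12 : ℍ → ℂ) = ⇑((7 / 12 : ℂ) • (ModularForm.mcast (by decide) (E₄.pow 3) : ModularForm 𝒮ℒ 12)) +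
      ⇑((5 / 12 : ℂ) • (ModularForm.mcast (by decide) (E₆.pow 2) : ModularForm 𝒮ℒ 12)) := rfl
  rw [h1, ModularForm.qExpansion_add one_pos one_mem_strictPeriods_SL]
  have h2 : (⇑((7 / 12 : ℂ) • (ModularForm.mcast (by decide) (E₄.pow 3) : ModularForm 𝒮ℒ 12)) : ℍ → ℂ) =
      (7 / 12 : ℂ) • ⇑(E₄.pow 3) := rfl
  have h3 : (⇑((5 / 12 : ℂ) • (ModularForm.mcast (by decide) (E₆.pow 2) : ModularForm 𝒮ℒ 12)) : ℍ → ℂ) =
      (5 / 12 : ℂ) • ⇑(E₆.pow 2) := rfl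
  rw [h2, h3, ModularForm.qExpansion_smul one_pos one_mem_strictPeriods_SL,
    ModularForm.qExpansion_smul one_pos one_mem_strictPeriods_SL,
    ModularForm.qExpansion_pow one_pos one_mem_strictPeriods_SL,
    ModularForm.qExpansion_pow one_pos one_mem_strictPeriods_SL]

theorem bern4 : bernoulli 4 = -1 / 30 := by decide +kernel
theorem bern6 : bernoulli 6 = 1 / 42 := by decide +kernel

theorem sig3 : ArithmeticFunction.sigma 3 1 = 1 ∧ ArithmeticFunction.sigma 3 2 = 9 ∧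
    ArithmeticFunction.sigma 3 3 = 28 ∧ ArithmeticFunction.sigma 3 4 = 73 := by
  simp only [ArithmeticFunction.sigma_apply]
  decide

theorem sig5 : ArithmeticFunction.sigma 5 1 = 1 ∧ ArithmeticFunction.sigma 5 2 = 33 ∧
    ArithmeticFunction.sigma 5 3 = 244 ∧ ArithmeticFunction.sigma 5 4 = 1057 := by
  simp only [ArithmeticFunction.sigma_apply]
  decide

theorem E4_coeffs : (qExpansion 1 E₄).coeff 0 = 1 ∧ (qExpansion 1 E₄).coeff 1 = 240 ∧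
    (qExpansion 1 E₄).coeff 2 = 2160 ∧ (qExpansion 1 E₄).coeff 3 = 6720 ∧
    (qExpansion 1 E₄).coeff 4 = 17520 := by
  obtain ⟨s1, s2, s3, s4⟩ := sig3
  refine ⟨?_, ?_, ?_, ?_, ?_⟩
  · exact E_qExpansion_coeff_zero _ ⟨2, rfl⟩
  · rw [E_qExpansion_coeff _ ⟨2, rfl⟩, bern4, show (4 : ℕ) - 1 = 3 from rfl, s1]; norm_num
  · rw [E_qExpansion_coeff _ ⟨2, rfl⟩, bern4, show (4 : ℕ) - 1 = 3 from rfl, s2]; norm_num
  · rw [E_qExpansion_coeff _ ⟨2, rfl⟩, bern4, show (4 : ℕ) - 1 = 3 from rfl, s3]; norm_num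
  · rw [E_qExpansion_coeff _ ⟨2, rfl⟩, bern4, show (4 : ℕ) - 1 = 3 from rfl, s4]; norm_num

theorem E6_coeffs : (qExpansion 1 E₆).coeff 0 = 1 ∧ (qExpansion 1 E₆).coeff 1 = -504 ∧
    (qExpansion 1 E₆).coeff 2 = -16632 ∧ (qExpansion 1 E₆).coeff 3 = -122976 ∧
    (qExpansion 1 E₆).coeff 4 = -532728 := by
  obtain ⟨s1, s2, s3, s4⟩ := sig5
  refine ⟨?_, ?_, ?_, ?_, ?_⟩
  · exact E_qExpansion_coeff_zero _ ⟨3, rfl⟩
  · rw [E_qExpansion_coeff _ ⟨3, rfl⟩, bern6, show (6 : ℕ) - 1 = 5 from rfl, s1]; norm_num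
  · rw [E_qExpansion_coeff _ ⟨3, rfl⟩, bern6, show (6 : ℕ) - 1 = 5 from rfl, s2]; norm_num
  · rw [E_qExpansion_coeff _ ⟨3, rfl⟩, bern6, show (6 : ℕ) - 1 = 5 from rfl, s3]; norm_num
  · rw [E_qExpansion_coeff _ ⟨3, rfl⟩, bern6, show (6 : ℕ) - 1 = 5 from rfl, s4]; norm_num

theorem sq_coeffs (p : PowerSeries ℂ) (a1 a2 a3 a4 : ℂ) (h0 : p.coeff 0 = 1) (h1 : p.coeff 1 = a1)
    (h2 : p.coeff 2 = a2) (h3 : p.coeff 3 = a3) (h4 : p.coeff 4 = a4) :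
    (p ^ 2).coeff 0 = 1 ∧ (p ^ 2).coeff 1 = 2 * a1 ∧ (p ^ 2).coeff 2 = 2 * a2 + a1 ^ 2 ∧
      (p ^ 2).coeff 3 = 2 * a3 + 2 * a1 * a2 ∧ (p ^ 2).coeff 4 = 2 * a4 + 2 * a1 * a3 + a2 ^ 2 := by
  refine ⟨?_, ?_, ?_, ?_, ?_⟩ <;>
  · simp only [pow_two, PowerSeries.coeff_mul, Finset.Nat.antidiagonal_succ, Finset.Nat.antidiagonal_zero,
      Finset.map_singleton, Finset.cons_eq_insert, Finset.sum_singleton,
      Function.Embedding.coe_prodMap, Function.Embedding.coeFn_mk, Prod.map_apply, Nat.succ_eq_add_one,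
      Function.Embedding.refl_apply, Finset.map_insert]
    simp [h0, h1, h2, h3, h4]
    try ring

theorem mul_coeffs (p r : PowerSeries ℂ) (a0 a1 a2 a3 a4 b0 b1 b2 b3 b4 : ℂ)
    (h0 : p.coeff 0 = a0) (h1 : p.coeff 1 = a1)
    (h2 : p.coeff 2 = a2) (h3 : p.coeff 3 = a3) (h4 : p.coeff 4 = a4)
    (k0 : r.coeff 0 = b0) (k1 : r.coeff 1 = b1)
    (k2 : r.coeff 2 = b2) (k3 : r.coeff 3 = b3) (k4 : r.coeff 4 = b4) :
    (p * r).coeff 0 = a0 * b0 ∧ (p * r).coeff 1 = a0 * b1 + a1 * b0 ∧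
      (p * r).coeff 2 = a0 * b2 + a1 * b1 + a2 * b0 ∧
      (p * r).coeff 3 = a0 * b3 + a1 * b2 + a2 * b1 + a3 * b0 ∧
      (p * r).coeff 4 = a0 * b4 + a1 * b3 + a2 * b2 + a3 * b1 + a4 * b0 := by
  refine ⟨?_, ?_, ?_, ?_, ?_⟩ <;>
  · simp only [PowerSeries.coeff_mul, Finset.Nat.antidiagonal_succ, Finset.Nat.antidiagonal_zero,
      Finset.map_singleton, Finset.cons_eq_insert, Finset.sum_singleton,
      Function.Embedding.coe_prodMap, Function.Embedding.coeFn_mk, Prod.map_apply, Nat.succ_eq_add_one,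
      Function.Embedding.refl_apply, Finset.map_insert]
    simp [h0, h1, h2, h3, h4, k0, k1, k2, k3, k4]
    try ring

theorem E4_cube_coeffs : ((qExpansion 1 E₄) ^ 3).coeff 0 = 1 ∧ ((qExpansion 1 E₄) ^ 3).coeff 1 = 720 ∧
    ((qExpansion 1 E₄) ^ 3).coeff 2 = 179280 ∧ ((qExpansion 1 E₄) ^ 3).coeff 3 = 16954560 ∧
    ((qExpansion 1 E₄) ^ 3).coeff 4 = 396974160 := by
  obtain ⟨e0, e1, e2, e3, e4⟩ := E4_coeffs
  obtain ⟨s0, s1, s2, s3, s4⟩ := sq_coeffs _ _ _ _ _ e0 e1 e2 e3 e4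
  obtain ⟨c0, c1, c2, c3, c4⟩ := mul_coeffs _ _ _ _ _ _ _ _ _ _ _ _ s0 s1 s2 s3 s4 e0 e1 e2 e3 e4
  rw [pow_succ]
  refine ⟨?_, ?_, ?_, ?_, ?_⟩
  · rw [c0]; norm_num
  · rw [c1]; norm_num
  · rw [c2]; norm_num
  · rw [c3]; norm_num
  · rw [c4]; norm_num

theorem E6_sq_coeffs : ((qExpansion 1 E₆) ^ 2).coeff 0 = 1 ∧ ((qExpansion 1 E₆) ^ 2).coeff 1 = -1008 ∧
    ((qExpansion 1 E₆) ^ 2).coeff 2 = 220752 ∧ ((qExpansion 1 E₆) ^ 2).coeff 3 = 16519104 ∧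
    ((qExpansion 1 E₆) ^ 2).coeff 4 = 399517776 := by
  obtain ⟨e0, e1, e2, e3, e4⟩ := E6_coeffs
  obtain ⟨s0, s1, s2, s3, s4⟩ := sq_coeffs _ _ _ _ _ e0 e1 e2 e3 e4
  refine ⟨?_, ?_, ?_, ?_, ?_⟩
  · rw [s0]
  · rw [s1]; norm_num
  · rw [s2]; norm_num
  · rw [s3]; norm_num
  · rw [s4]; norm_num

theorem G12_coeffs : (qExpansion 1 G12).coeff 0 = 1 ∧ (qExpansion 1 G12).coeff 1 = 0 ∧
    (qExpansion 1 G12).coeff 2 = 196560 ∧ (qExpansion 1 G12).coeff 3 = 16773120 ∧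
    (qExpansion 1 G12).coeff 4 = 398034000 := by
  obtain ⟨a0, a1, a2, a3, a4⟩ := E4_cube_coeffs
  obtain ⟨b0, b1, b2, b3, b4⟩ := E6_sq_coeffs
  rw [G12_qExpansion]
  simp only [map_add, PowerSeries.coeff_smul, smul_eq_mul]
  rw [a0, a1, a2, a3, a4, b0, b1, b2, b3, b4]
  norm_num

/-- **AR** -/
theorem coeff_of_weight_twelve (F : ModularForm 𝒮ℒ 12)
    (h0 : (qExpansion 1 F).coeff 0 = 1) (h1 : (qExpansion 1 F).coeff 1 = 0) :
    (qExpansion 1 F).coeff 2 = 196560 ∧ (qExpansion 1 F).coeff 3 = 16773120 ∧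
      (qExpansion 1 F).coeff 4 = 398034000 := by
  obtain ⟨g0, g1, g2, g3, g4⟩ := G12_coeffs
  have hsub : qExpansion 1 ((F - G12 : ModularForm 𝒮ℒ 12) : ℍ → ℂ) = qExpansion 1 F - qExpansion 1 G12 := by
    have : ((F - G12 : ModularForm 𝒮ℒ 12) : ℍ → ℂ) = ⇑F - ⇑G12 := rfl
    rw [this]
    exact ModularForm.qExpansion_sub one_pos one_mem_strictPeriods_SL F G12
  have hord : ((2 : ℕ) : ℕ∞) ≤ (qExpansion 1 ((F - G12 : ModularForm 𝒮ℒ 12) : ℍ → ℂ)).order := by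
    apply PowerSeries.nat_le_order
    intro i hi
    rw [hsub, map_sub]
    interval_cases i
    · rw [h0, g0, sub_self]
    · rw [h1, g1, sub_self]
  have hzero : F - G12 = 0 := by
    apply ModularForm.sturm_bound_levelOne
    refine lt_of_lt_of_le ?_ hord
    have h12 : (12 : ℤ).toNat / 12 = 1 := by decide
    rw [h12]
    exact_mod_cast (by norm_num : (1 : ℕ) < 2)
  have hFG : F = G12 := sub_eq_zero.mp hzero
  rw [hFG]
  exact ⟨g2, g3, g4⟩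

end Cfsg.Agent.Lib.H3.Theta
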