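/-
helper3 library: tables for the recognition of `PSL₂(13)` (generator of the squares `4`, non-square `2`),
checked by kernel computation.
-/
import Cfsg.Agent.Lib.H3.Zas4

set_option autoImplicit false

namespace Cfsg.Agent.Lib.H3.Zas

set_option synthInstance.maxHeartbeats 0 in
set_option synthInstance.maxSize 4096 in
set_option maxHeartbeats 0 in
/-- the tables for `p = 13` -/
def tables13 : Tables 13 where
  m := 6
  a0 := 4
  n0 := 2
  powT := [1, 4, 3, 12, 9, 10]
  dlT := [0, 0, 0, 2, 1, 4, 2, 5, 1, 4, 5, 3, 3]
  sqT := [false, true, false, true, true, false, false, false, false, true, true, false, true]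
  hm := by decide
  hn0 := by decide
  hpow := by decide +kernel
  ha0 := by decide +kernel
  hdl := by decide +kernel
  hroots := by decide +kernel
  key := by
    unfold Key
    decide +kernel

end Cfsg.Agent.Lib.H3.Zas
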