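/-
helper3 library: tables for the recognition of `PSL₂(17)` (generator of the squares `9`, non-square `3`),
checked by kernel computation.
-/
import Cfsg.Agent.Lib.H3.Zas4

set_option autoImplicit false

namespace Cfsg.Agent.Lib.H3.Zas

set_option synthInstance.maxHeartbeats 0 in
set_option synthInstance.maxSize 4096 in
set_option maxHeartbeats 0 in
/-- the tables for `p = 17` -/
def tables17 : Tables 17 where
  m := 8
  a0 := 9
  n0 := 3
  powT := [1, 9, 13, 15, 16, 8, 4, 2]
  dlT := [0, 0, 7, 0, 6, 2, 7, 5, 5, 1, 1, 3, 6, 2, 4, 3, 4]
  sqT := [false, true, true, false, true, false, false, false, true, true, false, false, false, true, false, true, true]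
  hm := by decide
  hn0 := by decide
  hpow := by decide +kernel
  ha0 := by decide +kernel
  hdl := by decide +kernel
  hroots := by decide +kernel
  key := by
    unfold Key
    decide +kernel

end Cfsg.Agent.Lib.H3.Zas
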